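import Cfsg.Statements.S0246
import Mathlib
import Cfsg.Agent.Lib.Helper13.SympMat

set_option autoImplicit false
open Cfsg

namespace Cfsg.Agent.S0246

section aux

open Matrix Cfsg.Agent.Lib.Helper13 Cfsg.Agent.Lib.Helper13.SympMat

variable {F : Type*} [Field F] (m : ℕ)

/-- A scalar matrix `a • 1` with `a ^ 2 = 1` is symplectic. -/
lemma scalar_mem (a : F) (ha : a ^ 2 = 1) :
    (a • (1 : Matrix (Fin m ⊕ Fin m) (Fin m ⊕ Fin m) F)) ∈ Matrix.symplecticGroup (Fin m) F := by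
  rw [SymplecticGroup.mem_iff]
  rw [Matrix.transpose_smul, Matrix.transpose_one, Matrix.smul_mul, Matrix.one_mul,
    Matrix.mul_smul, Matrix.mul_one, smul_smul, ← sq, ha, one_smul]

/-- A central element of the symplectic group is a scalar matrix `a • 1` with `a ^ 2 = 1`. -/
lemma center_scalar (hm : 1 ≤ m) (A : Matrix.symplecticGroup (Fin m) F)
    (hA : A ∈ Subgroup.center (Matrix.symplecticGroup (Fin m) F)) :
    ∃ a : F, a ^ 2 = 1 ∧ (A : Matrix (Fin m ⊕ Fin m) (Fin m ⊕ Fin m) F) = a • 1 := by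
  have hnd := form_nondeg (F := F) m
  have hsep : ∀ u : Fin m ⊕ Fin m → F, u ≠ 0 → ∃ x, form m F x u ≠ 0 := by
    intro u hu
    by_contra hcon
    push Not at hcon
    exact hu (hnd.2 u hcon)
  have hcomm : ∀ u x : Fin m ⊕ Fin m → F,
      (form m F x u) • ((A : Matrix (Fin m ⊕ Fin m) (Fin m ⊕ Fin m) F) *ᵥ u) =
        (form m F ((A : Matrix (Fin m ⊕ Fin m) (Fin m ⊕ Fin m) F) *ᵥ x) u) • u := by
    intro u x
    have h1 := Subgroup.mem_center_iff.mp hA ⟨Cfsg.sympTransvection m u 1, transvection_mem m u 1⟩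
    have h2 : Cfsg.sympTransvection m u 1 * (A : Matrix (Fin m ⊕ Fin m) (Fin m ⊕ Fin m) F) =
        (A : Matrix (Fin m ⊕ Fin m) (Fin m ⊕ Fin m) F) * Cfsg.sympTransvection m u 1 :=
      congrArg Subtype.val h1
    have h3 := congrArg (fun M => M *ᵥ x) h2
    simp only [← Matrix.mulVec_mulVec, transvection_mulVec, one_mul, Matrix.mulVec_add,
      Matrix.mulVec_smul] at h3
    exact (add_left_cancel h3).symm
  have hdep : ∀ v : Fin m ⊕ Fin m → F, ¬ LinearIndependent F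
      ![v, Matrix.toLin' (A : Matrix (Fin m ⊕ Fin m) (Fin m ⊕ Fin m) F) v] := by
    intro v
    by_cases hv : v = 0
    · simp [hv, linearIndependent_fin2]
    · rw [LinearIndependent.pair_iff' hv]
      push Not
      obtain ⟨x, hx⟩ := hsep v hv
      refine ⟨(form m F x v)⁻¹ * form m F ((A : Matrix (Fin m ⊕ Fin m) (Fin m ⊕ Fin m) F) *ᵥ x) v, ?_⟩
      rw [Matrix.toLin'_apply, mul_smul, ← hcomm v x, smul_smul, inv_mul_cancel₀ hx, one_smul]
  obtain ⟨a, ha⟩ := LinearMap.exists_eq_smul_id_of_forall_notLinearIndependent hdep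
  have hAa : (A : Matrix (Fin m ⊕ Fin m) (Fin m ⊕ Fin m) F) = a • 1 := by
    apply Matrix.toLin'.injective
    rw [ha, map_smul, Matrix.toLin'_one]
    rfl
  refine ⟨a, ?_, hAa⟩
  have hu0 : (Pi.single (Sum.inl ⟨0, hm⟩) 1 : Fin m ⊕ Fin m → F) ≠ 0 := by
    rw [Ne, Pi.single_eq_zero_iff]
    exact one_ne_zero
  obtain ⟨x, hx⟩ := hsep _ hu0
  have h4 := (mem_symp_iff m _).1 A.2 x (Pi.single (Sum.inl ⟨0, hm⟩) 1)
  rw [hAa, Matrix.smul_mulVec, Matrix.smul_mulVec, Matrix.one_mulVec, Matrix.one_mulVec,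
    map_smul, map_smul, LinearMap.smul_apply, smul_eq_mul, smul_eq_mul, ← mul_assoc] at h4
  have h5 : (a * a - 1) * form m F x (Pi.single (Sum.inl ⟨0, hm⟩) 1) = 0 := by
    linear_combination h4
  rcases mul_eq_zero.mp h5 with h | h
  · rw [sq]; linear_combination h
  · exact absurd h hx

end aux

/-- The centre of Sp_{2m}(q), m at least 1, is {1, -1}: it has order gcd(2, q-1). -/
theorem result {F : Type*} [Field F] [Fintype F] {q : ℕ} (hF : Fintype.card F = q) (m : ℕ) (hm : 1 ≤ m) : Nat.card (Subgroup.center (Matrix.symplecticGroup (Fin m) F)) = Nat.gcd 2 (q - 1) := by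
  classical
  have hcardU : Nat.card Fˣ = q - 1 := by
    rw [Nat.card_eq_fintype_card, Fintype.card_units, hF]
  have h1 : Nat.card (rootsOfUnity 2 F) = Nat.gcd 2 (q - 1) := by
    rw [rootsOfUnity_eq_ker, IsCyclic.card_powMonoidHom_ker, hcardU, Nat.gcd_comm]
  rw [← h1]
  symm
  apply Nat.card_congr
  refine Equiv.ofBijective (fun ζ : rootsOfUnity 2 F =>
    (⟨⟨((ζ : Fˣ) : F) • (1 : Matrix (Fin m ⊕ Fin m) (Fin m ⊕ Fin m) F), scalar_mem m _ (by
      have := ζ.2
      rw [mem_rootsOfUnity] at this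
      have h2 := congrArg Units.val this
      simpa using h2)⟩, by
      rw [Subgroup.mem_center_iff]
      intro B
      apply Subtype.ext
      show (B : Matrix (Fin m ⊕ Fin m) (Fin m ⊕ Fin m) F) * (((ζ : Fˣ) : F) • 1) =
        (((ζ : Fˣ) : F) • 1) * (B : Matrix (Fin m ⊕ Fin m) (Fin m ⊕ Fin m) F)
      rw [Matrix.mul_smul, Matrix.smul_mul, Matrix.mul_one, Matrix.one_mul]⟩ :
      Subgroup.center (Matrix.symplecticGroup (Fin m) F))) ⟨?_, ?_⟩
  · intro ζ ξ h
    have h2 := congrArg (fun A : Subgroup.center (Matrix.symplecticGroup (Fin m) F) =>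
      ((A : Matrix.symplecticGroup (Fin m) F) : Matrix (Fin m ⊕ Fin m) (Fin m ⊕ Fin m) F)
        (Sum.inl ⟨0, hm⟩) (Sum.inl ⟨0, hm⟩)) h
    simp only [Matrix.smul_apply, Matrix.one_apply_eq, smul_eq_mul, mul_one] at h2
    exact Subtype.ext (Units.ext h2)
  · rintro ⟨A, hA⟩
    obtain ⟨a, ha, hAa⟩ := center_scalar m hm A hA
    have ha0 : a ≠ 0 := by
      rintro rfl
      simp at ha
    refine ⟨⟨Units.mk0 a ha0, ?_⟩, ?_⟩
    · rw [mem_rootsOfUnity]
      apply Units.ext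
      simpa using ha
    · apply Subtype.ext
      apply Subtype.ext
      simp [hAa]

end Cfsg.Agent.S0246
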