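import Mathlib
import Cfsg.Statements.S5086
import Cfsg.Agent.H84.FusNormal
import Cfsg.Agent.S5087

set_option autoImplicit false

namespace Cfsg.Agent.S5086

open Cfsg Cfsg.FusionSystem Cfsg.Agent.H84

/-- In a saturated fusion system over a finite p-group, a subgroup Q is normal in the system if and only if Q is strongly closed in the system and is contained in every centric-radical subgroup. -/
theorem result {Ω : Type*} [Group Ω] {S : Subgroup Ω} [Finite S] (p : ℕ) [Fact p.Prime] (hS : IsPGroup p S) (F : Cfsg.FusionSystem S) (hF : F.IsSaturated p) (Q : Subgroup Ω) : F.IsNormal Q ↔ (F.StronglyClosed Q ∧ ∀ P : Subgroup Ω, F.IsCentric P → F.IsRadical p P → Q ≤ P) := by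
  constructor
  · intro hN
    exact ⟨Cfsg.Agent.Lib.Helper87.FSNormal.stronglyClosed_of_isNormal F hN,
      fun P hc hr => le_of_isNormal hS F hN hc.1 (hc.2 P (isConj_refl F hc.1))
        (normal_pSubgroup_le_inn_of_radical F hr)⟩
  · rintro ⟨hsc, hall⟩
    rw [Cfsg.Agent.S5087.result p hS F hF Q]
    intro P hP
    have hPS : P ≤ S := by
      rcases hP with rfl | hP
      · exact le_rfl
      · exact hP.1.1
    have hQP : Q ≤ P := by
      rcases hP with rfl | hP
      · exact hsc.1
      · exact hall P hP.1 (radical_of_essential hS F hP)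
    refine ⟨hQP, fun α hα => ?_⟩
    refine map_eq_of_forall_mem (F.autGroup P) (Q.subgroupOf P) ?_ α hα
    intro β hβ x hx
    have hφ : P.subtype.comp β.toMonoidHom ∈ F.Hom P := (mem_autGroup_iff F hPS β).mp hβ
    exact Subgroup.mem_subgroupOf.mpr
      (Cfsg.Agent.Lib.Helper87.FSNormal.stronglyClosed_maps F hsc hφ x
        (Subgroup.mem_subgroupOf.mp hx))

end Cfsg.Agent.S5086
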