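import Mathlib
import Cfsg.Statements.S5088
import Cfsg.Agent.Lib.Helper87.FSBasic
import Cfsg.Agent.Lib.Helper87.FSSat
import Cfsg.Agent.Lib.Helper87.FSNormal

set_option autoImplicit false

namespace Cfsg.Agent.S5088

open Cfsg Cfsg.FusionSystem

theorem stronglyClosed_bot {Ω : Type*} [Group Ω] {S : Subgroup Ω} (F : Cfsg.FusionSystem S) :
    F.StronglyClosed ⊥ := by
  refine ⟨bot_le, fun R hR φ _ x => ?_⟩
  have hx : (x : Ω) = 1 := Subgroup.mem_bot.mp (hR x.2)
  have hx' : x = 1 := Subtype.ext hx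
  rw [hx', map_one]
  exact Subgroup.one_mem _

/-- In a saturated fusion system over a finite p-group, a subgroup Q is normal in the system if and only if there is a chain of subgroups 1 = Q₀ ≤ Q₁ ≤ ⋯ ≤ Qₙ = Q such that each Qᵢ with i ≥ 1 is strongly closed in the system and [Q, Qᵢ] ≤ Qᵢ₋₁. -/
theorem result {Ω : Type*} [Group Ω] {S : Subgroup Ω} [Finite S] (p : ℕ) [Fact p.Prime] (hS : IsPGroup p S) (F : Cfsg.FusionSystem S) (hF : F.IsSaturated p) (Q : Subgroup Ω) : F.IsNormal Q ↔ ∃ (n : ℕ) (Qs : Fin (n + 1) → Subgroup Ω), Qs 0 = ⊥ ∧ Qs (Fin.last n) = Q ∧ Monotone Qs ∧ ∀ i : Fin n, F.StronglyClosed (Qs i.succ) ∧ ⁅Q, Qs i.succ⁆ ≤ Qs (Fin.castSucc i) := by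
  open Cfsg.Agent.Lib.Helper87.FSBasic Cfsg.Agent.Lib.Helper87.FSSat
    Cfsg.Agent.Lib.Helper87.FSNormal in
  constructor
  · intro hN
    have hQS : Q ≤ S := hN.1
    have hfin : Finite Q := finite_of_le hQS
    have hQp : IsPGroup p Q := hS.to_le hQS
    have hnil : Group.IsNilpotent Q := hQp.isNilpotent
    refine ⟨Group.nilpotencyClass Q,
      fun i => (Subgroup.upperCentralSeries Q i).map Q.subtype, ?_, ?_, ?_, ?_⟩
    · show (Subgroup.upperCentralSeries Q ((0 : Fin (Group.nilpotencyClass Q + 1)) : ℕ)).map Q.subtype = ⊥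
      rw [Fin.val_zero, Subgroup.upperCentralSeries_zero, Subgroup.map_bot]
    · show (Subgroup.upperCentralSeries Q ((Fin.last (Group.nilpotencyClass Q)) : ℕ)).map Q.subtype = Q
      rw [Fin.val_last, Subgroup.upperCentralSeries_nilpotencyClass, ← MonoidHom.range_eq_map,
        Subgroup.range_subtype]
    · intro i j hij
      exact Subgroup.map_mono (Subgroup.upperCentralSeries_mono Q hij)
    · intro i
      refine ⟨stronglyClosed_of_characteristic F hN (Subgroup.upperCentralSeries Q _), ?_⟩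
      rw [Subgroup.commutator_comm, Subgroup.commutator_le]
      rintro _ ⟨z, hz, rfl⟩ g₂ hg₂
      have hz' : z ∈ Subgroup.upperCentralSeries Q ((i : ℕ) + 1) := hz
      rw [Subgroup.mem_upperCentralSeries_succ_iff] at hz'
      exact ⟨_, hz' ⟨g₂, hg₂⟩, rfl⟩
  · rintro ⟨n, C, hC0, hCn, hmono, hstep⟩
    have hsc : ∀ j : Fin (n + 1), F.StronglyClosed (C j) := by
      intro j
      induction j using Fin.cases with
      | zero => rw [hC0]; exact stronglyClosed_bot F
      | succ i => exact (hstep i).1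
    have hQ : F.StronglyClosed Q := by rw [← hCn]; exact hsc _
    have hfin : ∀ j : ℕ, min j n < n + 1 := fun j => Nat.lt_succ_of_le (min_le_right j n)
    have hcast : ∀ (j : ℕ) (hj : j < n), C ⟨min j n, hfin j⟩ = C (Fin.castSucc ⟨j, hj⟩) :=
      fun j hj => congrArg C (Fin.ext (min_eq_left hj.le))
    have hsucc : ∀ (j : ℕ) (hj : j < n), C ⟨min (j + 1) n, hfin (j + 1)⟩ = C (Fin.succ ⟨j, hj⟩) :=
      fun j hj => congrArg C (Fin.ext (min_eq_left hj))
    have hlast : C ⟨min n n, hfin n⟩ = Q := by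
      rw [← hCn]
      exact congrArg C (Fin.ext (min_self n))
    refine isNormal_of_chain hS F hF Q hQ n (fun j => C ⟨min j n, hfin j⟩) ?_ hlast ?_ ?_ ?_ ?_
    · show C ⟨min 0 n, hfin 0⟩ = ⊥
      rw [← hC0]
      exact congrArg C (Fin.ext (Nat.zero_min n))
    · intro j _
      exact le_normalizer_of_stronglyClosed F (hsc _)
    · intro j _
      show C ⟨min j n, hfin j⟩ ≤ Q
      rw [← hCn]
      exact hmono (Fin.le_last _)
    · intro j hj
      show ⁅C ⟨min (j + 1) n, hfin (j + 1)⟩, Q⁆ ≤ C ⟨min j n, hfin j⟩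
      rw [hcast j hj, hsucc j hj, Subgroup.commutator_comm]
      exact (hstep ⟨j, hj⟩).2
    · intro j _ Y _ φ hφ _ x hx
      exact stronglyClosed_maps F (hsc _) hφ x hx

end Cfsg.Agent.S5088
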