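import Cfsg.Statements.S0638
import Cfsg.Agent.Lib.Helper64.MetaB
import Cfsg.Agent.Lib.Helper49.RankOne

set_option autoImplicit false
open Cfsg

namespace Cfsg.Agent.S0638

open scoped commutatorElement
open Cfsg.Agent.Lib.Helper64.MetaA Cfsg.Agent.Lib.Helper64.MetaB

/-- For odd p, in a non-cyclic metacyclic p-group the elements of order dividing p generate an elementary abelian subgroup of order p². -/
theorem result {R : Type*} [Group R] [Finite R] {p : ℕ} [Fact p.Prime] (hp : p ≠ 2) (hR : IsPGroup p R) (hm : Cfsg.IsMetacyclic R) (hnc : ¬ IsCyclic R) : Cfsg.IsElementaryAbelian p (Cfsg.omegaOne p (⊤ : Subgroup R)) ∧ Nat.card ↥(Cfsg.omegaOne p (⊤ : Subgroup R)) = p ^ 2 := by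
  have hpp : p.Prime := Fact.out
  obtain ⟨N, a, b, hNn, hNc, haN, hNa, hgen, hcomm⟩ := exists_gens hm
  have hact : PowAct p N := exists_power_action hR N hNc
  -- elements of N of order dividing p are central
  have hcent : ∀ u ∈ N, u ^ p = 1 → ∀ z : R, Commute u z := by
    intro u hu hup z
    obtain ⟨s, hs1, hs⟩ := hact z
    have h1 : u ^ s = u := by
      conv_lhs => rw [← Nat.div_add_mod s p, hs1, pow_add, pow_mul, hup, one_pow, one_mul, pow_one]
    have h2 := hs u hu
    rw [h1] at h2
    show u * z = z * u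
    calc u * z = (z * u * z⁻¹) * z := by rw [h2]
      _ = z * u := by group
  -- the elements of order dividing p are closed under multiplication
  have hmul : ∀ x y : R, x ^ p = 1 → y ^ p = 1 → (x * y) ^ p = 1 := by
    intro x y hx hy
    have hc1 : ⁅x⁻¹, y⁆ ^ p = 1 := by
      rw [← comm_pow_left_eq_one_iff hp hR N hact x⁻¹ y (hcomm _ _) p, inv_pow, hx, inv_one,
        commutatorElement_eq_one_iff_mul_comm, one_mul, mul_one]
    have hc2 : x⁻¹ * y * x * y⁻¹ = ⁅x⁻¹, y⁆ := by
      rw [commutatorElement_def, inv_inv]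
    have h1 := Cfsg.Agent.Lib.Helper49.RankOne.mul_pow_prime_of_central hpp hp x y
      (by rw [hc2]; exact hcent _ (hcomm _ _) hc1) (by rw [hy]; exact fun z => Commute.one_left z)
    rw [h1, hx, hy, one_mul]
  have hexp : ∀ e ∈ Cfsg.omegaOne p (⊤ : Subgroup R), e ^ p = 1 := by
    intro e he
    unfold Cfsg.omegaOne at he
    induction he using Subgroup.closure_induction with
    | mem x hx => exact hx.2
    | one => exact one_pow p
    | mul x y _ _ hx hy => exact hmul x y hx hy
    | inv x _ hx => rw [inv_pow, hx, inv_one]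
  -- order at most p ^ 2
  have hle : Nat.card ↥(Cfsg.omegaOne p (⊤ : Subgroup R)) ≤ p * p := by
    obtain ⟨N', hN'n, hN'c, hQ'c⟩ := isMetacyclic_subgroup hm (Cfsg.omegaOne p (⊤ : Subgroup R))
    have h1 : Nat.card ↥N' ≤ p := by
      obtain ⟨g', hg'⟩ := hN'c.exists_generator
      rw [← orderOf_eq_card_of_forall_mem_zpowers hg']
      apply Nat.le_of_dvd hpp.pos
      apply orderOf_dvd_of_pow_eq_one
      apply Subtype.ext
      apply Subtype.ext
      exact hexp _ (g' : ↥(Cfsg.omegaOne p (⊤ : Subgroup R))).2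
    have h2 : N'.index ≤ p := by
      obtain ⟨q, hq⟩ := hQ'c.exists_generator
      rw [Subgroup.index_eq_card, ← orderOf_eq_card_of_forall_mem_zpowers hq]
      apply Nat.le_of_dvd hpp.pos
      apply orderOf_dvd_of_pow_eq_one
      obtain ⟨e, rfl⟩ := QuotientGroup.mk_surjective q
      rw [← QuotientGroup.mk_pow]
      have : e ^ p = 1 := Subtype.ext (hexp _ e.2)
      rw [this]; rfl
    rw [← Subgroup.card_mul_index N']
    exact Nat.mul_le_mul h1 h2
  -- order more than p
  have hgt : p < Nat.card ↥(Cfsg.omegaOne p (⊤ : Subgroup R)) := by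
    by_contra hle'
    push Not at hle'
    apply hnc
    obtain ⟨n, hn⟩ := IsPGroup.iff_card.1 hR
    apply Cfsg.Agent.Lib.Helper49.RankOne.isCyclic_of_card_pow_eq_one_le hp n R hn
    let f : {g : R // g ^ p = 1} → ↥(Cfsg.omegaOne p (⊤ : Subgroup R)) := fun g =>
      ⟨g.1, Subgroup.subset_closure ⟨Subgroup.mem_top _, g.2⟩⟩
    have hf : Function.Injective f := by
      intro x y hxy
      exact Subtype.ext (congrArg (fun u : ↥(Cfsg.omegaOne p (⊤ : Subgroup R)) => (u : R)) hxy)
    exact (Nat.card_le_card_of_injective f hf).trans hle'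
  have hcard : Nat.card ↥(Cfsg.omegaOne p (⊤ : Subgroup R)) = p ^ 2 := by
    obtain ⟨e, he⟩ := IsPGroup.iff_card.1 (hR.to_subgroup (Cfsg.omegaOne p (⊤ : Subgroup R)))
    rw [he] at hle hgt ⊢
    have h1 : e ≤ 2 := by
      rw [← pow_two] at hle
      exact (Nat.pow_le_pow_iff_right hpp.one_lt).1 hle
    have h2 : 1 < e := by
      have : p ^ 1 < p ^ e := by rw [pow_one]; exact hgt
      exact (Nat.pow_lt_pow_iff_right hpp.one_lt).1 this
    congr 1; omega
  exact ⟨⟨IsPGroup.isMulCommutative_of_card_eq_prime_sq hcard, hexp⟩, hcard⟩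

end Cfsg.Agent.S0638
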