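import Cfsg.Statements.S3224
import Mathlib

set_option autoImplicit false
open Cfsg

namespace Cfsg.Agent.S3224

open Subgroup
open scoped commutatorElement

universe u

/-- If `zpowers a` is normal and `a` has order `2 * k`, then `a ^ k` is central. -/
theorem pow_half_mem_center {S : Type u} [Group S] {a : S} {k : ℕ} (hk : orderOf a = 2 * k)
    (hn : (zpowers a).Normal) : a ^ k ∈ center S := by
  rw [Subgroup.mem_center_iff]
  intro g
  have h1 : g * a * g⁻¹ ∈ zpowers a := hn.conj_mem a (mem_zpowers a) g
  obtain ⟨i, hi⟩ := mem_zpowers_iff.1 h1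
  have h3 : (a ^ k) ^ 2 = 1 := by rw [← pow_mul, mul_comm, ← hk, pow_orderOf_eq_one]
  have h2 : g * a ^ k * g⁻¹ = (a ^ k) ^ i := by
    rw [← conj_pow, ← hi, ← zpow_natCast, ← zpow_natCast, ← zpow_mul, ← zpow_mul, mul_comm]
  rcases Int.even_or_odd' i with ⟨j, rfl | rfl⟩
  · have h4 : g * a ^ k * g⁻¹ = 1 := by
      rw [h2, zpow_mul, zpow_ofNat, h3, one_zpow]
    have h5 : a ^ k = 1 := by
      have := congrArg (fun y => g⁻¹ * y * g) h4
      simpa [mul_assoc] using this
    rw [h5]; simp
  · have h4 : g * a ^ k * g⁻¹ = a ^ k := by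
      rw [h2, zpow_add, zpow_mul, zpow_ofNat, h3, one_zpow, one_mul, zpow_one]
    calc g * a ^ k = g * a ^ k * g⁻¹ * g := by group
      _ = a ^ k * g := by rw [h4]

/-- The only involution of a cyclic group `zpowers a` with `orderOf a = 2 * k` is `a ^ k`. -/
theorem eq_pow_half_of_mem_zpowers {S : Type u} [Group S] {a x : S} {k : ℕ} (hk : orderOf a = 2 * k)
    (hx : orderOf x = 2) (hxa : x ∈ zpowers a) : x = a ^ k := by
  obtain ⟨i, rfl⟩ := mem_zpowers_iff.1 hxa
  have h1 : (a ^ i) ^ 2 = 1 := by rw [← hx, pow_orderOf_eq_one]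
  have h2 : a ^ (i * 2) = 1 := by rw [zpow_mul]; exact_mod_cast h1
  have h3 : ((orderOf a : ℕ) : ℤ) ∣ i * 2 := orderOf_dvd_iff_zpow_eq_one.2 h2
  rw [hk] at h3
  have h4 : (k : ℤ) ∣ i := by
    have : ((2 * k : ℕ) : ℤ) = (k : ℤ) * 2 := by push_cast; ring
    rw [this] at h3
    exact Int.dvd_of_mul_dvd_mul_right (by norm_num) h3
  obtain ⟨j, rfl⟩ := h4
  have h5 : (a ^ k) ^ 2 = 1 := by rw [← pow_mul, mul_comm, ← hk, pow_orderOf_eq_one]
  rw [zpow_mul, zpow_natCast]
  rcases Int.even_or_odd' j with ⟨l, rfl | rfl⟩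
  · exfalso
    have : a ^ ((k : ℤ) * (2 * l)) = 1 := by
      rw [zpow_mul, zpow_natCast, zpow_mul, zpow_ofNat, h5, one_zpow]
    rw [this] at hx
    simp at hx
  · rw [zpow_add, zpow_mul, zpow_ofNat, h5, one_zpow, one_mul, zpow_one]

/-- Basic facts about a 2-group of order at least 8 with an involution whose centralizer has
order 4: the centre has order 2, and two non-central elements of the centralizer have central
product. -/
theorem basic_facts {S : Type u} [Group S] [Finite S] (hS : IsPGroup 2 S) (x : S)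
    (hx : orderOf x = 2) (hC : Nat.card (centralizer ({x} : Set S)) = 4) (h8 : 8 ≤ Nat.card S) :
    x ∉ center S ∧ Nat.card (center S) = 2 ∧
    (∀ u v : S, u ∈ centralizer ({x} : Set S) → v ∈ centralizer ({x} : Set S) →
      u ∉ center S → v ∉ center S → u * v ∈ center S) := by
  haveI : Fact (Nat.Prime 2) := ⟨Nat.prime_two⟩
  have hxc : x ∉ center S := by
    intro h
    have : centralizer ({x} : Set S) = ⊤ := by
      rw [eq_top_iff]; intro g _
      rw [mem_centralizer_singleton_iff]
      exact mem_center_iff.1 h g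
    rw [this, card_top] at hC
    omega
  have hZle : center S ≤ centralizer ({x} : Set S) := center_le_centralizer _
  have hZ2 : Nat.card (center S) = 2 := by
    have hdvd : Nat.card (center S) ∣ 4 := hC ▸ card_dvd_of_le hZle
    have hne1 : Nat.card (center S) ≠ 1 := by
      intro h1
      haveI : Nontrivial S := Finite.one_lt_card_iff_nontrivial.1 (by omega)
      have h2 := hS.center_nontrivial
      have h3 := Finite.one_lt_card_iff_nontrivial.2 h2
      omega
    have hne4 : Nat.card (center S) ≠ 4 := by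
      intro h4
      have : center S = centralizer ({x} : Set S) := by
        apply Subgroup.eq_of_le_of_card_ge hZle; rw [h4, hC]
      apply hxc; rw [this]; exact mem_centralizer_singleton_iff.2 rfl
    have hle : Nat.card (center S) ≤ 4 := Nat.le_of_dvd (by norm_num) hdvd
    have hpos : 0 < Nat.card (center S) := Nat.card_pos
    interval_cases h : Nat.card (center S) <;> simp_all
  refine ⟨hxc, hZ2, ?_⟩
  have hidx : ((center S).subgroupOf (centralizer ({x} : Set S))).index = 2 := by
    have h1 := Subgroup.relIndex_mul_relIndex (H := (⊥ : Subgroup S)) (K := center S)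
      (L := centralizer ({x} : Set S)) bot_le hZle
    rw [Subgroup.relIndex_bot_left, Subgroup.relIndex_bot_left, hZ2, hC] at h1
    show (center S).relIndex (centralizer ({x} : Set S)) = 2
    omega
  intro u v hu hv huc hvc
  have := Subgroup.mul_mem_iff_of_index_two hidx (a := ⟨u, hu⟩) (b := ⟨v, hv⟩)
  simp only [Subgroup.mem_subgroupOf, Subgroup.coe_mul] at this
  exact this.2 (by simp [huc, hvc])

/-- The image of `x` in `S / Z(S)` again has a centralizer of order 4. -/
theorem quot_centralizer_card {S : Type u} [Group S] [Finite S] (hS : IsPGroup 2 S) (x : S)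
    (hx : orderOf x = 2) (hC : Nat.card (centralizer ({x} : Set S)) = 4) (h8 : 8 ≤ Nat.card S) :
    Nat.card (centralizer ({(QuotientGroup.mk x : S ⧸ center S)} : Set (S ⧸ center S))) = 4 := by
  have : Fact (Nat.Prime 2) := ⟨Nat.prime_two⟩
  obtain ⟨hxc, hZ2, hkey⟩ := basic_facts hS x hx hC h8
  have hx2 : x * x = 1 := by rw [← pow_two, ← hx, pow_orderOf_eq_one]
  have hxinv : x⁻¹ = x := inv_eq_of_mul_eq_one_left hx2
  have hxC : x ∈ centralizer ({x} : Set S) := mem_centralizer_singleton_iff.2 rfl
  -- the nontrivial central element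
  obtain ⟨z, hz1, hzu⟩ := (Nat.card_eq_two_iff' (1 : center S)).1 hZ2
  have hzz : ∀ c ∈ center S, c ≠ 1 → c = (z : S) := by
    intro c hc hc1
    have := hzu ⟨c, hc⟩ (by intro h; apply hc1; exact congrArg Subtype.val h)
    exact congrArg Subtype.val this
  have hzsq : (z : S) * (z : S) = 1 := by
    by_contra hne
    have h1 := hzz _ (mul_mem z.2 z.2) hne
    have : (z : S) = 1 := by
      have := congrArg (fun y => y * (z : S)⁻¹) h1
      simpa using this
    exact hz1 (Subtype.ext this)
  have hzc : ∀ g : S, g * (z : S) = (z : S) * g := fun g => mem_center_iff.1 z.2 g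
  -- N, the preimage of the centralizer of the image of x
  have hmemN : ∀ g : S, g ∈ (centralizer ({(QuotientGroup.mk x : S ⧸ center S)} :
      Set (S ⧸ center S))).comap (QuotientGroup.mk' (center S)) ↔ ⁅g, x⁆ ∈ center S := by
    intro g
    rw [mem_comap, mem_centralizer_singleton_iff, QuotientGroup.mk'_apply,
      ← commutatorElement_eq_one_iff_mul_comm, ← QuotientGroup.eq_one_iff]
    rw [commutatorElement_def, commutatorElement_def]
    simp
  set N := (centralizer ({(QuotientGroup.mk x : S ⧸ center S)} :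
      Set (S ⧸ center S))).comap (QuotientGroup.mk' (center S)) with hN
  have hmemC : ∀ g : S, g ∈ centralizer ({x} : Set S) ↔ ⁅g, x⁆ = 1 := by
    intro g
    rw [mem_centralizer_singleton_iff, commutatorElement_eq_one_iff_mul_comm]
  have hCN : centralizer ({x} : Set S) ≤ N := by
    intro g hg
    rw [hmemN, (hmemC g).1 hg]; exact one_mem _
  -- elements of N outside C
  have hNC : ∀ g ∈ N, g ∉ centralizer ({x} : Set S) → g * x = (z : S) * x * g := by
    intro g hgN hgC
    have h1 : ⁅g, x⁆ = (z : S) := hzz _ ((hmemN g).1 hgN) (fun h => hgC ((hmemC g).2 h))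
    rw [commutatorElement_def] at h1
    rw [← h1]; group
  -- an element of N outside C
  have hnil : Group.IsNilpotent S := hS.isNilpotent
  have hCtop : centralizer ({x} : Set S) < ⊤ := by
    rw [lt_top_iff_ne_top]
    intro h
    rw [h, card_top] at hC; omega
  obtain ⟨g₀, hg₀n, hg₀C⟩ := SetLike.exists_of_lt (Group.normalizerCondition_of_isNilpotent _ hCtop)
  have hg₀N : g₀ ∈ N := by
    rw [hmemN]
    have hu : g₀ * x * g₀⁻¹ ∈ centralizer ({x} : Set S) := (mem_normalizer_iff.1 hg₀n x).1 hxC
    have huc : g₀ * x * g₀⁻¹ ∉ center S := by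
      intro h
      apply hxc
      have := (center S).normal_of_characteristic.conj_mem _ h g₀⁻¹
      simpa [mul_assoc] using this
    have := hkey _ _ hu hxC huc hxc
    rw [commutatorElement_def, hxinv]
    exact this
  have hrel : (centralizer ({x} : Set S)).relIndex N = 2 := by
    rw [Subgroup.relIndex_eq_two_iff]
    refine ⟨g₀, hg₀N, fun b hb => ?_⟩
    by_cases hbC : b ∈ centralizer ({x} : Set S)
    · refine Or.inr ⟨hbC, fun h => hg₀C ?_⟩
      have := mul_mem (inv_mem hbC) h
      simpa using this
    · refine Or.inl ⟨?_, hbC⟩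
      rw [mem_centralizer_singleton_iff]
      have h1 := hNC b hb hbC
      have h2 := hNC g₀ hg₀N hg₀C
      calc b * g₀ * x = b * (g₀ * x) := by group
        _ = b * ((z : S) * x * g₀) := by rw [h2]
        _ = (b * (z : S)) * x * g₀ := by group
        _ = (z : S) * (b * x) * g₀ := by rw [hzc b]; group
        _ = (z : S) * ((z : S) * x * b) * g₀ := by rw [h1]
        _ = ((z : S) * (z : S)) * x * b * g₀ := by group
        _ = x * (b * g₀) := by rw [hzsq]; group
  have hcardN : Nat.card N = 8 := by
    have h1 := Subgroup.relIndex_mul_relIndex (H := (⊥ : Subgroup S))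
      (K := centralizer ({x} : Set S)) (L := N) bot_le hCN
    rw [Subgroup.relIndex_bot_left, Subgroup.relIndex_bot_left, hrel, hC] at h1
    omega
  have hidx : N.index = (centralizer ({(QuotientGroup.mk x : S ⧸ center S)} :
      Set (S ⧸ center S))).index :=
    Subgroup.index_comap_of_surjective _ (QuotientGroup.mk'_surjective (center S))
  have h1 := Subgroup.card_mul_index N
  have h2 := Subgroup.card_mul_index (centralizer ({(QuotientGroup.mk x : S ⧸ center S)} :
      Set (S ⧸ center S)))
  have h3 := Subgroup.card_eq_card_quotient_mul_card_subgroup (center S)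
  rw [hZ2] at h3
  rw [hcardN, hidx, h3, ← h2] at h1
  have hpos : 0 < (centralizer ({(QuotientGroup.mk x : S ⧸ center S)} :
      Set (S ⧸ center S))).index := Nat.pos_of_ne_zero (Subgroup.index_ne_zero_of_finite)
  nlinarith

/-- A 2-group of order at least 8 with an involution whose centralizer has order 4 has a cyclic
subgroup of index 2. -/
theorem exists_cyclic_max (n : ℕ) : ∀ (S : Type u) [Group S] [Finite S], Nat.card S = n →
    IsPGroup 2 S → ∀ x : S, orderOf x = 2 → Nat.card (centralizer ({x} : Set S)) = 4 →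
    8 ≤ Nat.card S → ∃ a : S, 2 * orderOf a = Nat.card S := by
  induction n using Nat.strong_induction_on with
  | _ n ih =>
  intro S _ _ hn hS x hx hC h8
  have : Fact (Nat.Prime 2) := ⟨Nat.prime_two⟩
  obtain ⟨hxc, hZ2, hkey⟩ := basic_facts hS x hx hC h8
  have hQC := quot_centralizer_card hS x hx hC h8
  have hcardQ : Nat.card S = Nat.card (S ⧸ center S) * 2 := by
    rw [← hZ2]; exact Subgroup.card_eq_card_quotient_mul_card_subgroup (center S)
  have hQ : IsPGroup 2 (S ⧸ center S) := hS.to_quotient (center S)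
  have hx2 : x * x = 1 := by rw [← pow_two, ← hx, pow_orderOf_eq_one]
  have hxC : x ∈ centralizer ({x} : Set S) := mem_centralizer_singleton_iff.2 rfl
  have hxb2 : (QuotientGroup.mk x : S ⧸ center S) * (QuotientGroup.mk x : S ⧸ center S) = 1 := by
    rw [← QuotientGroup.mk_mul, hx2]; rfl
  have hxb : orderOf (QuotientGroup.mk x : S ⧸ center S) = 2 := by
    apply orderOf_eq_prime
    · rw [pow_two]; exact hxb2
    · rw [Ne, QuotientGroup.eq_one_iff]; exact hxc
  obtain ⟨e, he⟩ := hS.exists_card_eq
  by_cases hQ8 : 8 ≤ Nat.card (S ⧸ center S)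
  · -- inductive step
    obtain ⟨ab, hab⟩ := ih (Nat.card (S ⧸ center S)) (by omega) (S ⧸ center S) rfl hQ _ hxb hQC hQ8
    obtain ⟨a, rfl⟩ := QuotientGroup.mk_surjective ab
    set m := orderOf (QuotientGroup.mk a : S ⧸ center S) with hm
    have h1 : m ∣ orderOf a := by
      apply orderOf_dvd_of_pow_eq_one
      rw [← QuotientGroup.mk_pow, pow_orderOf_eq_one]; rfl
    have h2 : a ^ m ∈ center S := by
      rw [← QuotientGroup.eq_one_iff, QuotientGroup.mk_pow, hm, pow_orderOf_eq_one]
    have hcsq : ∀ c ∈ center S, c ^ 2 = 1 := by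
      intro c hc
      have h := pow_card_eq_one' (G := center S) (x := ⟨c, hc⟩)
      rw [hZ2] at h
      exact congrArg Subtype.val h
    have h3 : orderOf a ∣ 2 * m := by
      apply orderOf_dvd_of_pow_eq_one
      rw [mul_comm, pow_mul]; exact hcsq _ h2
    have hmpos : 0 < m := by omega
    have h4 : orderOf a = m ∨ orderOf a = 2 * m := by
      obtain ⟨k, hk⟩ := h1
      have hk2' : k ∣ 2 := by
        rw [hk, mul_comm 2 m] at h3; exact (Nat.mul_dvd_mul_iff_left hmpos).1 h3
      have hk2 : k = 1 ∨ k = 2 := by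
        have := Nat.le_of_dvd (by norm_num) hk2'
        interval_cases k <;> simp_all
      rcases hk2 with rfl | rfl
      · left; omega
      · right; omega
    rcases h4 with h4 | h4
    · exfalso
      -- m is divisible by 4
      have hm4 : ∃ k, m = 4 * k := by
        have h16 : 16 ≤ 2 ^ e := by omega
        have he4 : 4 ≤ e := by
          by_contra hlt
          have : 2 ^ e ≤ 2 ^ 3 := Nat.pow_le_pow_right (by norm_num) (by omega)
          omega
        obtain ⟨e', rfl⟩ := Nat.exists_eq_add_of_le he4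
        refine ⟨2 ^ e', ?_⟩
        have : 2 ^ (4 + e') = 16 * 2 ^ e' := by rw [pow_add]; norm_num
        omega
      obtain ⟨k, hk⟩ := hm4
      have hkpos : 0 < k := by omega
      have hak : orderOf a = 2 * (2 * k) := by omega
      have habk : orderOf (QuotientGroup.mk a : S ⧸ center S) = 2 * (2 * k) := by omega
      -- the cyclic subgroup generated by the image of a is normal
      have hidx : (zpowers (QuotientGroup.mk a : S ⧸ center S)).index = 2 := by
        have h5 := Subgroup.card_mul_index (zpowers (QuotientGroup.mk a : S ⧸ center S))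
        rw [Nat.card_zpowers] at h5
        have : m * (zpowers (QuotientGroup.mk a : S ⧸ center S)).index = m * 2 := by
          rw [h5, ← hab, mul_comm]
        exact Nat.eq_of_mul_eq_mul_left hmpos this
      have hnorm : (zpowers (QuotientGroup.mk a : S ⧸ center S)).Normal :=
        Subgroup.normal_of_index_eq_two hidx
      -- u = a^(2k)
      have hu2 : (a ^ (2 * k)) ^ 2 = 1 := by
        rw [← pow_mul, mul_comm, ← hak, pow_orderOf_eq_one]
      have hu1 : a ^ (2 * k) ≠ 1 :=
        pow_ne_one_of_lt_orderOf (by omega) (by omega)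
      have huo : orderOf (a ^ (2 * k)) = 2 := orderOf_eq_prime hu2 hu1
      -- conjugate of b = a^k
      have hb : (QuotientGroup.mk x : S ⧸ center S) * (QuotientGroup.mk a) ^ k *
          (QuotientGroup.mk x : S ⧸ center S)⁻¹ ∈ zpowers (QuotientGroup.mk a : S ⧸ center S) :=
        hnorm.conj_mem _ (pow_mem (mem_zpowers _) k) _
      obtain ⟨j, hj⟩ := mem_zpowers_iff.1 hb
      have hw : (a ^ j)⁻¹ * (x * a ^ k * x⁻¹) ∈ center S := by
        rw [← QuotientGroup.eq]
        rw [QuotientGroup.mk_zpow, hj]
        simp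
      set w := (a ^ j)⁻¹ * (x * a ^ k * x⁻¹) with hwdef
      have hwc : ∀ g : S, g * w = w * g := fun g => mem_center_iff.1 hw g
      have hw2 : w * w = 1 := by rw [← pow_two]; exact hcsq _ hw
      have hxb' : x * a ^ k * x⁻¹ = a ^ j * w := by rw [hwdef]; group
      have hxu : x * a ^ (2 * k) * x⁻¹ = a ^ (j * 2) := by
        calc x * a ^ (2 * k) * x⁻¹ = (x * a ^ k * x⁻¹) * (x * a ^ k * x⁻¹) := by
              rw [two_mul, pow_add]; group
          _ = a ^ j * w * (a ^ j * w) := by rw [hxb']
          _ = a ^ j * (w * a ^ j) * w := by group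
          _ = a ^ j * (a ^ j * w) * w := by rw [← hwc (a ^ j)]
          _ = a ^ j * a ^ j * (w * w) := by group
          _ = a ^ (j * 2) := by rw [hw2, mul_one, mul_two, zpow_add]
      have hxu_mem : x * a ^ (2 * k) * x⁻¹ ∈ zpowers a := by
        rw [hxu]; exact zpow_mem (mem_zpowers a) _
      have hxuo : orderOf (x * a ^ (2 * k) * x⁻¹) = 2 := by
        have hsc : SemiconjBy x (a ^ (2 * k)) (x * a ^ (2 * k) * x⁻¹) := by
          unfold SemiconjBy; group
        exact (hsc.orderOf_eq).symm.trans huo
      have hfix : x * a ^ (2 * k) * x⁻¹ = a ^ (2 * k) :=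
        eq_pow_half_of_mem_zpowers hak hxuo hxu_mem
      have huC : a ^ (2 * k) ∈ centralizer ({x} : Set S) := by
        rw [mem_centralizer_singleton_iff]
        calc a ^ (2 * k) * x = (x * a ^ (2 * k) * x⁻¹) * x := by rw [hfix]
          _ = x * a ^ (2 * k) := by group
      have hucn : a ^ (2 * k) ∉ center S := by
        rw [← QuotientGroup.eq_one_iff, QuotientGroup.mk_pow]
        exact pow_ne_one_of_lt_orderOf (by omega) (by omega)
      have hux := hkey _ _ huC hxC hucn hxc
      have hxbar : (QuotientGroup.mk x : S ⧸ center S) = (QuotientGroup.mk a) ^ (2 * k) := by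
        rw [← QuotientGroup.eq_one_iff, QuotientGroup.mk_mul, QuotientGroup.mk_pow] at hux
        have h6 : (QuotientGroup.mk x : S ⧸ center S)⁻¹ = QuotientGroup.mk x :=
          inv_eq_of_mul_eq_one_left hxb2
        rw [← h6]
        exact (inv_eq_of_mul_eq_one_left hux).symm ▸ rfl
      have hcen : (QuotientGroup.mk x : S ⧸ center S) ∈ center (S ⧸ center S) := by
        rw [hxbar]; exact pow_half_mem_center habk hnorm
      have htop : centralizer ({(QuotientGroup.mk x : S ⧸ center S)} : Set (S ⧸ center S)) = ⊤ := by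
        rw [eq_top_iff]; intro g _
        rw [mem_centralizer_singleton_iff]
        exact mem_center_iff.1 hcen g
      rw [htop, card_top] at hQC
      omega
    · exact ⟨a, by omega⟩
  · -- base case: the order is 8
    have hS8 : Nat.card S = 8 := by
      have h1 : 2 ^ e < 2 ^ 4 := by omega
      have h2 : 2 ^ 3 ≤ 2 ^ e := by omega
      have he3 : e = 3 := by
        have := (Nat.pow_lt_pow_iff_right (a := 2) (by norm_num)).1 h1
        have := (Nat.pow_le_pow_iff_right (a := 2) (by norm_num)).1 h2
        omega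
      rw [he, he3]; norm_num
    by_contra hcon
    push Not at hcon
    have hord : ∀ a : S, a * a = 1 := by
      intro a
      have hdvd : orderOf a ∣ 8 := hS8 ▸ orderOf_dvd_natCard a
      have hle : orderOf a ≤ 8 := Nat.le_of_dvd (by norm_num) hdvd
      have hpos : 0 < orderOf a := orderOf_pos a
      have h4 := hcon a
      have h44 : orderOf (a ^ 2) ≠ 4 := by
        have := hcon (a ^ 2); omega
      rw [orderOf_pow] at h44
      rw [← pow_two]
      interval_cases h : orderOf a
      · rw [orderOf_eq_one_iff] at h; rw [h]; simp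
      · rw [← h]; exact pow_orderOf_eq_one a
      · omega
      · omega
      · omega
      · omega
      · omega
      · norm_num at h44
    apply hxc
    rw [mem_center_iff]
    intro g
    have hg := hord g
    have hgx := hord (g * x)
    calc g * x = (g * x)⁻¹ := (inv_eq_of_mul_eq_one_left hgx).symm
      _ = x⁻¹ * g⁻¹ := by group
      _ = x * g := by rw [inv_eq_of_mul_eq_one_left hx2, inv_eq_of_mul_eq_one_left hg]

/-- A group of order `2 * M` generated by `a` of order `M` and an involution `x` outside `⟨a⟩`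
inverting `a` is dihedral. -/
theorem dihedral_iso {S : Type u} [Group S] [Finite S] (a x : S) (M : ℕ) (hM : orderOf a = M)
    (hM0 : M ≠ 0) (hcard : Nat.card S = 2 * M) (hx2 : x * x = 1) (hxa : x ∉ zpowers a)
    (hconj : x * a * x⁻¹ = a⁻¹) : Nonempty (S ≃* DihedralGroup M) := by
  subst hM
  have : NeZero (orderOf a) := ⟨hM0⟩
  let pw : ZMod (orderOf a) → S := fun i => a ^ i.val
  have pw_def : ∀ i, pw i = a ^ i.val := fun i => rfl
  have pw_add : ∀ i j, pw (i + j) = pw i * pw j := by
    intro i j
    rw [pw_def, pw_def, pw_def, ← pow_add, ZMod.val_add, pow_mod_orderOf]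
  have pw_zero : pw 0 = 1 := by rw [pw_def, ZMod.val_zero, pow_zero]
  have pw_neg : ∀ i, pw (-i) = (pw i)⁻¹ := by
    intro i; rw [eq_inv_iff_mul_eq_one, ← pw_add, neg_add_cancel, pw_zero]
  have pw_conj : ∀ i, x * pw i = pw (-i) * x := by
    intro i
    have h : x * a ^ i.val * x⁻¹ = (a ^ i.val)⁻¹ := by rw [← conj_pow, hconj, inv_pow]
    rw [pw_neg, pw_def, ← h]; group
  let F : DihedralGroup (orderOf a) → S := fun g => match g with
    | DihedralGroup.r i => pw i
    | DihedralGroup.sr i => x * pw i
  have F_r : ∀ i, F (DihedralGroup.r i) = pw i := fun i => rfl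
  have F_sr : ∀ i, F (DihedralGroup.sr i) = x * pw i := fun i => rfl
  have F_mul : ∀ g h, F (g * h) = F g * F h := by
    rintro (i | i) (j | j)
    · rw [DihedralGroup.r_mul_r, F_r, F_r, F_r, pw_add]
    · rw [DihedralGroup.r_mul_sr, F_r, F_sr, F_sr, pw_conj, pw_conj, ← mul_assoc, ← pw_add]
      congr 2
      ring
    · rw [DihedralGroup.sr_mul_r, F_r, F_sr, F_sr, pw_add, mul_assoc]
    · rw [DihedralGroup.sr_mul_sr, F_r, F_sr, F_sr, pw_conj]
      calc pw (j - i) = pw (-i) * pw j := by rw [← pw_add]; congr 1; ring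
        _ = pw (-i) * (x * x) * pw j := by rw [hx2, mul_one]
        _ = pw (-i) * x * (x * pw j) := by group
  let Fh : DihedralGroup (orderOf a) →* S := MonoidHom.mk' F F_mul
  have hinj : Function.Injective Fh := by
    rw [injective_iff_map_eq_one]
    rintro (i | i) h
    · have h1 : a ^ i.val = 1 := h
      have h2 : orderOf a ∣ i.val := orderOf_dvd_of_pow_eq_one h1
      have h3 : i.val = 0 := Nat.eq_zero_of_dvd_of_lt h2 (ZMod.val_lt i)
      have h4 : i = 0 := (ZMod.val_eq_zero i).1 h3
      rw [h4]; rfl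
    · exfalso
      have h1 : x * a ^ i.val = 1 := h
      apply hxa
      have h2 : x = (a ^ i.val)⁻¹ := eq_inv_of_mul_eq_one_left h1
      rw [h2]
      exact inv_mem (pow_mem (mem_zpowers a) _)
  have hbij : Function.Bijective Fh := by
    rw [Nat.bijective_iff_injective_and_card]
    exact ⟨hinj, by rw [DihedralGroup.nat_card, hcard]⟩
  exact ⟨(MulEquiv.ofBijective Fh hbij).symm⟩

/-- A finite 2-group containing an involution whose centralizer has order 4 is dihedral, quasi-dihedral (semidihedral), or of order 4. -/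
theorem result {S : Type*} [Group S] [Finite S] (hS : IsPGroup 2 S)
    (x : S) (hx : orderOf x = 2) (hC : Nat.card ↥(Subgroup.centralizer ({x} : Set S)) = 4) :
    (∃ n : ℕ, Nonempty (S ≃* DihedralGroup n)) ∨ Cfsg.IsQuasiDihedral S ∨ Nat.card S = 4 := by
  have : Fact (Nat.Prime 2) := ⟨Nat.prime_two⟩
  by_cases h4 : Nat.card S = 4
  · right; right; exact h4
  obtain ⟨e, he⟩ := hS.exists_card_eq
  have h4dvd : 4 ∣ Nat.card S := hC ▸ Subgroup.card_subgroup_dvd_card _
  have he3 : 3 ≤ e := by
    by_contra hlt
    have hle : e ≤ 2 := by omega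
    rw [he] at h4dvd h4
    interval_cases e <;> omega
  have h8 : 8 ≤ Nat.card S := by
    rw [he]
    calc 8 = 2 ^ 3 := by norm_num
      _ ≤ 2 ^ e := Nat.pow_le_pow_right (by norm_num) he3
  obtain ⟨a, ha⟩ := exists_cyclic_max _ S rfl hS x hx hC h8
  obtain ⟨hxc, hZ2, hkey⟩ := basic_facts hS x hx hC h8
  have hx2 : x * x = 1 := by rw [← pow_two, ← hx, pow_orderOf_eq_one]
  have hxinv : x⁻¹ = x := inv_eq_of_mul_eq_one_left hx2
  have hxC : x ∈ centralizer ({x} : Set S) := mem_centralizer_singleton_iff.2 rfl
  -- the order of `a`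
  obtain ⟨e', rfl⟩ : ∃ e', e = e' + 3 := ⟨e - 3, by omega⟩
  have hM : orderOf a = 2 ^ (e' + 2) := by
    have : 2 ^ (e' + 3) = 2 * 2 ^ (e' + 2) := by rw [pow_succ]; ring
    omega
  have hMk : orderOf a = 2 * 2 ^ (e' + 1) := by
    rw [hM, pow_succ]; ring
  have hMpos : 0 < orderOf a := by rw [hM]; positivity
  -- `zpowers a` is normal
  have hidx : (zpowers a).index = 2 := by
    have h5 := Subgroup.card_mul_index (zpowers a)
    rw [Nat.card_zpowers] at h5
    have : orderOf a * (zpowers a).index = orderOf a * 2 := by rw [h5, ← ha, mul_comm]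
    exact Nat.eq_of_mul_eq_mul_left hMpos this
  have hnorm : (zpowers a).Normal := Subgroup.normal_of_index_eq_two hidx
  have hz0 : a ^ 2 ^ (e' + 1) ∈ center S := pow_half_mem_center hMk hnorm
  have hz01 : a ^ 2 ^ (e' + 1) ≠ 1 := by
    apply pow_ne_one_of_lt_orderOf (by positivity)
    rw [hMk]; have : 0 < 2 ^ (e' + 1) := by positivity
    omega
  have hxa : x ∉ zpowers a := by
    intro h
    have := eq_pow_half_of_mem_zpowers hMk hx h
    exact hxc (this ▸ hz0)
  -- elements of the centre
  obtain ⟨z, hz1, hzu⟩ := (Nat.card_eq_two_iff' (1 : center S)).1 hZ2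
  have hzz : ∀ c ∈ center S, c ≠ 1 → c = (z : S) := by
    intro c hc hc1
    have := hzu ⟨c, hc⟩ (by intro h; apply hc1; exact congrArg Subtype.val h)
    exact congrArg Subtype.val this
  have hz0z : a ^ 2 ^ (e' + 1) = (z : S) := hzz _ hz0 hz01
  have hcenter_le : center S ≤ zpowers a := by
    intro c hc
    by_cases hc1 : c = 1
    · rw [hc1]; exact one_mem _
    · rw [hzz c hc hc1, ← hz0z]; exact pow_mem (mem_zpowers a) _
  -- the element c = a * (x a x⁻¹)
  have hconjmem : x * a * x⁻¹ ∈ zpowers a := hnorm.conj_mem a (mem_zpowers a) x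
  have hcomm : a * (x * a * x⁻¹) = (x * a * x⁻¹) * a := by
    obtain ⟨i, hi⟩ := mem_zpowers_iff.1 hconjmem
    rw [← hi, ← zpow_one_add, ← zpow_add_one, add_comm]
  have hcA : a * (x * a * x⁻¹) ∈ zpowers a := mul_mem (mem_zpowers a) hconjmem
  have hcC : a * (x * a * x⁻¹) ∈ centralizer ({x} : Set S) := by
    rw [mem_centralizer_singleton_iff]
    calc a * (x * a * x⁻¹) * x = (x * a * x⁻¹) * a * x := by rw [hcomm]
      _ = x * a * (x⁻¹ * a * x) := by group
      _ = x * a * (x * a * x⁻¹) := by rw [hxinv]
      _ = x * (a * (x * a * x⁻¹)) := by group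
  have hcZ : a * (x * a * x⁻¹) ∈ center S := by
    by_contra hcn
    have h1 := hkey _ _ hcC hxC hcn hxc
    have h2 := hcenter_le h1
    exact hxa ((mul_mem_cancel_left hcA).1 h2)
  by_cases hc1 : a * (x * a * x⁻¹) = 1
  · -- dihedral
    left
    refine ⟨orderOf a, dihedral_iso a x (orderOf a) rfl hMpos.ne' ha.symm hx2 hxa ?_⟩
    exact (eq_inv_of_mul_eq_one_right hc1)
  · -- semidihedral
    right; left
    have hcz : a * (x * a * x⁻¹) = a ^ 2 ^ (e' + 1) := by rw [hz0z]; exact hzz _ hcZ hc1
    have hconj : x * a * x⁻¹ = a ^ (2 ^ (e' + 1) - 1) := by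
      have h2 : a * a ^ (2 ^ (e' + 1) - 1) = a ^ 2 ^ (e' + 1) := by
        rw [← pow_succ']
        congr 1
        have : 0 < 2 ^ (e' + 1) := by positivity
        omega
      exact mul_left_cancel (hcz.trans h2.symm)
    -- e' ≥ 1
    have he' : 1 ≤ e' := by
      by_contra hlt
      have he0 : e' = 0 := by omega
      subst he0
      -- x a x⁻¹ = a, so a centralizes x
      have h3 : x * a * x⁻¹ = a := by rw [hconj]; norm_num
      have haC : a ∈ centralizer ({x} : Set S) := by
        rw [mem_centralizer_singleton_iff]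
        calc a * x = (x * a * x⁻¹) * x := by rw [h3]
          _ = x * a := by group
      have hle : zpowers a ≤ centralizer ({x} : Set S) := by
        rw [zpowers_le]; exact haC
      have heq : zpowers a = centralizer ({x} : Set S) := by
        apply Subgroup.eq_of_le_of_card_ge hle
        rw [Nat.card_zpowers, hM, hC]; norm_num
      exact hxa (heq ▸ hxC)
    refine ⟨e' + 2, by omega, ?_, a, x, hM, hx, ?_⟩
    · rw [he]
    · have h5 : e' + 2 - 1 = e' + 1 := by omega
      rw [hconj, h5]

end Cfsg.Agent.S3224
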