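import Cfsg.Statements.S0646
import Cfsg.Agent.Lib.Helper54.Quaternion

set_option autoImplicit false
open Cfsg

namespace Cfsg.Agent.S0646

open Subgroup in
/-- For `a` of order `2 ^ (m + 1)` and `r` with `r * r ≡ 1`, the power `a ^ r` is one of four
elements. -/
theorem zpow_sq_sub_one {S : Type*} [Group S] {a : S} {m : ℕ} (hm : 1 ≤ m)
    (ha : orderOf a = 2 ^ (m + 1)) {r : ℤ} (h : a ^ (r * r - 1) = 1) :
    a ^ r = a ∨ a ^ r = a * a ^ (2 ^ m) ∨ a ^ r = a⁻¹ ∨ a ^ r = a⁻¹ * a ^ (2 ^ m) := by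
  have hdvd : ((2 ^ (m + 1) : ℕ) : ℤ) ∣ r * r - 1 := by
    rw [← ha]; exact orderOf_dvd_iff_zpow_eq_one.2 h
  obtain ⟨m', rfl⟩ : ∃ m', m = m' + 1 := ⟨m - 1, by omega⟩
  have hz2 : (a ^ (2 ^ (m' + 1))) ^ 2 = 1 := by
    rw [← pow_mul, ← pow_succ, ← ha, pow_orderOf_eq_one]
  have hz : a ^ ((2 : ℤ) ^ (m' + 1)) = a ^ (2 ^ (m' + 1)) := by
    rw [← zpow_natCast]; push_cast; rfl
  have hzu : ∀ u : ℤ, a ^ ((2 : ℤ) ^ (m' + 1) * u) = 1 ∨
      a ^ ((2 : ℤ) ^ (m' + 1) * u) = a ^ (2 ^ (m' + 1)) := by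
    intro u
    rcases Int.even_or_odd' u with ⟨v, rfl | rfl⟩
    · left; rw [zpow_mul, hz, zpow_mul, zpow_ofNat, hz2, one_zpow]
    · right; rw [zpow_mul, hz, zpow_add, zpow_mul, zpow_ofNat, hz2, one_zpow, one_mul, zpow_one]
  have hcz : Commute (a ^ (2 ^ (m' + 1))) a := (Commute.refl a).pow_left _
  rcases Int.even_or_odd' r with ⟨t, rfl | rfl⟩
  · exfalso
    have h2 : (2 : ℤ) ∣ 2 * t * (2 * t) - 1 :=
      Dvd.dvd.trans (by push_cast; exact ⟨2 ^ (m' + 1), by ring⟩) hdvd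
    have h3 : (2 : ℤ) ∣ 2 * t * (2 * t) := ⟨t * (2 * t), by ring⟩
    have h4 := (Int.dvd_sub h3 h2)
    have h5 : (2 * t * (2 * t) - (2 * t * (2 * t) - 1) : ℤ) = 1 := by ring
    rw [h5] at h4
    omega
  · have h4 : (2 * t + 1) * (2 * t + 1) - 1 = 4 * (t * (t + 1)) := by ring
    rw [h4] at hdvd
    have h5 : ((2 : ℤ) ^ m') ∣ t * (t + 1) := by
      have : ((2 ^ (m' + 1 + 1) : ℕ) : ℤ) = 4 * 2 ^ m' := by push_cast; ring
      rw [this] at hdvd
      exact Int.dvd_of_mul_dvd_mul_left (by norm_num) hdvd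
    rcases Int.even_or_odd t with hev | hodd
    · have hcop : IsCoprime ((2 : ℤ) ^ m') (t + 1) := by
        apply IsCoprime.pow_left
        obtain ⟨v, hv⟩ := hev
        exact ⟨-v, 1, by rw [hv]; ring⟩
      have h6 : (2 : ℤ) ^ m' ∣ t := hcop.dvd_of_dvd_mul_right h5
      obtain ⟨u, rfl⟩ := h6
      have : (2 * (2 ^ m' * u) + 1 : ℤ) = 2 ^ (m' + 1) * u + 1 := by ring
      rw [this, zpow_add, zpow_one]
      rcases hzu u with h | h
      · left; rw [h, one_mul]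
      · right; left; rw [h]; exact hcz.eq
    · have hcop : IsCoprime ((2 : ℤ) ^ m') t := by
        apply IsCoprime.pow_left
        obtain ⟨v, hv⟩ := hodd
        exact ⟨-v, 1, by rw [hv]; ring⟩
      have h6 : (2 : ℤ) ^ m' ∣ t + 1 := hcop.dvd_of_dvd_mul_left h5
      obtain ⟨u, hu⟩ := h6
      have : (2 * t + 1 : ℤ) = 2 ^ (m' + 1) * u + (-1) := by
        have : t = 2 ^ m' * u - 1 := by linarith
        rw [this]; ring
      rw [this, zpow_add, zpow_neg_one]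
      rcases hzu u with h | h
      · right; right; left; rw [h, one_mul]
      · right; right; right; rw [h]; exact hcz.inv_right.eq

open Subgroup Cfsg.Agent.Lib.Helper54.Quaternion in
/-- Classification of non-abelian 2-groups with a cyclic maximal subgroup: dihedral, generalized quaternion, and for order at least 16 the modular group and the semidihedral group, each given by generators a (of index 2) and b with the stated relations. -/
theorem result {G : Type*} [Group G] [Finite G] (n : ℕ) (hn : 3 ≤ n) (hG : Nat.card G = 2 ^ n) (C : Subgroup G) (hC : IsCyclic C) (hCi : C.index = 2) (hna : ∃ x y : G, x * y ≠ y * x) : ∃ a b : G, orderOf a = 2 ^ (n - 1) ∧ b ∉ Subgroup.zpowers a ∧ ((b ^ 2 = 1 ∧ b * a * b⁻¹ = a⁻¹) ∨ (b ^ 2 = a ^ (2 ^ (n - 2)) ∧ b * a * b⁻¹ = a⁻¹) ∨ (4 ≤ n ∧ b ^ 2 = 1 ∧ b * a * b⁻¹ = a ^ (1 + 2 ^ (n - 2))) ∨ (4 ≤ n ∧ b ^ 2 = 1 ∧ b * a * b⁻¹ = a ^ (2 ^ (n - 2) - 1))) := by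
  obtain ⟨m, rfl⟩ : ∃ m, n = m + 2 := ⟨n - 2, by omega⟩
  have hm : 1 ≤ m := by omega
  have e1 : m + 2 - 1 = m + 1 := rfl
  have e2 : m + 2 - 2 = m := rfl
  rw [e1, e2]
  obtain ⟨a₀, ha₀⟩ := hC.exists_generator
  have hCa : C = zpowers (a₀ : G) := by
    apply le_antisymm
    · intro x hx
      obtain ⟨i, hi⟩ := mem_zpowers_iff.1 (ha₀ ⟨x, hx⟩)
      rw [mem_zpowers_iff]; exact ⟨i, by simpa using congrArg Subtype.val hi⟩
    · exact zpowers_le.2 a₀.2
  generalize (a₀ : G) = a at hCa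
  have hcardC : Nat.card C = 2 ^ (m + 1) := by
    have h := C.card_mul_index
    rw [hCi, hG] at h
    have : 2 ^ (m + 2) = 2 ^ (m + 1) * 2 := pow_succ 2 (m + 1)
    omega
  have hoa : orderOf a = 2 ^ (m + 1) := by rw [← Nat.card_zpowers, ← hCa, hcardC]
  have hCn : C.Normal := normal_of_index_eq_two hCi
  obtain ⟨g, hg⟩ : ∃ g, g ∉ C := by
    by_contra h; push Not at h
    have : C = ⊤ := eq_top_iff.2 (fun x _ => h x)
    rw [this, index_top] at hCi; omega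
  have hgg : g * g ∈ C := mul_self_mem_of_index_two hCi g
  have haC : a ∈ C := hCa ▸ mem_zpowers a
  have hconj : g * a * g⁻¹ ∈ C := hCn.conj_mem a haC g
  have hrep : ∀ w : G, ∃ i : ℤ, w = a ^ i ∨ w = g * a ^ i := by
    intro w
    by_cases hw : w ∈ C
    · rw [hCa] at hw
      obtain ⟨i, hi⟩ := mem_zpowers_iff.1 hw; exact ⟨i, Or.inl hi.symm⟩
    · have : g⁻¹ * w ∈ C := by
        rw [mul_mem_iff_of_index_two hCi]
        constructor
        · intro h; exact absurd (inv_mem_iff.1 h) hg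
        · intro h; exact absurd h hw
      rw [hCa] at this
      obtain ⟨i, hi⟩ := mem_zpowers_iff.1 this
      exact ⟨i, Or.inr (by rw [hi]; group)⟩
  rw [hCa] at hg hgg hconj
  obtain ⟨r, hr⟩ := mem_zpowers_iff.1 hconj
  obtain ⟨s, hs⟩ := mem_zpowers_iff.1 hgg
  have hnc : g * a ≠ a * g := by
    intro hc
    obtain ⟨x, y, hxy⟩ := hna
    apply hxy
    have hga : ∀ i : ℤ, Commute g (a ^ i) := fun i => (show Commute g a from hc).zpow_right i
    have haa : ∀ i j : ℤ, Commute (a ^ i) (a ^ j) := fun i j =>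
      ((Commute.refl a).zpow_right j).zpow_left i
    obtain ⟨i, hx | hx⟩ := hrep x <;> obtain ⟨j, hy | hy⟩ := hrep y <;> rw [hx, hy]
    · exact (haa i j).eq
    · exact ((hga i).symm.mul_right (haa i j)).eq
    · exact ((hga j).mul_left (haa i j)).eq
    · exact (((Commute.refl g).mul_left (hga i).symm).mul_right ((hga j).mul_left (haa i j))).eq
  have hrr : a ^ (r * r - 1) = 1 := by
    have h1 : (g * g) * a * (g * g)⁻¹ = a := by
      rw [← hs, ((Commute.refl a).zpow_left s).eq]; group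
    have h2 : (g * g) * a * (g * g)⁻¹ = a ^ (r * r) := by
      calc (g * g) * a * (g * g)⁻¹ = g * (g * a * g⁻¹) * g⁻¹ := by group
        _ = g * a ^ r * g⁻¹ := by rw [hr]
        _ = (g * a * g⁻¹) ^ r := by rw [conj_zpow]
        _ = a ^ (r * r) := by rw [← hr, ← zpow_mul]
    rw [zpow_sub, zpow_one, ← h2, h1, mul_inv_cancel]
  have hz2 : (a ^ (2 ^ m)) ^ 2 = 1 := by rw [← pow_mul, ← pow_succ, ← hoa, pow_orderOf_eq_one]
  have hzz : a ^ (2 ^ m) * a ^ (2 ^ m) = 1 := by rw [← pow_two]; exact hz2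
  have hz1 : a ^ (2 ^ m) ≠ 1 := by
    apply pow_ne_one_of_lt_orderOf (by positivity)
    rw [hoa]; exact Nat.pow_lt_pow_right (by norm_num) (Nat.lt_succ_self m)
  have hoz : orderOf (a ^ (2 ^ m)) = 2 := orderOf_eq_prime hz2 hz1
  have hoa' : orderOf a = 2 * 2 ^ m := by rw [hoa, pow_succ]; ring
  have hcz : Commute (a ^ (2 ^ m)) a := (Commute.refl a).pow_left _
  have hinv : ∀ x ∈ zpowers a, x ^ 2 = 1 → x = 1 ∨ x = a ^ (2 ^ m) := by
    intro x hx hx2
    by_cases hx1 : x = 1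
    · left; exact hx1
    · right; exact eq_pow_half_of_mem_zpowers hoa' (orderOf_eq_prime hx2 hx1) hx
  have hgs : (g * a * g⁻¹) ^ s = a ^ s := by
    rw [conj_zpow, hs]; group
  have hgb : ∀ t : ℤ, g * a ^ t ∉ zpowers a := by
    intro t h
    apply hg
    have : g = g * a ^ t * (a ^ t)⁻¹ := by group
    rw [this]; exact mul_mem h (inv_mem (zpow_mem (mem_zpowers a) t))
  have caseA : g * a * g⁻¹ = a⁻¹ → ∃ a b : G, orderOf a = 2 ^ (m + 1) ∧ b ∉ Subgroup.zpowers a ∧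
      ((b ^ 2 = 1 ∧ b * a * b⁻¹ = a⁻¹) ∨ (b ^ 2 = a ^ (2 ^ m) ∧ b * a * b⁻¹ = a⁻¹) ∨
      (4 ≤ m + 2 ∧ b ^ 2 = 1 ∧ b * a * b⁻¹ = a ^ (1 + 2 ^ m)) ∨
      (4 ≤ m + 2 ∧ b ^ 2 = 1 ∧ b * a * b⁻¹ = a ^ (2 ^ m - 1))) := by
    intro hinvt
    rw [hinvt, inv_zpow] at hgs
    have h1 : (g * g) ^ 2 = 1 := by
      rw [← hs, pow_two]
      nth_rewrite 1 [← hgs]
      exact inv_mul_cancel _
    rcases hinv _ hgg h1 with h | h
    · exact ⟨a, g, hoa, hg, Or.inl ⟨by rw [pow_two]; exact h, hinvt⟩⟩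
    · exact ⟨a, g, hoa, hg, Or.inr (Or.inl ⟨by rw [pow_two]; exact h, hinvt⟩)⟩
  rcases zpow_sq_sub_one hm hoa hrr with h | h | h | h
  · exfalso
    apply hnc
    rw [hr] at h
    calc g * a = g * a * g⁻¹ * g := by group
      _ = a * g := by rw [h]
  · rw [hr] at h
    by_cases hm1 : m = 1
    · subst hm1
      apply caseA
      rw [h]
      have h4 : a ^ 4 = 1 := by
        have := pow_orderOf_eq_one a
        rwa [hoa] at this
      apply eq_inv_of_mul_eq_one_left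
      calc a * a ^ 2 ^ 1 * a = a ^ 4 := by group
        _ = 1 := h4
    · obtain ⟨m', rfl⟩ : ∃ m', m = m' + 2 := ⟨m - 2, by omega⟩
      rw [h] at hgs
      have hzs : (a ^ (2 ^ (m' + 2))) ^ s = 1 := by
        rw [hcz.symm.mul_zpow] at hgs
        exact mul_left_cancel (hgs.trans (mul_one _).symm)
      have hs2 : ((orderOf (a ^ (2 ^ (m' + 2))) : ℕ) : ℤ) ∣ s := orderOf_dvd_iff_zpow_eq_one.2 hzs
      rw [hoz] at hs2
      have hs2' : (2 : ℤ) ∣ s := by exact_mod_cast hs2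
      obtain ⟨s', rfl⟩ := hs2'
      refine ⟨a, g * a ^ (-(s' * (1 + 2 ^ (m' + 1)))), hoa, hgb _, Or.inr (Or.inr (Or.inl
        ⟨by omega, ?_, ?_⟩))⟩
      · have hconjt : ∀ t : ℤ, g * a ^ t * g⁻¹ = a ^ ((1 + 2 ^ (m' + 2)) * t) := by
          intro t
          rw [← conj_zpow, h, zpow_mul]
          congr 1
          rw [zpow_add, zpow_one, ← zpow_natCast]
          push_cast; rfl
        have hpw : a ^ ((2 : ℤ) ^ (m' + 2 + 1)) = 1 := by
          have : ((2 : ℤ) ^ (m' + 2 + 1)) = ((2 ^ (m' + 2 + 1) : ℕ) : ℤ) := by push_cast; rfl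
          rw [this, zpow_natCast, ← hoa, pow_orderOf_eq_one]
        calc (g * a ^ (-(s' * (1 + 2 ^ (m' + 1))))) ^ 2
            = (g * a ^ (-(s' * (1 + 2 ^ (m' + 1)))) * g⁻¹) * (g * g) *
              a ^ (-(s' * (1 + 2 ^ (m' + 1)))) := by rw [pow_two]; group
          _ = a ^ ((1 + 2 ^ (m' + 2)) * (-(s' * (1 + 2 ^ (m' + 1))))) * a ^ ((2 : ℤ) * s') *
              a ^ (-(s' * (1 + 2 ^ (m' + 1)))) := by rw [hconjt, ← hs]
          _ = a ^ ((2 : ℤ) ^ (m' + 2 + 1) * (-(s' * (1 + 2 ^ m')))) := by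
              rw [← zpow_add, ← zpow_add]; congr 1; ring
          _ = 1 := by rw [zpow_mul, hpw, one_zpow]
      · calc g * a ^ (-(s' * (1 + 2 ^ (m' + 1)))) * a * (g * a ^ (-(s' * (1 + 2 ^ (m' + 1)))))⁻¹
            = g * a * g⁻¹ := by
              have := ((Commute.refl a).zpow_left (-(s' * (1 + 2 ^ (m' + 1))))).eq
              rw [mul_assoc g, this]; group
          _ = a ^ (1 + 2 ^ (m' + 2)) := by rw [h, pow_add a, pow_one]
  · rw [hr] at h
    exact caseA h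
  · rw [hr] at h
    by_cases hm1 : m = 1
    · exfalso
      subst hm1
      apply hnc
      have h2 : a⁻¹ * a ^ 2 ^ 1 = a := by group
      rw [h2] at h
      calc g * a = g * a * g⁻¹ * g := by group
        _ = a * g := by rw [h]
    · obtain ⟨m', rfl⟩ : ∃ m', m = m' + 2 := ⟨m - 2, by omega⟩
      have hpm : a ^ (2 ^ (m' + 2) - 1) = a⁻¹ * a ^ (2 ^ (m' + 2)) := by
        have h1 : 2 ^ (m' + 2) = (2 ^ (m' + 2) - 1) + 1 := by
          have : 0 < 2 ^ (m' + 2) := by positivity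
          omega
        have h2 : a ^ (2 ^ (m' + 2)) = a ^ (2 ^ (m' + 2) - 1) * a := by
          nth_rewrite 1 [h1]; rw [pow_succ]
        rw [h2, ((Commute.refl a).pow_left _).eq]; group
      rw [h] at hgs
      have hgg2 : (g * g) ^ 2 = 1 := by
        have hz' : a ^ (2 ^ (m' + 2)) = a ^ ((2 : ℤ) ^ (m' + 2)) := by
          rw [← zpow_natCast]; push_cast; rfl
        rw [hcz.symm.inv_left.mul_zpow, hz', ← zpow_mul, inv_zpow, ← zpow_neg, ← zpow_add] at hgs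
        have h1 : a ^ (-s + 2 ^ (m' + 2) * s - s) = 1 := by
          rw [zpow_sub, hgs, mul_inv_cancel]
        have h2 : ((orderOf a : ℕ) : ℤ) ∣ -s + 2 ^ (m' + 2) * s - s :=
          orderOf_dvd_iff_zpow_eq_one.2 h1
        rw [hoa] at h2
        have h3 : (-s + 2 ^ (m' + 2) * s - s : ℤ) = 2 * (s * (2 ^ (m' + 1) - 1)) := by ring
        have h4 : ((2 ^ (m' + 2 + 1) : ℕ) : ℤ) = 2 * 2 ^ (m' + 2) := by push_cast; ring
        rw [h3, h4] at h2
        have h5 : (2 : ℤ) ^ (m' + 2) ∣ s * (2 ^ (m' + 1) - 1) :=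
          Int.dvd_of_mul_dvd_mul_left (by norm_num) h2
        have hcop : IsCoprime ((2 : ℤ) ^ (m' + 2)) (2 ^ (m' + 1) - 1) := by
          apply IsCoprime.pow_left
          exact ⟨2 ^ m', -1, by ring⟩
        obtain ⟨u, rfl⟩ := hcop.dvd_of_dvd_mul_right h5
        rw [← hs, ← zpow_natCast, ← zpow_mul]
        have h6 : ((2 : ℤ) ^ (m' + 2) * u * ((2 : ℕ) : ℤ)) = ((2 ^ (m' + 2 + 1) : ℕ) : ℤ) * u := by
          push_cast; ring
        rw [h6, zpow_mul, zpow_natCast, ← hoa, pow_orderOf_eq_one, one_zpow]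
      rcases hinv _ hgg hgg2 with hg1 | hgz
      · refine ⟨a, g, hoa, hg, Or.inr (Or.inr (Or.inr ⟨by omega, by rw [pow_two]; exact hg1, ?_⟩))⟩
        rw [h, hpm]
      · refine ⟨a, g * a, hoa, ?_, Or.inr (Or.inr (Or.inr ⟨by omega, ?_, ?_⟩))⟩
        · have := hgb 1
          rwa [zpow_one] at this
        · calc (g * a) ^ 2 = (g * a * g⁻¹) * (g * g) * a := by rw [pow_two]; group
            _ = a⁻¹ * a ^ (2 ^ (m' + 2)) * a ^ (2 ^ (m' + 2)) * a := by rw [h, hgz]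
            _ = a⁻¹ * (a ^ (2 ^ (m' + 2)) * a ^ (2 ^ (m' + 2))) * a := by group
            _ = 1 := by rw [hzz]; group
        · calc g * a * a * (g * a)⁻¹ = g * a * g⁻¹ := by group
            _ = a ^ (2 ^ (m' + 2) - 1) := by rw [h, hpm]

end Cfsg.Agent.S0646
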