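import Mathlib
import Cfsg.Statements.S5160
import Cfsg.Agent.S5076
import Cfsg.Agent.Lib.Helper87.FSBasic
import Cfsg.Agent.Lib.Helper87.FSSat
import Cfsg.Agent.Lib.Helper88.FSBase
import Cfsg.Agent.Lib.Helper88.SubCentric
import Cfsg.Agent.Lib.Helper33.Conj

set_option autoImplicit false

namespace Cfsg.Agent.S5160

open Cfsg Cfsg.FusionSystem
open Cfsg.Agent.Lib.Helper87.FSBasic Cfsg.Agent.Lib.Helper87.FSSat
open Cfsg.Agent.Lib.Helper33.Conj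

/-- For an invariant subsystem `E` of `F` over the same `S`: `Aut_E(R)` is normalized by
`Aut_F(R)`. -/
theorem conj_mem_autGroup {Ω : Type*} [Group Ω] {S : Subgroup Ω} (F E : FusionSystem S)
    (hinvar : ∀ (P : Subgroup Ω) (hPT : P ≤ S) (φ : P →* Ω), φ ∈ E.Hom P → ∀ α ∈ F.autGroup S,
      ∃ χ ∈ E.Hom ((P.subgroupOf S).map (S.subtype.comp α.toMonoidHom)),
        ∀ (x : P) (hφx : φ x ∈ S)
          (hαx : ((α ⟨x, hPT x.2⟩ : S) : Ω) ∈ (P.subgroupOf S).map (S.subtype.comp α.toMonoidHom)),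
          χ ⟨(α ⟨x, hPT x.2⟩ : S), hαx⟩ = ((α ⟨φ x, hφx⟩ : S) : Ω))
    (hfrat : ∀ (P : Subgroup Ω), P ≤ S → ∀ (φ : P →* Ω), φ ∈ F.Hom P →
      ∃ α ∈ F.autGroup S, ∃ φ₀ ∈ E.Hom P, ∀ (x : P) (hx : φ₀ x ∈ S),
        φ x = ((α ⟨φ₀ x, hx⟩ : S) : Ω))
    {R : Subgroup Ω} (hRS : R ≤ S) (α β : MulAut R) (hα : α ∈ F.autGroup R)
    (hβ : β ∈ E.autGroup R) : α * β * α⁻¹ ∈ E.autGroup R := by
  have hαF := autGroup_hom F hRS hα
  have hβE := autGroup_hom E hRS hβ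
  obtain ⟨α', hα', φ₀, hφ₀, hfac⟩ := hfrat R hRS _ hαF
  have hφ₀S : ∀ x : R, φ₀ x ∈ S := fun x => (E.le_of_mem hφ₀).2 x
  have hfac' : ∀ x : R, ((α x : R) : Ω) = ((α' ⟨φ₀ x, hφ₀S x⟩ : S) : Ω) :=
    fun x => hfac x (hφ₀S x)
  obtain ⟨ψ₀, hψ₀, hψ₀inv, hψ₀r⟩ := Cfsg.Agent.Lib.Helper88.FSBase.inv_mem' E hφ₀ rfl
  have hψ₀R : ∀ y : φ₀.range, ψ₀ y ∈ R := fun y => hψ₀r.le ⟨y, rfl⟩
  have hc1 := E.comp_mem hψ₀ hβE hψ₀R
  have hc1R : ∀ y : φ₀.range,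
      ((R.subtype.comp β.toMonoidHom).comp (ψ₀.codRestrict R hψ₀R)) y ∈ R := fun y => (β _).2
  have hc2 := E.comp_mem hc1 hφ₀ hc1R
  have hR'S : φ₀.range ≤ S := (E.le_of_mem hψ₀).1
  obtain ⟨χ, hχ, hχeq⟩ := hinvar φ₀.range hR'S _ hc2 α' hα'
  have himg : (φ₀.range.subgroupOf S).map (S.subtype.comp α'.toMonoidHom) = R := by
    ext r
    constructor
    · rintro ⟨s, hs, rfl⟩
      obtain ⟨x, hx⟩ := Subgroup.mem_subgroupOf.mp hs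
      have : s = ⟨φ₀ x, hφ₀S x⟩ := Subtype.ext hx.symm
      rw [this]
      show ((α' ⟨φ₀ x, hφ₀S x⟩ : S) : Ω) ∈ R
      rw [← hfac' x]
      exact (α x).2
    · intro hr
      refine ⟨⟨φ₀ (α⁻¹ ⟨r, hr⟩), hφ₀S _⟩, Subgroup.mem_subgroupOf.mpr ⟨_, rfl⟩, ?_⟩
      show ((α' ⟨φ₀ (α⁻¹ ⟨r, hr⟩), _⟩ : S) : Ω) = r
      rw [← hfac' (α⁻¹ ⟨r, hr⟩)]
      simp
  obtain ⟨χ', hχ', hχ'eq⟩ := Cfsg.Agent.Lib.Helper88.FSBase.transport_mem E himg hχ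
  rw [mem_autGroup_iff E hRS]
  refine mem_of_eq E hχ' fun r => ?_
  have hr : (r : Ω) = ((α' ⟨φ₀ (α⁻¹ r), hφ₀S (α⁻¹ r)⟩ : S) : Ω) := by
    rw [← hfac' (α⁻¹ r)]; simp
  have hmem : ((α' ⟨φ₀ (α⁻¹ r), hφ₀S (α⁻¹ r)⟩ : S) : Ω) ∈
      (φ₀.range.subgroupOf S).map (S.subtype.comp α'.toMonoidHom) := by
    rw [himg, ← hr]; exact r.2
  have hmemR : ((α' ⟨φ₀ (α⁻¹ r), hφ₀S (α⁻¹ r)⟩ : S) : Ω) ∈ R := by
    rw [← hr]; exact r.2
  have h2 := hχeq ⟨φ₀ (α⁻¹ r), ⟨α⁻¹ r, rfl⟩⟩ (hφ₀S _) hmem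
  have h3 := hχ'eq _ hmem hmemR
  have e : r = ⟨((α' ⟨φ₀ (α⁻¹ r), hφ₀S (α⁻¹ r)⟩ : S) : Ω), hmemR⟩ := Subtype.ext hr
  have h4 : χ' r = χ' ⟨((α' ⟨φ₀ (α⁻¹ r), hφ₀S (α⁻¹ r)⟩ : S) : Ω), hmemR⟩ := congrArg χ' e
  rw [h4, h3, h2]
  show ((α (β (α⁻¹ r)) : R) : Ω) = _
  rw [hfac' (β (α⁻¹ r))]
  have h5 : (⟨ψ₀ ⟨φ₀ (α⁻¹ r), ⟨α⁻¹ r, rfl⟩⟩, hψ₀R _⟩ : R) = α⁻¹ r :=
    Subtype.ext (hψ₀inv (α⁻¹ r) ⟨α⁻¹ r, rfl⟩)
  have h6 : (φ₀.comp (((R.subtype.comp β.toMonoidHom).comp (ψ₀.codRestrict R hψ₀R)).codRestrict R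
      hc1R)) ⟨φ₀ (α⁻¹ r), ⟨α⁻¹ r, rfl⟩⟩ = φ₀ (β (α⁻¹ r)) := by
    show φ₀ ⟨((β ⟨ψ₀ ⟨φ₀ (α⁻¹ r), ⟨α⁻¹ r, rfl⟩⟩, hψ₀R _⟩ : R) : Ω), _⟩ = φ₀ (β (α⁻¹ r))
    congr 1
    apply Subtype.ext
    show ((β ⟨ψ₀ ⟨φ₀ (α⁻¹ r), ⟨α⁻¹ r, rfl⟩⟩, hψ₀R _⟩ : R) : Ω) = ((β (α⁻¹ r) : R) : Ω)
    rw [h5]
  congr 2
  exact Subtype.ext h6.symm

variable {G : Type*} [Group G]

/-- A `p`-element of `N_G(R)`, `R` fully normalized, induces an `E`-automorphism of `R`. -/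
theorem conj_mem_of_pow [Finite G] (p : ℕ) [Fact p.Prime] (S : Sylow p G)
    (E : FusionSystem (S : Subgroup G))
    (hnormal : ∀ (R : Subgroup G), R ≤ (S : Subgroup G) → ∀ (α β : MulAut R),
      α ∈ (groupFusionSystem (S : Subgroup G)).autGroup R → β ∈ E.autGroup R →
        α * β * α⁻¹ ∈ E.autGroup R)
    {R : Subgroup G} (hR : (groupFusionSystem (S : Subgroup G)).IsFullyNormalized R)
    (g : G) (hg : g ∈ Subgroup.normalizer (R : Set G)) (k : ℕ) (hk : orderOf g = p ^ k) :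
    R.normalizerMonoidHom ⟨g, hg⟩ ∈ E.autGroup R := by
  have hRS := hR.1
  have hfa : (groupFusionSystem (S : Subgroup G)).IsFullyAutomized p R :=
    Cfsg.Agent.S5076.fullyAutomized_of_sylIn _ S.2 hRS
      (Cfsg.Agent.S5076.sylIn_of_fullyNormalized S hR)
  have hcF : R.normalizerMonoidHom ⟨g, hg⟩ ∈ (groupFusionSystem (S : Subgroup G)).autGroup R := by
    rw [Cfsg.Agent.S5076.autGroup_eq _ hRS]
    exact conj_mem_autInducedBy (Subgroup.mem_top g) hg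
  have hpow : (R.normalizerMonoidHom ⟨g, hg⟩) ^ (p ^ k) = 1 := by
    rw [← map_pow]
    have : (⟨g, hg⟩ : Subgroup.normalizer (R : Set G)) ^ (p ^ k) = 1 := by
      apply Subtype.ext
      show g ^ (p ^ k) = 1
      rw [← hk]
      exact pow_orderOf_eq_one g
    rw [this, map_one]
  have hKp : IsPGroup p (Subgroup.zpowers (R.normalizerMonoidHom ⟨g, hg⟩)) := by
    rintro ⟨x, hx⟩
    obtain ⟨n, rfl⟩ := Subgroup.mem_zpowers_iff.mp hx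
    refine ⟨k, Subtype.ext ?_⟩
    show ((R.normalizerMonoidHom ⟨g, hg⟩) ^ n) ^ (p ^ k) = 1
    rw [← zpow_natCast, ← zpow_mul, mul_comm, zpow_mul, zpow_natCast, hpow, one_zpow]
  obtain ⟨χ, hχ, hχK⟩ := exists_conj_le_autS (groupFusionSystem (S : Subgroup G)) hfa _ hKp
    (by rw [Subgroup.zpowers_le]; exact hcF)
  have h1 := hχK _ (Subgroup.mem_zpowers _)
  have h2 : χ * R.normalizerMonoidHom ⟨g, hg⟩ * χ⁻¹ ∈ E.autGroup R :=
    autInducedBy_le_autGroup E hRS h1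
  have h3 := hnormal R hRS χ⁻¹ _ (Subgroup.inv_mem _ hχ) h2
  have h4 : χ⁻¹ * (χ * R.normalizerMonoidHom ⟨g, hg⟩ * χ⁻¹) * χ⁻¹⁻¹ =
      R.normalizerMonoidHom ⟨g, hg⟩ := by group
  rwa [h4] at h3

theorem hom_le [Finite G] (p : ℕ) [Fact p.Prime] (S : Sylow p G)
    (E : FusionSystem (S : Subgroup G)) (hEsat : E.IsSaturated p)
    (hsub : E.IsSubsystemOf (groupFusionSystem (S : Subgroup G)))
    (hinvar : ∀ (P : Subgroup G) (hPT : P ≤ (S : Subgroup G)) (φ : P →* G), φ ∈ E.Hom P →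
      ∀ α ∈ (groupFusionSystem (S : Subgroup G)).autGroup (S : Subgroup G),
      ∃ χ ∈ E.Hom ((P.subgroupOf (S : Subgroup G)).map
          ((S : Subgroup G).subtype.comp α.toMonoidHom)),
        ∀ (x : P) (hφx : φ x ∈ (S : Subgroup G))
          (hαx : ((α ⟨x, hPT x.2⟩ : (S : Subgroup G)) : G) ∈
            (P.subgroupOf (S : Subgroup G)).map ((S : Subgroup G).subtype.comp α.toMonoidHom)),
          χ ⟨(α ⟨x, hPT x.2⟩ : (S : Subgroup G)), hαx⟩ =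
            ((α ⟨φ x, hφx⟩ : (S : Subgroup G)) : G))
    (hfrat : ∀ (P : Subgroup G), P ≤ (S : Subgroup G) → ∀ (φ : P →* G),
      φ ∈ (groupFusionSystem (S : Subgroup G)).Hom P →
      ∃ α ∈ (groupFusionSystem (S : Subgroup G)).autGroup (S : Subgroup G), ∃ φ₀ ∈ E.Hom P,
        ∀ (x : P) (hx : φ₀ x ∈ (S : Subgroup G)),
          φ x = ((α ⟨φ₀ x, hx⟩ : (S : Subgroup G)) : G))
    (hb : Cfsg.autInducedBy ⊤ (S : Subgroup G) = ⨆ (R : Subgroup G) (_ : (Cfsg.groupFusionSystem (S : Subgroup G)).IsFullyNormalized R ∧ (Cfsg.groupFusionSystem (S : Subgroup G)).IsRadical p R ∧ (Cfsg.groupFusionSystem (S : Subgroup G)).IsCentric R), Cfsg.autInducedBy (Subgroup.closure {g : G | g ∈ Subgroup.normalizer (R : Set G) ∧ ∃ k : ℕ, orderOf g = p ^ k}) (S : Subgroup G)) :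
    ∀ P : Subgroup G, (groupFusionSystem (S : Subgroup G)).Hom P ⊆ E.Hom P := by
  have hsat := Cfsg.Agent.S5076.result p S
  have hnormal : ∀ (R : Subgroup G), R ≤ (S : Subgroup G) → ∀ (α β : MulAut R),
      α ∈ (groupFusionSystem (S : Subgroup G)).autGroup R → β ∈ E.autGroup R →
        α * β * α⁻¹ ∈ E.autGroup R := fun R hRS α β hα hβ =>
    conj_mem_autGroup (groupFusionSystem (S : Subgroup G)) E hinvar hfrat hRS α β hα hβ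
  have hAut : autInducedBy ⊤ (S : Subgroup G) ≤ E.autGroup (S : Subgroup G) := by
    rw [hb]
    refine iSup_le fun R => iSup_le fun hR => ?_
    obtain ⟨hfn, -, hcen⟩ := hR
    have hRS := hfn.1
    have hK : ∀ g ∈ Subgroup.closure {g : G | g ∈ Subgroup.normalizer (R : Set G) ∧
        ∃ k : ℕ, orderOf g = p ^ k},
        ∃ hg : g ∈ Subgroup.normalizer (R : Set G),
          R.normalizerMonoidHom ⟨g, hg⟩ ∈ E.autGroup R := by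
      intro g hg
      have hle : Subgroup.closure {g : G | g ∈ Subgroup.normalizer (R : Set G) ∧
          ∃ k : ℕ, orderOf g = p ^ k} ≤
          ((E.autGroup R).comap R.normalizerMonoidHom).map
            (Subgroup.normalizer (R : Set G)).subtype := by
        rw [Subgroup.closure_le]
        rintro x ⟨hxN, k, hk⟩
        exact ⟨⟨x, hxN⟩, conj_mem_of_pow p S E hnormal hfn x hxN k hk, rfl⟩
      obtain ⟨n, hn, rfl⟩ := hle hg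
      exact ⟨n.2, hn⟩
    intro α hα
    obtain ⟨g, hgK, hgα⟩ := (mem_autInducedBy_iff α).mp hα
    obtain ⟨hgN, hgE⟩ := hK g hgK
    rw [mem_autGroup_iff E le_rfl]
    have hψF : (S : Subgroup G).subtype.comp α.toMonoidHom ∈
        (groupFusionSystem (S : Subgroup G)).Hom (S : Subgroup G) :=
      ⟨le_rfl, fun x => (α x).2, g, fun x => hgα x⟩
    refine Cfsg.Agent.Lib.Helper88.SubCentric.mem_of_restrict_centric S.2 _ hsat E hEsat hsub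
      (Nat.card (S : Subgroup G)) _ R (Nat.le_add_left _ _) hRS hcen _ hψF ?_
    refine mem_of_eq E (autGroup_hom E hRS hgE) fun x => ?_
    exact hgα _
  intro P φ hφ
  have hPS := hφ.1
  obtain ⟨α, hα, φ₀, hφ₀, hfac⟩ := hfrat P hPS φ hφ
  have hαE : α ∈ E.autGroup (S : Subgroup G) :=
    hAut (by rw [← Cfsg.Agent.S5076.autGroup_eq _ le_rfl]; exact hα)
  have hφ₀S : ∀ x : P, φ₀ x ∈ (S : Subgroup G) := fun x => (E.le_of_mem hφ₀).2 x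
  exact comp_mem_of_eq E hφ₀ (autGroup_hom E le_rfl hαE) hφ₀S (fun x => hfac x (hφ₀S x))

theorem result {G : Type*} [Group G] [Finite G] (p : ℕ) [Fact p.Prime] (S : Sylow p G) (hS1 : (S : Subgroup G) ≠ ⊥) (ha : ∀ T : Subgroup G, (Cfsg.groupFusionSystem (S : Subgroup G)).StronglyClosed T → T = ⊥ ∨ T = (S : Subgroup G)) (hb : Cfsg.autInducedBy ⊤ (S : Subgroup G) = ⨆ (R : Subgroup G) (_ : (Cfsg.groupFusionSystem (S : Subgroup G)).IsFullyNormalized R ∧ (Cfsg.groupFusionSystem (S : Subgroup G)).IsRadical p R ∧ (Cfsg.groupFusionSystem (S : Subgroup G)).IsCentric R), Cfsg.autInducedBy (Subgroup.closure {g : G | g ∈ Subgroup.normalizer (R : Set G) ∧ ∃ k : ℕ, orderOf g = p ^ k}) (S : Subgroup G)) : (Cfsg.groupFusionSystem (S : Subgroup G)).IsSimple p := by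
  have hsat := Cfsg.Agent.S5076.result p S
  refine ⟨hsat, hS1, ?_⟩
  intro T E hE
  obtain ⟨⟨hEsat, -, hsub, hTsc, hinvar, hfrat⟩, -⟩ := hE
  rcases ha T hTsc with hT | hTS
  · exact Or.inl hT
  · right
    refine ⟨hTS, ?_⟩
    subst hTS
    intro P
    exact Set.Subset.antisymm (hsub P) (hom_le p S E hEsat hsub hinvar hfrat hb P)

end Cfsg.Agent.S5160
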