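import Cfsg.Statements.S5187
import Cfsg.Agent.Lib.Helper87.FSSat
import Cfsg.Agent.Lib.Helper86.Essential
import Cfsg.Agent.Lib.Helper88.Rank2
-- import your own Cfsg.Agent.* helpers here

set_option autoImplicit false
universe u
open Cfsg

namespace Cfsg.Agent.S5187

/-- Let F be a saturated fusion system over a finite p-group S and H an abelian essential subgroup that can be generated by two elements (its Frattini quotient has order at most p²). Then H is elementary abelian of order p², or p ≤ 3 and H is homocyclic of rank two, that is isomorphic to C_{pᵏ} × C_{pᵏ} for some k. -/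
theorem result {Ω : Type u} [Group Ω] {S : Subgroup Ω} [Finite S] (p : ℕ) [Fact p.Prime] (hS : IsPGroup p S)
    (F : Cfsg.FusionSystem S) (hF : F.IsSaturated p) (H : Subgroup Ω) (hH : F.IsEssential p H) (hab : IsMulCommutative ↥H) (hrk : (frattini ↥H).index ≤ p ^ 2) :
    (Cfsg.IsElementaryAbelian p H ∧ Nat.card H = p ^ 2) ∨
      (p ≤ 3 ∧ ∃ k : ℕ, Nonempty (↥H ≃* Multiplicative (ZMod (p ^ k) × ZMod (p ^ k)))) := by
  obtain ⟨hcen, -, hnorm, E, hE⟩ := hH
  have hHS : H ≤ S := hcen.1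
  haveI : Finite H := Cfsg.Agent.Lib.Helper87.FSSat.finite_of_le hHS
  have hHp : IsPGroup p H := hS.to_le hHS
  haveI := hnorm
  have hInn : ∀ α : MulAut H, α ∈ Cfsg.Inn H → α = 1 := by
    rintro α ⟨h, rfl⟩
    ext x
    show ((h * x * h⁻¹ : H) : Ω) = x
    rw [hab.is_comm.comm h x, mul_inv_cancel_right]
  have hA1 : ∀ N : Subgroup (MulAut H), IsPGroup p N →
      (∀ a ∈ F.autGroup H, ∀ n ∈ N, a * n * a⁻¹ ∈ N) → ∀ n ∈ N, n ∈ F.autGroup H → n = 1 := by
    intro N hN hnormN n hn hnA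
    have hN'n : (N.subgroupOf (F.autGroup H)).Normal := by
      constructor
      intro m hm g
      exact hnormN g g.2 m hm
    have hN'p : IsPGroup p (N.subgroupOf (F.autGroup H)) :=
      hN.comap_of_injective _ (Subgroup.subtype_injective _)
    have hle := Cfsg.Agent.Lib.Helper86.Essential.normal_pgroup_le_of_quotient
      ((Cfsg.Inn H).subgroupOf (F.autGroup H)) E hE _ hN'n hN'p
    have h1 : (⟨n, hnA⟩ : F.autGroup H) ∈ (Cfsg.Inn H).subgroupOf (F.autGroup H) :=
      hle (Subgroup.mem_subgroupOf.mpr hn)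
    exact hInn n (Subgroup.mem_subgroupOf.mp h1)
  have hdvd : p ∣ Nat.card (F.autGroup H) := by
    have h1 : p ∣ Nat.card (F.autGroup H ⧸ (Cfsg.Inn H).subgroupOf (F.autGroup H)) := hE.1
    exact h1.trans (Subgroup.card_quotient_dvd_card _)
  obtain ⟨σ', hσ'⟩ := exists_prime_orderOf_dvd_card' p hdvd
  have hσ : orderOf (σ' : MulAut H) = p := by rw [Subgroup.orderOf_coe]; exact hσ'
  letI inst : CommGroup ↥H := { (inferInstance : Group ↥H) with mul_comm := hab.is_comm.comm }
  rcases Cfsg.Agent.Lib.Helper88.Rank2.core hHp hrk (F.autGroup H) hA1 (σ' : MulAut H) σ'.2 hσ with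
    ⟨hexp, hcard⟩ | ⟨hp3, k, hk⟩
  · left
    refine ⟨⟨hab, fun a ha => ?_⟩, hcard⟩
    exact congrArg Subtype.val (hexp ⟨a, ha⟩)
  · right
    exact ⟨hp3, k, hk⟩

end Cfsg.Agent.S5187
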