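import Cfsg.Statements.S3897
import Mathlib

set_option autoImplicit false
open Cfsg

namespace Cfsg.Agent.S3897

section Aux

variable {G : Type*} [Group G]

/-- the normalizer of `P` -/
abbrev Nz (P : Subgroup G) : Subgroup G := Subgroup.normalizer (P : Set G)

/-- conjugation action of the normalizer of `P` on `P` -/
instance nAct (P : Subgroup G) : MulAction (Nz P) P where
  smul n x := ⟨(n : G) * x * (n : G)⁻¹, (Subgroup.mem_normalizer_iff.mp n.2 x).mp x.2⟩
  one_smul x := Subtype.ext (by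
    show ((1 : Nz P) : G) * x * ((1 : Nz P) : G)⁻¹ = x
    simp)
  mul_smul a b x := Subtype.ext (by
    show ((a * b : Nz P) : G) * x * ((a * b : Nz P) : G)⁻¹
      = (a : G) * ((b : G) * x * (b : G)⁻¹) * (a : G)⁻¹
    simp [mul_assoc])

theorem smul_coe (P : Subgroup G) (n : Nz P) (x : P) :
    ((n • x : P) : G) = (n : G) * x * (n : G)⁻¹ := rfl

/-- the elements of `P` commuting with `g` -/
def fixSub (P : Subgroup G) (g : G) : Subgroup P where
  carrier := {x : P | Commute g (x : G)}
  mul_mem' := fun {a b} ha hb => by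
    show Commute g ((a * b : P) : G)
    rw [Subgroup.coe_mul]; exact Commute.mul_right ha hb
  one_mem' := by
    show Commute g ((1 : P) : G)
    rw [Subgroup.coe_one]; exact Commute.one_right g
  inv_mem' := fun {a} ha => by
    show Commute g ((a⁻¹ : P) : G)
    rw [Subgroup.coe_inv]; exact Commute.inv_right ha

theorem mem_fixSub (P : Subgroup G) (g : G) (x : P) : x ∈ fixSub P g ↔ g * (x : G) = x * g :=
  Iff.rfl

theorem card_fixedBy (P : Subgroup G) (n : Nz P) :
    Nat.card (MulAction.fixedBy P n) = Nat.card (fixSub P (n : G)) := by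
  refine Nat.card_congr (Equiv.subtypeEquivRight (fun x => ?_))
  rw [MulAction.mem_fixedBy, mem_fixSub]
  constructor
  · intro h
    have h1 : (n : G) * x * (n : G)⁻¹ = x := by rw [← smul_coe, h]
    exact mul_inv_eq_iff_eq_mul.mp h1
  · intro h
    apply Subtype.ext
    rw [smul_coe]
    exact mul_inv_eq_iff_eq_mul.mpr h

theorem fix_lt [Finite G] {p : ℕ} [Fact p.Prime] (P : Sylow p G) (g : G)
    (hg : g ∉ Subgroup.centralizer ((P : Subgroup G) : Set G)) :
    p * Nat.card (fixSub (P : Subgroup G) g) ≤ Nat.card (P : Subgroup G) := by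
  have hne : fixSub (P : Subgroup G) g ≠ ⊤ := by
    intro h
    apply hg
    rw [Subgroup.mem_centralizer_iff]
    intro x hx
    have h1 : (⟨x, hx⟩ : (P : Subgroup G)) ∈ fixSub (P : Subgroup G) g := by
      rw [h]; exact Subgroup.mem_top _
    exact ((mem_fixSub _ _ _).mp h1).symm
  obtain ⟨k, hk⟩ := (P.isPGroup').index (fixSub (P : Subgroup G) g)
  have hk0 : k ≠ 0 := by
    rintro rfl
    rw [pow_zero] at hk
    exact hne (Subgroup.index_eq_one.mp hk)
  have hdvd : p ∣ (fixSub (P : Subgroup G) g).index := by rw [hk]; exact dvd_pow_self p hk0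
  have hcm := Subgroup.card_mul_index (fixSub (P : Subgroup G) g)
  obtain ⟨t, ht⟩ := hdvd
  have hpos : 0 < Nat.card (P : Subgroup G) := Nat.card_pos
  have ht0 : 0 < t := by
    rcases Nat.eq_zero_or_pos t with h | h
    · rw [ht, h, mul_zero, mul_zero] at hcm
      omega
    · exact h
  rw [ht] at hcm
  calc p * Nat.card (fixSub (P : Subgroup G) g)
      ≤ p * Nat.card (fixSub (P : Subgroup G) g) * t := Nat.le_mul_of_pos_right _ ht0
    _ = Nat.card (fixSub (P : Subgroup G) g) * (p * t) := by ring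
    _ = Nat.card (P : Subgroup G) := hcm

theorem cls_mem {p : ℕ} [Fact p.Prime] (P : Sylow p G) (x : (P : Subgroup G)) :
    ∀ y ∈ (ConjClasses.mk (x : G)).carrier, ∃ k : ℕ, orderOf y = p ^ k := by
  intro y hy
  rw [ConjClasses.mem_carrier_iff_mk_eq, ConjClasses.mk_eq_mk_iff_isConj, isConj_iff] at hy
  obtain ⟨c, hc⟩ := hy
  obtain ⟨k, hk⟩ := (IsPGroup.iff_orderOf.mp P.isPGroup') x
  refine ⟨k, ?_⟩
  rw [← hk, ← Subgroup.orderOf_coe x, ← hc]
  have h1 := orderOf_injective (MulAut.conj c).toMonoidHom (MulAut.conj c).injective y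
  simpa [MulAut.conj_apply] using h1.symm

theorem rep [Finite G] {p : ℕ} [Fact p.Prime] (P : Sylow p G)
    (c : {c : ConjClasses G // ∀ x ∈ c.carrier, ∃ k : ℕ, orderOf x = p ^ k}) :
    ∃ x : ↥(P : Subgroup G), ConjClasses.mk (x : G) = c.1 := by
  obtain ⟨g, hg⟩ := ConjClasses.exists_rep c.1
  obtain ⟨k, hk⟩ := c.2 g (by rw [ConjClasses.mem_carrier_iff_mk_eq]; exact hg)
  have hpg : IsPGroup p (Subgroup.zpowers g) :=
    IsPGroup.of_card (by rw [Nat.card_zpowers]; exact hk)
  obtain ⟨Q, hQ⟩ := hpg.exists_le_sylow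
  obtain ⟨h, hh⟩ := MulAction.exists_smul_eq G Q P
  have hgQ : g ∈ (Q : Subgroup G) := hQ (Subgroup.mem_zpowers g)
  have hmem : h * g * h⁻¹ ∈ (P : Subgroup G) := by
    rw [← hh, Sylow.coe_subgroup_smul]
    have h1 := Subgroup.smul_mem_pointwise_smul g (MulAut.conj h) (Q : Subgroup G) hgQ
    simpa [MulAut.smul_def] using h1
  refine ⟨⟨h * g * h⁻¹, hmem⟩, ?_⟩
  rw [← hg, ConjClasses.mk_eq_mk_iff_isConj]
  exact (isConj_iff.mpr ⟨h, rfl⟩).symm

theorem card_cls_le [Finite G] {p : ℕ} [Fact p.Prime] (P : Sylow p G) :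
    Nat.card {c : ConjClasses G // ∀ x ∈ c.carrier, ∃ k : ℕ, orderOf x = p ^ k} ≤
      Nat.card (Quotient (MulAction.orbitRel (Nz (P : Subgroup G)) (P : Subgroup G))) := by
  classical
  let f : ↥(P : Subgroup G) →
      {c : ConjClasses G // ∀ x ∈ c.carrier, ∃ k : ℕ, orderOf x = p ^ k} :=
    fun x => ⟨ConjClasses.mk (x : G), cls_mem P x⟩
  have hf : ∀ a b : ↥(P : Subgroup G),
      MulAction.orbitRel (Nz (P : Subgroup G)) (P : Subgroup G) a b → f a = f b := by
    intro a b hab
    rw [MulAction.orbitRel_apply, MulAction.mem_orbit_iff] at hab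
    obtain ⟨n, hn⟩ := hab
    apply Subtype.ext
    show ConjClasses.mk (a : G) = ConjClasses.mk (b : G)
    rw [ConjClasses.mk_eq_mk_iff_isConj]
    refine (isConj_iff.mpr ⟨(n : G), ?_⟩).symm
    rw [← smul_coe, hn]
  refine Nat.card_le_card_of_surjective (Quotient.lift f hf) ?_
  intro c
  obtain ⟨x, hx⟩ := rep P c
  exact ⟨Quotient.mk _ x, Subtype.ext hx⟩

theorem count [Finite G] {p : ℕ} [Fact p.Prime] (P : Sylow p G)
    (hne : ¬ Subgroup.normalizer ((P : Subgroup G) : Set G) ≤
      Subgroup.centralizer ((P : Subgroup G) : Set G)) :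
    2 * p * Nat.card (Quotient (MulAction.orbitRel (Nz (P : Subgroup G)) (P : Subgroup G))) ≤
      (p + 1) * Nat.card (P : Subgroup G) := by
  classical
  haveI : Fintype (Nz (P : Subgroup G)) := Fintype.ofFinite _
  haveI : Fintype (Quotient (MulAction.orbitRel (Nz (P : Subgroup G)) (P : Subgroup G))) :=
    Fintype.ofFinite _
  haveI : ∀ n : Nz (P : Subgroup G), Fintype (MulAction.fixedBy (P : Subgroup G) n) :=
    fun n => Fintype.ofFinite _
  have hB := MulAction.sum_card_fixedBy_eq_card_orbits_mul_card_group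
    (Nz (P : Subgroup G)) (P : Subgroup G)
  simp only [Fintype.card_eq_nat_card] at hB
  let C : Subgroup (Nz (P : Subgroup G)) :=
    (Subgroup.centralizer ((P : Subgroup G) : Set G)).subgroupOf (Nz (P : Subgroup G))
  have hC : C ≠ ⊤ := by
    intro hC
    apply hne
    intro n hn
    have h1 : (⟨n, hn⟩ : Nz (P : Subgroup G)) ∈ C := by rw [hC]; exact Subgroup.mem_top _
    exact Subgroup.mem_subgroupOf.mp h1
  have h2 : 2 * Nat.card C ≤ Nat.card (Nz (P : Subgroup G)) := by
    have h1 : 1 < C.index := Subgroup.one_lt_index_of_ne_top hC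
    have h3 := Subgroup.card_mul_index C
    nlinarith
  have hf1 : ∀ n : Nz (P : Subgroup G),
      Nat.card (MulAction.fixedBy (P : Subgroup G) n) ≤ Nat.card (P : Subgroup G) := by
    intro n
    rw [card_fixedBy]
    exact Nat.card_le_card_of_injective
      (fun x : fixSub (P : Subgroup G) (n : G) => (x : (P : Subgroup G))) Subtype.coe_injective
  have hf2 : ∀ n : Nz (P : Subgroup G), n ∉ C →
      p * Nat.card (MulAction.fixedBy (P : Subgroup G) n) ≤ Nat.card (P : Subgroup G) := by
    intro n hn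
    rw [card_fixedBy]
    exact fix_lt P (n : G) (fun h => hn (Subgroup.mem_subgroupOf.mpr h))
  have hsum : p * ∑ n : Nz (P : Subgroup G), Nat.card (MulAction.fixedBy (P : Subgroup G) n) ≤
      (Finset.univ.filter (fun n : Nz (P : Subgroup G) => n ∈ C)).card *
          (p * Nat.card (P : Subgroup G)) +
        (Finset.univ.filter (fun n : Nz (P : Subgroup G) => ¬ n ∈ C)).card *
          Nat.card (P : Subgroup G) := by
    rw [Finset.mul_sum,
      ← Finset.sum_filter_add_sum_filter_not Finset.univ (fun n : Nz (P : Subgroup G) => n ∈ C)]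
    apply add_le_add
    · have h := Finset.sum_le_card_nsmul
        (Finset.univ.filter (fun n : Nz (P : Subgroup G) => n ∈ C))
        (fun n => p * Nat.card (MulAction.fixedBy (P : Subgroup G) n))
        (p * Nat.card (P : Subgroup G)) (fun n _ => Nat.mul_le_mul_left p (hf1 n))
      rwa [smul_eq_mul] at h
    · have h := Finset.sum_le_card_nsmul
        (Finset.univ.filter (fun n : Nz (P : Subgroup G) => ¬ n ∈ C))
        (fun n => p * Nat.card (MulAction.fixedBy (P : Subgroup G) n))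
        (Nat.card (P : Subgroup G)) (fun n hn => hf2 n (Finset.mem_filter.mp hn).2)
      rwa [smul_eq_mul] at h
  have hc12 : (Finset.univ.filter (fun n : Nz (P : Subgroup G) => n ∈ C)).card +
      (Finset.univ.filter (fun n : Nz (P : Subgroup G) => ¬ n ∈ C)).card =
        Nat.card (Nz (P : Subgroup G)) := by
    rw [Finset.card_filter_add_card_filter_not, Finset.card_univ, Fintype.card_eq_nat_card]
  have hc1 : (Finset.univ.filter (fun n : Nz (P : Subgroup G) => n ∈ C)).card = Nat.card C :=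
    (Nat.subtype_card _ (fun x => by simp)).symm
  rw [hB] at hsum
  have hp1 : 1 ≤ p := (Fact.out : p.Prime).one_lt.le
  have hNpos : 0 < Nat.card (Nz (P : Subgroup G)) := Nat.card_pos
  generalize (Finset.univ.filter (fun n : Nz (P : Subgroup G) => n ∈ C)).card = c₁
    at hc12 hc1 hsum
  generalize (Finset.univ.filter (fun n : Nz (P : Subgroup G) => ¬ n ∈ C)).card = c₂
    at hc12 hsum
  generalize Nat.card (P : Subgroup G) = Pc at hsum ⊢
  generalize Nat.card (Quotient (MulAction.orbitRel (Nz (P : Subgroup G)) (P : Subgroup G))) = Q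
    at hsum ⊢
  generalize Nat.card (Nz (P : Subgroup G)) = Nn at hc12 h2 hsum hNpos
  generalize Nat.card C = cC at hc1 h2
  have hle : c₁ ≤ c₂ := by omega
  obtain ⟨t, ht⟩ := Nat.exists_eq_add_of_le hle
  obtain ⟨q, hq⟩ : ∃ q, p = q + 1 := ⟨p - 1, by omega⟩
  have key : 2 * (c₁ * (p * Pc) + c₂ * Pc) ≤ (p + 1) * Pc * (c₁ + c₂) := by
    rw [ht, hq]
    nlinarith [Nat.zero_le (t * q * Pc)]
  have h3 : 2 * p * Q * Nn ≤ (p + 1) * Pc * Nn := by
    calc 2 * p * Q * Nn = 2 * (p * (Q * Nn)) := by ring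
      _ ≤ 2 * (c₁ * (p * Pc) + c₂ * Pc) := Nat.mul_le_mul_left 2 hsum
      _ ≤ (p + 1) * Pc * (c₁ + c₂) := key
      _ = (p + 1) * Pc * Nn := by rw [hc12]
  exact Nat.le_of_mul_le_mul_right h3 hNpos

theorem norm_le_cent [Finite G] {p : ℕ} [Fact p.Prime] (P : Sylow p G)
    (h : (p + 1) * Nat.card ↥(P : Subgroup G) <
      2 * p * Nat.card {c : ConjClasses G // ∀ x ∈ c.carrier, ∃ k : ℕ, orderOf x = p ^ k}) :
    Subgroup.normalizer ((P : Subgroup G) : Set G) ≤
      Subgroup.centralizer ((P : Subgroup G) : Set G) := by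
  by_contra hne
  have h1 := count P hne
  have h2 := card_cls_le P
  have h3 : 2 * p * Nat.card {c : ConjClasses G // ∀ x ∈ c.carrier, ∃ k : ℕ, orderOf x = p ^ k} ≤
      2 * p * Nat.card (Quotient (MulAction.orbitRel (Nz (P : Subgroup G)) (P : Subgroup G))) :=
    Nat.mul_le_mul_left _ h2
  exact absurd (lt_of_lt_of_le h (h3.trans h1)) (lt_irrefl _)

theorem card_le_cls [Finite G] {p : ℕ} [Fact p.Prime] (P : Sylow p G)
    (hnc : Cfsg.HasNormalPComplement p G) (hcomm : IsMulCommutative ↥(P : Subgroup G)) :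
    Nat.card ↥(P : Subgroup G) ≤
      Nat.card {c : ConjClasses G // ∀ x ∈ c.carrier, ∃ k : ℕ, orderOf x = p ^ k} := by
  obtain ⟨P', K, hKn, hKc⟩ := hnc
  have hKP : K.IsComplement' (P : Subgroup G) := by
    apply Subgroup.isComplement'_of_coprime
    · rw [Sylow.card_eq_multiplicity P, ← Sylow.card_eq_multiplicity P']
      exact hKc.card_mul_card
    · have h1 := Sylow.card_coprime_index P'
      rw [hKc.index_eq_card] at h1
      rw [Sylow.card_eq_multiplicity P, ← Sylow.card_eq_multiplicity P']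
      exact h1.symm
  have hdisj : Disjoint K (P : Subgroup G) := hKP.disjoint
  let f : ↥(P : Subgroup G) →
      {c : ConjClasses G // ∀ x ∈ c.carrier, ∃ k : ℕ, orderOf x = p ^ k} :=
    fun x => ⟨ConjClasses.mk (x : G), cls_mem P x⟩
  have hf : Function.Injective f := by
    intro x y hxy
    have h1 : ConjClasses.mk (x : G) = ConjClasses.mk (y : G) := congrArg Subtype.val hxy
    rw [ConjClasses.mk_eq_mk_iff_isConj, isConj_iff] at h1
    obtain ⟨g, hg⟩ := h1
    obtain ⟨⟨⟨k, hk⟩, ⟨u, hu⟩⟩, hku⟩ := (Subgroup.isComplement'_def.mp hKP).2 g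
    have hku' : k * u = g := hku
    have hux : u * (x : G) * u⁻¹ = x := by
      have h2 := hcomm.is_comm.comm (⟨u, hu⟩ : (P : Subgroup G)) x
      have h3 : u * (x : G) = x * u := congrArg Subtype.val h2
      rw [h3, mul_inv_cancel_right]
    have hy : (y : G) = k * x * k⁻¹ := by
      rw [← hg, ← hku']
      calc k * u * x * (k * u)⁻¹ = k * (u * x * u⁻¹) * k⁻¹ := by group
        _ = k * x * k⁻¹ := by rw [hux]
    have hmemK : (x : G)⁻¹ * y ∈ K := by
      rw [hy]
      have h3 : (x : G)⁻¹ * k * ((x : G)⁻¹)⁻¹ ∈ K := hKn.conj_mem k hk _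
      have h4 : (x : G)⁻¹ * (k * x * k⁻¹) = ((x : G)⁻¹ * k * ((x : G)⁻¹)⁻¹) * k⁻¹ := by group
      rw [h4]; exact K.mul_mem h3 (K.inv_mem hk)
    have hmemP : (x : G)⁻¹ * y ∈ (P : Subgroup G) :=
      (P : Subgroup G).mul_mem ((P : Subgroup G).inv_mem x.2) y.2
    have h5 : (x : G)⁻¹ * y = 1 := by
      have h6 : (x : G)⁻¹ * y ∈ K ⊓ (P : Subgroup G) := ⟨hmemK, hmemP⟩
      rw [hdisj.eq_bot] at h6
      exact Subgroup.mem_bot.mp h6
    exact Subtype.ext (inv_mul_eq_one.mp h5)
  exact Nat.card_le_card_of_injective f hf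

end Aux

/-- Let p be an odd prime and G a finite group with Sylow p-subgroup P, and write k_p(G) for the number of conjugacy classes of G consisting of p-elements (elements of p-power order, the identity included). Then k_p(G) > (p + 1)|P|/(2p) if and only if G has a normal p-complement and P is abelian. -/
theorem result {G : Type*} [Group G] [Finite G] {p : ℕ} [Fact p.Prime] (hp : p ≠ 2) (P : Sylow p G) :
    (p + 1) * Nat.card ↥(P : Subgroup G) < 2 * p * Nat.card {c : ConjClasses G // ∀ x ∈ c.carrier, ∃ k : ℕ, orderOf x = p ^ k} ↔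
      Cfsg.HasNormalPComplement p G ∧ IsMulCommutative ↥(P : Subgroup G) := by
  constructor
  · intro h
    have hnc := norm_le_cent P h
    refine ⟨⟨P, (MonoidHom.transferSylow P hnc).ker, inferInstance,
      MonoidHom.ker_transferSylow_isComplement' P hnc⟩, ?_⟩
    refine ⟨⟨fun a b => ?_⟩⟩
    have ha : (a : G) ∈ Subgroup.centralizer ((P : Subgroup G) : Set G) :=
      hnc (Subgroup.le_normalizer a.2)
    rw [Subgroup.mem_centralizer_iff] at ha
    exact Subtype.ext (ha b b.2).symm
  · rintro ⟨hnc, hcomm⟩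
    have hinj := card_le_cls P hnc hcomm
    have hp2 : 2 ≤ p := (Fact.out : p.Prime).two_le
    have hpos : 0 < Nat.card (P : Subgroup G) := Nat.card_pos
    calc (p + 1) * Nat.card ↥(P : Subgroup G) < 2 * p * Nat.card ↥(P : Subgroup G) := by nlinarith
      _ ≤ 2 * p * Nat.card {c : ConjClasses G // ∀ x ∈ c.carrier, ∃ k : ℕ, orderOf x = p ^ k} :=
          Nat.mul_le_mul_left _ hinj

end Cfsg.Agent.S3897
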