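import Cfsg.Statements.S0803
import Cfsg.Agent.Lib.Helper14.Tri
import Cfsg.Agent.Lib.Helper5.SL2Card
import Cfsg.Agent.Lib.Helper42.SL2Even
import Cfsg.Agent.S2530

set_option autoImplicit false
open Cfsg

namespace Cfsg.Agent.S0803

open Matrix Cfsg.Agent.Lib.Helper14.Tri Cfsg.Agent.Lib.Helper59.PSL2Spec

set_option maxRecDepth 100000 in
theorem S4_nc : ∀ g : Equiv.Perm (Fin 4), g ≠ 1 → ∃ h k : Equiv.Perm (Fin 4),
    h * g * h⁻¹ * (k * g⁻¹ * k⁻¹) = Equiv.swap 0 1 * Equiv.swap 2 3 := by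
  decide +kernel

theorem pow_comm_of_sq {G : Type*} [Group G] {a b : G} (ha : a ^ 2 = 1) (hb : b ^ 2 = 1) (n : ℕ)
    (h : (a * b) ^ n = 1) : (b * a) ^ n = 1 := by
  have hai : a⁻¹ = a := inv_eq_of_mul_eq_one_left (by rw [← pow_two]; exact ha)
  have hbi : b⁻¹ = b := inv_eq_of_mul_eq_one_left (by rw [← pow_two]; exact hb)
  have : b * a = (a * b)⁻¹ := by rw [_root_.mul_inv_rev, hai, hbi]
  rw [this, inv_pow, h, inv_one]

/-- three involutions with the Coxeter relations of type `A₃` and `s₁ s₃ ≠ 1` generate `S₄` -/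
theorem exists_S4 {G : Type*} [Group G] (s₁ s₂ s₃ : G) (h1 : s₁ ^ 2 = 1) (h2 : s₂ ^ 2 = 1)
    (h3 : s₃ ^ 2 = 1) (h12 : (s₁ * s₂) ^ 3 = 1) (h23 : (s₂ * s₃) ^ 3 = 1)
    (h13 : (s₁ * s₃) ^ 2 = 1) (hne : s₁ * s₃ ≠ 1) :
    ∃ H : Subgroup G, Nonempty (H ≃* Equiv.Perm (Fin 4)) := by
  obtain ⟨cs, hcs⟩ := Cfsg.Agent.S2530.result 3
  have hf : (CoxeterMatrix.A 3).IsLiftable ![s₁, s₂, s₃] := by
    intro i j
    show (![s₁, s₂, s₃] i * ![s₁, s₂, s₃] j) ^
      (if i = j then 1 else (if (j : ℕ) + 1 = i ∨ (i : ℕ) + 1 = j then 3 else 2)) = 1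
    fin_cases i <;> fin_cases j
    · simpa [pow_two] using h1
    · simpa using h12
    · simpa using h13
    · simpa using pow_comm_of_sq h1 h2 3 h12
    · simpa [pow_two] using h2
    · simpa using h23
    · simpa using pow_comm_of_sq h1 h3 2 h13
    · simpa using pow_comm_of_sq h2 h3 3 h23
    · simpa [pow_two] using h3
  let φ : Equiv.Perm (Fin 4) →* G := cs.lift ⟨![s₁, s₂, s₃], hf⟩
  have hφ : ∀ i, φ (cs.simple i) = ![s₁, s₂, s₃] i := fun i => cs.lift_apply_simple hf i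
  have e0 : φ (Equiv.swap 0 1) = s₁ := by
    have := hφ 0
    rw [hcs 0] at this
    exact this
  have e2 : φ (Equiv.swap 2 3) = s₃ := by
    have := hφ 2
    rw [hcs 2] at this
    exact this
  have hinj : Function.Injective φ := by
    rw [injective_iff_map_eq_one]
    intro g hg
    by_contra hne1
    obtain ⟨h, k, hhk⟩ := S4_nc g hne1
    apply hne
    rw [← e0, ← e2, ← map_mul, ← hhk]
    simp [hg]
  exact ⟨φ.range, ⟨(MonoidHom.ofInjective hinj).symm⟩⟩

section mat

variable {F : Type*} [Field F]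

theorem trace_W_conj (Z S : SpecialLinearGroup (Fin 2) F)
    (hS : (S : Matrix (Fin 2) (Fin 2) F) = !![0, -1; 1, 0]) :
    ((S * (Z * S * Z⁻¹) : SpecialLinearGroup (Fin 2) F) : Matrix (Fin 2) (Fin 2) F).trace =
      -(Z 0 0 ^ 2 + Z 0 1 ^ 2 + Z 1 0 ^ 2 + Z 1 1 ^ 2) := by
  simp only [Matrix.SpecialLinearGroup.coe_mul, Matrix.SpecialLinearGroup.coe_inv, hS,
    Matrix.adjugate_fin_two, Matrix.trace_fin_two, Matrix.mul_apply, Fin.sum_univ_two,
    Matrix.of_apply, Matrix.cons_val_zero, Matrix.cons_val_one, Matrix.cons_val', Matrix.cons_val_fin_one]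
  ring

end mat


/-- PSL_2(q) has a subgroup isomorphic to S_4 iff q² ≡ 1 (mod 16). -/
theorem result {F : Type*} [Field F] [Fintype F] {q : ℕ} (hF : Fintype.card F = q) : (∃ H : Subgroup (Matrix.ProjectiveSpecialLinearGroup (Fin 2) F), Nonempty (H ≃* Equiv.Perm (Fin 4))) ↔ q ^ 2 % 16 = 1 := by
  classical
  have hSL := Cfsg.Agent.Lib.Helper5.SL2Card.card_SL_two hF
  have hPSL := Cfsg.Agent.Lib.Helper5.SL2Card.card_PSL_two hF
  constructor
  · rintro ⟨H, ⟨e⟩⟩
    rcases Nat.even_or_odd q with he | ho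
    · -- characteristic 2: no elements of order 4
      exfalso
      have hc : CharP F 2 :=
        Cfsg.Agent.Lib.Helper42.SL2Even.charP_two_of_even (hF ▸ he.two_dvd)
      have h2 : (2 : F) = 0 := CharTwo.two_eq_zero
      have key : ∀ g : Matrix.ProjectiveSpecialLinearGroup (Fin 2) F, g ^ 4 = 1 → g ^ 2 = 1 := by
        intro g hg
        obtain ⟨g, rfl⟩ := QuotientGroup.mk_surjective g
        by_cases hgc : g ∈ Subgroup.center (SpecialLinearGroup (Fin 2) F)
        · rw [(QuotientGroup.eq_one_iff g).mpr hgc, one_pow]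
        · rw [← QuotientGroup.mk_pow, QuotientGroup.eq_one_iff] at hg
          have hl := lucas_of_pow_mem_center g hgc 4 hg
          rw [lucas_four] at hl
          have ht : (g : Matrix (Fin 2) (Fin 2) F).trace = 0 := by
            have : (g : Matrix (Fin 2) (Fin 2) F).trace ^ 3 = 0 := by
              linear_combination hl + (g : Matrix (Fin 2) (Fin 2) F).trace * h2
            exact pow_eq_zero_iff (by norm_num) |>.mp this
          apply mk_pow_eq_one
          rw [lucas_two, ht]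
      let σ : Equiv.Perm (Fin 4) := finRotate 4
      have hσ4 : σ ^ 4 = 1 := by decide
      have hσ2 : σ ^ 2 ≠ 1 := by decide
      have h4 : ((e.symm σ : H) : Matrix.ProjectiveSpecialLinearGroup (Fin 2) F) ^ 4 = 1 := by
        rw [← Subgroup.coe_pow, ← map_pow, hσ4, map_one, Subgroup.coe_one]
      have h2' := key _ h4
      rw [← Subgroup.coe_pow, ← map_pow] at h2'
      have h3 : e.symm (σ ^ 2) = 1 := Subtype.ext h2'
      rw [← map_one e.symm] at h3
      exact hσ2 (e.symm.injective h3)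
    · have h24 : Nat.card H = 24 := by
        rw [Nat.card_congr e.toEquiv, Nat.card_perm, Nat.card_eq_fintype_card, Fintype.card_fin]
        rfl
      have hdvd : Nat.card H ∣ Nat.card (Matrix.ProjectiveSpecialLinearGroup (Fin 2) F) :=
        Subgroup.card_subgroup_dvd_card H
      rw [h24] at hdvd
      obtain ⟨k, rfl⟩ := ho
      have hg : Nat.gcd 2 (2 * k + 1 - 1) = 2 := by
        rw [Nat.add_sub_cancel]
        exact Nat.gcd_eq_left (dvd_mul_right 2 k)
      rw [hg] at hPSL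
      have h48 : 16 ∣ (2 * k + 1) * ((2 * k + 1) ^ 2 - 1) := by
        rw [← hPSL]
        obtain ⟨c, hc⟩ := hdvd
        rw [hc]
        exact ⟨3 * c, by ring⟩
      have hmod : (2 * k + 1) ^ 2 % 16 = 1 ∨ (2 * k + 1) ^ 2 % 16 = 9 := by
        rw [Nat.pow_mod]
        have : (2 * k + 1) % 16 < 16 := Nat.mod_lt _ (by norm_num)
        have hodd : (2 * k + 1) % 16 % 2 = 1 := by omega
        interval_cases ((2 * k + 1) % 16) <;> simp_all
      rcases hmod with h | h
      · exact h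
      · exfalso
        have hm := Nat.div_add_mod ((2 * k + 1) ^ 2) 16
        rw [h] at hm
        have h8 : (2 * k + 1) ^ 2 - 1 = 16 * ((2 * k + 1) ^ 2 / 16) + 8 := by omega
        rw [h8, mul_add] at h48
        have h16 : 16 ∣ (2 * k + 1) * 8 := by
          refine (Nat.dvd_add_right ?_).mp h48
          exact ⟨(2 * k + 1) * ((2 * k + 1) ^ 2 / 16), by ring⟩
        omega
  · intro hq
    have hodd : q % 2 = 1 := by
      rcases Nat.even_or_odd q with he | ho
      · exfalso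
        obtain ⟨k, rfl⟩ := he
        have : (k + k) ^ 2 = 4 * k ^ 2 := by ring
        rw [this] at hq
        omega
      · exact Nat.odd_iff.mp ho
    have hq8 : q % 8 ≠ 3 ∧ q % 8 ≠ 5 := by
      have h1 : q ^ 2 % 16 = (q % 16) ^ 2 % 16 := Nat.pow_mod q 2 16
      rw [h1] at hq
      have : q % 16 < 16 := Nat.mod_lt _ (by norm_num)
      have h8 : q % 8 = q % 16 % 8 := by omega
      rw [h8]
      interval_cases (q % 16) <;> simp_all
    rw [← hF] at hodd hq8
    obtain ⟨τ, hτ⟩ := FiniteField.isSquare_two_iff.mpr hq8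
    have hτ2 : τ ^ 2 - 2 = 0 := by rw [hτ]; ring
    obtain ⟨a, b, hab⟩ := exists_conic hodd τ
    have h2 : (2 : F) ≠ 0 := by
      intro h0
      have hc : CharP F 2 := CharTwo.of_one_ne_zero_of_two_eq_zero one_ne_zero h0
      have := FiniteField.even_card_of_char_two (CharP.ringChar_of_prime_eq_zero Nat.prime_two h0)
      omega
    -- the three involutions
    set Xm := X a b τ hab with hX
    set Ym := Y a b τ hab with hY
    have hS : ((Xm * Ym : SpecialLinearGroup (Fin 2) F) : Matrix (Fin 2) (Fin 2) F) =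
        !![0, -1; 1, 0] := coe_X_mul_Y a b τ hab
    have hy00 : Ym 0 0 = a := by simp [hY, Y]
    have hy01 : Ym 0 1 = b := by simp [hY, Y]
    have hy10 : Ym 1 0 = b - 1 := by simp [hY, Y]
    have hy11 : Ym 1 1 = τ - a := by simp [hY, Y]
    have ht12 := trace_W_conj Ym (Xm * Ym) hS
    have ht13 := trace_W_conj (Ym * Ym) (Xm * Ym) hS
    have hyy00 : (Ym * Ym) 0 0 = τ * a - 1 := by
      rw [Matrix.SpecialLinearGroup.coe_mul, Matrix.mul_apply, Fin.sum_univ_two, hy00, hy01, hy10]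
      linear_combination hab
    have hyy01 : (Ym * Ym) 0 1 = τ * b := by
      rw [Matrix.SpecialLinearGroup.coe_mul, Matrix.mul_apply, Fin.sum_univ_two, hy00, hy01, hy11]
      ring
    have hyy10 : (Ym * Ym) 1 0 = τ * (b - 1) := by
      rw [Matrix.SpecialLinearGroup.coe_mul, Matrix.mul_apply, Fin.sum_univ_two, hy00, hy10, hy11]
      ring
    have hyy11 : (Ym * Ym) 1 1 = 1 - τ * a := by
      rw [Matrix.SpecialLinearGroup.coe_mul, Matrix.mul_apply, Fin.sum_univ_two, hy01, hy10, hy11]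
      linear_combination hab + hτ2
    rw [hy00, hy01, hy10, hy11] at ht12
    rw [hyy00, hyy01, hyy10, hyy11] at ht13
    have ht12' : ((Xm * Ym * (Ym * (Xm * Ym) * Ym⁻¹) : SpecialLinearGroup (Fin 2) F) :
        Matrix (Fin 2) (Fin 2) F).trace = -1 := by
      rw [ht12]; linear_combination (-2 : F) * hab - hτ2
    have ht13' : ((Xm * Ym * (Ym * Ym * (Xm * Ym) * (Ym * Ym)⁻¹) : SpecialLinearGroup (Fin 2) F) :
        Matrix (Fin 2) (Fin 2) F).trace = 0 := by
      rw [ht13]; linear_combination (-(2 * a ^ 2 + 2 * b ^ 2 - 2 * b + 1)) * hτ2 - 4 * hab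
    -- in PSL₂
    let π : SpecialLinearGroup (Fin 2) F →* Matrix.ProjectiveSpecialLinearGroup (Fin 2) F :=
      QuotientGroup.mk' _
    have hs1 : π (Xm * Ym) ^ 2 = 1 := by
      apply mk_pow_eq_one
      rw [trace_X_mul_Y, lucas_two]
    have h12 : (π (Xm * Ym) * (π Ym * π (Xm * Ym) * (π Ym)⁻¹)) ^ 3 = 1 := by
      rw [← map_inv, ← map_mul, ← map_mul, ← map_mul]
      apply mk_pow_eq_one
      rw [ht12', lucas_three]
      ring
    have h13 : (π (Xm * Ym) * (π Ym * (π Ym * π (Xm * Ym) * (π Ym)⁻¹) * (π Ym)⁻¹)) ^ 2 = 1 := by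
      have : π Ym * (π Ym * π (Xm * Ym) * (π Ym)⁻¹) * (π Ym)⁻¹ =
          π (Ym * Ym * (Xm * Ym) * (Ym * Ym)⁻¹) := by
        simp only [map_mul, map_inv, _root_.mul_inv_rev, mul_assoc]
      rw [this, ← map_mul]
      apply mk_pow_eq_one
      rw [ht13', lucas_two]
    have hne : π (Xm * Ym) * (π Ym * (π Ym * π (Xm * Ym) * (π Ym)⁻¹) * (π Ym)⁻¹) ≠ 1 := by
      have : π Ym * (π Ym * π (Xm * Ym) * (π Ym)⁻¹) * (π Ym)⁻¹ =
          π (Ym * Ym * (Xm * Ym) * (Ym * Ym)⁻¹) := by
        simp only [map_mul, map_inv, _root_.mul_inv_rev, mul_assoc]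
      rw [this, ← map_mul]
      intro h1
      have hc : (Xm * Ym * (Ym * Ym * (Xm * Ym) * (Ym * Ym)⁻¹)) ∈
          Subgroup.center (SpecialLinearGroup (Fin 2) F) := (QuotientGroup.eq_one_iff _).mp h1
      obtain ⟨r, hr, hra⟩ := Matrix.SpecialLinearGroup.mem_center_iff.mp hc
      rw [Fintype.card_fin] at hr
      rw [← hra] at ht13'
      simp only [Matrix.trace_fin_two, Matrix.scalar_apply, Matrix.diagonal_apply_eq] at ht13'
      have hr0 : r = 0 := by
        have : 2 * r = 0 := by linear_combination ht13'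
        rcases mul_eq_zero.mp this with h | h
        · exact absurd h h2
        · exact h
      rw [hr0] at hr
      simp at hr
    refine exists_S4 (π (Xm * Ym)) (π Ym * π (Xm * Ym) * (π Ym)⁻¹)
      (π Ym * (π Ym * π (Xm * Ym) * (π Ym)⁻¹) * (π Ym)⁻¹) hs1 ?_ ?_ h12 ?_ h13 hne
    · rw [conj_pow, hs1, mul_one, mul_inv_cancel]
    · rw [conj_pow, conj_pow, hs1, mul_one, mul_inv_cancel, mul_one, mul_inv_cancel]
    · have : π Ym * π (Xm * Ym) * (π Ym)⁻¹ * (π Ym * (π Ym * π (Xm * Ym) * (π Ym)⁻¹) * (π Ym)⁻¹) =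
          π Ym * (π (Xm * Ym) * (π Ym * π (Xm * Ym) * (π Ym)⁻¹)) * (π Ym)⁻¹ := by
        group
      rw [this, conj_pow, h12, mul_one, mul_inv_cancel]


end Cfsg.Agent.S0803
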