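import Cfsg.Statements.S5299

set_option autoImplicit false
universe u
open Cfsg

namespace Cfsg.Agent.S5299

theorem involves_of_inj_surj {T Q G : Type*} [Group T] [Group Q] [Group G] (j : T →* G)
    (hj : Function.Injective j) (f : T →* Q) (hf : Function.Surjective f) : Involves Q G := by
  let e₀ : T ≃* j.range := MonoidHom.ofInjective hj
  have key : ((f.ker).map j).subgroupOf j.range = (f.ker).map e₀.toMonoidHom := by
    ext ⟨x, hx⟩
    rw [Subgroup.mem_subgroupOf]
    simp only [Subgroup.mem_map, MonoidHom.mem_ker]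
    constructor
    · rintro ⟨t, ht, rfl⟩
      exact ⟨t, ht, Subtype.ext rfl⟩
    · rintro ⟨t, ht, h⟩
      exact ⟨t, ht, congrArg Subtype.val h⟩
  have hn : (((f.ker).map j).subgroupOf j.range).Normal := by
    rw [key]
    exact Subgroup.Normal.map inferInstance _ e₀.surjective
  refine ⟨j.range, (f.ker).map j, hn, ⟨?_⟩⟩
  exact (QuotientGroup.congr (f.ker) _ e₀ key.symm).symm.trans
    (QuotientGroup.quotientKerEquivOfSurjective f hf)

/-- A `p`-subgroup of a section of a finite group `L` is involved in any group into which a Sylow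
`p`-subgroup of `L` embeds. -/
theorem involves_of_sylow {L : Type*} [Group L] [Finite L] (p : ℕ) [Fact p.Prime]
    {N S : Type*} [Group N] [Group S] (ι : N →* L) (hι : Function.Injective ι)
    (T : Sylow p L) (hT : (T : Subgroup L) = ι.range) (incl : N →* S)
    (hincl : Function.Injective incl)
    {H : Type*} [Group H] (Q : Subgroup H) (hQ : IsPGroup p Q) (hinv : Involves H L) :
    Involves Q S := by
  obtain ⟨K, R, hn, ⟨e⟩⟩ := hinv
  let f₀ : K →* H := e.toMonoidHom.comp (QuotientGroup.mk' (R.subgroupOf K))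
  have hf₀ : Function.Surjective f₀ :=
    e.surjective.comp (QuotientGroup.mk'_surjective _)
  let K₁ : Subgroup K := Q.comap f₀
  let f₁ : K₁ →* Q := f₀.subgroupComap Q
  have hf₁ : Function.Surjective f₁ := f₀.subgroupComap_surjective_of_surjective Q hf₀
  let T₁ : Sylow p K₁ := Sylow.nonempty.some
  have hmap : (T₁ : Subgroup K₁).map f₁ = ⊤ := by
    have h1 : ((T₁ : Subgroup K₁).map f₁).index ∣ (T₁ : Subgroup K₁).index :=
      Subgroup.index_map_dvd _ hf₁
    have h2 : ¬ p ∣ (T₁ : Subgroup K₁).index := T₁.not_dvd_index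
    have : Finite Q := Finite.of_surjective _ hf₁
    obtain ⟨n, hn⟩ := hQ.index ((T₁ : Subgroup K₁).map f₁)
    rw [← Subgroup.index_eq_one, hn]
    rcases Nat.eq_zero_or_pos n with h0 | hpos
    · rw [h0, pow_zero]
    · exfalso
      apply h2
      refine dvd_trans ?_ h1
      rw [hn]
      exact dvd_pow_self p (Nat.pos_iff_ne_zero.mp hpos)
  let f₂ : (T₁ : Subgroup K₁) →* Q := f₁.comp (T₁ : Subgroup K₁).subtype
  have hf₂ : Function.Surjective f₂ := by
    intro q
    have hq : q ∈ (T₁ : Subgroup K₁).map f₁ := by rw [hmap]; trivial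
    obtain ⟨t, ht, rfl⟩ := hq
    exact ⟨⟨t, ht⟩, rfl⟩
  -- the inclusion of T₁ in L
  let i : (T₁ : Subgroup K₁) →* L := K.subtype.comp (K₁.subtype.comp (T₁ : Subgroup K₁).subtype)
  have hi : Function.Injective i :=
    K.subtype_injective.comp (K₁.subtype_injective.comp (T₁ : Subgroup K₁).subtype_injective)
  have hip : IsPGroup p i.range := T₁.2.of_equiv (MonoidHom.ofInjective hi)
  obtain ⟨T₂, hT₂⟩ := hip.exists_le_sylow
  obtain ⟨g, hg⟩ := MulAction.exists_smul_eq L T T₂
  let ψ : (T₁ : Subgroup K₁) →* L := (MulAut.conj g⁻¹).toMonoidHom.comp i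
  have hψ : Function.Injective ψ := (MulAut.conj g⁻¹).injective.comp hi
  have hψr : ∀ t, ψ t ∈ ι.range := by
    intro t
    have h1 : i t ∈ (T₂ : Subgroup L) := hT₂ ⟨t, rfl⟩
    rw [← hg, Sylow.coe_subgroup_smul, Subgroup.mem_pointwise_smul_iff_inv_smul_mem] at h1
    rw [← hT]
    have h2 : (MulAut.conj g)⁻¹ • i t = ψ t := by
      show (MulAut.conj g)⁻¹ (i t) = (MulAut.conj g⁻¹) (i t)
      rw [map_inv]
    rw [← h2]
    exact h1
  let j' : (T₁ : Subgroup K₁) →* ι.range := ψ.codRestrict ι.range hψr
  have hj' : Function.Injective j' := by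
    intro a b hab
    exact hψ (congrArg Subtype.val hab)
  let ιe : N ≃* ι.range := MonoidHom.ofInjective hι
  let j : (T₁ : Subgroup K₁) →* S := incl.comp (ιe.symm.toMonoidHom.comp j')
  have hj : Function.Injective j := hincl.comp (ιe.symm.injective.comp hj')
  exact involves_of_inj_surj j hj f₂ hf₂

/-- Let F be a saturated fusion system over a finite p-group S, H a finite group and Q a p-subgroup of H. If Q is not involved in S (no section of S is isomorphic to Q), then F is H-free: H is involved in no model of the normalizer system of a fully normalized centric subgroup. -/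
theorem result {Ω : Type u} [Group Ω] {S : Subgroup Ω} [Finite S] (p : ℕ) [Fact p.Prime] (hS : IsPGroup p S)
    (F : Cfsg.FusionSystem S) (hF : F.IsSaturated p) (H : Type*) [Group H] [Finite H] (Q : Subgroup H) (hQ : IsPGroup p Q)
    (hfree : ¬ Cfsg.Involves (↥Q) (↥S)) : F.IsSectionFree p H := by
  intro Q' _ _ N _ L _ ι hmodel hinv
  obtain ⟨hfin, ⟨hι, -⟩, ⟨T, hT⟩, -⟩ := hmodel
  apply hfree
  exact involves_of_sylow p ι hι T hT
    (Subgroup.inclusion (inf_le_left : FusionSystem.normalizerIn S Q' ≤ S))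
    (Subgroup.inclusion_injective _) Q hQ hinv

end Cfsg.Agent.S5299
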