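import Cfsg.Statements.S0257
import Mathlib
import Cfsg.Agent.Lib.Helper5.SL2Card

set_option autoImplicit false
open Cfsg

namespace Cfsg.Agent.S0257

open Matrix

def A₃ : Matrix (Fin 2) (Fin 2) (ZMod 3) := !![0, -1; 1, 0]
def X₃ : Matrix (Fin 2) (Fin 2) (ZMod 3) := !![1, 1; 1, -1]

def φ₃ : QuaternionGroup 2 → Matrix (Fin 2) (Fin 2) (ZMod 3)
  | .a i => A₃ ^ i.val
  | .xa i => X₃ * A₃ ^ i.val

theorem φ₃_one : φ₃ 1 = 1 := by decide
theorem φ₃_mul : ∀ x y, φ₃ (x * y) = φ₃ x * φ₃ y := by decide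
theorem φ₃_det : ∀ x, (φ₃ x).det = 1 := by decide
theorem φ₃_inj : ∀ x y, φ₃ x = φ₃ y → x = y := by decide
set_option maxRecDepth 1000000 in
theorem φ₃_normal : ∀ M : Matrix (Fin 2) (Fin 2) (ZMod 3), M.det = 1 →
    ∀ x, ∃ y, M * φ₃ x * M.adjugate = φ₃ y := by decide

/-- SL_2(3) has a normal subgroup of index 3 isomorphic to the quaternion group of order 8, and its centre has order 2. -/
theorem result {F : Type*} [Field F] [Fintype F] (hF : Fintype.card F = 3) : (∃ Q : Subgroup (Matrix.SpecialLinearGroup (Fin 2) F), Q.Normal ∧ Q.index = 3 ∧ Nonempty (Q ≃* QuaternionGroup 2)) ∧ Nat.card (Subgroup.center (Matrix.SpecialLinearGroup (Fin 2) F)) = 2 := by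
  classical
  refine ⟨?_, ?_⟩
  swap
  · rw [Cfsg.Agent.Lib.Helper5.SL2Card.card_center_SL_two hF]
    decide
  · let e : ZMod 3 ≃+* F := ZMod.ringEquivOfPrime F Nat.prime_three hF
    let f : ZMod 3 →+* F := e.toRingHom
    let φ : QuaternionGroup 2 →* SpecialLinearGroup (Fin 2) F :=
      { toFun := fun x => ⟨f.mapMatrix (φ₃ x), by rw [← RingHom.map_det, φ₃_det, map_one]⟩
        map_one' := by
          apply Subtype.ext
          show f.mapMatrix (φ₃ 1) = 1
          rw [φ₃_one, map_one]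
        map_mul' := fun x y => by
          apply Subtype.ext
          show f.mapMatrix (φ₃ (x * y)) = f.mapMatrix (φ₃ x) * f.mapMatrix (φ₃ y)
          rw [φ₃_mul, map_mul] }
    have hφ : Function.Injective φ := by
      intro x y h
      have h1 : f.mapMatrix (φ₃ x) = f.mapMatrix (φ₃ y) := congrArg Subtype.val h
      apply φ₃_inj
      exact Matrix.map_injective f.injective h1
    refine ⟨φ.range, ?_, ?_, ?_⟩
    · constructor
      rintro _ ⟨x, rfl⟩ g
      let M : Matrix (Fin 2) (Fin 2) (ZMod 3) := e.symm.toRingHom.mapMatrix (g : Matrix (Fin 2) (Fin 2) F)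
      have hM : M.det = 1 := by rw [← RingHom.map_det, g.det_coe, map_one]
      obtain ⟨y, hy⟩ := φ₃_normal M hM x
      refine ⟨y, ?_⟩
      have hgM : f.mapMatrix M = (g : Matrix (Fin 2) (Fin 2) F) := by
        ext i j
        simp [M, f]
      have hc : ((g * φ x * g⁻¹ : SpecialLinearGroup (Fin 2) F) : Matrix (Fin 2) (Fin 2) F)
          = (g : Matrix (Fin 2) (Fin 2) F) * f.mapMatrix (φ₃ x)
            * adjugate (g : Matrix (Fin 2) (Fin 2) F) := by
        rw [Matrix.SpecialLinearGroup.coe_mul, Matrix.SpecialLinearGroup.coe_mul,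
          Matrix.SpecialLinearGroup.coe_inv]
        rfl
      have hy' : ((φ y : SpecialLinearGroup (Fin 2) F) : Matrix (Fin 2) (Fin 2) F)
          = (g : Matrix (Fin 2) (Fin 2) F) * f.mapMatrix (φ₃ x)
            * adjugate (g : Matrix (Fin 2) (Fin 2) F) := by
        show f.mapMatrix (φ₃ y) = _
        rw [← hy, map_mul, map_mul, RingHom.map_adjugate, hgM]
      exact Subtype.ext (hy'.trans hc.symm)
    · have h1 := Subgroup.card_mul_index φ.range
      rw [Cfsg.Agent.Lib.Helper5.SL2Card.card_SL_two hF] at h1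
      have h2 : Nat.card φ.range = 8 := by
        rw [← Nat.card_congr (MonoidHom.ofInjective hφ).toEquiv]
        simp [QuaternionGroup.card]
      rw [h2] at h1
      omega
    · exact ⟨(MonoidHom.ofInjective hφ).symm⟩

end Cfsg.Agent.S0257
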