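import Cfsg.Statements.S0552
import Mathlib

set_option autoImplicit false
open Cfsg

namespace Cfsg.Agent.S0552

theorem fitting_normal {G : Type*} [Group G] : (Cfsg.fittingSubgroup G).Normal := by
  unfold Cfsg.fittingSubgroup
  exact Subgroup.sSup_normal _ (fun N hN => hN.1)

theorem le_fitting {G : Type*} [Group G] (M : Subgroup G) (hM : M.Normal)
    (hnil : Group.IsNilpotent M) : M ≤ Cfsg.fittingSubgroup G := by
  unfold Cfsg.fittingSubgroup
  exact le_sSup ⟨hM, hnil⟩

/-- In a solvable group the Fitting subgroup contains its centralizer. -/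
theorem centralizer_fitting_le {G : Type*} [Group G] [Group.IsSolvable G] :
    Subgroup.centralizer (Cfsg.fittingSubgroup G : Set G) ≤ Cfsg.fittingSubgroup G := by
  have hFn : (Cfsg.fittingSubgroup G).Normal := fitting_normal
  have step : ∀ k : ℕ,
      (∀ M : Subgroup G, M.Normal → M ≤ Subgroup.centralizer (Cfsg.fittingSubgroup G : Set G) →
        M ≤ derivedSeries G (k + 1) → M ≤ Cfsg.fittingSubgroup G) →
      (∀ M : Subgroup G, M.Normal → M ≤ Subgroup.centralizer (Cfsg.fittingSubgroup G : Set G) →
        M ≤ derivedSeries G k → M ≤ Cfsg.fittingSubgroup G) := by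
    intro k ih M hMn hMC hMk
    have := hMn
    have h1 : ⁅M, M⁆ ≤ Cfsg.fittingSubgroup G := by
      apply ih ⁅M, M⁆ inferInstance ((Subgroup.commutator_le_left M M).trans hMC)
      rw [derivedSeries_succ]
      exact Subgroup.commutator_mono hMk hMk
    apply le_fitting M hMn
    apply Subgroup.isNilpotent_of_lowerCentralSeries_eq_bot (n := 2)
    rw [Subgroup.lowerCentralSeries_succ, Subgroup.lowerCentralSeries_succ,
      Subgroup.lowerCentralSeries_zero, Subgroup.commutator_eq_bot_iff_le_centralizer]
    intro x hx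
    rw [Subgroup.mem_centralizer_iff]
    intro m hm
    exact (Subgroup.mem_centralizer_iff.mp (hMC hm) x (h1 hx)).symm
  obtain ⟨n, hn⟩ := Group.IsSolvable.solvable (G := G)
  have all : ∀ j k : ℕ, k + j = n →
      (∀ M : Subgroup G, M.Normal → M ≤ Subgroup.centralizer (Cfsg.fittingSubgroup G : Set G) →
        M ≤ derivedSeries G k → M ≤ Cfsg.fittingSubgroup G) := by
    intro j
    induction j with
    | zero =>
      intro k hk M _ _ hMk
      rw [Nat.add_zero] at hk
      rw [hk, hn] at hMk
      exact hMk.trans bot_le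
    | succ j ih =>
      intro k hk
      exact step k (ih (k + 1) (by omega))
  exact all n 0 (by omega) _ inferInstance le_rfl (by simp)

/-- Let σ be an automorphism of a finite solvable group G fixing every element of the Fitting subgroup. If σ is not the identity then the order of σ and the order of G have a common prime factor. -/
theorem result {G : Type*} [Group G] [Finite G] [Group.IsSolvable G] (σ : G ≃* G) (hσ : ∀ x ∈ Cfsg.fittingSubgroup G, σ x = x) (hne : σ ≠ MulEquiv.refl G) : ¬ (orderOf σ).Coprime (Nat.card G) := by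
  intro hcop
  apply hne
  have hFn : (Cfsg.fittingSubgroup G).Normal := fitting_normal
  have hCF := centralizer_fitting_le (G := G)
  ext g
  rw [MulEquiv.refl_apply]
  have hz : g⁻¹ * σ g ∈ Subgroup.centralizer (Cfsg.fittingSubgroup G : Set G) := by
    rw [Subgroup.mem_centralizer_iff]
    intro x hx
    have h1 := hσ (g * x * g⁻¹) (hFn.conj_mem x hx g)
    rw [map_mul, map_mul, map_inv, hσ x hx] at h1
    calc x * (g⁻¹ * σ g) = g⁻¹ * (g * x * g⁻¹) * σ g := by group
      _ = g⁻¹ * (σ g * x * (σ g)⁻¹) * σ g := by rw [h1]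
      _ = g⁻¹ * σ g * x := by group
  have hzF := hCF hz
  have hσz : σ (g⁻¹ * σ g) = g⁻¹ * σ g := hσ _ hzF
  have hpow : ∀ k : ℕ, (σ ^ k) g = g * (g⁻¹ * σ g) ^ k := by
    intro k
    induction k with
    | zero => simp
    | succ k ih =>
      rw [pow_succ', MulAut.mul_apply, ih, map_mul, map_pow, hσz, pow_succ', ← mul_assoc g,
        mul_inv_cancel_left]
  have h1 : (g⁻¹ * σ g) ^ (orderOf σ) = 1 := by
    have := hpow (orderOf σ)
    rw [pow_orderOf_eq_one] at this
    have h' : g = g * (g⁻¹ * σ g) ^ orderOf σ := this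
    exact (mul_eq_left.mp h'.symm)
  have h2 : (g⁻¹ * σ g) ^ (Nat.card G) = 1 := pow_card_eq_one'
  have h3 : g⁻¹ * σ g = 1 := by
    have hd1 := orderOf_dvd_of_pow_eq_one h1
    have hd2 := orderOf_dvd_of_pow_eq_one h2
    have := Nat.dvd_gcd hd1 hd2
    rw [hcop] at this
    exact orderOf_eq_one_iff.mp (Nat.dvd_one.mp this)
  calc σ g = g * (g⁻¹ * σ g) := by group
    _ = g := by rw [h3, mul_one]

end Cfsg.Agent.S0552
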