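import Cfsg.Statements.S3742

set_option autoImplicit false
open Cfsg

namespace Cfsg.Agent.S3742

open QuaternionGroup

/-- The self-map of `QuaternionGroup 2` determined by prospective images `u` of `a 1` and `v`
of `xa 0`. -/
def f (u v : QuaternionGroup 2) : QuaternionGroup 2 → QuaternionGroup 2
  | a i => u ^ i.val
  | xa i => v * u ^ i.val

/-- `(u, v)` are the images of the two generators under an automorphism. -/
def valid (u v : QuaternionGroup 2) : Prop :=
  (∀ x y : QuaternionGroup 2, f u v (x * y) = f u v x * f u v y) ∧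
    ∀ x y : QuaternionGroup 2, f u v x = f u v y → x = y

instance instDecidableValid (u v : QuaternionGroup 2) : Decidable (valid u v) :=
  inferInstanceAs (Decidable ((∀ x y : QuaternionGroup 2, f u v (x * y) = f u v x * f u v y) ∧
    ∀ x y : QuaternionGroup 2, f u v x = f u v y → x = y))

/-- A numbering of the eight elements. -/
def code : QuaternionGroup 2 → ℕ
  | a i => i.val
  | xa i => 4 + i.val

/-- The table of an isomorphism onto the symmetric group of degree four, indexed by the images of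
the two generators. -/
def tbl : List (List (Fin 4)) :=
  [[0, 1, 2, 3], [0, 1, 2, 3], [0, 1, 2, 3], [0, 1, 2, 3], [0, 1, 2, 3], [0, 1, 2, 3], [0, 1, 2, 3], [0, 1, 2, 3],
   [0, 1, 2, 3], [0, 1, 2, 3], [0, 1, 2, 3], [0, 1, 2, 3], [0, 1, 2, 3], [2, 0, 3, 1], [3, 2, 1, 0], [1, 3, 0, 2],
   [0, 1, 2, 3], [0, 1, 2, 3], [0, 1, 2, 3], [0, 1, 2, 3], [0, 1, 2, 3], [0, 1, 2, 3], [0, 1, 2, 3], [0, 1, 2, 3],
   [0, 1, 2, 3], [0, 1, 2, 3], [0, 1, 2, 3], [0, 1, 2, 3], [2, 3, 0, 1], [3, 1, 2, 0], [1, 0, 3, 2], [0, 2, 1, 3],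
   [0, 1, 2, 3], [1, 0, 2, 3], [0, 1, 2, 3], [3, 2, 0, 1], [0, 1, 2, 3], [0, 3, 1, 2], [0, 1, 2, 3], [2, 1, 3, 0],
   [0, 1, 2, 3], [0, 2, 3, 1], [0, 1, 2, 3], [1, 3, 2, 0], [3, 0, 1, 2], [0, 1, 2, 3], [2, 1, 0, 3], [0, 1, 2, 3],
   [0, 1, 2, 3], [2, 3, 1, 0], [0, 1, 2, 3], [0, 1, 3, 2], [0, 1, 2, 3], [1, 2, 0, 3], [0, 1, 2, 3], [3, 0, 2, 1],
   [0, 1, 2, 3], [3, 1, 0, 2], [0, 1, 2, 3], [2, 0, 1, 3], [1, 2, 3, 0], [0, 1, 2, 3], [0, 3, 2, 1], [0, 1, 2, 3]]

/-- The permutation of four points attached to the pair `(u, v)`. -/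
def gfun (u v : QuaternionGroup 2) (k : Fin 4) : Fin 4 :=
  (tbl.getD (8 * code u + code v) []).getD k.val 0

lemma f_gen : ∀ u v : QuaternionGroup 2, f u v (a 1) = u ∧ f u v (xa 0) = v := by
  decide +kernel

lemma f_id : ∀ x : QuaternionGroup 2, f (a 1) (xa 0) x = x := by
  decide +kernel

lemma a_eq : ∀ i : ZMod (2 * 2), (a i : QuaternionGroup 2) = (a 1) ^ i.val := by
  decide +kernel

lemma xa_eq : ∀ i : ZMod (2 * 2), (xa i : QuaternionGroup 2) = xa 0 * (a 1) ^ i.val := by
  decide +kernel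

lemma card_valid :
    Fintype.card {p : QuaternionGroup 2 × QuaternionGroup 2 // valid p.1 p.2} = 24 := by
  decide +kernel

lemma g_one : ∀ k : Fin 4, gfun (a 1) (xa 0) k = k := by
  decide +kernel

lemma g_mul : ∀ u v : QuaternionGroup 2, valid u v → ∀ u' v' : QuaternionGroup 2, valid u' v' →
    ∀ k : Fin 4, gfun (f u v u') (f u v v') k = gfun u v (gfun u' v' k) := by
  decide +kernel

lemma g_inj : ∀ u v : QuaternionGroup 2, valid u v → (∀ k : Fin 4, gfun u v k = k) →
    u = a 1 ∧ v = xa 0 := by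
  decide +kernel

lemma aut_eq (φ : MulAut (QuaternionGroup 2)) (x : QuaternionGroup 2) :
    φ x = f (φ (a 1)) (φ (xa 0)) x := by
  cases x with
  | a i =>
    show φ (a i) = φ (a 1) ^ i.val
    rw [← map_pow, ← a_eq i]
  | xa i =>
    show φ (xa i) = φ (xa 0) * φ (a 1) ^ i.val
    rw [← map_pow, ← map_mul, ← xa_eq i]

lemma aut_valid (φ : MulAut (QuaternionGroup 2)) : valid (φ (a 1)) (φ (xa 0)) := by
  have h : f (φ (a 1)) (φ (xa 0)) = φ := funext (fun x => (aut_eq φ x).symm)
  refine ⟨fun x y => ?_, fun x y hxy => ?_⟩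
  · rw [h]
    exact map_mul φ x y
  · rw [h] at hxy
    exact φ.injective hxy

/-- The automorphism attached to a valid pair. -/
noncomputable def autOf (u v : QuaternionGroup 2) (h : valid u v) : MulAut (QuaternionGroup 2) :=
  MulEquiv.ofBijective (MonoidHom.mk' (f u v) h.1)
    ⟨fun x y hxy => h.2 x y hxy, Finite.injective_iff_surjective.mp (fun x y hxy => h.2 x y hxy)⟩

lemma autOf_apply (u v : QuaternionGroup 2) (h : valid u v) (x : QuaternionGroup 2) :
    autOf u v h x = f u v x := rfl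

/-- The action of the automorphism group on four points. -/
def act : MulAction (MulAut (QuaternionGroup 2)) (Fin 4) where
  smul φ k := gfun (φ (a 1)) (φ (xa 0)) k
  one_smul k := g_one k
  mul_smul φ φ' k := by
    show gfun ((φ * φ') (a 1)) ((φ * φ') (xa 0)) k =
      gfun (φ (a 1)) (φ (xa 0)) (gfun (φ' (a 1)) (φ' (xa 0)) k)
    rw [MulAut.mul_apply, MulAut.mul_apply, aut_eq φ (φ' (a 1)), aut_eq φ (φ' (xa 0))]
    exact g_mul _ _ (aut_valid φ) _ _ (aut_valid φ') k

/-- The permutation representation on four points. -/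
def psi : MulAut (QuaternionGroup 2) →* Equiv.Perm (Fin 4) :=
  @MulAction.toPermHom (MulAut (QuaternionGroup 2)) (Fin 4) _ act

lemma psi_apply (φ : MulAut (QuaternionGroup 2)) (k : Fin 4) :
    psi φ k = gfun (φ (a 1)) (φ (xa 0)) k := rfl

lemma psi_injective : Function.Injective psi := by
  rw [injective_iff_map_eq_one]
  intro φ hφ
  have h1 : ∀ k : Fin 4, gfun (φ (a 1)) (φ (xa 0)) k = k := fun k => by
    rw [← psi_apply, hφ]
    rfl
  obtain ⟨hu, hv⟩ := g_inj _ _ (aut_valid φ) h1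
  ext x
  rw [MulAut.one_apply, aut_eq φ x, hu, hv, f_id x]

lemma card_le : Nat.card (Equiv.Perm (Fin 4)) ≤ Nat.card (MulAut (QuaternionGroup 2)) := by
  haveI : Finite (MulAut (QuaternionGroup 2)) := Finite.of_injective psi psi_injective
  have h24 : Nat.card (Equiv.Perm (Fin 4)) = 24 := by
    rw [Nat.card_perm, Nat.card_fin]
    rfl
  calc Nat.card (Equiv.Perm (Fin 4)) = 24 := h24
    _ = Fintype.card {p : QuaternionGroup 2 × QuaternionGroup 2 // valid p.1 p.2} :=
        card_valid.symm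
    _ = Nat.card {p : QuaternionGroup 2 × QuaternionGroup 2 // valid p.1 p.2} :=
        Nat.card_eq_fintype_card.symm
    _ ≤ Nat.card (MulAut (QuaternionGroup 2)) := by
        refine Nat.card_le_card_of_injective
          (fun p : {p : QuaternionGroup 2 × QuaternionGroup 2 // valid p.1 p.2} =>
            autOf p.1.1 p.1.2 p.2) ?_
        rintro ⟨⟨u, v⟩, h⟩ ⟨⟨u', v'⟩, h'⟩ hpp
        have h1 : ∀ x, f u v x = f u' v' x := fun x =>
          congrArg (fun φ : MulAut (QuaternionGroup 2) => φ x) hpp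
        have hu : u = u' := by
          have h2 := h1 (a 1)
          rwa [(f_gen u v).1, (f_gen u' v').1] at h2
        have hv : v = v' := by
          have h2 := h1 (xa 0)
          rwa [(f_gen u v).2, (f_gen u' v').2] at h2
        subst hu
        subst hv
        rfl

/-- The automorphism group of the quaternion group of order 8 is isomorphic to the symmetric group of degree 4. -/
theorem result : Nonempty (MulAut (QuaternionGroup 2) ≃* Equiv.Perm (Fin 4)) := by
  exact ⟨MulEquiv.ofBijective psi (psi_injective.bijective_of_nat_card_le card_le)⟩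

end Cfsg.Agent.S3742
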