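import Cfsg.Statements.S0065
import Mathlib

set_option autoImplicit false
open Cfsg

namespace Cfsg.Agent.S0065

/-- iterated commutator of `N` with the whole group -/
def iter {G : Type*} [Group G] (N : Subgroup G) : ℕ → Subgroup G
  | 0 => N
  | n + 1 => ⁅iter N n, (⊤ : Subgroup G)⁆

theorem iter_le_lcs {G : Type*} [Group G] (N : Subgroup G) (n : ℕ) :
    iter N n ≤ Subgroup.lowerCentralSeries (⊤ : Subgroup G) n := by
  induction n with
  | zero => exact le_top
  | succ n ih =>
    exact Subgroup.commutator_mono ih le_rfl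

theorem iter_le {G : Type*} [Group G] (N : Subgroup G) [N.Normal] (n : ℕ) :
    iter N n ≤ N := by
  induction n with
  | zero => exact le_rfl
  | succ n ih =>
    exact (Subgroup.commutator_mono ih le_rfl).trans (Subgroup.commutator_le_left N ⊤)

/-- A nontrivial normal subgroup of a nilpotent group intersects the centre nontrivially. -/
theorem result {G : Type*} [Group G] [Finite G] [Group.IsNilpotent G]
    (N : Subgroup G) [N.Normal] (hN : N ≠ ⊥) : N ⊓ Subgroup.center G ≠ ⊥ := by
  obtain ⟨n, hn⟩ := (Subgroup.nilpotent_iff_lowerCentralSeries (G := G)).mp inferInstance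
  have hex : ∃ k, iter N k = ⊥ := ⟨n, le_bot_iff.mp ((iter_le_lcs N n).trans hn.le)⟩
  classical
  let k := Nat.find hex
  have hk : iter N k = ⊥ := Nat.find_spec hex
  have hk0 : k ≠ 0 := by
    intro h0
    rw [h0] at hk
    exact hN hk
  obtain ⟨m, hm⟩ := Nat.exists_eq_succ_of_ne_zero hk0
  have hm1 : iter N m ≠ ⊥ := Nat.find_min hex (by omega)
  have hm2 : ⁅iter N m, (⊤ : Subgroup G)⁆ = ⊥ := by
    have : iter N (m + 1) = ⊥ := by rw [← Nat.succ_eq_add_one, ← hm]; exact hk
    exact this
  have hm3 : iter N m ≤ Subgroup.center G := by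
    rw [Subgroup.commutator_eq_bot_iff_le_centralizer] at hm2
    simpa [Subgroup.centralizer_univ] using hm2
  intro hbot
  apply hm1
  exact le_bot_iff.mp (hbot ▸ le_inf (iter_le N m) hm3)

end Cfsg.Agent.S0065
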