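-- Statement S1473: quotient of a CN-group by a solvable normal subgroup is a CN-group.
import Cfsg.Statements.S1473
import Cfsg.Agent.Lib.Helper65.NilCoprime

set_option autoImplicit false
open Cfsg

namespace Cfsg.Agent.S1473

open Subgroup

universe u

section basics

variable {G : Type*} [Group G]

theorem nilp_of_injective {A B : Type*} [Group A] [Group B] (f : A →* B) (hf : Function.Injective f)
    [Group.IsNilpotent B] : Group.IsNilpotent A :=
  (Group.isNilpotent_congr (MonoidHom.ofInjective hf)).mpr inferInstance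

theorem nilp_of_le {K L : Subgroup G} (h : K ≤ L) (hL : Group.IsNilpotent L) : Group.IsNilpotent K :=
  nilp_of_injective (Subgroup.inclusion h) (Subgroup.inclusion_injective h)

theorem nilp_map {G' : Type*} [Group G'] (f : G →* G') (K : Subgroup G) (hK : Group.IsNilpotent K) :
    Group.IsNilpotent (K.map f) :=
  Group.nilpotent_of_surjective (f.subgroupMap K) (f.subgroupMap_surjective K)

theorem cn_subgroup (hCN : Cfsg.IsCNGroup G) (K : Subgroup G) : Cfsg.IsCNGroup K := by
  intro c hc
  have hc' : (c : G) ≠ 1 := fun e => hc (Subtype.ext e)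
  have := hCN c hc'
  let f : ↥(centralizer ({c} : Set K)) →* ↥(centralizer ({(c : G)} : Set G)) :=
    { toFun := fun u => ⟨((u : K) : G), by
          rw [mem_centralizer_singleton_iff]
          have := mem_centralizer_singleton_iff.mp u.2
          exact congrArg Subtype.val this⟩
      map_one' := rfl
      map_mul' := fun _ _ => rfl }
  have hf : Function.Injective f := fun a b hab => by
    apply Subtype.ext; apply Subtype.ext
    exact congrArg (fun z : ↥(centralizer ({(c : G)} : Set G)) => (z : G)) hab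
  exact nilp_of_injective f hf

theorem cn_of_equiv {A B : Type*} [Group A] [Group B] (hCN : Cfsg.IsCNGroup A) (e : A ≃* B) :
    Cfsg.IsCNGroup B := by
  intro b hb
  have hb' : e.symm b ≠ 1 := by
    intro h1; apply hb; simpa using congrArg e h1
  have := hCN (e.symm b) hb'
  let f : ↥(centralizer ({b} : Set B)) →* ↥(centralizer ({e.symm b} : Set A)) :=
    { toFun := fun u => ⟨e.symm (u : B), by
          rw [mem_centralizer_singleton_iff]
          have := mem_centralizer_singleton_iff.mp u.2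
          rw [← map_mul, ← map_mul, this]⟩
      map_one' := by apply Subtype.ext; simp
      map_mul' := fun _ _ => by apply Subtype.ext; simp }
  have hf : Function.Injective f := fun u v hab => by
    apply Subtype.ext
    have := congrArg (fun z : ↥(centralizer ({e.symm b} : Set A)) => (z : A)) hab
    exact e.symm.injective this
  exact nilp_of_injective f hf

/-- The conjugation action of a subgroup on a set stable under it. -/
@[reducible] def conjAct (R : Subgroup G) (S : Set G) (hS : ∀ u ∈ R, ∀ y ∈ S, u * y * u⁻¹ ∈ S) : MulAction R S where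
  smul u y := ⟨u * y * u⁻¹, hS u u.2 y y.2⟩
  one_smul y := Subtype.ext (by
    show ((1 : R) : G) * y * ((1 : R) : G)⁻¹ = y
    simp)
  mul_smul u v y := Subtype.ext (by
    show ((u * v : R) : G) * y * ((u * v : R) : G)⁻¹ = (u : G) * ((v : G) * y * (v : G)⁻¹) * (u : G)⁻¹
    simp [mul_assoc])

theorem exists_fixed (q : ℕ) [Fact q.Prime] (R : Subgroup G) (hR : IsPGroup q R) (S : Set G) [Finite S]
    (hS : ∀ u ∈ R, ∀ y ∈ S, u * y * u⁻¹ ∈ S) (hq : ¬ q ∣ Nat.card S) :
    ∃ y ∈ S, ∀ u ∈ R, u * y * u⁻¹ = y := by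
  let _ := conjAct R S hS
  have h1 := hR.card_modEq_card_fixedPoints S
  have h2 : Nat.card (MulAction.fixedPoints R S) ≠ 0 := by
    intro h0; rw [h0] at h1; exact hq (Nat.modEq_zero_iff_dvd.mp h1)
  have : Nonempty (MulAction.fixedPoints R S) := by
    by_contra hne; rw [not_nonempty_iff] at hne; exact h2 Nat.card_of_isEmpty
  obtain ⟨⟨y, hy⟩⟩ := this
  exact ⟨y, y.2, fun u hu => congrArg Subtype.val (hy ⟨u, hu⟩)⟩

theorem exists_fixed_ne (p : ℕ) [Fact p.Prime] (R : Subgroup G) (hR : IsPGroup p R) (S : Set G)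
    [Finite S] (hS : ∀ u ∈ R, ∀ y ∈ S, u * y * u⁻¹ ∈ S) (hp : p ∣ Nat.card S) (a : G) (haS : a ∈ S)
    (ha : ∀ u ∈ R, u * a * u⁻¹ = a) : ∃ y ∈ S, y ≠ a ∧ ∀ u ∈ R, u * y * u⁻¹ = y := by
  let _ := conjAct R S hS
  have hfix : (⟨a, haS⟩ : S) ∈ MulAction.fixedPoints R S := fun u => Subtype.ext (ha u u.2)
  obtain ⟨b, hb, hab⟩ := hR.exists_fixed_point_of_prime_dvd_card_of_fixed_point S hp hfix
  exact ⟨b, b.2, fun e => hab (Subtype.ext e.symm), fun u hu => congrArg Subtype.val (hb ⟨u, hu⟩)⟩

end basics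

section main

variable {G : Type u} [Group G] [Finite G]

/-- If `y` has `q`-power order and commutes with `g` modulo the normal `p`-subgroup `N` (`p ≠ q`),
then some element of the coset `g N` commutes with `y`. -/
theorem exists_commute_in_coset (p q : ℕ) [Fact p.Prime] [Fact q.Prime] (hpq : p ≠ q)
    (N : Subgroup G) [N.Normal] (hN : IsPGroup p N) (y g : G) (j : ℕ) (hy : orderOf y = q ^ j)
    (hyg : y * g * y⁻¹ * g⁻¹ ∈ N) : ∃ n ∈ N, Commute y (g * n) := by
  have hyg' : Commute (y : G ⧸ N) (g : G ⧸ N) := by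
    have h1 : ((y * g * y⁻¹ * g⁻¹ : G) : G ⧸ N) = 1 := (QuotientGroup.eq_one_iff _).mpr hyg
    simp only [QuotientGroup.mk_mul, QuotientGroup.mk_inv] at h1
    rw [mul_inv_eq_one, mul_inv_eq_iff_eq_mul] at h1
    exact h1
  have hRp : IsPGroup q (zpowers y) := IsPGroup.of_card (n := j) (by rw [Nat.card_zpowers, hy])
  have hS : ∀ u ∈ zpowers y, ∀ c ∈ {c : G | g⁻¹ * c ∈ N}, u * c * u⁻¹ ∈ {c : G | g⁻¹ * c ∈ N} := by
    intro u hu c hc
    have hu' : Commute (u : G ⧸ N) (g : G ⧸ N) := by
      obtain ⟨i, rfl⟩ := mem_zpowers_iff.mp hu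
      rw [QuotientGroup.mk_zpow]
      exact hyg'.zpow_left i
    have hc' : (c : G ⧸ N) = (g : G ⧸ N) := by
      have h1 : ((g⁻¹ * c : G) : G ⧸ N) = 1 := (QuotientGroup.eq_one_iff _).mpr hc
      rw [QuotientGroup.mk_mul, QuotientGroup.mk_inv] at h1
      exact (inv_mul_eq_one.mp h1).symm
    show g⁻¹ * (u * c * u⁻¹) ∈ N
    rw [← QuotientGroup.eq_one_iff]
    simp only [QuotientGroup.mk_mul, QuotientGroup.mk_inv, hc']
    rw [hu'.eq]
    group
  have hcard : Nat.card {c : G | g⁻¹ * c ∈ N} = Nat.card N := by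
    apply Nat.card_congr
    exact { toFun := fun c => ⟨g⁻¹ * c, c.2⟩
            invFun := fun n => ⟨g * n, by show g⁻¹ * (g * n) ∈ N; simp⟩
            left_inv := fun c => by apply Subtype.ext; simp
            right_inv := fun n => by apply Subtype.ext; simp }
  have hq : ¬ q ∣ Nat.card {c : G | g⁻¹ * c ∈ N} := by
    rw [hcard]
    obtain ⟨a, ha⟩ := IsPGroup.iff_card.mp hN
    rw [ha]
    intro hd
    exact hpq ((Nat.prime_dvd_prime_iff_eq Fact.out Fact.out).mp
      ((Fact.out : q.Prime).dvd_of_dvd_pow hd)).symm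
  obtain ⟨c, hc, hfix⟩ := exists_fixed q (zpowers y) hRp _ hS hq
  refine ⟨g⁻¹ * c, hc, ?_⟩
  have h1 := hfix y (mem_zpowers y)
  show y * (g * (g⁻¹ * c)) = g * (g⁻¹ * c) * y
  rw [mul_inv_cancel_left]
  calc y * c = y * c * y⁻¹ * y := by group
    _ = c * y := by rw [h1]

/-- A CN-group in which a `p`-element outside the normal `p`-subgroup `N` is central modulo `N`
is nilpotent. -/
theorem nilpotent_of_central_mod (hCN : Cfsg.IsCNGroup G) (p : ℕ) [Fact p.Prime]
    (N : Subgroup G) [N.Normal] (hN : IsPGroup p N) (x : G) (hxN : x ∉ N) (k : ℕ)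
    (hxo : orderOf x = p ^ k) (hcen : ∀ g : G, g * x * g⁻¹ * x⁻¹ ∈ N) :
    Group.IsNilpotent G := by
  have hp : p.Prime := Fact.out
  have hx1 : x ≠ 1 := fun e => hxN (e ▸ N.one_mem)
  have hGpos : Nat.card G ≠ 0 := Nat.card_pos.ne'
  by_cases hN1 : N = ⊥
  · have hT : centralizer ({x} : Set G) = ⊤ := by
      rw [eq_top_iff]; intro g _
      rw [mem_centralizer_singleton_iff]
      have h3 := hcen g
      rw [hN1, mem_bot, mul_inv_eq_one, mul_inv_eq_iff_eq_mul] at h3
      exact h3
    have h := hCN x hx1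
    rw [hT] at h
    exact Group.isNilpotent_top.mp h
  · have hP0 : IsPGroup p (zpowers x ⊔ N : Subgroup G) :=
      IsPGroup.to_sup_of_normal_right (IsPGroup.of_card (n := k) (by rw [Nat.card_zpowers, hxo])) hN
    obtain ⟨P, hP⟩ := hP0.exists_le_sylow
    have hxP : x ∈ (P : Subgroup G) := hP ((le_sup_left : zpowers x ≤ _) (mem_zpowers x))
    have hNP : N ≤ (P : Subgroup G) := le_sup_right.trans hP
    have hpN : p ∣ Nat.card (N : Set G) := by
      obtain ⟨a, ha⟩ := IsPGroup.iff_card.mp hN
      have h2 : Nat.card (N : Set G) = Nat.card N := rfl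
      rw [h2, ha]
      have ha0 : a ≠ 0 := by
        intro e; rw [e, pow_zero] at ha; exact hN1 (Subgroup.card_eq_one.mp ha)
      exact dvd_pow_self p ha0
    obtain ⟨n0, hn0N, hn01, hn0fix⟩ := exists_fixed_ne p (P : Subgroup G) P.isPGroup' (N : Set G)
      (fun u _ y hy => Normal.conj_mem inferInstance y hy u) hpN 1 N.one_mem (fun u _ => by simp)
    have hT : centralizer ({n0} : Set G) = ⊤ := by
      apply Subgroup.eq_top_of_le_card
      apply Nat.le_of_dvd Nat.card_pos
      rw [← Nat.factorization_le_iff_dvd hGpos Nat.card_pos.ne', Finsupp.le_def]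
      intro q
      by_cases hq : q.Prime
      · have := Fact.mk hq
        rw [← Nat.Prime.pow_dvd_iff_le_factorization hq Nat.card_pos.ne']
        by_cases hqp : q = p
        · subst hqp
          rw [← Sylow.card_eq_multiplicity P]
          apply Subgroup.card_dvd_of_le
          intro u hu
          rw [mem_centralizer_singleton_iff]
          have h1 := hn0fix u hu
          calc u * n0 = u * n0 * u⁻¹ * u := by group
            _ = n0 * u := by rw [h1]
        · obtain ⟨Q⟩ : Nonempty (Sylow q G) := inferInstance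
          rw [← Sylow.card_eq_multiplicity Q]
          apply Subgroup.card_dvd_of_le
          intro y hyQ
          obtain ⟨j, hj⟩ := (IsPGroup.iff_orderOf.mp Q.isPGroup') ⟨y, hyQ⟩
          have hyo : orderOf y = q ^ j := by rw [← hj, Subgroup.orderOf_mk]
          have hyx : y * x * y⁻¹ * x⁻¹ ∈ N := hcen y
          obtain ⟨n, hn, hcomm⟩ := exists_commute_in_coset p q (Ne.symm hqp) N hN y x j hyo hyx
          have hx'1 : x * n ≠ 1 := by
            intro e; apply hxN
            have h2 : x = n⁻¹ := eq_inv_of_mul_eq_one_left e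
            rw [h2]; exact N.inv_mem hn
          have hnil := hCN (x * n) hx'1
          have hyC : y ∈ centralizer ({x * n} : Set G) := by
            rw [mem_centralizer_singleton_iff]; exact hcomm.eq
          have hnC : n0 ∈ centralizer ({x * n} : Set G) := by
            rw [mem_centralizer_singleton_iff]
            have h1 := hn0fix (x * n) ((P : Subgroup G).mul_mem hxP (hNP hn))
            calc n0 * (x * n) = (x * n) * n0 * (x * n)⁻¹ * (x * n) := by rw [h1]
              _ = (x * n) * n0 := by group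
          obtain ⟨i, hi⟩ := (IsPGroup.iff_orderOf.mp hN) ⟨n0, hn0N⟩
          have hn0o : orderOf n0 = p ^ i := by rw [← hi, Subgroup.orderOf_mk]
          have hcop : (orderOf (⟨y, hyC⟩ : centralizer ({x * n} : Set G))).Coprime
              (orderOf (⟨n0, hnC⟩ : centralizer ({x * n} : Set G))) := by
            rw [Subgroup.orderOf_mk, Subgroup.orderOf_mk, hyo, hn0o]
            exact Nat.Coprime.pow _ _ ((Nat.coprime_primes hq hp).mpr hqp)
          have h3 := Cfsg.Agent.Lib.Helper65.NilCoprime.commute_of_coprime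
            (centralizer ({x * n} : Set G)) ⟨y, hyC⟩ ⟨n0, hnC⟩ (isOfFinOrder_of_finite _)
            (isOfFinOrder_of_finite _) hcop
          rw [mem_centralizer_singleton_iff]
          exact (congrArg Subtype.val h3)
      · rw [Nat.factorization_eq_zero_of_not_prime _ hq]; exact Nat.zero_le _
    have h := hCN n0 hn01
    rw [hT] at h
    exact Group.isNilpotent_top.mp h

end main

section step

variable {G : Type u} [Group G] [Finite G]

/-- The quotient of a CN-group by a normal `p`-subgroup is a CN-group. -/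
theorem step (hCN : Cfsg.IsCNGroup G) (p : ℕ) [Fact p.Prime] (N : Subgroup G) [N.Normal]
    (hN : IsPGroup p N) : Cfsg.IsCNGroup (G ⧸ N) := by
  have hp : p.Prime := Fact.out
  intro xb hxb
  obtain ⟨g0, rfl⟩ := QuotientGroup.mk_surjective xb
  have ho1 : orderOf (g0 : G ⧸ N) ≠ 1 := by rwa [Ne, orderOf_eq_one_iff]
  obtain ⟨r, hr, hrd⟩ := Nat.exists_prime_and_dvd ho1
  have := Fact.mk hr
  obtain ⟨k, m, hm, ho⟩ := Nat.exists_eq_pow_mul_and_not_dvd (orderOf_pos g0).ne' r hr.ne_one
  have hm0 : m ≠ 0 := by rintro rfl; exact hm (dvd_zero r)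
  have hxo : orderOf (g0 ^ m) = r ^ k := by
    rw [orderOf_pow_of_dvd hm0 (ho ▸ dvd_mul_left m (r ^ k)), ho,
      Nat.mul_div_cancel _ (Nat.pos_of_ne_zero hm0)]
  have hxN : ((g0 ^ m : G) : G ⧸ N) ≠ 1 := by
    intro e
    rw [QuotientGroup.mk_pow] at e
    exact hm (hrd.trans (orderOf_dvd_of_pow_eq_one e))
  have hle : centralizer ({(g0 : G ⧸ N)} : Set (G ⧸ N)) ≤
      centralizer ({((g0 ^ m : G) : G ⧸ N)} : Set (G ⧸ N)) := by
    intro c hc
    rw [mem_centralizer_singleton_iff] at hc ⊢
    rw [QuotientGroup.mk_pow]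
    exact ((show Commute c (g0 : G ⧸ N) from hc).pow_right m).eq
  apply nilp_of_le hle
  obtain ⟨x, hx⟩ : ∃ x : G, x = g0 ^ m := ⟨_, rfl⟩
  rw [← hx] at hxo hxN ⊢
  have hxN' : x ∉ N := fun h => hxN ((QuotientGroup.eq_one_iff x).mpr h)
  have hx1 : x ≠ 1 := fun e => hxN' (e ▸ N.one_mem)
  -- membership in the centralizer modulo N
  have hmem : ∀ g : G, (g : G ⧸ N) ∈ centralizer ({(x : G ⧸ N)} : Set (G ⧸ N)) →
      g * x * g⁻¹ * x⁻¹ ∈ N := by
    intro g hg
    rw [mem_centralizer_singleton_iff] at hg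
    rw [← QuotientGroup.eq_one_iff]
    simp only [QuotientGroup.mk_mul, QuotientGroup.mk_inv]
    rw [hg]; group
  by_cases hrp : r = p
  · subst hrp
    obtain ⟨C, hC⟩ : ∃ C : Subgroup G, C =
        (centralizer ({(x : G ⧸ N)} : Set (G ⧸ N))).comap (QuotientGroup.mk' N) := ⟨_, rfl⟩
    have hmap : C.map (QuotientGroup.mk' N) = centralizer ({(x : G ⧸ N)} : Set (G ⧸ N)) := by
      rw [hC]
      exact Subgroup.map_comap_eq_self_of_surjective (QuotientGroup.mk'_surjective N) _
    rw [← hmap]
    apply nilp_map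
    have hxC : x ∈ C := by
      rw [hC, mem_comap, QuotientGroup.mk'_apply, mem_centralizer_singleton_iff]
    have hCN' := cn_subgroup hCN C
    apply nilpotent_of_central_mod (G := C) hCN' r (N.subgroupOf C) hN.comap_subtype ⟨x, hxC⟩
      (k := k)
    · rw [mem_subgroupOf]; exact hxN'
    · rw [Subgroup.orderOf_mk]; exact hxo
    · intro g
      rw [mem_subgroupOf]
      have hg : ((g : G) : G ⧸ N) ∈ centralizer ({(x : G ⧸ N)} : Set (G ⧸ N)) := by
        have h6 : (g : G) ∈ (centralizer ({(x : G ⧸ N)} : Set (G ⧸ N))).comap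
            (QuotientGroup.mk' N) := by
          rw [← hC]; exact g.2
        exact h6
      exact hmem g hg
  · have hnil : Group.IsNilpotent ((centralizer ({x} : Set G)).map (QuotientGroup.mk' N)) :=
      nilp_map _ _ (hCN x hx1)
    apply nilp_of_le _ hnil
    intro c hc
    obtain ⟨g, rfl⟩ := QuotientGroup.mk_surjective c
    have h1 := hmem g hc
    have h2 : x * g * x⁻¹ * g⁻¹ ∈ N := by
      have h3 := N.inv_mem h1
      have h4 : (g * x * g⁻¹ * x⁻¹)⁻¹ = x * g * x⁻¹ * g⁻¹ := by group
      rwa [h4] at h3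
    obtain ⟨n, hn, hcomm⟩ := exists_commute_in_coset p r (Ne.symm hrp) N hN x g k hxo h2
    refine ⟨g * n, ?_, ?_⟩
    · show g * n ∈ centralizer ({x} : Set G)
      rw [mem_centralizer_singleton_iff]; exact hcomm.eq.symm
    · show ((g * n : G) : G ⧸ N) = (g : G ⧸ N)
      rw [QuotientGroup.mk_mul, (QuotientGroup.eq_one_iff n).mpr hn, mul_one]

/-- The elements of `p`-power order of an abelian subgroup. -/
def pPart (D : Subgroup G) (hD : ∀ a ∈ D, ∀ b ∈ D, a * b = b * a) (p : ℕ) : Subgroup G where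
  carrier := {d | d ∈ D ∧ ∃ i : ℕ, d ^ p ^ i = 1}
  one_mem' := ⟨D.one_mem, 0, by simp⟩
  mul_mem' := by
    rintro a b ⟨ha, i, hi⟩ ⟨hb, j, hj⟩
    refine ⟨D.mul_mem ha hb, i + j, ?_⟩
    rw [(show Commute a b from hD a ha b hb).mul_pow, pow_add, pow_mul, hi, one_pow, mul_comm (p ^ i),
      pow_mul, hj, one_pow, one_mul]
  inv_mem' := by
    rintro a ⟨ha, i, hi⟩
    exact ⟨D.inv_mem ha, i, by rw [inv_pow, hi, inv_one]⟩

theorem exists_normal_pgroup (H : Subgroup G) [H.Normal] (hH : Group.IsSolvable H) (hH1 : H ≠ ⊥) :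
    ∃ (p : ℕ) (_ : p.Prime) (N : Subgroup G), N.Normal ∧ IsPGroup p N ∧ N ≤ H ∧ N ≠ ⊥ := by
  classical
  have : Nontrivial H := (Subgroup.nontrivial_iff_ne_bot H).mpr hH1
  have hs : ∃ n, derivedSeries H n = ⊥ := Group.IsSolvable.solvable
  have h0 : Nat.find hs ≠ 0 := by
    intro h0
    have h1 := Nat.find_spec hs
    rw [h0, derivedSeries_zero] at h1
    exact top_ne_bot h1
  obtain ⟨j, hj⟩ := Nat.exists_eq_succ_of_ne_zero h0
  have hD01 : derivedSeries H j ≠ ⊥ := Nat.find_min hs (by omega)
  have hD0c : ∀ a ∈ derivedSeries H j, ∀ b ∈ derivedSeries H j, a * b = b * a := by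
    have hsp := Nat.find_spec hs
    rw [hj, derivedSeries_succ] at hsp
    have hle := (Subgroup.commutator_eq_bot_iff_le_centralizer).mp hsp
    intro a ha b hb
    exact (Subgroup.mem_centralizer_iff.mp (hle ha) b hb).symm
  obtain ⟨D, hD⟩ : ∃ D : Subgroup G, D = (derivedSeries H j).map H.subtype := ⟨_, rfl⟩
  have hDn : D.Normal := by rw [hD]; infer_instance
  have hDmem : ∀ x ∈ D, ∃ x0 ∈ derivedSeries H j, (x0 : G) = x := by
    intro x hx; rw [hD] at hx; exact hx
  have hDc : ∀ a ∈ D, ∀ b ∈ D, a * b = b * a := by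
    intro x hx y hy
    obtain ⟨x0, hx0, rfl⟩ := hDmem x hx
    obtain ⟨y0, hy0, rfl⟩ := hDmem y hy
    exact congrArg Subtype.val (hD0c x0 hx0 y0 hy0)
  have hD1 : D ≠ ⊥ := by
    rw [hD]; intro e
    exact hD01 ((Subgroup.map_eq_bot_iff_of_injective _ H.subtype_injective).mp e)
  have hDH : D ≤ H := by rw [hD]; exact Subgroup.map_subtype_le _
  have hDcard : Nat.card D ≠ 1 := fun h1 => hD1 (Subgroup.card_eq_one.mp h1)
  obtain ⟨p, hp, hpD⟩ := Nat.exists_prime_and_dvd hDcard
  have := Fact.mk hp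
  obtain ⟨d, hd⟩ := exists_prime_orderOf_dvd_card' (G := D) p hpD
  refine ⟨p, hp, pPart D hDc p, ?_, ?_, ?_, ?_⟩
  · refine ⟨fun n hn g => ?_⟩
    obtain ⟨hnD, i, hi⟩ := hn
    exact ⟨hDn.conj_mem n hnD g, i, by rw [conj_pow, hi]; simp⟩
  · rintro ⟨n, hnD, i, hi⟩
    exact ⟨i, Subtype.ext hi⟩
  · intro n hn; exact hDH hn.1
  · intro e
    have hmem : (d : G) ∈ pPart D hDc p := by
      refine ⟨d.2, 1, ?_⟩
      rw [pow_one, ← hd, ← Subgroup.orderOf_coe, pow_orderOf_eq_one]
    rw [e, mem_bot] at hmem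
    have h1 : orderOf (d : G) = 1 := by rw [hmem, orderOf_one]
    rw [Subgroup.orderOf_coe, hd] at h1
    exact hp.one_lt.ne' h1

end step

theorem main (n : ℕ) : ∀ (G : Type u) [Group G] [Finite G], Cfsg.IsCNGroup G →
    ∀ (H : Subgroup G) [H.Normal], Group.IsSolvable H → Nat.card H = n →
    Cfsg.IsCNGroup (G ⧸ H) := by
  induction n using Nat.strong_induction_on with
  | _ n ih =>
    intro G _ _ hCN H _ hH hcard
    by_cases hH1 : H = ⊥
    · subst hH1
      exact cn_of_equiv hCN (QuotientGroup.quotientBot (G := G)).symm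
    · obtain ⟨p, hp, N, hNn, hNp, hNH, hN1⟩ := exists_normal_pgroup H hH hH1
      have := Fact.mk hp
      have h1 := step hCN p N hNp
      have hsolv : Group.IsSolvable (H.map (QuotientGroup.mk' N)) :=
        Group.isSolvable_of_surjective ((QuotientGroup.mk' N).subgroupMap_surjective H)
      have hlt : Nat.card (H.map (QuotientGroup.mk' N)) < n := by
        have e1 : Nat.card (H.map (QuotientGroup.mk' N)) * (H.map (QuotientGroup.mk' N)).index =
            Nat.card (G ⧸ N) := Subgroup.card_mul_index _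
        have e2 : Nat.card H * H.index = Nat.card G := Subgroup.card_mul_index _
        have e3 : Nat.card G = Nat.card (G ⧸ N) * Nat.card N :=
          Subgroup.card_eq_card_quotient_mul_card_subgroup N
        have e4 : (H.map (QuotientGroup.mk' N)).index = H.index := by
          rw [← Subgroup.index_comap_of_surjective (H.map (QuotientGroup.mk' N))
            (QuotientGroup.mk'_surjective N), Subgroup.comap_map_eq, QuotientGroup.ker_mk',
            sup_eq_left.mpr hNH]
        have hNcard : 2 ≤ Nat.card N := by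
          have h0 : Nat.card N ≠ 0 := Nat.card_pos.ne'
          have h1' : Nat.card N ≠ 1 := fun h => hN1 (Subgroup.card_eq_one.mp h)
          omega
        have hidx : 0 < H.index := Nat.pos_of_ne_zero (Subgroup.index_ne_zero_of_finite)
        rw [e4] at e1
        have e5 : Nat.card (H.map (QuotientGroup.mk' N)) * Nat.card N * H.index =
            Nat.card H * H.index := by
          rw [e2, e3, ← e1]; ring
        have e6 := Nat.eq_of_mul_eq_mul_right hidx e5
        rw [← hcard, ← e6]
        have hpos : 0 < Nat.card (H.map (QuotientGroup.mk' N)) := Nat.card_pos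
        nlinarith
      have h2 := ih _ hlt (G ⧸ N) h1 (H.map (QuotientGroup.mk' N)) hsolv rfl
      exact cn_of_equiv h2 (QuotientGroup.quotientQuotientEquivQuotient N H hNH)

/-- Let G be a finite group in which the centralizer of every non-identity element is nilpotent, and H a solvable normal subgroup of G. Then in G/H the centralizer of every non-identity element is nilpotent. -/
theorem result {G : Type*} [Group G] [Finite G] (hCN : Cfsg.IsCNGroup G) (H : Subgroup G) [H.Normal] (hH : Group.IsSolvable H) :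
    Cfsg.IsCNGroup (G ⧸ H) :=
  main (Nat.card H) G hCN H hH rfl

end Cfsg.Agent.S1473
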