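import Cfsg.Statements.S0041
import Cfsg.Agent.Lib.Helper54.FpfCyclic

set_option autoImplicit false
open Cfsg

namespace Cfsg.Agent.S0041

/-- A group acting on a nontrivial abelian group so that no nonidentity element has a nonidentity fixed point is cyclic, provided it is abelian or its order is a product of two (possibly equal) primes. -/
theorem result {G : Type*} [Group G] [Finite G] (A V : Subgroup G) [IsMulCommutative V]
    (hV : V ≠ ⊥) (hAV : A ≤ Subgroup.normalizer (V : Set G)) (hfpf : ∀ a ∈ A, a ≠ 1 → V ⊓ Subgroup.centralizer {a} = ⊥)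
    (hA : IsMulCommutative A ∨ ∃ p q : ℕ, p.Prime ∧ q.Prime ∧ Nat.card A = p * q) : IsCyclic A := by
  apply Cfsg.Agent.Lib.Helper54.FpfCyclic.isCyclic_of_fpf A V
    (fun x hx y hy => congrArg Subtype.val (mul_comm' (⟨x, hx⟩ : ↥V) ⟨y, hy⟩)) hV hAV
  · intro a ha ha1 x hx hc
    have h1 := hfpf a ha ha1
    have hx' : x ∈ V ⊓ Subgroup.centralizer {a} :=
      ⟨hx, Subgroup.mem_centralizer_singleton_iff.2 hc.symm⟩
    rw [h1] at hx'
    exact hx'
  · rcases hA with hA | hA
    · left
      intro a b
      exact mul_comm' a b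
    · right
      exact hA

end Cfsg.Agent.S0041
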