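import Cfsg.Statements.S1475
import Cfsg.Agent.S0003
import Cfsg.Agent.S0041

set_option autoImplicit false
open Cfsg

namespace Cfsg.Agent.S1475

open Subgroup
open scoped Pointwise

/-- Commuting elements of coprime orders are not both nontrivial when all orders are prime powers. -/
theorem key {G : Type*} [Group G] [Finite G] (h : ∀ g : G, IsPrimePow (orderOf g) ∨ g = 1)
    (a x : G) (hc : Commute a x) (hcop : (orderOf a).Coprime (orderOf x)) : a = 1 ∨ x = 1 := by
  by_contra hne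
  push Not at hne
  obtain ⟨ha, hx⟩ := hne
  have ho : orderOf (a * x) = orderOf a * orderOf x := hc.orderOf_mul_eq_mul_orderOf_of_coprime hcop
  have ha1 : orderOf a ≠ 1 := by simpa [orderOf_eq_one_iff] using ha
  have hx1 : orderOf x ≠ 1 := by simpa [orderOf_eq_one_iff] using hx
  have hapos : 0 < orderOf a := orderOf_pos a
  have hxpos : 0 < orderOf x := orderOf_pos x
  rcases h (a * x) with hp | h1
  · rw [ho] at hp
    rcases (Nat.Coprime.isPrimePow_dvd_mul hcop hp).mp (dvd_refl _) with hd | hd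
    · have : orderOf a * orderOf x ∣ orderOf a * 1 := by simpa using hd
      have := Nat.dvd_of_mul_dvd_mul_left hapos this
      exact hx1 (Nat.dvd_one.mp this)
    · have : orderOf a * orderOf x ∣ 1 * orderOf x := by simpa using hd
      have := Nat.dvd_of_mul_dvd_mul_right hxpos this
      exact ha1 (Nat.dvd_one.mp this)
  · have : orderOf (a * x) = 1 := by rw [h1, orderOf_one]
    rw [ho] at this
    exact ha1 (Nat.eq_one_of_mul_eq_one_right this)

/-- A nontrivial solvable group has a nontrivial abelian normal subgroup. -/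
theorem exists_abelian_normal (K : Type*) [Group K] [Group.IsSolvable K] [Nontrivial K] :
    ∃ V : Subgroup K, V.Normal ∧ (∀ a ∈ V, ∀ b ∈ V, a * b = b * a) ∧ V ≠ ⊥ := by
  classical
  have hs : ∃ n, derivedSeries K n = ⊥ := Group.IsSolvable.solvable
  have h0 : Nat.find hs ≠ 0 := by
    intro h0
    have := Nat.find_spec hs
    rw [h0, derivedSeries_zero] at this
    exact top_ne_bot this
  obtain ⟨j, hj⟩ := Nat.exists_eq_succ_of_ne_zero h0
  refine ⟨derivedSeries K j, inferInstance, ?_, ?_⟩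
  · have hsp := Nat.find_spec hs
    rw [hj, derivedSeries_succ] at hsp
    have hle := (Subgroup.commutator_eq_bot_iff_le_centralizer).mp hsp
    intro a ha b hb
    have := hle ha
    exact (Subgroup.mem_centralizer_iff.mp this b hb).symm
  · exact Nat.find_min hs (by omega : j < Nat.find hs)

/-- The order of a product of a subgroup with a subgroup normalizing it and meeting it trivially. -/
theorem card_sup_of_normalizer {G : Type*} [Group G] (M Y : Subgroup G)
    (hY : Y ≤ normalizer (M : Set G)) (hd : Disjoint M Y) :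
    Nat.card ↥(M ⊔ Y) = Nat.card M * Nat.card Y := by
  have h1 : ((M ⊔ Y : Subgroup G) : Set G) = (M : Set G) * (Y : Set G) :=
    Subgroup.coe_mul_of_right_le_normalizer_left M Y hY
  have h2 : Set.range (fun g : M × Y => (g.1 * g.2 : G)) = (M : Set G) * (Y : Set G) := by
    ext x; constructor
    · rintro ⟨⟨a, b⟩, rfl⟩; exact Set.mul_mem_mul a.2 b.2
    · rintro ⟨a, ha, b, hb, rfl⟩; exact ⟨(⟨a, ha⟩, ⟨b, hb⟩), rfl⟩
  calc Nat.card ↥(M ⊔ Y) = Nat.card (((M ⊔ Y : Subgroup G) : Set G)) := rfl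
    _ = Nat.card (Set.range (fun g : M × Y => (g.1 * g.2 : G))) := by rw [h1, h2]
    _ = Nat.card (M × Y) := Nat.card_range_of_injective (Subgroup.mul_injective_of_disjoint hd)
    _ = _ := Nat.card_prod _ _

/-- Let G be a finite solvable group such that the order of every element is a prime power (1 included). Then at most two distinct primes divide the order of G. -/
theorem result {G : Type*} [Group G] [Finite G] [Group.IsSolvable G] (h : ∀ g : G, IsPrimePow (orderOf g) ∨ g = 1) :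
    (Nat.card G).primeFactors.card ≤ 2 := by
  classical
  by_contra hcon
  push Not at hcon
  have hN0 : Nat.card G ≠ 0 := Nat.card_pos.ne'
  obtain ⟨a, ha, b, hb, c, hc, hab, hac, hbc⟩ := Finset.two_lt_card.mp hcon
  have hnt : Nontrivial G := by
    rw [← Finite.one_lt_card_iff_nontrivial]
    have h1 := Nat.dvd_of_mem_primeFactors ha
    have h2 := (Nat.prime_of_mem_primeFactors ha).one_lt
    exact lt_of_lt_of_le h2 (Nat.le_of_dvd (Nat.pos_of_ne_zero hN0) h1)
  obtain ⟨V, hVn, hVc, hV1⟩ := exists_abelian_normal G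
  have : IsMulCommutative V := IsMulCommutative.of_comm (fun a b => Subtype.ext (hVc a a.2 b b.2))
  have hVcard : Nat.card V ≠ 1 := fun h1 => hV1 (Subgroup.card_eq_one.mp h1)
  obtain ⟨p, hp, hpV⟩ := Nat.exists_prime_and_dvd hVcard
  have := Fact.mk hp
  obtain ⟨v', hv'⟩ := exists_prime_orderOf_dvd_card' (G := V) p hpV
  have hvV : (v' : G) ∈ V := v'.2
  have hov : orderOf (v' : G) = p := by rw [Subgroup.orderOf_coe]; exact hv'
  have hv1 : (v' : G) ≠ 1 := by
    intro e; rw [e, orderOf_one] at hov; exact hp.one_lt.ne hov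
  -- all elements of V have p-power order
  have hVp : ∀ x ∈ V, ∃ j, orderOf x = p ^ j := by
    intro x hx
    rcases h x with hpp | rfl
    · obtain ⟨s, k, hs, hk, e⟩ := (isPrimePow_nat_iff _).mp hpp
      by_cases hsp : s = p
      · exact ⟨k, by rw [← e, hsp]⟩
      · exfalso
        have hcop : (orderOf x).Coprime (orderOf (v' : G)) := by
          rw [← e, hov]
          exact Nat.Coprime.pow_left k ((Nat.coprime_primes hs hp).mpr hsp)
        rcases key h x v' (hVc x hx v' hvV) hcop with r1 | r1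
        · rw [r1, orderOf_one] at e
          have := Nat.one_lt_pow hk.ne' hs.one_lt
          omega
        · exact hv1 r1
    · exact ⟨0, by simp⟩
  -- fixed-point-freeness
  have hfpf : ∀ a : G, a ≠ 1 → (orderOf a).Coprime p → V ⊓ centralizer {a} = ⊥ := by
    intro a ha hcop
    rw [eq_bot_iff]
    intro x hx
    obtain ⟨hxV, hxc⟩ := Subgroup.mem_inf.mp hx
    obtain ⟨j, hj⟩ := hVp x hxV
    have hcomm : Commute a x := (Subgroup.mem_centralizer_singleton_iff.mp hxc).symm
    rcases key h a x hcomm (by rw [hj]; exact Nat.Coprime.pow_right j hcop) with r1 | r1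
    · exact absurd r1 ha
    · simpa using r1
  -- two primes q, r different from p
  obtain ⟨q, r, hq, hr, hqp, hrp, hqr⟩ : ∃ q r, q ∈ (Nat.card G).primeFactors ∧
      r ∈ (Nat.card G).primeFactors ∧ q ≠ p ∧ r ≠ p ∧ q ≠ r := by
    by_cases hap : a = p
    · exact ⟨b, c, hb, hc, fun e => hab (hap.trans e.symm), fun e => hac (hap.trans e.symm), hbc⟩
    · by_cases hbp : b = p
      · exact ⟨a, c, ha, hc, hap, fun e => hbc (hbp.trans e.symm), hac⟩
      · exact ⟨a, b, ha, hb, hap, hbp, hab⟩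
  have hqP : q.Prime := Nat.prime_of_mem_primeFactors hq
  have hrP : r.Prime := Nat.prime_of_mem_primeFactors hr
  have hqd : q ∣ Nat.card G := Nat.dvd_of_mem_primeFactors hq
  have hrd : r ∣ Nat.card G := Nat.dvd_of_mem_primeFactors hr
  -- the Hall {q, r}-subgroup
  obtain ⟨N1, hN1⟩ : ∃ N1, N1 = ordCompl[q] (Nat.card G) := ⟨_, rfl⟩
  obtain ⟨m, hm⟩ : ∃ m, m = ordProj[q] (Nat.card G) * ordProj[r] N1 := ⟨_, rfl⟩
  obtain ⟨n, hn⟩ : ∃ n, n = ordCompl[r] N1 := ⟨_, rfl⟩
  have hN1pos : N1 ≠ 0 := by rw [hN1]; exact (Nat.ordCompl_pos q hN0).ne'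
  have hNmn : Nat.card G = m * n := by
    rw [hm, hn, mul_assoc, Nat.ordProj_mul_ordCompl_eq_self N1 r, hN1,
      Nat.ordProj_mul_ordCompl_eq_self (Nat.card G) q]
  have hrN1 : r ∣ N1 := by
    have : r ∣ ordProj[q] (Nat.card G) * N1 := by
      rw [hN1, Nat.ordProj_mul_ordCompl_eq_self]; exact hrd
    rcases (Nat.Prime.dvd_mul hrP).mp this with h1 | h1
    · exact absurd ((Nat.prime_dvd_prime_iff_eq hrP hqP).mp (hrP.dvd_of_dvd_pow h1)) (Ne.symm hqr)
    · exact h1
  have hcop : m.Coprime n := by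
    rw [hm, hn]
    apply Nat.Coprime.mul_left
    · have h1 : q.Coprime N1 := by rw [hN1]; exact Nat.coprime_ordCompl hqP hN0
      have h2 : ordCompl[r] N1 ∣ N1 := Nat.ordCompl_dvd N1 r
      exact Nat.Coprime.pow_left _ (Nat.Coprime.coprime_dvd_right h2 h1)
    · exact Nat.Coprime.pow_left _ (Nat.coprime_ordCompl hrP hN1pos)
  obtain ⟨H, hH⟩ := Cfsg.Agent.S0003.result (G := G) m n hNmn hcop
  have hmp : m.Coprime p := by
    rw [hm]
    apply Nat.Coprime.mul_left
    · exact Nat.Coprime.pow_left _ ((Nat.coprime_primes hqP hp).mpr hqp)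
    · exact Nat.Coprime.pow_left _ ((Nat.coprime_primes hrP hp).mpr hrp)
  have hqm : q ∣ m := by
    rw [hm]; apply Dvd.dvd.mul_right
    exact dvd_pow_self q (Nat.Prime.factorization_pos_of_dvd hqP hN0 hqd).ne'
  have hrm : r ∣ m := by
    rw [hm]; apply Dvd.dvd.mul_left
    exact dvd_pow_self r (Nat.Prime.factorization_pos_of_dvd hrP hN1pos hrN1).ne'
  have hm0 : m ≠ 0 := by
    intro e; rw [e, zero_mul] at hNmn; exact hN0 hNmn
  have hHdvd : ∀ a ∈ H, orderOf a ∣ m := by
    intro a ha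
    rw [← hH]
    have := orderOf_dvd_natCard (⟨a, ha⟩ : H)
    rwa [Subgroup.orderOf_mk] at this
  have hHord : ∀ a ∈ H, (orderOf a).Coprime p := fun a ha =>
    Nat.Coprime.coprime_dvd_left (hHdvd a ha) hmp
  have : Nontrivial H := by
    rw [← Finite.one_lt_card_iff_nontrivial, hH]
    exact lt_of_lt_of_le hqP.one_lt (Nat.le_of_dvd (Nat.pos_of_ne_zero hm0) hqm)
  obtain ⟨D0, hD0n, hD0c, hD01⟩ := exists_abelian_normal H
  obtain ⟨D, hD⟩ : ∃ D : Subgroup G, D = D0.map H.subtype := ⟨_, rfl⟩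
  have hDH : D ≤ H := by rw [hD]; exact Subgroup.map_subtype_le D0
  have hDmem : ∀ x ∈ D, ∃ x0 ∈ D0, (x0 : G) = x := by
    intro x hx; rw [hD] at hx; exact hx
  have hD1 : D ≠ ⊥ := by
    rw [hD]; intro e
    exact hD01 ((Subgroup.map_eq_bot_iff_of_injective D0 H.subtype_injective).mp e)
  have hDc : ∀ x ∈ D, ∀ y ∈ D, x * y = y * x := by
    intro x hx y hy
    obtain ⟨x0, hx0, rfl⟩ := hDmem x hx
    obtain ⟨y0, hy0, rfl⟩ := hDmem y hy
    exact congrArg Subtype.val (hD0c x0 hx0 y0 hy0)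
  -- conjugation by elements of H preserves D
  have hDconj : ∀ g ∈ H, ∀ x ∈ D, g * x * g⁻¹ ∈ D := by
    intro g hg x hx
    obtain ⟨x0, hx0, rfl⟩ := hDmem x hx
    rw [hD]
    exact ⟨⟨g, hg⟩ * x0 * ⟨g, hg⟩⁻¹, hD0n.conj_mem x0 hx0 ⟨g, hg⟩, rfl⟩
  have : IsMulCommutative D := IsMulCommutative.of_comm (fun a b => Subtype.ext (hDc a a.2 b b.2))
  have hVnorm : ∀ A : Subgroup G, A ≤ normalizer (V : Set G) := by
    intro A; rw [Subgroup.normalizer_eq_top]; exact le_top
  have hDcyc : IsCyclic D := by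
    apply Cfsg.Agent.S0041.result D V hV1 (hVnorm D)
    · intro a ha ha1; exact hfpf a ha1 (hHord a (hDH ha))
    · left; infer_instance
  obtain ⟨g, hg⟩ := IsCyclic.exists_generator (α := D)
  have hgo : orderOf g = Nat.card D := orderOf_eq_card_of_forall_mem_zpowers hg
  have hgo' : orderOf (g : G) = Nat.card D := by rw [Subgroup.orderOf_coe]; exact hgo
  have hDcard : Nat.card D ≠ 1 := fun h1 => hD1 (Subgroup.card_eq_one.mp h1)
  have hg1 : (g : G) ≠ 1 := by
    intro e; rw [e, orderOf_one] at hgo'; exact hDcard hgo'.symm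
  obtain ⟨s, k, hs, hk, e⟩ : ∃ s k : ℕ, s.Prime ∧ 0 < k ∧ s ^ k = orderOf (g : G) := by
    rcases h (g : G) with hpp | h1
    · exact (isPrimePow_nat_iff _).mp hpp
    · exact absurd h1 hg1
  have hsm : s ∣ m := (dvd_pow_self s hk.ne').trans (e ▸ hHdvd g (hDH g.2))
  -- the element z of order s
  obtain ⟨z, hz⟩ : ∃ z : G, z = (g : G) ^ (s ^ (k - 1)) := ⟨_, rfl⟩
  have hzo : orderOf z = s := by
    rw [hz, orderOf_pow_of_dvd (pow_ne_zero _ hs.ne_zero) (e ▸ pow_dvd_pow s (Nat.sub_le k 1)), ← e,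
      Nat.pow_div (Nat.sub_le k 1) hs.pos]
    have : k - (k - 1) = 1 := by omega
    rw [this, pow_one]
  have hzD : z ∈ D := by rw [hz]; exact D.pow_mem g.2 _
  have hz1 : z ≠ 1 := by
    intro e1; rw [e1, orderOf_one] at hzo; exact hs.one_lt.ne hzo
  -- the other prime t and an element y of order t
  obtain ⟨t, htP, htm, hts⟩ : ∃ t : ℕ, t.Prime ∧ t ∣ m ∧ t ≠ s := by
    by_cases hsq : s = q
    · exact ⟨r, hrP, hrm, fun e1 => hqr (hsq.symm.trans e1.symm)⟩
    · exact ⟨q, hqP, hqm, fun e1 => hsq e1.symm⟩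
  have := Fact.mk htP
  obtain ⟨y', hy'⟩ := exists_prime_orderOf_dvd_card' (G := H) t (hH ▸ htm)
  have hyH : (y' : G) ∈ H := y'.2
  have hyo : orderOf (y' : G) = t := by rw [Subgroup.orderOf_coe]; exact hy'
  have hy1 : (y' : G) ≠ 1 := by
    intro e1; rw [e1, orderOf_one] at hyo; exact htP.one_lt.ne hyo
  -- elements of H normalize zpowers z
  have hznorm : ∀ g0 ∈ H, g0 * z * g0⁻¹ ∈ zpowers z := by
    intro g0 hg0
    have hw : g0 * z * g0⁻¹ ∈ D := hDconj g0 hg0 z hzD
    have hws : (g0 * z * g0⁻¹) ^ s = 1 := by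
      rw [conj_pow, ← hzo, pow_orderOf_eq_one]; simp
    have hmem := hg ⟨g0 * z * g0⁻¹, hw⟩
    rw [← mem_powers_iff_mem_zpowers] at hmem
    obtain ⟨j, hj⟩ := hmem
    have hj' : (g : G) ^ j = g0 * z * g0⁻¹ := by
      have := congrArg Subtype.val hj
      simpa using this
    have hdvd : s ^ k ∣ j * s := by
      rw [e]; apply orderOf_dvd_of_pow_eq_one
      rw [pow_mul, hj', hws]
    have hk' : s ^ k = s ^ (k - 1) * s := by
      rw [← pow_succ]; congr 1; omega
    rw [hk'] at hdvd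
    obtain ⟨i, hi⟩ := Nat.dvd_of_mul_dvd_mul_right hs.pos hdvd
    rw [← hj', hi, pow_mul, ← hz]
    exact Subgroup.npow_mem_zpowers z i
  -- the subgroup of order s * t
  have hYnorm : zpowers (y' : G) ≤ normalizer ((zpowers z : Subgroup G) : Set G) := by
    rw [Subgroup.zpowers_le]
    rw [Subgroup.mem_normalizer_iff]
    intro x
    constructor
    · intro hx
      obtain ⟨i, rfl⟩ := Subgroup.mem_zpowers_iff.mp hx
      have := hznorm (y' : G) hyH
      have h2 : (y' : G) * z ^ i * (y' : G)⁻¹ = ((y' : G) * z * (y' : G)⁻¹) ^ i := by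
        rw [conj_zpow]
      rw [h2]; exact Subgroup.zpow_mem _ this i
    · intro hx
      have hinv : ((y' : G)⁻¹) * z * ((y' : G)⁻¹)⁻¹ ∈ zpowers z := hznorm _ (H.inv_mem hyH)
      obtain ⟨i, hi⟩ := Subgroup.mem_zpowers_iff.mp hx
      have h2 : x = ((y' : G)⁻¹ * z * ((y' : G)⁻¹)⁻¹) ^ i := by
        rw [conj_zpow, hi]; group
      rw [h2]; exact Subgroup.zpow_mem _ hinv i
  have hdisj : Disjoint (zpowers z) (zpowers (y' : G)) := by
    rw [Subgroup.disjoint_def]
    intro x hx1 hx2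
    have h1 : orderOf x ∣ s := by
      rw [← hzo]; exact orderOf_dvd_of_mem_zpowers hx1
    have h2 : orderOf x ∣ t := by
      rw [← hyo]; exact orderOf_dvd_of_mem_zpowers hx2
    have : orderOf x ∣ 1 := by
      have hc : Nat.Coprime s t := (Nat.coprime_primes hs htP).mpr (Ne.symm hts)
      exact hc ▸ Nat.dvd_gcd h1 h2
    exact orderOf_eq_one_iff.mp (Nat.dvd_one.mp this)
  have hAcard : Nat.card ↥(zpowers z ⊔ zpowers (y' : G)) = s * t := by
    rw [card_sup_of_normalizer _ _ hYnorm hdisj, Nat.card_zpowers, Nat.card_zpowers, hzo, hyo]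
  have hAH : zpowers z ⊔ zpowers (y' : G) ≤ H :=
    sup_le ((Subgroup.zpowers_le).mpr (hDH hzD)) ((Subgroup.zpowers_le).mpr hyH)
  have hAcyc : IsCyclic ↥(zpowers z ⊔ zpowers (y' : G)) := by
    apply Cfsg.Agent.S0041.result _ V hV1 (hVnorm _)
    · intro a ha ha1; exact hfpf a ha1 (hHord a (hAH ha))
    · right; exact ⟨s, t, hs, htP, hAcard⟩
  have hcomm : Commute z (y' : G) := by
    have hzA : z ∈ zpowers z ⊔ zpowers (y' : G) := (le_sup_left : zpowers z ≤ _) (Subgroup.mem_zpowers z)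
    have hyA : (y' : G) ∈ zpowers z ⊔ zpowers (y' : G) :=
      (le_sup_right : zpowers (y' : G) ≤ _) (Subgroup.mem_zpowers _)
    exact congrArg Subtype.val (mul_comm' (⟨z, hzA⟩ : ↥(zpowers z ⊔ zpowers (y' : G))) ⟨_, hyA⟩)
  rcases key h z (y' : G) hcomm (by
    rw [hzo, hyo]; exact (Nat.coprime_primes hs htP).mpr (Ne.symm hts)) with r1 | r1
  · exact hz1 r1
  · exact hy1 r1

end Cfsg.Agent.S1475
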