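-- Statement S1474: non-nilpotent CN-group with a nontrivial normal Sylow subgroup.
import Cfsg.Statements.S1474
import Cfsg.Agent.S1473
import Cfsg.Agent.S1475
import Cfsg.Agent.S0536
import Cfsg.Agent.S0041
import Cfsg.Agent.Lib.Helper23.Cores
import Cfsg.Agent.Lib.Helper65.NilCoprime

set_option autoImplicit false
open Cfsg

namespace Cfsg.Agent.S1474

open Subgroup

section hall

variable {G : Type*} [Group G] [Finite G]

theorem nilpotent_iff_sylow_normal : Group.IsNilpotent G ↔
    ∀ (p : ℕ) (_hp : Fact p.Prime) (P : Sylow p G), (↑P : Subgroup G).Normal :=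
  (Group.isNilpotent_of_finite_tfae (G := G)).out 0 3

/-- A prime divisor of the order of a normal nilpotent Hall subgroup has a normal Sylow subgroup. -/
theorem normal_sylow_of_mem (N : Subgroup G) (hNn : N.Normal) (hNnil : Group.IsNilpotent N)
    (hNcop : (Nat.card N).Coprime N.index) (q : ℕ) (hq : q.Prime) (hqN : q ∣ Nat.card N) :
    ∃ S : Sylow q G, (S : Subgroup G).Normal := by
  have := Fact.mk hq
  obtain ⟨T⟩ : Nonempty (Sylow q N) := inferInstance
  have hTn : (T : Subgroup N).Normal := (nilpotent_iff_sylow_normal (G := N)).mp hNnil q ⟨hq⟩ T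
  have hTc : (T : Subgroup N).Characteristic := Sylow.characteristic_of_normal T hTn
  have hS0n : ((T : Subgroup N).map N.subtype).Normal := inferInstance
  have hcard : Nat.card ((T : Subgroup N).map N.subtype) = q ^ (Nat.card G).factorization q := by
    rw [Subgroup.card_map_of_injective N.subtype_injective, Sylow.card_eq_multiplicity T]
    congr 1
    have h1 : Nat.card G = Nat.card N * N.index := (Subgroup.card_mul_index N).symm
    have h2 : ¬ q ∣ N.index := by
      intro hd
      exact hq.one_lt.ne' (Nat.eq_one_of_dvd_coprimes hNcop hqN hd)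
    rw [h1, Nat.factorization_mul Nat.card_pos.ne' Subgroup.index_ne_zero_of_finite, Finsupp.add_apply,
      Nat.factorization_eq_zero_of_not_dvd h2, add_zero]
  exact ⟨Sylow.ofCard _ hcard, by rw [Sylow.coe_ofCard]; exact hS0n⟩

/-- A normal Sylow subgroup lies in the largest normal nilpotent Hall subgroup. -/
theorem sylow_le_fittingHall (q : ℕ) (hq : q.Prime) (S : Sylow q G) (hS : (S : Subgroup G).Normal) :
    (S : Subgroup G) ≤ Cfsg.fittingHall G := by
  have := Fact.mk hq
  apply le_sSup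
  exact ⟨hS, S.isPGroup'.isNilpotent, S.card_coprime_index⟩

/-- Every prime divisor of the order of `fittingHall G` has a normal Sylow subgroup. -/
theorem fittingHall_primes (q : ℕ) (hq : q.Prime) (hqH : q ∣ Nat.card (Cfsg.fittingHall G)) :
    ∃ S : Sylow q G, (S : Subgroup G).Normal := by
  have key := Cfsg.Agent.Lib.Helper23.Cores.card_sSup_of_normal (G := G)
    (fun n => ∀ q : ℕ, q.Prime → q ∣ n → ∃ S : Sylow q G, (S : Subgroup G).Normal)
    (fun q hq h1 => absurd (Nat.dvd_one.mp h1) hq.ne_one)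
    (fun a b c ha hb hc q hq hqc => by
      rcases (Nat.Prime.dvd_mul hq).mp (hqc.trans hc) with h | h
      · exact ha q hq h
      · exact hb q hq h)
    {N : Subgroup G | N.Normal ∧ Group.IsNilpotent N ∧ (Nat.card N).Coprime N.index}
    (fun N hN => hN.1)
    (fun N hN q hq hqN => normal_sylow_of_mem N hN.1 hN.2.1 hN.2.2 q hq hqN)
  exact key q hq hqH

theorem fittingHall_coprime : (Nat.card (Cfsg.fittingHall G)).Coprime (Cfsg.fittingHall G).index := by
  apply Nat.coprime_of_dvd
  intro q hq hqH hqi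
  obtain ⟨S, hS⟩ := fittingHall_primes q hq hqH
  have := Fact.mk hq
  have h1 : (Cfsg.fittingHall G).index ∣ (S : Subgroup G).index :=
    Subgroup.index_dvd_of_le (sylow_le_fittingHall q hq S hS)
  exact S.not_dvd_index (hqi.trans h1)

theorem fittingHall_nilpotent : Group.IsNilpotent (Cfsg.fittingHall G) := by
  apply (nilpotent_iff_sylow_normal (G := Cfsg.fittingHall G)).mpr
  intro q hqF T
  have hq : q.Prime := hqF.out
  by_cases hqH : q ∣ Nat.card (Cfsg.fittingHall G)
  · obtain ⟨S, hS⟩ := fittingHall_primes q hq hqH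
    have hle := sylow_le_fittingHall q hq S hS
    have hn : ((S.subtype hle : Sylow q (Cfsg.fittingHall G)) : Subgroup (Cfsg.fittingHall G)).Normal := by
      rw [Sylow.coe_subtype]; infer_instance
    have := Sylow.unique_of_normal (S.subtype hle) hn
    rw [Subsingleton.elim T (S.subtype hle)]
    exact hn
  · have h1 : Nat.card T = 1 := by
      rw [Sylow.card_eq_multiplicity T, Nat.factorization_eq_zero_of_not_dvd hqH, pow_zero]
    rw [Subgroup.card_eq_one.mp h1]
    infer_instance

end hall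

section cn

variable {G : Type*} [Group G] [Finite G]

/-- In a CN-group, two elements of coprime orders that both centralize a nonidentity element
commute. -/
theorem commute_of_cn (hCN : Cfsg.IsCNGroup G) (c a b : G) (hc : c ≠ 1) (hac : a * c = c * a)
    (hbc : b * c = c * b) (hcop : (orderOf a).Coprime (orderOf b)) : a * b = b * a := by
  have hnil := hCN c hc
  have ha : a ∈ Subgroup.centralizer ({c} : Set G) := Subgroup.mem_centralizer_singleton_iff.2 hac
  have hb : b ∈ Subgroup.centralizer ({c} : Set G) := Subgroup.mem_centralizer_singleton_iff.2 hbc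
  have h := Cfsg.Agent.Lib.Helper65.NilCoprime.commute_of_coprime (Subgroup.centralizer ({c} : Set G))
    ⟨a, ha⟩ ⟨b, hb⟩ (isOfFinOrder_of_finite _) (isOfFinOrder_of_finite _)
    (by rwa [Subgroup.orderOf_mk, Subgroup.orderOf_mk])
  exact congrArg Subtype.val h

/-- In a CN-group, a nonidentity element of order coprime to the order of the largest normal
nilpotent Hall subgroup `H` centralizes no nonidentity element of `H`. -/
theorem fpf (hCN : Cfsg.IsCNGroup G) (e h : G) (he1 : e ≠ 1) (hh1 : h ≠ 1)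
    (hh : h ∈ Cfsg.fittingHall G)
    (hcop : (orderOf e).Coprime (Nat.card (Cfsg.fittingHall G))) (hcomm : e * h = h * e) : False := by
  have hHnil : Group.IsNilpotent (Cfsg.fittingHall G) := fittingHall_nilpotent
  have hHnt : Nontrivial (Cfsg.fittingHall G) :=
    ⟨⟨⟨h, hh⟩, 1, fun h' => hh1 (congrArg Subtype.val h')⟩⟩
  have hZ : Subgroup.center (Cfsg.fittingHall G) ≠ ⊥ := Group.IsNilpotent.center_ne_bot _
  obtain ⟨⟨z, hzZ⟩, hz1⟩ := Subgroup.ne_bot_iff_exists_ne_one.mp hZ
  have hzc : ∀ x ∈ Cfsg.fittingHall G, x * (z : G) = z * x := fun x hx =>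
    congrArg Subtype.val (Subgroup.mem_center_iff.mp hzZ ⟨x, hx⟩)
  have hz1' : (z : G) ≠ 1 := fun h0 => hz1 (Subtype.ext (Subtype.ext h0))
  have hordH : ∀ x ∈ Cfsg.fittingHall G, (orderOf e).Coprime (orderOf x) := fun x hx =>
    Nat.Coprime.coprime_dvd_right (Subgroup.orderOf_dvd_natCard _ hx) hcop
  -- step 1: e commutes with z
  have h1 : e * (z : G) = z * e := commute_of_cn hCN h e z hh1 hcomm (hzc h hh).symm (hordH z z.2)
  -- step 2: e commutes with H
  have h2 : ∀ x ∈ Cfsg.fittingHall G, e * x = x * e := fun x hx =>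
    commute_of_cn hCN z e x hz1' h1 (hzc x hx) (hordH x hx)
  -- step 3: an element of prime order
  have hoe : orderOf e ≠ 1 := fun h0 => he1 (orderOf_eq_one_iff.mp h0)
  obtain ⟨r, hr, hre⟩ := Nat.exists_prime_and_dvd hoe
  have := Fact.mk hr
  have hoe' : orderOf (e ^ (orderOf e / r)) = r := orderOf_pow_orderOf_div (orderOf_pos e).ne' hre
  set e' := e ^ (orderOf e / r) with he'
  have he'1 : e' ≠ 1 := by
    intro h0
    rw [h0, orderOf_one] at hoe'
    exact hr.one_lt.ne hoe'
  have h3 : ∀ x ∈ Cfsg.fittingHall G, e' * x = x * e' := fun x hx =>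
    (Commute.pow_left (show Commute e x from h2 x hx) _).eq
  have hrH : ¬ r ∣ Nat.card (Cfsg.fittingHall G) := fun hd =>
    hr.one_lt.ne' (Nat.eq_one_of_dvd_coprimes hcop hre hd)
  -- step 4: a Sylow r-subgroup containing e'
  have hpz : IsPGroup r (Subgroup.zpowers e') := by
    apply IsPGroup.of_card (n := 1)
    rw [Nat.card_zpowers, hoe', pow_one]
  obtain ⟨S, hS⟩ := hpz.exists_le_sylow
  have he'S : e' ∈ (S : Subgroup G) := hS (Subgroup.mem_zpowers e')
  have : Nontrivial (S : Subgroup G) :=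
    ⟨⟨⟨e', he'S⟩, 1, fun h' => he'1 (congrArg Subtype.val h')⟩⟩
  have hcn := S.isPGroup'.center_nontrivial
  obtain ⟨⟨z', hz'Z⟩, hz'1⟩ := exists_ne (1 : Subgroup.center (S : Subgroup G))
  have hz'c : ∀ s ∈ (S : Subgroup G), s * (z' : G) = z' * s := fun s hs =>
    congrArg Subtype.val (Subgroup.mem_center_iff.mp hz'Z ⟨s, hs⟩)
  have hz'1' : (z' : G) ≠ 1 := fun h0 => hz'1 (Subtype.ext (Subtype.ext h0))
  have hordS : ∀ s ∈ (S : Subgroup G), ∀ x ∈ Cfsg.fittingHall G,
      (orderOf s).Coprime (orderOf x) := by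
    intro s hs x hx
    have hc1 : (Nat.card (S : Subgroup G)).Coprime (Nat.card (Cfsg.fittingHall G)) := by
      rw [Sylow.card_eq_multiplicity S]
      exact Nat.Coprime.pow_left _ ((Nat.Prime.coprime_iff_not_dvd hr).mpr hrH)
    exact Nat.Coprime.coprime_dvd_left (Subgroup.orderOf_dvd_natCard _ hs)
      (Nat.Coprime.coprime_dvd_right (Subgroup.orderOf_dvd_natCard _ hx) hc1)
  -- step 5: z' commutes with H
  have h5 : ∀ x ∈ Cfsg.fittingHall G, (z' : G) * x = x * z' := fun x hx =>
    commute_of_cn hCN e' z' x he'1 (hz'c e' he'S).symm (h3 x hx).symm (hordS z' z'.2 x hx)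
  -- step 6: S commutes with H
  have h6 : ∀ s ∈ (S : Subgroup G), ∀ x ∈ Cfsg.fittingHall G, s * x = x * s := fun s hs x hx =>
    commute_of_cn hCN z' s x hz'1' (hz'c s hs) (h5 x hx).symm (hordS s hs x hx)
  -- step 7: S is normal in G
  have hSC : (S : Subgroup G) ≤ Subgroup.centralizer (Cfsg.fittingHall G : Set G) := fun s hs =>
    Subgroup.mem_centralizer_iff.mpr (fun x hx => (h6 s hs x hx).symm)
  have hCn : (Subgroup.centralizer (Cfsg.fittingHall G : Set G)).Normal := inferInstance
  have hCnil : Group.IsNilpotent (Subgroup.centralizer (Cfsg.fittingHall G : Set G)) := by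
    apply Cfsg.Agent.S1473.nilp_of_le _ (hCN z hz1')
    apply Subgroup.centralizer_le
    intro y hy
    rw [Set.mem_singleton_iff] at hy
    rw [hy]
    exact z.2
  have hTn : ((S.subtype hSC : Sylow r (Subgroup.centralizer (Cfsg.fittingHall G : Set G))) :
      Subgroup (Subgroup.centralizer (Cfsg.fittingHall G : Set G))).Normal :=
    (nilpotent_iff_sylow_normal).mp hCnil r ⟨hr⟩ _
  have hTc := Sylow.characteristic_of_normal (S.subtype hSC) hTn
  have hSn : (S : Subgroup G).Normal := by
    have h7 : (((S.subtype hSC : Sylow r (Subgroup.centralizer (Cfsg.fittingHall G : Set G))) :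
      Subgroup (Subgroup.centralizer (Cfsg.fittingHall G : Set G))).map
        (Subgroup.centralizer (Cfsg.fittingHall G : Set G)).subtype).Normal := inferInstance
    rw [Sylow.coe_subtype, Subgroup.subgroupOf_map_subtype, inf_eq_left.mpr hSC] at h7
    exact h7
  -- step 8
  have hSH := sylow_le_fittingHall r hr S hSn
  apply hrH
  rw [← hoe']
  exact Subgroup.orderOf_dvd_natCard _ (hSH he'S)

end cn

section schmidt

/-- The cyclicity property: every subgroup that is abelian or whose order is a product of two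
primes is cyclic. -/
def CycProp (K : Type*) [Group K] : Prop :=
  ∀ A : Subgroup K, (IsMulCommutative A ∨ ∃ p q : ℕ, p.Prime ∧ q.Prime ∧ Nat.card A = p * q) →
    IsCyclic A

theorem cycProp_subgroup {K : Type*} [Group K] (h : CycProp K) (L : Subgroup K) : CycProp L := by
  intro A hA
  have e : A ≃* A.map L.subtype := A.equivMapOfInjective L.subtype L.subtype_injective
  have hcyc : IsCyclic (A.map L.subtype) := by
    apply h
    rcases hA with hA | ⟨p, q, hp, hq, hcard⟩
    · left; have := hA; infer_instance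
    · right
      exact ⟨p, q, hp, hq, by rw [Subgroup.card_map_of_injective L.subtype_injective]; exact hcard⟩
  exact isCyclic_of_surjective e.symm e.symm.surjective

/-- The elements of order dividing `q` in the centre of `Q`. -/
def omega {K : Type*} [Group K] (Q : Subgroup K) (q : ℕ) : Subgroup K where
  carrier := {y | y ∈ Q ∧ (∀ h ∈ Q, h * y = y * h) ∧ y ^ q = 1}
  mul_mem' := by
    rintro a b ⟨ha, hac, haq⟩ ⟨hb, hbc, hbq⟩
    refine ⟨mul_mem ha hb, fun h hh => ?_, ?_⟩
    · rw [← mul_assoc, hac h hh, mul_assoc, hbc h hh, mul_assoc]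
    · rw [(show Commute a b from hbc a ha).mul_pow, haq, hbq, one_mul]
  one_mem' := ⟨one_mem _, fun h _ => by rw [mul_one, one_mul], one_pow _⟩
  inv_mem' := by
    rintro a ⟨ha, hac, haq⟩
    refine ⟨inv_mem ha, fun h hh => ?_, by rw [inv_pow, haq, inv_one]⟩
    exact (Commute.inv_right (show Commute h a from hac h hh)).eq

theorem omega_normal {K : Type*} [Group K] (Q : Subgroup K) [hQ : Q.Normal] (q : ℕ) :
    (omega Q q).Normal := by
  constructor
  rintro n ⟨hn, hnc, hnq⟩ k
  refine ⟨hQ.conj_mem n hn k, fun h hh => ?_, ?_⟩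
  · have hh' : k⁻¹ * h * k ∈ Q := by
      have := hQ.conj_mem h hh k⁻¹
      rwa [inv_inv] at this
    have hn' := hnc _ hh'
    calc h * (k * n * k⁻¹) = k * (k⁻¹ * h * k * n) * k⁻¹ := by group
      _ = k * (n * (k⁻¹ * h * k)) * k⁻¹ := by rw [hn']
      _ = k * n * k⁻¹ * h := by group
  · rw [conj_pow, hnq, mul_one, mul_inv_cancel]

theorem schmidt_contra {K : Type*} [Group K] [Finite K] (hCN : Cfsg.IsCNGroup K) (hcyc : CycProp K)
    (hmin : Cfsg.IsMinimalNonNilpotent K) : False := by
  obtain ⟨p, q, hp, hq, hpq, P, Q, hPcyc, hQn, hPQ⟩ := Cfsg.Agent.S0536.result hmin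
  have := Fact.mk hp
  have := Fact.mk hq
  have hP1 : (P : Subgroup K) ≠ ⊥ := by
    intro h0
    rw [h0, bot_sup_eq] at hPQ
    apply hmin.1
    have h1 : Nat.card K = q ^ (Nat.card K).factorization q := by
      rw [← Sylow.card_eq_multiplicity Q, hPQ, Subgroup.card_top]
    exact (IsPGroup.of_card h1).isNilpotent
  have hQ1 : (Q : Subgroup K) ≠ ⊥ := by
    intro h0
    rw [h0, sup_bot_eq] at hPQ
    apply hmin.1
    have h1 : Nat.card K = p ^ (Nat.card K).factorization p := by
      rw [← Sylow.card_eq_multiplicity P, hPQ, Subgroup.card_top]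
    exact (IsPGroup.of_card h1).isNilpotent
  -- generator of P
  obtain ⟨g, hg⟩ := hPcyc.exists_generator
  have hgord : orderOf (g : K) = Nat.card (P : Subgroup K) := by
    rw [Subgroup.orderOf_coe]; exact orderOf_eq_card_of_forall_mem_zpowers hg
  have hPle : (P : Subgroup K) ≤ Subgroup.zpowers (g : K) := by
    intro y hy
    obtain ⟨k, hk⟩ := Subgroup.mem_zpowers_iff.mp (hg ⟨y, hy⟩)
    refine Subgroup.mem_zpowers_iff.mpr ⟨k, ?_⟩
    have := congrArg Subtype.val hk
    simpa using this
  have hpP : p ∣ Nat.card (P : Subgroup K) := by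
    rcases P.isPGroup'.card_eq_or_dvd with h | h
    · exact absurd (Subgroup.card_eq_one.mp h) hP1
    · exact h
  have hox : orderOf ((g : K) ^ (orderOf (g : K) / p)) = p :=
    orderOf_pow_orderOf_div (orderOf_pos _).ne' (hgord ▸ hpP)
  set x := (g : K) ^ (orderOf (g : K) / p) with hx
  have hx1 : x ≠ 1 := by
    intro h0
    rw [h0, orderOf_one] at hox
    exact hp.one_lt.ne hox
  have hgx : (g : K) * x = x * g := ((Commute.refl (g : K)).pow_right _).eq
  -- the subgroup Ω
  have : (Q : Subgroup K).Normal := hQn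
  have hΩn : (omega (Q : Subgroup K) q).Normal := omega_normal _ q
  have hΩc : IsMulCommutative (omega (Q : Subgroup K) q) :=
    ⟨⟨fun a b => Subtype.ext (b.2.2.1 a a.2.1)⟩⟩
  have hΩ1 : omega (Q : Subgroup K) q ≠ ⊥ := by
    have : Nontrivial (Q : Subgroup K) := (Subgroup.nontrivial_iff_ne_bot _).mpr hQ1
    have := Q.isPGroup'.center_nontrivial
    have hZp : IsPGroup q (Subgroup.center (Q : Subgroup K)) := Q.isPGroup'.to_subgroup _
    have hqZ : q ∣ Nat.card (Subgroup.center (Q : Subgroup K)) := by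
      rcases hZp.card_eq_or_dvd with h | h
      · exact absurd (Subgroup.card_eq_one.mp h) (Subgroup.nontrivial_iff_ne_bot _ |>.mp inferInstance)
      · exact h
    obtain ⟨w₀, hw₀⟩ := exists_prime_orderOf_dvd_card' q hqZ
    intro h0
    have hmem : ((w₀ : (Q : Subgroup K)) : K) ∈ omega (Q : Subgroup K) q := by
      refine ⟨(w₀ : (Q : Subgroup K)).2, fun h hh => ?_, ?_⟩
      · exact congrArg Subtype.val (Subgroup.mem_center_iff.mp w₀.2 ⟨h, hh⟩)
      · have := pow_orderOf_eq_one w₀
        rw [hw₀] at this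
        have h2 := congrArg (fun t : Subgroup.center (Q : Subgroup K) => ((t : (Q : Subgroup K)) : K)) this
        simpa using h2
    rw [h0, Subgroup.mem_bot] at hmem
    have hw1 : w₀ = 1 := Subtype.ext (Subtype.ext hmem)
    rw [hw1, orderOf_one] at hw₀
    exact hq.one_lt.ne hw₀
  have hΩcyc : IsCyclic (omega (Q : Subgroup K) q) := hcyc _ (Or.inl hΩc)
  obtain ⟨w, hw⟩ := hΩcyc.exists_generator
  have hwq : (w : K) ^ q = 1 := w.2.2.2
  have hw1 : (w : K) ≠ 1 := by
    intro h0
    apply hΩ1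
    rw [eq_bot_iff]
    intro y hy
    obtain ⟨k, hk⟩ := Subgroup.mem_zpowers_iff.mp (hw ⟨y, hy⟩)
    have h2 := congrArg Subtype.val hk
    simp only [Subgroup.coe_zpow] at h2
    rw [h0, one_zpow] at h2
    exact Subgroup.mem_bot.mpr h2.symm
  have how : orderOf (w : K) = q := by
    rcases (Nat.dvd_prime hq).mp (orderOf_dvd_of_pow_eq_one hwq) with h | h
    · exact absurd (orderOf_eq_one_iff.mp h) hw1
    · exact h
  have hΩcard : Nat.card (omega (Q : Subgroup K) q) = q := by
    rw [← orderOf_eq_card_of_forall_mem_zpowers hw, Subgroup.orderOf_coe] at *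
    exact how
  -- the subgroup Ω ⟨x⟩ of order q * p
  have hAcard : Nat.card (omega (Q : Subgroup K) q ⊔ Subgroup.zpowers x : Subgroup K) = q * p := by
    rw [Cfsg.Agent.S1475.card_sup_of_normalizer, hΩcard, Nat.card_zpowers, hox]
    · rw [Subgroup.normalizer_eq_top]; exact le_top
    · apply Subgroup.disjoint_of_coprime_natCard
      rw [hΩcard, Nat.card_zpowers, hox]
      exact (Nat.coprime_primes hq hp).mpr hpq.symm
  have hAcyc : IsCyclic (omega (Q : Subgroup K) q ⊔ Subgroup.zpowers x : Subgroup K) :=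
    hcyc _ (Or.inr ⟨q, p, hq, hp, hAcard⟩)
  have hxw : x * (w : K) = w * x := by
    let _i := IsCyclic.commGroup (α := (omega (Q : Subgroup K) q ⊔ Subgroup.zpowers x : Subgroup K))
    have hxA : x ∈ (omega (Q : Subgroup K) q ⊔ Subgroup.zpowers x : Subgroup K) :=
      (le_sup_right : Subgroup.zpowers x ≤ _) (Subgroup.mem_zpowers x)
    have hwA : (w : K) ∈ (omega (Q : Subgroup K) q ⊔ Subgroup.zpowers x : Subgroup K) :=
      (le_sup_left : omega (Q : Subgroup K) q ≤ _) w.2
    exact congrArg Subtype.val (mul_comm (⟨x, hxA⟩ : (omega (Q : Subgroup K) q ⊔ Subgroup.zpowers x : Subgroup K)) ⟨w, hwA⟩)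
  -- g commutes with w
  have hgw : (g : K) * (w : K) = w * g := by
    apply commute_of_cn hCN x g w hx1 hgx hxw.symm
    rw [hgord, how, Sylow.card_eq_multiplicity P]
    exact Nat.Coprime.pow_left _ ((Nat.coprime_primes hp hq).mpr hpq)
  have htop : Subgroup.centralizer ({(w : K)} : Set K) = ⊤ := by
    rw [eq_top_iff, ← hPQ]
    apply sup_le
    · refine hPle.trans ((Subgroup.zpowers_le).mpr ?_)
      exact Subgroup.mem_centralizer_singleton_iff.mpr hgw
    · intro h hh
      exact Subgroup.mem_centralizer_singleton_iff.mpr (w.2.2.1 h hh)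
  have hnil := hCN (w : K) hw1
  rw [htop] at hnil
  exact hmin.1 (Group.nilpotent_of_mulEquiv Subgroup.topEquiv)

universe u

theorem nilpotent_of_cycProp : ∀ (n : ℕ) (K : Type u) [Group K] [Finite K], Nat.card K = n →
    Cfsg.IsCNGroup K → CycProp K → Group.IsNilpotent K := by
  intro n
  induction n using Nat.strong_induction_on with
  | _ n ih =>
    intro K _ _ hn hCN hcyc
    by_contra hnn
    apply schmidt_contra hCN hcyc
    refine ⟨hnn, fun L hL => ?_⟩
    have hlt : Nat.card L < n := by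
      rw [← hn]
      exact lt_of_le_of_ne (Subgroup.card_le_card_group L) (fun h => hL (Subgroup.eq_top_of_card_eq L h))
    exact ih (Nat.card L) hlt L rfl (Cfsg.Agent.S1473.cn_subgroup hCN L) (cycProp_subgroup hcyc L)

end schmidt

section main

variable {G : Type*} [Group G] [Finite G]

theorem cycProp_of_fpf (E : Subgroup G)
    (hfp : ∀ e ∈ E, e ≠ 1 → ∀ h ∈ Cfsg.fittingHall G, e * h = h * e → h = 1)
    (hHbot : Cfsg.fittingHall G ≠ ⊥) : CycProp E := by
  intro A hA
  have hVc : IsMulCommutative (Cfsg.fittingHall G ⊓ Subgroup.centralizer (Cfsg.fittingHall G : Set G) : Subgroup G) :=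
    ⟨⟨fun a b => Subtype.ext (Subgroup.mem_centralizer_iff.mp b.2.2 a a.2.1)⟩⟩
  have hVn : (Cfsg.fittingHall G ⊓ Subgroup.centralizer (Cfsg.fittingHall G : Set G) : Subgroup G).Normal :=
    inferInstance
  have hV1 : (Cfsg.fittingHall G ⊓ Subgroup.centralizer (Cfsg.fittingHall G : Set G) : Subgroup G) ≠ ⊥ := by
    have hHnil : Group.IsNilpotent (Cfsg.fittingHall G) := fittingHall_nilpotent
    have : Nontrivial (Cfsg.fittingHall G) := (Subgroup.nontrivial_iff_ne_bot _).mpr hHbot
    have hZ : Subgroup.center (Cfsg.fittingHall G) ≠ ⊥ := Group.IsNilpotent.center_ne_bot _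
    obtain ⟨⟨z, hzZ⟩, hz1⟩ := Subgroup.ne_bot_iff_exists_ne_one.mp hZ
    intro h0
    have hzV : (z : G) ∈ (Cfsg.fittingHall G ⊓ Subgroup.centralizer (Cfsg.fittingHall G : Set G) : Subgroup G) :=
      ⟨z.2, Subgroup.mem_centralizer_iff.mpr (fun x hx =>
        congrArg Subtype.val (Subgroup.mem_center_iff.mp hzZ ⟨x, hx⟩))⟩
    rw [h0, Subgroup.mem_bot] at hzV
    exact hz1 (Subtype.ext (Subtype.ext hzV))
  have e : A ≃* A.map E.subtype := A.equivMapOfInjective E.subtype E.subtype_injective
  have hcyc : IsCyclic (A.map E.subtype) := by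
    apply Cfsg.Agent.S0041.result (A.map E.subtype)
      (Cfsg.fittingHall G ⊓ Subgroup.centralizer (Cfsg.fittingHall G : Set G) : Subgroup G) hV1
    · rw [Subgroup.normalizer_eq_top]; exact le_top
    · rintro a ha ha1
      rw [eq_bot_iff]
      rintro x ⟨hxV, hxc⟩
      have haE : a ∈ E := by
        obtain ⟨a', -, rfl⟩ := ha
        exact a'.2
      exact Subgroup.mem_bot.mpr
        (hfp a haE ha1 x hxV.1 (Subgroup.mem_centralizer_singleton_iff.mp hxc).symm)
    · rcases hA with hA | ⟨p, q, hp, hq, hcard⟩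
      · left; have := hA; infer_instance
      · right
        exact ⟨p, q, hp, hq, by rw [Subgroup.card_map_of_injective E.subtype_injective]; exact hcard⟩
  exact isCyclic_of_surjective e.symm e.symm.surjective

end main

/-- Let G be a finite group in which every non-identity element has nilpotent centralizer, not itself nilpotent, and having a nontrivial normal Sylow p-subgroup for some prime p. Let H be the largest normal nilpotent Hall subgroup of G. Then H is a nontrivial proper normal subgroup with a complement E that is a Frobenius complement in G (no non-identity element of E centralizes a non-identity element of H), and G/H is nilpotent. -/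
theorem result {G : Type*} [Group G] [Finite G] (hCN : Cfsg.IsCNGroup G) (hnn : ¬ Group.IsNilpotent G) (p : ℕ) [Fact p.Prime] (P : Sylow p G)
    (hP1 : (P : Subgroup G) ≠ ⊥) (hPn : (P : Subgroup G).Normal) :
    Cfsg.fittingHall G ≠ ⊥ ∧ Cfsg.fittingHall G ≠ ⊤ ∧
      (∃ E : Subgroup G, Subgroup.IsComplement' (Cfsg.fittingHall G) E ∧ Cfsg.IsFrobeniusComplement E ∧
        ∀ e ∈ E, e ≠ 1 → Cfsg.fittingHall G ⊓ Subgroup.centralizer ({e} : Set G) = ⊥) ∧
      Group.IsNilpotent (G ⧸ Cfsg.fittingHall G) := by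
  have hHbot : Cfsg.fittingHall G ≠ ⊥ := by
    intro h0
    apply hP1
    have := sylow_le_fittingHall p Fact.out P hPn
    rw [h0] at this
    exact le_bot_iff.mp this
  have hHtop : Cfsg.fittingHall G ≠ ⊤ := by
    intro h0
    apply hnn
    have hnil : Group.IsNilpotent (Cfsg.fittingHall G) := fittingHall_nilpotent
    rw [h0] at hnil
    exact Group.nilpotent_of_mulEquiv Subgroup.topEquiv
  obtain ⟨E, hE⟩ := Subgroup.exists_right_complement'_of_coprime (fittingHall_coprime (G := G))
  have hHn : (Cfsg.fittingHall G).Normal := inferInstance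
  have hfp : ∀ e ∈ E, e ≠ 1 → ∀ h ∈ Cfsg.fittingHall G, e * h = h * e → h = 1 := by
    intro e he he1 h hh hcomm
    by_contra hh1
    apply fpf hCN e h he1 hh1 hh _ hcomm
    have h1 : (Cfsg.fittingHall G).index = Nat.card E := hE.symm.index_eq_card
    have h2 := (fittingHall_coprime (G := G)).symm
    rw [h1] at h2
    exact Nat.Coprime.coprime_dvd_left (Subgroup.orderOf_dvd_natCard _ he) h2
  have hEnil : Group.IsNilpotent E :=
    nilpotent_of_cycProp _ E rfl (Cfsg.Agent.S1473.cn_subgroup hCN E) (cycProp_of_fpf E hfp hHbot)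
  have hdecomp : ∀ g : G, ∃ h ∈ Cfsg.fittingHall G, ∃ e ∈ E, h * e = g := by
    intro g
    obtain ⟨⟨⟨h, hh⟩, ⟨e, he⟩⟩, hg⟩ := hE.2 g
    exact ⟨h, hh, e, he, hg⟩
  refine ⟨hHbot, hHtop, ⟨E, hE, ⟨?_, ?_, ?_⟩, ?_⟩, ?_⟩
  · intro h0
    rw [h0] at hE
    exact hHtop (Subgroup.isComplement'_bot_right.mp hE)
  · intro h0
    rw [h0] at hE
    exact hHbot (Subgroup.isComplement'_top_right.mp hE)
  · intro g hg
    rw [eq_bot_iff]
    rintro x ⟨hxE, hxg⟩
    obtain ⟨y, hyE, hy⟩ := (Subgroup.mem_smul_pointwise_iff_exists _ _ _).mp hxg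
    rw [MulAut.smul_def, MulAut.conj_apply] at hy
    obtain ⟨h, hh, e₀, he₀, hg'⟩ := hdecomp g
    have hh1 : h ≠ 1 := by
      intro h0
      rw [h0, one_mul] at hg'
      exact hg (hg' ▸ he₀)
    have hy'E : e₀ * y * e₀⁻¹ ∈ E := mul_mem (mul_mem he₀ hyE) (inv_mem he₀)
    have hxy : x = h * (e₀ * y * e₀⁻¹) * h⁻¹ := by
      rw [← hy, ← hg']; group
    have hmemE : x * (e₀ * y * e₀⁻¹)⁻¹ ∈ E := mul_mem hxE (inv_mem hy'E)
    have hmemH : x * (e₀ * y * e₀⁻¹)⁻¹ ∈ Cfsg.fittingHall G := by
      have h1 : x * (e₀ * y * e₀⁻¹)⁻¹ = h * ((e₀ * y * e₀⁻¹) * h⁻¹ * (e₀ * y * e₀⁻¹)⁻¹) := by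
        rw [hxy]; group
      rw [h1]
      exact mul_mem hh (hHn.conj_mem _ (inv_mem hh) _)
    have hone : x * (e₀ * y * e₀⁻¹)⁻¹ = 1 := Subgroup.disjoint_def.mp hE.disjoint hmemH hmemE
    have hxeq : x = e₀ * y * e₀⁻¹ := mul_inv_eq_one.mp hone
    have hcomm : (e₀ * y * e₀⁻¹) * h = h * (e₀ * y * e₀⁻¹) := by
      have h2 : e₀ * y * e₀⁻¹ = h * (e₀ * y * e₀⁻¹) * h⁻¹ := by rw [← hxy, hxeq]
      calc (e₀ * y * e₀⁻¹) * h = h * (e₀ * y * e₀⁻¹) * h⁻¹ * h := by rw [← h2]
        _ = h * (e₀ * y * e₀⁻¹) := by group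
    by_contra hx1
    have hx1' : x ≠ 1 := fun h0 => hx1 (Subgroup.mem_bot.mpr h0)
    apply hh1
    exact hfp _ hy'E (hxeq ▸ hx1') h hh hcomm
  · intro e he he1
    rw [eq_bot_iff]
    rintro x ⟨hxH, hxc⟩
    exact Subgroup.mem_bot.mpr (hfp e he he1 x hxH (Subgroup.mem_centralizer_singleton_iff.mp hxc).symm)
  · apply Group.nilpotent_of_surjective ((QuotientGroup.mk' (Cfsg.fittingHall G)).comp E.subtype)
    intro t
    obtain ⟨g, rfl⟩ := QuotientGroup.mk'_surjective _ t
    obtain ⟨h, hh, e, he, hg⟩ := hdecomp g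
    refine ⟨⟨e, he⟩, ?_⟩
    rw [← hg]
    simp only [MonoidHom.comp_apply, Subgroup.coe_subtype, QuotientGroup.mk'_apply]
    rw [QuotientGroup.mk_mul, (QuotientGroup.eq_one_iff h).mpr hh, one_mul]

end Cfsg.Agent.S1474
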