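-- Statement S1476: solvable CN-groups (nilpotent, Frobenius, or three-step).
import Cfsg.Statements.S1476
import Cfsg.Agent.S1473
import Cfsg.Agent.S1474
import Cfsg.Agent.S1475
import Cfsg.Agent.S0003
import Cfsg.Agent.S0065
import Cfsg.Agent.Lib.Helper33.PCore
import Cfsg.Agent.Lib.Helper54.Quaternion
import Cfsg.Agent.Lib.Helper54.FpfNorm
import Cfsg.Agent.Lib.Helper65.NilCoprime

set_option autoImplicit false
open Cfsg

namespace Cfsg.Agent.S1476

open Subgroup
open Cfsg.Agent.Lib.Helper54.UniqueSubgroup (UI)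

universe u

section abstract

/-- A finite nilpotent group acting without fixed points on a nontrivial normal subgroup has at
most one subgroup of each prime order. -/
theorem ui_of_nilpotent_fpf {G : Type*} [Group G] [Finite G] {E : Type*} [Group E] [Finite E]
    [Group.IsNilpotent E] (K : Subgroup G) [K.Normal] (hK : K ≠ ⊥) (f : E →* G)
    (hfpf : ∀ e : E, e ≠ 1 → ∀ x ∈ K, f e * x = x * f e → x = 1) (q : ℕ) [Fact q.Prime] :
    UI q E := by
  intro g h hg hh hg1
  obtain ⟨T⟩ : Nonempty (Sylow q E) := inferInstance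
  have hTn : (T : Subgroup E).Normal := inferInstance
  have huniq := Sylow.unique_of_normal T hTn
  have hmem : ∀ x : E, x ^ q = 1 → x ∈ (T : Subgroup E) := by
    intro x hx
    obtain ⟨T', hT'⟩ := (Cfsg.Agent.Lib.Helper54.FpfNorm.isPGroup_zpowers hx).exists_le_sylow
    rw [Subsingleton.elim T T']
    exact hT' (mem_zpowers x)
  have hUIT : UI q (T : Subgroup E) := by
    apply Cfsg.Agent.Lib.Helper54.FpfNorm.ui_of_fpf K hK T.isPGroup'
      (f.comp (T : Subgroup E).subtype)
    intro s hs x hx hc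
    exact hfpf (s : E) (fun h0 => hs (Subtype.ext h0)) x hx hc
  have h1 := hUIT ⟨g, hmem g hg⟩ ⟨h, hmem h hh⟩ (Subtype.ext hg) (Subtype.ext hh)
    (fun h0 => hg1 (congrArg Subtype.val h0))
  obtain ⟨i, hi⟩ := mem_zpowers_iff.1 h1
  exact mem_zpowers_iff.2 ⟨i, by simpa using congrArg Subtype.val hi⟩

theorem sylow_cyclic_or_quaternion {E : Type u} [Group E] [Finite E]
    (hUI : ∀ (q : ℕ) [Fact q.Prime], UI q E) (q : ℕ) [Fact q.Prime] (T : Sylow q E) :
    IsCyclic T ∨ (q = 2 ∧ ∃ n : ℕ, Nonempty (T ≃* QuaternionGroup (2 ^ n))) :=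
  Cfsg.Agent.Lib.Helper54.Quaternion.isCyclic_or_quaternion_of_ui T.isPGroup' ((hUI q).subgroup _)

theorem quaternion_card_even (n : ℕ) : 2 ∣ Nat.card (QuaternionGroup (2 ^ n)) := by
  rw [Nat.card_eq_fintype_card, QuaternionGroup.card]
  exact Dvd.dvd.mul_right (by norm_num) _

/-- A finite nilpotent group with at most one subgroup of each prime order is cyclic, or the
product of a cyclic group of odd order and a generalized quaternion group. -/
theorem nil_ui_structure {E : Type u} [Group E] [Finite E] [Group.IsNilpotent E]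
    (hUI : ∀ (q : ℕ) [Fact q.Prime], UI q E) :
    IsCyclic E ∨ ∃ C Q : Subgroup E, C ⊔ Q = ⊤ ∧ (∀ a ∈ C, ∀ b ∈ Q, a * b = b * a) ∧ IsCyclic C ∧
      Odd (Nat.card C) ∧ ∃ n : ℕ, Nonempty (Q ≃* QuaternionGroup (2 ^ n)) := by
  have := Fact.mk Nat.prime_two
  obtain ⟨T⟩ : Nonempty (Sylow 2 E) := inferInstance
  have hTn : (T : Subgroup E).Normal := inferInstance
  have huniq := Sylow.unique_of_normal T hTn
  by_cases hTc : IsCyclic T
  · left
    have hZ : IsZGroup E := by
      refine ⟨fun p hp P => ?_⟩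
      have := Fact.mk hp
      rcases sylow_cyclic_or_quaternion hUI p P with h | ⟨h2, -⟩
      · exact h
      · subst h2
        rw [Subsingleton.elim P T]
        exact hTc
    infer_instance
  · right
    rcases sylow_cyclic_or_quaternion hUI 2 T with h | ⟨-, n, hn⟩
    · exact absurd h hTc
    obtain ⟨C, hC⟩ := Subgroup.exists_right_complement'_of_coprime (T.card_coprime_index)
    have hCodd : Odd (Nat.card C) := by
      rw [← hC.symm.index_eq_card, ← Nat.not_even_iff_odd, even_iff_two_dvd]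
      exact T.not_dvd_index
    have hZ : IsZGroup C := by
      refine ⟨fun p hp P => ?_⟩
      have := Fact.mk hp
      rcases sylow_cyclic_or_quaternion (E := C) (fun q _ => (hUI q).subgroup C) p P with
        h | ⟨-, m, ⟨e⟩⟩
      · exact h
      · exfalso
        have h3 : 2 ∣ Nat.card P := by
          rw [Nat.card_congr e.toEquiv]; exact quaternion_card_even m
        have h4 : Nat.card P ∣ Nat.card C := Subgroup.card_subgroup_dvd_card _
        exact (Nat.not_even_iff_odd.mpr hCodd) (even_iff_two_dvd.mpr (h3.trans h4))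
    have hCcyc : IsCyclic C := inferInstance
    refine ⟨C, T, ?_, ?_, hCcyc, hCodd, n, hn⟩
    · rw [sup_comm]; exact hC.sup_eq_top
    · intro a ha b hb
      apply Cfsg.Agent.Lib.Helper65.NilCoprime.commute_of_coprime E a b (isOfFinOrder_of_finite _)
        (isOfFinOrder_of_finite _)
      have h1 : orderOf a ∣ Nat.card C := Subgroup.orderOf_dvd_natCard _ ha
      have h2 : orderOf b ∣ Nat.card T := Subgroup.orderOf_dvd_natCard _ hb
      rw [Sylow.card_eq_multiplicity T] at h2
      exact Nat.Coprime.coprime_dvd_left h1 (Nat.Coprime.coprime_dvd_right h2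
        (Nat.Coprime.pow_right _ hCodd.coprime_two_right))

theorem cyclic_of_odd {E : Type u} [Group E] [Finite E] [Group.IsNilpotent E]
    (hUI : ∀ (q : ℕ) [Fact q.Prime], UI q E) (hodd : Odd (Nat.card E)) : IsCyclic E := by
  rcases nil_ui_structure hUI with h | ⟨C, Q, -, -, -, -, n, ⟨e⟩⟩
  · exact h
  · exfalso
    have h3 : 2 ∣ Nat.card Q := by
      rw [Nat.card_congr e.toEquiv]; exact quaternion_card_even n
    exact (Nat.not_even_iff_odd.mpr hodd)
      (even_iff_two_dvd.mpr (h3.trans (Subgroup.card_subgroup_dvd_card _)))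

end abstract

section hallNormal

/-- The structure of a solvable group with trivial `p`-core and a nilpotent Hall `p'`-subgroup `H`
with at most one subgroup of each prime order, no nonidentity element of which commutes with an
element of order `p`: `H` is normal of odd order and is self-centralizing in the strong sense. -/
theorem hall_normal {X : Type u} [Group X] [Finite X] [Group.IsSolvable X] (p : ℕ) [Fact p.Prime]
    (hOp : ∀ N : Subgroup X, N.Normal → IsPGroup p N → N = ⊥)
    (H : Subgroup X) (hHnil : Group.IsNilpotent H) (k : ℕ) (hidx : H.index = p ^ k) (hk : k ≠ 0)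
    (hcop : (Nat.card H).Coprime p)
    (hUI : ∀ (q : ℕ), q.Prime → ∀ a ∈ H, ∀ b ∈ H, a ^ q = 1 → b ^ q = 1 → a ≠ 1 → b ∈ zpowers a)
    (hd : ∀ s : X, orderOf s = p → ∀ a ∈ H, a ≠ 1 → s * a ≠ a * s) :
    H.Normal ∧ (∀ t ∈ H, t ^ 2 = 1 → t = 1) ∧
      ∀ x : X, x ∉ H → ∀ a ∈ H, a ≠ 1 → x * a ≠ a * x := by
  have hp : p.Prime := Fact.out
  have hle : ∀ N : Subgroup X, N.Normal → (Nat.card N).Coprime p → N ≤ H := by
    intro N hN hNc
    have h1 : (Nat.card (H ⊔ N : Subgroup X)).Coprime p :=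
      Cfsg.Agent.Lib.Helper33.PCore.card_sup_coprime hcop hNc
    have h2 : H.relIndex (H ⊔ N) ∣ p ^ k := by
      rw [← hidx, ← Subgroup.relIndex_mul_index (le_sup_left : H ≤ H ⊔ N)]
      exact Dvd.intro _ rfl
    have h3 : H.relIndex (H ⊔ N) ∣ Nat.card (H ⊔ N : Subgroup X) := Subgroup.relIndex_dvd_card _ _
    have h4 : H.relIndex (H ⊔ N) = 1 :=
      Nat.Coprime.eq_one_of_dvd (Nat.Coprime.coprime_dvd_left h3 (Nat.Coprime.pow_right k h1)) h2
    exact le_sup_right.trans (Subgroup.relIndex_eq_one.mp h4)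
  have hHtop : H ≠ ⊤ := by
    intro h0
    rw [h0, Subgroup.index_top] at hidx
    exact (Nat.one_lt_pow hk hp.one_lt).ne hidx
  have hXnt : (⊤ : Subgroup X) ≠ ⊥ := by
    intro h0
    apply hHtop
    rw [h0]
    exact le_bot_iff.mp (by rw [← h0]; exact le_top)
  obtain ⟨q, hq, N, hNn, hNq, -, hN1⟩ :=
    Cfsg.Agent.S1473.exists_normal_pgroup (⊤ : Subgroup X) inferInstance hXnt
  have := Fact.mk hq
  have hqp : q ≠ p := by
    rintro rfl
    exact hN1 (hOp N hNn hNq)
  have hNH : N ≤ H := by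
    apply hle N hNn
    obtain ⟨j, hj⟩ := IsPGroup.iff_card.mp hNq
    rw [hj]
    exact Nat.Coprime.pow_left _ ((Nat.coprime_primes hq hp).mpr hqp)
  -- an element of order q in N
  obtain ⟨x₀, hx₀⟩ := Subgroup.ne_bot_iff_exists_ne_one.mp hN1
  obtain ⟨m₀, hm1, hm2⟩ := Cfsg.Agent.Lib.Helper54.UniqueSubgroup.exists_pow_prime hNq hx₀
  obtain ⟨b, hbN, hb1, hbq⟩ : ∃ b : X, b ∈ N ∧ b ≠ 1 ∧ b ^ q = 1 :=
    ⟨((x₀ ^ m₀ : N) : X), (x₀ ^ m₀ : N).2, fun h0 => hm1 (Subtype.ext h0), by
      have := congrArg Subtype.val hm2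
      simpa using this⟩
  have hbH : b ∈ H := hNH hbN
  have hbn : ∀ g : X, g * b * g⁻¹ ∈ zpowers b := by
    intro g
    apply hUI q hq b hbH (g * b * g⁻¹) (hNH (hNn.conj_mem b hbN g)) hbq _ hb1
    rw [conj_pow, hbq, mul_one, mul_inv_cancel]
  have hzn : (zpowers b).Normal := by
    constructor
    intro n hn g
    obtain ⟨i, rfl⟩ := mem_zpowers_iff.1 hn
    rw [← conj_zpow]
    exact zpow_mem (hbn g) i
  -- b is central in H
  have hbc : ∀ a ∈ H, a * b = b * a := by
    have hNbn : ((zpowers b).subgroupOf H).Normal := inferInstance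
    have hNb1 : (zpowers b).subgroupOf H ≠ ⊥ := by
      intro h0
      have h1 : (⟨b, hbH⟩ : H) ∈ (zpowers b).subgroupOf H :=
        Subgroup.mem_subgroupOf.mpr (mem_zpowers b)
      rw [h0, Subgroup.mem_bot] at h1
      exact hb1 (congrArg Subtype.val h1)
    have h1 := Cfsg.Agent.S0065.result (G := H) ((zpowers b).subgroupOf H) hNb1
    obtain ⟨c, hc1⟩ := Subgroup.ne_bot_iff_exists_ne_one.mp h1
    have hcN : ((c : H) : X) ∈ zpowers b := Subgroup.mem_subgroupOf.mp c.2.1
    have hcZ : (c : H) ∈ center H := c.2.2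
    have hc1' : ((c : H) : X) ≠ 1 := fun h0 => hc1 (Subtype.ext (Subtype.ext h0))
    have hcq : ((c : H) : X) ^ q = 1 := by
      obtain ⟨i, hi⟩ := mem_zpowers_iff.1 hcN
      rw [← hi, ← zpow_natCast, ← zpow_mul, mul_comm, zpow_mul, zpow_natCast, hbq, one_zpow]
    have hbc' : b ∈ zpowers ((c : H) : X) := hUI q hq _ (c : H).2 b hbH hcq hbq hc1'
    obtain ⟨i, hi⟩ := mem_zpowers_iff.1 hbc'
    intro a ha
    have h2 : (⟨a, ha⟩ : H) * (c : H) = (c : H) * ⟨a, ha⟩ :=
      (Subgroup.mem_center_iff.mp hcZ ⟨a, ha⟩)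
    have h3 : a * ((c : H) : X) = ((c : H) : X) * a := congrArg Subtype.val h2
    rw [← hi]
    exact ((show Commute a ((c : H) : X) from h3).zpow_right i).eq
  -- the centralizer of ⟨b⟩
  have hCn : (centralizer (zpowers b : Set X)).Normal := inferInstance
  have hCcop : (Nat.card (centralizer (zpowers b : Set X))).Coprime p := by
    apply Nat.Coprime.symm
    rw [Nat.Prime.coprime_iff_not_dvd hp]
    intro hdvd
    obtain ⟨s, hs⟩ := exists_prime_orderOf_dvd_card' p hdvd
    have hs' : orderOf (s : X) = p := by rw [Subgroup.orderOf_coe]; exact hs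
    apply hd (s : X) hs' b hbH hb1
    exact (mem_centralizer_iff.mp s.2 b (mem_zpowers b)).symm
  have hHC : H = centralizer (zpowers b : Set X) := by
    apply le_antisymm
    · intro a ha
      rw [mem_centralizer_iff]
      intro y hy
      obtain ⟨i, rfl⟩ := mem_zpowers_iff.1 hy
      exact ((show Commute b a from (hbc a ha).symm).zpow_left i).eq
    · exact hle _ hCn hCcop
  have hHn : H.Normal := by rw [hHC]; exact hCn
  have hpX : p ∣ Nat.card X := by
    have h1 : p ∣ H.index := by rw [hidx]; exact dvd_pow_self p hk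
    exact h1.trans (Subgroup.index_dvd_card H)
  refine ⟨hHn, ?_, ?_⟩
  · intro t ht ht2
    by_contra ht1
    have ht2' : t * t = 1 := by rw [← pow_two]; exact ht2
    have hconj : ∀ g : X, g * t * g⁻¹ = t := by
      intro g
      have h1 : g * t * g⁻¹ ∈ zpowers t :=
        hUI 2 Nat.prime_two t ht (g * t * g⁻¹) (hHn.conj_mem t ht g) ht2
          (by rw [conj_pow, ht2, mul_one, mul_inv_cancel]) ht1
      obtain ⟨i, hi⟩ := mem_zpowers_iff.1 h1
      have h2 : t ^ i = t ^ (i % 2) := by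
        conv_lhs => rw [← Int.emod_add_mul_ediv i 2]
        rw [zpow_add, zpow_mul, zpow_two, ht2', one_zpow, mul_one]
      rcases Int.emod_two_eq_zero_or_one i with h3 | h3
      · rw [h3, zpow_zero] at h2
        rw [h2] at hi
        exfalso; apply ht1
        have h4 : t = g⁻¹ * (g * t * g⁻¹) * g := by group
        rw [h4, ← hi]; group
      · rw [h3, zpow_one] at h2
        rw [← hi, h2]
    obtain ⟨s, hs⟩ := exists_prime_orderOf_dvd_card' p hpX
    apply hd s hs t ht ht1
    exact mul_inv_eq_iff_eq_mul.mp (hconj s)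
  · intro x hx a ha ha1 hxa
    have hpx : p ∣ orderOf x := by
      by_contra hnd
      have hc : (p ^ k).Coprime (orderOf x) :=
        Nat.Coprime.pow_left _ ((Nat.Prime.coprime_iff_not_dvd hp).mpr hnd)
      obtain ⟨m, hm⟩ := exists_pow_eq_self_of_coprime hc
      apply hx
      rw [← hm, ← hidx]
      exact pow_mem (Subgroup.pow_index_mem H x) m
    have hs : orderOf (x ^ (orderOf x / p)) = p :=
      orderOf_pow_orderOf_div (orderOf_pos x).ne' hpx
    apply hd _ hs a ha ha1
    exact ((show Commute x a from hxa).pow_left _).eq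

end hallNormal

section loc

variable {G : Type u} [Group G] [Finite G]

/-- A Sylow subgroup contained in a normal nilpotent subgroup is normal. -/
theorem sylow_normal_of_le (p : ℕ) [Fact p.Prime] (S : Sylow p G) (D : Subgroup G) [D.Normal]
    (hD : Group.IsNilpotent D) (hSD : (S : Subgroup G) ≤ D) : (S : Subgroup G).Normal := by
  have hTn : ((S.subtype hSD : Sylow p D) : Subgroup D).Normal :=
    (Cfsg.Agent.S1474.nilpotent_iff_sylow_normal).mp hD p ⟨Fact.out⟩ _
  have hTc := Sylow.characteristic_of_normal (S.subtype hSD) hTn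
  have h7 : (((S.subtype hSD : Sylow p D) : Subgroup D).map D.subtype).Normal := inferInstance
  rw [Sylow.coe_subtype, Subgroup.subgroupOf_map_subtype, inf_eq_left.mpr hSD] at h7
  exact h7

/-- A normal nilpotent subgroup of order divisible by `q` yields a nontrivial normal
`q`-subgroup. -/
theorem exists_normal_qgroup (D : Subgroup G) [D.Normal] (hD : Group.IsNilpotent D) (q : ℕ)
    [Fact q.Prime] (hq : q ∣ Nat.card D) : ∃ N : Subgroup G, N.Normal ∧ IsPGroup q N ∧ N ≠ ⊥ := by
  obtain ⟨T⟩ : Nonempty (Sylow q D) := inferInstance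
  have hTn : (T : Subgroup D).Normal :=
    (Cfsg.Agent.S1474.nilpotent_iff_sylow_normal).mp hD q ⟨Fact.out⟩ T
  have hTc := Sylow.characteristic_of_normal T hTn
  have hn : ((T : Subgroup D).map D.subtype).Normal := inferInstance
  refine ⟨(T : Subgroup D).map D.subtype, hn, T.isPGroup'.map _, ?_⟩
  intro h0
  have h1 : Nat.card ((T : Subgroup D).map D.subtype) = 1 := by rw [h0]; exact Subgroup.card_bot
  rw [Subgroup.card_map_of_injective D.subtype_injective, Sylow.card_eq_multiplicity T] at h1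
  have h2 : 0 < (Nat.card D).factorization q :=
    Nat.Prime.factorization_pos_of_dvd Fact.out Nat.card_pos.ne' hq
  exact (Nat.one_lt_pow h2.ne' (Fact.out : q.Prime).one_lt).ne' h1

theorem coprime_of_mem {p q : ℕ} (hp : p.Prime) (hq : q.Prime) (hpq : p ≠ q) {A B : Subgroup G}
    (hA : IsPGroup p A) (hB : IsPGroup q B) {u w : G} (hu : u ∈ A) (hw : w ∈ B) :
    (orderOf u).Coprime (orderOf w) := by
  have := Fact.mk hp
  have := Fact.mk hq
  obtain ⟨a, ha⟩ := IsPGroup.iff_card.mp hA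
  obtain ⟨b, hb⟩ := IsPGroup.iff_card.mp hB
  have h1 : orderOf u ∣ p ^ a := ha ▸ Subgroup.orderOf_dvd_natCard _ hu
  have h2 : orderOf w ∣ q ^ b := hb ▸ Subgroup.orderOf_dvd_natCard _ hw
  exact Nat.Coprime.coprime_dvd_left h1 (Nat.Coprime.coprime_dvd_right h2
    (Nat.Coprime.pow _ _ ((Nat.coprime_primes hp hq).mpr hpq)))

/-- In a CN-group without nontrivial normal Sylow subgroups and with `O_p(G) ≠ 1`, there is no
nontrivial normal `q`-subgroup for `q ≠ p`. -/
theorem no_normal_qgroup (hCN : Cfsg.IsCNGroup G)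
    (hns : ∀ (q : ℕ) [Fact q.Prime] (S : Sylow q G), (S : Subgroup G).Normal → (S : Subgroup G) = ⊥)
    (p : ℕ) [Fact p.Prime] (hP : pCore p G ≠ ⊥) (q : ℕ) [Fact q.Prime] (hqp : q ≠ p)
    (N : Subgroup G) (hNn : N.Normal) (hNq : IsPGroup q N) : N = ⊥ := by
  by_contra hN1
  have hp : p.Prime := Fact.out
  have hq : q.Prime := Fact.out
  have hPn : (pCore p G).Normal := Cfsg.Agent.Lib.Helper33.PCore.pCore_normal p
  have hPp : IsPGroup p (pCore p G) := Cfsg.Agent.Lib.Helper33.PCore.pCore_isPGroup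
  obtain ⟨S⟩ : Nonempty (Sylow p G) := inferInstance
  have hPS : pCore p G ≤ (S : Subgroup G) := Cfsg.Agent.Lib.Helper33.PCore.pCore_le_sylow S
  have hpdvd : p ∣ Nat.card ((pCore p G : Subgroup G) : Set G) := by
    rcases hPp.card_eq_or_dvd with h | h
    · exact absurd (Subgroup.card_eq_one.mp h) hP
    · exact h
  obtain ⟨z, hzP, hz1, hzfix⟩ := Cfsg.Agent.S1473.exists_fixed_ne p (S : Subgroup G) S.isPGroup'
    ((pCore p G : Subgroup G) : Set G) (fun u _ y hy => hPn.conj_mem y hy u) hpdvd 1 (one_mem _)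
    (fun u _ => by rw [mul_one, mul_inv_cancel])
  have hPN : ∀ x ∈ pCore p G, ∀ w ∈ N, x * w = w * x := by
    intro x hx w hw
    have h1 : x * w * x⁻¹ * w⁻¹ ∈ pCore p G ⊓ N := by
      refine Subgroup.mem_inf.mpr ⟨?_, ?_⟩
      · have h2 : x * w * x⁻¹ * w⁻¹ = x * (w * x⁻¹ * w⁻¹) := by group
        rw [h2]; exact mul_mem hx (hPn.conj_mem _ (inv_mem hx) w)
      · exact mul_mem (hNn.conj_mem w hw x) (inv_mem hw)
    rw [(IsPGroup.disjoint_of_ne p q hqp.symm _ _ hPp hNq).eq_bot, Subgroup.mem_bot] at h1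
    exact mul_inv_eq_iff_eq_mul.mp (mul_inv_eq_one.mp h1)
  have hSN : ∀ u ∈ (S : Subgroup G), ∀ w ∈ N, u * w = w * u := by
    intro u hu w hw
    apply Cfsg.Agent.S1474.commute_of_cn hCN z u w hz1
    · exact mul_inv_eq_iff_eq_mul.mp (hzfix u hu)
    · exact (hPN z hzP w hw).symm
    · exact coprime_of_mem hp hq hqp.symm S.isPGroup' hNq hu hw
  obtain ⟨w₀, hw₀N, hw₀1⟩ : ∃ w₀ : G, w₀ ∈ N ∧ w₀ ≠ 1 := by
    obtain ⟨w, hw⟩ := Subgroup.ne_bot_iff_exists_ne_one.mp hN1
    exact ⟨w, w.2, fun h0 => hw (Subtype.ext h0)⟩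
  have hDn : (Subgroup.centralizer (N : Set G)).Normal := inferInstance
  have hDnil : Group.IsNilpotent (Subgroup.centralizer (N : Set G)) := by
    apply Cfsg.Agent.S1473.nilp_of_le _ (hCN w₀ hw₀1)
    apply Subgroup.centralizer_le
    intro y hy
    rw [Set.mem_singleton_iff] at hy
    rw [hy]; exact hw₀N
  have hSD : (S : Subgroup G) ≤ Subgroup.centralizer (N : Set G) := fun u hu =>
    Subgroup.mem_centralizer_iff.mpr (fun w hw => (hSN u hu w hw).symm)
  have hSn : (S : Subgroup G).Normal := sylow_normal_of_le p S _ hDnil hSD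
  have hS0 := hns p S hSn
  rw [hS0] at hPS
  exact hP (le_bot_iff.mp hPS)

/-- No nonidentity `p'`-element centralizes a nonidentity element of `O_p(G)`. -/
theorem fpf_pcore (hCN : Cfsg.IsCNGroup G)
    (hns : ∀ (q : ℕ) [Fact q.Prime] (S : Sylow q G), (S : Subgroup G).Normal → (S : Subgroup G) = ⊥)
    (p : ℕ) [Fact p.Prime] (hP : pCore p G ≠ ⊥) (b z : G) (hb1 : b ≠ 1)
    (hbp : (orderOf b).Coprime p) (hz : z ∈ pCore p G) (hz1 : z ≠ 1) (hbz : b * z = z * b) :
    False := by
  have hp : p.Prime := Fact.out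
  have hob : orderOf b ≠ 1 := fun h0 => hb1 (orderOf_eq_one_iff.mp h0)
  obtain ⟨q, hq, hqb⟩ := Nat.exists_prime_and_dvd hob
  have := Fact.mk hq
  have hqp : q ≠ p := by
    rintro rfl
    exact hq.one_lt.ne' (Nat.eq_one_of_dvd_coprimes hbp hqb dvd_rfl)
  have hob' : orderOf (b ^ (orderOf b / q)) = q := orderOf_pow_orderOf_div (orderOf_pos b).ne' hqb
  have hb'z : b ^ (orderOf b / q) * z = z * b ^ (orderOf b / q) :=
    ((show Commute b z from hbz).pow_left _).eq
  generalize b ^ (orderOf b / q) = b' at hob' hb'z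
  have hb'1 : b' ≠ 1 := by
    intro h0; rw [h0, orderOf_one] at hob'; exact hq.one_lt.ne hob'
  have hPn : (pCore p G).Normal := Cfsg.Agent.Lib.Helper33.PCore.pCore_normal p
  have hPp : IsPGroup p (pCore p G) := Cfsg.Agent.Lib.Helper33.PCore.pCore_isPGroup
  have hPnil : Group.IsNilpotent (pCore p G) := hPp.isNilpotent
  have : Nontrivial (pCore p G) := (Subgroup.nontrivial_iff_ne_bot _).mpr hP
  have hZ : Subgroup.center (pCore p G) ≠ ⊥ := Group.IsNilpotent.center_ne_bot _
  obtain ⟨⟨z₀, hz₀Z⟩, hz₀1⟩ := Subgroup.ne_bot_iff_exists_ne_one.mp hZ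
  have hz₀c : ∀ x ∈ pCore p G, x * (z₀ : G) = z₀ * x := fun x hx =>
    congrArg Subtype.val (Subgroup.mem_center_iff.mp hz₀Z ⟨x, hx⟩)
  have hz₀1' : (z₀ : G) ≠ 1 := fun h0 => hz₀1 (Subtype.ext (Subtype.ext h0))
  have hord : ∀ x ∈ pCore p G, (orderOf b').Coprime (orderOf x) := by
    intro x hx
    obtain ⟨a, ha⟩ := IsPGroup.iff_card.mp hPp
    have h1 : orderOf x ∣ p ^ a := ha ▸ Subgroup.orderOf_dvd_natCard _ hx
    rw [hob']
    exact Nat.Coprime.coprime_dvd_right h1
      (Nat.Coprime.pow_right _ ((Nat.coprime_primes hq hp).mpr hqp))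
  have h1 : b' * (z₀ : G) = z₀ * b' :=
    Cfsg.Agent.S1474.commute_of_cn hCN z b' z₀ hz1 hb'z (hz₀c z hz).symm (hord z₀ z₀.2)
  have h2 : ∀ x ∈ pCore p G, b' * x = x * b' := fun x hx =>
    Cfsg.Agent.S1474.commute_of_cn hCN z₀ b' x hz₀1' h1 (hz₀c x hx) (hord x hx)
  have hDn : (Subgroup.centralizer (pCore p G : Set G)).Normal := inferInstance
  have hDnil : Group.IsNilpotent (Subgroup.centralizer (pCore p G : Set G)) := by
    apply Cfsg.Agent.S1473.nilp_of_le _ (hCN z hz1)
    apply Subgroup.centralizer_le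
    intro y hy
    rw [Set.mem_singleton_iff] at hy
    rw [hy]; exact hz
  have hb'D : b' ∈ Subgroup.centralizer (pCore p G : Set G) :=
    Subgroup.mem_centralizer_iff.mpr (fun x hx => (h2 x hx).symm)
  have hqD : q ∣ Nat.card (Subgroup.centralizer (pCore p G : Set G)) := by
    rw [← hob']; exact Subgroup.orderOf_dvd_natCard _ hb'D
  obtain ⟨N, hNn, hNq, hN1⟩ := exists_normal_qgroup _ hDnil q hqD
  exact hN1 (no_normal_qgroup hCN hns p hP q hqp N hNn hNq)

/-- A `p`-element outside `O_p(G)` does not centralize a nonidentity `p'`-element modulo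
`O_p(G)`. -/
theorem comm_not_mem (hCN : Cfsg.IsCNGroup G)
    (hns : ∀ (q : ℕ) [Fact q.Prime] (S : Sylow q G), (S : Subgroup G).Normal → (S : Subgroup G) = ⊥)
    (p : ℕ) [Fact p.Prime] (hP : pCore p G ≠ ⊥) (s a : G) (hs : s ∉ pCore p G)
    (j : ℕ) (hsj : s ^ (p ^ j) ∈ pCore p G) (ha1 : a ≠ 1) (hap : (orderOf a).Coprime p)
    (hsa : s * a * s⁻¹ * a⁻¹ ∈ pCore p G) : False := by
  have hp : p.Prime := Fact.out
  have hPn : (pCore p G).Normal := Cfsg.Agent.Lib.Helper33.PCore.pCore_normal p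
  have hPp : IsPGroup p (pCore p G) := Cfsg.Agent.Lib.Helper33.PCore.pCore_isPGroup
  have hcomm : Commute (s : G ⧸ pCore p G) (a : G ⧸ pCore p G) := by
    have h1 : ((s * a * s⁻¹ * a⁻¹ : G) : G ⧸ pCore p G) = 1 := (QuotientGroup.eq_one_iff _).mpr hsa
    simp only [QuotientGroup.mk_mul, QuotientGroup.mk_inv] at h1
    rw [mul_inv_eq_one, mul_inv_eq_iff_eq_mul] at h1
    exact h1
  have hoa : orderOf a ≠ 1 := fun h0 => ha1 (orderOf_eq_one_iff.mp h0)
  obtain ⟨q, hq, hqa⟩ := Nat.exists_prime_and_dvd hoa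
  have := Fact.mk hq
  have hqp : q ≠ p := by
    rintro rfl
    exact hq.one_lt.ne' (Nat.eq_one_of_dvd_coprimes hap hqa dvd_rfl)
  have hoa' : orderOf (a ^ (orderOf a / q)) = q := orderOf_pow_orderOf_div (orderOf_pos a).ne' hqa
  have hyg : a ^ (orderOf a / q) * s * (a ^ (orderOf a / q))⁻¹ * s⁻¹ ∈ pCore p G := by
    rw [← QuotientGroup.eq_one_iff]
    simp only [QuotientGroup.mk_mul, QuotientGroup.mk_inv, QuotientGroup.mk_pow]
    rw [mul_inv_eq_one, mul_inv_eq_iff_eq_mul]
    exact (hcomm.pow_right _).symm.eq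
  generalize a ^ (orderOf a / q) = a' at hoa' hyg
  have ha'1 : a' ≠ 1 := by
    intro h0; rw [h0, orderOf_one] at hoa'; exact hq.one_lt.ne hoa'
  obtain ⟨n, hn, hcn⟩ := Cfsg.Agent.S1473.exists_commute_in_coset p q hqp.symm (pCore p G) hPp a' s 1
    (by rw [hoa', pow_one]) hyg
  have hs'P : s * n ∉ pCore p G := fun h0 => hs (by
    have := mul_mem h0 (inv_mem hn)
    rwa [mul_inv_cancel_right] at this)
  have hs'1 : s * n ≠ 1 := fun h0 => hs'P (h0 ▸ one_mem _)
  have hs'j : (s * n) ^ (p ^ j) ∈ pCore p G := by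
    rw [← QuotientGroup.eq_one_iff] at hsj ⊢
    rw [QuotientGroup.mk_pow] at hsj ⊢
    rw [QuotientGroup.mk_mul, (QuotientGroup.eq_one_iff n).mpr hn, mul_one]
    exact hsj
  obtain ⟨i, hi⟩ := hPp ⟨_, hs'j⟩
  have hi' : (s * n) ^ (p ^ (j + i)) = 1 := by
    have := congrArg Subtype.val hi
    rw [pow_add, pow_mul]
    simpa using this
  obtain ⟨l, -, hl⟩ := (Nat.dvd_prime_pow hp).mp (orderOf_dvd_of_pow_eq_one hi')
  have hR : IsPGroup p (zpowers (s * n)) := IsPGroup.of_card (n := l) (by rw [Nat.card_zpowers, hl])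
  have hpdvd : p ∣ Nat.card ((pCore p G : Subgroup G) : Set G) := by
    rcases hPp.card_eq_or_dvd with h | h
    · exact absurd (Subgroup.card_eq_one.mp h) hP
    · exact h
  obtain ⟨z, hzP, hz1, hzfix⟩ := Cfsg.Agent.S1473.exists_fixed_ne p (zpowers (s * n)) hR
    ((pCore p G : Subgroup G) : Set G) (fun u _ y hy => hPn.conj_mem y hy u) hpdvd 1 (one_mem _)
    (fun u _ => by rw [mul_one, mul_inv_cancel])
  have hs'z : (s * n) * z = z * (s * n) := mul_inv_eq_iff_eq_mul.mp (hzfix _ (mem_zpowers _))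
  have hordz : (orderOf a').Coprime (orderOf z) := by
    obtain ⟨c, hc⟩ := IsPGroup.iff_card.mp hPp
    have h1 : orderOf z ∣ p ^ c := hc ▸ Subgroup.orderOf_dvd_natCard _ hzP
    rw [hoa']
    exact Nat.Coprime.coprime_dvd_right h1
      (Nat.Coprime.pow_right _ ((Nat.coprime_primes hq hp).mpr hqp))
  have ha'z : a' * z = z * a' :=
    Cfsg.Agent.S1474.commute_of_cn hCN (s * n) a' z hs'1 hcn.eq hs'z.symm hordz
  apply fpf_pcore hCN hns p hP a' z ha'1 _ hzP hz1 ha'z
  rw [hoa']
  exact (Nat.coprime_primes hq hp).mpr hqp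

end loc

section main

variable {G : Type u} [Group G] [Finite G]

theorem cycProp_of_fpf' (K : Subgroup G) [K.Normal] (hKnil : Group.IsNilpotent K) (hK1 : K ≠ ⊥)
    (E : Subgroup G) (hfp : ∀ e ∈ E, e ≠ 1 → ∀ h ∈ K, e * h = h * e → h = 1) :
    Cfsg.Agent.S1474.CycProp E := by
  intro A hA
  have hVc : IsMulCommutative (K ⊓ Subgroup.centralizer (K : Set G) : Subgroup G) :=
    ⟨⟨fun a b => Subtype.ext (Subgroup.mem_centralizer_iff.mp b.2.2 a a.2.1)⟩⟩
  have hVn : (K ⊓ Subgroup.centralizer (K : Set G) : Subgroup G).Normal := inferInstance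
  have hV1 : (K ⊓ Subgroup.centralizer (K : Set G) : Subgroup G) ≠ ⊥ := by
    have : Nontrivial K := (Subgroup.nontrivial_iff_ne_bot _).mpr hK1
    have hZ : Subgroup.center K ≠ ⊥ := Group.IsNilpotent.center_ne_bot _
    obtain ⟨⟨z, hzZ⟩, hz1⟩ := Subgroup.ne_bot_iff_exists_ne_one.mp hZ
    intro h0
    have hzV : (z : G) ∈ (K ⊓ Subgroup.centralizer (K : Set G) : Subgroup G) :=
      ⟨z.2, Subgroup.mem_centralizer_iff.mpr (fun x hx =>
        congrArg Subtype.val (Subgroup.mem_center_iff.mp hzZ ⟨x, hx⟩))⟩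
    rw [h0, Subgroup.mem_bot] at hzV
    exact hz1 (Subtype.ext (Subtype.ext hzV))
  have e : A ≃* A.map E.subtype := A.equivMapOfInjective E.subtype E.subtype_injective
  have hcyc : IsCyclic (A.map E.subtype) := by
    apply Cfsg.Agent.S0041.result (A.map E.subtype)
      (K ⊓ Subgroup.centralizer (K : Set G) : Subgroup G) hV1
    · rw [Subgroup.normalizer_eq_top]; exact le_top
    · rintro a ha ha1
      rw [eq_bot_iff]
      rintro x ⟨hxV, hxc⟩
      have haE : a ∈ E := by
        obtain ⟨a', -, rfl⟩ := ha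
        exact a'.2
      exact Subgroup.mem_bot.mpr
        (hfp a haE ha1 x hxV.1 (Subgroup.mem_centralizer_singleton_iff.mp hxc).symm)
    · rcases hA with hA | ⟨p, q, hp, hq, hcard⟩
      · left; have := hA; infer_instance
      · right
        exact ⟨p, q, hp, hq, by
          rw [Subgroup.card_map_of_injective E.subtype_injective]; exact hcard⟩
  exact isCyclic_of_surjective e.symm e.symm.surjective

theorem caseB [Group.IsSolvable G] (hCN : Cfsg.IsCNGroup G) (hnn : ¬ Group.IsNilpotent G)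
    (hns : ∀ (q : ℕ) [Fact q.Prime] (S : Sylow q G), (S : Subgroup G).Normal → (S : Subgroup G) = ⊥) :
    ∃ p : ℕ, p.Prime ∧ Cfsg.IsThreeStepGroup p G := by
  have hGnt : (⊤ : Subgroup G) ≠ ⊥ := by
    intro h0
    apply hnn
    have h1 : Subsingleton (Subgroup G) := subsingleton_of_bot_eq_top h0.symm
    have h2 : Subsingleton G := Subgroup.subsingleton_iff.mp h1
    infer_instance
  obtain ⟨p, hp, N, hNn, hNp, -, hN1⟩ :=
    Cfsg.Agent.S1473.exists_normal_pgroup (⊤ : Subgroup G) inferInstance hGnt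
  have := Fact.mk hp
  have hP : pCore p G ≠ ⊥ := by
    intro h0
    have h1 := Cfsg.Agent.Lib.Helper33.PCore.le_pCore hNp
    rw [h0] at h1
    exact hN1 (le_bot_iff.mp h1)
  refine ⟨p, hp, hP, ?_⟩
  have hPn : (pCore p G).Normal := Cfsg.Agent.Lib.Helper33.PCore.pCore_normal p
  have hPp : IsPGroup p (pCore p G) := Cfsg.Agent.Lib.Helper33.PCore.pCore_isPGroup
  obtain ⟨i, hPcard⟩ := IsPGroup.iff_card.mp hPp
  -- a Hall p'-subgroup
  obtain ⟨m, k, hcard, hcop⟩ : ∃ m k : ℕ, Nat.card G = m * p ^ k ∧ m.Coprime p :=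
    ⟨_, _, by rw [mul_comm]; exact (Nat.ordProj_mul_ordCompl_eq_self _ _).symm,
      (Nat.coprime_ordCompl hp Nat.card_pos.ne').symm⟩
  have hm0 : m ≠ 0 := by
    rintro rfl
    rw [zero_mul] at hcard
    exact Nat.card_pos.ne' hcard
  obtain ⟨A, hA⟩ := Cfsg.Agent.S0003.result m (p ^ k) hcard (Nat.Coprime.pow_right k hcop)
  have hAcop : (Nat.card A).Coprime p := by rw [hA]; exact hcop
  have hAidx : A.index = p ^ k := by
    have h1 := Subgroup.card_mul_index A
    rw [hA, hcard] at h1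
    exact Nat.eq_of_mul_eq_mul_left (Nat.pos_of_ne_zero hm0) h1
  have hdisj : Disjoint (pCore p G) A := by
    apply Subgroup.disjoint_of_coprime_natCard
    rw [hPcard]
    exact Nat.Coprime.pow_left _ hAcop.symm
  have hPA_card : Nat.card (pCore p G ⊔ A : Subgroup G) = Nat.card (pCore p G) * Nat.card A :=
    Cfsg.Agent.S1475.card_sup_of_normalizer (pCore p G) A
      (by rw [Subgroup.normalizer_eq_top]; exact le_top) hdisj
  obtain ⟨n, -, hn⟩ := (Nat.dvd_prime_pow hp).mp
    (hAidx ▸ Subgroup.index_dvd_of_le (le_sup_right : A ≤ pCore p G ⊔ A))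
  have hmemPA : ∀ x : G, x ∈ pCore p G → x ∈ A → x = 1 := fun x hx hxA =>
    Subgroup.disjoint_def.mp hdisj hx hxA
  -- P ⊔ A is proper
  have hPAtop : pCore p G ⊔ A ≠ ⊤ := by
    intro h0
    obtain ⟨S⟩ : Nonempty (Sylow p G) := inferInstance
    have hPS : pCore p G ≤ (S : Subgroup G) := Cfsg.Agent.Lib.Helper33.PCore.pCore_le_sylow S
    obtain ⟨c, hc⟩ := IsPGroup.iff_card.mp S.isPGroup'
    have h1 : Nat.card G = Nat.card (pCore p G) * m := by
      rw [← hA, ← hPA_card, h0, Subgroup.card_top]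
    have h2 : Nat.card (S : Subgroup G) ∣ Nat.card (pCore p G) := by
      apply Nat.Coprime.dvd_of_dvd_mul_right (k := Nat.card (S : Subgroup G)) (n := m)
      · rw [hc]; exact Nat.Coprime.pow_left _ hcop.symm
      · rw [← h1]; exact Subgroup.card_subgroup_dvd_card _
    have h3 : pCore p G = (S : Subgroup G) :=
      Subgroup.eq_of_le_of_card_ge hPS (Nat.le_of_dvd Nat.card_pos h2)
    have hSn : (S : Subgroup G).Normal := h3 ▸ hPn
    have hS0 := hns p S hSn
    rw [hS0] at h3
    exact hP h3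
  have hn0 : n ≠ 0 := by
    rintro rfl
    rw [pow_zero] at hn
    exact hPAtop (Subgroup.index_eq_one.mp hn)
  -- A ≠ ⊥
  have hA1 : A ≠ ⊥ := by
    intro h0
    apply hnn
    have h1 : m = 1 := by rw [← hA, h0]; exact Subgroup.card_bot
    rw [h1, one_mul] at hcard
    exact (IsPGroup.of_card hcard).isNilpotent
  -- fixed-point-freeness
  have hfp : ∀ e ∈ A, e ≠ 1 → ∀ h ∈ pCore p G, e * h = h * e → h = 1 := by
    intro e he he1 h hh hc
    by_contra hh1
    exact fpf_pcore hCN hns p hP e h he1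
      (Nat.Coprime.coprime_dvd_left (Subgroup.orderOf_dvd_natCard _ he) hAcop) hh hh1 hc
  have hAnil : Group.IsNilpotent A :=
    Cfsg.Agent.S1474.nilpotent_of_cycProp _ A rfl (Cfsg.Agent.S1473.cn_subgroup hCN A)
      (cycProp_of_fpf' (pCore p G) hPp.isNilpotent hP A hfp)
  have hUIA : ∀ (q : ℕ) [Fact q.Prime], UI q A := fun q _ =>
    ui_of_nilpotent_fpf (pCore p G) hP A.subtype (fun e he1 x hx hc =>
      hfp (e : G) e.2 (fun h0 => he1 (Subtype.ext h0)) x hx hc) q
  -- the quotient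
  have hker : (QuotientGroup.mk' (pCore p G)).ker = pCore p G := QuotientGroup.ker_mk' _
  have hf1 : ∀ x : G, QuotientGroup.mk' (pCore p G) x = 1 ↔ x ∈ pCore p G := fun x =>
    QuotientGroup.eq_one_iff x
  have hOp : ∀ N : Subgroup (G ⧸ pCore p G), N.Normal → IsPGroup p N → N = ⊥ := by
    intro N hNn hNp
    have h1 : IsPGroup p (N.comap (QuotientGroup.mk' (pCore p G))) :=
      hNp.comap_of_ker_isPGroup _ (by rw [hker]; exact hPp)
    have h2 : (N.comap (QuotientGroup.mk' (pCore p G))).Normal := inferInstance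
    have h3 := Cfsg.Agent.Lib.Helper33.PCore.le_pCore h1
    rw [← Subgroup.map_comap_eq_self_of_surjective (QuotientGroup.mk'_surjective (pCore p G)) N,
      eq_bot_iff]
    exact (Subgroup.map_mono h3).trans (le_of_eq (QuotientGroup.map_mk'_self _))
  have hHidx : (A.map (QuotientGroup.mk' (pCore p G))).index = p ^ n := by
    rw [Subgroup.index_map, hker, MonoidHom.range_eq_top.mpr (QuotientGroup.mk'_surjective _),
      Subgroup.index_top, mul_one, sup_comm]
    exact hn
  have hHcop : (Nat.card (A.map (QuotientGroup.mk' (pCore p G)))).Coprime p :=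
    Nat.Coprime.coprime_dvd_left (Subgroup.card_map_dvd _ _) hAcop
  have hX := hall_normal (X := G ⧸ pCore p G) p hOp (A.map (QuotientGroup.mk' (pCore p G)))
    (Cfsg.Agent.S1473.nilp_map _ A hAnil) n hHidx hn0 hHcop
    (by
      rintro q hq _ ⟨a, ha, rfl⟩ _ ⟨b, hb, rfl⟩ haq hbq ha1
      have := Fact.mk hq
      have haq' : a ^ q = 1 := by
        apply hmemPA _ _ (pow_mem ha q)
        rw [← hf1, map_pow]; exact haq
      have hbq' : b ^ q = 1 := by
        apply hmemPA _ _ (pow_mem hb q)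
        rw [← hf1, map_pow]; exact hbq
      have ha1' : (⟨a, ha⟩ : A) ≠ 1 := by
        intro h0
        apply ha1
        have : a = 1 := congrArg Subtype.val h0
        rw [this, map_one]
      have h1 := hUIA q ⟨a, ha⟩ ⟨b, hb⟩ (Subtype.ext haq') (Subtype.ext hbq') ha1'
      obtain ⟨c, hc⟩ := mem_zpowers_iff.1 h1
      have hc' : a ^ c = b := by simpa using congrArg Subtype.val hc
      exact mem_zpowers_iff.2 ⟨c, by rw [← hc', map_zpow]⟩)
    (by
      rintro s' hs' _ ⟨a, ha, rfl⟩ ha1 hsa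
      obtain ⟨s, rfl⟩ := QuotientGroup.mk'_surjective (pCore p G) s'
      have hsP : s ∉ pCore p G := by
        intro h0
        rw [(hf1 s).mpr h0, orderOf_one] at hs'
        exact hp.one_lt.ne hs'
      have hsj : s ^ (p ^ 1) ∈ pCore p G := by
        rw [← hf1, map_pow, pow_one]
        have h0 := pow_orderOf_eq_one (QuotientGroup.mk' (pCore p G) s)
        rwa [hs'] at h0
      have ha1' : a ≠ 1 := by
        rintro rfl
        exact ha1 (map_one _)
      apply comm_not_mem hCN hns p hP s a hsP 1 hsj ha1'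
        (Nat.Coprime.coprime_dvd_left (Subgroup.orderOf_dvd_natCard _ ha) hAcop)
      rw [← hf1]
      simp only [map_mul, map_inv]
      rw [hsa]
      group)
  obtain ⟨hHn, hHinv, hHc⟩ := hX
  have hcomap : (A.map (QuotientGroup.mk' (pCore p G))).comap (QuotientGroup.mk' (pCore p G)) =
      pCore p G ⊔ A := by
    rw [Subgroup.comap_map_eq, hker, sup_comm]
  have hPAn : (pCore p G ⊔ A).Normal := by
    rw [← hcomap]; infer_instance
  have hAodd : Odd (Nat.card A) := by
    rw [← Nat.not_even_iff_odd, even_iff_two_dvd]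
    intro h2
    obtain ⟨t, ht⟩ := exists_prime_orderOf_dvd_card' 2 h2
    have ht2 : (t : G) ^ 2 = 1 := by
      have := pow_orderOf_eq_one t
      rw [ht] at this
      simpa using congrArg Subtype.val this
    have h3 := hHinv _ (Subgroup.mem_map_of_mem _ t.2) (by rw [← map_pow, ht2, map_one])
    have h4 : (t : G) = 1 := hmemPA _ ((hf1 _).mp h3) t.2
    have h5 : t = 1 := Subtype.ext h4
    rw [h5, orderOf_one] at ht
    omega
  have hAcyc : IsCyclic A := cyclic_of_odd hUIA hAodd
  refine ⟨A, hA1, hAcyc, hAodd, hAcop, hPAn, hPAtop, ⟨n, hn⟩, ?_, ?_⟩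
  · intro a ha ha1
    rw [eq_bot_iff]
    rintro x ⟨hxP, hxc⟩
    exact Subgroup.mem_bot.mpr
      (hfp a ha ha1 x hxP (Subgroup.mem_centralizer_singleton_iff.mp hxc).symm)
  · intro x hx a ha ha1 hxa
    have hx' : QuotientGroup.mk' (pCore p G) x ∉ A.map (QuotientGroup.mk' (pCore p G)) := by
      intro h0
      apply hx
      rw [← hcomap]
      exact Subgroup.mem_comap.mpr h0
    have ha1' : QuotientGroup.mk' (pCore p G) a ≠ 1 := fun h0 =>
      ha1 (hmemPA a ((hf1 a).mp h0) ha)
    apply hHc _ hx' _ (Subgroup.mem_map_of_mem _ ha) ha1'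
    have h1 := (hf1 _).mpr hxa
    rw [map_mul, map_mul, map_inv, map_inv, mul_inv_eq_one, mul_inv_eq_iff_eq_mul] at h1
    exact h1

end main

/-- Let G be a finite solvable group in which every non-identity element has nilpotent centralizer. Then either G is nilpotent; or G has a normal subgroup K with a Frobenius complement E (K E = G, K ∩ E = 1, E meets its conjugates by outside elements trivially) such that E is cyclic or E is generated by two elementwise-commuting subgroups, one cyclic of odd order and one isomorphic to a generalized quaternion group; or G is a three-step group with respect to some prime p. -/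
theorem result {G : Type*} [Group G] [Finite G] [Group.IsSolvable G] (hCN : Cfsg.IsCNGroup G) :
    Group.IsNilpotent G ∨
      (∃ K E : Subgroup G, K.Normal ∧ Subgroup.IsComplement' K E ∧ Cfsg.IsFrobeniusComplement E ∧
        (IsCyclic E ∨ ∃ C Q : Subgroup G, C ⊔ Q = E ∧ (∀ a ∈ C, ∀ b ∈ Q, a * b = b * a) ∧ IsCyclic C ∧ Odd (Nat.card C) ∧
          ∃ n : ℕ, Nonempty (↥Q ≃* QuaternionGroup (2 ^ n)))) ∨
      ∃ p : ℕ, p.Prime ∧ Cfsg.IsThreeStepGroup p G := by
  by_cases hnn : Group.IsNilpotent G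
  · left; exact hnn
  right
  by_cases hns : ∀ (q : ℕ) [Fact q.Prime] (S : Sylow q G), (S : Subgroup G).Normal →
      (S : Subgroup G) = ⊥
  · right; exact caseB hCN hnn hns
  · left
    push Not at hns
    obtain ⟨q, hqF, S, hSn, hS1⟩ := hns
    obtain ⟨hH1, hHtop, ⟨E, hE, hEF, hEfp⟩, hquot⟩ := Cfsg.Agent.S1474.result hCN hnn q S hS1 hSn
    have hHn : (Cfsg.fittingHall G).Normal := inferInstance
    refine ⟨Cfsg.fittingHall G, E, hHn, hE, hEF, ?_⟩
    have hEnil : Group.IsNilpotent E := by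
      apply Cfsg.Agent.S1473.nilp_of_injective
        ((QuotientGroup.mk' (Cfsg.fittingHall G)).comp E.subtype)
      rw [injective_iff_map_eq_one]
      intro e he
      have h1 : (e : G) ∈ Cfsg.fittingHall G := (QuotientGroup.eq_one_iff _).mp he
      exact Subtype.ext (Subgroup.disjoint_def.mp hE.disjoint h1 e.2)
    have hUIE : ∀ (r : ℕ) [Fact r.Prime], UI r E := fun r _ =>
      ui_of_nilpotent_fpf (Cfsg.fittingHall G) hH1 E.subtype (fun e he1 x hx hc => by
        have h1 := hEfp (e : G) e.2 (fun h0 => he1 (Subtype.ext h0))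
        have h2 : x ∈ Cfsg.fittingHall G ⊓ Subgroup.centralizer ({(e : G)} : Set G) :=
          ⟨hx, Subgroup.mem_centralizer_singleton_iff.mpr hc.symm⟩
        rw [h1] at h2
        exact Subgroup.mem_bot.mp h2) r
    rcases nil_ui_structure hUIE with h | ⟨C, Q, hCQ, hcomm, hCc, hCodd, n, ⟨e⟩⟩
    · left; exact h
    · right
      refine ⟨C.map E.subtype, Q.map E.subtype, ?_, ?_, ?_, ?_, n, ⟨?_⟩⟩
      · rw [← Subgroup.map_sup, hCQ, ← MonoidHom.range_eq_map, Subgroup.range_subtype]
      · rintro _ ⟨a, ha, rfl⟩ _ ⟨b, hb, rfl⟩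
        exact congrArg Subtype.val (hcomm a ha b hb)
      · exact isCyclic_of_surjective _
          (C.equivMapOfInjective E.subtype E.subtype_injective).surjective
      · rw [Subgroup.card_map_of_injective E.subtype_injective]; exact hCodd
      · exact (Q.equivMapOfInjective E.subtype E.subtype_injective).symm.trans e

end Cfsg.Agent.S1476
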