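-- Statement S3857: a solvable group with disconnected prime graph is Frobenius or 2-Frobenius.
import Cfsg.Statements.S3857
import Cfsg.Agent.S1476
import Cfsg.Agent.Lib.Helper91.Hall

set_option autoImplicit false
open Cfsg

namespace Cfsg.Agent.S3857

open Subgroup
open scoped Pointwise commutatorElement

universe u

/-- A complement acting without fixed points on a normal subgroup is a Frobenius complement,
and the normal subgroup is the Frobenius kernel. -/
theorem frob_of_fpf {X : Type*} [Group X] [Finite X] (N C : Subgroup X) [hNn : N.Normal]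
    (hN : N ≠ ⊥) (hC : C ≠ ⊥) (hcompl : Subgroup.IsComplement' N C)
    (hfpf : ∀ c ∈ C, ∀ n ∈ N, c * n = n * c → c = 1 ∨ n = 1) :
    Cfsg.IsFrobeniusComplement C ∧ Cfsg.frobeniusKernel C = (N : Set X) := by
  have hdisj : N ⊓ C = ⊥ := hcompl.disjoint.eq_bot
  have hmem1 : ∀ x : X, x ∈ N → x ∈ C → x = 1 := by
    intro x hxN hxC
    have : x ∈ N ⊓ C := ⟨hxN, hxC⟩
    rw [hdisj] at this
    exact Subgroup.mem_bot.1 this
  have hdecomp : ∀ g : X, ∃ n ∈ N, ∃ c ∈ C, g = n * c := by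
    intro g
    obtain ⟨⟨n, c⟩, hnc⟩ := hcompl.2 g
    exact ⟨n, n.2, c, c.2, hnc.symm⟩
  refine ⟨⟨hC, ?_, ?_⟩, ?_⟩
  · intro hCtop
    apply hN
    rw [hCtop, inf_top_eq] at hdisj
    exact hdisj
  · intro g hg
    rw [Subgroup.eq_bot_iff_forall]
    intro x hx
    obtain ⟨hxC, hxg⟩ := Subgroup.mem_inf.1 hx
    rw [Cfsg.Agent.Lib.Helper91.Hall.mem_conj_smul] at hxg
    obtain ⟨n, hn, c, hc, rfl⟩ := hdecomp g
    have hn1 : n ≠ 1 := by
      rintro rfl
      apply hg
      simpa using hc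
    -- y' = n⁻¹ x n ∈ C
    have hy' : n⁻¹ * x * n ∈ C := by
      have h1 : c * ((n * c)⁻¹ * x * (n * c)) * c⁻¹ ∈ C := C.mul_mem (C.mul_mem hc hxg) (C.inv_mem hc)
      have h2 : c * ((n * c)⁻¹ * x * (n * c)) * c⁻¹ = n⁻¹ * x * n := by group
      rwa [h2] at h1
    have h3 : x⁻¹ * (n⁻¹ * x * n) ∈ N := by
      have h4 : x⁻¹ * n⁻¹ * x ∈ N := by
        have := hNn.conj_mem n⁻¹ (N.inv_mem hn) x⁻¹
        simpa using this
      have h5 : x⁻¹ * (n⁻¹ * x * n) = (x⁻¹ * n⁻¹ * x) * n := by group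
      rw [h5]
      exact N.mul_mem h4 hn
    have h6 := hmem1 _ h3 (C.mul_mem (C.inv_mem hxC) hy')
    have h7 : x * n = n * x := by
      have h8 : n⁻¹ * x * n = x := by
        have := congrArg (fun z => x * z) h6
        simpa [mul_assoc] using this
      calc x * n = n * (n⁻¹ * x * n) := by group
        _ = n * x := by rw [h8]
    rcases hfpf x hxC n hn h7 with h | h
    · exact h
    · exact absurd h hn1
  · ext x
    simp only [Cfsg.frobeniusKernel, Set.mem_ofPred_eq, SetLike.mem_coe]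
    constructor
    · rintro (rfl | hx)
      · exact N.one_mem
      · by_contra hxN
        obtain ⟨n, hn, c, hc, rfl⟩ := hdecomp x
        have hc1 : c ≠ 1 := by
          rintro rfl
          apply hxN
          simpa using hn
        -- the map m ↦ m c m⁻¹ c⁻¹ on N is injective
        let φ : N → N := fun m => ⟨(m : X) * c * (m : X)⁻¹ * c⁻¹, by
          have h1 : c * (m : X)⁻¹ * c⁻¹ ∈ N := hNn.conj_mem _ (N.inv_mem m.2) c
          have h2 : (m : X) * c * (m : X)⁻¹ * c⁻¹ = (m : X) * (c * (m : X)⁻¹ * c⁻¹) := by group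
          rw [h2]
          exact N.mul_mem m.2 h1⟩
        have hφ : Function.Injective φ := by
          intro m m' hmm
          have h1 : (m : X) * c * (m : X)⁻¹ * c⁻¹ = (m' : X) * c * (m' : X)⁻¹ * c⁻¹ :=
            congrArg Subtype.val hmm
          have h2 : c * ((m' : X)⁻¹ * (m : X)) = ((m' : X)⁻¹ * (m : X)) * c := by
            have h3 : (m : X) * c * (m : X)⁻¹ = (m' : X) * c * (m' : X)⁻¹ := by
              have := congrArg (fun z => z * c) h1
              simpa [mul_assoc] using this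
            calc c * ((m' : X)⁻¹ * (m : X))
                = (m' : X)⁻¹ * ((m' : X) * c * (m' : X)⁻¹) * (m : X) := by group
              _ = (m' : X)⁻¹ * ((m : X) * c * (m : X)⁻¹) * (m : X) := by rw [h3]
              _ = ((m' : X)⁻¹ * (m : X)) * c := by group
          rcases hfpf c hc _ (N.mul_mem (N.inv_mem m'.2) m.2) h2 with h | h
          · exact absurd h hc1
          · apply Subtype.ext
            have : (m : X) = (m' : X) * ((m' : X)⁻¹ * (m : X)) := by group
            rw [this, h, mul_one]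
        obtain ⟨m, hm⟩ := (Finite.injective_iff_surjective.1 hφ) ⟨n, hn⟩
        have hm' : (m : X) * c * (m : X)⁻¹ * c⁻¹ = n := congrArg Subtype.val hm
        apply hx (m : X)
        rw [Cfsg.Agent.Lib.Helper91.Hall.mem_conj_smul]
        have h9 : (m : X)⁻¹ * (n * c) * (m : X) = c := by
          rw [← hm']
          group
        rw [h9]
        exact hc
    · intro hxN
      by_cases hx1 : x = 1
      · exact Or.inl hx1
      · right
        intro g hg
        rw [Cfsg.Agent.Lib.Helper91.Hall.mem_conj_smul] at hg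
        apply hx1
        have h1 : g⁻¹ * x * g ∈ N := by
          have := hNn.conj_mem x hxN g⁻¹
          simpa using this
        have h2 := hmem1 _ h1 hg
        have : x = g * (g⁻¹ * x * g) * g⁻¹ := by group
        rw [this, h2]
        group

theorem fpf_of_ord {X : Type*} [Group X] [Finite X] {a b : ℕ} (hcop : a.Coprime b)
    (hord : ∀ g : X, orderOf g ∣ a ∨ orderOf g ∣ b) {x y : X} (hx : orderOf x ∣ a)
    (hy : orderOf y ∣ b) (hc : x * y = y * x) : x = 1 ∨ y = 1 := by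
  have hco : (orderOf x).Coprime (orderOf y) :=
    Nat.Coprime.coprime_dvd_left hx (Nat.Coprime.coprime_dvd_right hy hcop)
  have h1 : orderOf (x * y) = orderOf x * orderOf y :=
    Commute.orderOf_mul_eq_mul_orderOf_of_coprime hc hco
  rcases hord (x * y) with h | h
  · right
    have h2 : orderOf y ∣ a := (Dvd.intro_left _ h1.symm).trans h
    exact orderOf_eq_one_iff.1 (Nat.eq_one_of_dvd_coprimes hcop h2 hy)
  · left
    have h2 : orderOf x ∣ b := (Dvd.intro _ h1.symm).trans h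
    exact orderOf_eq_one_iff.1 (Nat.eq_one_of_dvd_coprimes hcop hx h2)

theorem ord_quot {X : Type*} [Group X] {a b : ℕ} (hord : ∀ g : X, orderOf g ∣ a ∨ orderOf g ∣ b)
    (N : Subgroup X) [N.Normal] (q : X ⧸ N) : orderOf q ∣ a ∨ orderOf q ∣ b := by
  obtain ⟨g, rfl⟩ := QuotientGroup.mk_surjective q
  have h := orderOf_map_dvd (QuotientGroup.mk' N) g
  rcases hord g with h1 | h1
  · exact Or.inl (h.trans h1)
  · exact Or.inr (h.trans h1)

theorem ord_sub {X : Type*} [Group X] {a b : ℕ} (hord : ∀ g : X, orderOf g ∣ a ∨ orderOf g ∣ b)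
    (K : Subgroup X) (g : K) : orderOf g ∣ a ∨ orderOf g ∣ b := by
  have h := hord (g : X)
  rwa [Subgroup.orderOf_coe] at h

theorem order_dvd_of_mem {X : Type*} [Group X] [Finite X] {S : Subgroup X} {m : ℕ}
    (hS : Nat.card S ∣ m) {x : X} (hx : x ∈ S) : orderOf x ∣ m := by
  have h := orderOf_dvd_natCard (⟨x, hx⟩ : S)
  rw [← Subgroup.orderOf_coe] at h
  exact h.trans hS

theorem exists_max_normal (X : Type*) [Group X] [Finite X] (a : ℕ) :
    ∃ N : Subgroup X, N.Normal ∧ Nat.card N ∣ a ∧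
      ∀ M : Subgroup X, M.Normal → Nat.card M ∣ a → Nat.card M ≤ Nat.card N := by
  classical
  have : Nonempty {N : Subgroup X // N.Normal ∧ Nat.card N ∣ a} :=
    ⟨⟨⊥, inferInstance, by simp⟩⟩
  obtain ⟨N, hN⟩ := Finite.exists_max
    (fun N : {N : Subgroup X // N.Normal ∧ Nat.card N ∣ a} => Nat.card (N : Subgroup X))
  exact ⟨N.1, N.2.1, N.2.2, fun M hM hMa => hN ⟨M, hM, hMa⟩⟩

theorem dvd_of_dvd_sq {a b x : ℕ} (hcop : a.Coprime b) (h1 : x ∣ a * a) (h2 : x ∣ a * b) :
    x ∣ a := by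
  have h3 : x.Coprime b := Nat.Coprime.coprime_dvd_left h1 (Nat.Coprime.mul_left hcop hcop)
  exact (Nat.Coprime.dvd_mul_right h3).1 h2

theorem quot_no_normal {X : Type*} [Group X] [Finite X] {a b : ℕ} (hcard : Nat.card X = a * b)
    (hcop : a.Coprime b) (N : Subgroup X) [N.Normal] (hNa : Nat.card N ∣ a)
    (hmax : ∀ M : Subgroup X, M.Normal → Nat.card M ∣ a → Nat.card M ≤ Nat.card N)
    (M : Subgroup (X ⧸ N)) (hM : M.Normal) (hMa : Nat.card M ∣ a) : M = ⊥ := by
  have h1 := Cfsg.Agent.Lib.Helper91.Hall.card_comap_mk N M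
  have h2 : Nat.card (M.comap (QuotientGroup.mk' N)) ∣ a := by
    apply dvd_of_dvd_sq hcop
    · rw [h1]; exact Nat.mul_dvd_mul hMa hNa
    · rw [← hcard]; exact Subgroup.card_subgroup_dvd_card _
  have h3 := hmax _ (hM.comap _) h2
  rw [h1] at h3
  have hNpos : 0 < Nat.card N := Nat.card_pos
  have h4 : Nat.card M ≤ 1 := by nlinarith
  exact Subgroup.eq_bot_of_card_le M h4

theorem card_dvd_of_orders {X : Type*} [Group X] [Finite X] {a b : ℕ}
    (hcard : Nat.card X = a * b) (hcop : a.Coprime b) (S : Subgroup X)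
    (hS : ∀ s ∈ S, orderOf s ∣ b) : Nat.card S ∣ b := by
  have h1 : Nat.card S ∣ a * b := hcard ▸ Subgroup.card_subgroup_dvd_card S
  have h2 : (Nat.card S).Coprime a := by
    by_contra hnc
    obtain ⟨p, hp, hpS, hpa⟩ := Nat.Prime.not_coprime_iff_dvd.1 hnc
    have := Fact.mk hp
    obtain ⟨s, hs⟩ := exists_prime_orderOf_dvd_card' p hpS
    have h3 : orderOf (s : X) ∣ b := hS s s.2
    rw [Subgroup.orderOf_coe, hs] at h3
    exact hp.one_lt.ne' (Nat.eq_one_of_dvd_coprimes hcop hpa h3)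
  exact (Nat.Coprime.dvd_mul_left h2).1 h1

theorem exists_compl {G : Type u} [Group G] [Finite G] (a b : ℕ) (hcop : a.Coprime b)
    (hord : ∀ g : G, orderOf g ∣ a ∨ orderOf g ∣ b)
    (G₁ : Subgroup G) [G₁.Normal] (hG₁a : Nat.card G₁ ∣ a)
    (Kb : Subgroup (G ⧸ G₁)) (hKbb : Nat.card Kb ∣ b) :
    ∃ C : Subgroup ↥(Kb.comap (QuotientGroup.mk' G₁)),
      Subgroup.IsComplement' (G₁.subgroupOf (Kb.comap (QuotientGroup.mk' G₁))) C ∧
      Nat.card C = Nat.card Kb ∧
      ∀ c ∈ C, ∀ n ∈ G₁.subgroupOf (Kb.comap (QuotientGroup.mk' G₁)),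
        c * n = n * c → c = 1 ∨ n = 1 := by
  have hG₁K : G₁ ≤ Kb.comap (QuotientGroup.mk' G₁) := by
    intro x hx
    show QuotientGroup.mk' G₁ x ∈ Kb
    have : QuotientGroup.mk' G₁ x = 1 := (QuotientGroup.eq_one_iff x).2 hx
    rw [this]
    exact Kb.one_mem
  have hcardK := Cfsg.Agent.Lib.Helper91.Hall.card_comap_mk G₁ Kb
  have hcN : Nat.card (G₁.subgroupOf (Kb.comap (QuotientGroup.mk' G₁))) = Nat.card G₁ :=
    Cfsg.Agent.Lib.Helper91.Hall.card_subgroupOf_of_le G₁ _ hG₁K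
  have hpos : 0 < Nat.card G₁ := Nat.card_pos
  have hidx : (G₁.subgroupOf (Kb.comap (QuotientGroup.mk' G₁))).index = Nat.card Kb := by
    have h1 := Subgroup.card_mul_index (G₁.subgroupOf (Kb.comap (QuotientGroup.mk' G₁)))
    rw [hcN, hcardK] at h1
    have h2 : Nat.card G₁ * (G₁.subgroupOf (Kb.comap (QuotientGroup.mk' G₁))).index
        = Nat.card G₁ * Nat.card Kb := by rw [h1]; ring
    exact Nat.eq_of_mul_eq_mul_left hpos h2
  have hcopNK : (Nat.card G₁).Coprime (Nat.card Kb) :=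
    Nat.Coprime.coprime_dvd_left hG₁a (Nat.Coprime.coprime_dvd_right hKbb hcop)
  obtain ⟨C, hC⟩ := Subgroup.exists_right_complement'_of_coprime
    (N := G₁.subgroupOf (Kb.comap (QuotientGroup.mk' G₁))) (by rw [hcN, hidx]; exact hcopNK)
  have hcC : Nat.card C = Nat.card Kb := by
    have h1 := hC.card_mul_card
    rw [hcN, hcardK] at h1
    have h2 : Nat.card G₁ * Nat.card C = Nat.card G₁ * Nat.card Kb := by rw [h1]; ring
    exact Nat.eq_of_mul_eq_mul_left hpos h2
  refine ⟨C, hC, hcC, ?_⟩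
  intro c hc n hn hcn
  have h1 : orderOf n ∣ a := order_dvd_of_mem (hcN ▸ hG₁a) hn
  have h2 : orderOf c ∣ b := order_dvd_of_mem (hcC ▸ hKbb) hc
  rcases fpf_of_ord hcop (ord_sub hord _) h1 h2 hcn.symm with h | h
  · exact Or.inr h
  · exact Or.inl h

theorem inv_of_invol {X : Type*} [Group X] [Finite X] (N : Subgroup X) [hNn : N.Normal] (s : X)
    (hs2 : s * s = 1) (hfpf : ∀ x ∈ N, s * x = x * s → x = 1) :
    ∀ z ∈ N, s * z * s⁻¹ = z⁻¹ := by
  have hsinv : s⁻¹ = s := inv_eq_of_mul_eq_one_left hs2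
  let φ : N → N := fun x => ⟨(x : X)⁻¹ * (s * (x : X) * s⁻¹),
    N.mul_mem (N.inv_mem x.2) (hNn.conj_mem _ x.2 s)⟩
  have hφ : Function.Injective φ := by
    intro x y hxy
    have h1 : (x : X)⁻¹ * (s * (x : X) * s⁻¹) = (y : X)⁻¹ * (s * (y : X) * s⁻¹) :=
      congrArg Subtype.val hxy
    have h2 : s * ((x : X) * (y : X)⁻¹) = ((x : X) * (y : X)⁻¹) * s := by
      have h3 : (x : X)⁻¹ * s * (x : X) = (y : X)⁻¹ * s * (y : X) := by
        have := congrArg (fun z => z * s) h1
        simpa [mul_assoc] using this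
      calc s * ((x : X) * (y : X)⁻¹)
          = (x : X) * ((x : X)⁻¹ * s * (x : X)) * (y : X)⁻¹ := by group
        _ = (x : X) * ((y : X)⁻¹ * s * (y : X)) * (y : X)⁻¹ := by rw [h3]
        _ = ((x : X) * (y : X)⁻¹) * s := by group
    have h4 := hfpf _ (N.mul_mem x.2 (N.inv_mem y.2)) h2
    apply Subtype.ext
    calc (x : X) = ((x : X) * (y : X)⁻¹) * (y : X) := by group
      _ = (y : X) := by rw [h4, one_mul]
  intro z hz
  obtain ⟨x, hx⟩ := (Finite.injective_iff_surjective.1 hφ) ⟨z, hz⟩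
  have hx' : (x : X)⁻¹ * (s * (x : X) * s⁻¹) = z := congrArg Subtype.val hx
  rw [← hx', hsinv, eq_inv_iff_mul_eq_one]
  calc s * ((x : X)⁻¹ * (s * (x : X) * s)) * s * ((x : X)⁻¹ * (s * (x : X) * s))
      = s * (x : X)⁻¹ * s * (x : X) * (s * s) * (x : X)⁻¹ * s * (x : X) * s := by group
    _ = s * (x : X)⁻¹ * s * (x : X) * 1 * (x : X)⁻¹ * s * (x : X) * s := by rw [hs2]
    _ = s * (x : X)⁻¹ * (s * s) * (x : X) * s := by group
    _ = s * (x : X)⁻¹ * 1 * (x : X) * s := by rw [hs2]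
    _ = s * s := by group
    _ = 1 := hs2

theorem exists_comm_eq {X : Type*} [Group X] [Finite X] (N : Subgroup X) [hNn : N.Normal] (c : X)
    (hfpf : ∀ n ∈ N, c * n = n * c → n = 1) (n : X) (hn : n ∈ N) :
    ∃ m ∈ N, m * c * m⁻¹ * c⁻¹ = n := by
  let φ : N → N := fun m => ⟨(m : X) * c * (m : X)⁻¹ * c⁻¹, by
    have h1 : c * (m : X)⁻¹ * c⁻¹ ∈ N := hNn.conj_mem _ (N.inv_mem m.2) c
    have h2 : (m : X) * c * (m : X)⁻¹ * c⁻¹ = (m : X) * (c * (m : X)⁻¹ * c⁻¹) := by group
    rw [h2]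
    exact N.mul_mem m.2 h1⟩
  have hφ : Function.Injective φ := by
    intro m m' hmm
    have h1 : (m : X) * c * (m : X)⁻¹ * c⁻¹ = (m' : X) * c * (m' : X)⁻¹ * c⁻¹ :=
      congrArg Subtype.val hmm
    have h2 : c * ((m' : X)⁻¹ * (m : X)) = ((m' : X)⁻¹ * (m : X)) * c := by
      have h3 : (m : X) * c * (m : X)⁻¹ = (m' : X) * c * (m' : X)⁻¹ := by
        have := congrArg (fun z => z * c) h1
        simpa [mul_assoc] using this
      calc c * ((m' : X)⁻¹ * (m : X))
          = (m' : X)⁻¹ * ((m' : X) * c * (m' : X)⁻¹) * (m : X) := by group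
        _ = (m' : X)⁻¹ * ((m : X) * c * (m : X)⁻¹) * (m : X) := by rw [h3]
        _ = ((m' : X)⁻¹ * (m : X)) * c := by group
    have h4 := hfpf _ (N.mul_mem (N.inv_mem m'.2) m.2) h2
    apply Subtype.ext
    have : (m : X) = (m' : X) * ((m' : X)⁻¹ * (m : X)) := by group
    rw [this, h4, mul_one]
  obtain ⟨m, hm⟩ := (Finite.injective_iff_surjective.1 hφ) ⟨n, hn⟩
  exact ⟨m, m.2, congrArg Subtype.val hm⟩

theorem commutator_le_centralizer_of_cyclic {X : Type*} [Group X] (D : Subgroup X)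
    [hD : D.Normal] [IsCyclic D] : commutator X ≤ Subgroup.centralizer (D : Set X) := by
  rw [commutator_eq_closure, Subgroup.closure_le]
  rintro _ ⟨g, h, rfl⟩
  have hcomm : ∀ σ τ : MulAut D, σ * τ = τ * σ := fun σ τ =>
    (IsCyclic.mulAutMulEquiv D).injective (by rw [map_mul, map_mul, mul_comm])
  have h1 : (MulAut.conjNormal ⁅g, h⁆ : MulAut D) = 1 := by
    rw [commutatorElement_def, map_mul, map_mul, map_mul, map_inv, map_inv,
      hcomm (MulAut.conjNormal g) (MulAut.conjNormal h)]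
    group
  rw [SetLike.mem_coe, Subgroup.mem_centralizer_iff]
  intro d hd
  have h2 : ((MulAut.conjNormal ⁅g, h⁆ : MulAut D) ⟨d, hd⟩ : X) = d := by
    rw [h1]; rfl
  rw [MulAut.conjNormal_apply] at h2
  calc d * ⁅g, h⁆ = (⁅g, h⁆ * d * ⁅g, h⁆⁻¹) * ⁅g, h⁆ := by rw [h2]
    _ = ⁅g, h⁆ * d := by group

theorem key {G : Type u} [Group G] [Finite G] [Group.IsSolvable G] (a b a' : ℕ)
    (hcop : a.Coprime b) (hord : ∀ g : G, orderOf g ∣ a ∨ orderOf g ∣ b)
    (G₁ : Subgroup G) [G₁.Normal] (hG₁1 : G₁ ≠ ⊥) (hG₁a : Nat.card G₁ ∣ a)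
    (ha'a : a' ∣ a) (hcardQ : Nat.card (G ⧸ G₁) = a' * b)
    (Kb : Subgroup (G ⧸ G₁)) [hKbn : Kb.Normal] (hKb1 : Kb ≠ ⊥) (hKbb : Nat.card Kb ∣ b)
    (hKbmax : ∀ M : Subgroup (G ⧸ G₁), M.Normal → Nat.card M ∣ b → Nat.card M ≤ Nat.card Kb)
    (Pb : Subgroup (G ⧸ G₁)) (hPb : Nat.card Pb = a') (hPb1 : Pb ≠ ⊥) : Nat.card Kb = b := by
  classical
  have hcop' : a'.Coprime b := Nat.Coprime.coprime_dvd_left ha'a hcop
  have hordQ : ∀ q : G ⧸ G₁, orderOf q ∣ a ∨ orderOf q ∣ b := ord_quot hord G₁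
  have hfpfQ : ∀ c ∈ Pb, ∀ n ∈ Kb, c * n = n * c → c = 1 ∨ n = 1 := by
    intro c hc n hn hcn
    exact fpf_of_ord hcop hordQ (order_dvd_of_mem (hPb ▸ ha'a) hc) (order_dvd_of_mem hKbb hn) hcn
  obtain ⟨x₀, hx₀P, hx₀1⟩ : ∃ x₀ ∈ Pb, x₀ ≠ 1 := by
    by_contra h
    apply hPb1
    rw [Subgroup.eq_bot_iff_forall]
    intro y hy
    by_contra hy1
    exact h ⟨y, hy, hy1⟩
  -- Step A: card Kb is odd
  have hodd : ¬ 2 ∣ Nat.card Kb := by
    intro h2
    have h2b : 2 ∣ b := h2.trans hKbb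
    have h2a : ¬ 2 ∣ a := fun h => by
      have := Nat.eq_one_of_dvd_coprimes hcop h h2b
      omega
    have : Fact (Nat.Prime 2) := ⟨Nat.prime_two⟩
    have hlift : ∀ t ∈ Kb, t * t = 1 → t ≠ 1 →
        ∃ s : G, QuotientGroup.mk' G₁ s = t ∧ s * s = 1 ∧ s ≠ 1 := by
      intro t htK ht2 ht1
      obtain ⟨s, rfl⟩ := QuotientGroup.mk_surjective t
      refine ⟨s, rfl, ?_, ?_⟩
      · have hot : orderOf (QuotientGroup.mk' G₁ s) = 2 :=
          orderOf_eq_prime (by rw [pow_two]; exact ht2) ht1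
        have hdvd : 2 ∣ orderOf s := hot ▸ orderOf_map_dvd (QuotientGroup.mk' G₁) s
        have hsb : orderOf s ∣ b := by
          rcases hord s with h | h
          · exact absurd (hdvd.trans h) h2a
          · exact h
        have hs2mem : s * s ∈ G₁ := by
          rw [← QuotientGroup.eq_one_iff]
          exact ht2
        have h1 : orderOf (s * s) ∣ a := order_dvd_of_mem hG₁a hs2mem
        have h2 : orderOf (s * s) ∣ b := by
          rw [← pow_two]
          exact (orderOf_pow_dvd 2).trans hsb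
        exact orderOf_eq_one_iff.1 (Nat.eq_one_of_dvd_coprimes hcop h1 h2)
      · rintro rfl
        exact ht1 (QuotientGroup.mk' G₁).map_one
    have huniq : ∀ t ∈ Kb, t * t = 1 → t ≠ 1 → ∀ t' ∈ Kb, t' * t' = 1 → t' ≠ 1 → t = t' := by
      intro t htK ht2 ht1 t' ht'K ht'2 ht'1
      obtain ⟨s, rfl, hs2, hs1⟩ := hlift t htK ht2 ht1
      obtain ⟨s', rfl, hs'2, hs'1⟩ := hlift t' ht'K ht'2 ht'1
      have hso : orderOf s ∣ b := by
        have : orderOf s = 2 := orderOf_eq_prime (by rw [pow_two]; exact hs2) hs1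
        rw [this]; exact h2b
      have hs'o : orderOf s' ∣ b := by
        have : orderOf s' = 2 := orderOf_eq_prime (by rw [pow_two]; exact hs'2) hs'1
        rw [this]; exact h2b
      have hfs : ∀ x ∈ G₁, s * x = x * s → x = 1 := by
        intro x hx hc
        rcases fpf_of_ord hcop hord (order_dvd_of_mem hG₁a hx) hso hc.symm with h | h
        · exact h
        · exact absurd h hs1
      have hfs' : ∀ x ∈ G₁, s' * x = x * s' → x = 1 := by
        intro x hx hc
        rcases fpf_of_ord hcop hord (order_dvd_of_mem hG₁a hx) hs'o hc.symm with h | h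
        · exact h
        · exact absurd h hs'1
      have hinv := inv_of_invol G₁ s hs2 hfs
      have hinv' := inv_of_invol G₁ s' hs'2 hfs'
      obtain ⟨x, hxG, hx1⟩ : ∃ x ∈ G₁, x ≠ 1 := by
        by_contra h
        apply hG₁1
        rw [Subgroup.eq_bot_iff_forall]
        intro y hy
        by_contra hy1
        exact h ⟨y, hy, hy1⟩
      have hcomm : (s * s') * x = x * (s * s') := by
        have h1 : s' * x * s'⁻¹ = x⁻¹ := hinv' x hxG
        have h2 : s * x⁻¹ * s⁻¹ = x⁻¹⁻¹ := hinv x⁻¹ (G₁.inv_mem hxG)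
        have h3 : (s * s') * x * (s * s')⁻¹ = x := by
          calc (s * s') * x * (s * s')⁻¹ = s * (s' * x * s'⁻¹) * s⁻¹ := by group
            _ = s * x⁻¹ * s⁻¹ := by rw [h1]
            _ = x := by rw [h2, inv_inv]
        calc (s * s') * x = ((s * s') * x * (s * s')⁻¹) * (s * s') := by group
          _ = x * (s * s') := by rw [h3]
      rcases hord (s * s') with h | h
      · have h1 : orderOf (QuotientGroup.mk' G₁ (s * s')) ∣ a := (orderOf_map_dvd _ _).trans h
        have h2 : orderOf (QuotientGroup.mk' G₁ (s * s')) ∣ b :=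
          order_dvd_of_mem hKbb (by rw [map_mul]; exact Kb.mul_mem htK ht'K)
        have h3 := orderOf_eq_one_iff.1 (Nat.eq_one_of_dvd_coprimes hcop h1 h2)
        rw [map_mul] at h3
        calc QuotientGroup.mk' G₁ s
            = QuotientGroup.mk' G₁ s * (QuotientGroup.mk' G₁ s' * QuotientGroup.mk' G₁ s') := by
              rw [ht'2, mul_one]
          _ = (QuotientGroup.mk' G₁ s * QuotientGroup.mk' G₁ s') * QuotientGroup.mk' G₁ s' := by
              group
          _ = QuotientGroup.mk' G₁ s' := by rw [h3, one_mul]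
      · rcases fpf_of_ord hcop hord (order_dvd_of_mem hG₁a hxG) h hcomm.symm with h' | h'
        · exact absurd h' hx1
        · have : s = s' := by
            calc s = s * (s' * s') := by rw [hs'2, mul_one]
              _ = (s * s') * s' := by group
              _ = s' := by rw [h', one_mul]
          rw [this]
    obtain ⟨t, ht⟩ := exists_prime_orderOf_dvd_card' 2 h2
    have ht1 : (t : G ⧸ G₁) ≠ 1 := fun h => by
      have : t = 1 := Subtype.ext h
      rw [this, orderOf_one] at ht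
      omega
    have ht2 : (t : G ⧸ G₁) * (t : G ⧸ G₁) = 1 := by
      have := pow_orderOf_eq_one t
      rw [ht, pow_two] at this
      exact congrArg Subtype.val this
    have hconj : x₀ * (t : G ⧸ G₁) * x₀⁻¹ ∈ Kb := hKbn.conj_mem _ t.2 x₀
    have hc2 : (x₀ * (t : G ⧸ G₁) * x₀⁻¹) * (x₀ * (t : G ⧸ G₁) * x₀⁻¹) = 1 := by
      calc (x₀ * (t : G ⧸ G₁) * x₀⁻¹) * (x₀ * (t : G ⧸ G₁) * x₀⁻¹)
          = x₀ * ((t : G ⧸ G₁) * (t : G ⧸ G₁)) * x₀⁻¹ := by group
        _ = 1 := by rw [ht2]; group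
    have hc1 : x₀ * (t : G ⧸ G₁) * x₀⁻¹ ≠ 1 := by
      intro h
      apply ht1
      calc (t : G ⧸ G₁) = x₀⁻¹ * (x₀ * (t : G ⧸ G₁) * x₀⁻¹) * x₀ := by group
        _ = 1 := by rw [h]; group
    have heq := huniq _ hconj hc2 hc1 t t.2 ht2 ht1
    have hcomm : x₀ * (t : G ⧸ G₁) = t * x₀ := by
      calc x₀ * (t : G ⧸ G₁) = (x₀ * t * x₀⁻¹) * x₀ := by group
        _ = t * x₀ := by rw [heq]
    rcases hfpfQ x₀ hx₀P t t.2 hcomm with h | h
    · exact hx₀1 h
    · exact ht1 h
  -- Step B: a complement of G₁ in the preimage of Kb is a Z-group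
  obtain ⟨C, hC, hcC, hfpfC⟩ := exists_compl a b hcop hord G₁ hG₁a Kb hKbb
  have hG₁K : G₁ ≤ Kb.comap (QuotientGroup.mk' G₁) := by
    intro x hx
    show QuotientGroup.mk' G₁ x ∈ Kb
    have : QuotientGroup.mk' G₁ x = 1 := (QuotientGroup.eq_one_iff x).2 hx
    rw [this]
    exact Kb.one_mem
  have hN1 : G₁.subgroupOf (Kb.comap (QuotientGroup.mk' G₁)) ≠ ⊥ := by
    intro h
    have h1 := Cfsg.Agent.Lib.Helper91.Hall.card_subgroupOf_of_le G₁ _ hG₁K
    rw [h, Subgroup.card_bot] at h1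
    exact hG₁1 (Subgroup.eq_bot_of_card_le G₁ h1.symm.le)
  have hZC : IsZGroup C := by
    refine ⟨fun p hp P => ?_⟩
    haveI : Fact p.Prime := ⟨hp⟩
    haveI : Group.IsNilpotent (P : Subgroup C) := P.isPGroup'.isNilpotent
    have hUI : ∀ (q : ℕ) [Fact q.Prime],
        Cfsg.Agent.Lib.Helper54.UniqueSubgroup.UI q (P : Subgroup C) := by
      intro q _
      apply Cfsg.Agent.S1476.ui_of_nilpotent_fpf
        (G₁.subgroupOf (Kb.comap (QuotientGroup.mk' G₁))) hN1
        (C.subtype.comp (P : Subgroup C).subtype)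
      intro e he x hx hc
      rcases hfpfC ((e : C) : ↥(Kb.comap (QuotientGroup.mk' G₁))) (e : C).2 x hx hc with h | h
      · exfalso
        apply he
        apply Subtype.ext
        apply Subtype.ext
        exact h
      · exact h
    have hoddP : Odd (Nat.card (P : Subgroup C)) := by
      rw [← Nat.not_even_iff_odd, even_iff_two_dvd]
      intro h2
      apply hodd
      rw [← hcC]
      exact h2.trans (Subgroup.card_subgroup_dvd_card _)
    exact Cfsg.Agent.S1476.cyclic_of_odd hUI hoddP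
  -- transfer to Kb
  have hZK : IsZGroup Kb := by
    let f : C →* Kb := ((QuotientGroup.mk' G₁).comp
      ((Kb.comap (QuotientGroup.mk' G₁)).subtype.comp C.subtype)).codRestrict Kb
      (fun c => (c : ↥(Kb.comap (QuotientGroup.mk' G₁))).2)
    have hf : Function.Surjective f := by
      rintro ⟨k, hk⟩
      obtain ⟨g, rfl⟩ := QuotientGroup.mk_surjective k
      obtain ⟨⟨n, c⟩, hnc⟩ := hC.2 (⟨g, hk⟩ : ↥(Kb.comap (QuotientGroup.mk' G₁)))
      refine ⟨c, ?_⟩
      apply Subtype.ext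
      have h1 : ((n : ↥(Kb.comap (QuotientGroup.mk' G₁))) : G) * ((c : ↥(Kb.comap (QuotientGroup.mk' G₁))) : G) = g :=
        congrArg Subtype.val hnc
      have h2 : QuotientGroup.mk' G₁ ((n : ↥(Kb.comap (QuotientGroup.mk' G₁))) : G) = 1 :=
        (QuotientGroup.eq_one_iff _).2 (Subgroup.mem_subgroupOf.1 n.2)
      show QuotientGroup.mk' G₁ ((c : ↥(Kb.comap (QuotientGroup.mk' G₁))) : G) = QuotientGroup.mk' G₁ g
      rw [← h1, map_mul, h2, one_mul]
    exact IsZGroup.of_surjective hf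
  -- Step C: Kb is nilpotent, hence cyclic
  have hfx₀ : ∀ n ∈ Kb, x₀ * n = n * x₀ → n = 1 := by
    intro n hn hc
    rcases hfpfQ x₀ hx₀P n hn hc with h | h
    · exact absurd h hx₀1
    · exact h
  have hKcomm : Kb ≤ commutator (G ⧸ G₁) := by
    intro k hk
    obtain ⟨m, -, hm⟩ := exists_comm_eq Kb x₀ hfx₀ k hk
    rw [← hm, ← commutatorElement_def, _root_.commutator_def]
    exact Subgroup.commutator_mem_commutator (Subgroup.mem_top m) (Subgroup.mem_top x₀)
  haveI : IsCyclic (commutator Kb) := IsZGroup.isCyclic_commutator Kb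
  haveI : IsCyclic ((commutator Kb).map Kb.subtype) :=
    isCyclic_of_surjective _ (Kb.subtype.subgroupMap_surjective (commutator Kb))
  have hD := commutator_le_centralizer_of_cyclic ((commutator Kb).map Kb.subtype)
  haveI : Group.IsNilpotent Kb := by
    apply Subgroup.isNilpotent_of_ker_le_center (Abelianization.of (G := Kb))
    rw [Abelianization.ker_of]
    intro d hd
    rw [Subgroup.mem_center_iff]
    intro k
    have h1 : (k : G ⧸ G₁) ∈ Subgroup.centralizer (((commutator Kb).map Kb.subtype : Subgroup (G ⧸ G₁)) : Set (G ⧸ G₁)) :=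
      hD (hKcomm k.2)
    rw [Subgroup.mem_centralizer_iff] at h1
    have h2 := h1 (d : G ⧸ G₁) (Subgroup.mem_map_of_mem Kb.subtype hd)
    exact Subtype.ext h2.symm
  haveI : IsCyclic Kb := inferInstance
  -- Step D: the quotient by Kb is abelian
  have hcen := commutator_le_centralizer_of_cyclic Kb
  have hKbcen : Kb ≤ Subgroup.centralizer (Kb : Set (G ⧸ G₁)) := by
    intro k hk
    rw [Subgroup.mem_centralizer_iff]
    intro h hh
    have : (⟨h, hh⟩ : Kb) * ⟨k, hk⟩ = ⟨k, hk⟩ * ⟨h, hh⟩ := (IsCyclic.isMulCommutative.is_comm.comm _ _)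
    exact congrArg Subtype.val this
  obtain ⟨t₀, ht₀K, ht₀1⟩ : ∃ t₀ ∈ Kb, t₀ ≠ 1 := by
    by_contra h
    apply hKb1
    rw [Subgroup.eq_bot_iff_forall]
    intro y hy
    by_contra hy1
    exact h ⟨y, hy, hy1⟩
  have hcenb : Nat.card (Subgroup.centralizer (Kb : Set (G ⧸ G₁))) ∣ b := by
    apply card_dvd_of_orders hcardQ hcop'
    intro c hc
    rw [Subgroup.mem_centralizer_iff] at hc
    rcases hordQ c with h | h
    · rcases fpf_of_ord hcop hordQ h (order_dvd_of_mem hKbb ht₀K) (hc t₀ ht₀K).symm with h' | h'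
      · rw [h', orderOf_one]; exact one_dvd _
      · exact absurd h' ht₀1
    · exact h
  have hceneq : Subgroup.centralizer (Kb : Set (G ⧸ G₁)) = Kb :=
    (Subgroup.eq_of_le_of_card_ge hKbcen (hKbmax _ inferInstance hcenb)).symm
  have hcommK : commutator (G ⧸ G₁) ≤ Kb := hceneq ▸ hcen
  obtain ⟨Bb, hBb, hKB⟩ := Cfsg.Agent.Lib.Helper91.Hall.hall_contain (G := G ⧸ G₁) b a'
    (by rw [hcardQ, mul_comm]) hcop'.symm Kb (Nat.Coprime.coprime_dvd_left hKbb hcop'.symm)
  have hBn : Bb.Normal := by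
    refine ⟨fun h hh g => ?_⟩
    have h0 : g * h * g⁻¹ * h⁻¹ ∈ commutator (G ⧸ G₁) := by
      rw [← commutatorElement_def, _root_.commutator_def]
      exact Subgroup.commutator_mem_commutator (Subgroup.mem_top g) (Subgroup.mem_top h)
    have h1 : g * h * g⁻¹ * h⁻¹ ∈ Bb := hKB (hcommK h0)
    have h2 : g * h * g⁻¹ = (g * h * g⁻¹ * h⁻¹) * h := by group
    rw [h2]
    exact Bb.mul_mem h1 hh
  have h3 := hKbmax Bb hBn (by rw [hBb])
  rw [hBb] at h3
  have hbpos : 0 < b := by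
    rcases Nat.eq_zero_or_pos b with h | h
    · rw [h, mul_zero] at hcardQ
      have := Nat.card_pos (α := G ⧸ G₁)
      omega
    · exact h
  exact le_antisymm (Nat.le_of_dvd hbpos hKbb) h3

theorem main_asym {G : Type u} [Group G] [Finite G] [Group.IsSolvable G] (a b : ℕ)
    (hcard : Nat.card G = a * b) (hcop : a.Coprime b) (hb : 1 < b)
    (hord : ∀ g : G, orderOf g ∣ a ∨ orderOf g ∣ b)
    (V : Subgroup G) (hVn : V.Normal) (hV1 : V ≠ ⊥) (hVa : Nat.card V ∣ a) :
    (∃ C : Subgroup G, Cfsg.IsFrobeniusComplement C) ∨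
    (∃ (H K : Subgroup G) (_ : H.Normal), K.Normal ∧ H < K ∧
      (∃ C : Subgroup ↥K, Cfsg.IsFrobeniusComplement C ∧
        Cfsg.frobeniusKernel C = (H.subgroupOf K : Set ↥K)) ∧
      (∃ C : Subgroup (G ⧸ H), Cfsg.IsFrobeniusComplement C ∧
        Cfsg.frobeniusKernel C = (K.map (QuotientGroup.mk' H) : Set (G ⧸ H)))) := by
  classical
  obtain ⟨G₁, hG₁n, hG₁a, hG₁max⟩ := exists_max_normal G a
  haveI := hG₁n
  have hGpos : 0 < Nat.card G := Nat.card_pos
  have ha0 : a ≠ 0 := by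
    rintro rfl
    rw [zero_mul] at hcard
    omega
  have hG₁1 : G₁ ≠ ⊥ := by
    intro h
    have h1 := hG₁max V hVn hVa
    rw [h, Subgroup.card_bot] at h1
    exact hV1 (Subgroup.eq_bot_of_card_le V h1)
  have hG₁pos : 0 < Nat.card G₁ := Nat.card_pos
  obtain ⟨a', ha'⟩ := id hG₁a
  have hcardQ : Nat.card (G ⧸ G₁) = a' * b := by
    have h1 := Subgroup.card_eq_card_quotient_mul_card_subgroup G₁
    rw [hcard, ha'] at h1
    have h2 : Nat.card G₁ * (a' * b) = Nat.card G₁ * Nat.card (G ⧸ G₁) := by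
      rw [← mul_assoc, h1]; ring
    exact (Nat.eq_of_mul_eq_mul_left hG₁pos h2).symm
  have ha'a : a' ∣ a := Dvd.intro_left _ ha'.symm
  have hcop' : a'.Coprime b := Nat.Coprime.coprime_dvd_left ha'a hcop
  have hordQ : ∀ q : G ⧸ G₁, orderOf q ∣ a ∨ orderOf q ∣ b := ord_quot hord G₁
  have hnoA : ∀ M : Subgroup (G ⧸ G₁), M.Normal → Nat.card M ∣ a → M = ⊥ :=
    quot_no_normal hcard hcop G₁ hG₁a hG₁max
  by_cases ha'1 : a' = 1
  · left
    have hcG₁ : Nat.card G₁ = a := by rw [ha', ha'1, mul_one]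
    have hidx : G₁.index = b := by rw [Subgroup.index_eq_card, hcardQ, ha'1, one_mul]
    obtain ⟨C, hC⟩ := Subgroup.exists_right_complement'_of_coprime (N := G₁)
      (by rw [hcG₁, hidx]; exact hcop)
    have hcC : Nat.card C = b := by
      have h1 := hC.card_mul_card
      rw [hcG₁, hcard] at h1
      exact Nat.eq_of_mul_eq_mul_left (Nat.pos_of_ne_zero ha0) h1
    refine ⟨C, (frob_of_fpf G₁ C hG₁1 ?_ hC ?_).1⟩
    · intro h
      rw [h, Subgroup.card_bot] at hcC
      omega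
    · intro c hc n hn hcn
      have h1 : orderOf n ∣ a := order_dvd_of_mem hG₁a hn
      have h2 : orderOf c ∣ b := order_dvd_of_mem (dvd_of_eq hcC) hc
      rcases fpf_of_ord hcop hord h1 h2 hcn.symm with h | h
      · exact Or.inr h
      · exact Or.inl h
  · right
    have ha'gt : 1 < a' := by
      have : a' ≠ 0 := by
        rintro rfl
        rw [mul_zero] at ha'
        exact ha0 ha'
      omega
    haveI : Nontrivial (G ⧸ G₁) := by
      rw [← Finite.one_lt_card_iff_nontrivial, hcardQ]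
      nlinarith
    obtain ⟨p, W, hp, hWn, -, hWp, hW1⟩ :=
      Cfsg.Agent.Lib.Helper91.Hall.exists_normal_abelian_pgroup (G ⧸ G₁)
    haveI : Fact p.Prime := ⟨hp⟩
    have hWb : Nat.card W ∣ b := by
      obtain ⟨k, hk⟩ := IsPGroup.iff_card.1 hWp
      have hWcard : Nat.card W ∣ a' * b := hcardQ ▸ Subgroup.card_subgroup_dvd_card W
      have hpa : ¬ p ∣ a := by
        intro hpa
        have hpb : ¬ p ∣ b := fun hpb => hp.one_lt.ne' (Nat.eq_one_of_dvd_coprimes hcop hpa hpb)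
        have h1 : (Nat.card W).Coprime b := by
          rw [hk]
          exact Nat.Coprime.pow_left k ((Nat.Prime.coprime_iff_not_dvd hp).2 hpb)
        have h2 : Nat.card W ∣ a' := (Nat.Coprime.dvd_mul_right h1).1 hWcard
        exact hW1 (hnoA W hWn (h2.trans ha'a))
      have h1 : (Nat.card W).Coprime a' := by
        rw [hk]
        exact Nat.Coprime.pow_left k
          ((Nat.Prime.coprime_iff_not_dvd hp).2 (fun h => hpa (h.trans ha'a)))
      exact (Nat.Coprime.dvd_mul_left h1).1 hWcard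
    obtain ⟨Kb, hKbn, hKbb, hKbmax⟩ := exists_max_normal (G ⧸ G₁) b
    haveI := hKbn
    have hKb1 : Kb ≠ ⊥ := by
      intro h
      have h1 := hKbmax W hWn hWb
      rw [h, Subgroup.card_bot] at h1
      exact hW1 (Subgroup.eq_bot_of_card_le W h1)
    obtain ⟨Pb, hPb⟩ := Cfsg.Agent.Lib.Helper91.Hall.hall_exists (G := G ⧸ G₁) a' b hcardQ hcop'
    have hPb1 : Pb ≠ ⊥ := by
      intro h
      rw [h, Subgroup.card_bot] at hPb
      omega
    have hfpfQ : ∀ c ∈ Pb, ∀ n ∈ Kb, c * n = n * c → c = 1 ∨ n = 1 := by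
      intro c hc n hn hcn
      exact fpf_of_ord hcop hordQ (order_dvd_of_mem (hPb ▸ ha'a) hc)
        (order_dvd_of_mem hKbb hn) hcn
    have hKbcard : Nat.card Kb = b :=
      key a b a' hcop hord G₁ hG₁1 hG₁a ha'a hcardQ Kb hKb1 hKbb hKbmax Pb hPb hPb1
    have hcomplQ : Subgroup.IsComplement' Kb Pb :=
      Subgroup.isComplement'_of_coprime (by rw [hKbcard, hPb, hcardQ, mul_comm])
        (by rw [hKbcard, hPb]; exact hcop'.symm)
    obtain ⟨hF2, hK2⟩ := frob_of_fpf Kb Pb hKb1 hPb1 hcomplQ hfpfQ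
    obtain ⟨C, hC, hcC, hfpfC⟩ := exists_compl a b hcop hord G₁ hG₁a Kb hKbb
    have hG₁K : G₁ ≤ Kb.comap (QuotientGroup.mk' G₁) := by
      intro x hx
      show QuotientGroup.mk' G₁ x ∈ Kb
      have : QuotientGroup.mk' G₁ x = 1 := (QuotientGroup.eq_one_iff x).2 hx
      rw [this]
      exact Kb.one_mem
    have hN1 : G₁.subgroupOf (Kb.comap (QuotientGroup.mk' G₁)) ≠ ⊥ := by
      intro h
      have h1 := Cfsg.Agent.Lib.Helper91.Hall.card_subgroupOf_of_le G₁ _ hG₁K
      rw [h, Subgroup.card_bot] at h1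
      exact hG₁1 (Subgroup.eq_bot_of_card_le G₁ h1.symm.le)
    have hC1 : C ≠ ⊥ := by
      intro h
      rw [h, Subgroup.card_bot] at hcC
      have : Nat.card Kb ≤ 1 := by omega
      exact hKb1 (Subgroup.eq_bot_of_card_le Kb this)
    have hKmap : (Kb.comap (QuotientGroup.mk' G₁)).map (QuotientGroup.mk' G₁) = Kb :=
      Subgroup.map_comap_eq_self_of_surjective (QuotientGroup.mk'_surjective G₁) Kb
    have hlt : G₁ < Kb.comap (QuotientGroup.mk' G₁) := by
      refine lt_of_le_of_ne hG₁K (fun h => hKb1 ?_)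
      rw [← hKmap, ← h, Subgroup.map_eq_bot_iff, QuotientGroup.ker_mk']
    refine ⟨G₁, Kb.comap (QuotientGroup.mk' G₁), hG₁n, hKbn.comap _, hlt,
      ⟨C, frob_of_fpf _ C hN1 hC1 hC hfpfC⟩, ⟨Pb, hF2, ?_⟩⟩
    rw [hK2, hKmap]

/-- A finite solvable group whose prime graph (prime divisors of the order, two distinct primes joined when there is an element of order their product) is disconnected is a Frobenius group or a 2-Frobenius group (it has normal subgroups H < K with K a Frobenius group with kernel H and G/H a Frobenius group with kernel K/H). -/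
theorem result {G : Type*} [Group G] [Finite G] (hsol : Group.IsSolvable G)
    (hdisc : (∃ A : Set ℕ, (∃ a ∈ A, a.Prime ∧ a ∣ Nat.card G) ∧ (∃ b ∉ A, b.Prime ∧ b ∣ Nat.card G) ∧
      ∀ a ∈ A, ∀ b ∉ A, a.Prime → b.Prime → a ∣ Nat.card G → b ∣ Nat.card G → ¬ ∃ g : G, orderOf g = a * b)) :
    (∃ C : Subgroup G, Cfsg.IsFrobeniusComplement C) ∨
    (∃ (H K : Subgroup G) (_ : H.Normal), K.Normal ∧ H < K ∧
      (∃ C : Subgroup ↥K, Cfsg.IsFrobeniusComplement C ∧ Cfsg.frobeniusKernel C = (H.subgroupOf K : Set ↥K)) ∧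
      (∃ C : Subgroup (G ⧸ H), Cfsg.IsFrobeniusComplement C ∧ Cfsg.frobeniusKernel C = (K.map (QuotientGroup.mk' H) : Set (G ⧸ H)))) := by
  classical
  obtain ⟨A, ⟨p₀, hp₀A, hp₀, hp₀n⟩, ⟨q₀, hq₀A, hq₀, hq₀n⟩, hno⟩ := hdisc
  have hn0 : Nat.card G ≠ 0 := Nat.card_pos.ne'
  obtain ⟨a, b, hab, hprimeA, hprimeB, hpa, hqb⟩ : ∃ a b : ℕ, a * b = Nat.card G ∧
      (∀ p, p.Prime → p ∣ a → p ∈ A) ∧ (∀ p, p.Prime → p ∣ b → p ∉ A) ∧ p₀ ∣ a ∧ q₀ ∣ b := by
    refine ⟨∏ p ∈ (Nat.card G).primeFactors.filter (· ∈ A), p ^ (Nat.card G).factorization p,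
      ∏ p ∈ (Nat.card G).primeFactors.filter (· ∉ A), p ^ (Nat.card G).factorization p,
      ?_, ?_, ?_, ?_, ?_⟩
    · rw [Finset.prod_filter_mul_prod_filter_not]
      have := Nat.prod_factorization_pow_eq_self hn0
      rw [Finsupp.prod, Nat.support_factorization] at this
      exact this
    · intro p hp hpa
      obtain ⟨q, hq, hpq⟩ := (Prime.dvd_finsetProd_iff hp.prime _).1 hpa
      have h1 := (Nat.prime_dvd_prime_iff_eq hp
        (Nat.prime_of_mem_primeFactors (Finset.mem_filter.1 hq).1)).1 (hp.dvd_of_dvd_pow hpq)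
      rw [h1]
      exact (Finset.mem_filter.1 hq).2
    · intro p hp hpa
      obtain ⟨q, hq, hpq⟩ := (Prime.dvd_finsetProd_iff hp.prime _).1 hpa
      have h1 := (Nat.prime_dvd_prime_iff_eq hp
        (Nat.prime_of_mem_primeFactors (Finset.mem_filter.1 hq).1)).1 (hp.dvd_of_dvd_pow hpq)
      rw [h1]
      exact (Finset.mem_filter.1 hq).2
    · have h1 : p₀ ^ (Nat.card G).factorization p₀ ∣
          ∏ p ∈ (Nat.card G).primeFactors.filter (· ∈ A), p ^ (Nat.card G).factorization p :=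
        Finset.dvd_prod_of_mem _
          (Finset.mem_filter.2 ⟨Nat.mem_primeFactors.2 ⟨hp₀, hp₀n, hn0⟩, hp₀A⟩)
      exact (dvd_pow_self p₀ (hp₀.factorization_pos_of_dvd hn0 hp₀n).ne').trans h1
    · have h1 : q₀ ^ (Nat.card G).factorization q₀ ∣
          ∏ p ∈ (Nat.card G).primeFactors.filter (· ∉ A), p ^ (Nat.card G).factorization p :=
        Finset.dvd_prod_of_mem _
          (Finset.mem_filter.2 ⟨Nat.mem_primeFactors.2 ⟨hq₀, hq₀n, hn0⟩, hq₀A⟩)
      exact (dvd_pow_self q₀ (hq₀.factorization_pos_of_dvd hn0 hq₀n).ne').trans h1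
  have ha0 : a ≠ 0 := by
    rintro rfl
    rw [zero_mul] at hab
    exact hn0 hab.symm
  have hb0 : b ≠ 0 := by
    rintro rfl
    rw [mul_zero] at hab
    exact hn0 hab.symm
  have ha1 : 1 < a := by
    have h1 := Nat.le_of_dvd (Nat.pos_of_ne_zero ha0) hpa
    have h2 := hp₀.two_le
    omega
  have hb1 : 1 < b := by
    have h1 := Nat.le_of_dvd (Nat.pos_of_ne_zero hb0) hqb
    have h2 := hq₀.two_le
    omega
  have hcop : a.Coprime b := by
    by_contra h
    obtain ⟨p, hp, h1, h2⟩ := Nat.Prime.not_coprime_iff_dvd.1 h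
    exact hprimeB p hp h2 (hprimeA p hp h1)
  have hord : ∀ g : G, orderOf g ∣ a ∨ orderOf g ∣ b := by
    intro g
    by_contra h
    obtain ⟨h1, h2⟩ := not_or.1 h
    have ho : orderOf g ∣ a * b := hab ▸ orderOf_dvd_natCard g
    have hex1 : ∃ q, q.Prime ∧ q ∣ orderOf g ∧ q ∉ A := by
      by_contra hne
      apply h1
      have hc : (orderOf g).Coprime b := by
        by_contra hc
        obtain ⟨q, hq, hq1, hq2⟩ := Nat.Prime.not_coprime_iff_dvd.1 hc
        exact hne ⟨q, hq, hq1, hprimeB q hq hq2⟩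
      exact (Nat.Coprime.dvd_mul_right hc).1 ho
    have hex2 : ∃ p, p.Prime ∧ p ∣ orderOf g ∧ p ∈ A := by
      by_contra hne
      apply h2
      have hc : (orderOf g).Coprime a := by
        by_contra hc
        obtain ⟨q, hq, hq1, hq2⟩ := Nat.Prime.not_coprime_iff_dvd.1 hc
        exact hne ⟨q, hq, hq1, hprimeA q hq hq2⟩
      exact (Nat.Coprime.dvd_mul_left hc).1 ho
    obtain ⟨q, hq, hqo, hqA⟩ := hex1
    obtain ⟨p, hp, hpo, hpA⟩ := hex2
    have hpq : p ≠ q := fun h => hqA (h ▸ hpA)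
    have hdvd : p * q ∣ orderOf g :=
      Nat.Coprime.mul_dvd_of_dvd_of_dvd ((Nat.coprime_primes hp hq).2 hpq) hpo hqo
    have ho0 : orderOf g ≠ 0 := (orderOf_pos g).ne'
    apply hno p hpA q hqA hp hq (hpo.trans (orderOf_dvd_natCard g))
      (hqo.trans (orderOf_dvd_natCard g))
    refine ⟨g ^ (orderOf g / (p * q)), ?_⟩
    have hne : orderOf g / (p * q) ≠ 0 := by
      intro h0
      have h3 := Nat.div_mul_cancel hdvd
      rw [h0, zero_mul] at h3
      exact ho0 h3.symm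
    rw [orderOf_pow_of_dvd hne (Nat.div_dvd_of_dvd hdvd), Nat.div_div_self hdvd ho0]
  haveI := hsol
  haveI : Nontrivial G := by
    rw [← Finite.one_lt_card_iff_nontrivial, ← hab]
    nlinarith
  obtain ⟨p, V, hp, hVn, -, hVp, hV1⟩ :=
    Cfsg.Agent.Lib.Helper91.Hall.exists_normal_abelian_pgroup G
  haveI : Fact p.Prime := ⟨hp⟩
  obtain ⟨k, hk⟩ := IsPGroup.iff_card.1 hVp
  have hVcard : Nat.card V ∣ a * b := hab ▸ Subgroup.card_subgroup_dvd_card V
  by_cases hpA : p ∈ A
  · have h1 : (Nat.card V).Coprime b := by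
      rw [hk]
      exact Nat.Coprime.pow_left k
        ((Nat.Prime.coprime_iff_not_dvd hp).2 (fun h => hprimeB p hp h hpA))
    exact main_asym a b hab.symm hcop hb1 hord V hVn hV1 ((Nat.Coprime.dvd_mul_right h1).1 hVcard)
  · have h1 : (Nat.card V).Coprime a := by
      rw [hk]
      exact Nat.Coprime.pow_left k
        ((Nat.Prime.coprime_iff_not_dvd hp).2 (fun h => hpA (hprimeA p hp h)))
    exact main_asym b a (by rw [mul_comm]; exact hab.symm) hcop.symm ha1
      (fun g => (hord g).symm) V hVn hV1 ((Nat.Coprime.dvd_mul_left h1).1 hVcard)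

end Cfsg.Agent.S3857
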