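import Cfsg.Statements.S0632
-- import your own Cfsg.Agent.* helpers here
import Cfsg.Agent.Lib.Helper11.ZJQuot
import Mathlib

set_option autoImplicit false
open Cfsg

namespace Cfsg.Agent.S0632

open Cfsg.Agent.Lib.Helper11.ZJQuot Cfsg.Agent.Lib.Helper11.PConstr
open Cfsg.Agent.Lib.Helper76.PSolv Cfsg.Agent.Lib.Helper76.SylowTools
open scoped commutatorElement

/-- The image of `O_p` under a surjection lies in `O_p`. -/
theorem pCore_map_le_of_surjective {X Y : Type*} [Group X] [Group Y] {p : ℕ}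
    (ψ : X →* Y) (hs : Function.Surjective ψ) (hp : IsPGroup p (pCore p X)) :
    (pCore p X).map ψ ≤ pCore p Y :=
  le_pCore ((pCore_normal'' p X).map ψ hs) (hp.map ψ)

/-- The preimage of `O_p` under an injection lies in `O_p`. -/
theorem pCore_comap_le_of_injective {X Y : Type*} [Group X] [Group Y] {p : ℕ}
    (ψ : X →* Y) (hi : Function.Injective ψ) (hp : IsPGroup p (pCore p Y)) :
    (pCore p Y).comap ψ ≤ pCore p X :=
  le_pCore ((pCore_normal'' p Y).comap ψ) (hp.comap_of_injective ψ hi)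

/-- Transport of the `p`-stability conclusion between `G` and `G / K`, `K` a normal `p'`-subgroup:
for a `p`-subgroup `P` with `K P` normal, `N_G(P)/C_G(P) ≅ N(P̄)/C(P̄)`. -/
theorem transport {G : Type*} [Group G] [Finite G] {p : ℕ} [Fact p.Prime]
    (K : Subgroup G) [K.Normal] (hKc : (Nat.card K).Coprime p)
    (A P : Subgroup G) (hPp : IsPGroup p P)
    (hnorm : ∀ a ∈ A, ∀ x ∈ P, a * x * a⁻¹ ∈ P) (hN : (K ⊔ P).Normal)
    (Ab Pb : Subgroup (G ⧸ K)) (hAb : A.map (QuotientGroup.mk' K) = Ab)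
    (hPb : P.map (QuotientGroup.mk' K) = Pb) :
    ((A.subgroupOf (Subgroup.normalizer (P : Set G))).map
          (QuotientGroup.mk' ((Subgroup.centralizer (P : Set G)).subgroupOf
            (Subgroup.normalizer (P : Set G))))
        ≤ pCore p _) ↔
    ((Ab.subgroupOf (Subgroup.normalizer (Pb : Set (G ⧸ K)))).map
          (QuotientGroup.mk' ((Subgroup.centralizer (Pb : Set (G ⧸ K))).subgroupOf
            (Subgroup.normalizer (Pb : Set (G ⧸ K)))))
        ≤ pCore p _) := by
  subst hAb hPb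
  have hpr : p.Prime := Fact.out
  set π := QuotientGroup.mk' K with hπ
  have hπs : Function.Surjective π := QuotientGroup.mk'_surjective K
  have hAN : A ≤ Subgroup.normalizer (P : Set G) := fun a ha =>
    mem_normalizer_of_conj_mem' P a (fun x hx => hnorm a ha x hx)
  have hPK : P ⊓ K = ⊥ := inf_eq_bot_of_pgroup_coprime P K hPp hKc
  have hNmap : ∀ n ∈ Subgroup.normalizer (P : Set G),
      π n ∈ Subgroup.normalizer ((P.map π : Subgroup (G ⧸ K)) : Set (G ⧸ K)) := by
    intro n hn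
    exact Subgroup.le_normalizer_map π ⟨n, hn, rfl⟩
  let ρ : ↥(Subgroup.normalizer (P : Set G)) →*
      ↥(Subgroup.normalizer ((P.map π : Subgroup (G ⧸ K)) : Set (G ⧸ K))) :=
    (π.comp (Subgroup.normalizer (P : Set G)).subtype).codRestrict _ (fun n => hNmap n n.2)
  let φ := (QuotientGroup.mk' ((Subgroup.centralizer ((P.map π : Subgroup (G ⧸ K)) :
      Set (G ⧸ K))).subgroupOf
        (Subgroup.normalizer ((P.map π : Subgroup (G ⧸ K)) : Set (G ⧸ K))))).comp ρ
  have hker : ∀ n : ↥(Subgroup.normalizer (P : Set G)), φ n = 1 ↔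
      n ∈ (Subgroup.centralizer (P : Set G)).subgroupOf (Subgroup.normalizer (P : Set G)) := by
    intro n
    show QuotientGroup.mk' _ (ρ n) = 1 ↔ _
    rw [QuotientGroup.mk'_apply, QuotientGroup.eq_one_iff, Subgroup.mem_subgroupOf,
      Subgroup.mem_subgroupOf]
    show π n ∈ Subgroup.centralizer _ ↔ _
    rw [Subgroup.mem_centralizer_iff, Subgroup.mem_centralizer_iff]
    constructor
    · intro h x hx
      have h1 : x * n * x⁻¹ * (n : G)⁻¹ ∈ P := by
        have h0 : (n : G) * x⁻¹ * (n : G)⁻¹ ∈ P :=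
          (Subgroup.mem_normalizer_iff.mp n.2 x⁻¹).mp (P.inv_mem hx)
        have := P.mul_mem hx h0
        simpa [mul_assoc] using this
      have h2 : x * n * x⁻¹ * (n : G)⁻¹ ∈ K := by
        rw [← QuotientGroup.eq_one_iff]
        have h4 := h (π x) ⟨x, hx, rfl⟩
        show π (x * n * x⁻¹ * (n : G)⁻¹) = 1
        rw [map_mul, map_mul, map_mul, map_inv, map_inv, h4]
        group
      have h3 : x * n * x⁻¹ * (n : G)⁻¹ ∈ P ⊓ K := ⟨h1, h2⟩
      rw [hPK, Subgroup.mem_bot] at h3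
      calc x * n = (x * n * x⁻¹ * (n : G)⁻¹) * n * x := by group
        _ = n * x := by rw [h3, one_mul]
    · rintro h _ ⟨x, hx, rfl⟩
      rw [← map_mul, ← map_mul, h x hx]
  let ψ := QuotientGroup.lift
    ((Subgroup.centralizer (P : Set G)).subgroupOf (Subgroup.normalizer (P : Set G))) φ
    (fun n hn => (hker n).mpr hn)
  have hψi : Function.Injective ψ := by
    refine (injective_iff_map_eq_one ψ).mpr ?_
    intro x hx
    obtain ⟨n, rfl⟩ := QuotientGroup.mk'_surjective _ x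
    exact (QuotientGroup.eq_one_iff n).mpr ((hker n).mp hx)
  have hsyl : IsSylowIn p P (K ⊔ P) := by
    refine ⟨le_sup_right, hPp, ?_⟩
    rw [sup_comm, relIndex_sup_of_normal]
    intro hdvd
    have h2 : p ∣ Nat.card K := hdvd.trans (Subgroup.relIndex_dvd_card _ _)
    exact (Nat.Prime.coprime_iff_not_dvd hpr).mp hKc.symm h2
  have hfr : Subgroup.normalizer (P : Set G) ⊔ K = ⊤ := by
    have h1 := frattini_isSylowIn hsyl
    rw [eq_top_iff] at h1 ⊢
    refine h1.trans ?_
    exact sup_le le_sup_left (sup_le le_sup_right (Subgroup.le_normalizer.trans le_sup_left))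
  have hψs : Function.Surjective ψ := by
    intro y
    obtain ⟨⟨gb, hgb⟩, rfl⟩ := QuotientGroup.mk'_surjective _ y
    obtain ⟨g, rfl⟩ := hπs gb
    have hg : g ∈ Subgroup.normalizer (P : Set G) ⊔ K := by
      rw [hfr]; trivial
    obtain ⟨n, hn, k, hk, rfl⟩ := Subgroup.mem_sup_of_normal_right.mp hg
    refine ⟨QuotientGroup.mk' _ ⟨n, hn⟩, ?_⟩
    show QuotientGroup.mk' _ (ρ ⟨n, hn⟩) = _
    congr 1
    apply Subtype.ext
    show π n = π (n * k)
    have hk1 : π k = 1 := (QuotientGroup.eq_one_iff k).mpr hk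
    rw [map_mul, hk1, mul_one]
  constructor
  · intro h y hy
    obtain ⟨⟨b, hbN⟩, hb, rfl⟩ := hy
    obtain ⟨a, ha, rfl⟩ := Subgroup.mem_subgroupOf.mp hb
    have h1 : QuotientGroup.mk' _ (⟨a, hAN ha⟩ : ↥(Subgroup.normalizer (P : Set G))) ∈
        pCore p _ := h ⟨⟨a, hAN ha⟩, Subgroup.mem_subgroupOf.mpr ha, rfl⟩
    exact (pCore_map_le_of_surjective ψ hψs (pCore_isPGroup p)) ⟨_, h1, rfl⟩
  · intro h x hx
    obtain ⟨⟨a, haN⟩, ha, rfl⟩ := hx
    apply pCore_comap_le_of_injective ψ hψi (pCore_isPGroup p)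
    show ψ _ ∈ pCore p _
    exact h ⟨ρ ⟨a, haN⟩, Subgroup.mem_subgroupOf.mpr ⟨a, Subgroup.mem_subgroupOf.mp ha, rfl⟩, rfl⟩

/-- For a group with a nontrivial normal p-subgroup, p-stability passes to and from the quotient by the largest normal subgroup of order prime to p. -/
theorem result {G : Type*} [Group G] [Finite G] {p : ℕ} [Fact p.Prime] (hO : Cfsg.pCore p G ≠ ⊥) : Cfsg.IsPStable p G ↔ Cfsg.IsPStable p (G ⧸ Cfsg.pPrimeCore p G) := by
  have hKn : (pPrimeCore p G).Normal := (pPrimeCore_mem p).1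
  have hKc : (Nat.card (pPrimeCore p G)).Coprime p := pPrimeCore_coprime p
  let π := QuotientGroup.mk' (pPrimeCore p G)
  have hπs : Function.Surjective π := QuotientGroup.mk'_surjective _
  have hKb : pPrimeCore p (G ⧸ pPrimeCore p G) = ⊥ := pPrimeCore_quotient p
  have hOb : pCore p (G ⧸ pPrimeCore p G) ≠ ⊥ := by
    intro h0
    apply hO
    have h1 : (pCore p G).map π ≤ pCore p (G ⧸ pPrimeCore p G) :=
      le_pCore ((pCore_normal'' p G).map π hπs) ((pCore_isPGroup p).map π)
    rw [h0, le_bot_iff, Subgroup.map_eq_bot_iff, QuotientGroup.ker_mk'] at h1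
    have h2 : pCore p G ≤ pCore p G ⊓ pPrimeCore p G := le_inf le_rfl h1
    rw [inf_eq_bot_of_pgroup_coprime _ _ (pCore_isPGroup p) hKc] at h2
    exact le_bot_iff.mp h2
  constructor
  · rintro ⟨hodd, -, hst⟩
    refine ⟨hodd, hOb, ?_⟩
    intro Ab Pb hAbp hPbp hnormb hPble hPbN hquad
    rw [hKb, bot_sup_eq] at hPbN
    have hPAp : IsPGroup p ↥(Pb ⊔ Ab) := IsPGroup.to_sup_of_normal_left hPbp hAbp
    obtain ⟨Sb, hSb⟩ := hPAp.exists_le_sylow
    obtain ⟨S, rfl⟩ := Sylow.mapSurjective_surjective hπs p Sb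
    have hSb' : Pb ⊔ Ab ≤ (S : Subgroup G).map π := hSb
    set P : Subgroup G := Pb.comap π ⊓ (S : Subgroup G) with hP
    set A : Subgroup G := Ab.comap π ⊓ (S : Subgroup G) with hA
    have hPmap : P.map π = Pb := pull_map π S Pb (le_sup_left.trans hSb')
    have hAmap : A.map π = Ab := pull_map π S Ab (le_sup_right.trans hSb')
    have hPp : IsPGroup p P := S.isPGroup'.to_le inf_le_right
    have hAp : IsPGroup p A := S.isPGroup'.to_le inf_le_right
    have hnorm : ∀ a ∈ A, ∀ x ∈ P, a * x * a⁻¹ ∈ P := by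
      intro a ha x hx
      refine ⟨?_, (S : Subgroup G).mul_mem ((S : Subgroup G).mul_mem ha.2 hx.2)
        ((S : Subgroup G).inv_mem ha.2)⟩
      show π (a * x * a⁻¹) ∈ Pb
      rw [map_mul, map_mul, map_inv]
      exact hnormb _ ha.1 _ hx.1
    have hPle : P ≤ pPrimePCore p G := by
      intro x hx
      show π x ∈ pCore p _
      exact le_pCore hPbN hPbp hx.1
    have hsupN : (pPrimeCore p G ⊔ P).Normal := by
      have h1 := Subgroup.comap_map_eq π P
      rw [hPmap, QuotientGroup.ker_mk'] at h1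
      rw [sup_comm, ← h1]
      exact hPbN.comap π
    have hPK : P ⊓ pPrimeCore p G = ⊥ := inf_eq_bot_of_pgroup_coprime P _ hPp hKc
    have hcomm1 : ⁅P, A⁆ ≤ P := by
      rw [Subgroup.commutator_le]
      intro x hx y hy
      have h1 := hnorm y hy x⁻¹ (P.inv_mem hx)
      have : ⁅x, y⁆ = x * (y * x⁻¹ * y⁻¹) := by simp [commutatorElement_def, mul_assoc]
      rw [this]; exact P.mul_mem hx h1
    have hquad' : ⁅⁅P, A⁆, A⁆ = ⊥ := by
      have h1 : ⁅⁅P, A⁆, A⁆ ≤ P :=
        le_trans (Subgroup.commutator_mono hcomm1 le_rfl) hcomm1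
      have h2 : ⁅⁅P, A⁆, A⁆ ≤ pPrimeCore p G := by
        have h3 : (⁅⁅P, A⁆, A⁆).map π = ⊥ := by
          rw [Subgroup.map_commutator, Subgroup.map_commutator, hPmap, hAmap]
          exact hquad
        rw [Subgroup.map_eq_bot_iff, QuotientGroup.ker_mk'] at h3
        exact h3
      have h4 := le_inf h1 h2
      rw [hPK] at h4
      exact le_bot_iff.mp h4
    have key := hst A P hAp hPp hnorm hPle hsupN hquad'
    exact (transport (pPrimeCore p G) hKc A P hPp hnorm hsupN Ab Pb hAmap hPmap).mp key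
  · rintro ⟨hodd, -, hst⟩
    refine ⟨hodd, hO, ?_⟩
    intro A P hAp hPp hnorm hPle hsupN hquad
    have hPbN : (P.map π).Normal := by
      have h1 : (pPrimeCore p G ⊔ P).map π = P.map π := by
        rw [Subgroup.map_sup, map_pPrimeCore_eq_bot, bot_sup_eq]
      rw [← h1]; exact hsupN.map π hπs
    have key := hst (A.map π) (P.map π) (hAp.map π) (hPp.map π) ?_ ?_ ?_ ?_
    · exact (transport (pPrimeCore p G) hKc A P hPp hnorm hsupN _ _ rfl rfl).mpr key
    · rintro _ ⟨a, ha, rfl⟩ _ ⟨x, hx, rfl⟩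
      exact ⟨a * x * a⁻¹, hnorm a ha x hx, by simp⟩
    · intro y hy
      show QuotientGroup.mk' _ y ∈ pCore p _
      exact le_pCore (hPbN.map _ (QuotientGroup.mk'_surjective _)) ((hPp.map π).map _)
        ⟨y, hy, rfl⟩
    · have := (pPrimeCore_mem (G := G ⧸ pPrimeCore p G) p).1
      exact Subgroup.sup_normal _ _
    · rw [← Subgroup.map_commutator, ← Subgroup.map_commutator, hquad, Subgroup.map_bot]

end Cfsg.Agent.S0632
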