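import Cfsg.Statements.S3079
-- import your own Cfsg.Agent.* helpers here
import Cfsg.Agent.Lib.Helper97.ZJConj
import Cfsg.Agent.S0632
import Mathlib

set_option autoImplicit false
set_option linter.unusedSectionVars false
set_option linter.unusedVariables false
open Cfsg

namespace Cfsg.Agent.S3079

open Cfsg.Agent.Lib.Helper97.ZJConj Cfsg.Agent.Lib.Helper11.ZJFam Cfsg.Agent.Lib.Helper11.Replace
open Cfsg.Agent.Lib.Helper76.PSolv

theorem isPStableOn_of_normalizerPStable {G : Type*} [Group G] [Finite G] {p : ℕ} [Fact p.Prime]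
    (hst : IsNormalizerPStable p G) (V : Subgroup G) [V.Normal] (hV : IsPGroup p V) :
    IsPStableOn p V := by
  intro a ha
  have hN : Subgroup.normalizer (V : Set G) = ⊤ := Subgroup.normalizer_eq_top V
  have haN : a ∈ Subgroup.normalizer (V : Set G) := by rw [hN]; trivial
  have h1 := hst V hV a haN ha
  let f : ↥(Subgroup.normalizer (V : Set G)) ⧸
      (Subgroup.centralizer (V : Set G)).subgroupOf (Subgroup.normalizer (V : Set G)) →*
      G ⧸ Subgroup.centralizer (V : Set G) :=
    QuotientGroup.map _ _ (Subgroup.normalizer (V : Set G)).subtype (fun x hx => hx)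
  have hf : Function.Surjective f := by
    intro q
    obtain ⟨g, rfl⟩ := QuotientGroup.mk_surjective q
    exact ⟨QuotientGroup.mk ⟨g, by rw [hN]; trivial⟩, rfl⟩
  have h2 := Cfsg.Agent.S0632.pCore_map_le_of_surjective f hf (pCore_isPGroup p)
  exact h2 ⟨_, h1, rfl⟩

theorem omegaOne_map_subtype {G : Type*} [Group G] (p : ℕ) (K : Subgroup G) (H : Subgroup K) :
    omegaOne p (H.map K.subtype) = (omegaOne p H).map K.subtype := by
  unfold omegaOne
  rw [MonoidHom.map_closure]
  congr 1
  ext x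
  constructor
  · rintro ⟨⟨y, hy, rfl⟩, hp⟩
    refine ⟨y, ⟨hy, ?_⟩, rfl⟩
    apply Subtype.ext
    simpa using hp
  · rintro ⟨y, ⟨hy, hp⟩, rfl⟩
    refine ⟨⟨y, hy, rfl⟩, ?_⟩
    have := congrArg Subtype.val hp
    simpa using this

theorem omegaOne_centerThompsonOf_eq {G : Type*} [Group G] [Finite G] (p : ℕ) (D : Subgroup G) :
    omegaOne p (centerThompsonOf p D) = sInf (famE p D) := by
  rw [← omegaCenterThompson_map_eq]
  unfold omegaCenterThompson
  rw [← omegaOne_map_subtype]
  congr 1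
  unfold centerThompsonOf thompsonSubgroupOf
  ext x
  rw [Subgroup.mem_inf, Subgroup.mem_map]
  constructor
  · rintro ⟨⟨y, hy, rfl⟩, hx2⟩
    refine ⟨y, Subgroup.mem_inf.mpr ⟨hy, ?_⟩, rfl⟩
    rw [Subgroup.mem_centralizer_iff] at hx2 ⊢
    intro j hj
    apply Subtype.ext
    exact hx2 _ ⟨j, hj, rfl⟩
  · rintro ⟨y, hy, rfl⟩
    obtain ⟨hy1, hy2⟩ := Subgroup.mem_inf.mp (SetLike.mem_coe.mp hy)
    refine ⟨⟨y, hy1, rfl⟩, ?_⟩
    rw [Subgroup.mem_centralizer_iff]
    rintro _ ⟨j, hj, rfl⟩
    have := (Subgroup.mem_centralizer_iff.mp hy2) j hj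
    exact congrArg Subtype.val this

section closed

variable {G : Type*} [Group G] [Finite G] (P D : Subgroup G) (hD : Cfsg.IsStronglyClosed D P)

include hD in
theorem le_of_fused (X : Subgroup G) (hXP : X ≤ P) (h : ∀ x ∈ X, ∃ g : G, g * x * g⁻¹ ∈ D) :
    X ≤ D := by
  intro x hx
  obtain ⟨g, hg⟩ := h x hx
  have h1 := hD.2 _ hg g⁻¹
  have h2 : g⁻¹ * (g * x * g⁻¹) * g⁻¹⁻¹ = x := by group
  rw [h2] at h1
  exact h1 (hXP hx)

include hD in
theorem le_normalizer_of_closed : P ≤ Subgroup.normalizer (D : Set G) := by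
  intro g hg
  apply Cfsg.Agent.S0650.mem_normalizer_of_conj_mem
  intro x hx
  exact hD.2 x hx g (P.mul_mem (P.mul_mem hg (hD.1 hx)) (P.inv_mem hg))

include hD in
theorem famQ_fused_eq (Q₀ : Subgroup G → Prop) :
    famQ (fun X => Q₀ X ∧ ∀ x ∈ X, ∃ g : G, g * x * g⁻¹ ∈ D) P = famQ Q₀ D := by
  ext X
  constructor
  · rintro ⟨h1, ⟨h2, h3⟩, h4⟩
    refine ⟨le_of_fused P D hD X h1 h3, h2, ?_⟩
    intro Y hY hYQ
    exact h4 Y (hY.trans hD.1) ⟨hYQ, fun y hy => ⟨1, by simpa using hY hy⟩⟩
  · rintro ⟨h1, h2, h3⟩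
    refine ⟨h1.trans hD.1, ⟨h2, fun x hx => ⟨1, by simpa using h1 hx⟩⟩, ?_⟩
    rintro Y hY ⟨hYQ, hYf⟩
    exact h3 Y (le_of_fused P D hD Y hY hYf) hYQ

end closed

theorem famQ_comm_eq {G : Type*} [Group G] [Finite G] (D : Subgroup G) :
    famQ (fun X : Subgroup G => IsMulCommutative X) D = famA D := by
  ext X
  rw [mem_famA_iff]
  rfl

theorem famQ_elem_eq {G : Type*} [Group G] [Finite G] (p : ℕ) (D : Subgroup G) :
    famQ (fun X : Subgroup G => IsElementaryAbelian p X) D = famE p D := by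
  ext X
  rw [mem_famE_iff]
  rfl

theorem isElementaryAbelian_of_map_subtype {G : Type*} [Group G] {p : ℕ} (P : Subgroup G)
    (X' : Subgroup ↥P) (h : IsElementaryAbelian p (X'.map P.subtype)) : IsElementaryAbelian p X' := by
  refine ⟨isMulCommutative_of_map_subtype P X' h.1, ?_⟩
  intro a ha
  have h1 := h.2 (P.subtype a) ⟨a, ha, rfl⟩
  apply Subtype.ext
  simpa using h1

theorem conj_fused {G : Type*} [Group G] (D : Subgroup G) (g : G) (A : Subgroup G)
    (h : ∀ x ∈ A, ∃ k : G, k * x * k⁻¹ ∈ D) :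
    ∀ x ∈ A.map (MulAut.conj g).toMonoidHom, ∃ k : G, k * x * k⁻¹ ∈ D := by
  rintro _ ⟨a, ha, rfl⟩
  obtain ⟨k, hk⟩ := h a ha
  refine ⟨k * g⁻¹, ?_⟩
  have : k * g⁻¹ * ((MulAut.conj g).toMonoidHom a) * (k * g⁻¹)⁻¹ = k * a * k⁻¹ := by
    simp [MulAut.conj_apply, mul_assoc]
  rw [this]; exact hk

/-- Glauberman's ZJ-Theorem for strongly closed subgroups, p odd. Let G be a finite group that is p-stable in the normalizer form (for every p-subgroup U and g ∈ N_G(U) with [U, g, g] = 1, the image of g lies in O_p(N_G(U)/C_G(U))), with C_G(O_p(G)) ≤ O_p(G), let P be a Sylow p-subgroup and D a subgroup of P strongly closed in P with respect to G. Then Z(J(D)) is normal in G, where J(D) is generated by the abelian subgroups of D of largest order; and so is Ω₁(Z(J_e(D))), where J_e(D) is generated by the elementary abelian subgroups of D of largest order. -/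
theorem result {G : Type*} [Group G] [Finite G] {p : ℕ} [Fact p.Prime] (hp : p ≠ 2) (P : Sylow p G) (D : Subgroup G) (hD : Cfsg.IsStronglyClosed D (P : Subgroup G)) (hst : Cfsg.IsNormalizerPStable p G) (hc : Subgroup.centralizer ((Cfsg.pCore p G : Subgroup G) : Set G) ≤ Cfsg.pCore p G) : (Cfsg.centerThompsonAOf D).Normal ∧ (Cfsg.omegaOne p (Cfsg.centerThompsonOf p D)).Normal := by
  have hst' : ∀ (V : Subgroup G) [V.Normal], IsPGroup p V → Cfsg.IsPStableOn p V :=
    fun V _ hV => isPStableOn_of_normalizerPStable hst V hV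
  have hPp : IsPGroup p (P : Subgroup G) := P.isPGroup'
  have hDn := le_normalizer_of_closed (P : Subgroup G) D hD
  constructor
  · -- abelian version
    have hfam : IsFamC p (famQ (fun X : Subgroup G =>
        IsMulCommutative X ∧ ∀ x ∈ X, ∃ g : G, g * x * g⁻¹ ∈ D)) (P : Subgroup G) := by
      apply isFamC_famQ
      · exact ⟨inferInstance, fun x hx => ⟨1, by
          rw [Subgroup.mem_bot] at hx; subst hx; simp⟩⟩
      · intro A hA; exact hA.1
      · intro g A hA
        exact ⟨isMulCommutative_map_equiv (MulAut.conj g) A hA.1, conj_fused D g A hA.2⟩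
      · intro B hBP hPB hU
        rw [famQ_fused_eq (P : Subgroup G) D hD] at hU ⊢
        refine replace_rel hp (P : Subgroup G) D hPp hD.1 hDn _ (fun X hX => hX) ?_ B hBP hPB hU
        intro X' B' _ b hX' hBX hb hbN hbA
        have hX'c : IsMulCommutative X' := isMulCommutative_of_map_subtype _ X' hX'
        have hnot : ¬ B' ≤ Subgroup.normalizer (X' : Set ↥(P : Subgroup G)) := fun h => hbA (h hb)
        have key := Cfsg.Agent.S0650.result hPp B' (fun h => absurd h hp) X' hX'c hBX hnot b hb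
          hbN hbA
        exact isMulCommutative_map_subtype _ _ key.2.1
    have hn := zj_normal P hfam hc hst'
    rw [famQ_fused_eq (P : Subgroup G) D hD, famQ_comm_eq, ← centerThompsonAOf_eq] at hn
    exact hn
  · -- elementary abelian version
    have hfam : IsFamC p (famQ (fun X : Subgroup G =>
        IsElementaryAbelian p X ∧ ∀ x ∈ X, ∃ g : G, g * x * g⁻¹ ∈ D)) (P : Subgroup G) := by
      apply isFamC_famQ
      · exact ⟨Cfsg.Agent.Lib.Helper11.Thompson.isElementaryAbelian_bot p, fun x hx => ⟨1, by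
          rw [Subgroup.mem_bot] at hx; subst hx; simp⟩⟩
      · intro A hA; exact hA.1.1
      · intro g A hA
        exact ⟨isElementaryAbelian_map_equiv (MulAut.conj g) A hA.1, conj_fused D g A hA.2⟩
      · intro B hBP hPB hU
        rw [famQ_fused_eq (P : Subgroup G) D hD] at hU ⊢
        refine replace_rel hp (P : Subgroup G) D hPp hD.1 hDn _ (fun X hX => hX.1) ?_ B hBP hPB hU
        intro X' B' _ b hX' hBX hb hbN hbA
        have hX'e : IsElementaryAbelian p X' := isElementaryAbelian_of_map_subtype _ X' hX'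
        exact isElementaryAbelian_map_subtype _ _
          (star_pow_eq_one hPp hp B' X' hX'e hBX b hb hbN hbA)
    have hn := zj_normal P hfam hc hst'
    rw [famQ_fused_eq (P : Subgroup G) D hD, famQ_elem_eq, ← omegaOne_centerThompsonOf_eq] at hn
    exact hn

end Cfsg.Agent.S3079
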