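import Cfsg.Statements.S2761
import Cfsg.Agent.Lib.Helper46.Qd
import Cfsg.Agent.Lib.Helper38.SLCard

set_option autoImplicit false
open Cfsg

namespace Cfsg.Agent.S2761

/-- The group Qd(2), the natural semidirect product of an elementary abelian group of order 4 by SL₂(2) (realised as the affine subgroup of SL₃(2)), is isomorphic to the symmetric group of degree 4. -/
theorem result : Nonempty (↥(Cfsg.qd 2) ≃* Equiv.Perm (Fin 4)) := by
  open Cfsg.Agent.Lib.Helper46.Qd in
  have hq : Cfsg.qd 2 = aff (ZMod 2) := closure_eq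
  rw [hq]
  have : Fact (Nat.Prime 2) := ⟨Nat.prime_two⟩
  have hinj := act_injective (R := ZMod 2)
  have hc1 : Nat.card (aff (ZMod 2)) = 24 := by
    rw [card_aff, Cfsg.Agent.Lib.Helper38.SLCard.card_SL2]
    simp [ZMod.card]
  have hc2 : Nat.card (Equiv.Perm (Fin 2 → ZMod 2)) = 24 := by
    rw [Nat.card_eq_fintype_card, Fintype.card_perm]
    simp [ZMod.card]
    rfl
  have : Finite (aff (ZMod 2)) := Nat.finite_of_card_ne_zero (by rw [hc1]; norm_num)
  have hbij : Function.Bijective (act : aff (ZMod 2) →* Equiv.Perm (Fin 2 → ZMod 2)) :=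
    (Nat.bijective_iff_injective_and_card _).2 ⟨hinj, by rw [hc1, hc2]⟩
  have e : (Fin 2 → ZMod 2) ≃ Fin 4 := Fintype.equivFinOfCardEq (by simp [ZMod.card])
  exact ⟨(MulEquiv.ofBijective _ hbij).trans (Equiv.permCongrHom e)⟩

end Cfsg.Agent.S2761
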