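import Cfsg.Statements.S5092
import Cfsg.Agent.H84.FusRes

set_option autoImplicit false
open Cfsg

namespace Cfsg.Agent.S5092

open Cfsg.FusionSystem Cfsg.Agent.H84
open scoped commutatorElement

/-- For a saturated fusion system over a finite p-group S, the focal subgroup is the product of the hyperfocal subgroup and the derived subgroup of S. -/
theorem result {Ω : Type*} [Group Ω] {S : Subgroup Ω} [Finite S] (p : ℕ) [Fact p.Prime] (hS : IsPGroup p S) (F : Cfsg.FusionSystem S) (hF : F.IsSaturated p) : F.focalSubgroup = F.hyperfocalSubgroup p ⊔ ⁅(S : Subgroup Ω), (S : Subgroup Ω)⁆ := by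
  have key : ∀ (P Q : Subgroup Ω) (e : P ≃* Q), IsIso F e →
      ∀ x : P, (x : Ω)⁻¹ * ((e x : Q) : Ω) ∈ F.hyperfocalSubgroup p ⊔ ⁅(S : Subgroup Ω), (S : Subgroup Ω)⁆ := by
    refine iso_induction hS F hF (fun P Q e => ∀ x : P, (x : Ω)⁻¹ * ((e x : Q) : Ω) ∈
      F.hyperfocalSubgroup p ⊔ ⁅(S : Subgroup Ω), (S : Subgroup Ω)⁆) ?_ ?_ ?_ ?_
    · intro P Q e _ h y
      have h1 := h (e.symm y)
      rw [e.apply_symm_apply] at h1
      have h2 := Subgroup.inv_mem _ h1
      rw [mul_inv_rev, inv_inv] at h2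
      exact h2
    · intro P Q R e₁ e₂ _ _ h₁ h₂ x
      have : (x : Ω)⁻¹ * (((e₁.trans e₂) x : R) : Ω) =
          ((x : Ω)⁻¹ * ((e₁ x : Q) : Ω)) * (((e₁ x : Q) : Ω)⁻¹ * ((e₂ (e₁ x) : R) : Ω)) := by
        show (x : Ω)⁻¹ * ((e₂ (e₁ x) : R) : Ω) = _
        group
      rw [this]
      exact Subgroup.mul_mem _ (h₁ x) (h₂ (e₁ x))
    · intro P Q R R' e hR e' _ h he' x
      rw [he']
      exact h ⟨x, hR x.2⟩
    · intro R hRa hRr _ α hα x
      obtain ⟨hRS, T, hT⟩ := hRa
      have hfinR : Finite R := finite_of_le hRS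
      obtain ⟨b, hb, t, ht, hbt⟩ := exists_pResidual_mul_sylow p T (⟨α, hα⟩ : F.autGroup R)
      rw [hT] at ht
      obtain ⟨s, hs, hst⟩ := (mem_autInducedBy_iff S R _).mp ht
      have hα' : α = (b : MulAut R) * (t : MulAut R) := congrArg Subtype.val hbt
      have e1 : (x : Ω)⁻¹ * ((α x : R) : Ω) =
          ((x : Ω)⁻¹ * (((t : MulAut R) x : R) : Ω)) *
            ((((t : MulAut R) x : R) : Ω)⁻¹ * (((b : MulAut R) ((t : MulAut R) x) : R) : Ω)) := by
        rw [hα']
        show (x : Ω)⁻¹ * (((b : MulAut R) ((t : MulAut R) x) : R) : Ω) = _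
        group
      rw [e1]
      refine Subgroup.mul_mem _ ?_ ?_
      · apply (le_sup_right : ⁅(S : Subgroup Ω), (S : Subgroup Ω)⁆ ≤ _)
        have hst' : (((t : MulAut R) x : R) : Ω) = s * (x : Ω) * s⁻¹ := hst x
        rw [hst']
        have : (x : Ω)⁻¹ * (s * (x : Ω) * s⁻¹) = ⁅(x : Ω)⁻¹, s⁆ := by
          rw [commutatorElement_def]
          group
        rw [this]
        exact Subgroup.commutator_mem_commutator (S.inv_mem (hRS x.2)) hs
      · apply (le_sup_left : F.hyperfocalSubgroup p ≤ _)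
        exact Subgroup.subset_closure ⟨R, b, (t : MulAut R) x, hRS, hb, rfl⟩
  apply le_antisymm
  · show Subgroup.closure _ ≤ _
    rw [Subgroup.closure_le]
    rintro y ⟨P, φ, x, hφ, rfl⟩
    exact key P _ _ (isIso_ofInjective hφ) x
  · apply sup_le
    · show Subgroup.closure _ ≤ _
      rw [Subgroup.closure_le]
      rintro y ⟨P, α, x, hPS, -, rfl⟩
      exact Subgroup.subset_closure ⟨P, P.subtype.comp (α : MulAut P).toMonoidHom, x,
        (mem_autGroup_iff F hPS _).mp α.2, rfl⟩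
    · rw [Subgroup.commutator_le]
      intro s hs t ht
      have h1 : ⁅t, s⁆ ∈ F.focalSubgroup := by
        refine Subgroup.subset_closure ⟨S, conjHom S s, ⟨t⁻¹, S.inv_mem ht⟩, F.conj_mem le_rfl hs, ?_⟩
        show ⁅t, s⁆ = (t⁻¹)⁻¹ * (s * t⁻¹ * s⁻¹)
        rw [commutatorElement_def]
        group
      have h2 := Subgroup.inv_mem _ h1
      rw [commutatorElement_inv] at h2
      exact h2

end Cfsg.Agent.S5092
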