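import Mathlib
import Cfsg.Statements.S5093
import Cfsg.Agent.S5092
import Cfsg.Agent.S5118
import Cfsg.Agent.Lib.Helper87.FSHyp

set_option autoImplicit false

namespace Cfsg.Agent.S5093

open Cfsg Cfsg.FusionSystem
open scoped commutatorElement

variable {G : Type*} [Group G]

/-- A conjugation automorphism of order prime to `p` is induced by an element of order prime to `p`. -/
theorem exists_coprime_induces [Finite G] {p : ℕ} [Fact p.Prime] {P : Subgroup G} (β : MulAut P)
    (hβ : (orderOf β).Coprime p) (g : G) (hg : ∀ x : P, ((β x : P) : G) = g * (x : G) * g⁻¹) :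
    ∃ g' : G, (orderOf g').Coprime p ∧ ∀ x : P, ((β x : P) : G) = g' * (x : G) * g'⁻¹ := by
  have hp : p.Prime := Fact.out
  have hn : 0 < orderOf β := orderOf_pos β
  have hN : Nat.card G ≠ 0 := Nat.card_pos.ne'
  refine ⟨g ^ ((p ^ (Nat.card G).factorization p) ^ (Nat.totient (orderOf β))), ?_, ?_⟩
  · have hcop : Nat.Coprime p (Nat.card G / p ^ (Nat.card G).factorization p) :=
      Nat.coprime_ordCompl hp hN
    have hdvd : orderOf (g ^ ((p ^ (Nat.card G).factorization p) ^ (Nat.totient (orderOf β)))) ∣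
        Nat.card G / p ^ (Nat.card G).factorization p := by
      apply orderOf_dvd_of_pow_eq_one
      rw [← pow_mul]
      have h1 : p ^ (Nat.card G).factorization p ∣
          (p ^ (Nat.card G).factorization p) ^ (Nat.totient (orderOf β)) :=
        dvd_pow_self _ (Nat.totient_pos.mpr hn).ne'
      obtain ⟨c, hc⟩ := h1
      have h2 : p ^ (Nat.card G).factorization p *
          (Nat.card G / p ^ (Nat.card G).factorization p) = Nat.card G :=
        Nat.ordProj_mul_ordCompl_eq_self (Nat.card G) p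
      rw [hc, mul_right_comm, h2, pow_mul, pow_card_eq_one', one_pow]
    exact Nat.Coprime.coprime_dvd_left hdvd hcop.symm
  · intro x
    have h1 := Cfsg.Agent.H84.autInducedBy_pow (⊤ : Subgroup G) P β g hg
      ((p ^ (Nat.card G).factorization p) ^ (Nat.totient (orderOf β))) x
    have h2 : β ^ ((p ^ (Nat.card G).factorization p) ^ (Nat.totient (orderOf β))) = β := by
      have h3 : (p ^ (Nat.card G).factorization p) ^ (Nat.totient (orderOf β)) ≡ 1
          [MOD orderOf β] :=
        Nat.ModEq.pow_totient (Nat.Coprime.pow_right _ hβ).symm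
      have h4 := pow_eq_pow_iff_modEq.mpr h3
      rw [h4, pow_one]
    rw [h2] at h1
    exact h1

/-- The easy inclusion. -/
theorem hyp_le [Finite G] {p : ℕ} [Fact p.Prime] (S : Subgroup G) :
    (groupFusionSystem S).hyperfocalSubgroup p ≤ S ⊓ pResidual p G := by
  unfold FusionSystem.hyperfocalSubgroup
  rw [Subgroup.closure_le]
  rintro _ ⟨P, α, x, hP, hα, rfl⟩
  refine ⟨S.mul_mem (S.inv_mem (hP x.2)) (hP (((α : MulAut P) x)).2), ?_⟩
  have hK : (pResidual p G).Normal := Cfsg.Agent.Lib.Helper87.FSHyp.pResidual_normal p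
  have key : ∀ a ∈ pResidual p ((groupFusionSystem S).autGroup P), ∀ x : P,
      (x : G)⁻¹ * (((a : MulAut P) x : P) : G) ∈ pResidual p G := by
    intro a ha
    induction ha using Subgroup.closure_induction with
    | mem b hb =>
      intro x
      have hb' : (orderOf (b : MulAut P)).Coprime p := by
        rw [Subgroup.orderOf_coe]; exact hb
      obtain ⟨-, -, g, hg⟩ :=
        (Cfsg.Agent.H84.mem_autGroup_iff (groupFusionSystem S) hP (b : MulAut P)).mp b.2
      obtain ⟨g', hg'c, hg'⟩ := exists_coprime_induces (b : MulAut P) hb' g hg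
      have hg'K : g' ∈ pResidual p G := Subgroup.subset_closure hg'c
      rw [hg' x]
      have e : (x : G)⁻¹ * (g' * x * g'⁻¹) = ((x : G)⁻¹ * g' * (x : G)⁻¹⁻¹) * g'⁻¹ := by group
      rw [e]
      exact Subgroup.mul_mem _ (hK.conj_mem g' hg'K _) (Subgroup.inv_mem _ hg'K)
    | one =>
      intro x
      show (x : G)⁻¹ * (x : G) ∈ _
      rw [inv_mul_cancel]
      exact Subgroup.one_mem _
    | mul a b _ _ iha ihb =>
      intro x
      have h1 := Subgroup.mul_mem _ (ihb x) (iha ((b : MulAut P) x))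
      have e : (x : G)⁻¹ * (((b : MulAut P) x : P) : G) *
          ((((b : MulAut P) x : P) : G)⁻¹ * (((a : MulAut P) ((b : MulAut P) x) : P) : G)) =
          (x : G)⁻¹ * (((a : MulAut P) ((b : MulAut P) x) : P) : G) := by group
      rw [e] at h1
      exact h1
    | inv a _ iha =>
      intro x
      have h1 := Subgroup.inv_mem _ (iha ((a : MulAut P)⁻¹ x))
      have e1 : (a : MulAut P) ((a : MulAut P)⁻¹ x) = x := MulAut.apply_inv_self P _ x
      rw [e1, mul_inv_rev, inv_inv] at h1
      exact h1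
  exact key α hα x

/-- Elements of `p`-power order of `O^p(G)` lie in its commutator subgroup. -/
theorem mem_commutator_of_pResidual {p : ℕ} [Fact p.Prime] (w : G)
    (hw : w ∈ pResidual p G) (k : ℕ) (hwk : w ^ p ^ k = 1) :
    (⟨w, hw⟩ : pResidual p G) ∈ commutator (pResidual p G) := by
  have key : ∀ (x : G) (hx : x ∈ pResidual p G),
      (orderOf (Abelianization.of (⟨x, hx⟩ : pResidual p G))).Coprime p := by
    intro x hx
    induction hx using Subgroup.closure_induction with
    | mem x hx =>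
      have h1 : orderOf (Abelianization.of (⟨x, Subgroup.subset_closure hx⟩ : pResidual p G)) ∣
          orderOf (⟨x, Subgroup.subset_closure hx⟩ : pResidual p G) := orderOf_map_dvd _ _
      have h0 : orderOf (⟨x, Subgroup.subset_closure hx⟩ : pResidual p G) = orderOf x :=
        (Subgroup.orderOf_coe (⟨x, Subgroup.subset_closure hx⟩ : pResidual p G)).symm
      rw [h0] at h1
      exact Nat.Coprime.coprime_dvd_left h1 hx
    | one =>
      have e : (⟨1, Subgroup.one_mem _⟩ : pResidual p G) = 1 := rfl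
      rw [e, map_one, orderOf_one]
      exact Nat.coprime_one_left p
    | mul x y hx hy ihx ihy =>
      have e : (⟨x * y, Subgroup.mul_mem _ hx hy⟩ : pResidual p G) = ⟨x, hx⟩ * ⟨y, hy⟩ := rfl
      rw [e, map_mul]
      have h1 := (Commute.all (Abelianization.of (⟨x, hx⟩ : pResidual p G))
        (Abelianization.of (⟨y, hy⟩ : pResidual p G))).orderOf_mul_dvd_lcm
      have h2 := h1.trans (Nat.lcm_dvd_mul _ _)
      exact Nat.Coprime.coprime_dvd_left h2 (Nat.Coprime.mul_left ihx ihy)
    | inv x hx ihx =>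
      have e : (⟨x⁻¹, Subgroup.inv_mem _ hx⟩ : pResidual p G) = ⟨x, hx⟩⁻¹ := rfl
      rw [e, map_inv, orderOf_inv]
      exact ihx
  have h1 := key w hw
  have h2 : Abelianization.of (⟨w, hw⟩ : pResidual p G) ^ p ^ k = 1 := by
    rw [← map_pow]
    have e : (⟨w, hw⟩ : pResidual p G) ^ p ^ k = 1 := Subtype.ext hwk
    rw [e, map_one]
  have h3 : orderOf (Abelianization.of (⟨w, hw⟩ : pResidual p G)) ∣ p ^ k :=
    orderOf_dvd_of_pow_eq_one h2
  have h4 : orderOf (Abelianization.of (⟨w, hw⟩ : pResidual p G)) = 1 :=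
    Nat.Coprime.eq_one_of_dvd (Nat.Coprime.pow_right k h1) h3
  rw [orderOf_eq_one_iff] at h4
  rw [← Abelianization.ker_of, MonoidHom.mem_ker]
  exact h4

/-- A finite `p`-group generated by a normal subgroup and its commutator subgroup equals that
normal subgroup. -/
theorem le_of_le_sup_commutator {p : ℕ} [Fact p.Prime] {T N : Subgroup G} [Finite T]
    (hTp : IsPGroup p T) (hNT : N ≤ T) (hnorm : T ≤ Subgroup.normalizer (N : Set G))
    (h : T ≤ N ⊔ ⁅T, T⁆) : T ≤ N := by
  have hn : (N.subgroupOf T).Normal := by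
    rw [Subgroup.normal_subgroupOf_iff hNT]
    intro n t hn ht
    exact (Subgroup.mem_normalizer_iff.mp (hnorm ht) n).mp hn
  have hQp : IsPGroup p (↥T ⧸ N.subgroupOf T) := hTp.to_quotient _
  have hnil : Group.IsNilpotent (↥T ⧸ N.subgroupOf T) := hQp.isNilpotent
  have hsol : Group.IsSolvable (↥T ⧸ N.subgroupOf T) := inferInstance
  have hcomm : commutator (↥T ⧸ N.subgroupOf T) = ⊤ := by
    rw [eq_top_iff]
    intro q _
    obtain ⟨t, rfl⟩ := QuotientGroup.mk_surjective q
    have ht := h t.2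
    have hle : N ⊔ ⁅T, T⁆ ≤ ((commutator (↥T ⧸ N.subgroupOf T)).comap
        (QuotientGroup.mk' (N.subgroupOf T))).map T.subtype := by
      apply sup_le
      · intro n hn'
        refine ⟨⟨n, hNT hn'⟩, ?_, rfl⟩
        show QuotientGroup.mk' (N.subgroupOf T) ⟨n, hNT hn'⟩ ∈ commutator (↥T ⧸ N.subgroupOf T)
        have e1 : QuotientGroup.mk' (N.subgroupOf T) ⟨n, hNT hn'⟩ = 1 :=
          (QuotientGroup.eq_one_iff _).mpr (Subgroup.mem_subgroupOf.mpr hn')
        rw [e1]
        exact Subgroup.one_mem _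
      · rw [Subgroup.commutator_le]
        intro a ha b hb
        refine ⟨⁅(⟨a, ha⟩ : T), ⟨b, hb⟩⁆, ?_, rfl⟩
        show QuotientGroup.mk' (N.subgroupOf T) ⁅(⟨a, ha⟩ : T), ⟨b, hb⟩⁆ ∈
          commutator (↥T ⧸ N.subgroupOf T)
        rw [map_commutatorElement]
        exact Subgroup.commutator_mem_commutator (Subgroup.mem_top _) (Subgroup.mem_top _)
    obtain ⟨t', ht', htt'⟩ := hle ht
    have e : t' = t := Subtype.ext htt'
    rw [e] at ht'
    exact ht'
  by_contra hcon
  have hnt : Nontrivial (↥T ⧸ N.subgroupOf T) := by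
    by_contra hs
    rw [not_nontrivial_iff_subsingleton] at hs
    have h1 := QuotientGroup.subgroup_eq_top_of_subsingleton (N.subgroupOf T) hs
    apply hcon
    intro t ht
    have h2 : (⟨t, ht⟩ : T) ∈ N.subgroupOf T := by rw [h1]; exact Subgroup.mem_top _
    exact Subgroup.mem_subgroupOf.mp h2
  have h3 := Group.IsSolvable.commutator_lt_top_of_nontrivial (↥T ⧸ N.subgroupOf T)
  rw [hcomm] at h3
  exact lt_irrefl _ h3

/-- The hyperfocal subgroup of the system of a subgroup lies in that of the whole group. -/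
theorem hyp_rel_le {p : ℕ} (S K : Subgroup G) :
    (fusionSystemOfSubgroup K (S ⊓ K) inf_le_right).hyperfocalSubgroup p ≤
      (groupFusionSystem S).hyperfocalSubgroup p := by
  conv_lhs => unfold FusionSystem.hyperfocalSubgroup
  rw [Subgroup.closure_le]
  rintro _ ⟨P, α, x, hP, hα, rfl⟩
  have hle : (fusionSystemOfSubgroup K (S ⊓ K) inf_le_right).autGroup P ≤
      (groupFusionSystem S).autGroup P := by
    apply Subgroup.closure_mono
    rintro a ⟨hPT, haT, g, -, hg⟩
    exact ⟨hPT.trans inf_le_left, fun y => (haT y).1, g, hg⟩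
  have h2 := Cfsg.Agent.Lib.Helper87.FSHyp.map_mem_pResidual p (Subgroup.inclusion hle)
    (Subgroup.inclusion_injective hle) hα
  exact Cfsg.Agent.Lib.Helper87.FSHyp.gen_mem (groupFusionSystem S) p (hP.trans inf_le_left)
    (Subgroup.inclusion hle α) h2 x

/-- The hard inclusion. -/
theorem le_hyp [Finite G] {p : ℕ} [Fact p.Prime] (S : Sylow p G) :
    (S : Subgroup G) ⊓ pResidual p G ≤
      (groupFusionSystem (S : Subgroup G)).hyperfocalSubgroup p := by
  have hKn : (pResidual p G).Normal := Cfsg.Agent.Lib.Helper87.FSHyp.pResidual_normal p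
  have hSsyl : Cfsg.Agent.Lib.Helper33.Conj.IsSylIn p (S : Subgroup G) ⊤ :=
    Cfsg.Agent.Lib.Helper33.Conj.isSylIn_of_sylow S le_top
  have hT : Cfsg.Agent.Lib.Helper33.Conj.IsSylIn p ((S : Subgroup G) ⊓ pResidual p G)
      (pResidual p G) :=
    Cfsg.Agent.S5118.sylIn_inf_normal hSsyl le_top (by rw [Subgroup.normalizer_eq_top])
  have hTp : IsPGroup p ((S : Subgroup G) ⊓ pResidual p G : Subgroup G) := hT.2.1
  have hsat := Cfsg.Agent.S5118.saturated_rel (pResidual p G) _ inf_le_right hT
  have hfoc := Cfsg.Agent.S5092.result p hTp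
    (fusionSystemOfSubgroup (pResidual p G) ((S : Subgroup G) ⊓ pResidual p G) inf_le_right) hsat
  refine le_trans ?_ (hyp_rel_le (S : Subgroup G) (pResidual p G))
  apply le_of_le_sup_commutator hTp
    (Cfsg.Agent.Lib.Helper87.FSHyp.hyperfocal_le _ p)
    (Cfsg.Agent.Lib.Helper87.FSHyp.le_normalizer_hyperfocal _ p)
  rw [← hfoc]
  -- the focal subgroup theorem in `O^p(G)`
  have hp' : IsPGroup p (((S : Subgroup G) ⊓ pResidual p G).subgroupOf (pResidual p G)) :=
    hTp.comap_subtype
  have hidx : ¬ p ∣ (((S : Subgroup G) ⊓ pResidual p G).subgroupOf (pResidual p G)).index :=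
    hT.2.2
  have hft := Subgroup.commutator_inf_eq_focalSubgroup (hp'.toSylow hidx)
  intro w hw
  obtain ⟨k, hk⟩ := hTp ⟨w, hw⟩
  have hk' : w ^ p ^ k = 1 := congrArg Subtype.val hk
  have h1 : (⟨w, hw.2⟩ : pResidual p G) ∈ commutator (pResidual p G) ⊓
      ((hp'.toSylow hidx : Sylow p (pResidual p G)) : Subgroup (pResidual p G)) :=
    ⟨mem_commutator_of_pResidual w hw.2 k hk',
      (IsPGroup.mem_toSylow hp' hidx).mpr (Subgroup.mem_subgroupOf.mpr hw)⟩
  rw [hft] at h1
  have key : ∀ z ∈ Subgroup.focalSubgroup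
      ((hp'.toSylow hidx : Sylow p (pResidual p G)) : Subgroup (pResidual p G)),
      (z : G) ∈ (fusionSystemOfSubgroup (pResidual p G)
        ((S : Subgroup G) ⊓ pResidual p G) inf_le_right).focalSubgroup := by
    intro z hz
    induction hz using Subgroup.closure_induction with
    | mem g hg =>
      obtain ⟨hgP, x, hxP, u, rfl⟩ := hg
      have hgT : ((⁅x, u⁆ : pResidual p G) : G) ∈ (S : Subgroup G) ⊓ pResidual p G :=
        Subgroup.mem_subgroupOf.mp ((IsPGroup.mem_toSylow hp' hidx).mp hgP)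
      have hxT : (x : G) ∈ (S : Subgroup G) ⊓ pResidual p G :=
        Subgroup.mem_subgroupOf.mp ((IsPGroup.mem_toSylow hp' hidx).mp hxP)
      have hcoe : ((⁅x, u⁆ : pResidual p G) : G) = (x : G) * u * (x : G)⁻¹ * (u : G)⁻¹ := rfl
      have hconj : (u : G) * (x : G)⁻¹ * (u : G)⁻¹ ∈ (S : Subgroup G) ⊓ pResidual p G := by
        have h2 := Subgroup.mul_mem _ (Subgroup.inv_mem _ hxT) hgT
        rw [hcoe] at h2
        have e : (x : G)⁻¹ * ((x : G) * u * (x : G)⁻¹ * (u : G)⁻¹) =
            (u : G) * (x : G)⁻¹ * (u : G)⁻¹ := by group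
        rwa [e] at h2
      have hzle : Subgroup.zpowers ((x : G)⁻¹) ≤ (S : Subgroup G) ⊓ pResidual p G := by
        rw [Subgroup.zpowers_le]
        exact Subgroup.inv_mem _ hxT
      have hmap : Subgroup.zpowers ((x : G)⁻¹) ≤
          ((S : Subgroup G) ⊓ pResidual p G).comap (MulAut.conj (u : G)).toMonoidHom := by
        rw [Subgroup.zpowers_le]
        exact hconj
      refine Subgroup.subset_closure ⟨Subgroup.zpowers ((x : G)⁻¹),
        conjHom (Subgroup.zpowers ((x : G)⁻¹)) (u : G),
        ⟨(x : G)⁻¹, Subgroup.mem_zpowers _⟩, ⟨hzle, fun y => hmap y.2, (u : G), u.2, fun y => rfl⟩,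
        ?_⟩
      rw [hcoe]
      show _ = ((x : G)⁻¹)⁻¹ * ((u : G) * (x : G)⁻¹ * (u : G)⁻¹)
      group
    | one => exact Subgroup.one_mem _
    | mul a b _ _ iha ihb => exact Subgroup.mul_mem _ iha ihb
    | inv a _ iha => exact Subgroup.inv_mem _ iha
  exact key _ h1

/-- Hyperfocal subgroup Theorem: for a finite group G with Sylow p-subgroup S, the hyperfocal subgroup of the fusion system of G on S equals S ∩ O^p(G), where O^p(G) is the subgroup generated by the elements of order prime to p. -/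
theorem result {G : Type*} [Group G] [Finite G] (p : ℕ) [Fact p.Prime] (S : Sylow p G) : (Cfsg.groupFusionSystem (S : Subgroup G)).hyperfocalSubgroup p = (S : Subgroup G) ⊓ Cfsg.pResidual p G :=
  le_antisymm (hyp_le (S : Subgroup G)) (le_hyp S)

end Cfsg.Agent.S5093
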