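import Cfsg.Statements.S5124
import Cfsg.Agent.Lib.Helper87.FSBasic
import Cfsg.Agent.Lib.Helper87.FSSat
import Cfsg.Agent.Lib.Helper87.FSAlperin
import Cfsg.Agent.Lib.Helper87.FSPres
import Cfsg.Agent.Lib.Helper87.FSHyp

set_option autoImplicit false
open Cfsg

namespace Cfsg.Agent.S5124

/-- In a saturated fusion system over a finite p-group S the hyperfocal subgroup is strongly closed in the system. -/
theorem result {Ω : Type*} [Group Ω] {S : Subgroup Ω} [Finite S] (p : ℕ) [Fact p.Prime] (hS : IsPGroup p S) (F : Cfsg.FusionSystem S) (hF : F.IsSaturated p) : F.StronglyClosed (F.hyperfocalSubgroup p) := by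
  open Cfsg.Agent.Lib.Helper87.FSBasic Cfsg.Agent.Lib.Helper87.FSSat
    Cfsg.Agent.Lib.Helper87.FSAlperin Cfsg.Agent.Lib.Helper87.FSPres
    Cfsg.Agent.Lib.Helper87.FSHyp in
  have hn := le_normalizer_hyperfocal F p
  refine stronglyClosed_of_le_presSys F _ (hyperfocal_le F p) hn ?_
  refine alperin_induction hS F hF (presSys F _ hn) ?_
  intro Y hfa hrec IH α hα hr
  refine ⟨hα, fun x => ?_⟩
  have hY : Y ≤ S := hfa.1
  obtain ⟨n, hn', r, hr', hdec⟩ := autGroup_decomp F hfa _ (autOfMap_mem F hα hr)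
  obtain ⟨g, hgS, hg⟩ := (mem_autInducedBy_iff r).mp hr'
  have h1 : α x = (((n : MulAut Y) (r x) : Y) : Ω) := by
    have h := congrArg (fun b : MulAut Y => ((b x : Y) : Ω)) hdec
    exact h
  have h2 := gen_mem F p hY n hn' (r x)
  have h3 : ((r x : Y) : Ω) ∈ F.hyperfocalSubgroup p ↔ (x : Ω) ∈ F.hyperfocalSubgroup p := by
    rw [hg x]
    exact ((Subgroup.mem_normalizer_iff.mp (hn hgS)) x).symm
  rw [h1, ← h3]
  constructor
  · intro h
    have h4 := (F.hyperfocalSubgroup p).mul_mem h h2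
    rwa [mul_inv_cancel_left] at h4
  · intro h
    have h4 := (F.hyperfocalSubgroup p).mul_mem h ((F.hyperfocalSubgroup p).inv_mem h2)
    rwa [mul_inv_rev, inv_inv, mul_inv_cancel_left] at h4

end Cfsg.Agent.S5124
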