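import Cfsg.Statements.S5141
import Cfsg.Agent.Lib.Helper88.WNAsm
import Cfsg.Agent.Lib.Helper88.WNXC
import Cfsg.Agent.Lib.Helper88.WNIND
import Cfsg.Agent.Lib.Helper88.WNSTEP
import Cfsg.Agent.Lib.Helper87.WNTE
import Cfsg.Agent.Lib.Helper87.WNINV
import Cfsg.Agent.Lib.Helper49.WNGS
import Cfsg.Agent.Lib.Helper49.WNEXTC
import Cfsg.Agent.Lib.Helper89.WNC1
import Cfsg.Agent.Lib.Helper89.WNAUTX
import Cfsg.Agent.Lib.Helper30.WNWSYL
import Cfsg.Agent.Lib.Helper30.WNFCEN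
-- import your own Cfsg.Agent.* helpers here

set_option autoImplicit false
open Cfsg

namespace Cfsg.Agent.S5141

/-- Let F be a saturated fusion system over a finite p-group S and E a weakly normal subsystem of F over T. Then the p'-residual subsystem of E (the least saturated subsystem of E over T of index prime to p) is normal in F. -/
theorem result {Ω : Type*} [Group Ω] {S : Subgroup Ω} [Finite S] (p : ℕ) [Fact p.Prime] (hS : IsPGroup p S) (F : Cfsg.FusionSystem S) (hF : F.IsSaturated p) {T : Subgroup Ω} (E : Cfsg.FusionSystem T) (hE : E.IsWeaklyNormalIn F p) (D : Cfsg.FusionSystem T) (hD : E.IsPPrimeResidual p D) : D.IsNormalIn F p := by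
  have hTE : Cfsg.Agent.Lib.Helper88.WNStmt.ThetaExt.{u_1} := Cfsg.Agent.Lib.Helper87.WNTE.main
    (Cfsg.Agent.Lib.Helper88.WNXC.main Cfsg.Agent.Lib.Helper30.WNWSYL.main)
    Cfsg.Agent.Lib.Helper30.WNFCEN.main
  have hStep : Cfsg.Agent.Lib.Helper88.WNStmt.GoodStep.{u_1} := Cfsg.Agent.Lib.Helper88.WNSTEP.main Cfsg.Agent.Lib.Helper89.WNAUTX.main hTE
  have hUp : Cfsg.Agent.Lib.Helper88.WNStmt.GoodUp.{u_1} := Cfsg.Agent.Lib.Helper88.WNIND.main Cfsg.Agent.Lib.Helper49.WNGS.main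
    Cfsg.Agent.Lib.Helper89.WNC1.main hStep
  exact Cfsg.Agent.Lib.Helper88.WNAsm.assembly Cfsg.Agent.Lib.Helper49.WNGS.main
    Cfsg.Agent.Lib.Helper89.WNC1.main hUp Cfsg.Agent.Lib.Helper87.WNINV.main
    Cfsg.Agent.Lib.Helper49.WNEXTC.main p hS F hF E hE D hD

end Cfsg.Agent.S5141
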