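import Cfsg.Statements.S5301
import Cfsg.Agent.Lib.Helper88.FSBase
import Cfsg.Agent.Lib.Helper88.AlpCentric
import Cfsg.Agent.Lib.Helper87.FSNormal
import Cfsg.Agent.Lib.Helper87.FSMisc
import Cfsg.Agent.S5079
-- import your own Cfsg.Agent.* helpers here

set_option autoImplicit false
universe u
open Cfsg

namespace Cfsg.Agent.S5301


open Cfsg.FusionSystem Cfsg.Agent.Lib.Helper88 Cfsg.Agent.Lib.Helper87 in
/-- A fully automized receptive subgroup is fully normalized. -/
theorem fullyNormalized_of_far {Ω : Type u} [Group Ω] {S : Subgroup Ω} [Finite S] (p : ℕ)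
    [Fact p.Prime] (hS : IsPGroup p S) (F : Cfsg.FusionSystem S) {Y : Subgroup Ω}
    (hfa : F.IsFullyAutomized p Y) (hrec : F.IsReceptive Y) : F.IsFullyNormalized Y := by
  refine ⟨hrec.1, fun Q hQ => ?_⟩
  obtain ⟨φ, hφ, hφN, -⟩ := Cfsg.Agent.S5079.result p hS F Y Q hfa hrec (FSBase.isConj_symm F hQ)
  have hfin : Finite (normalizerIn S Y) := FSSat.finite_of_le inf_le_left
  exact Nat.card_le_card_of_injective (fun x => (⟨φ x, hφN x⟩ : normalizerIn S Y))
    (fun a b hab => F.injective_of_mem hφ (congrArg Subtype.val hab))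

open Cfsg.FusionSystem Cfsg.Agent.Lib.Helper88 Cfsg.Agent.Lib.Helper87 in
/-- The inner automorphisms of `Y ≤ S` lie in `Aut_S(Y)`. -/
theorem inn_le_autInducedBy {Ω : Type u} [Group Ω] {S : Subgroup Ω} {Y : Subgroup Ω}
    (hYS : Y ≤ S) : Inn Y ≤ autInducedBy S Y := by
  rintro _ ⟨y, rfl⟩
  rw [FSBasic.mem_autInducedBy_iff]
  exact ⟨y, hYS y.2, fun x => rfl⟩

open Cfsg.FusionSystem Cfsg.Agent.Lib.Helper88 Cfsg.Agent.Lib.Helper87 in
/-- The key local step: a normal `p`-subgroup `B` of `Aut_F(Y)` not contained in `Inn(Y)`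
forces all automorphisms of the fully automized receptive `Y` into `E`. -/
theorem aut_mem_of_not_le_inn {Ω : Type u} [Group Ω] {S : Subgroup Ω} [Finite S] (p : ℕ)
    [Fact p.Prime] (F E : Cfsg.FusionSystem S) {Y : Subgroup Ω}
    (hfa : F.IsFullyAutomized p Y) (hrec : F.IsReceptive Y)
    (IH : ∀ R : Subgroup Ω, Nat.card Y < Nat.card R → F.Hom R ⊆ E.Hom R)
    (B : Subgroup (MulAut Y)) (hB : IsPGroup p B)
    (hBle : B ≤ F.autGroup Y) (hBn : ∀ χ ∈ F.autGroup Y, ∀ β ∈ B, χ * β * χ⁻¹ ∈ B)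
    (hne : ¬ B ≤ Inn Y) :
    ∀ α ∈ F.Hom Y, α.range = Y → α ∈ E.Hom Y := by
  obtain ⟨β, hβB, hβI⟩ := SetLike.not_le_iff_exists.mp hne
  have hβS := FSLocal.normal_pSubgroup_le_autS F hfa B hB hBle hBn hβB
  obtain ⟨g, hgS, hg⟩ := (FSBasic.mem_autInducedBy_iff β).mp hβS
  have hgN : g ∈ Subgroup.normalizer (Y : Set Ω) := FSBasic.mem_normalizer_of_induces hg
  have hgY : g ∉ Y := by
    intro hgY
    apply hβI
    refine ⟨⟨g, hgY⟩, ?_⟩
    ext x
    exact (hg x).symm
  have hgB : Y.normalizerMonoidHom ⟨g, hgN⟩ ∈ B := by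
    have e : Y.normalizerMonoidHom ⟨g, hgN⟩ = β := by
      ext x
      exact (hg x).symm
    rw [e]
    exact hβB
  exact FSLocal.aut_mem_of_normal_pSubgroup F E hfa hrec IH B hB hBle hBn hgS hgN hgY hgB

open Cfsg.FusionSystem Cfsg.Agent.Lib.Helper88 Cfsg.Agent.Lib.Helper87 in
/-- Let F be a saturated fusion system over a finite p-group S. If for every subgroup P of S that is fully normalized, centric and radical in F the automorphism group that F induces on P has a normal Sylow p-subgroup, then S is normal in F. -/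
theorem result {Ω : Type u} [Group Ω] {S : Subgroup Ω} [Finite S] (p : ℕ) [Fact p.Prime] (hS : IsPGroup p S)
    (F : Cfsg.FusionSystem S) (hF : F.IsSaturated p)
    (hcl : ∀ P : Subgroup Ω, F.IsFullyNormalized P → F.IsCentric P → F.IsRadical p P →
      ∃ R : Sylow p ↥(F.autGroup P), (R : Subgroup ↥(F.autGroup P)).Normal) :
    F.IsNormal S := by
  have hn : S ≤ Subgroup.normalizer (S : Set Ω) := Subgroup.le_normalizer
  rw [FSNormal.isNormal_iff_le_normSys F S le_rfl hn]
  apply FSAlperin.alperin_induction hS F hF (FSNormal.normSys F S le_rfl hn)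
  intro Y hfa hrec IH α hα hr
  have hYS : Y ≤ S := hrec.1
  have hYfin : Finite Y := FSSat.finite_of_le hYS
  by_cases hYeq : Y = S
  · -- the top case: transport along `S = S ⊔ S`
    refine ⟨hα, ?_⟩
    obtain ⟨ψ, hψ, hψe⟩ := FSBase.transport_mem F (show Y = Y ⊔ S by rw [hYeq, sup_idem]) hα
    refine ⟨ψ, hψ, fun x => hψe x x.2 _, fun q => ?_⟩
    have hqY : (q : Ω) ∈ Y := by rw [hYeq]; exact q.2
    have h1 := hψe q hqY (Subgroup.inclusion le_sup_right q).2
    have h2 : ψ (Subgroup.inclusion le_sup_right q) = α ⟨q, hqY⟩ := h1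
    rw [h2]
    exact (F.le_of_mem hα).2 _
  · by_cases hc : F.IsCentric Y
    · by_cases hrad : F.IsRadical p Y
      · -- fully normalized, centric, radical: the normal Sylow subgroup contains `Aut_S(Y)`
        have hfn := fullyNormalized_of_far p hS F hfa hrec
        obtain ⟨R, hRn⟩ := hcl Y hfn hc hrad
        obtain ⟨g, hgS, hgN, hgY⟩ := FSSat.exists_normalizer_not_mem hS hYS hYeq
        obtain ⟨R', hR'⟩ := hfa.2
        have hRR' : R' = R := by
          have hu := Sylow.unique_of_normal R hRn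
          exact Subsingleton.elim _ _
        rw [hRR'] at hR'
        have hBn : ∀ χ ∈ F.autGroup Y, ∀ β ∈ (R : Subgroup (F.autGroup Y)).map (F.autGroup Y).subtype,
            χ * β * χ⁻¹ ∈ (R : Subgroup (F.autGroup Y)).map (F.autGroup Y).subtype := by
          rintro χ hχ _ ⟨b, hb, rfl⟩
          exact ⟨⟨χ, hχ⟩ * b * ⟨χ, hχ⟩⁻¹, hRn.conj_mem b hb ⟨χ, hχ⟩, rfl⟩
        have hcg : Y.normalizerMonoidHom ⟨g, hgN⟩ ∈ autInducedBy S Y :=
          FSBasic.conj_mem_autInducedBy hgS hgN
        have hgB : Y.normalizerMonoidHom ⟨g, hgN⟩ ∈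
            (R : Subgroup (F.autGroup Y)).map (F.autGroup Y).subtype := by
          refine ⟨⟨_, FSBasic.autInducedBy_le_autGroup F hYS hcg⟩, ?_, rfl⟩
          rw [SetLike.mem_coe, hR', Subgroup.mem_subgroupOf]
          exact hcg
        exact FSLocal.aut_mem_of_normal_pSubgroup F _ hfa hrec IH _ (R.isPGroup'.map _)
          (Subgroup.map_subtype_le _) hBn hgS hgN hgY hgB α hα hr
      · -- not radical: `O_p(Aut_F(Y))` is not contained in `Inn(Y)`
        have hInn_le : Inn Y ≤ F.autGroup Y :=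
          (inn_le_autInducedBy hYS).trans (FSBasic.autInducedBy_le_autGroup F hYS)
        have hInnP : IsPGroup p (Inn Y) :=
          IsPGroup.of_surjective (hS.to_le hYS) (MulAut.conj : Y →* MulAut Y).rangeRestrict
            (MonoidHom.rangeRestrict_surjective _)
        have hInn_core : Inn Y ≤ (pCore p (F.autGroup Y)).map (F.autGroup Y).subtype := by
          refine FSMisc.le_pCore_map (F.autGroup Y) (Inn Y) hInn_le ?_ hInnP
          rintro a - _ ⟨y, rfl⟩
          refine ⟨a y, ?_⟩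
          ext x
          simp [MulAut.conj_apply]
        have hne : ¬ (pCore p (F.autGroup Y)).map (F.autGroup Y).subtype ≤ Inn Y := by
          intro hle
          exact hrad ⟨hYS, le_antisymm hle hInn_core⟩
        have hcoreN : (pCore p (F.autGroup Y)).Normal := Subgroup.sSup_normal _ fun _ h => h.1
        have hcoreP : IsPGroup p (pCore p (F.autGroup Y)) :=
          Sylow.sSup_of_normal _ (fun _ h => h.2) (fun _ h => h.1)
        have hBn : ∀ χ ∈ F.autGroup Y, ∀ β ∈ (pCore p (F.autGroup Y)).map (F.autGroup Y).subtype,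
            χ * β * χ⁻¹ ∈ (pCore p (F.autGroup Y)).map (F.autGroup Y).subtype := by
          rintro χ hχ _ ⟨b, hb, rfl⟩
          exact ⟨⟨χ, hχ⟩ * b * ⟨χ, hχ⟩⁻¹, hcoreN.conj_mem b hb ⟨χ, hχ⟩, rfl⟩
        exact aut_mem_of_not_le_inn p F _ hfa hrec IH _ (hcoreP.map _)
          (Subgroup.map_subtype_le _) hBn hne α hα hr
    · -- not centric: the automorphism extends to a larger subgroup
      obtain ⟨R, hYR, hlt, α', hα', hext⟩ := AlpCentric.extends_of_not_centric F hrec hα hr hc
      have h1 := FSBasic.restrict_mem _ (IH R hlt hα') hYR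
      exact FSBasic.mem_of_eq _ h1 fun x => (hext x).symm

end Cfsg.Agent.S5301
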