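import Cfsg.Statements.S5283
import Cfsg.Agent.Lib.Helper87.FSBasic
import Cfsg.Agent.Lib.Helper87.FSSat
import Cfsg.Agent.Lib.Helper87.ChainStab
import Cfsg.Agent.H84.FusSat
import Cfsg.Agent.Lib.Helper88.FSBase
import Cfsg.Agent.Lib.Helper88.AutSys
import Cfsg.Agent.Lib.Helper88.CyclicSec
import Cfsg.Agent.S5301
-- import your own Cfsg.Agent.* helpers here

set_option autoImplicit false
open Cfsg

namespace Cfsg.Agent.S5283

section Aux

open Cfsg.FusionSystem Cfsg.Agent.Lib.Helper87 Cfsg.Agent.Lib.Helper88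

variable {Ω : Type*} [Group Ω] {S : Subgroup Ω}

/-- A supersoluble chain indexed by the natural numbers. -/
def IsChain (F : FusionSystem S) (m : ℕ) (c : ℕ → Subgroup Ω) : Prop :=
  c 0 = ⊥ ∧ c m = S ∧ (∀ j, F.StronglyClosed (c j)) ∧
    ∀ j, ∃ x ∈ S, c (j + 1) = c j ⊔ Subgroup.zpowers x

theorem exists_nat_chain (F : FusionSystem S)
    (h : ∃ (m : ℕ) (c : Fin (m + 1) → Subgroup Ω), c 0 = ⊥ ∧ c (Fin.last m) = S ∧
      (∀ i : Fin (m + 1), F.StronglyClosed (c i)) ∧
      ∀ i : Fin m, c i.castSucc ≤ c i.succ ∧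
        ∃ x ∈ S, c i.succ = c i.castSucc ⊔ Subgroup.zpowers x) :
    ∃ (m : ℕ) (c : ℕ → Subgroup Ω), IsChain F m c := by
  obtain ⟨m, c, h0, hm, hsc, hstep⟩ := h
  have hS : F.StronglyClosed S := ⟨le_rfl, fun R _ φ hφ x => (F.le_of_mem hφ).2 x⟩
  obtain ⟨c', hc'⟩ : ∃ c' : ℕ → Subgroup Ω,
      ∀ j, c' j = if h : j ≤ m then c ⟨j, Nat.lt_succ_of_le h⟩ else S := ⟨_, fun _ => rfl⟩
  refine ⟨m, c', ?_, ?_, ?_, ?_⟩
  · rw [hc', dif_pos (Nat.zero_le m)]
    exact h0
  · rw [hc', dif_pos le_rfl]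
    exact hm
  · intro j
    by_cases h : j ≤ m
    · rw [hc', dif_pos h]
      exact hsc _
    · rw [hc', dif_neg h]
      exact hS
  · intro j
    by_cases h : j < m
    · obtain ⟨-, x, hx, he⟩ := hstep ⟨j, h⟩
      refine ⟨x, hx, ?_⟩
      rw [hc' (j + 1), hc' j, dif_pos (Nat.succ_le_of_lt h), dif_pos h.le]
      exact he
    · refine ⟨1, S.one_mem, ?_⟩
      have h1 : ¬ j + 1 ≤ m := by omega
      rw [hc' (j + 1), hc' j, dif_neg h1]
      by_cases h2 : j ≤ m
      · have h3 : j = m := by omega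
        subst h3
        rw [dif_pos le_rfl]
        have : c ⟨j, Nat.lt_succ_of_le le_rfl⟩ = S := hm
        rw [this]
        simp
      · rw [dif_neg h2]
        simp

theorem normal_of_stronglyClosed (F : FusionSystem S) {N : Subgroup Ω}
    (hN : F.StronglyClosed N) : (N.subgroupOf S).Normal := by
  refine ⟨fun n hn g => ?_⟩
  rw [Subgroup.mem_subgroupOf] at hn ⊢
  exact hN.2 N le_rfl (conjHom N g) (F.conj_mem hN.1 g.2) ⟨n, hn⟩

theorem aut_mem_of_stronglyClosed (F : FusionSystem S) {N : Subgroup Ω}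
    (hN : F.StronglyClosed N) {P : Subgroup Ω} (hP : P ≤ S) {α : MulAut P}
    (hα : α ∈ F.autGroup P) (y : P) (hy : (y : Ω) ∈ N) : ((α y : P) : Ω) ∈ N := by
  have hφ : (P.subtype.comp α.toMonoidHom).comp (Subgroup.inclusion (inf_le_left : P ⊓ N ≤ P)) ∈
      F.Hom (P ⊓ N) := FSBasic.restrict_mem F (FSBasic.autGroup_hom F hP hα) inf_le_left
  exact hN.2 (P ⊓ N) inf_le_right _ hφ ⟨y, ⟨y.2, hy⟩⟩

theorem pi_eq_one_iff (N : Subgroup Ω) [(N.subgroupOf S).Normal] {P : Subgroup Ω}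
    (hP : P ≤ S) (y : P) :
    ((QuotientGroup.mk' (N.subgroupOf S)).comp (Subgroup.inclusion hP)) y = 1 ↔ (y : Ω) ∈ N := by
  show (QuotientGroup.mk (Subgroup.inclusion hP y) : S ⧸ N.subgroupOf S) = 1 ↔ _
  rw [QuotientGroup.eq_one_iff, Subgroup.mem_subgroupOf]
  rfl

theorem pi_mem_zpowers (N : Subgroup Ω) [(N.subgroupOf S).Normal] (hN : N ≤ S)
    {P : Subgroup Ω} (hP : P ≤ S) (x : Ω) (hx : x ∈ S) (y : P)
    (hy : (y : Ω) ∈ N ⊔ Subgroup.zpowers x) :
    ((QuotientGroup.mk' (N.subgroupOf S)).comp (Subgroup.inclusion hP)) y ∈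
      Subgroup.zpowers (QuotientGroup.mk' (N.subgroupOf S) ⟨x, hx⟩) := by
  have hle : N ⊔ Subgroup.zpowers x ≤
      ((Subgroup.zpowers (QuotientGroup.mk' (N.subgroupOf S) ⟨x, hx⟩)).comap
        (QuotientGroup.mk' (N.subgroupOf S))).map S.subtype := by
    apply sup_le
    · intro n hn
      refine ⟨⟨n, hN hn⟩, ?_, rfl⟩
      show QuotientGroup.mk' (N.subgroupOf S) ⟨n, hN hn⟩ ∈
        Subgroup.zpowers (QuotientGroup.mk' (N.subgroupOf S) ⟨x, hx⟩)
      have h1 : QuotientGroup.mk' (N.subgroupOf S) ⟨n, hN hn⟩ = 1 := by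
        show (QuotientGroup.mk (⟨n, hN hn⟩ : S) : S ⧸ N.subgroupOf S) = 1
        rw [QuotientGroup.eq_one_iff, Subgroup.mem_subgroupOf]
        exact hn
      rw [h1]
      exact Subgroup.one_mem _
    · rw [Subgroup.zpowers_le]
      exact ⟨⟨x, hx⟩, Subgroup.mem_zpowers _, rfl⟩
  obtain ⟨y', hy', e⟩ := hle hy
  have e2 : y' = Subgroup.inclusion hP y := Subtype.ext e
  rw [e2] at hy'
  exact hy'

theorem comm_section (F : FusionSystem S) {m : ℕ} {c : ℕ → Subgroup Ω}
    (hc : IsChain F m c) {P : Subgroup Ω} (hP : P ≤ S) (α β : MulAut P)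
    (hα : α ∈ F.autGroup P) (hβ : β ∈ F.autGroup P) (j : ℕ) (y : P)
    (hy : (y : Ω) ∈ c (j + 1)) :
    ((y⁻¹ * (α * β * α⁻¹ * β⁻¹) y : P) : Ω) ∈ c j := by
  obtain ⟨h0, hm, hsc, hstep⟩ := hc
  obtain ⟨x, hx, hxe⟩ := hstep j
  haveI := normal_of_stronglyClosed F (hsc j)
  have hαi : α⁻¹ ∈ F.autGroup P := Subgroup.inv_mem _ hα
  have hβi : β⁻¹ ∈ F.autGroup P := Subgroup.inv_mem _ hβ
  have key := CyclicSec.comm_trivial
    ((QuotientGroup.mk' ((c j).subgroupOf S)).comp (Subgroup.inclusion hP))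
    ((c (j + 1)).subgroupOf P) (QuotientGroup.mk' ((c j).subgroupOf S) ⟨x, hx⟩)
    (fun y hy => pi_mem_zpowers (c j) (hsc j).1 hP x hx y (by
      rw [← hxe]; exact Subgroup.mem_subgroupOf.mp hy))
    α β
    (fun y hy => Subgroup.mem_subgroupOf.mpr
      (aut_mem_of_stronglyClosed F (hsc (j + 1)) hP hα y (Subgroup.mem_subgroupOf.mp hy)))
    (fun y hy => Subgroup.mem_subgroupOf.mpr
      (aut_mem_of_stronglyClosed F (hsc (j + 1)) hP hβ y (Subgroup.mem_subgroupOf.mp hy)))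
    (fun y hy => Subgroup.mem_subgroupOf.mpr
      (aut_mem_of_stronglyClosed F (hsc (j + 1)) hP hαi y (Subgroup.mem_subgroupOf.mp hy)))
    (fun y hy => Subgroup.mem_subgroupOf.mpr
      (aut_mem_of_stronglyClosed F (hsc (j + 1)) hP hβi y (Subgroup.mem_subgroupOf.mp hy)))
    (fun y _ h1 => (pi_eq_one_iff (c j) hP _).mpr
      (aut_mem_of_stronglyClosed F (hsc j) hP hα y ((pi_eq_one_iff (c j) hP y).mp h1)))
    (fun y _ h1 => (pi_eq_one_iff (c j) hP _).mpr
      (aut_mem_of_stronglyClosed F (hsc j) hP hβ y ((pi_eq_one_iff (c j) hP y).mp h1)))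
    y (Subgroup.mem_subgroupOf.mpr hy)
  apply (pi_eq_one_iff (c j) hP _).mp
  rw [map_mul, map_inv, key, inv_mul_cancel]

theorem pow_section (p : ℕ) [Fact p.Prime] (hS : IsPGroup p S) (F : FusionSystem S) {m : ℕ}
    {c : ℕ → Subgroup Ω} (hc : IsChain F m c) {P : Subgroup Ω} (hP : P ≤ S) (α : MulAut P)
    (hα : α ∈ F.autGroup P) (r : ℕ) (hr : r.Coprime p) (hαr : α ^ r = 1) (j : ℕ) (y : P)
    (hy : (y : Ω) ∈ c (j + 1)) :
    ((y⁻¹ * (α ^ (p - 1)) y : P) : Ω) ∈ c j := by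
  obtain ⟨h0, hm, hsc, hstep⟩ := hc
  obtain ⟨x, hx, hxe⟩ := hstep j
  haveI := normal_of_stronglyClosed F (hsc j)
  have hPp : IsPGroup p P := hS.to_le hP
  have key := CyclicSec.pow_trivial (p := p)
    ((QuotientGroup.mk' ((c j).subgroupOf S)).comp (Subgroup.inclusion hP))
    ((c (j + 1)).subgroupOf P) (QuotientGroup.mk' ((c j).subgroupOf S) ⟨x, hx⟩)
    (fun y hy => pi_mem_zpowers (c j) (hsc j).1 hP x hx y (by
      rw [← hxe]; exact Subgroup.mem_subgroupOf.mp hy))
    (fun y _ => by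
      obtain ⟨k, hk⟩ := hPp y
      exact ⟨k, by rw [← map_pow, hk, map_one]⟩)
    α
    (fun y hy => Subgroup.mem_subgroupOf.mpr
      (aut_mem_of_stronglyClosed F (hsc (j + 1)) hP hα y (Subgroup.mem_subgroupOf.mp hy)))
    (fun y _ h1 => (pi_eq_one_iff (c j) hP _).mpr
      (aut_mem_of_stronglyClosed F (hsc j) hP hα y ((pi_eq_one_iff (c j) hP y).mp h1)))
    r hr hαr y (Subgroup.mem_subgroupOf.mpr hy)
  apply (pi_eq_one_iff (c j) hP _).mp
  rw [map_mul, map_inv, key, inv_mul_cancel]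

/-- The descending chain induced on `P`. -/
def Dch (c : ℕ → Subgroup Ω) (m : ℕ) (P : Subgroup Ω) (i : ℕ) : Subgroup P :=
  (c (m - i)).subgroupOf P

theorem Dch_inv (F : FusionSystem S) {m : ℕ} {c : ℕ → Subgroup Ω} (hc : IsChain F m c)
    {P : Subgroup Ω} (hP : P ≤ S) :
    ∀ α ∈ F.autGroup P, ∀ i, ∀ x ∈ Dch c m P i, α x ∈ Dch c m P i :=
  fun _ hα i x hx => Subgroup.mem_subgroupOf.mpr
    (aut_mem_of_stronglyClosed F (hc.2.2.1 (m - i)) hP hα x (Subgroup.mem_subgroupOf.mp hx))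

theorem Dch_zero (F : FusionSystem S) {m : ℕ} {c : ℕ → Subgroup Ω} (hc : IsChain F m c)
    {P : Subgroup Ω} (hP : P ≤ S) : Dch c m P 0 = ⊤ := by
  unfold Dch
  rw [Nat.sub_zero, hc.2.1, Subgroup.subgroupOf_eq_top]
  exact hP

theorem Dch_last (F : FusionSystem S) {m : ℕ} {c : ℕ → Subgroup Ω} (hc : IsChain F m c)
    (P : Subgroup Ω) : Dch c m P m = ⊥ := by
  unfold Dch
  rw [Nat.sub_self, hc.1, Subgroup.bot_subgroupOf]

theorem mem_stab_of_section (F : FusionSystem S) {m : ℕ} {c : ℕ → Subgroup Ω}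
    (hc : IsChain F m c) {P : Subgroup Ω} (hP : P ≤ S) (γ : MulAut P)
    (hγ : γ ∈ F.autGroup P)
    (hsec : ∀ j, ∀ y : P, (y : Ω) ∈ c (j + 1) → ((y⁻¹ * γ y : P) : Ω) ∈ c j) :
    γ ∈ ChainStab.chainStab (F.autGroup P) (Dch c m P) (Dch_inv F hc hP) := by
  refine ⟨hγ, fun i x hx => ?_⟩
  have hx' : (x : Ω) ∈ c (m - i) := Subgroup.mem_subgroupOf.mp hx
  show x⁻¹ * γ x ∈ (c (m - (i + 1))).subgroupOf P
  rw [Subgroup.mem_subgroupOf]
  by_cases h : i < m
  · have e : m - i = (m - (i + 1)) + 1 := by omega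
    rw [e] at hx'
    exact hsec _ x hx'
  · have e : m - i = 0 := by omega
    rw [e, hc.1, Subgroup.mem_bot] at hx'
    have hx1 : x = 1 := Subtype.ext hx'
    rw [hx1, map_one, inv_one, mul_one]
    exact Subgroup.one_mem _

/-- A supersoluble saturated fusion system has `S` normal. -/
theorem normal_of_chain [Finite S] (p : ℕ) [Fact p.Prime] (hS : IsPGroup p S)
    (F : FusionSystem S) (hF : F.IsSaturated p) {m : ℕ} {c : ℕ → Subgroup Ω}
    (hc : IsChain F m c) : F.IsNormal S := by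
  apply Cfsg.Agent.S5301.result p hS F hF
  intro P hfn _ _
  have hP : P ≤ S := hfn.1
  haveI : Finite P := FSSat.finite_of_le hP
  have hNp := ChainStab.chainStab_isPGroup (hS.to_le hP) (F.autGroup P) (Dch c m P)
    (Dch_inv F hc hP) (Dch_zero F hc hP) m (Dch_last F hc P)
  haveI : ((ChainStab.chainStab (F.autGroup P) (Dch c m P) (Dch_inv F hc hP)).subgroupOf
      (F.autGroup P)).Normal := by
    refine ⟨fun n hn g => ?_⟩
    rw [Subgroup.mem_subgroupOf] at hn ⊢
    exact ChainStab.chainStab_normal (F.autGroup P) (Dch c m P) (Dch_inv F hc hP) g g.2 n hn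
  have hN' : IsPGroup p ((ChainStab.chainStab (F.autGroup P) (Dch c m P)
      (Dch_inv F hc hP)).subgroupOf (F.autGroup P)) :=
    hNp.comap_of_injective _ (Subgroup.subtype_injective _)
  have hcomm : ∀ a b : F.autGroup P, a * b * a⁻¹ * b⁻¹ ∈
      (ChainStab.chainStab (F.autGroup P) (Dch c m P) (Dch_inv F hc hP)).subgroupOf
        (F.autGroup P) := by
    intro a b
    rw [Subgroup.mem_subgroupOf]
    exact mem_stab_of_section F hc hP _
      (Subgroup.mul_mem _ (Subgroup.mul_mem _ (Subgroup.mul_mem _ a.2 b.2)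
        (Subgroup.inv_mem _ a.2)) (Subgroup.inv_mem _ b.2))
      (fun j y hy => comm_section F hc hP a b a.2 b.2 j y hy)
  obtain ⟨R⟩ := (Sylow.nonempty : Nonempty (Sylow p (F.autGroup P)))
  exact ⟨R, CyclicSec.sylow_normal_of_comm _ hN' hcomm R⟩

/-- If every saturated system over `S` is supersoluble, the `p'`-subgroups of `Aut(S)` are abelian
of exponent dividing `p - 1`. -/
theorem aut_props [Finite S] (p : ℕ) [Fact p.Prime] (hS : IsPGroup p S)
    (hall : ∀ F : FusionSystem S, F.IsSaturated p →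
      ∃ (m : ℕ) (c : ℕ → Subgroup Ω), IsChain F m c)
    (H : Subgroup (MulAut S)) (hH : (Nat.card H).Coprime p) :
    (∀ a ∈ H, ∀ b ∈ H, a * b = b * a) ∧ ∀ h ∈ H, h ^ (p - 1) = 1 := by
  have hK : (MulAut.conj : S →* MulAut S).range ≤ (MulAut.conj : S →* MulAut S).range ⊔ H :=
    le_sup_left
  have hidx : ((MulAut.conj : S →* MulAut S).range.relIndex
      ((MulAut.conj : S →* MulAut S).range ⊔ H)).Coprime p :=
    Nat.Coprime.coprime_dvd_left (AutSys.relIndex_sup_dvd H) hH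
  have hsat := AutSys.autSys_isSaturated p hS _ hK hidx
  obtain ⟨m, c, hc⟩ := hall _ hsat
  have hA := AutSys.autGroup_autSys_self ((MulAut.conj : S →* MulAut S).range ⊔ H) hK
  have hHA : ∀ h ∈ H, h ∈ (AutSys.autSys ((MulAut.conj : S →* MulAut S).range ⊔ H) hK).autGroup S := by
    intro h hh
    rw [hA]
    exact Subgroup.mem_sup_right hh
  have hNp := ChainStab.chainStab_isPGroup hS
    ((AutSys.autSys ((MulAut.conj : S →* MulAut S).range ⊔ H) hK).autGroup S) (Dch c m S)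
    (Dch_inv _ hc le_rfl) (Dch_zero _ hc le_rfl) m (Dch_last _ hc S)
  have htriv : ∀ γ ∈ H, γ ∈ ChainStab.chainStab
      ((AutSys.autSys ((MulAut.conj : S →* MulAut S).range ⊔ H) hK).autGroup S) (Dch c m S)
      (Dch_inv _ hc le_rfl) → γ = 1 := by
    intro γ hγH hγN
    obtain ⟨k, hk⟩ := hNp ⟨γ, hγN⟩
    have hk' : γ ^ p ^ k = 1 := congrArg Subtype.val hk
    have h2 : γ ^ Nat.card H = 1 := by
      have := pow_card_eq_one' (G := H) (x := ⟨γ, hγH⟩)
      exact congrArg Subtype.val this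
    exact CyclicSec.eq_one_of_pow_of_coprime γ k (Nat.card H) hH hk' h2
  have hpowH : ∀ h ∈ H, h ^ Nat.card H = 1 := by
    intro h hh
    have := pow_card_eq_one' (G := H) (x := ⟨h, hh⟩)
    exact congrArg Subtype.val this
  refine ⟨fun a ha b hb => ?_, fun h hh => ?_⟩
  · have h1 : a * b * a⁻¹ * b⁻¹ = 1 := by
      apply htriv _ (H.mul_mem (H.mul_mem (H.mul_mem ha hb) (H.inv_mem ha)) (H.inv_mem hb))
      exact mem_stab_of_section _ hc le_rfl _
        (Subgroup.mul_mem _ (Subgroup.mul_mem _ (Subgroup.mul_mem _ (hHA a ha) (hHA b hb))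
          (Subgroup.inv_mem _ (hHA a ha))) (Subgroup.inv_mem _ (hHA b hb)))
        (fun j y hy => comm_section _ hc le_rfl a b (hHA a ha) (hHA b hb) j y hy)
    calc a * b = (a * b * a⁻¹ * b⁻¹) * (b * a) := by group
      _ = b * a := by rw [h1, one_mul]
  · apply htriv _ (H.pow_mem hh _)
    exact mem_stab_of_section _ hc le_rfl _ (Subgroup.pow_mem _ (hHA h hh) _)
      (fun j y hy => pow_section p hS _ hc le_rfl h (hHA h hh) (Nat.card H) hH (hpowH h hh) j y hy)

/-- When `S` is normal in `F`, the `Aut_F(S)`-invariant subgroups are strongly closed. -/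
theorem stronglyClosed_of_invariant [Finite S] (F : FusionSystem S) (hn : F.IsNormal S)
    (C : Subgroup S) (hC : ∀ α ∈ F.autGroup S, ∀ x ∈ C, α x ∈ C) :
    F.StronglyClosed (C.map S.subtype) := by
  refine ⟨Subgroup.map_subtype_le C, fun R hR φ hφ x => ?_⟩
  obtain ⟨ψ, hψ, hext, -⟩ := hn.2 R φ hφ
  have hf : ψ.comp (Subgroup.inclusion (le_sup_right : S ≤ R ⊔ S)) ∈ F.Hom S :=
    FSBasic.restrict_mem F hψ le_sup_right
  have hfr := FSBase.range_eq_of_finite F hf (fun y => (F.le_of_mem hf).2 y)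
  have hα := FSBasic.autOfMap_mem F hf hfr
  obtain ⟨y, hy, hyx⟩ := hR x.2
  have h1 := hC _ hα y hy
  refine ⟨_, h1, ?_⟩
  rw [← hext x]
  show ψ (Subgroup.inclusion le_sup_right y) = ψ (Subgroup.inclusion le_sup_left x)
  congr 1
  exact Subtype.ext hyx

/-- `Aut_F(S) = Inn(S) H` for a `p'`-subgroup `H`. -/
theorem exists_complement [Finite S] (p : ℕ) [Fact p.Prime] (hS : IsPGroup p S)
    (F : FusionSystem S) (hF : F.IsSaturated p) :
    ∃ H : Subgroup (MulAut S), (Nat.card H).Coprime p ∧ H ≤ F.autGroup S ∧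
      ∀ a ∈ F.autGroup S, ∃ s : S, ∃ h ∈ H, a = MulAut.conj s * h := by
  have hp : p.Prime := Fact.out
  haveI : Finite (normalizerIn S S) := FSSat.finite_of_le inf_le_left
  have hfn : F.IsFullyNormalized S := by
    refine ⟨le_rfl, fun Q _ => ?_⟩
    have hle : normalizerIn S Q ≤ normalizerIn S S := by
      intro g hg
      exact ⟨hg.1, Subgroup.le_normalizer hg.1⟩
    exact Nat.card_le_card_of_injective (Subgroup.inclusion hle) (Subgroup.inclusion_injective hle)
  obtain ⟨-, R, hR⟩ := Cfsg.Agent.H84.fullyAutomized_of_fn hS F hF hfn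
  haveI hRn : (R : Subgroup (F.autGroup S)).Normal := by
    rw [hR]
    refine ⟨fun n hn g => ?_⟩
    rw [Subgroup.mem_subgroupOf] at hn ⊢
    rw [FSBasic.mem_autInducedBy_iff] at hn ⊢
    obtain ⟨t, ht, hnt⟩ := hn
    refine ⟨((g : MulAut S) ⟨t, ht⟩ : S), ((g : MulAut S) ⟨t, ht⟩).2, fun x => ?_⟩
    show (((g : MulAut S) ((n : MulAut S) ((g : MulAut S)⁻¹ x)) : S) : Ω) = _
    have e : (n : MulAut S) ((g : MulAut S)⁻¹ x) =
        ⟨t, ht⟩ * ((g : MulAut S)⁻¹ x) * (⟨t, ht⟩ : S)⁻¹ := Subtype.ext (hnt _)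
    rw [e, map_mul, map_mul, map_inv, MulAut.apply_inv_self]
    rfl
  have hcop : (Nat.card (R : Subgroup (F.autGroup S))).Coprime
      (R : Subgroup (F.autGroup S)).index := Sylow.card_coprime_index R
  obtain ⟨H₀, hcompl⟩ := Subgroup.exists_right_complement'_of_coprime hcop
  refine ⟨H₀.map (F.autGroup S).subtype, ?_, ?_, ?_⟩
  · rw [Subgroup.card_map_of_injective (Subgroup.subtype_injective _),
      ← hcompl.symm.index_eq_card]
    exact ((Nat.Prime.coprime_iff_not_dvd hp).mpr (Sylow.not_dvd_index R)).symm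
  · rintro _ ⟨h, -, rfl⟩
    exact h.2
  · intro a ha
    obtain ⟨⟨n, h⟩, e⟩ := hcompl.2 ⟨a, ha⟩
    have hn : (n : F.autGroup S) ∈ (autInducedBy S S).subgroupOf (F.autGroup S) := hR ▸ n.2
    rw [Subgroup.mem_subgroupOf, FSBasic.mem_autInducedBy_iff] at hn
    obtain ⟨t, ht, hnt⟩ := hn
    refine ⟨⟨t, ht⟩, ((h : F.autGroup S) : MulAut S), ⟨h, h.2, rfl⟩, ?_⟩
    have e2 : ((n : F.autGroup S) : MulAut S) = MulAut.conj ⟨t, ht⟩ := by
      ext x
      exact hnt x
    rw [← e2]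
    exact (congrArg Subtype.val e).symm

/-- The extension step: an invariant proper subgroup can be enlarged by one element. -/
theorem exists_step [Finite S] (p : ℕ) [Fact p.Prime] (hS : IsPGroup p S)
    (A H : Subgroup (MulAut S)) (hInn : (MulAut.conj : S →* MulAut S).range ≤ A) (hHA : H ≤ A)
    (hdec : ∀ a ∈ A, ∃ s : S, ∃ h ∈ H, a = MulAut.conj s * h)
    (hHc : ∀ a ∈ H, ∀ b ∈ H, a * b = b * a) (hHe : ∀ h ∈ H, h ^ (p - 1) = 1)
    (C : Subgroup S) (hC : ∀ a ∈ A, ∀ x ∈ C, a x ∈ C) (hne : C ≠ ⊤) :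
    ∃ x : S, x ∉ C ∧
      ∀ a ∈ A, ∀ y ∈ C ⊔ Subgroup.zpowers x, a y ∈ C ⊔ Subgroup.zpowers x := by
  have hp : p.Prime := Fact.out
  haveI : C.Normal := ⟨fun n hn g => hC (MulAut.conj g) (hInn ⟨g, rfl⟩) n hn⟩
  haveI : Nontrivial (S ⧸ C) := QuotientGroup.nontrivial_iff.mpr hne
  have hQp : IsPGroup p (S ⧸ C) := hS.to_quotient C
  haveI : Nontrivial (Subgroup.center (S ⧸ C)) := hQp.center_nontrivial
  have hCle : ∀ h : H, C ≤ C.comap (h : MulAut S).toMonoidHom :=
    fun h x hx => hC _ (hHA h.2) x hx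
  obtain ⟨qm, hqm⟩ : ∃ qm : H → (S ⧸ C →* S ⧸ C), ∀ (h : H) (s : S),
      qm h (QuotientGroup.mk s) = QuotientGroup.mk ((h : MulAut S) s) :=
    ⟨fun h => QuotientGroup.map C C (h : MulAut S).toMonoidHom (hCle h), fun h s => rfl⟩
  have hqm_mul : ∀ (h h' : H) (q : S ⧸ C), qm (h * h') q = qm h (qm h' q) := by
    intro h h' q
    induction q using QuotientGroup.induction_on with
    | H s => rw [hqm, hqm, hqm]; rfl
  have hqm_one : ∀ q : S ⧸ C, qm 1 q = q := by
    intro q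
    induction q using QuotientGroup.induction_on with
    | H s => rw [hqm]; rfl
  have hqm_center : ∀ (h : H) (z : S ⧸ C), z ∈ Subgroup.center (S ⧸ C) →
      qm h z ∈ Subgroup.center (S ⧸ C) := by
    intro h z hz
    rw [Subgroup.mem_center_iff] at hz ⊢
    intro g
    have e : g = qm h (qm h⁻¹ g) := by rw [← hqm_mul, mul_inv_cancel, hqm_one]
    rw [e, ← map_mul, ← map_mul, hz]
  -- the elements of order dividing p in the centre
  obtain ⟨V, hV⟩ : ∃ V : Subgroup (Subgroup.center (S ⧸ C)),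
      ∀ z : Subgroup.center (S ⧸ C), z ∈ V ↔ z ^ p = 1 :=
    ⟨{ carrier := {z | z ^ p = 1}
       one_mem' := one_pow p
       mul_mem' := fun {a b} ha hb => by
         have hab : Commute a b := Subtype.ext (Subgroup.mem_center_iff.mp b.2 a.1)
         show (a * b) ^ p = 1
         rw [hab.mul_pow, ha, hb, one_mul]
       inv_mem' := fun {a} ha => by
         show a⁻¹ ^ p = 1
         rw [inv_pow, ha, inv_one] }, fun z => Iff.rfl⟩
  haveI : Nontrivial V := by
    have hZp : IsPGroup p (Subgroup.center (S ⧸ C)) := hQp.to_subgroup _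
    have hdvd : p ∣ Nat.card (Subgroup.center (S ⧸ C)) := by
      rcases hZp.card_eq_or_dvd with h | h
      · exfalso
        have := (Finite.one_lt_card_iff_nontrivial (α := Subgroup.center (S ⧸ C))).mpr inferInstance
        omega
      · exact h
    obtain ⟨z, hz⟩ := exists_prime_orderOf_dvd_card' p hdvd
    have hzV : z ∈ V := by
      rw [hV, ← hz]
      exact pow_orderOf_eq_one z
    refine ⟨⟨⟨z, hzV⟩, 1, fun h => ?_⟩⟩
    have h1 : z = 1 := congrArg Subtype.val h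
    rw [h1, orderOf_one] at hz
    exact hp.one_lt.ne' hz.symm
  have hW : ∀ w : V, w ^ p = 1 := fun w => Subtype.ext ((hV w).mp w.2)
  have hf1 : ∀ (h : H) (v : V), ∃ v' : V,
      ((v' : Subgroup.center (S ⧸ C)) : S ⧸ C) = qm h ((v : Subgroup.center (S ⧸ C)) : S ⧸ C) := by
    intro h v
    have hz : (⟨qm h ((v : Subgroup.center (S ⧸ C)) : S ⧸ C),
        hqm_center h _ (v : Subgroup.center (S ⧸ C)).2⟩ : Subgroup.center (S ⧸ C)) ∈ V := by
      rw [hV]
      apply Subtype.ext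
      show (qm h ((v : Subgroup.center (S ⧸ C)) : S ⧸ C)) ^ p = 1
      rw [← map_pow]
      have h2 : (((v : Subgroup.center (S ⧸ C)) : S ⧸ C)) ^ p = 1 :=
        congrArg Subtype.val ((hV v).mp v.2)
      rw [h2, map_one]
    exact ⟨⟨_, hz⟩, rfl⟩
  choose f2 hf2 using hf1
  have hf2inj : ∀ v v' : V,
      ((v : Subgroup.center (S ⧸ C)) : S ⧸ C) = ((v' : Subgroup.center (S ⧸ C)) : S ⧸ C) → v = v' :=
    fun v v' h => Subtype.ext (Subtype.ext h)
  let ρ : H →* Monoid.End V :=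
    { toFun := fun h =>
        { toFun := f2 h
          map_one' := by
            apply hf2inj
            rw [hf2]
            exact map_one _
          map_mul' := by
            intro v v'
            apply hf2inj
            rw [hf2]
            show qm h (((v : Subgroup.center (S ⧸ C)) : S ⧸ C) * ((v' : Subgroup.center (S ⧸ C)) : S ⧸ C)) =
              ((f2 h v : Subgroup.center (S ⧸ C)) : S ⧸ C) * ((f2 h v' : Subgroup.center (S ⧸ C)) : S ⧸ C)
            rw [map_mul, hf2, hf2] }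
      map_one' := by
        refine MonoidHom.ext fun v => ?_
        apply hf2inj
        show ((f2 1 v : Subgroup.center (S ⧸ C)) : S ⧸ C) = _
        rw [hf2, hqm_one]
        rfl
      map_mul' := by
        intro h h'
        refine MonoidHom.ext fun v => ?_
        apply hf2inj
        show ((f2 (h * h') v : Subgroup.center (S ⧸ C)) : S ⧸ C) =
          ((f2 h (f2 h' v) : Subgroup.center (S ⧸ C)) : S ⧸ C)
        rw [hf2, hf2, hf2, hqm_mul] }
  have hρ : ∀ (h : H) (v : V), ρ h v = f2 h v := fun h v => rfl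
  obtain ⟨w, hw1, hw⟩ := CyclicSec.exists_common_eigen' (W := V) (H := H) p
    (fun a b => Subtype.ext (Subtype.ext
      (Subgroup.mem_center_iff.mp (b : Subgroup.center (S ⧸ C)).2 (a : Subgroup.center (S ⧸ C)).1)))
    hW ρ
    (fun a b => Subtype.ext (hHc a a.2 b b.2)) (fun a => Subtype.ext (hHe a a.2))
  obtain ⟨x, hx⟩ := QuotientGroup.mk_surjective ((w : Subgroup.center (S ⧸ C)) : S ⧸ C)
  refine ⟨x, ?_, ?_⟩
  · intro hxC
    apply hw1
    apply hf2inj
    show ((w : Subgroup.center (S ⧸ C)) : S ⧸ C) = 1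
    rw [← hx]
    exact (QuotientGroup.eq_one_iff x).mpr hxC
  · intro a ha
    obtain ⟨s, h, hh, rfl⟩ := hdec a ha
    obtain ⟨k, hk⟩ := hw ⟨h, hh⟩
    have hk' : (QuotientGroup.mk (h x) : S ⧸ C) = (QuotientGroup.mk x : S ⧸ C) ^ k := by
      have h3 := congrArg (fun v : V => ((v : Subgroup.center (S ⧸ C)) : S ⧸ C)) hk
      have h4 : ((ρ ⟨h, hh⟩ w : V) : Subgroup.center (S ⧸ C)).1 =
          qm ⟨h, hh⟩ ((w : Subgroup.center (S ⧸ C)) : S ⧸ C) := by rw [hρ, hf2]
      have h5 : (((w ^ k : V) : Subgroup.center (S ⧸ C)) : S ⧸ C) =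
          ((w : Subgroup.center (S ⧸ C)) : S ⧸ C) ^ k := rfl
      have h6 : qm ⟨h, hh⟩ ((w : Subgroup.center (S ⧸ C)) : S ⧸ C) =
          ((w : Subgroup.center (S ⧸ C)) : S ⧸ C) ^ k := h4.symm.trans (h3.trans h5)
      rw [← hx, hqm] at h6
      exact h6
    have hcen : ∀ g : S ⧸ C, g * QuotientGroup.mk x = QuotientGroup.mk x * g := by
      rw [hx]
      exact Subgroup.mem_center_iff.mp (w : Subgroup.center (S ⧸ C)).2
    have hax : (QuotientGroup.mk ((MulAut.conj s * h) x) : S ⧸ C) =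
        (QuotientGroup.mk x : S ⧸ C) ^ k := by
      show (QuotientGroup.mk (s * h x * s⁻¹) : S ⧸ C) = _
      rw [QuotientGroup.mk_mul, QuotientGroup.mk_mul, QuotientGroup.mk_inv, hk']
      have hc2 : (QuotientGroup.mk s : S ⧸ C) * (QuotientGroup.mk x : S ⧸ C) ^ k =
          (QuotientGroup.mk x : S ⧸ C) ^ k * QuotientGroup.mk s :=
        (Commute.pow_right (hcen _) k).eq
      rw [hc2, mul_inv_cancel_right]
    have hmem : (MulAut.conj s * h) x ∈ C ⊔ Subgroup.zpowers x := by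
      have h3 : (x ^ k)⁻¹ * (MulAut.conj s * h) x ∈ C := by
        rw [← QuotientGroup.eq, QuotientGroup.mk_pow]
        exact hax.symm
      have e : (MulAut.conj s * h) x = x ^ k * ((x ^ k)⁻¹ * (MulAut.conj s * h) x) := by group
      rw [e]
      exact Subgroup.mul_mem _
        (Subgroup.mem_sup_right (Subgroup.pow_mem _ (Subgroup.mem_zpowers x) k))
        (Subgroup.mem_sup_left h3)
    have hle : C ⊔ Subgroup.zpowers x ≤
        (C ⊔ Subgroup.zpowers x).comap (MulAut.conj s * h).toMonoidHom := by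
      apply sup_le
      · intro c hc
        exact Subgroup.mem_sup_left (hC _ ha c hc)
      · rw [Subgroup.zpowers_le]
        exact hmem
    exact fun y hy => hle hy

/-- Iterating the extension step gives a chain with cyclic steps. -/
theorem exists_chain_from [Finite S] (A : Subgroup (MulAut S))
    (hstep : ∀ C : Subgroup S, (∀ a ∈ A, ∀ x ∈ C, a x ∈ C) → C ≠ ⊤ →
      ∃ x : S, x ∉ C ∧
        ∀ a ∈ A, ∀ y ∈ C ⊔ Subgroup.zpowers x, a y ∈ C ⊔ Subgroup.zpowers x) :
    ∀ n : ℕ, ∀ C : Subgroup S, Nat.card S - Nat.card C = n → (∀ a ∈ A, ∀ x ∈ C, a x ∈ C) →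
      ∃ (m : ℕ) (c : Fin (m + 1) → Subgroup S), c 0 = C ∧ c (Fin.last m) = ⊤ ∧
        (∀ i, ∀ a ∈ A, ∀ x ∈ c i, a x ∈ c i) ∧
        ∀ i : Fin m, c i.castSucc ≤ c i.succ ∧
          ∃ x : S, c i.succ = c i.castSucc ⊔ Subgroup.zpowers x := by
  intro n
  induction n using Nat.strong_induction_on with
  | _ n ih =>
    intro C hn hC
    by_cases hCt : C = ⊤
    · exact ⟨0, fun _ => ⊤, hCt.symm, rfl, fun _ a ha x _ => Subgroup.mem_top _,
        fun i => i.elim0⟩
    · obtain ⟨x, hx, hinv⟩ := hstep C hC hCt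
      have hlt : Nat.card C < Nat.card (C ⊔ Subgroup.zpowers x : Subgroup S) := by
        have hss : (C : Set S) ⊂ ((C ⊔ Subgroup.zpowers x : Subgroup S) : Set S) := by
          refine ⟨fun y hy => (le_sup_left : C ≤ C ⊔ Subgroup.zpowers x) hy, fun hle => hx ?_⟩
          exact hle ((le_sup_right : Subgroup.zpowers x ≤ C ⊔ Subgroup.zpowers x)
            (Subgroup.mem_zpowers x))
        have h1 : Nat.card C = (C : Set S).ncard := Nat.card_coe_set_eq _
        have h2 : Nat.card (C ⊔ Subgroup.zpowers x : Subgroup S) =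
            ((C ⊔ Subgroup.zpowers x : Subgroup S) : Set S).ncard := Nat.card_coe_set_eq _
        rw [h1, h2]
        exact Set.ncard_lt_ncard hss (Set.toFinite _)
      have hle : Nat.card (C ⊔ Subgroup.zpowers x : Subgroup S) ≤ Nat.card S :=
        Subgroup.card_le_card_group _
      obtain ⟨m, c, h0, hl, hi, hs⟩ :=
        ih (Nat.card S - Nat.card (C ⊔ Subgroup.zpowers x : Subgroup S)) (by omega) _ rfl hinv
      refine ⟨m + 1, (Fin.cons C c : Fin (m + 1 + 1) → Subgroup S), ?_, ?_, ?_, ?_⟩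
      · rfl
      · rw [← Fin.succ_last, Fin.cons_succ]
        exact hl
      · intro i
        refine Fin.cases ?_ (fun j => ?_) i
        · exact hC
        · rw [Fin.cons_succ]
          exact hi j
      · intro i
        refine Fin.cases ?_ (fun j => ?_) i
        · have e1 : (Fin.cons C c : Fin (m + 1 + 1) → Subgroup S) (0 : Fin (m + 1)).castSucc = C :=
            rfl
          have e2 : (Fin.cons C c : Fin (m + 1 + 1) → Subgroup S) (0 : Fin (m + 1)).succ = c 0 :=
            Fin.cons_succ _ _ _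
          rw [e1, e2, h0]
          exact ⟨le_sup_left, x, rfl⟩
        · have e1 : (Fin.cons C c : Fin (m + 1 + 1) → Subgroup S) j.succ.castSucc =
              c j.castSucc := by
            rw [Fin.castSucc_succ, Fin.cons_succ]
          have e2 : (Fin.cons C c : Fin (m + 1 + 1) → Subgroup S) j.succ.succ = c j.succ :=
            Fin.cons_succ _ _ _
          rw [e1, e2]
          exact hs j

end Aux

/-- Call a saturated fusion system F over a finite p-group S supersoluble when S has a chain of subgroups 1 = S_0 ≤ S_1 ≤ … ≤ S_m = S, each strongly closed in F, with each S_{i+1} generated by S_i together with one further element (cyclic steps). Then every saturated fusion system over S is supersoluble if and only if S is normal in every saturated fusion system over S (S is resistant) and every subgroup of Aut(S) of order prime to p is abelian of exponent dividing p − 1. -/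
theorem result {Ω : Type*} [Group Ω] {S : Subgroup Ω} [Finite S] (p : ℕ) [Fact p.Prime] (hS : IsPGroup p ↥S) : (∀ F : Cfsg.FusionSystem S, F.IsSaturated p → (∃ (m : ℕ) (c : Fin (m + 1) → Subgroup Ω), c 0 = ⊥ ∧ c (Fin.last m) = S ∧ (∀ i : Fin (m + 1), F.StronglyClosed (c i)) ∧ ∀ i : Fin m, c i.castSucc ≤ c i.succ ∧ ∃ x ∈ S, c i.succ = c i.castSucc ⊔ Subgroup.zpowers x)) ↔ (∀ F : Cfsg.FusionSystem S, F.IsSaturated p → F.IsNormal S) ∧ ∀ H : Subgroup (MulAut ↥S), (Nat.card ↥H).Coprime p → IsMulCommutative ↥H ∧ ∀ h ∈ H, h ^ (p - 1) = 1 := by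
  constructor
  · intro hall
    have hall' : ∀ F : Cfsg.FusionSystem S, F.IsSaturated p →
        ∃ (m : ℕ) (c : ℕ → Subgroup Ω), Cfsg.Agent.S5283.IsChain F m c :=
      fun F hF => Cfsg.Agent.S5283.exists_nat_chain F (hall F hF)
    refine ⟨fun F hF => ?_, fun H hH => ?_⟩
    · obtain ⟨m, c, hc⟩ := hall' F hF
      exact Cfsg.Agent.S5283.normal_of_chain p hS F hF hc
    · obtain ⟨h1, h2⟩ := Cfsg.Agent.S5283.aut_props p hS hall' H hH
      exact ⟨⟨⟨fun a b => Subtype.ext (h1 a a.2 b b.2)⟩⟩, h2⟩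
  · rintro ⟨hres, hH⟩ F hF
    have hn := hres F hF
    obtain ⟨H, hcop, hHA, hdec⟩ := Cfsg.Agent.S5283.exists_complement p hS F hF
    obtain ⟨hHcomm, hHexp⟩ := hH H hcop
    have hInn : (MulAut.conj : S →* MulAut S).range ≤ F.autGroup S := by
      rintro _ ⟨x, rfl⟩
      rw [Cfsg.Agent.Lib.Helper87.FSBasic.mem_autGroup_iff F le_rfl]
      exact Cfsg.Agent.Lib.Helper87.FSBasic.mem_of_eq F (F.conj_mem le_rfl x.2) (fun y => rfl)
    have hHc : ∀ a ∈ H, ∀ b ∈ H, a * b = b * a := fun a ha b hb => by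
      have := hHcomm.is_comm.comm ⟨a, ha⟩ ⟨b, hb⟩
      exact congrArg Subtype.val this
    obtain ⟨m, c, h0, hl, hi, hs⟩ := Cfsg.Agent.S5283.exists_chain_from (F.autGroup S)
      (fun C hC hne => Cfsg.Agent.S5283.exists_step p hS (F.autGroup S) H hInn hHA hdec hHc hHexp
        C hC hne)
      _ ⊥ rfl (fun a _ x hx => by
        rw [Subgroup.mem_bot] at hx ⊢
        rw [hx, map_one])
    refine ⟨m, fun i => (c i).map S.subtype, ?_, ?_, ?_, ?_⟩
    · show (c 0).map S.subtype = ⊥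
      rw [h0, Subgroup.map_bot]
    · show (c (Fin.last m)).map S.subtype = S
      rw [hl, ← MonoidHom.range_eq_map, Subgroup.range_subtype]
    · intro i
      exact Cfsg.Agent.S5283.stronglyClosed_of_invariant F hn (c i) (hi i)
    · intro i
      obtain ⟨hle, x, hx⟩ := hs i
      refine ⟨Subgroup.map_mono hle, x, x.2, ?_⟩
      show (c i.succ).map S.subtype = (c i.castSucc).map S.subtype ⊔ Subgroup.zpowers (x : Ω)
      rw [hx, Subgroup.map_sup, MonoidHom.map_zpowers]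
      rfl

end Cfsg.Agent.S5283
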