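import Cfsg.Statements.S1896
import Cfsg.Agent.S4189
import Cfsg.Agent.Lib.Helper64.MetaB

set_option autoImplicit false
open Cfsg
open scoped commutatorElement

namespace Cfsg.Agent.S1896

/-- The automorphism `β` leaves no subgroup of index two invariant. -/
def NoInv {X : Type*} [Group X] (β : MulAut X) : Prop :=
  ∀ M : Subgroup X, M.index = 2 → (∀ x, β x ∈ M ↔ x ∈ M) → False

theorem isCoatom_of_index_two {X : Type*} [Group X] [Finite X] (M : Subgroup X)
    (h : M.index = 2) : IsCoatom M := by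
  refine ⟨?_, ?_⟩
  · rintro rfl; simp at h
  · intro K hK
    have h1 := Subgroup.relIndex_mul_index hK.le
    rw [h] at h1
    have h2 : M.relIndex K ≠ 1 := by
      intro h3
      exact (not_le_of_gt hK) (Subgroup.relIndex_eq_one.1 h3)
    have h3 : K.index = 1 := by
      have hdv : M.relIndex K ∣ 2 := ⟨_, h1.symm⟩
      rcases (Nat.dvd_prime Nat.prime_two).1 hdv with h4 | h4
      · exact absurd h4 h2
      · rw [h4] at h1; omega
    exact Subgroup.index_eq_one.1 h3

theorem mul_inv_mem_of_relIndex_le_two {X : Type*} [Group X] (Φ M : Subgroup X)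
    (h : Φ.relIndex M ≤ 2) (h0 : Φ.relIndex M ≠ 0) {u v : X} (hu : u ∈ M) (hv : v ∈ M)
    (hu' : u ∉ Φ) (hv' : v ∉ Φ) : v * u⁻¹ ∈ Φ := by
  have h12 : Φ.relIndex M = 1 ∨ Φ.relIndex M = 2 := by omega
  rcases h12 with h1 | h2
  · exact absurd (Subgroup.relIndex_eq_one.1 h1 hu) hu'
  · have key := Subgroup.mul_mem_iff_of_index_two (H := Φ.subgroupOf M) h2
      (a := (⟨v, hv⟩ : M)) (b := (⟨u, hu⟩ : M)⁻¹)
    have h3 : ((⟨v, hv⟩ : M) * (⟨u, hu⟩ : M)⁻¹) ∈ Φ.subgroupOf M := by
      rw [key]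
      constructor
      · intro h4; exact absurd (Subgroup.mem_subgroupOf.1 h4) hv'
      · intro h4
        have := Subgroup.mem_subgroupOf.1 ((Subgroup.inv_mem_iff _).1 h4)
        exact absurd this hu'
    exact Subgroup.mem_subgroupOf.1 h3

theorem noInv_of_prime_order {X : Type*} [Group X] [Finite X] (hX : IsPGroup 2 X)
    (a b : X) (hgen : ∀ g : X, ∃ i j : ℕ, g = a ^ i * b ^ j)
    (β : MulAut X) (q : ℕ) (hq : q.Prime) (hq2 : q ≠ 2) (hβ : orderOf β = q) : NoInv β := by
  intro M hM hinv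
  have : Fact (Nat.Prime 2) := ⟨Nat.prime_two⟩
  have hΦM : frattini X ≤ M := frattini_le_coatom (isCoatom_of_index_two M hM)
  have hchar : ∀ (γ : MulAut X) (x : X), γ x ∈ frattini X ↔ x ∈ frattini X :=
    fun γ x => Cfsg.Agent.S4189.char_mem (frattini X) γ x
  -- index of the Frattini subgroup
  have hcard : Nat.card (X ⧸ frattini X) ≤ 4 := by
    let f : Fin 2 × Fin 2 → X ⧸ frattini X :=
      fun e => ((a ^ (e.1 : ℕ) * b ^ (e.2 : ℕ) : X) : X ⧸ frattini X)
    have hsq : ∀ x : X, ((x : X ⧸ frattini X)) ^ 2 = 1 := by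
      intro x
      rw [← QuotientGroup.mk_pow, QuotientGroup.eq_one_iff]
      exact Cfsg.Agent.Lib.Helper70.FrattiniQuot.pow_mem_frattini hX x
    have hf : Function.Surjective f := by
      intro x
      obtain ⟨g, rfl⟩ := QuotientGroup.mk_surjective x
      obtain ⟨i, j, rfl⟩ := hgen g
      refine ⟨(⟨i % 2, Nat.mod_lt _ (by norm_num)⟩, ⟨j % 2, Nat.mod_lt _ (by norm_num)⟩), ?_⟩
      show ((a ^ (i % 2) * b ^ (j % 2) : X) : X ⧸ frattini X) = ((a ^ i * b ^ j : X) : X ⧸ frattini X)
      rw [QuotientGroup.mk_mul, QuotientGroup.mk_mul, QuotientGroup.mk_pow, QuotientGroup.mk_pow,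
        QuotientGroup.mk_pow, QuotientGroup.mk_pow, ← pow_eq_pow_mod i (hsq a),
        ← pow_eq_pow_mod j (hsq b)]
    have := Nat.card_le_card_of_surjective f hf
    simpa using this
  have hidx : (frattini X).index ≤ 4 := by rw [Subgroup.index_eq_card]; exact hcard
  have hrel : (frattini X).relIndex M ≤ 2 := by
    have h1 := Subgroup.relIndex_mul_index hΦM
    rw [hM] at h1
    omega
  have hrel0 : (frattini X).relIndex M ≠ 0 := by
    intro h0
    have h1 := Subgroup.relIndex_mul_index hΦM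
    rw [h0, zero_mul] at h1
    exact Subgroup.index_ne_zero_of_finite h1.symm
  have hout : ∀ {x y : X}, x ∉ M → y ∉ M → x * y⁻¹ ∈ M := by
    intro x y hx hy
    rw [Subgroup.mul_mem_iff_of_index_two hM]
    constructor
    · intro h; exact absurd h hx
    · intro h; exact absurd ((Subgroup.inv_mem_iff _).1 h) hy
  -- two steps
  have htwo : ∀ y : X, y ∉ M → β (β y) * y⁻¹ ∈ frattini X := by
    intro y hy
    have hy1 : β y ∉ M := fun h => hy ((hinv y).1 h)
    have hy2 : β (β y) ∉ M := fun h => hy1 ((hinv _).1 h)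
    by_cases hc : β y * y⁻¹ ∈ frattini X
    · have h1 : β (β y * y⁻¹) ∈ frattini X := (hchar β _).2 hc
      have h2 := (frattini X).mul_mem h1 hc
      have h3 : β (β y * y⁻¹) * (β y * y⁻¹) = β (β y) * y⁻¹ := by
        rw [map_mul, map_inv]; group
      rwa [h3] at h2
    · by_contra hv
      have h1 := mul_inv_mem_of_relIndex_le_two (frattini X) M hrel hrel0 (hout hy1 hy)
        (hout hy2 hy) hc hv
      have h3 : β (β y) * y⁻¹ * (β y * y⁻¹)⁻¹ = β (β y * y⁻¹) := by
        rw [map_mul, map_inv]; group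
      rw [h3] at h1
      exact hc ((hchar β _).1 h1)
  have hpow : ∀ k : ℕ, ∀ y : X, y ∉ M → (β ^ (2 * k)) y * y⁻¹ ∈ frattini X := by
    intro k
    induction k with
    | zero => intro y _; simp
    | succ k ih =>
      intro y hy
      have hy1 : β y ∉ M := fun h => hy ((hinv y).1 h)
      have hy2 : β (β y) ∉ M := fun h => hy1 ((hinv _).1 h)
      have h1 := ih (β (β y)) hy2
      have h2 := htwo y hy
      have h3 := (frattini X).mul_mem h1 h2
      have h4 : (β ^ (2 * k)) (β (β y)) * (β (β y))⁻¹ * (β (β y) * y⁻¹)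
          = (β ^ (2 * (k + 1))) y * y⁻¹ := by
        have h5 : β ^ (2 * (k + 1)) = β ^ (2 * k) * (β * β) := by
          rw [mul_add, pow_add, mul_one, pow_two]
        rw [h5, MulAut.mul_apply, MulAut.mul_apply]; group
      rwa [h4] at h3
  have hodd : ∃ k : ℕ, q + 1 = 2 * k := by
    rcases hq.eq_two_or_odd with h | h
    · exact absurd h hq2
    · exact ⟨q / 2 + 1, by omega⟩
  obtain ⟨k, hk⟩ := hodd
  have hβk : β ^ (2 * k) = β := by
    rw [← hk, pow_succ, ← hβ, pow_orderOf_eq_one, one_mul]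
  have hone : ∀ y : X, y ∉ M → β y * y⁻¹ ∈ frattini X := by
    intro y hy
    have := hpow k y hy
    rwa [hβk] at this
  have hmem : β ∈ Cfsg.Agent.S4189.frattiniKer X := by
    intro x
    by_cases hx : x ∈ M
    · obtain ⟨y0, hy0⟩ : ∃ y0 : X, y0 ∉ M := by
        by_contra hno
        push_neg at hno
        have : M = ⊤ := eq_top_iff.2 (fun x _ => hno x)
        rw [this] at hM; simp at hM
      have hxy : x * y0 ∉ M := fun h => hy0 ((Subgroup.mul_mem_cancel_left M hx).1 h)
      have h1 := hone (x * y0) hxy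
      have h2 := hone y0 hy0
      have h3 : x * (β y0 * y0⁻¹)⁻¹ * x⁻¹ ∈ frattini X :=
        (inferInstance : (frattini X).Normal).conj_mem _ ((frattini X).inv_mem h2) x
      have h4 := (frattini X).mul_mem h1 h3
      have h5 : β (x * y0) * (x * y0)⁻¹ * (x * (β y0 * y0⁻¹)⁻¹ * x⁻¹) = β x * x⁻¹ := by
        rw [map_mul]; group
      rwa [h5] at h4
    · exact hone x hx
  have hp := Cfsg.Agent.S4189.isPGroup_frattiniKer hX
  obtain ⟨k', hk'⟩ := hp ⟨β, hmem⟩
  have hk'' : β ^ (2 ^ k') = 1 := by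
    have := congrArg Subtype.val hk'
    simpa using this
  have hdvd : q ∣ 2 ^ k' := hβ ▸ orderOf_dvd_of_pow_eq_one hk''
  have := (Nat.prime_dvd_prime_iff_eq hq Nat.prime_two).1 (hq.dvd_of_dvd_pow hdvd)
  exact hq2 this

theorem orderOf_not_lt {Y : Type*} [Group Y] [Finite Y] (hY : IsPGroup 2 Y) (β : MulAut Y)
    (hK : NoInv β) (a b : Y)
    (hgen : ∀ g : Y, ∃ i j : ℕ,
      Abelianization.of g = Abelianization.of a ^ i * Abelianization.of b ^ j) :
    ¬ orderOf (Abelianization.of a) < orderOf (Abelianization.of b) := by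
  intro hlt
  have : Fact (Nat.Prime 2) := ⟨Nat.prime_two⟩
  have hA : IsPGroup 2 (Abelianization Y) :=
    hY.of_surjective Abelianization.of (QuotientGroup.mk_surjective)
  obtain ⟨s, hs⟩ := IsPGroup.iff_orderOf.1 hA (Abelianization.of a)
  obtain ⟨t, ht⟩ := IsPGroup.iff_orderOf.1 hA (Abelianization.of b)
  rw [hs, ht] at hlt
  have hst : s < t := (Nat.pow_lt_pow_iff_right (by norm_num)).1 hlt
  obtain ⟨t', rfl⟩ : ∃ t', t = t' + 1 := ⟨t - 1, by omega⟩
  let ψ : Y →* Abelianization Y := (powMonoidHom (2 ^ t')).comp Abelianization.of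
  have hψ : ∀ y : Y, ψ y = Abelianization.of y ^ (2 ^ t') := fun y => rfl
  have hψa : ψ a = 1 := by
    rw [hψ, ← orderOf_dvd_iff_pow_eq_one, hs]
    exact pow_dvd_pow 2 (by omega)
  have hw1 : ψ b ≠ 1 := by
    rw [hψ, Ne, ← orderOf_dvd_iff_pow_eq_one, ht]
    intro h
    have := Nat.le_of_dvd (by positivity) h
    have h2 : 2 ^ t' < 2 ^ (t' + 1) := Nat.pow_lt_pow_right (by norm_num) (by omega)
    omega
  have hw2 : ψ b ^ 2 = 1 := by
    rw [hψ, ← pow_mul, ← pow_succ, ← ht, pow_orderOf_eq_one]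
  have hord : orderOf (ψ b) = 2 := orderOf_eq_prime hw2 hw1
  have hrange : ψ.range = Subgroup.zpowers (ψ b) := by
    apply le_antisymm
    · rintro _ ⟨g, rfl⟩
      obtain ⟨i, j, hij⟩ := hgen g
      have h1 : ψ g = ψ a ^ i * ψ b ^ j := by
        rw [hψ, hψ, hψ, hij, mul_pow, ← pow_mul, ← pow_mul, ← pow_mul, ← pow_mul,
          mul_comm i, mul_comm j]
      rw [h1, hψa, one_pow, one_mul]
      exact Subgroup.pow_mem _ (Subgroup.mem_zpowers _) _
    · rw [Subgroup.zpowers_le]
      exact ⟨b, rfl⟩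
  have hidx : ψ.ker.index = 2 := by
    rw [Subgroup.index_ker, hrange, Nat.card_zpowers, hord]
  refine hK ψ.ker hidx ?_
  intro x
  have hmem : ∀ y : Y, y ∈ ψ.ker ↔ y ^ (2 ^ t') ∈ commutator Y := by
    intro y
    rw [MonoidHom.mem_ker, hψ, ← map_pow, ← MonoidHom.mem_ker, Abelianization.ker_of]
  rw [hmem, hmem, ← map_pow]
  exact Cfsg.Agent.S4189.char_mem (commutator Y) β _

theorem orderOf_ab_eq {Y : Type*} [Group Y] [Finite Y] (hY : IsPGroup 2 Y) (β : MulAut Y)
    (hK : NoInv β) (a b : Y) (hgen : ∀ g : Y, ∃ i j : ℕ, g = a ^ i * b ^ j) :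
    orderOf (Abelianization.of a) = orderOf (Abelianization.of b) := by
  have h1 : ∀ g : Y, ∃ i j : ℕ,
      Abelianization.of g = Abelianization.of a ^ i * Abelianization.of b ^ j := by
    intro g
    obtain ⟨i, j, rfl⟩ := hgen g
    exact ⟨i, j, by rw [map_mul, map_pow, map_pow]⟩
  have h2 : ∀ g : Y, ∃ i j : ℕ,
      Abelianization.of g = Abelianization.of b ^ i * Abelianization.of a ^ j := by
    intro g
    obtain ⟨i, j, h⟩ := h1 g
    exact ⟨j, i, by rw [h, mul_comm]⟩
  have h3 := orderOf_not_lt hY β hK a b h1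
  have h4 := orderOf_not_lt hY β hK b a h2
  omega

theorem abelian_case {Y : Type*} [Group Y] [Finite Y] (hY : IsPGroup 2 Y) (β : MulAut Y)
    (hK : NoInv β) (hc : ∀ x y : Y, x * y = y * x) (a b : Y)
    (hgen : ∀ g : Y, ∃ i j : ℕ, g = a ^ i * b ^ j) :
    ∃ n : ℕ, Nonempty (Y ≃* Multiplicative (ZMod (2 ^ n)) × Multiplicative (ZMod (2 ^ n))) := by
  have : Fact (Nat.Prime 2) := ⟨Nat.prime_two⟩
  have hker : (Abelianization.of : Y →* Abelianization Y).ker = ⊥ := by
    rw [Abelianization.ker_of, commutator_def, eq_bot_iff, Subgroup.commutator_le]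
    intro g₁ _ g₂ _
    rw [Subgroup.mem_bot, commutatorElement_def, hc g₁ g₂]; group
  have hinj : Function.Injective (Abelianization.of : Y →* Abelianization Y) :=
    (MonoidHom.ker_eq_bot_iff _).1 hker
  have hordeq : ∀ a' b' : Y, (∀ g : Y, ∃ i j : ℕ, g = a' ^ i * b' ^ j) →
      orderOf a' = orderOf b' := by
    intro a' b' hg
    have := orderOf_ab_eq hY β hK a' b' hg
    rwa [orderOf_injective _ hinj, orderOf_injective _ hinj] at this
  obtain ⟨n, hn⟩ := IsPGroup.iff_orderOf.1 hY a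
  have hnb : orderOf b = 2 ^ n := by rw [← hordeq a b hgen, hn]
  -- trivial intersection
  have hdisj : ∀ w : Y, w ∈ Subgroup.zpowers a → w ∈ Subgroup.zpowers b → w = 1 := by
    rcases Nat.eq_zero_or_pos n with h0 | hpos
    · intro w hw _
      have ha1 : a = 1 := by
        rw [← orderOf_eq_one_iff, hn, h0, pow_zero]
      rw [ha1, Subgroup.zpowers_one_eq_bot, Subgroup.mem_bot] at hw
      exact hw
    · obtain ⟨m, rfl⟩ : ∃ m, n = m + 1 := ⟨n - 1, by omega⟩
      have hlt : 2 ^ m < 2 ^ (m + 1) := Nat.pow_lt_pow_right (by norm_num) (by omega)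
      have huv : a ^ (2 ^ m) ≠ b ^ (2 ^ m) := by
        intro huv
        have hg' : ∀ g : Y, ∃ i j : ℕ, g = (a * b⁻¹) ^ i * b ^ j := by
          intro g
          obtain ⟨i, j, rfl⟩ := hgen g
          refine ⟨i, i + j, ?_⟩
          rw [(show Commute a b⁻¹ from hc a b⁻¹).mul_pow, pow_add, inv_pow]; group
        have h1 := hordeq (a * b⁻¹) b hg'
        have h2 : (a * b⁻¹) ^ (2 ^ m) = 1 := by
          rw [(show Commute a b⁻¹ from hc a b⁻¹).mul_pow, huv, inv_pow, mul_inv_cancel]
        have h3 := orderOf_dvd_of_pow_eq_one h2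
        rw [h1, hnb] at h3
        have := Nat.le_of_dvd (by positivity) h3
        omega
      -- unique involution in a cyclic 2-group
      have hinv : ∀ (c : Y), orderOf c = 2 ^ (m + 1) → ∀ w : Y, w ∈ Subgroup.zpowers c →
          w ≠ 1 → w * w = 1 → w = c ^ (2 ^ m) := by
        intro c hcn w hw hw1 hw2
        have hfin : IsOfFinOrder c := isOfFinOrder_of_finite c
        obtain ⟨k, hk⟩ := (mem_powers_iff_mem_zpowers (x := c) (y := w)).2 hw
        have hk' : c ^ k = w := hk
        subst hk'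
        have h1 : c ^ (k * 2) = 1 := by rw [pow_mul, pow_two]; exact hw2
        have h2 := orderOf_dvd_of_pow_eq_one h1
        rw [hcn, pow_succ] at h2
        have h3 : 2 ^ m ∣ k := (Nat.mul_dvd_mul_iff_right (by norm_num)).1 h2
        obtain ⟨k', rfl⟩ := h3
        have hu2 : (c ^ (2 ^ m)) ^ 2 = 1 := by
          rw [← pow_mul, ← pow_succ, ← hcn, pow_orderOf_eq_one]
        rcases Nat.even_or_odd' k' with ⟨r, rfl | rfl⟩
        · exfalso; apply hw1
          rw [pow_mul, pow_mul, hu2, one_pow]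
        · rw [pow_mul, pow_add, pow_mul, hu2, one_pow, one_mul, pow_one]
      intro w hwa hwb
      by_contra hw1
      obtain ⟨k, hk⟩ := IsPGroup.iff_orderOf.1 hY w
      have hkpos : 0 < k := by
        rcases Nat.eq_zero_or_pos k with h0 | h0
        · rw [h0, pow_zero, orderOf_eq_one_iff] at hk; exact absurd hk hw1
        · exact h0
      obtain ⟨k', rfl⟩ : ∃ k', k = k' + 1 := ⟨k - 1, by omega⟩
      have hlt' : 2 ^ k' < 2 ^ (k' + 1) := Nat.pow_lt_pow_right (by norm_num) (by omega)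
      have hw'1 : w ^ (2 ^ k') ≠ 1 := by
        intro h
        have h3 := orderOf_dvd_of_pow_eq_one h
        rw [hk] at h3
        have := Nat.le_of_dvd (by positivity) h3
        omega
      have hw'2 : w ^ (2 ^ k') * w ^ (2 ^ k') = 1 := by
        rw [← pow_two, ← pow_mul, ← pow_succ, ← hk, pow_orderOf_eq_one]
      have e1 := hinv a hn _ (Subgroup.pow_mem _ hwa _) hw'1 hw'2
      have e2 := hinv b hnb _ (Subgroup.pow_mem _ hwb _) hw'1 hw'2
      exact huv (e1.symm.trans e2)
  -- the isomorphism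
  let φ : Subgroup.zpowers a × Subgroup.zpowers b →* Y :=
    MonoidHom.noncommCoprod (Subgroup.zpowers a).subtype (Subgroup.zpowers b).subtype
      (fun m n => hc _ _)
  have hφ : ∀ x : Subgroup.zpowers a × Subgroup.zpowers b, φ x = (x.1 : Y) * (x.2 : Y) :=
    fun x => rfl
  have hφinj : Function.Injective φ := by
    rw [injective_iff_map_eq_one]
    rintro ⟨x, y⟩ hxy
    rw [hφ] at hxy
    have h1 : (x : Y) = (y : Y)⁻¹ := eq_inv_of_mul_eq_one_left hxy
    have h2 : (x : Y) = 1 := hdisj _ x.2 (h1 ▸ (Subgroup.zpowers b).inv_mem y.2)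
    have h3 : (y : Y) = 1 := by rw [h2] at hxy; simpa using hxy
    exact Prod.ext (Subtype.ext h2) (Subtype.ext h3)
  have hφsurj : Function.Surjective φ := by
    intro g
    obtain ⟨i, j, rfl⟩ := hgen g
    exact ⟨(⟨a ^ i, Subgroup.pow_mem _ (Subgroup.mem_zpowers a) i⟩,
      ⟨b ^ j, Subgroup.pow_mem _ (Subgroup.mem_zpowers b) j⟩), rfl⟩
  have hcz : Nat.card (Multiplicative (ZMod (2 ^ n))) = 2 ^ n := by
    rw [Nat.card_congr Multiplicative.toAdd, Nat.card_zmod]
  let e1 : Subgroup.zpowers a ≃* Multiplicative (ZMod (2 ^ n)) :=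
    mulEquivOfCyclicCardEq (by rw [Nat.card_zpowers, hn, hcz])
  let e2 : Subgroup.zpowers b ≃* Multiplicative (ZMod (2 ^ n)) :=
    mulEquivOfCyclicCardEq (by rw [Nat.card_zpowers, hnb, hcz])
  exact ⟨n, ⟨(MulEquiv.ofBijective φ ⟨hφinj, hφsurj⟩).symm.trans (e1.prodCongr e2)⟩⟩

/-- The subgroup of squares of an abelian subgroup. -/
def sqSub {X : Type*} [Group X] (D : Subgroup X) (hD : ∀ x ∈ D, ∀ y ∈ D, x * y = y * x) :
    Subgroup X where
  carrier := {z | ∃ y ∈ D, z = y * y}
  one_mem' := ⟨1, D.one_mem, by simp⟩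
  mul_mem' := by
    rintro _ _ ⟨y, hy, rfl⟩ ⟨y', hy', rfl⟩
    refine ⟨y * y', D.mul_mem hy hy', ?_⟩
    have := hD y hy y' hy'
    calc y * y * (y' * y') = y * (y * y') * y' := by group
      _ = y * (y' * y) * y' := by rw [this]
      _ = y * y' * (y * y') := by group
  inv_mem' := by
    rintro _ ⟨y, hy, rfl⟩
    exact ⟨y⁻¹, D.inv_mem hy, by group⟩

theorem index_commutator {X : Type*} [Group X] [Finite X] (hX : IsPGroup 2 X) (β : MulAut X)
    (hK : NoInv β) (hna : ¬ ∀ x y : X, x * y = y * x)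
    (N0 : Subgroup X) (a b : X) (hN0 : ∀ n ∈ N0, ∃ i : ℕ, n = a ^ i)
    (hgen : ∀ g : X, ∃ i j : ℕ, g = a ^ i * b ^ j) (hcomm : ∀ x y : X, ⁅x, y⁆ ∈ N0) :
    (commutator X).index = 4 := by
  have : Fact (Nat.Prime 2) := ⟨Nat.prime_two⟩
  have : Group.IsNilpotent X := hX.isNilpotent
  have hDN : commutator X ≤ N0 := by
    rw [commutator_def, Subgroup.commutator_le]
    intro g₁ _ g₂ _
    exact hcomm g₁ g₂
  have hAp : IsPGroup 2 (Abelianization X) :=
    hX.of_surjective Abelianization.of (QuotientGroup.mk_surjective)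
  have hord := orderOf_ab_eq hX β hK a b hgen
  obtain ⟨n, hn⟩ := IsPGroup.iff_orderOf.1 hAp (Abelianization.of a)
  have hnb : orderOf (Abelianization.of b) = 2 ^ n := by rw [← hord, hn]
  have hmemD : ∀ (x : X) (k : ℕ), x ^ k ∈ commutator X ↔ orderOf (Abelianization.of x) ∣ k := by
    intro x k
    rw [← Abelianization.ker_of, MonoidHom.mem_ker, map_pow, orderOf_dvd_iff_pow_eq_one]
  have htop : commutator X ≠ ⊤ := by
    intro h
    have h1 : (⊤ : Subgroup X) ≤ ⁅(⊤ : Subgroup X), (⊤ : Subgroup X)⁆ := by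
      rw [← commutator_def, h]
    have h2 := Cfsg.Agent.S4189.eq_bot_of_le_commutator_top (⊤ : Subgroup X) h1
    apply hna
    intro x y
    have hx : x ∈ (⊥ : Subgroup X) := h2 ▸ Subgroup.mem_top x
    have hy : y ∈ (⊥ : Subgroup X) := h2 ▸ Subgroup.mem_top y
    rw [Subgroup.mem_bot.1 hx, Subgroup.mem_bot.1 hy]
  have hbot : commutator X ≠ ⊥ := by
    intro h
    apply hna
    intro x y
    have h1 : ⁅x, y⁆ ∈ commutator X := by
      rw [commutator_def]
      exact Subgroup.commutator_mem_commutator (Subgroup.mem_top x) (Subgroup.mem_top y)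
    rw [h, Subgroup.mem_bot, commutatorElement_eq_one_iff_mul_comm] at h1
    exact h1
  have hchar : ∀ x : X, β x ∈ commutator X ↔ x ∈ commutator X :=
    fun x => Cfsg.Agent.S4189.char_mem (commutator X) β x
  have hcharinv : ∀ x : X, β⁻¹ x ∈ commutator X ↔ x ∈ commutator X :=
    fun x => Cfsg.Agent.S4189.char_mem (commutator X) β⁻¹ x
  rcases Nat.lt_or_ge n 2 with hn2 | hn2
  · -- n ≤ 1
    have ha2 : Abelianization.of a ^ 2 = 1 := by
      rw [← orderOf_dvd_iff_pow_eq_one, hn]
      interval_cases n <;> norm_num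
    have hb2 : Abelianization.of b ^ 2 = 1 := by
      rw [← orderOf_dvd_iff_pow_eq_one, hnb]
      interval_cases n <;> norm_num
    have hcard : Nat.card (Abelianization X) ≤ 4 := by
      let f : Fin 2 × Fin 2 → Abelianization X :=
        fun e => Abelianization.of a ^ (e.1 : ℕ) * Abelianization.of b ^ (e.2 : ℕ)
      have hf : Function.Surjective f := by
        intro x
        obtain ⟨g, rfl⟩ := QuotientGroup.mk_surjective x
        obtain ⟨i, j, rfl⟩ := hgen g
        refine ⟨(⟨i % 2, Nat.mod_lt _ (by norm_num)⟩, ⟨j % 2, Nat.mod_lt _ (by norm_num)⟩), ?_⟩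
        show Abelianization.of a ^ (i % 2) * Abelianization.of b ^ (j % 2)
          = Abelianization.of (a ^ i * b ^ j)
        rw [map_mul, map_pow, map_pow, ← pow_eq_pow_mod i ha2, ← pow_eq_pow_mod j hb2]
      have := Nat.card_le_card_of_surjective f hf
      simpa using this
    have hidx : (commutator X).index ≤ 4 := by
      rw [Subgroup.index_eq_card]; exact hcard
    obtain ⟨N, hN⟩ := IsPGroup.iff_card.1 hX
    have hdvd : (commutator X).index ∣ 2 ^ N := hN ▸ Subgroup.index_dvd_card _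
    obtain ⟨e, -, he⟩ := (Nat.dvd_prime_pow Nat.prime_two).1 hdvd
    have he2 : e ≤ 2 := by
      by_contra h
      have : 2 ^ 3 ≤ 2 ^ e := Nat.pow_le_pow_right (by norm_num) (by omega)
      omega
    interval_cases e
    · exact absurd (Subgroup.index_eq_one.1 (by simpa using he)) htop
    · exact absurd hchar (fun h => hK (commutator X) (by simpa using he) h)
    · simpa using he
  · -- n ≥ 2 : impossible
    exfalso
    obtain ⟨n', rfl⟩ : ∃ n', n = n' + 2 := ⟨n - 2, by omega⟩
    set c : X := a ^ (2 ^ (n' + 2)) with hc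
    have hcD : c ∈ commutator X := (hmemD a _).2 (by rw [hn])
    have hDc : ∀ y ∈ commutator X, ∃ j : ℕ, y = c ^ j := by
      intro y hy
      obtain ⟨k, rfl⟩ := hN0 y (hDN hy)
      have h1 := (hmemD a k).1 hy
      rw [hn] at h1
      obtain ⟨j, rfl⟩ := h1
      exact ⟨j, by rw [hc, ← pow_mul]⟩
    have hDcomm : ∀ x ∈ commutator X, ∀ y ∈ commutator X, x * y = y * x := by
      intro x hx y hy
      obtain ⟨i, rfl⟩ := hDc x hx
      obtain ⟨j, rfl⟩ := hDc y hy
      rw [← pow_add, ← pow_add, add_comm]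
    set N : Subgroup X := sqSub (commutator X) hDcomm with hNdef
    have hNmem : ∀ z : X, z ∈ N ↔ ∃ y ∈ commutator X, z = y * y := fun z => Iff.rfl
    have hNn : N.Normal := by
      refine ⟨?_⟩
      rintro _ ⟨y, hy, rfl⟩ g
      refine ⟨g * y * g⁻¹, (inferInstance : (commutator X).Normal).conj_mem y hy g, by group⟩
    have hNβ : ∀ t : X, β t ∈ N ↔ t ∈ N := by
      intro t
      constructor
      · rintro ⟨y, hy, hty⟩
        refine ⟨β⁻¹ y, (hcharinv y).2 hy, ?_⟩
        have h1 : t = β⁻¹ (β t) := by simp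
        rw [h1, hty, map_mul]
      · rintro ⟨y, hy, rfl⟩
        exact ⟨β y, (hchar y).2 hy, by rw [map_mul]⟩
    let π : X →* X ⧸ N := QuotientGroup.mk' N
    have hπ1 : ∀ x : X, π x = 1 ↔ x ∈ N := fun x => QuotientGroup.eq_one_iff x
    set z : X ⧸ N := π c with hz
    have hz2 : z * z = 1 := by
      rw [hz, ← map_mul, hπ1]
      exact ⟨c, hcD, rfl⟩
    have hDz : ∀ y ∈ commutator X, π y = 1 ∨ π y = z := by
      intro y hy
      obtain ⟨j, rfl⟩ := hDc y hy
      rcases Nat.even_or_odd' j with ⟨r, rfl | rfl⟩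
      · left
        rw [hπ1]
        exact ⟨c ^ r, Subgroup.pow_mem _ hcD r, by rw [← pow_add, two_mul]⟩
      · right
        have h1 : π (c ^ (2 * r)) = 1 := by
          rw [hπ1]
          exact ⟨c ^ r, Subgroup.pow_mem _ hcD r, by rw [← pow_add, two_mul]⟩
        rw [pow_succ, map_mul, h1, one_mul]
    have hzc : ∀ p : X ⧸ N, p * z = z * p := by
      intro p
      obtain ⟨g, rfl⟩ := QuotientGroup.mk_surjective p
      have h1 : g * c * g⁻¹ ∈ commutator X :=
        (inferInstance : (commutator X).Normal).conj_mem c hcD g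
      have h2 : π (g * c * g⁻¹) = π g * z * (π g)⁻¹ := by
        rw [map_mul, map_mul, map_inv]
      rcases hDz _ h1 with h3 | h3
      · rw [h2] at h3
        have h4 : z = 1 := by
          have := congrArg (fun t => (π g)⁻¹ * t * π g) h3
          simpa [mul_assoc] using this
        show π g * z = z * π g
        rw [h4, mul_one, one_mul]
      · rw [h2] at h3
        show π g * z = z * π g
        calc π g * z = (π g * z * (π g)⁻¹) * π g := by group
          _ = z * π g := by rw [h3]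
    -- commutation up to a central involution
    have hW : ∀ p q : X ⧸ N, ∃ w : X ⧸ N, (w = 1 ∨ w = z) ∧ p * q = w * (q * p) := by
      intro p q
      obtain ⟨x, rfl⟩ := QuotientGroup.mk_surjective p
      obtain ⟨y, rfl⟩ := QuotientGroup.mk_surjective q
      have h1 : ⁅x, y⁆ ∈ commutator X := by
        rw [commutator_def]
        exact Subgroup.commutator_mem_commutator (Subgroup.mem_top x) (Subgroup.mem_top y)
      refine ⟨π ⁅x, y⁆, hDz _ h1, ?_⟩
      show π x * π y = π ⁅x, y⁆ * (π y * π x)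
      rw [← map_mul, ← map_mul, ← map_mul, commutatorElement_def]
      congr 1; group
    have hWc : ∀ w : X ⧸ N, (w = 1 ∨ w = z) → (w * w = 1 ∧ ∀ p : X ⧸ N, p * w = w * p) := by
      rintro w (rfl | rfl)
      · exact ⟨by simp, fun p => by simp⟩
      · exact ⟨hz2, hzc⟩
    have hsqc : ∀ p q : X ⧸ N, q * (p * p) = (p * p) * q := by
      intro p q
      obtain ⟨w, hw, hqp⟩ := hW q p
      obtain ⟨hw2, hwc⟩ := hWc w hw
      calc q * (p * p) = (q * p) * p := by group
        _ = w * (p * q) * p := by rw [hqp]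
        _ = w * p * (q * p) := by group
        _ = w * p * (w * (p * q)) := by rw [hqp]
        _ = (w * (p * w)) * (p * q) := by group
        _ = (w * (w * p)) * (p * q) := by rw [hwc p]
        _ = (w * w) * (p * p) * q := by group
        _ = (p * p) * q := by rw [hw2, one_mul]
    have hp4 : ∀ p : X ⧸ N, p ^ 4 = (p * p) * (p * p) := by
      intro p
      rw [show (4 : ℕ) = 2 + 2 from rfl, pow_add, pow_two]
    have hfour : ∀ p q : X ⧸ N, (p * q) ^ 4 = p ^ 4 * q ^ 4 := by
      intro p q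
      obtain ⟨w, hw, hqp⟩ := hW q p
      obtain ⟨hw2, hwc⟩ := hWc w hw
      have h1 : (p * q) * (p * q) = w * ((p * p) * (q * q)) := by
        calc (p * q) * (p * q) = p * (q * p) * q := by group
          _ = p * (w * (p * q)) * q := by rw [hqp]
          _ = (p * w) * (p * q) * q := by group
          _ = (w * p) * (p * q) * q := by rw [hwc p]
          _ = w * ((p * p) * (q * q)) := by group
      rw [hp4 (p * q), hp4 p, hp4 q, h1]
      calc w * ((p * p) * (q * q)) * (w * ((p * p) * (q * q)))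
          = w * (((p * p) * (q * q)) * w) * ((p * p) * (q * q)) := by group
        _ = w * (w * ((p * p) * (q * q))) * ((p * p) * (q * q)) := by rw [hwc]
        _ = (w * w) * (p * p) * ((q * q) * (p * p)) * (q * q) := by group
        _ = (w * w) * (p * p) * ((p * p) * (q * q)) * (q * q) := by rw [hsqc p (q * q)]
        _ = (p * p) * (p * p) * ((q * q) * (q * q)) := by rw [hw2]; group
    have hcomm4 : ∀ p q : X ⧸ N, Commute (p ^ 4) (q ^ 4) := by
      intro p q
      show p ^ 4 * q ^ 4 = q ^ 4 * p ^ 4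
      rw [hp4 p]
      calc (p * p) * (p * p) * q ^ 4 = (p * p) * ((p * p) * q ^ 4) := by group
        _ = (p * p) * (q ^ 4 * (p * p)) := by rw [hsqc p (q ^ 4)]
        _ = ((p * p) * q ^ 4) * (p * p) := by group
        _ = (q ^ 4 * (p * p)) * (p * p) := by rw [hsqc p (q ^ 4)]
        _ = q ^ 4 * ((p * p) * (p * p)) := by group
    have hpowsplit : ∀ p : X ⧸ N, p ^ (2 ^ (n' + 2)) = (p ^ 4) ^ (2 ^ n') := by
      intro p
      rw [← pow_mul]
      congr 1
      rw [pow_add]; ring
    let f : X ⧸ N →* X ⧸ N := MonoidHom.mk' (fun p => p ^ (2 ^ (n' + 2))) (by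
      intro p q
      show (p * q) ^ (2 ^ (n' + 2)) = p ^ (2 ^ (n' + 2)) * q ^ (2 ^ (n' + 2))
      rw [hpowsplit, hpowsplit, hpowsplit, hfour, (hcomm4 p q).mul_pow])
    let F : X →* X ⧸ N := f.comp π
    have hF : ∀ x : X, F x = π (x ^ (2 ^ (n' + 2))) := by
      intro x
      show (π x) ^ (2 ^ (n' + 2)) = π (x ^ (2 ^ (n' + 2)))
      rw [map_pow]
    have hFa : F a = z := by rw [hF]
    have hFb : F b ∈ Subgroup.zpowers z := by
      rw [hF]
      have h1 : b ^ (2 ^ (n' + 2)) ∈ commutator X := (hmemD b _).2 (by rw [hnb])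
      rcases hDz _ h1 with h2 | h2
      · rw [h2]; exact Subgroup.one_mem _
      · rw [h2]; exact Subgroup.mem_zpowers z
    have hrange : F.range ≤ Subgroup.zpowers z := by
      rintro _ ⟨g, rfl⟩
      obtain ⟨i, j, rfl⟩ := hgen g
      rw [map_mul, map_pow, map_pow, hFa]
      exact Subgroup.mul_mem _ (Subgroup.pow_mem _ (Subgroup.mem_zpowers z) i)
        (Subgroup.pow_mem _ hFb j)
    have hzord : orderOf z ≤ 2 := by
      apply Nat.le_of_dvd (by norm_num)
      apply orderOf_dvd_of_pow_eq_one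
      rw [pow_two]; exact hz2
    have hidx2 : F.ker.index ≤ 2 := by
      rw [Subgroup.index_ker]
      calc Nat.card F.range ≤ Nat.card (Subgroup.zpowers z) := Subgroup.card_le_of_le hrange
        _ = orderOf z := Nat.card_zpowers z
        _ ≤ 2 := hzord
    have hkerinv : ∀ x : X, β x ∈ F.ker ↔ x ∈ F.ker := by
      intro x
      rw [MonoidHom.mem_ker, MonoidHom.mem_ker, hF, hF, hπ1, hπ1, ← map_pow]
      exact hNβ _
    have hidx0 : F.ker.index ≠ 0 := Subgroup.index_ne_zero_of_finite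
    have hidx1 : F.ker.index = 1 := by
      have hne : F.ker.index ≠ 2 := fun h => hK F.ker h hkerinv
      omega
    have hker_top : F.ker = ⊤ := Subgroup.index_eq_one.1 hidx1
    have hz1 : z = 1 := by
      rw [← hFa, ← MonoidHom.mem_ker, hker_top]; exact Subgroup.mem_top a
    have hcN : c ∈ N := (hπ1 c).1 hz1
    obtain ⟨y, hy, hcy⟩ := hcN
    obtain ⟨j, rfl⟩ := hDc y hy
    have hc1 : c = 1 := by
      rcases Nat.eq_zero_or_pos j with h0 | hpos
      · rw [hcy, h0]; simp
      · have h1 : c ^ (2 * j - 1) = 1 := by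
          have h2 : c ^ (2 * j - 1) * c = c := by
            rw [← pow_succ, show 2 * j - 1 + 1 = j + j by omega, pow_add]
            exact hcy.symm
          exact mul_eq_right.1 h2
        have h3 := orderOf_dvd_of_pow_eq_one h1
        obtain ⟨e, he⟩ := IsPGroup.iff_orderOf.1 hX c
        rw [he] at h3
        rcases Nat.eq_zero_or_pos e with h0 | h0
        · rw [h0, pow_zero, orderOf_eq_one_iff] at he; exact he
        · exfalso
          have h4 : 2 ∣ 2 * j - 1 := dvd_trans (dvd_pow_self 2 (by omega)) h3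
          omega
    apply hbot
    rw [eq_bot_iff]
    intro y hy
    obtain ⟨j, rfl⟩ := hDc y hy
    rw [hc1, one_pow]; exact Subgroup.one_mem _

/-- A finite metacyclic 2-group whose automorphism group is not a 2-group is isomorphic to the quaternion group of order 8 or to a homocyclic abelian group Z_{2^n} × Z_{2^n}. -/
theorem result {X : Type*} [Group X] [Finite X] (hX : IsPGroup 2 X)
    (hm : Cfsg.IsMetacyclic X) (hA : ¬ IsPGroup 2 (MulAut X)) :
    Nonempty (X ≃* QuaternionGroup 2) ∨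
      ∃ n : ℕ, Nonempty (X ≃* Multiplicative (ZMod (2 ^ n)) × Multiplicative (ZMod (2 ^ n))) := by
  obtain ⟨N0, a, b, -, -, -, hN0, hgen, hcomm⟩ := Cfsg.Agent.Lib.Helper64.MetaB.exists_gens hm
  have hcard : ∃ q : ℕ, q.Prime ∧ q ≠ 2 ∧ q ∣ Nat.card (MulAut X) := by
    by_contra hno
    apply hA
    have h0 : Nat.card (MulAut X) ≠ 0 := Nat.card_pos.ne'
    have h1 := Nat.eq_prime_pow_of_unique_prime_dvd h0 (p := 2) (fun {d} hd hdvd => by
      by_contra h2
      exact hno ⟨d, hd, h2, hdvd⟩)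
    exact IsPGroup.of_card h1
  obtain ⟨q, hq, hq2, hdvd⟩ := hcard
  have : Fact q.Prime := ⟨hq⟩
  obtain ⟨β, hβ⟩ := exists_prime_orderOf_dvd_card' q hdvd
  have hK := noInv_of_prime_order hX a b hgen β q hq hq2 hβ
  by_cases hc : ∀ x y : X, x * y = y * x
  · right
    exact abelian_case hX β hK hc a b hgen
  · left
    have h4 := index_commutator hX β hK hc N0 a b hN0 hgen hcomm
    have hna : ¬ IsMulCommutative X := fun h => hc (fun x y => h.is_comm.comm x y)
    exact Cfsg.Agent.S4189.result hX hna h4 hA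

end Cfsg.Agent.S1896
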