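import Cfsg.Statements.S5235
import Cfsg.Agent.H84.SCMeta2
import Cfsg.Agent.S5087

set_option autoImplicit false
open Cfsg

namespace Cfsg.Agent.S5235

/-- Let F be a saturated fusion system over a finite 2-group S (p = 2) and P a metacyclic subgroup of S strongly closed in F that is not dihedral, not semidihedral and not generalized quaternion (here the group of order 2, the Klein four-group and the cyclic group of order 4 also count as excluded). Then P is normal in F. -/
theorem result {Ω : Type*} [Group Ω] {S : Subgroup Ω} [Finite S] (p : ℕ) [Fact p.Prime] (hS : IsPGroup p S) (F : Cfsg.FusionSystem S) (hF : F.IsSaturated p) (P : Subgroup Ω) (hP : F.StronglyClosed P) (hp : p = 2) (hm : Cfsg.IsMetacyclic ↥P) (hd : ¬ ∃ m : ℕ, Nonempty (↥P ≃* DihedralGroup m)) (hq : ¬ ∃ m : ℕ, Nonempty (↥P ≃* QuaternionGroup m)) (hsd : ¬ Cfsg.IsQuasiDihedral ↥P) : F.IsNormal P := by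
  subst hp
  rw [Cfsg.Agent.S5087.result 2 hS F hF P]
  intro E hE
  have hES : E ≤ S := by
    rcases hE with h | h
    · rw [h]
    · exact h.1.1
  refine ⟨?_, fun α hα => Cfsg.Agent.H84.map_eq_of_forall_mem (F.autGroup E) (P.subgroupOf E)
    (fun α hα x hx => ?_) α hα⟩
  · rcases hE with h | h
    · rw [h]; exact hP.1
    · refine Cfsg.Agent.H84.SCMeta2.le_of_essential₂ hS F hP hm ?_ h
      rintro (h1 | h1 | h1)
      · exact hd h1
      · exact hq h1
      · exact hsd h1
  · rw [Subgroup.mem_subgroupOf] at hx ⊢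
    exact Cfsg.Agent.H84.SCEss.sc_aut_mem F hP hES hα x hx

end Cfsg.Agent.S5235
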