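import Cfsg.Statements.S0027
import Mathlib
import Cfsg.Agent.S0026

set_option autoImplicit false
open Cfsg

namespace Cfsg.Agent.S0027

open scoped commutatorElement

/-- Under coprime action the commutator subgroup with A is stable: taking the commutator with A twice gives the same subgroup as once. -/
theorem result {G : Type*} [Group G] [Finite G] (A K : Subgroup G) (hAK : A ≤ Subgroup.normalizer (K : Set G))
    (hcop : (Nat.card A).Coprime (Nat.card K)) (hsolv : Group.IsSolvable A ∨ Group.IsSolvable K) :
    ⁅⁅K, A⁆, A⁆ = ⁅K, A⁆ := by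
  apply le_antisymm
  · exact Cfsg.Agent.S0026.commutator_le_of_le_normalizer
      (Cfsg.Agent.S0026.le_normalizer_commutator_right K A)
  · rw [Subgroup.commutator_le]
    intro k hk a ha
    obtain ⟨c, hc, w, hw, rfl⟩ := Cfsg.Agent.S0026.exists_decomp A K hAK hcop hsolv k hk
    have hca : a * c = c * a := (Subgroup.mem_centralizer_iff.mp hc.2) a ha
    have e : ⁅c * w, a⁆ = ⁅c * w * c⁻¹, a⁆ := by
      simp only [commutatorElement_def]
      have h1 : c⁻¹ * a * c = a := by rw [mul_assoc, hca, inv_mul_cancel_left]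
      calc c * w * a * (c * w)⁻¹ * a⁻¹ = c * w * (c⁻¹ * a * c) * w⁻¹ * c⁻¹ * a⁻¹ := by
            rw [h1]; group
        _ = c * w * c⁻¹ * a * (c * w * c⁻¹)⁻¹ * a⁻¹ := by group
    rw [e]
    apply Subgroup.commutator_mem_commutator _ ha
    exact (Subgroup.mem_normalizer_iff.mp
      (Cfsg.Agent.S0026.le_normalizer_commutator_left K A hc.1) w).mp hw

end Cfsg.Agent.S0027
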