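import Mathlib
import Cfsg.Statements.S1447
import Cfsg.Agent.Lib.Helper24.MetaCoprime
import Cfsg.Agent.Lib.Helper24.ConjAction
import Cfsg.Agent.S0026
import Cfsg.Agent.S0027

set_option autoImplicit false
open Cfsg

namespace Cfsg.Agent.S1447

open scoped commutatorElement
open Cfsg.Agent.Lib.Helper24.MetaCoprime Cfsg.Agent.Lib.Helper24.ConjAction
  Cfsg.Agent.Lib.Helper24.SpecialGroup

theorem isMetacyclic_of_injective {Q R : Type*} [Group Q] [Group R] (hR : Cfsg.IsMetacyclic R)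
    (f : Q →* R) (hf : Function.Injective f) : Cfsg.IsMetacyclic Q := by
  obtain ⟨N, hNn, hNc, hQc⟩ := hR
  refine ⟨N.comap f, inferInstance, ?_, ?_⟩
  · let g : (N.comap f) →* N := f.subgroupComap N
    have hg : Function.Injective g := by
      intro x y hxy
      have := congrArg Subtype.val hxy
      exact Subtype.ext (hf this)
    exact isCyclic_of_injective g hg
  · let g : Q ⧸ N.comap f →* R ⧸ N := QuotientGroup.map (N.comap f) N f le_rfl
    have hg : Function.Injective g := by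
      rw [injective_iff_map_eq_one]
      intro q hq
      obtain ⟨h, rfl⟩ := QuotientGroup.mk_surjective q
      rw [QuotientGroup.eq_one_iff, Subgroup.mem_comap]
      have : g (h : Q ⧸ N.comap f) = ((f h : R) : R ⧸ N) := rfl
      rw [this, QuotientGroup.eq_one_iff] at hq
      exact hq
    exact isCyclic_of_injective g hg

theorem comm_of_cyclic {H : Type*} [Group H] (h : IsCyclic H) (x y : H) : x * y = y * x := by
  obtain ⟨g, hg⟩ := h.exists_generator
  obtain ⟨i, rfl⟩ := Subgroup.mem_zpowers_iff.mp (hg x)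
  obtain ⟨j, rfl⟩ := Subgroup.mem_zpowers_iff.mp (hg y)
  exact (Commute.zpow_zpow_self g i j).eq

/-- In a non-cyclic metacyclic `p`-subgroup (`p` odd) there are exactly `p ^ 2` solutions of
`x ^ p = 1`. -/
theorem ncard_omega {G : Type*} [Group G] [Finite G] (p : ℕ) [Fact p.Prime] (hp : p ≠ 2)
    (H : Subgroup G) (hH : IsPGroup p H) (hm : Cfsg.IsMetacyclic H) (hnc : ¬ IsCyclic H) :
    Set.ncard {x : G | x ∈ H ∧ x ^ p = 1} = p ^ 2 := by
  obtain ⟨⟨-, hel⟩, hΩ⟩ := Cfsg.Agent.S0638.result hp hH hm hnc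
  have : {x : G | x ∈ H ∧ x ^ p = 1} =
      Set.range (fun ω : Cfsg.omegaOne p (⊤ : Subgroup H) => ((ω : H) : G)) := by
    ext x
    constructor
    · rintro ⟨hxH, hxp⟩
      exact ⟨⟨⟨x, hxH⟩, Subgroup.subset_closure ⟨Subgroup.mem_top _,
        Subtype.ext (by simpa using hxp)⟩⟩, rfl⟩
    · rintro ⟨ω, rfl⟩
      refine ⟨(ω : H).2, ?_⟩
      have := hel ω ω.2
      have := congrArg Subtype.val this
      simpa using this
  rw [this, ← Nat.card_coe_set_eq, Nat.card_range_of_injective, hΩ]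
  intro a b hab
  exact Subtype.ext (Subtype.ext hab)

/-- Let G be a finite group, p an odd prime, R a metacyclic p-subgroup and A a subgroup of order coprime to p normalizing R. Then [R, A] is abelian; R is generated by [R, A] and R ∩ C_G(A), which meet trivially; and if R is non-abelian and A does not centralize R, then [R, A] and R ∩ C_G(A) are nontrivial cyclic groups and [R, R] ≤ [R, A]. -/
theorem result {G : Type*} [Group G] [Finite G] (p : ℕ) [Fact p.Prime] (hp : p ≠ 2) (R A : Subgroup G) (hR : IsPGroup p R) (hRm : Cfsg.IsMetacyclic R)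
    (hA : (A ≤ Subgroup.normalizer (R : Set G))) (hcop : (Nat.card A).Coprime p) :
    IsMulCommutative ↥⁅R, A⁆ ∧ ⁅R, A⁆ ⊔ (R ⊓ Subgroup.centralizer (A : Set G)) = R ∧ ⁅R, A⁆ ⊓ (R ⊓ Subgroup.centralizer (A : Set G)) = ⊥ ∧
      (¬ IsMulCommutative R → ¬ A ≤ Subgroup.centralizer (R : Set G) →
        ⁅R, A⁆ ≠ ⊥ ∧ IsCyclic ↥⁅R, A⁆ ∧ (R ⊓ Subgroup.centralizer (A : Set G)) ≠ ⊥ ∧ IsCyclic ↥(R ⊓ Subgroup.centralizer (A : Set G)) ∧ ⁅R, R⁆ ≤ ⁅R, A⁆) := by
  classical
  have hpp : p.Prime := Fact.out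
  obtain ⟨n, hn⟩ := hR.exists_card_eq
  have hcop' : (Nat.card A).Coprime (Nat.card R) := by
    rw [hn]; exact Nat.Coprime.pow_right n hcop
  have hsolv : Group.IsSolvable A ∨ Group.IsSolvable R := Or.inr (by
    haveI := hR.isNilpotent
    infer_instance)
  obtain ⟨T, hT⟩ : ∃ T : Subgroup G, T = ⁅R, A⁆ := ⟨_, rfl⟩
  obtain ⟨C, hC⟩ : ∃ C : Subgroup G, C = R ⊓ Subgroup.centralizer (A : Set G) := ⟨_, rfl⟩
  rw [← hT, ← hC]
  have hTR : T ≤ R := hT ▸ Cfsg.Agent.S0026.commutator_le_of_le_normalizer hA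
  have hAT : A ≤ Subgroup.normalizer (T : Set G) :=
    hT ▸ Cfsg.Agent.S0026.le_normalizer_commutator_right R A
  have hRT : R ≤ Subgroup.normalizer (T : Set G) :=
    hT ▸ Cfsg.Agent.S0026.le_normalizer_commutator_left R A
  have hTT : ⁅T, A⁆ = T := by
    rw [hT]; exact Cfsg.Agent.S0027.result A R hA hcop' hsolv
  have hTp : IsPGroup p T := hR.to_le hTR
  have hTm : Cfsg.IsMetacyclic T :=
    isMetacyclic_of_injective hRm (Subgroup.inclusion hTR) (Subgroup.inclusion_injective hTR)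
  obtain ⟨Abar, hAbar⟩ : ∃ Abar : Subgroup (MulAut T), Abar = (conjHom A T hAT).range :=
    ⟨_, rfl⟩
  have hAbarcop : (Nat.card Abar).Coprime p := by
    rw [hAbar]; exact card_range_coprime A T hAT hcop
  have hgen : Subgroup.closure {x : T | ∃ g : T, ∃ a ∈ Abar, x = g⁻¹ * a g} = ⊤ := by
    rw [eq_top_iff]
    intro x _
    have hx : (x : G) ∈ ⁅T, A⁆ := by rw [hTT]; exact x.2
    have hle : ⁅T, A⁆ ≤
        (Subgroup.closure {x : T | ∃ g : T, ∃ a ∈ Abar, x = g⁻¹ * a g}).map T.subtype := by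
      rw [Subgroup.commutator_le]
      intro t ht a ha
      refine ⟨⟨⁅t, a⁆, ?_⟩, Subgroup.subset_closure ⟨⟨t⁻¹, T.inv_mem ht⟩,
        conjHom A T hAT ⟨a, ha⟩, by rw [hAbar]; exact ⟨⟨a, ha⟩, rfl⟩, ?_⟩, rfl⟩
      · rw [← hTT]; exact Subgroup.commutator_mem_commutator ht ha
      · apply Subtype.ext
        simp only [Subgroup.coe_mul, Subgroup.coe_inv, conjHom_apply, commutatorElement_def]
        group
    obtain ⟨y, hy, hyx⟩ := hle hx
    have : y = x := Subtype.ext hyx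
    rw [← this]; exact hy
  have hTab : ∀ x y : T, x * y = y * x :=
    commutative_of_coprime hp hTp hTm Abar hAbarcop hgen
  have hTab' : ∀ x ∈ T, ∀ y ∈ T, x * y = y * x := fun x hx y hy =>
    congrArg Subtype.val (hTab ⟨x, hx⟩ ⟨y, hy⟩)
  have hsup : T ⊔ C = R := by
    rw [hT, hC]; exact Cfsg.Agent.S0026.result A R hA hcop' hsolv
  have hinf : T ⊓ C = ⊥ := by
    rw [eq_bot_iff]
    rintro x ⟨hxT, hxC⟩
    rw [Subgroup.mem_bot]
    have hfix : ∀ a ∈ Abar, a ⟨x, hxT⟩ = ⟨x, hxT⟩ := by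
      intro a ha
      rw [hAbar] at ha
      obtain ⟨a0, ha0, ha0w⟩ := exists_of_mem_range A T hAT a ha
      apply Subtype.ext
      rw [ha0w]
      have hxc : x ∈ Subgroup.centralizer (A : Set G) :=
        (hC ▸ hxC : x ∈ R ⊓ Subgroup.centralizer (A : Set G)).2
      have := Subgroup.mem_centralizer_iff.mp hxc a0 ha0
      show a0 * x * a0⁻¹ = x
      rw [this, mul_inv_cancel_right]
    have := fixed_mem_commutator hTp Abar hAbarcop hgen ⟨x, hxT⟩ hfix
    have hbot : commutator T = ⊥ := by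
      rw [eq_bot_iff, commutator_def, Subgroup.commutator_le]
      intro a _ b _
      rw [Subgroup.mem_bot, commutatorElement_eq_one_iff_mul_comm]
      exact hTab a b
    rw [hbot, Subgroup.mem_bot] at this
    exact congrArg Subtype.val this
  refine ⟨⟨⟨fun a b => hTab a b⟩⟩, hsup, hinf, ?_⟩
  intro hRnc hAnc
  have hT1 : T ≠ ⊥ := by
    intro h
    apply hAnc
    rw [hT, Subgroup.commutator_eq_bot_iff_le_centralizer] at h
    exact Subgroup.le_centralizer_iff.mp h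
  have hC1 : C ≠ ⊥ := by
    intro h
    apply hRnc
    rw [h, sup_bot_eq] at hsup
    refine ⟨⟨fun a b => ?_⟩⟩
    apply Subtype.ext
    exact hTab' a (hsup ▸ a.2) b (hsup ▸ b.2)
  have hCR : C ≤ R := hC ▸ inf_le_left
  have hCp : IsPGroup p C := hR.to_le hCR
  have hRncyc : ¬ IsCyclic R := by
    intro hcyc
    apply hRnc
    exact ⟨⟨fun a b => comm_of_cyclic hcyc a b⟩⟩
  have hER := ncard_omega p hp R hR hRm hRncyc
  have cauchy : ∀ K : Subgroup G, IsPGroup p K → K ≠ ⊥ → ∃ x ∈ K, x ≠ 1 ∧ x ^ p = 1 := by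
    intro K hK hK1
    have hdvd : p ∣ Nat.card K := by
      obtain ⟨k, hk⟩ := hK.exists_card_eq
      rcases k with _ | k
      · exact absurd (Subgroup.card_eq_one.mp (by rw [hk, pow_zero])) hK1
      · rw [hk, pow_succ]; exact dvd_mul_left p _
    obtain ⟨x, hx⟩ := exists_prime_orderOf_dvd_card' p hdvd
    refine ⟨x, x.2, ?_, ?_⟩
    · intro h1
      have : x = 1 := Subtype.ext h1
      rw [this, orderOf_one] at hx
      exact hpp.one_lt.ne hx
    · have := pow_orderOf_eq_one x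
      rw [hx] at this
      have := congrArg Subtype.val this
      simpa using this
  have hall : ∀ H : Subgroup G, H ≤ R → ¬ IsCyclic H → ∀ x ∈ R, x ^ p = 1 → x ∈ H := by
    intro H hHR hHnc x hxR hxp
    have hEH := ncard_omega p hp H (hR.to_le hHR) (isMetacyclic_of_injective hRm
      (Subgroup.inclusion hHR) (Subgroup.inclusion_injective hHR)) hHnc
    have hsub : {x : G | x ∈ H ∧ x ^ p = 1} ⊆ {x : G | x ∈ R ∧ x ^ p = 1} :=
      fun y hy => ⟨hHR hy.1, hy.2⟩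
    have heq := Set.eq_of_subset_of_ncard_le hsub (by rw [hER, hEH]) (Set.toFinite _)
    have : x ∈ {x : G | x ∈ H ∧ x ^ p = 1} := by rw [heq]; exact ⟨hxR, hxp⟩
    exact this.1
  have hTcyc : IsCyclic T := by
    by_contra hnc
    obtain ⟨x, hxC, hx1, hxp⟩ := cauchy C hCp hC1
    have hxT := hall T hTR hnc x (hCR hxC) hxp
    have : x ∈ T ⊓ C := ⟨hxT, hxC⟩
    rw [hinf, Subgroup.mem_bot] at this
    exact hx1 this
  have hCcyc : IsCyclic C := by
    by_contra hnc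
    obtain ⟨x, hxT, hx1, hxp⟩ := cauchy T hTp hT1
    have hxC := hall C hCR hnc x (hTR hxT) hxp
    have : x ∈ T ⊓ C := ⟨hxT, hxC⟩
    rw [hinf, Subgroup.mem_bot] at this
    exact hx1 this
  refine ⟨hT1, hTcyc, hC1, hCcyc, ?_⟩
  have hCab : ∀ x ∈ C, ∀ y ∈ C, x * y = y * x := fun x hx y hy =>
    congrArg Subtype.val (comm_of_cyclic hCcyc ⟨x, hx⟩ ⟨y, hy⟩)
  have hconj : ∀ g ∈ R, ∀ t ∈ T, g * t * g⁻¹ ∈ T := fun g hg t ht =>
    (Subgroup.mem_normalizer_iff.mp (hRT hg) t).mp ht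
  have hdec : ∀ k ∈ R, ∃ c ∈ C, ∃ w ∈ T, k = c * w := by
    intro k hk
    obtain ⟨c, hc, w, hw, h⟩ := Cfsg.Agent.S0026.exists_decomp A R hA hcop' hsolv k hk
    exact ⟨c, hC ▸ hc, w, hT ▸ hw, h⟩
  rw [Subgroup.commutator_le]
  intro x hx y hy
  obtain ⟨c₁, hc₁, w₁, hw₁, rfl⟩ := hdec x hx
  obtain ⟨c₂, hc₂, w₂, hw₂, rfl⟩ := hdec y hy
  have e : ⁅c₁ * w₁, c₂ * w₂⁆ = c₁ * (w₁ * ((c₂ * w₂) * w₁⁻¹ * (c₂ * w₂)⁻¹)) * c₁⁻¹ *
      (⁅c₁, c₂⁆ * (c₂ * ((c₁ * w₂ * c₁⁻¹) * w₂⁻¹) * c₂⁻¹)) := by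
    simp only [commutatorElement_def]; group
  rw [e]
  have h1 : ⁅c₁, c₂⁆ = 1 := by
    rw [commutatorElement_eq_one_iff_mul_comm]; exact hCab c₁ hc₁ c₂ hc₂
  rw [h1, one_mul]
  exact T.mul_mem (hconj c₁ (hCR hc₁) _ (T.mul_mem hw₁ (hconj _ hy _ (T.inv_mem hw₁))))
    (hconj c₂ (hCR hc₂) _ (T.mul_mem (hconj c₁ (hCR hc₁) _ hw₂) (T.inv_mem hw₂)))

end Cfsg.Agent.S1447
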