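import Cfsg.Statements.S5234
import Cfsg.Agent.H84.SCMeta
import Cfsg.Agent.S5087

set_option autoImplicit false
open Cfsg

namespace Cfsg.Agent.S5234

/-- Let p be an odd prime, F a saturated fusion system over a finite p-group S and P a metacyclic subgroup of S strongly closed in F. Then P is normal in F. -/
theorem result {Ω : Type*} [Group Ω] {S : Subgroup Ω} [Finite S] (p : ℕ) [Fact p.Prime] (hS : IsPGroup p S) (F : Cfsg.FusionSystem S) (hF : F.IsSaturated p) (P : Subgroup Ω) (hP : F.StronglyClosed P) (hp : p ≠ 2) (hm : Cfsg.IsMetacyclic ↥P) : F.IsNormal P := by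
  rw [Cfsg.Agent.S5087.result p hS F hF P]
  intro E hE
  have hES : E ≤ S := by
    rcases hE with h | h
    · rw [h]
    · exact h.1.1
  refine ⟨?_, fun α hα => Cfsg.Agent.H84.map_eq_of_forall_mem (F.autGroup E) (P.subgroupOf E)
    (fun α hα x hx => ?_) α hα⟩
  · rcases hE with h | h
    · rw [h]; exact hP.1
    · exact Cfsg.Agent.H84.SCMeta.le_of_essential hp hS F hF hP hm h
  · rw [Subgroup.mem_subgroupOf] at hx ⊢
    exact Cfsg.Agent.H84.SCEss.sc_aut_mem F hP hES hα x hx

end Cfsg.Agent.S5234
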