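import Cfsg.Statements.S5284
import Cfsg.Agent.Lib.Helper88.AbInv
import Cfsg.Agent.Lib.Helper88.FSAbelian
import Cfsg.Agent.S5283
-- import your own Cfsg.Agent.* helpers here

set_option autoImplicit false
open Cfsg

namespace Cfsg.Agent.S5284

section Aux

/-- The chain of characteristic subgroups, for a group known to be commutative. -/
theorem chain_of_group {P : Type*} [Group P] [Finite P] (p : ℕ) [Fact p.Prime] (hP : IsPGroup p P)
    (hcomm : ∀ a b : P, a * b = b * a)
    (hno : ¬ ∃ (n : ℕ) (H : Type) (_ : CommGroup H), 0 < n ∧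
      Nonempty (P ≃* (Multiplicative (ZMod (p ^ n)) × Multiplicative (ZMod (p ^ n))) × H)) :
    ∃ (m : ℕ) (c : Fin (m + 1) → Subgroup P), c 0 = ⊥ ∧ c (Fin.last m) = ⊤ ∧
      (∀ i, ∀ τ : MulAut P, ∀ x ∈ c i, τ x ∈ c i) ∧
      ∀ i : Fin m, c i.castSucc ≤ c i.succ ∧
        ∃ x : P, c i.succ = c i.castSucc ⊔ Subgroup.zpowers x := by
  letI inst : CommGroup P := { (inferInstance : Group P) with mul_comm := hcomm }
  exact Cfsg.Agent.Lib.Helper88.AbInv.exists_char_chain p hP hno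

/-- A nontrivial element of the cyclic group of order `p ^ n`, not an involution for odd `p`. -/
theorem exists_elt (p : ℕ) [Fact p.Prime] {n : ℕ} (hn : 0 < n) :
    ∃ a0 : Multiplicative (ZMod (p ^ n)), a0 ≠ 1 ∧ (p ≠ 2 → a0 * a0 ≠ 1) := by
  have hp : p.Prime := Fact.out
  refine ⟨Multiplicative.ofAdd (1 : ZMod (p ^ n)), ?_, ?_⟩
  · intro h
    have h1 : (1 : ZMod (p ^ n)) = 0 := h
    have h2 : ((1 : ℕ) : ZMod (p ^ n)) = 0 := by rw [Nat.cast_one]; exact h1
    rw [ZMod.natCast_eq_zero_iff] at h2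
    have h3 : p ∣ 1 := (dvd_pow_self p hn.ne').trans h2
    exact hp.one_lt.ne' (Nat.dvd_one.mp h3)
  · intro hp2 h
    have h1 : (1 : ZMod (p ^ n)) + 1 = 0 := h
    have h2 : ((2 : ℕ) : ZMod (p ^ n)) = 0 := by
      rw [← h1]
      push_cast
      ring
    rw [ZMod.natCast_eq_zero_iff] at h2
    have h3 : p ∣ 2 := (dvd_pow_self p hn.ne').trans h2
    exact hp2 ((Nat.prime_dvd_prime_iff_eq hp Nat.prime_two).mp h3)

end Aux

/-- Let S be a finite abelian p-group. Every saturated fusion system over S is supersoluble (S has a chain of F-strongly closed subgroups from 1 to S with cyclic steps) if and only if the invariants of S are pairwise distinct, that is, S is not isomorphic to a direct product (Z/p^n × Z/p^n) × H with n ≥ 1. -/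
theorem result {Ω : Type*} [Group Ω] {S : Subgroup Ω} [Finite S] (p : ℕ) [Fact p.Prime] (hS : IsPGroup p ↥S) (hab : IsMulCommutative ↥S) : (∀ F : Cfsg.FusionSystem S, F.IsSaturated p → (∃ (m : ℕ) (c : Fin (m + 1) → Subgroup Ω), c 0 = ⊥ ∧ c (Fin.last m) = S ∧ (∀ i : Fin (m + 1), F.StronglyClosed (c i)) ∧ ∀ i : Fin m, c i.castSucc ≤ c i.succ ∧ ∃ x ∈ S, c i.succ = c i.castSucc ⊔ Subgroup.zpowers x)) ↔ ¬ ∃ (n : ℕ) (H : Type) (_ : CommGroup H), 0 < n ∧ Nonempty (↥S ≃* (Multiplicative (ZMod (p ^ n)) × Multiplicative (ZMod (p ^ n))) × H) := by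
  have hp : p.Prime := Fact.out
  have habS : ∀ x ∈ S, ∀ y ∈ S, x * y = y * x := fun x hx y hy =>
    congrArg Subtype.val (hab.is_comm.comm ⟨x, hx⟩ ⟨y, hy⟩)
  constructor
  · intro hall
    rintro ⟨n, H, hH, hn, ⟨e⟩⟩
    obtain ⟨-, hprop⟩ := (Cfsg.Agent.S5283.result p hS).mp hall
    haveI : Finite ((Multiplicative (ZMod (p ^ n)) × Multiplicative (ZMod (p ^ n))) × H) :=
      Finite.of_equiv _ e.toEquiv
    haveI : Finite H := Finite.of_injective
      (fun h : H => (((1, 1), h) :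
        (Multiplicative (ZMod (p ^ n)) × Multiplicative (ZMod (p ^ n))) × H))
      (fun a b hab' => congrArg Prod.snd hab')
    haveI : Finite (Multiplicative (ZMod (p ^ n))) := Finite.of_injective
      (fun a : Multiplicative (ZMod (p ^ n)) => (((a, 1), 1) :
        (Multiplicative (ZMod (p ^ n)) × Multiplicative (ZMod (p ^ n))) × H))
      (fun a b hab' => congrArg (fun x => x.1.1) hab')
    obtain ⟨a0, ha0, ha0'⟩ := Cfsg.Agent.S5284.exists_elt p hn
    obtain ⟨K, hK, hbad⟩ := Cfsg.Agent.Lib.Helper88.AbInv.model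
      (Multiplicative (ZMod (p ^ n))) H p ha0 ha0'
    obtain ⟨K', hK', hbad'⟩ := Cfsg.Agent.Lib.Helper88.AbInv.transport e p K hK hbad
    obtain ⟨hc, he⟩ := hprop K' hK'
    rcases hbad' with ⟨a, ha, b, hb, hne⟩ | ⟨h, hh, hne⟩
    · exact hne (congrArg Subtype.val (hc.is_comm.comm ⟨a, ha⟩ ⟨b, hb⟩))
    · exact hne (he h hh)
  · intro hno F hF
    obtain ⟨m, c, h0, hl, hi, hs⟩ := Cfsg.Agent.S5284.chain_of_group p hS
      (fun a b => hab.is_comm.comm a b) hno
    refine ⟨m, fun i => (c i).map S.subtype, ?_, ?_, ?_, ?_⟩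
    · show (c 0).map S.subtype = ⊥
      rw [h0, Subgroup.map_bot]
    · show (c (Fin.last m)).map S.subtype = S
      rw [hl, ← MonoidHom.range_eq_map, Subgroup.range_subtype]
    · intro i
      refine ⟨Subgroup.map_subtype_le (c i), fun R hR φ hφ x => ?_⟩
      obtain ⟨a, ha, hax⟩ :=
        Cfsg.Agent.Lib.Helper88.FSAbelian.exists_aut_extension_of_abelian p F hF habS hφ
      obtain ⟨y, hy, hyx⟩ := hR x.2
      have hxS : (x : Ω) ∈ S := by
        rw [← hyx]
        exact y.2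
      have h1 := hi i a y hy
      refine ⟨a y, h1, ?_⟩
      have h2 := hax x x.2 hxS
      have e1 : (⟨(x : Ω), hxS⟩ : S) = y := Subtype.ext hyx.symm
      rw [e1] at h2
      exact h2
    · intro i
      obtain ⟨hle, x, hx⟩ := hs i
      refine ⟨Subgroup.map_mono hle, x, x.2, ?_⟩
      show (c i.succ).map S.subtype = (c i.castSucc).map S.subtype ⊔ Subgroup.zpowers (x : Ω)
      rw [hx, Subgroup.map_sup, MonoidHom.map_zpowers]
      rfl

end Cfsg.Agent.S5284
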