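import Cfsg.Statements.S3116
import Mathlib

set_option autoImplicit false
open Cfsg

namespace Cfsg.Agent.S3116

theorem key {X : Type*} [Group X] [Finite X] (x y : X) (n : ℕ) (hx : orderOf x = 2 ^ n)
    (hidx : (Subgroup.zpowers x).index = 2) (hy : y ∉ Subgroup.zpowers x)
    (hout : ∀ g : X, g ∉ Subgroup.zpowers x → orderOf g ≠ orderOf x) :
    IsPGroup 2 (MulAut X) := by
  intro φ
  -- φ x is a power of x
  have h1 : φ x ∈ Subgroup.zpowers x := by
    by_contra hc
    exact hout (φ x) hc (MulEquiv.orderOf_eq φ x)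
  obtain ⟨a, ha⟩ : ∃ a : ℕ, x ^ a = φ x := (Submonoid.mem_powers_iff _ _).1
    (mem_powers_iff_mem_zpowers.2 h1)
  have hcop : Nat.Coprime a (2 ^ n) := by
    have h2 : orderOf (x ^ a) = orderOf x := by rw [ha]; exact MulEquiv.orderOf_eq φ x
    rw [orderOf_pow, hx] at h2
    have hpos : 0 < 2 ^ n := by positivity
    have h3 : Nat.gcd (2 ^ n) a = 1 := by
      rcases Nat.div_eq_self.1 h2 with h | h
      · omega
      · exact h
    rw [Nat.coprime_comm]; exact h3
  -- powers of φ on x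
  have hB : ∀ m : ℕ, (φ ^ m) x = x ^ (a ^ m) := by
    intro m
    induction m with
    | zero => simp
    | succ m ih =>
      rw [pow_succ', MulAut.mul_apply, ih, map_pow, ← ha, ← pow_mul, pow_succ']
  obtain ⟨j, hj⟩ : ∃ j : ℕ, Nat.totient (2 ^ n) = 2 ^ j := by
    rcases Nat.eq_zero_or_pos n with hn | hn
    · exact ⟨0, by simp [hn]⟩
    · exact ⟨n - 1, by rw [Nat.totient_prime_pow Nat.prime_two hn]; simp⟩
  have hC : (φ ^ (2 ^ j)) x = x := by
    rw [hB]
    have := Nat.ModEq.pow_totient hcop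
    rw [hj] at this
    have h4 : x ^ (a ^ 2 ^ j) = x ^ 1 := by
      rw [pow_eq_pow_iff_modEq, hx]; exact this
    simpa using h4
  set ψ := φ ^ (2 ^ j) with hψ
  have hfix : ∀ (χ : MulAut X), χ x = x → ∀ k : ℤ, χ (x ^ k) = x ^ k := by
    intro χ hχ k
    rw [map_zpow, hχ]
  have hψy : ψ y ∉ Subgroup.zpowers x := by
    intro hc
    obtain ⟨k, hk⟩ := Subgroup.mem_zpowers_iff.1 hc
    apply hy
    have : y = x ^ k := by
      apply ψ.injective
      rw [hfix ψ hC k, hk]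
    rw [this]; exact Subgroup.zpow_mem_zpowers x k
  have hyinv : y⁻¹ ∉ Subgroup.zpowers x := fun hc => hy (by simpa using inv_mem hc)
  have h5 : y⁻¹ * ψ y ∈ Subgroup.zpowers x := by
    rw [Subgroup.mul_mem_iff_of_index_two hidx]
    exact ⟨fun h => absurd h hyinv, fun h => absurd h hψy⟩
  obtain ⟨k, hk⟩ := Subgroup.mem_zpowers_iff.1 h5
  have hψy' : ψ y = y * x ^ k := by rw [hk]; group
  have hE : ∀ m : ℕ, (ψ ^ m) y = y * (x ^ k) ^ m := by
    intro m
    induction m with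
    | zero => simp
    | succ m ih =>
      rw [pow_succ', MulAut.mul_apply, ih, map_mul, map_pow, hfix ψ hC k, hψy', mul_assoc, ← pow_succ']
  have hF : (x ^ k) ^ (2 ^ n) = 1 := by
    rw [← zpow_natCast, ← zpow_mul, mul_comm, zpow_mul, zpow_natCast, ← hx, pow_orderOf_eq_one, one_zpow]
  have hGy : (ψ ^ (2 ^ n)) y = y := by rw [hE, hF, mul_one]
  have hGx : (ψ ^ (2 ^ n)) x = x := by
    have : ψ ∈ MulAction.stabilizer (MulAut X) x := hC
    exact Subgroup.pow_mem _ this _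
  refine ⟨j + n, ?_⟩
  have hχ : φ ^ 2 ^ (j + n) = ψ ^ (2 ^ n) := by rw [hψ, ← pow_mul, ← pow_add]
  rw [hχ]
  ext g
  rw [MulAut.one_apply]
  by_cases hg : g ∈ Subgroup.zpowers x
  · obtain ⟨l, rfl⟩ := Subgroup.mem_zpowers_iff.1 hg
    exact hfix _ hGx l
  · have h6 : y⁻¹ * g ∈ Subgroup.zpowers x := by
      rw [Subgroup.mul_mem_iff_of_index_two hidx]
      exact ⟨fun h => absurd h hyinv, fun h => absurd h hg⟩
    obtain ⟨l, hl⟩ := Subgroup.mem_zpowers_iff.1 h6
    have hg' : g = y * x ^ l := by rw [hl]; group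
    rw [hg', map_mul, hGy, hfix _ hGx l]

theorem dihedral_case (m : ℕ) (hm : 4 ≤ m) (h2 : IsPGroup 2 (DihedralGroup m)) :
    IsPGroup 2 (MulAut (DihedralGroup m)) := by
  have : NeZero m := ⟨by omega⟩
  have : Fact (Nat.Prime 2) := ⟨Nat.prime_two⟩
  obtain ⟨k, hk⟩ := IsPGroup.iff_card.1 h2
  rw [DihedralGroup.nat_card] at hk
  have hk0 : k ≠ 0 := by
    rintro rfl
    omega
  obtain ⟨n, rfl⟩ : ∃ n, k = n + 1 := ⟨k - 1, by omega⟩
  have hmn : m = 2 ^ n := by
    rw [pow_succ] at hk; omega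
  have hord : orderOf (DihedralGroup.r 1 : DihedralGroup m) = 2 ^ n := by
    rw [DihedralGroup.orderOf_r_one, hmn]
  have hmem : ∀ i : ZMod m, (DihedralGroup.r i : DihedralGroup m) ∈ Subgroup.zpowers (DihedralGroup.r 1 : DihedralGroup m) := by
    intro i
    rw [Subgroup.mem_zpowers_iff]
    refine ⟨(i.val : ℤ), ?_⟩
    rw [zpow_natCast, DihedralGroup.r_one_pow, ZMod.natCast_zmod_val]
  have hnot : ∀ i : ZMod m, (DihedralGroup.sr i : DihedralGroup m) ∉ Subgroup.zpowers (DihedralGroup.r 1 : DihedralGroup m) := by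
    intro i hc
    obtain ⟨l, hl⟩ := Subgroup.mem_zpowers_iff.1 hc
    rw [DihedralGroup.r_one_zpow] at hl
    exact absurd hl (by simp)
  refine key (DihedralGroup.r 1) (DihedralGroup.sr 0) n hord ?_ (hnot 0) ?_
  · have h1 := Subgroup.index_mul_card (Subgroup.zpowers (DihedralGroup.r 1 : DihedralGroup m))
    rw [Nat.card_zpowers, DihedralGroup.nat_card, DihedralGroup.orderOf_r_one] at h1
    have hmpos : 0 < m := by omega
    nlinarith
  · intro g hg
    cases g with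
    | r i => exact absurd (hmem i) hg
    | sr i =>
      rw [DihedralGroup.orderOf_sr, DihedralGroup.orderOf_r_one]
      omega

theorem quasi_case {X : Type*} [Group X] [Finite X] (h : Cfsg.IsQuasiDihedral X) :
    IsPGroup 2 (MulAut X) := by
  obtain ⟨n, hn, hcard, x, y, hx, hy, hxy⟩ := h
  have hidx : (Subgroup.zpowers x).index = 2 := by
    have h1 := Subgroup.index_mul_card (Subgroup.zpowers x)
    rw [Nat.card_zpowers, hcard, hx, pow_succ] at h1
    have hpos : 0 < 2 ^ n := by positivity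
    nlinarith
  have hpow : (2:ℕ) ^ (n - 1) * 2 = 2 ^ n := by
    rw [← pow_succ]; congr 1; omega
  have h4 : 4 ≤ 2 ^ (n - 1) := by
    calc 4 = 2 ^ 2 := by norm_num
      _ ≤ 2 ^ (n - 1) := Nat.pow_le_pow_right (by norm_num) (by omega)
  have hyn : y ∉ Subgroup.zpowers x := by
    intro hc
    obtain ⟨l, hl⟩ := Subgroup.mem_zpowers_iff.1 hc
    have hcomm : y * x * y⁻¹ = x := by
      rw [← hl, ← zpow_add_one, ← zpow_neg, ← zpow_add]; simp
    rw [hcomm] at hxy
    have h5 : x ^ 1 = x ^ (2 ^ (n - 1) - 1) := by simpa using hxy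
    rw [pow_eq_pow_iff_modEq, hx] at h5
    have h6 := (Nat.modEq_iff_dvd' (by omega : 1 ≤ 2 ^ (n - 1) - 1)).1 h5
    have h7 := Nat.le_of_dvd (by omega) h6
    omega
  have hyinv : y⁻¹ ∉ Subgroup.zpowers x := fun hc => hyn (by simpa using inv_mem hc)
  have hy2 : y * y = 1 := by
    rw [← pow_two, ← hy, pow_orderOf_eq_one]
  have hconj : ∀ l : ℤ, y * x ^ l * y⁻¹ = (x ^ (2 ^ (n - 1) - 1)) ^ l := by
    intro l
    rw [← hxy]
    exact map_zpow (MulAut.conj y) x l
  refine key x y n hx hidx hyn ?_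
  intro g hg
  have h6 : y⁻¹ * g ∈ Subgroup.zpowers x := by
    rw [Subgroup.mul_mem_iff_of_index_two hidx]
    exact ⟨fun h => absurd h hyinv, fun h => absurd h hg⟩
  obtain ⟨l, hl⟩ := Subgroup.mem_zpowers_iff.1 h6
  have hg' : g = y * x ^ l := by rw [hl]; group
  have hyinv' : y⁻¹ = y := by
    rw [inv_eq_iff_mul_eq_one]; exact hy2
  have hg2 : g ^ 2 = (x ^ (2 ^ (n - 1))) ^ l := by
    have e1 : g ^ 2 = (y * x ^ l * y⁻¹) * x ^ l := by
      rw [hg', pow_two, hyinv']; group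
    rw [e1, hconj, ← zpow_natCast x (2 ^ (n - 1) - 1), ← zpow_mul, ← zpow_add, ← zpow_natCast x (2 ^ (n - 1)), ← zpow_mul]
    congr 1
    have : ((2 ^ (n - 1) - 1 : ℕ) : ℤ) = (2 ^ (n - 1) : ℕ) - 1 := by
      rw [Nat.cast_sub (by omega)]; simp
    rw [this]; ring
  have hg4 : g ^ 4 = 1 := by
    have : g ^ 4 = (g ^ 2) ^ 2 := by rw [← pow_mul]
    rw [this, hg2, ← zpow_natCast, ← zpow_mul, mul_comm, zpow_mul, zpow_natCast, ← pow_mul, hpow, ← hx,
      pow_orderOf_eq_one, one_zpow]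
  have hle : orderOf g ≤ 4 := Nat.le_of_dvd (by norm_num) (orderOf_dvd_of_pow_eq_one hg4)
  rw [hx]
  have : 8 ≤ 2 ^ n := by
    calc 8 = 2 ^ 3 := by norm_num
      _ ≤ 2 ^ n := Nat.pow_le_pow_right (by norm_num) hn
  omega

/-- The automorphism group of a dihedral 2-group of order at least 8, or of a quasi-dihedral (semidihedral) 2-group of order at least 16, is a 2-group. -/
theorem result {X : Type*} [Group X] [Finite X] (h2 : IsPGroup 2 X)
    (h : (∃ n : ℕ, 4 ≤ n ∧ Nonempty (X ≃* DihedralGroup n)) ∨ Cfsg.IsQuasiDihedral X) : IsPGroup 2 (MulAut X) := by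
  rcases h with ⟨m, hm, ⟨e⟩⟩ | h
  · have h3 : IsPGroup 2 (DihedralGroup m) := h2.of_equiv e
    have h4 := dihedral_case m hm h3
    exact h4.of_equiv (MulAut.congr e).symm
  · exact quasi_case h

end Cfsg.Agent.S3116
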