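import Cfsg.Statements.S5276
import Cfsg.Agent.Lib.Helper87.FSBurn
import Cfsg.Agent.Lib.Helper63.PFrattini

set_option autoImplicit false
open Cfsg

namespace Cfsg.Agent.S5276

/-- Let p be a prime and F a saturated fusion system over a finite p-group S. Then F is the inner fusion system of S if and only if the normalizer fusion system of S itself in F is the inner fusion system (equivalently, Aut_F(S) is induced by S) and the Frattini subgroup Φ(S) is strongly closed in F. -/
theorem result {Ω : Type*} [Group Ω] {S : Subgroup Ω} [Finite S] (p : ℕ) [Fact p.Prime] (hS : IsPGroup p ↥S) (F : Cfsg.FusionSystem S) (hF : F.IsSaturated p) : (∀ P : Subgroup Ω, F.Hom P = (Cfsg.innerFusionSystem S).Hom P) ↔ (∀ N : Cfsg.FusionSystem (Cfsg.FusionSystem.normalizerIn S S), F.IsNormalizerSystem S N → ∀ P : Subgroup Ω, N.Hom P = (Cfsg.innerFusionSystem (Cfsg.FusionSystem.normalizerIn S S)).Hom P) ∧ F.StronglyClosed ((frattini ↥S).map S.subtype) := by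
  constructor
  · intro hFi
    constructor
    · intro N hNs P
      rw [hNs P]
      ext φ
      constructor
      · rintro ⟨hφ, hP, -, -⟩
        rw [hFi P] at hφ
        obtain ⟨-, g, hg, h⟩ := hφ
        exact ⟨hP, g, ⟨hg, Subgroup.le_normalizer hg⟩, h⟩
      · rintro ⟨hP, g, hg, h⟩
        have hPS : P ≤ S := hP.trans inf_le_left
        have hφ : φ ∈ F.Hom P := by
          rw [hFi P]
          exact ⟨hPS, g, hg.1, h⟩
        refine ⟨hφ, hP, fun x => ?_, Cfsg.conjHom (P ⊔ S) g,
          F.conj_mem (sup_le hPS le_rfl) hg.1, fun x => (h x).symm, ?_⟩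
        · have h1 := Cfsg.Agent.Lib.Helper87.FSBasic.map_mem F hφ x
          exact ⟨h1, Subgroup.le_normalizer h1⟩
        · apply le_antisymm
          · rintro _ ⟨y, hy, rfl⟩
            exact S.mul_mem (S.mul_mem hg.1 (Subgroup.mem_subgroupOf.mp hy)) (S.inv_mem hg.1)
          · intro s hs
            have hs' : g⁻¹ * s * g ∈ S := S.mul_mem (S.mul_mem (S.inv_mem hg.1) hs) hg.1
            refine ⟨⟨g⁻¹ * s * g, (le_sup_right : S ≤ P ⊔ S) hs'⟩,
              Subgroup.mem_subgroupOf.mpr hs', ?_⟩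
            show g * (g⁻¹ * s * g) * g⁻¹ = s
            group
    · refine ⟨Subgroup.map_subtype_le _, ?_⟩
      intro R hR φ hφ x
      rw [hFi R] at hφ
      obtain ⟨-, g, hg, h⟩ := hφ
      rw [h x]
      obtain ⟨y, hy, hyx⟩ := hR x.2
      have hn : (frattini ↥S).Normal := inferInstance
      refine ⟨⟨g, hg⟩ * y * ⟨g, hg⟩⁻¹, hn.conj_mem y hy ⟨g, hg⟩, ?_⟩
      rw [← hyx]
      rfl
  · rintro ⟨hN, hsc⟩
    have hinn := Cfsg.Agent.Lib.Helper87.FSBurn.inn_of_normalizer F hN
    have hcomm : ⁅S, S⁆ ≤ (frattini ↥S).map S.subtype := by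
      rw [← Subgroup.map_subtype_commutator]
      exact Subgroup.map_mono (Cfsg.Agent.Lib.Helper63.PFrattini.commutator_le_frattini hS)
    exact Cfsg.Agent.Lib.Helper87.FSBurn.eq_inner_of_stronglyClosed hS F hF hinn _ hsc hcomm le_rfl

end Cfsg.Agent.S5276
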