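import Cfsg.Statements.S5256
import Cfsg.Agent.Lib.Helper87.FSBasic
import Cfsg.Agent.Lib.Helper87.FSSat
import Cfsg.Agent.Lib.Helper87.FSHyp
import Cfsg.Agent.Lib.Helper87.FSHyp2
import Cfsg.Agent.Lib.Helper87.FSQuot

set_option autoImplicit false
open Cfsg

namespace Cfsg.Agent.S5256

open Cfsg.Agent.Lib.Helper87.FSBasic Cfsg.Agent.Lib.Helper87.FSSat
  Cfsg.Agent.Lib.Helper87.FSHyp Cfsg.Agent.Lib.Helper87.FSHyp2 Cfsg.Agent.Lib.Helper87.FSQuot

/-- An `F`-automorphism of order prime to `p` induces, modulo `T`, an element of `O^p` of the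
automorphism group of the factor system. -/
theorem coreA {Ω : Type*} [Group Ω] {S : Subgroup Ω} [Finite S] {p : ℕ} [Fact p.Prime]
    (hS : IsPGroup p S) (F : Cfsg.FusionSystem S) (hF : F.IsSaturated p) (T : Subgroup Ω)
    (hT : F.StronglyClosed T) {Ω' : Type*} [Group Ω'] {S' : Subgroup Ω'} (θ : ↥S →* Ω')
    (E : Cfsg.FusionSystem S') (hE : F.IsFactorSystem T θ E) (hθ : ∀ s, θ s ∈ S')
    {P : Subgroup Ω} (hP : P ≤ S) (g : F.autGroup P) (hg : Nat.Coprime (orderOf g) p) (x : P) :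
    (θ ⟨x, hP x.2⟩)⁻¹ * θ ⟨((g : MulAut P) x : P), hP ((g : MulAut P) x).2⟩ ∈
      E.hyperfocalSubgroup p := by
  have hgF := autGroup_hom F hP g.2
  obtain ⟨-, φ', hφ', hP₁, hφS, hP', hind⟩ := le_indSys hS F hF T hT θ E hE hθ P hgF
  have hind' : ∀ z : P, φ' ⟨θ ⟨z, hP z.2⟩, hP' z⟩ =
      θ ⟨((g : MulAut P) z : P), hP ((g : MulAut P) z).2⟩ := fun z => hind z
  have hr' : φ'.range = Cfsg.FusionSystem.imageAlong θ P := by
    apply le_antisymm
    · rintro _ ⟨y, rfl⟩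
      obtain ⟨z, hz⟩ := exists_of_mem_imageAlong θ hP y.2
      have e : y = ⟨θ ⟨z, hP z.2⟩, hP' z⟩ := Subtype.ext hz.symm
      rw [e, hind' z]
      exact imageAlong_mem θ hP ((g : MulAut P) z)
    · intro y hy
      obtain ⟨z, hz⟩ := exists_of_mem_imageAlong θ hP hy
      refine ⟨⟨θ ⟨((g : MulAut P)⁻¹ z : P), hP ((g : MulAut P)⁻¹ z).2⟩,
        hP' ((g : MulAut P)⁻¹ z)⟩, ?_⟩
      rw [hind', ← hz]
      have e2 : (g : MulAut P) ((g : MulAut P)⁻¹ z) = z := by simp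
      have e3 : (((g : MulAut P) ((g : MulAut P)⁻¹ z) : P) : Ω) = (z : Ω) := by rw [e2]
      exact congrArg θ (Subtype.ext e3)
  have ha' : autOfMap φ' (E.injective_of_mem hφ') hr' ∈
      E.autGroup (Cfsg.FusionSystem.imageAlong θ P) := autOfMap_mem E hφ' hr'
  have hpow : ∀ k : ℕ, ∀ z : P,
      (((autOfMap φ' (E.injective_of_mem hφ') hr' ^ k) ⟨θ ⟨z, hP z.2⟩, hP' z⟩ :
        Cfsg.FusionSystem.imageAlong θ P) : Ω') =
      θ ⟨(((g : MulAut P) ^ k) z : P), hP (((g : MulAut P) ^ k) z).2⟩ := by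
    intro k
    induction k with
    | zero => intro z; rfl
    | succ k ih =>
      intro z
      have e : autOfMap φ' (E.injective_of_mem hφ') hr' ⟨θ ⟨z, hP z.2⟩, hP' z⟩ =
          ⟨θ ⟨((g : MulAut P) z : P), hP ((g : MulAut P) z).2⟩, hP' _⟩ := Subtype.ext (hind' z)
      rw [pow_succ, pow_succ]
      show (((autOfMap φ' (E.injective_of_mem hφ') hr' ^ k)
        (autOfMap φ' (E.injective_of_mem hφ') hr' ⟨θ ⟨z, hP z.2⟩, hP' z⟩) :
        Cfsg.FusionSystem.imageAlong θ P) : Ω') = _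
      rw [e, ih]
      rfl
  have hgpow : (g : MulAut P) ^ orderOf g = 1 := by
    have h1 : g ^ orderOf g = 1 := pow_orderOf_eq_one g
    exact congrArg Subtype.val h1
  have hone : autOfMap φ' (E.injective_of_mem hφ') hr' ^ orderOf g = 1 := by
    apply MulEquiv.ext
    intro y
    obtain ⟨z, hz⟩ := exists_of_mem_imageAlong θ hP y.2
    have e : y = ⟨θ ⟨z, hP z.2⟩, hP' z⟩ := Subtype.ext hz.symm
    apply Subtype.ext
    rw [e, hpow, hgpow]
    rfl
  have hcop : Nat.Coprime (orderOf (⟨autOfMap φ' (E.injective_of_mem hφ') hr', ha'⟩ :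
      E.autGroup (Cfsg.FusionSystem.imageAlong θ P))) p := by
    have h1 : (⟨autOfMap φ' (E.injective_of_mem hφ') hr', ha'⟩ :
        E.autGroup (Cfsg.FusionSystem.imageAlong θ P)) ^ orderOf g = 1 := Subtype.ext hone
    exact Nat.Coprime.coprime_dvd_left (orderOf_dvd_of_pow_eq_one h1) hg
  have hmem := gen_mem E p (imageAlong_le θ hθ P) ⟨autOfMap φ' (E.injective_of_mem hφ') hr', ha'⟩
    (Subgroup.subset_closure hcop) ⟨θ ⟨x, hP x.2⟩, hP' x⟩
  have e : ((autOfMap φ' (E.injective_of_mem hφ') hr' ⟨θ ⟨x, hP x.2⟩, hP' x⟩ :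
      Cfsg.FusionSystem.imageAlong θ P) : Ω') =
      θ ⟨((g : MulAut P) x : P), hP ((g : MulAut P) x).2⟩ := hind' x
  have hmem' : (θ ⟨x, hP x.2⟩)⁻¹ *
      ((autOfMap φ' (E.injective_of_mem hφ') hr' ⟨θ ⟨x, hP x.2⟩, hP' x⟩ :
      Cfsg.FusionSystem.imageAlong θ P) : Ω') ∈ E.hyperfocalSubgroup p := hmem
  rw [e] at hmem'
  exact hmem'

/-- An automorphism of order prime to `p` in the factor system contributes to the image of the
hyperfocal subgroup of `F`. -/
theorem coreB {Ω : Type*} [Group Ω] {S : Subgroup Ω} [Finite S] {p : ℕ} [Fact p.Prime]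
    (F : Cfsg.FusionSystem S) (T : Subgroup Ω) {Ω' : Type*} [Group Ω'] {S' : Subgroup Ω'}
    (θ : ↥S →* Ω') (E : Cfsg.FusionSystem S') (hE : F.IsFactorSystem T θ E)
    {P' : Subgroup Ω'} (hP' : P' ≤ S') (g' : E.autGroup P') (hg' : Nat.Coprime (orderOf g') p)
    (x' : P') :
    (x' : Ω')⁻¹ * ((g' : MulAut P') x' : P') ∈
      ((F.hyperfocalSubgroup p).subgroupOf S).map θ := by
  obtain ⟨hTS, hkerθ, hrange, hiff⟩ := hE
  have hgE := autGroup_hom E hP' g'.2
  obtain ⟨-, φ, hφ, hK, hφS, hKP', hind⟩ := (hiff P' _).mp hgE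
  have hind' : ∀ z : Cfsg.FusionSystem.preimageAlong θ P',
      (((g' : MulAut P') ⟨θ ⟨z, hK z.2⟩, hKP' z⟩ : P') : Ω') = θ ⟨φ z, hφS z⟩ := fun z => hind z
  have hfinK : Finite (Cfsg.FusionSystem.preimageAlong θ P') := finite_of_le hK
  have hr : φ.range = Cfsg.FusionSystem.preimageAlong θ P' := by
    apply Subgroup.eq_of_le_of_card_ge
    · rintro _ ⟨z, rfl⟩
      rw [mem_preimageAlong_iff]
      refine ⟨hφS z, ?_⟩
      rw [← hind' z]
      exact ((g' : MulAut P') _).2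
    · exact (card_range F hφ).ge
  have ha : autOfMap φ (F.injective_of_mem hφ) hr ∈
      F.autGroup (Cfsg.FusionSystem.preimageAlong θ P') := autOfMap_mem F hφ hr
  have hpow : ∀ k : ℕ, ∀ z : Cfsg.FusionSystem.preimageAlong θ P',
      ((((g' : MulAut P') ^ k) ⟨θ ⟨z, hK z.2⟩, hKP' z⟩ : P') : Ω') =
      θ ⟨((autOfMap φ (F.injective_of_mem hφ) hr ^ k) z :
        Cfsg.FusionSystem.preimageAlong θ P'), hK ((autOfMap φ (F.injective_of_mem hφ) hr ^ k) z).2⟩ := by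
    intro k
    induction k with
    | zero => intro z; rfl
    | succ k ih =>
      intro z
      have e : (g' : MulAut P') ⟨θ ⟨z, hK z.2⟩, hKP' z⟩ =
          ⟨θ ⟨(autOfMap φ (F.injective_of_mem hφ) hr z : Cfsg.FusionSystem.preimageAlong θ P'),
            hK (autOfMap φ (F.injective_of_mem hφ) hr z).2⟩, hKP' _⟩ := Subtype.ext (hind' z)
      rw [pow_succ, pow_succ]
      show ((((g' : MulAut P') ^ k) ((g' : MulAut P') ⟨θ ⟨z, hK z.2⟩, hKP' z⟩) : P') : Ω') = _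
      rw [e, ih]
      rfl
  obtain ⟨j, hj⟩ := pow_mem_pResidual p
    (⟨autOfMap φ (F.injective_of_mem hφ) hr, ha⟩ : F.autGroup (Cfsg.FusionSystem.preimageAlong θ P'))
  have hcop : Nat.Coprime (p ^ j) (orderOf g') := Nat.Coprime.pow_left j hg'.symm
  obtain ⟨u, hu⟩ := exists_pow_eq_self_of_coprime hcop
  have hc : (⟨autOfMap φ (F.injective_of_mem hφ) hr, ha⟩ :
      F.autGroup (Cfsg.FusionSystem.preimageAlong θ P')) ^ (p ^ j * u) ∈
      pResidual p (F.autGroup (Cfsg.FusionSystem.preimageAlong θ P')) := by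
    rw [pow_mul]
    exact Subgroup.pow_mem _ hj u
  have hx'S : (x' : Ω') ∈ θ.range := by
    rw [hrange]
    exact hP' x'.2
  obtain ⟨s, hs⟩ := hx'S
  have hsK : (s : Ω) ∈ Cfsg.FusionSystem.preimageAlong θ P' := by
    rw [mem_preimageAlong_iff]
    refine ⟨s.2, ?_⟩
    have e : (⟨(s : Ω), s.2⟩ : S) = s := rfl
    rw [e, hs]
    exact x'.2
  have hgen := gen_mem F p hK _ hc ⟨s, hsK⟩
  refine ⟨⟨_, hyperfocal_le F p hgen⟩, Subgroup.mem_subgroupOf.mpr hgen, ?_⟩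
  have h1 := hpow (p ^ j * u) ⟨s, hsK⟩
  have h2 : (g' : MulAut P') ^ (p ^ j * u) = (g' : MulAut P') := by
    rw [pow_mul]
    exact congrArg Subtype.val hu
  rw [h2] at h1
  have e1 : (⟨θ ⟨((⟨s, hsK⟩ : Cfsg.FusionSystem.preimageAlong θ P') : Ω), hK hsK⟩,
      hKP' ⟨s, hsK⟩⟩ : P') = x' := Subtype.ext hs
  rw [e1] at h1
  rw [h1, ← hs, ← map_inv, ← map_mul]
  rfl

/-- Let F be a saturated fusion system over a finite p-group S, T a subgroup of S strongly closed in F, and E a factor system F/T realised along a homomorphism θ of S with kernel T. Then the hyperfocal subgroup of E is the image under θ of the hyperfocal subgroup of F (hyp(F/T) = T·hyp(F)/T). -/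
theorem result {Ω : Type*} [Group Ω] {S : Subgroup Ω} [Finite S] (p : ℕ) [Fact p.Prime] (hS : IsPGroup p S) (F : Cfsg.FusionSystem S) (hF : F.IsSaturated p) (T : Subgroup Ω) (hT : F.StronglyClosed T) {Ω' : Type*} [Group Ω'] {S' : Subgroup Ω'} (θ : ↥S →* Ω') (E : Cfsg.FusionSystem S') (hE : F.IsFactorSystem T θ E) : E.hyperfocalSubgroup p = ((F.hyperfocalSubgroup p).subgroupOf S).map θ := by
  have hθ : ∀ s : S, θ s ∈ S' := by
    intro s
    rw [← hE.2.2.1]
    exact ⟨s, rfl⟩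
  apply le_antisymm
  · exact hyperfocal_le_of E p _ (fun P' hP' g' hg' x' => coreB F T θ E hE hP' g' hg' x')
  · have h1 : F.hyperfocalSubgroup p ≤
        Cfsg.FusionSystem.preimageAlong θ (E.hyperfocalSubgroup p) := by
      refine hyperfocal_le_of F p _ (fun P hP g hg x => ?_)
      rw [mem_preimageAlong_iff]
      refine ⟨S.mul_mem (S.inv_mem (hP x.2)) (hP ((g : MulAut P) x).2), ?_⟩
      have h := coreA hS F hF T hT θ E hE hθ hP g hg x
      rw [← map_inv, ← map_mul] at h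
      exact h
    rintro _ ⟨s, hs, rfl⟩
    obtain ⟨hsS, h⟩ := (mem_preimageAlong_iff θ _ _).mp (h1 (Subgroup.mem_subgroupOf.mp hs))
    exact h

end Cfsg.Agent.S5256
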