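import Cfsg.Statements.S0887
import Mathlib
import Cfsg.Agent.Lib.Helper78.ProjLift

set_option autoImplicit false
open Cfsg

namespace Cfsg.Agent.S0887

/-- Let N be a normal subgroup of the finite group G, χ an irreducible character of G and ϑ an irreducible character of N having nonzero inner product with the restriction of χ. If χ 1 = c and ϑ 1 = d as natural numbers, then d divides c and c / d divides the index of N. -/
theorem result {G : Type*} [Group G] [Fintype G] (N : Subgroup G) [N.Normal] [Fintype N] (χ : G → ℂ) (hχ : Cfsg.IsIrrCharacter G χ) (ϑ : N → ℂ) (hϑ : Cfsg.IsIrrCharacter N ϑ) (hcon : Cfsg.classInner (fun n : N => χ n) ϑ ≠ 0) (c d : ℕ) (hc : χ 1 = c) (hd : ϑ 1 = d) : d ∣ c ∧ c / d ∣ N.index := by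
  classical
  have hN : N.Normal := inferInstance
  let T : Subgroup G := Cfsg.Agent.Lib.Helper78.CliffordCorr.inertia N hN ϑ
  have hNT : N ≤ T := Cfsg.Agent.Lib.Helper78.CliffordCorr.le_inertia N hN
    (Cfsg.Agent.Lib.CT.Wedderburn.char_isClassFunction
      (Cfsg.Agent.Lib.CT.Wedderburn.isCharacter_of_irr hϑ))
  have : Fintype T := Fintype.ofFinite _
  obtain ⟨ψ, e, hψ, hind, he0, he, hψH, hdeg⟩ :=
    Cfsg.Agent.Lib.Helper78.CliffordCorr.clifford_corr N hN ϑ hϑ T
      (Cfsg.Agent.Lib.Helper78.CliffordCorr.mem_inertia N hN ϑ) hNT χ hχ hcon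
  have hcc : charDegree χ = c := by
    have h := (Cfsg.Agent.Lib.CT.Wedderburn.char_natCast_charDegree
      (Cfsg.Agent.Lib.CT.Wedderburn.isCharacter_of_irr hχ)).trans hc
    exact_mod_cast h
  have hdd : charDegree ϑ = d := by
    have h := (Cfsg.Agent.Lib.CT.Wedderburn.char_natCast_charDegree
      (Cfsg.Agent.Lib.CT.Wedderburn.isCharacter_of_irr hϑ)).trans hd
    exact_mod_cast h
  rw [hcc, hdd] at hdeg
  have hdpos : 0 < d := by
    rw [← hdd]
    exact Cfsg.Agent.Lib.CT.Wedderburn.irr_charDegree_pos hϑ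
  refine ⟨⟨e * T.index, by rw [hdeg]; ring⟩, ?_⟩
  have hcd : c / d = e * T.index := by
    rw [hdeg]
    exact Nat.mul_div_cancel _ hdpos
  rw [hcd]
  let N' : Subgroup T := N.subgroupOf T
  have hN' : N'.Normal := inferInstance
  let ι : N' ≃* N := Subgroup.subgroupOfEquivOfLe hNT
  let ϑ' : N' → ℂ := fun n' => ϑ (ι n')
  have hϑ' : IsIrrCharacter N' ϑ' := Cfsg.Agent.Lib.CT.Ops.isIrrCharacter_comp_mulEquiv ι hϑ
  have hres : ∀ n' : N', ψ n' = e * ϑ' n' := by
    intro n'
    have h := hψH (ι n')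
    have e1 : (⟨((ι n' : N) : G), hNT (ι n').2⟩ : T) = (n' : T) := Subtype.ext rfl
    rw [e1] at h
    exact h
  have hdvd := Cfsg.Agent.Lib.Helper78.ProjLift.dvd_index_of_restrict_eq N' ψ hψ ϑ' hϑ' e he0 hres
  have h1 : N'.index = N.relIndex T := rfl
  have h2 := Subgroup.relIndex_mul_index hNT
  rw [← h2, ← h1]
  exact Nat.mul_dvd_mul hdvd (dvd_refl _)

end Cfsg.Agent.S0887
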