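import Mathlib
import Cfsg.Statements.S4456
import Cfsg.Agent.Lib.Helper4.TateCor
import Cfsg.Agent.Lib.CT.LinChar
import Cfsg.Agent.Lib.CT.IndChar
import Cfsg.Agent.Lib.CT.FrobRec
import Cfsg.Agent.Lib.Helper80.Restrict
import Cfsg.Agent.Lib.Helper80.Integrality
import Cfsg.Agent.Lib.Helper3.Irr
-- import your own Cfsg.Agent.* helpers here

set_option autoImplicit false
open Cfsg

namespace Cfsg.Agent.S4456

/-- Under the hypothesis of Thompson's theorem, every linear character of a subgroup of index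
prime to `p` extends to a linear character of `G`. -/
theorem ext_linear {G : Type*} [Group G] [Finite G] (p : ℕ)
    (hdeg : ∀ χ : Cfsg.IrrCharacter G, Cfsg.charDegree (χ : G → ℂ) ≠ 1 →
      p ∣ Cfsg.charDegree (χ : G → ℂ))
    (P : Subgroup G) (hP : ¬ p ∣ P.index) (lam : P →* ℂˣ) :
    ∃ χ : G →* ℂˣ, ∀ x : P, χ (x : G) = lam x := by
  classical
  haveI : Fintype G := Fintype.ofFinite G
  haveI : Fintype P := Fintype.ofFinite P
  haveI := Cfsg.Agent.Lib.Helper3.Irr.finite_irrCharacter (G := G)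
  haveI : Fintype (Cfsg.IrrCharacter G) := Fintype.ofFinite _
  let θ : P → ℂ := fun x => ((lam x : ℂˣ) : ℂ)
  have hθ : Cfsg.IsCharacter P θ := Cfsg.Agent.Lib.CT.LinChar.isCharacter_of_hom lam
  have hΨ : Cfsg.IsCharacter G (Cfsg.indFun P θ) :=
    Cfsg.Agent.Lib.CT.IndChar.isCharacter_indFun P θ hθ
  obtain ⟨m, hm1, -, hm3, -⟩ := Cfsg.Agent.Lib.Helper80.Restrict.exists_mult hΨ
  have hdegΨ : Cfsg.charDegree (Cfsg.indFun P θ) = P.index := by
    have h1 := Cfsg.Agent.Lib.Helper80.Integrality.apply_one_eq_charDegree hΨ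
    rw [Cfsg.Agent.Lib.CT.FrobRec.indFun_one] at h1
    have h2 : θ 1 = 1 := by simp [θ]
    rw [h2, mul_one] at h1
    exact_mod_cast h1.symm
  have hex : ∃ ψ : Cfsg.IrrCharacter G, m ψ ≠ 0 ∧ ¬ p ∣ Cfsg.charDegree (ψ : G → ℂ) := by
    by_contra hcon
    push Not at hcon
    apply hP
    rw [← hdegΨ, hm3]
    apply Finset.dvd_sum
    intro ψ _
    by_cases h0 : m ψ = 0
    · simp [h0]
    · exact Dvd.dvd.mul_left (hcon ψ h0) _
  obtain ⟨ψ, hmψ, hpψ⟩ := hex
  have hψ1 : Cfsg.charDegree (ψ : G → ℂ) = 1 := by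
    by_contra h; exact hpψ (hdeg ψ h)
  have hψchar : Cfsg.IsCharacter G (ψ : G → ℂ) :=
    Cfsg.Agent.Lib.Helper3.Irr.IsIrrCharacter.isCharacter ψ.2
  have hψone : (ψ : G → ℂ) 1 = 1 := by
    rw [Cfsg.Agent.Lib.Helper80.Integrality.apply_one_eq_charDegree hψchar, hψ1]; simp
  obtain ⟨f, hf⟩ := Cfsg.Agent.Lib.CT.LinChar.exists_hom_of_isCharacter _ hψchar hψone
  refine ⟨f, ?_⟩
  have hrec := Cfsg.Agent.Lib.CT.FrobRec.frobenius_reciprocity P θ (ψ : G → ℂ)
    (Cfsg.Agent.Lib.Helper3.Irr.IsIrrCharacter.isClassFunction ψ.2)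
  rw [hm1] at hrec
  let a : Cfsg.IrrCharacter P := ⟨θ, Cfsg.Agent.Lib.CT.LinChar.isIrrCharacter_of_hom lam⟩
  let b : Cfsg.IrrCharacter P := ⟨fun h : P => (((f.comp P.subtype) h : ℂˣ) : ℂ),
    Cfsg.Agent.Lib.CT.LinChar.isIrrCharacter_of_hom (f.comp P.subtype)⟩
  have hb : (fun h : P => (ψ : G → ℂ) h) = (b : P → ℂ) := by
    funext h
    exact hf h
  rw [hb] at hrec
  have horth := Cfsg.Agent.Lib.Helper3.Irr.irr_orthonormal a b
  have hab : a = b := by
    by_contra hne
    rw [if_neg hne] at horth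
    have h0 : (m ψ : ℂ) = 0 := by rw [hrec]; exact horth
    exact hmψ (by exact_mod_cast h0)
  intro x
  have h1 : (a : P → ℂ) x = (b : P → ℂ) x := by rw [hab]
  have h2 : ((lam x : ℂˣ) : ℂ) = ((f (x : G) : ℂˣ) : ℂ) := h1
  exact (Units.ext h2).symm

/-- Let p be a prime and G a finite group such that p divides the degree of every irreducible character of G of degree greater than one. Then G has a normal p-complement: a normal subgroup of order prime to p whose index is a power of p. -/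
theorem result {G : Type*} [Group G] [Finite G] (p : ℕ) (hp : p.Prime) (hdeg : ∀ χ : Cfsg.IrrCharacter G, Cfsg.charDegree (χ : G → ℂ) ≠ 1 → p ∣ Cfsg.charDegree (χ : G → ℂ)) : ∃ N : Subgroup G, N.Normal ∧ (Nat.card N).Coprime p ∧ ∃ k : ℕ, N.index = p ^ k := by
  classical
  haveI : Fact p.Prime := ⟨hp⟩
  obtain P : Sylow p G := default
  let N : Subgroup G :=
    ⨅ χ : {χ : G →* ℂˣ // ∃ k : ℕ, ∀ g, χ g ^ (p ^ k) = 1}, (χ : G →* ℂˣ).ker
  haveI hNn : N.Normal := Subgroup.normal_iInf_normal (fun χ => inferInstance)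
  have hres : Cfsg.pResidual p G ≤ N := by
    unfold Cfsg.pResidual
    rw [Subgroup.closure_le]
    intro g hg
    have hg' : Nat.Coprime (orderOf g) p := hg
    show g ∈ N
    rw [Subgroup.mem_iInf]
    rintro ⟨χ, k, hk⟩
    show χ g = 1
    have h1 : χ g ^ (orderOf g) = 1 := by rw [← map_pow, pow_orderOf_eq_one, map_one]
    have h2 := pow_gcd_eq_one.mpr ⟨h1, hk g⟩
    have h3 : Nat.gcd (orderOf g) (p ^ k) = 1 := Nat.Coprime.pow_right k hg'
    rw [h3, pow_one] at h2
    exact h2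
  have hM : ∀ M : Subgroup (P : Subgroup G), M.Normal → M.index = p →
      N.subgroupOf (P : Subgroup G) ≤ M := by
    intro M hMn hMi x hx
    by_contra hxM
    haveI := hMn
    have hcard : Nat.card ((P : Subgroup G) ⧸ M) = p := by
      rw [← Subgroup.index_eq_card]; exact hMi
    haveI hcyc : IsCyclic ((P : Subgroup G) ⧸ M) := isCyclic_of_prime_card hcard
    letI : CommGroup ((P : Subgroup G) ⧸ M) := IsCyclic.commGroup
    have ha : (QuotientGroup.mk' M x) ≠ 1 := fun h => hxM ((QuotientGroup.eq_one_iff x).mp h)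
    obtain ⟨φ, hφ⟩ :=
      CommGroup.exists_apply_ne_one_of_hasEnoughRootsOfUnity ((P : Subgroup G) ⧸ M) ℂ ha
    let lam : (P : Subgroup G) →* ℂˣ := φ.comp (QuotientGroup.mk' M)
    obtain ⟨χ, hχ⟩ := ext_linear p hdeg (P : Subgroup G) P.not_dvd_index lam
    obtain ⟨a, ha⟩ := P.2.exists_card_eq
    have hχ' : ∀ g, (χ ^ (P : Subgroup G).index) g ^ (p ^ a) = 1 := by
      intro g
      rw [MonoidHom.pow_apply, ← pow_mul, ← map_pow]
      have h := Subgroup.card_mul_index (P : Subgroup G)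
      have : g ^ ((P : Subgroup G).index * p ^ a) = 1 := by
        rw [mul_comm, ← ha]
        have h' : Nat.card (P : Subgroup G) * (P : Subgroup G).index = Nat.card G := h
        rw [h']
        exact pow_card_eq_one'
      rw [this, map_one]
    have hxker : (χ ^ (P : Subgroup G).index) (x : G) = 1 :=
      (Subgroup.mem_iInf.mp hx) ⟨χ ^ (P : Subgroup G).index, a, hχ'⟩
    have h1 : lam x ^ (P : Subgroup G).index = 1 := by
      rw [MonoidHom.pow_apply, hχ x] at hxker; exact hxker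
    have h2 : lam x ^ p = 1 := by
      show φ (QuotientGroup.mk' M x) ^ p = 1
      have h2' : (QuotientGroup.mk' M x) ^ p = 1 := by
        have := pow_card_eq_one' (G := (P : Subgroup G) ⧸ M) (x := QuotientGroup.mk' M x)
        rwa [hcard] at this
      rw [← map_pow, h2', map_one]
    have h3 := pow_gcd_eq_one.mpr ⟨h1, h2⟩
    have hcop : Nat.gcd (P : Subgroup G).index p = 1 :=
      ((Nat.Prime.coprime_iff_not_dvd hp).mpr P.not_dvd_index).symm
    rw [hcop, pow_one] at h3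
    exact hφ h3
  have hcompl := Cfsg.Agent.Lib.Helper4.TateCor.tate_sylow P N hres hM
  exact ⟨Cfsg.pResidual p G, Cfsg.Agent.Lib.Helper34.PResidual.pResidual_normal p G,
    Cfsg.Agent.Lib.Helper2.PComp.card_coprime_of_isComplement' P _ hcompl,
    Cfsg.Agent.Lib.Helper34.PResidual.exists_index_pResidual_eq hp G⟩

end Cfsg.Agent.S4456
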