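import Cfsg.Statements.S0187
import Mathlib
import Cfsg.Agent.Lib.CT.Orth

set_option autoImplicit false
open Cfsg

namespace Cfsg.Agent.S0187


open Cfsg.Agent.Lib.CT Cfsg.Agent.Lib.CT.Wedderburn in
/-- All irreducible characters are linear iff there are `|G|` of them. -/
theorem all_linear_iff_card {G : Type*} [Group G] [Finite G] :
    (∀ χ : Cfsg.IrrCharacter G, (χ : G → ℂ) 1 = 1) ↔
      Nat.card (Cfsg.IrrCharacter G) = Nat.card G := by
  classical
  haveI := Fintype.ofFinite G
  haveI := finite_irrCharacter G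
  haveI := Fintype.ofFinite (Cfsg.IrrCharacter G)
  have hsum := Orth.sum_charDegree_sq_sum (G := G)
  have hdeg : ∀ χ : Cfsg.IrrCharacter G, (χ : G → ℂ) 1 = 1 ↔ Cfsg.charDegree (χ : G → ℂ) = 1 := by
    intro χ
    constructor
    · intro h
      exact charDegree_eq_of_apply_one (by rw [h]; simp)
    · intro h
      rw [← char_natCast_charDegree (isCharacter_of_irr χ.2), h]
      simp
  have hle : ∀ χ ∈ (Finset.univ : Finset (Cfsg.IrrCharacter G)),
      1 ≤ Cfsg.charDegree (χ : G → ℂ) ^ 2 := fun χ _ =>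
    Nat.one_le_pow _ _ (irr_charDegree_pos χ.2)
  constructor
  · intro h
    rw [← hsum, Nat.card_eq_fintype_card, ← Finset.card_univ, Finset.card_eq_sum_ones]
    apply Finset.sum_congr rfl
    intro χ _
    rw [(hdeg χ).1 (h χ)]
    rfl
  · intro h χ
    rw [hdeg]
    have h1 : ∑ χ : Cfsg.IrrCharacter G, 1 = ∑ χ : Cfsg.IrrCharacter G,
        Cfsg.charDegree (χ : G → ℂ) ^ 2 := by
      rw [hsum, ← h, Nat.card_eq_fintype_card, ← Finset.card_univ, Finset.card_eq_sum_ones]
    have h2 := (Finset.sum_eq_sum_iff_of_le hle).1 h1 χ (Finset.mem_univ _)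
    have h3 : Cfsg.charDegree (χ : G → ℂ) ^ 2 = 1 := h2.symm
    rcases Nat.pow_eq_one.1 h3 with h4 | h4
    · exact h4
    · exact absurd h4 two_ne_zero

/-- A finite group is commutative iff it has `|G|` conjugacy classes. -/
theorem comm_iff_card {G : Type*} [Group G] [Finite G] :
    (∀ a b : G, a * b = b * a) ↔ Nat.card (ConjClasses G) = Nat.card G := by
  have hpos : (Nat.card G : ℚ) ≠ 0 := Nat.cast_ne_zero.mpr Nat.card_pos.ne'
  have h1 : commProb G = 1 ↔ Nat.card (ConjClasses G) = Nat.card G := by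
    rw [commProb_def', div_eq_one_iff_eq hpos]
    exact Nat.cast_inj
  rw [← h1, commProb_eq_one_iff]
  constructor
  · intro h
    exact ⟨⟨h⟩⟩
  · intro h a b
    exact h.is_comm.comm a b

/-- A finite group is commutative if and only if every irreducible complex character has degree 1. -/
theorem result {G : Type*} [Group G] [Finite G] : (∀ a b : G, a * b = b * a) ↔ ∀ χ : Cfsg.IrrCharacter G, (χ : G → ℂ) 1 = 1 := by
  rw [all_linear_iff_card, comm_iff_card, Cfsg.Agent.Lib.CT.Orth.card_irrCharacter]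

end Cfsg.Agent.S0187
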