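import Cfsg.Statements.S4602
import Cfsg.Agent.Lib.Helper76.PSolv

set_option autoImplicit false
open Cfsg

namespace Cfsg.Agent.S4602

open Subgroup Cfsg.Agent.Lib.Helper76.PSolv

/-- If a Sylow `p`-subgroup normalizes a Sylow `q`-subgroup of a `p`-solvable group (`p ≠ q`),
then the Sylow `q`-subgroup lies in the `p'`-core. -/
theorem sylow_le_pPrimeCore {G : Type*} [Group G] [Finite G] (p q : ℕ) [Fact p.Prime]
    [Fact q.Prime] (hpq : p ≠ q) (hsolv : Cfsg.IsPSolvable p G) (P : Sylow p G) (Q : Sylow q G)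
    (hPQ : (P : Subgroup G) ≤ Subgroup.normalizer ((Q : Subgroup G) : Set G)) :
    (Q : Subgroup G) ≤ Cfsg.pPrimeCore p G := by
  set K := Cfsg.pPrimeCore p G with hK
  have hKn : K.Normal := inferInstance
  set φ := QuotientGroup.mk' K with hφ
  have hsurj : Function.Surjective φ := QuotientGroup.mk'_surjective K
  have hcore : Cfsg.pPrimeCore p (G ⧸ K) = ⊥ := pPrimeCore_quotient p
  have hsolv' : Cfsg.IsPSolvable p (G ⧸ K) := isPSolvable_quotient p K hsolv
  have hHH := centralizer_pCore_le p hsolv' hcore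
  set U := Cfsg.pCore p (G ⧸ K) with hU
  have hUn : U.Normal := inferInstance
  have hUp : IsPGroup p U := pCore_isPGroup p
  have hUP : U ≤ (P : Subgroup G).map φ := pCore_le_sylow (P.mapSurjective hsurj)
  set Qb := (Q : Subgroup G).map φ with hQb
  have hQbq : IsPGroup q Qb := Q.2.map φ
  have hPN : (P : Subgroup G).map φ ≤ normalizer (Qb : Set (G ⧸ K)) :=
    (Subgroup.map_mono hPQ).trans (le_normalizer_map φ)
  have hdisj : Disjoint U Qb := IsPGroup.disjoint_of_ne p q hpq U Qb hUp hQbq
  have hQC : Qb ≤ centralizer (U : Set (G ⧸ K)) := by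
    intro x hx
    rw [Subgroup.mem_centralizer_iff]
    intro u hu
    have hu' : u ∈ U := hu
    have huN : u ∈ normalizer (Qb : Set (G ⧸ K)) := hPN (hUP hu')
    have h1 : x * u * x⁻¹ * u⁻¹ ∈ U :=
      U.mul_mem (hUn.conj_mem u hu' x) (U.inv_mem hu')
    have h2 : x * u * x⁻¹ * u⁻¹ ∈ Qb := by
      have h3 : u * x⁻¹ * u⁻¹ ∈ Qb := (Subgroup.mem_normalizer_iff.mp huN x⁻¹).mp (Qb.inv_mem hx)
      have h4 : x * u * x⁻¹ * u⁻¹ = x * (u * x⁻¹ * u⁻¹) := by group
      rw [h4]
      exact Qb.mul_mem hx h3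
    have h5 : x * u * x⁻¹ * u⁻¹ = 1 := by
      have : x * u * x⁻¹ * u⁻¹ ∈ U ⊓ Qb := ⟨h1, h2⟩
      rw [hdisj.eq_bot] at this
      exact this
    have h6 : x * u = u * x := by
      have := congrArg (fun y => y * u * x) h5
      simpa [mul_assoc] using this
    exact h6.symm
  have hQbot : Qb = ⊥ := by
    have h1 : Qb ≤ U ⊓ Qb := le_inf (hQC.trans hHH) le_rfl
    rw [hdisj.eq_bot] at h1
    exact le_bot_iff.mp h1
  have := (Subgroup.map_eq_bot_iff (Q : Subgroup G)).mp hQbot
  rwa [QuotientGroup.ker_mk'] at this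

/-- Let G be a finite p-solvable group and q a prime different from p. Some Sylow p-subgroup of G normalizes some Sylow q-subgroup of G if and only if q does not divide the order of G/O_{p'}(G), the quotient by the largest normal subgroup of order prime to p. -/
theorem result {G : Type*} [Group G] [Finite G] (p q : ℕ) [Fact p.Prime] [Fact q.Prime] (hpq : p ≠ q) (hsolv : Cfsg.IsPSolvable p G) :
    (∃ (P : Sylow p G) (Q : Sylow q G), (P : Subgroup G) ≤ Subgroup.normalizer ((Q : Subgroup G) : Set G)) ↔ ¬ q ∣ (Cfsg.pPrimeCore p G).index := by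
  set K := Cfsg.pPrimeCore p G with hK
  have hKn : K.Normal := inferInstance
  have hKc : (Nat.card K).Coprime p := pPrimeCore_coprime p
  constructor
  · rintro ⟨P, Q, hPQ⟩
    have hQK : (Q : Subgroup G) ≤ K := sylow_le_pPrimeCore p q hpq hsolv P Q hPQ
    intro hdvd
    exact Q.not_dvd_index (hdvd.trans (Subgroup.index_dvd_of_le hQK))
  · intro hq
    obtain ⟨Q⟩ := (inferInstance : Nonempty (Sylow q G))
    -- `Q ≤ K`
    have hQK : (Q : Subgroup G) ≤ K := by
      set Qb := (Q : Subgroup G).map (QuotientGroup.mk' K) with hQb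
      have hQbq : IsPGroup q Qb := Q.2.map _
      obtain ⟨j, hj⟩ := hQbq.exists_card_eq
      have hdvd : Nat.card Qb ∣ K.index := by
        rw [Subgroup.index_eq_card]
        exact Subgroup.card_subgroup_dvd_card Qb
      have hj0 : j = 0 := by
        by_contra hne
        apply hq
        rw [hj] at hdvd
        exact (dvd_pow_self q hne).trans hdvd
      rw [hj0, pow_zero] at hj
      have hbot : Qb = ⊥ := Subgroup.card_eq_one.mp hj
      have := (Subgroup.map_eq_bot_iff (Q : Subgroup G)).mp hbot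
      rwa [QuotientGroup.ker_mk'] at this
    -- Frattini argument
    have hfrat : normalizer ((Q : Subgroup G) : Set G) ⊔ K = ⊤ := Sylow.normalizer_sup_eq_top' Q hQK
    set M := normalizer ((Q : Subgroup G) : Set G) with hM
    -- `M → G ⧸ K` is surjective
    have hsurj : Function.Surjective ((QuotientGroup.mk' K).comp M.subtype) := by
      intro y
      obtain ⟨g, rfl⟩ := QuotientGroup.mk'_surjective K y
      have hg : g ∈ ((M ⊔ K : Subgroup G) : Set G) := by rw [hfrat]; trivial
      rw [mul_normal] at hg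
      obtain ⟨m, hm, k, hk, rfl⟩ := hg
      refine ⟨⟨m, hm⟩, ?_⟩
      simp only [MonoidHom.coe_comp, Function.comp_apply, Subgroup.coe_subtype,
        QuotientGroup.mk'_apply]
      exact (QuotientGroup.mk_mul_of_mem m hk).symm
    have hdvd1 : K.index ∣ Nat.card M := by
      rw [Subgroup.index_eq_card]
      exact Subgroup.card_dvd_of_surjective _ hsurj
    have hMidx : M.index ∣ Nat.card K := by
      obtain ⟨t, ht⟩ := hdvd1
      have h1 : Nat.card M * M.index = Nat.card G := Subgroup.card_mul_index M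
      have h2 : Nat.card K * K.index = Nat.card G := Subgroup.card_mul_index K
      have hpos : 0 < K.index := Nat.pos_of_ne_zero (Subgroup.index_ne_zero_of_finite)
      have h3 : K.index * (t * M.index) = K.index * Nat.card K := by
        rw [← mul_assoc, ← ht, h1, mul_comm, h2]
      have h4 := Nat.eq_of_mul_eq_mul_left hpos h3
      exact ⟨t, by rw [← h4, mul_comm]⟩
    have hMp : ¬ p ∣ M.index := by
      intro hdvd
      have h1 : p ∣ Nat.card K := hdvd.trans hMidx
      have := Nat.Coprime.eq_one_of_dvd hKc.symm h1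
      exact (Fact.out : p.Prime).one_lt.ne' this
    obtain ⟨P₀⟩ := (inferInstance : Nonempty (Sylow p M))
    set P₁ : Subgroup G := (P₀ : Subgroup M).map M.subtype with hP₁
    have hP₁p : IsPGroup p P₁ := P₀.2.map _
    have hP₁i : ¬ p ∣ P₁.index := by
      rw [hP₁, Subgroup.index_map_subtype]
      exact Nat.Prime.not_dvd_mul (Fact.out : p.Prime) P₀.not_dvd_index hMp
    refine ⟨hP₁p.toSylow hP₁i, Q, ?_⟩
    intro x hx
    have hx' : x ∈ P₁ := hx
    obtain ⟨y, -, rfl⟩ := hx'
    exact y.2

end Cfsg.Agent.S4602
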