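import Cfsg.Statements.S4601
import Cfsg.Agent.Lib.Helper76.PSolv
import Cfsg.Agent.Lib.Helper76.SylowTools
import Cfsg.Agent.S4602

set_option autoImplicit false
open Cfsg

namespace Cfsg.Agent.S4601

open Subgroup Cfsg.Agent.Lib.Helper76.PSolv Cfsg.Agent.Lib.Helper76.SylowTools

universe u

/-- A nontrivial finite `q`-solvable group has a nontrivial normal subgroup that is a `q`-group
or has order prime to `q`. -/
theorem exists_normal_of_isPSolvable {G : Type*} [Group G] [Finite G] [Nontrivial G] (q : ℕ)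
    [Fact q.Prime] (h : Cfsg.IsPSolvable q G) :
    ∃ M : Subgroup G, M.Normal ∧ M ≠ ⊥ ∧ (IsPGroup q M ∨ (Nat.card M).Coprime q) := by
  obtain ⟨n, H, h0, hlast, hmono, hnormal, hstep⟩ := h
  by_contra hno
  have key : ∀ i : Fin (n + 1), H i = ⊥ := by
    intro i
    induction i using Fin.induction with
    | zero => exact h0
    | succ j ih =>
      by_contra hne
      apply hno
      refine ⟨H j.succ, hnormal _, hne, ?_⟩
      have hs := hstep j
      rw [ih, relIndex_bot_left] at hs
      rcases hs with ⟨m, hm⟩ | hc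
      · exact Or.inl (IsPGroup.of_card hm)
      · exact Or.inr hc
  have := key (Fin.last n)
  rw [hlast] at this
  exact top_ne_bot this

/-- The class-size hypothesis passes to quotients. -/
theorem hyp_quotient {G : Type*} [Group G] [Finite G] (p q : ℕ) [Fact p.Prime] [Fact q.Prime]
    (M : Subgroup G) [M.Normal]
    (h : ∀ y : G, (∃ k : ℕ, orderOf y = q ^ k) →
      ¬ p ∣ (Subgroup.centralizer ({y} : Set G)).index) :
    ∀ y : G ⧸ M, (∃ k : ℕ, orderOf y = q ^ k) →
      ¬ p ∣ (Subgroup.centralizer ({y} : Set (G ⧸ M))).index := by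
  intro yb ⟨k, hk⟩
  set φ := QuotientGroup.mk' M with hφ
  have hsurj : Function.Surjective φ := QuotientGroup.mk'_surjective M
  have hz : IsPGroup q (zpowers yb) := IsPGroup.of_card (n := k) (by rw [Nat.card_zpowers, hk])
  obtain ⟨Qb, hQb⟩ := hz.exists_le_sylow
  obtain ⟨Q₀, hQ₀⟩ := Sylow.mapSurjective_surjective hsurj q Qb
  have hyb : yb ∈ (Q₀ : Subgroup G).map φ := by
    have : yb ∈ (Qb : Subgroup (G ⧸ M)) := hQb (mem_zpowers yb)
    rw [← hQ₀] at this
    exact this
  obtain ⟨y, hy, rfl⟩ := hyb
  have hyq : ∃ j : ℕ, orderOf y = q ^ j := by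
    obtain ⟨j, hj⟩ := (IsPGroup.iff_orderOf.mp Q₀.2) ⟨y, hy⟩
    exact ⟨j, by rw [← hj, Subgroup.orderOf_mk]⟩
  have hidx := h y hyq
  have hle : (Subgroup.centralizer ({y} : Set G)).map φ ≤
      Subgroup.centralizer ({φ y} : Set (G ⧸ M)) := by
    have := Subgroup.map_centralizer_le_centralizer_image ({y} : Set G) φ
    simpa using this
  intro hdvd
  exact hidx ((hdvd.trans (Subgroup.index_dvd_of_le hle)).trans
    (Subgroup.index_map_dvd _ hsurj))

/-- The `q`-solvable case, by induction on the order. -/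
theorem qsolv_case (p q : ℕ) [Fact p.Prime] [Fact q.Prime] :
    ∀ (n : ℕ) (G : Type u) [Group G] [Finite G], Nat.card G = n → Cfsg.IsPSolvable q G →
      (∀ y : G, (∃ k : ℕ, orderOf y = q ^ k) →
        ¬ p ∣ (Subgroup.centralizer ({y} : Set G)).index) →
      ∃ (P : Sylow p G) (Q : Sylow q G),
        (P : Subgroup G) ≤ Subgroup.normalizer ((Q : Subgroup G) : Set G) := by
  intro n
  induction n using Nat.strong_induction_on with
  | _ n ih =>
    intro G _ _ hn hsolv h
    by_cases hG : Nontrivial G
    swap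
    · rw [not_nontrivial_iff_subsingleton] at hG
      obtain ⟨P⟩ := (inferInstance : Nonempty (Sylow p G))
      obtain ⟨Q⟩ := (inferInstance : Nonempty (Sylow q G))
      refine ⟨P, Q, ?_⟩
      intro x _
      rw [Subsingleton.elim x 1]
      exact Subgroup.one_mem _
    obtain ⟨M, hMn, hMne, hM⟩ := exists_normal_of_isPSolvable q hsolv
    set φ := QuotientGroup.mk' M with hφ
    have hsurj : Function.Surjective φ := QuotientGroup.mk'_surjective M
    have hlt : Nat.card (G ⧸ M) < n := by
      have h1 : Nat.card G = Nat.card (G ⧸ M) * Nat.card M :=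
        Subgroup.card_eq_card_quotient_mul_card_subgroup M
      have h2 : 1 < Nat.card M := by
        rw [Subgroup.one_lt_card_iff_ne_bot]
        exact hMne
      have h3 : 0 < Nat.card (G ⧸ M) := Nat.card_pos
      rw [← hn, h1]
      nlinarith
    obtain ⟨Pb, Qb, hPQb⟩ := ih (Nat.card (G ⧸ M)) hlt (G ⧸ M) rfl
      (isPSolvable_quotient q M hsolv) (hyp_quotient p q M h)
    obtain ⟨P, hP⟩ := Sylow.mapSurjective_surjective hsurj p Pb
    obtain ⟨Q, hQ⟩ := Sylow.mapSurjective_surjective hsurj q Qb
    have hPL : (P : Subgroup G) ≤ normalizer (((Q : Subgroup G) ⊔ M : Subgroup G) : Set G) := by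
      intro x hx
      have h1 : φ x ∈ normalizer ((Qb : Subgroup (G ⧸ M)) : Set (G ⧸ M)) := by
        apply hPQb
        rw [← hP]
        exact Subgroup.mem_map_of_mem φ hx
      rw [← hQ] at h1
      have h2 : x ∈ (normalizer ((((Q : Subgroup G).map φ : Subgroup (G ⧸ M))) :
          Set (G ⧸ M))).comap φ := h1
      rw [Subgroup.comap_normalizer_eq_of_surjective _ hsurj, Subgroup.comap_map_eq,
        QuotientGroup.ker_mk'] at h2
      exact h2
    rcases hM with hMq | hMc
    · have hMQ : M ≤ (Q : Subgroup G) := IsPGroup.le_sylow_of_normal hMq Q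
      rw [sup_of_le_left hMQ] at hPL
      exact ⟨P, Q, hPL⟩
    · set L : Subgroup G := (Q : Subgroup G) ⊔ M with hL
      set T : Subgroup G := normalizer (L : Set G) with hT
      have hLT : L ≤ T := le_normalizer
      have hQL : (Q : Subgroup G) ≤ L := le_sup_left
      have hML : M ≤ L := le_sup_right
      obtain ⟨R, hR, hQR⟩ := exists_invariant_isSylowIn (p := p) (Q : Subgroup G) Q.2 M hMc
      have hcent : ∀ y ∈ (Q : Subgroup G), ∀ r ∈ R, r * y = y * r := by
        intro y hy
        obtain ⟨k, hk⟩ : ∃ k : ℕ, orderOf y = q ^ k := by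
          obtain ⟨j, hj⟩ := (IsPGroup.iff_orderOf.mp Q.2) ⟨y, hy⟩
          exact ⟨j, by rw [← hj, Subgroup.orderOf_mk]⟩
        have hidx := h y ⟨k, hk⟩
        obtain ⟨Py, hPy⟩ := exists_sylow_le_of_not_dvd_index _ hidx
        have hR₀ := isSylowIn_inf_normal Py M
        apply centralizes_of_normalizes M hMc y k hk hR hR₀ (hQR hy)
        intro r hr
        have h1 := hPy hr.1
        exact (Subgroup.mem_centralizer_iff.mp h1 y rfl).symm
      set A : Subgroup G := normalizer ((Q : Subgroup G) : Set G) ⊓ T with hA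
      have hfrat : T ≤ A ⊔ L := by
        have hLn : (L.subgroupOf T).Normal := Subgroup.normal_in_normalizer
        let Q' : Sylow q T := Q.subtype (hQL.trans hLT)
        have hQ'L : (Q' : Subgroup T) ≤ L.subgroupOf T := by
          intro x hx
          exact hQL hx
        have htop := Sylow.normalizer_sup_eq_top' Q' hQ'L
        intro t ht
        have ht' : (⟨t, ht⟩ : T) ∈ (⊤ : Subgroup T) := trivial
        rw [← htop, ← SetLike.mem_coe, mul_normal] at ht'
        obtain ⟨n, hn, l, hl, hnl⟩ := ht'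
        have htnl : t = (n : G) * (l : G) := by
          have := congrArg Subtype.val hnl
          simpa using this.symm
        rw [htnl]
        have hnA : (n : G) ∈ normalizer ((Q : Subgroup G) : Set G) → (n : G) ∈ A :=
          fun hh => Subgroup.mem_inf.mpr ⟨hh, n.2⟩
        refine Subgroup.mul_mem_sup (hnA ?_) hl
        rw [Subgroup.mem_normalizer_iff]
        intro g
        have hn' := Subgroup.mem_normalizer_iff.mp hn
        constructor
        · intro hg
          have hgT : g ∈ T := (hQL.trans hLT) hg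
          exact (hn' ⟨g, hgT⟩).mp hg
        · intro hg
          have hgT : g ∈ T := by
            have h1 : (n : G) * g * (n : G)⁻¹ ∈ T := (hQL.trans hLT) hg
            have h2 : g = (n : G)⁻¹ * ((n : G) * g * (n : G)⁻¹) * (n : G) := by group
            rw [h2]
            exact T.mul_mem (T.mul_mem (T.inv_mem n.2) h1) n.2
          exact (hn' ⟨g, hgT⟩).mpr hg
      have hRA : R ≤ A ⊓ M := by
        refine le_inf (le_inf ?_ (hR.1.trans (hML.trans hLT))) hR.1
        intro r hr
        apply Subgroup.centralizer_le_normalizer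
        rw [Subgroup.mem_centralizer_iff]
        intro y hy
        exact (hcent y hy r hr).symm
      have hAM : A ⊔ M = T := by
        apply le_antisymm
        · exact sup_le inf_le_right (hML.trans hLT)
        · refine hfrat.trans (sup_le le_sup_left (sup_le ?_ le_sup_right))
          exact le_sup_of_le_left (le_inf le_normalizer (hQL.trans hLT))
      have hAT : ¬ p ∣ A.relIndex T := by
        rw [← hAM, relIndex_sup_of_normal, ← inf_relIndex_right]
        intro hdvd
        exact hR.2.2 (hdvd.trans (relIndex_dvd_of_le_left M hRA))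
      have hTi : ¬ p ∣ T.index := fun hdvd =>
        P.not_dvd_index (hdvd.trans (Subgroup.index_dvd_of_le hPL))
      have hAi : ¬ p ∣ A.index := by
        rw [← relIndex_mul_index (inf_le_right : A ≤ T)]
        exact Nat.Prime.not_dvd_mul Fact.out hAT hTi
      obtain ⟨P', hP'⟩ := exists_sylow_le_of_not_dvd_index A hAi
      exact ⟨P', Q, hP'.trans inf_le_left⟩

/-- The `p`-solvable case. -/
theorem psolv_case {G : Type*} [Group G] [Finite G] (p q : ℕ) [Fact p.Prime] [Fact q.Prime]
    (hpq : p ≠ q) (hsolv : Cfsg.IsPSolvable p G)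
    (h : ∀ y : G, (∃ k : ℕ, orderOf y = q ^ k) →
      ¬ p ∣ (Subgroup.centralizer ({y} : Set G)).index) :
    ∃ (P : Sylow p G) (Q : Sylow q G),
      (P : Subgroup G) ≤ Subgroup.normalizer ((Q : Subgroup G) : Set G) := by
  apply (Cfsg.Agent.S4602.result p q hpq hsolv).mpr
  set K := Cfsg.pPrimeCore p G with hK
  set φ := QuotientGroup.mk' K with hφ
  have hsurj : Function.Surjective φ := QuotientGroup.mk'_surjective K
  have hcore : Cfsg.pPrimeCore p (G ⧸ K) = ⊥ := pPrimeCore_quotient p
  have hsolv' : Cfsg.IsPSolvable p (G ⧸ K) := isPSolvable_quotient p K hsolv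
  have hHH := centralizer_pCore_le p hsolv' hcore
  set U := Cfsg.pCore p (G ⧸ K) with hU
  have hUp : IsPGroup p U := pCore_isPGroup p
  obtain ⟨Q⟩ := (inferInstance : Nonempty (Sylow q G))
  have hQK : (Q : Subgroup G) ≤ K := by
    set Qb := (Q : Subgroup G).map φ with hQb
    have hQbq : IsPGroup q Qb := Q.2.map φ
    have hdisj : Disjoint U Qb := IsPGroup.disjoint_of_ne p q hpq U Qb hUp hQbq
    have hQC : Qb ≤ centralizer (U : Set (G ⧸ K)) := by
      rintro _ ⟨x, hx, rfl⟩
      obtain ⟨k, hk⟩ : ∃ k : ℕ, orderOf x = q ^ k := by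
        obtain ⟨j, hj⟩ := (IsPGroup.iff_orderOf.mp Q.2) ⟨x, hx⟩
        exact ⟨j, by rw [← hj, Subgroup.orderOf_mk]⟩
      have hidx := h x ⟨k, hk⟩
      obtain ⟨Px, hPx⟩ := exists_sylow_le_of_not_dvd_index _ hidx
      have hUP : U ≤ (Px : Subgroup G).map φ := pCore_le_sylow (Px.mapSurjective hsurj)
      rw [Subgroup.mem_centralizer_iff]
      intro u hu
      obtain ⟨c, hc, rfl⟩ := hUP hu
      have h1 := Subgroup.mem_centralizer_iff.mp (hPx hc) x rfl
      rw [← map_mul, ← map_mul, h1]
    have hQbot : Qb = ⊥ := by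
      have h1 : Qb ≤ U ⊓ Qb := le_inf (hQC.trans hHH) le_rfl
      rw [hdisj.eq_bot] at h1
      exact le_bot_iff.mp h1
    have := (Subgroup.map_eq_bot_iff (Q : Subgroup G)).mp hQbot
    rwa [QuotientGroup.ker_mk'] at this
  intro hdvd
  exact Q.not_dvd_index (hdvd.trans (Subgroup.index_dvd_of_le hQK))

/-- Let p and q be primes and G a finite group that is p-solvable or q-solvable, in which no q-element has conjugacy class size divisible by p. Then some Sylow p-subgroup of G normalizes some Sylow q-subgroup of G. -/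
theorem result {G : Type*} [Group G] [Finite G] (p q : ℕ) [Fact p.Prime] [Fact q.Prime] (hsolv : Cfsg.IsPSolvable p G ∨ Cfsg.IsPSolvable q G)
    (h : ∀ y : G, (∃ k : ℕ, orderOf y = q ^ k) → ¬ p ∣ (Subgroup.centralizer ({y} : Set G)).index) :
    ∃ (P : Sylow p G) (Q : Sylow q G), (P : Subgroup G) ≤ Subgroup.normalizer ((Q : Subgroup G) : Set G) := by
  by_cases hpq : p = q
  · subst hpq
    obtain ⟨P⟩ := (inferInstance : Nonempty (Sylow p G))
    exact ⟨P, P, le_normalizer⟩
  · rcases hsolv with h1 | h2
    · exact psolv_case p q hpq h1 h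
    · exact qsolv_case p q (Nat.card G) G rfl h2 h

end Cfsg.Agent.S4601
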