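import Cfsg.Statements.S0924
import Cfsg.Agent.Lib.CT.SecondMain2
import Cfsg.Agent.Lib.Helper16.IndBlock

set_option autoImplicit false
open Cfsg

namespace Cfsg.Agent.S0924

open Cfsg.Agent.Lib.CT.SecondMain Cfsg.Agent.Lib.CT.SectionOrth Cfsg.Agent.Lib.CT.DefectZeroBlock
  Cfsg.Agent.Lib.CT.Wedderburn Cfsg.Agent.Lib.Helper77.LocalRing
  Cfsg.Agent.Lib.Helper77.CentralChar Cfsg.Agent.Lib.Helper77.ClassSum
  Cfsg.Agent.Lib.Helper77.BlockIdem Cfsg.Agent.Lib.CT.WBO

/-- A central `p`-element of a finite group lies in every defect group of every block. -/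
theorem central_mem_defectGroup {C : Type*} [Group C] [Finite C] (p : ℕ) [Fact p.Prime]
    (M : Ideal AlgInt) (b : Set (IrrCharacter C)) (D : Subgroup C)
    (hD : IsDefectGroup p M b D) (x : C) (hx : ∀ c : C, x * c = c * x) (k : ℕ)
    (hk : orderOf x = p ^ k) : x ∈ D := by
  obtain ⟨g0, -, P, rfl⟩ := hD
  have hx0 : x ∈ Subgroup.centralizer ({g0} : Set C) := by
    rw [Subgroup.mem_centralizer_iff]
    intro h hh
    rw [Set.mem_singleton_iff] at hh
    rw [hh]
    exact (hx g0).symm
  have hN : (Subgroup.zpowers (⟨x, hx0⟩ : Subgroup.centralizer ({g0} : Set C))).Normal := by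
    refine ⟨fun n hn g => ?_⟩
    have : g * n * g⁻¹ = n := by
      obtain ⟨i, rfl⟩ := Subgroup.mem_zpowers_iff.mp hn
      have hc : Commute g (⟨x, hx0⟩ : Subgroup.centralizer ({g0} : Set C)) := by
        apply Subtype.ext
        exact (hx g).symm
      rw [(hc.zpow_right i).eq]
      group
    rw [this]
    exact hn
  have hpN : IsPGroup p (Subgroup.zpowers (⟨x, hx0⟩ : Subgroup.centralizer ({g0} : Set C))) :=
    IsPGroup.of_card (n := k) (by rw [Nat.card_zpowers, Subgroup.orderOf_mk, hk])
  have hle := hpN.le_sylow_of_normal P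
  exact ⟨⟨x, hx0⟩, hle (Subgroup.mem_zpowers _), rfl⟩

/-- Let χ be an irreducible character of the finite group G and g ∈ G, and fix a maximal ideal M of the algebraic integers containing the prime p. If the p-part of g is contained in no defect group of the block of χ, then χ g = 0. -/
theorem result {G : Type*} [Group G] [Finite G] (p : ℕ) [Fact p.Prime] (M : Ideal Cfsg.AlgInt) (hM : Cfsg.IsPModular p M) (χ : Cfsg.IrrCharacter G) (g x : G) (hx : Cfsg.IsPPart p g x) (hD : ∀ D : Subgroup G, Cfsg.IsDefectGroup p M (Cfsg.blockOf M (χ : G → ℂ)) D → x ∉ D) : (χ : G → ℂ) g = 0 := by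
  classical
  have hMp : M.IsPrime := isPrime_of_isPModular hM
  have hp : p.Prime := hM.1
  obtain ⟨s, hxs, hcomm, ⟨k, hk⟩, hs⟩ := hx
  have hP : IsPGroup p (Subgroup.zpowers x) :=
    IsPGroup.of_card (n := k) (by rw [Nat.card_zpowers, hk])
  have hxC : x ∈ Subgroup.centralizer ({x} : Set G) := by
    rw [Subgroup.mem_centralizer_iff]
    intro h hh
    rw [Set.mem_singleton_iff] at hh
    rw [hh]
  have hsC : s ∈ Subgroup.centralizer ({x} : Set G) := by
    rw [Subgroup.mem_centralizer_iff]
    intro h hh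
    rw [Set.mem_singleton_iff] at hh
    rw [hh]
    exact hcomm.eq
  have hcommC : ∀ c : Subgroup.centralizer ({x} : Set G), x * (c : G) = (c : G) * x := fun c =>
    Subgroup.mem_centralizer_iff.mp c.2 x (Set.mem_singleton x)
  have hPH : Subgroup.zpowers x ≤ Subgroup.centralizer ({x} : Set G) := by
    rw [Subgroup.zpowers_le]
    exact hxC
  have hCeq : Subgroup.centralizer (Subgroup.zpowers x : Set G) =
      Subgroup.centralizer ({x} : Set G) := by
    rw [Subgroup.zpowers_eq_closure, Subgroup.centralizer_closure]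
  have hCH : Subgroup.centralizer (Subgroup.zpowers x : Set G) ≤
      Subgroup.centralizer ({x} : Set G) := hCeq.le
  have hHN : Subgroup.centralizer ({x} : Set G) ≤
      Subgroup.normalizer (Subgroup.zpowers x : Set G) := by
    rw [← hCeq]
    exact Subgroup.centralizer_le_normalizer _
  have hBblk : IsPBlock M (blockOf M (χ : G → ℂ)) := ⟨χ, rfl⟩
  have hω : ∀ ψ : IrrCharacter (Subgroup.centralizer ({x} : Set G)), MemLocalIdeal M
      (omega (ψ : Subgroup.centralizer ({x} : Set G) → ℂ)
        (1 * res (Subgroup.centralizer ({x} : Set G)) (blockIdem (blockOf M (χ : G → ℂ))))) := by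
    intro ψ
    rw [one_mul]
    obtain ⟨χ', hχ'⟩ := Cfsg.Agent.Lib.Helper16.Brauer.exists_irr_brauer hM (Subgroup.zpowers x)
      (Subgroup.centralizer ({x} : Set G)) hP hCH hHN ψ
    have h1 := hχ' (blockIdem (blockOf M (χ : G → ℂ))) (blockIdem_mem_center _)
      (blockIdem_mem_intSubring hMp _ hBblk)
    have hbr : Cfsg.Agent.Lib.Helper16.Brauer.br (Subgroup.zpowers x)
        (Subgroup.centralizer ({x} : Set G)) (blockIdem (blockOf M (χ : G → ℂ))) =
        res (Subgroup.centralizer ({x} : Set G)) (blockIdem (blockOf M (χ : G → ℂ))) := by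
      ext c
      rw [Cfsg.Agent.Lib.Helper16.Brauer.coeff_br, if_pos (by rw [hCeq]; exact c.2),
        coeff_res]
    rw [hbr, omega_blockIdem] at h1
    split_ifs at h1 with hmem
    · exfalso
      have hcc : ∀ g : G, MemLocalIdeal M (brauerCentralChar (Subgroup.zpowers x)
          (Subgroup.centralizer ({x} : Set G)) (ψ : Subgroup.centralizer ({x} : Set G) → ℂ) g -
          centralChar (χ' : G → ℂ) g) := by
        intro g
        have := hχ' (classSum g) (classSum_mem_center g) (classSum_mem_intSubring M hMp g)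
        rwa [Cfsg.Agent.Lib.Helper16.Brauer.omega_br_classSum,
          omega_classSum _ (fun x k => Cfsg.Agent.Lib.Helper16.ZR.irr_conj_inv χ' x k)] at this
      have hind := Cfsg.Agent.Lib.Helper16.Brauer.isInducedBlock_of_brauer hM (Subgroup.zpowers x)
        (Subgroup.centralizer ({x} : Set G)) hP hPH hHN
        (blockOf M (ψ : Subgroup.centralizer ({x} : Set G) → ℂ)) ⟨ψ, rfl⟩ ψ
        (Cfsg.Agent.Lib.Helper77.DefectClass.self_mem_blockOf hMp ψ) χ' hcc
      obtain ⟨D, hDd⟩ := Cfsg.Agent.Lib.Helper16.MinMax.exists_defectGroup hM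
        (blockOf M (ψ : Subgroup.centralizer ({x} : Set G) → ℂ)) ⟨ψ, rfl⟩
      obtain ⟨E, hE, hDE⟩ := Cfsg.Agent.Lib.Helper16.IndBlock.defectGroup_le_of_induced hM
        (Subgroup.centralizer ({x} : Set G)) _ _ hind D hDd
      rw [blockOf_eq_of_mem hMp hmem] at hE
      apply hD E hE
      apply hDE
      refine ⟨⟨x, hxC⟩, ?_, rfl⟩
      exact central_mem_defectGroup p M _ D hDd ⟨x, hxC⟩
        (fun c => Subtype.ext (hcommC c)) k (by rw [Subgroup.orderOf_mk, hk])
    · rwa [sub_zero] at h1
  have hgt := general_second_main hM (Subgroup.centralizer ({x} : Set G)) x k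
    (by rw [← hk]; exact pow_orderOf_eq_one x) hxC
    (fun g hg => by
      rw [Subgroup.mem_centralizer_iff]
      intro y hy
      rw [Set.mem_singleton_iff] at hy
      subst hy
      exact mul_inv_eq_iff_eq_mul.mp hg)
    1 (Subalgebra.one_mem _) (Subring.one_mem (intSubring M hMp)) (mul_one 1)
    (blockIdem (blockOf M (χ : G → ℂ))) (blockIdem_mem_center _)
    (blockIdem_mem_intSubring hMp _ hBblk) (blockIdem_mul_self _) hω
    (χ : G → ℂ) (isCharacter_of_irr χ.2) ⟨s, hsC⟩
    (by rw [Subgroup.orderOf_mk]; exact hs) hcomm.eq.symm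
  have hcomm2 : inc (Subgroup.centralizer ({x} : Set G))
      (MonoidAlgebra.of ℂ (Subgroup.centralizer ({x} : Set G)) ⟨s, hsC⟩ * 1) *
      blockIdem (blockOf M (χ : G → ℂ)) * MonoidAlgebra.of ℂ G x =
      blockIdem (blockOf M (χ : G → ℂ)) * MonoidAlgebra.of ℂ G (s * x) := by
    rw [mul_one, inc_of, map_mul, ← mul_assoc]
    congr 1
    exact Subalgebra.mem_center_iff.mp (blockIdem_mem_center _) _
  rw [hcomm2, pair_mul_center χ.2 _ _ (blockIdem_mem_center _), omega_blockIdem,
    if_pos (Cfsg.Agent.Lib.Helper77.DefectClass.self_mem_blockOf hMp χ), one_mul,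
    MonoidAlgebra.of_apply, pair_single, one_mul] at hgt
  rw [← hxs, hcomm.eq]
  exact hgt

end Cfsg.Agent.S0924
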