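import Cfsg.Statements.S4669
import Cfsg.Agent.Lib.Helper82.RankQuot
import Cfsg.Agent.Lib.Helper16.Defect

set_option autoImplicit false
open Cfsg

namespace Cfsg.Agent.S4669

open Cfsg.Agent.Lib.Helper77.LocalRing
open Cfsg.Agent.Lib.Helper82.RankQuot

/-- A subgroup of the centre is normal. -/
theorem normal_of_le_center {G : Type*} [Group G] (P : Subgroup G)
    (hPZ : P ≤ Subgroup.center G) : P.Normal := by
  constructor
  intro n hn g
  have h1 : g * n = n * g := (Subgroup.mem_center_iff.1 (hPZ hn) g)
  rw [h1, mul_inv_cancel_right]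
  exact hn

/-- The `p`-regular rank of a singleton is one. -/
theorem blockRank_singleton {G : Type*} [Group G] (p : ℕ) [Fact p.Prime]
    (ψ : IrrCharacter G) : blockRank p ({ψ} : Set (IrrCharacter G)) = 1 := by
  have hpp : p.Prime := Fact.out
  unfold blockRank
  rw [Set.image_singleton]
  apply finrank_span_singleton
  intro h0
  have h1 : pRegularPart p (ψ : G → ℂ) 1 = 0 := by rw [h0]; rfl
  rw [Cfsg.Agent.S4571.prp_of_reg p _ _ (by rw [orderOf_one]; exact hpp.one_lt.ne' ∘ Nat.dvd_one.1)] at h1
  have h2 := Cfsg.Agent.Lib.Helper80.Integrality.apply_one_eq_charDegree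
    (Cfsg.Agent.Lib.Helper80.Integrality.isCharacter_of_isIrrCharacter ψ.2)
  rw [h2] at h1
  have h3 := Cfsg.Agent.Lib.Helper80.Integrality.charDegree_pos ψ
  exact h3.ne' (by exact_mod_cast h1)

/-- Fix a prime p and a maximal ideal M of the algebraic integers containing p. If the p-block B of the finite group G has a defect group P contained in the centre of G, then B has p-regular rank one (a single irreducible Brauer character). -/
theorem result {G : Type*} [Group G] [Fintype G] (p : ℕ) [Fact p.Prime] (M : Ideal Cfsg.AlgInt) (hM : Cfsg.IsPModular p M) (B : Set (Cfsg.IrrCharacter G)) (hB : Cfsg.IsPBlock M B) (P : Subgroup G) (hD : Cfsg.IsDefectGroup p M B P) (hPZ : P ≤ Subgroup.center G) : Cfsg.blockRank p B = 1 := by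
  classical
  have hpp : p.Prime := Fact.out
  have hMp : M.IsPrime := isPrime_of_isPModular hM
  have hPn : P.Normal := normal_of_le_center P hPZ
  have hcard : Nat.card P = p ^ blockDefect p B :=
    Cfsg.Agent.Lib.Helper16.Defect.card_defectGroup p hM B hB P hD
  have hP : IsPGroup p P := IsPGroup.of_card hcard
  have hcent : Subgroup.centralizer (P : Set G) = ⊤ :=
    Subgroup.centralizer_eq_top_iff_subset.2 hPZ
  have hsup : P ⊔ Subgroup.centralizer (P : Set G) = ⊤ := by
    rw [hcent, sup_top_eq]
  obtain ⟨ψ, hψB, -, hrank⟩ := exists_quot_block p M hM P hP hsup B hB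
  rw [hrank]
  -- `ψ` has defect zero
  have hdeg : charDegree (ψ : G ⧸ P → ℂ) = charDegree (infl P ψ : G → ℂ) := by
    unfold charDegree
    rw [infl_apply, QuotientGroup.mk_one]
  have hle : (charDegree (ψ : G ⧸ P → ℂ)).factorization p ≤ (Nat.card (G ⧸ P)).factorization p :=
    Cfsg.Agent.Lib.CT.DefectZeroBlock.factorization_charDegree_le p ψ
  have hmul : Nat.card G = Nat.card (G ⧸ P) * Nat.card P :=
    Subgroup.card_eq_card_quotient_mul_card_subgroup P
  have hfac : (Nat.card G).factorization p
      = (Nat.card (G ⧸ P)).factorization p + blockDefect p B := by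
    rw [hmul, Nat.factorization_mul Nat.card_pos.ne' Nat.card_pos.ne', hcard,
      Nat.factorization_pow, Finsupp.add_apply, Finsupp.smul_apply,
      Nat.Prime.factorization_self hpp, smul_eq_mul, mul_one]
  have hinf : sInf ((fun χ : IrrCharacter G => (charDegree (χ : G → ℂ)).factorization p) '' B)
      ≤ (charDegree (infl P ψ : G → ℂ)).factorization p :=
    Nat.sInf_le ⟨infl P ψ, hψB, rfl⟩
  have hdef : blockDefect p B = (Nat.card G).factorization p -
      sInf ((fun χ : IrrCharacter G => (charDegree (χ : G → ℂ)).factorization p) '' B) := rfl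
  have hge : (Nat.card (G ⧸ P)).factorization p ≤ (charDegree (ψ : G ⧸ P → ℂ)).factorization p := by
    rw [hdeg]
    omega
  have hsing : blockOf M (ψ : G ⧸ P → ℂ) = {ψ} :=
    Cfsg.Agent.Lib.CT.DefectZeroBlock.blockOf_eq_singleton_of_defect_zero hM ψ
      (le_antisymm hle hge)
  rw [hsing]
  exact blockRank_singleton p ψ

end Cfsg.Agent.S4669
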