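import Cfsg.Statements.S0968
import Cfsg.Agent.Lib.Helper82.RankQuot
import Cfsg.Agent.Lib.Helper16.Defect
import Cfsg.Agent.Lib.Helper16.MinMax
import Cfsg.Agent.Lib.Helper16.Cover
import Cfsg.Agent.Lib.CT.SectionOrth
import Cfsg.Agent.Lib.CT.Clifford
import Cfsg.Agent.Lib.Helper80.Core
import Cfsg.Agent.S0924
import Cfsg.Agent.S4669

set_option autoImplicit false
open Cfsg

namespace Cfsg.Agent.S0968

open Cfsg.Agent.Lib.Helper77.LocalRing
open Cfsg.Agent.Lib.Helper82.RankQuot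
open scoped ComplexConjugate

/-- If `G = P C_G(P)` then `P` is normal. -/
theorem normal_of_sup {G : Type*} [Group G] (P : Subgroup G)
    (hG : P ⊔ Subgroup.centralizer (P : Set G) = ⊤) : P.Normal := by
  rw [← Subgroup.normalizer_eq_top_iff]
  apply top_le_iff.1
  rw [← hG]
  exact sup_le Subgroup.le_normalizer (Subgroup.centralizer_le_normalizer _)

/-- If `G = P C_G(P)`, every element is a product. -/
theorem exists_mul_of_sup {G : Type*} [Group G] (P : Subgroup G)
    (hG : P ⊔ Subgroup.centralizer (P : Set G) = ⊤) (g : G) :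
    ∃ a ∈ P, ∃ b ∈ Subgroup.centralizer (P : Set G), a * b = g := by
  have hPn := normal_of_sup P hG
  have hgmem : g ∈ (↑(P ⊔ Subgroup.centralizer (P : Set G)) : Set G) := by
    rw [hG]
    exact Subgroup.mem_top g
  rw [Subgroup.normal_mul] at hgmem
  obtain ⟨a, ha, b, hb, rfl⟩ := Set.mem_mul.1 hgmem
  exact ⟨a, ha, b, hb, rfl⟩

/-- A normal subgroup is its own conjugate. -/
theorem map_conj_of_normal {G : Type*} [Group G] (P : Subgroup G) (hPn : P.Normal) (u : G) :
    P.map (MulAut.conj u).toMonoidHom = P := by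
  ext y
  constructor
  · rintro ⟨z, hz, rfl⟩
    exact hPn.conj_mem z hz u
  · intro hy
    refine ⟨u⁻¹ * y * u, ?_, ?_⟩
    · have := hPn.conj_mem y hy u⁻¹
      rwa [inv_inv] at this
    · show u * (u⁻¹ * y * u) * u⁻¹ = y
      group

/-- Product formula: if `G = P C_G(P)`, `χ (x y) = χ x χ y / χ 1` for `x ∈ P`, `y ∈ C_G(P)`. -/
theorem prod_formula {G : Type*} [Group G] [Finite G] (P : Subgroup G)
    (hG : P ⊔ Subgroup.centralizer (P : Set G) = ⊤) (χ : IrrCharacter G) (x y : G) (hx : x ∈ P)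
    (hy : y ∈ Subgroup.centralizer (P : Set G)) :
    (χ : G → ℂ) (x * y) = (χ : G → ℂ) x * (χ : G → ℂ) y / (χ : G → ℂ) 1 := by
  classical
  have : Fintype G := Fintype.ofFinite G
  have h1 := Cfsg.Agent.Lib.Helper80.Core.schur_average' χ y x
  have h2 : ∀ g : G, (χ : G → ℂ) (g * x * g⁻¹ * y) = (χ : G → ℂ) (x * y) := by
    intro g
    obtain ⟨a, ha, b, hb, rfl⟩ := exists_mul_of_sup P hG g
    have hbx : b * x = x * b := (Subgroup.mem_centralizer_iff.1 hb x hx).symm
    have hay : a * y = y * a := Subgroup.mem_centralizer_iff.1 hy a ha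
    have hay' : a⁻¹ * y = y * a⁻¹ := by
      rw [inv_mul_eq_iff_eq_mul, ← mul_assoc, hay, mul_inv_cancel_right]
    have h3 : a * b * x * (a * b)⁻¹ * y = a * (x * y) * a⁻¹ := by
      calc a * b * x * (a * b)⁻¹ * y = a * (b * x) * b⁻¹ * (a⁻¹ * y) := by group
        _ = a * (x * b) * b⁻¹ * (y * a⁻¹) := by rw [hbx, hay']
        _ = a * (x * y) * a⁻¹ := by group
    rw [h3]
    exact Cfsg.Agent.Lib.CT.Orth.irr_isClassFunction χ (x * y) a
  rw [Finset.sum_congr rfl (fun g _ => h2 g), Finset.sum_const, Finset.card_univ,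
    nsmul_eq_mul, ← Nat.card_eq_fintype_card] at h1
  have hG0 : (Nat.card G : ℂ) ≠ 0 := Nat.cast_ne_zero.2 Nat.card_pos.ne'
  have h4 : (Nat.card G : ℂ) * (χ : G → ℂ) (x * y)
      = (Nat.card G : ℂ) * ((χ : G → ℂ) x * (χ : G → ℂ) y / (χ : G → ℂ) 1) := by
    rw [h1]
    ring
  exact mul_left_cancel₀ hG0 h4

/-- The characters of a block with normal defect group `P` vanish at the elements whose
`p`-part lies outside `P`. -/
theorem vanish_off {G : Type*} [Group G] [Finite G] (p : ℕ) [Fact p.Prime] (M : Ideal AlgInt)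
    (hM : IsPModular p M) (P : Subgroup G) (hPn : P.Normal) (B : Set (IrrCharacter G))
    (hB : IsPBlock M B) (hD : IsDefectGroup p M B P) (χ : IrrCharacter G) (hχ : χ ∈ B)
    (g x : G) (hx : IsPPart p g x) (hxP : x ∉ P) : (χ : G → ℂ) g = 0 := by
  have hMp : M.IsPrime := isPrime_of_isPModular hM
  have hBeq : B = blockOf M (χ : G → ℂ) :=
    Cfsg.Agent.Lib.CT.DefectZeroBlock.eq_blockOf_of_mem hMp hB hχ
  apply Cfsg.Agent.S0924.result p M hM χ g x hx
  intro D hDD
  rw [← hBeq] at hDD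
  obtain ⟨u, hu⟩ := Cfsg.Agent.Lib.Helper16.MinMax.defectGroup_conj hM B hB hD hDD
  rw [hu, map_conj_of_normal P hPn u]
  exact hxP

/-- If `l(B) = 1`, the members of `B` are proportional on the `p`-regular elements. -/
theorem prop_of_rank_one {G : Type*} [Group G] (p : ℕ) [Fact p.Prime]
    (B : Set (IrrCharacter G)) (hrank : blockRank p B = 1) (θ χ : IrrCharacter G) (hθ : θ ∈ B)
    (hχ : χ ∈ B) :
    ∃ c : ℂ, ∀ y : G, ¬ p ∣ orderOf y → (χ : G → ℂ) y = c * (θ : G → ℂ) y := by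
  have hpp : p.Prime := Fact.out
  unfold blockRank at hrank
  have hθV : pRegularPart p (θ : G → ℂ) ∈ Submodule.span ℂ
      ((fun χ : IrrCharacter G => pRegularPart p (χ : G → ℂ)) '' B) :=
    Submodule.subset_span ⟨θ, hθ, rfl⟩
  have hχV : pRegularPart p (χ : G → ℂ) ∈ Submodule.span ℂ
      ((fun χ : IrrCharacter G => pRegularPart p (χ : G → ℂ)) '' B) :=
    Submodule.subset_span ⟨χ, hχ, rfl⟩
  have h1reg : ¬ p ∣ orderOf (1 : G) := by
    rw [orderOf_one]
    exact fun h => hpp.one_lt.ne' (Nat.dvd_one.1 h)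
  have hne : (⟨_, hθV⟩ : Submodule.span ℂ
      ((fun χ : IrrCharacter G => pRegularPart p (χ : G → ℂ)) '' B)) ≠ 0 := by
    intro h0
    have h1 : pRegularPart p (θ : G → ℂ) = 0 := congrArg Subtype.val h0
    have h2 : pRegularPart p (θ : G → ℂ) 1 = 0 := by rw [h1]; rfl
    rw [Cfsg.Agent.S4571.prp_of_reg p _ _ h1reg] at h2
    exact Cfsg.Agent.Lib.CT.Wedderburn.irr_apply_one_ne_zero θ.2 h2
  obtain ⟨c, hc⟩ := (finrank_eq_one_iff_of_nonzero' _ hne).1 hrank ⟨_, hχV⟩
  refine ⟨c, fun y hy => ?_⟩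
  have h2 : c • pRegularPart p (θ : G → ℂ) = pRegularPart p (χ : G → ℂ) :=
    congrArg Subtype.val hc
  have h3 := congrFun h2 y
  rw [Pi.smul_apply, Cfsg.Agent.S4571.prp_of_reg p _ _ hy,
    Cfsg.Agent.S4571.prp_of_reg p _ _ hy, smul_eq_mul] at h3
  exact h3.symm

/-- Structure of the block over `G ⧸ P`: a single character of `G ⧸ P` inflates into `B`, it has
defect zero, and `l(B) = 1`. -/
theorem quot_data {G : Type*} [Group G] [Finite G] (p : ℕ) [Fact p.Prime] (M : Ideal AlgInt)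
    (hM : IsPModular p M) (P : Subgroup G) [P.Normal] (hP : IsPGroup p P)
    (hG : P ⊔ Subgroup.centralizer (P : Set G) = ⊤) (B : Set (IrrCharacter G))
    (hB : IsPBlock M B) (hD : IsDefectGroup p M B P) :
    ∃ ψ : IrrCharacter (G ⧸ P), infl P ψ ∈ B ∧
      {ψ' : IrrCharacter (G ⧸ P) | infl P ψ' ∈ B} = {ψ} ∧ blockRank p B = 1 ∧
      (charDegree (ψ : G ⧸ P → ℂ)).factorization p = (Nat.card (G ⧸ P)).factorization p := by
  classical
  have hpp : p.Prime := Fact.out
  have hcard : Nat.card P = p ^ blockDefect p B :=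
    Cfsg.Agent.Lib.Helper16.Defect.card_defectGroup p hM B hB P hD
  obtain ⟨ψ, hψB, hset, hrank⟩ := exists_quot_block p M hM P hP hG B hB
  have hdeg : charDegree (ψ : G ⧸ P → ℂ) = charDegree (infl P ψ : G → ℂ) := by
    unfold charDegree
    rw [infl_apply, QuotientGroup.mk_one]
  have hle : (charDegree (ψ : G ⧸ P → ℂ)).factorization p ≤ (Nat.card (G ⧸ P)).factorization p :=
    Cfsg.Agent.Lib.CT.DefectZeroBlock.factorization_charDegree_le p ψ
  have hmul : Nat.card G = Nat.card (G ⧸ P) * Nat.card P :=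
    Subgroup.card_eq_card_quotient_mul_card_subgroup P
  have hfac : (Nat.card G).factorization p
      = (Nat.card (G ⧸ P)).factorization p + blockDefect p B := by
    rw [hmul, Nat.factorization_mul Nat.card_pos.ne' Nat.card_pos.ne', hcard,
      Nat.factorization_pow, Finsupp.add_apply, Finsupp.smul_apply,
      Nat.Prime.factorization_self hpp, smul_eq_mul, mul_one]
  have hinf : sInf ((fun χ : IrrCharacter G => (charDegree (χ : G → ℂ)).factorization p) '' B)
      ≤ (charDegree (infl P ψ : G → ℂ)).factorization p :=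
    Nat.sInf_le ⟨infl P ψ, hψB, rfl⟩
  have hdef : blockDefect p B = (Nat.card G).factorization p -
      sInf ((fun χ : IrrCharacter G => (charDegree (χ : G → ℂ)).factorization p) '' B) := rfl
  have hge : (Nat.card (G ⧸ P)).factorization p ≤ (charDegree (ψ : G ⧸ P → ℂ)).factorization p := by
    rw [hdeg]
    omega
  have hsing : blockOf M (ψ : G ⧸ P → ℂ) = {ψ} :=
    Cfsg.Agent.Lib.CT.DefectZeroBlock.blockOf_eq_singleton_of_defect_zero hM ψ
      (le_antisymm hle hge)
  refine ⟨ψ, hψB, by rw [hset, hsing], ?_, le_antisymm hle hge⟩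
  rw [hrank, hsing]
  exact Cfsg.Agent.S4669.blockRank_singleton p ψ

/-- Clifford for `G = P C_G(P)`: the restriction of an irreducible character to `P` is a
multiple of any of its constituents. -/
theorem restrict_eq_smul {G : Type*} [Group G] [Fintype G] (P : Subgroup G) [Fintype P]
    (hG : P ⊔ Subgroup.centralizer (P : Set G) = ⊤) (χ : IrrCharacter G) (η : IrrCharacter P)
    (hne : classInner (fun n : P => (χ : G → ℂ) n) (η : P → ℂ) ≠ 0) (x : P) :
    (χ : G → ℂ) x = classInner (fun n : P => (χ : G → ℂ) n) (η : P → ℂ) * (η : P → ℂ) x := by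
  have hPn := normal_of_sup P hG
  have h1 := Cfsg.Agent.Lib.CT.Clifford.clifford P hPn (χ : G → ℂ) χ.2 (η : P → ℂ) η.2 hne
  have hset : {ψ : P → ℂ | ∃ g : G, ψ = fun n : P =>
      (η : P → ℂ) ⟨g * n * g⁻¹, hPn.conj_mem n n.2 g⟩} = {(η : P → ℂ)} := by
    ext ψ
    constructor
    · rintro ⟨g, rfl⟩
      show _ = _
      funext n
      obtain ⟨a, ha, b, hb, rfl⟩ := exists_mul_of_sup P hG g
      have hbn : b * (n : G) = (n : G) * b := (Subgroup.mem_centralizer_iff.1 hb n n.2).symm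
      have h3 : a * b * (n : G) * (a * b)⁻¹ = a * (n : G) * a⁻¹ := by
        calc a * b * (n : G) * (a * b)⁻¹ = a * (b * (n : G)) * b⁻¹ * a⁻¹ := by group
          _ = a * ((n : G) * b) * b⁻¹ * a⁻¹ := by rw [hbn]
          _ = a * (n : G) * a⁻¹ := by group
      have h4 : (⟨a * b * (n : G) * (a * b)⁻¹, hPn.conj_mem n n.2 (a * b)⟩ : P)
          = ⟨a, ha⟩ * n * ⟨a, ha⟩⁻¹ := Subtype.ext h3
      rw [h4]
      exact Cfsg.Agent.Lib.CT.Orth.irr_isClassFunction η n ⟨a, ha⟩
    · intro h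
      rw [Set.mem_singleton_iff] at h
      refine ⟨1, ?_⟩
      rw [h]
      funext n
      have h5 : (⟨1 * (n : G) * 1⁻¹, hPn.conj_mem n n.2 1⟩ : P) = n :=
        Subtype.ext (show 1 * (n : G) * 1⁻¹ = (n : G) by group)
      rw [h5]
  rw [hset, finsum_mem_singleton] at h1
  have h2 := congrFun h1 x
  rw [Pi.smul_apply, smul_eq_mul] at h2
  exact h2

/-- Every irreducible character of `P` lies under some member of the block. -/
theorem exists_over {G : Type*} [Group G] [Fintype G] (p : ℕ) [Fact p.Prime] (M : Ideal AlgInt)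
    (hM : IsPModular p M) (P : Subgroup G) [Fintype P] (hP : IsPGroup p P)
    (B : Set (IrrCharacter G)) (hB : IsPBlock M B) (η : IrrCharacter P) :
    ∃ χ ∈ B, ∑ x : P, conj ((χ : G → ℂ) x) * (η : P → ℂ) x ≠ 0 := by
  classical
  have hpp : p.Prime := Fact.out
  have hMp : M.IsPrime := isPrime_of_isPModular hM
  have := Cfsg.Agent.Lib.CT.Wedderburn.finite_irrCharacter G
  have : Fintype (IrrCharacter G) := Fintype.ofFinite _
  obtain ⟨χ₀, hχ₀⟩ := Cfsg.Agent.Lib.CT.DefectZeroBlock.isPBlock_nonempty hMp hB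
  by_contra hcon
  have hcon : ∀ χ ∈ B, ∑ x : P, conj ((χ : G → ℂ) x) * (η : P → ℂ) x = 0 := by
    intro χ hχ
    by_contra h
    exact hcon ⟨χ, hχ, h⟩
  have hT1 : ∑ x : P, blockCoeff B (x : G) * (η : P → ℂ) x
      = blockCoeff B 1 * (η : P → ℂ) 1 := by
    rw [Finset.sum_eq_single (1 : P)]
    · rfl
    · intro x _ hx
      have hx1 : (x : G) ≠ 1 := fun h => hx (Subtype.ext h)
      obtain ⟨k, hk⟩ := (IsPGroup.iff_orderOf.1 hP) x
      have hk' : orderOf (x : G) = p ^ k := by rw [← hk, Subgroup.orderOf_coe]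
      have hdvd : p ∣ orderOf (x : G) := by
        rw [hk']
        cases k with
        | zero =>
          rw [pow_zero, orderOf_eq_one_iff] at hk'
          exact absurd hk' hx1
        | succ k => exact dvd_pow_self p (Nat.succ_ne_zero k)
      rw [Cfsg.Agent.Lib.Helper75.BlockOrth.blockCoeff_eq_zero_of_dvd_orderOf p M hM B hB _ hdvd,
        zero_mul]
    · intro h
      exact absurd (Finset.mem_univ _) h
  have hT2 : ∑ x : P, blockCoeff B (x : G) * (η : P → ℂ) x = 0 := by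
    have h1 : ∀ x : P, blockCoeff B (x : G) * (η : P → ℂ) x
        = (Nat.card G : ℂ)⁻¹ * ∑ χ : IrrCharacter G, B.indicator
          (fun χ : IrrCharacter G => (χ : G → ℂ) 1 * (conj ((χ : G → ℂ) x) * (η : P → ℂ) x)) χ := by
      intro x
      unfold blockCoeff
      rw [finsum_mem_def, finsum_eq_sum_of_fintype, mul_assoc, Finset.sum_mul]
      congr 1
      refine Finset.sum_congr rfl fun χ _ => ?_
      by_cases hχ : χ ∈ B
      · rw [Set.indicator_of_mem hχ, Set.indicator_of_mem hχ, mul_assoc]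
      · rw [Set.indicator_of_notMem hχ, Set.indicator_of_notMem hχ, zero_mul]
    rw [Finset.sum_congr rfl (fun x _ => h1 x), ← Finset.mul_sum, Finset.sum_comm]
    apply mul_eq_zero_of_right
    apply Finset.sum_eq_zero
    intro χ _
    by_cases hχ : χ ∈ B
    · have h2 : ∀ x : P, B.indicator
          (fun χ : IrrCharacter G => (χ : G → ℂ) 1 * (conj ((χ : G → ℂ) x) * (η : P → ℂ) x)) χ
          = (χ : G → ℂ) 1 * (conj ((χ : G → ℂ) x) * (η : P → ℂ) x) :=
        fun x => Set.indicator_of_mem hχ _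
      rw [Finset.sum_congr rfl (fun x _ => h2 x), ← Finset.mul_sum, hcon χ hχ, mul_zero]
    · apply Finset.sum_eq_zero
      intro x _
      exact Set.indicator_of_notMem hχ _
  rw [hT1] at hT2
  rcases mul_eq_zero.1 hT2 with h | h
  · exact Cfsg.Agent.Lib.Helper16.QuotP.blockCoeff_one_ne_zero B χ₀ hχ₀ h
  · exact Cfsg.Agent.Lib.CT.Wedderburn.irr_apply_one_ne_zero η.2 h

/-- Two members of the block whose restrictions to `P` are multiples of the same function
are equal. -/
theorem eq_of_same_restrict {G : Type*} [Group G] [Finite G] (p : ℕ) [Fact p.Prime]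
    (M : Ideal AlgInt) (hM : IsPModular p M) (P : Subgroup G) (hP : IsPGroup p P)
    (hG : P ⊔ Subgroup.centralizer (P : Set G) = ⊤) (B : Set (IrrCharacter G))
    (hB : IsPBlock M B) (hD : IsDefectGroup p M B P) (hrank : blockRank p B = 1)
    (θ : IrrCharacter G) (hθ : θ ∈ B) (χ χ' : IrrCharacter G) (hχ : χ ∈ B) (hχ' : χ' ∈ B)
    (η : P → ℂ) (c c' : ℂ) (h : ∀ x : P, (χ : G → ℂ) x = c * η x)
    (h' : ∀ x : P, (χ' : G → ℂ) x = c' * η x) : χ = χ' := by
  classical
  have hpp : p.Prime := Fact.out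
  have hPn : P.Normal := normal_of_sup P hG
  have : Fintype G := Fintype.ofFinite G
  obtain ⟨d, hd⟩ := prop_of_rank_one p B hrank θ χ hθ hχ
  obtain ⟨d', hd'⟩ := prop_of_rank_one p B hrank θ χ' hθ hχ'
  have h1reg : ¬ p ∣ orderOf (1 : G) := by
    rw [orderOf_one]
    exact fun h => hpp.one_lt.ne' (Nat.dvd_one.1 h)
  have hχ1 : (χ : G → ℂ) 1 ≠ 0 := Cfsg.Agent.Lib.CT.Wedderburn.irr_apply_one_ne_zero χ.2
  have hχ'1 : (χ' : G → ℂ) 1 ≠ 0 := Cfsg.Agent.Lib.CT.Wedderburn.irr_apply_one_ne_zero χ'.2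
  have e2 : (χ : G → ℂ) 1 = c * η 1 := h 1
  have e2' : (χ' : G → ℂ) 1 = c' * η 1 := h' 1
  have hc : c ≠ 0 := fun h0 => hχ1 (by rw [e2, h0, zero_mul])
  have hc' : c' ≠ 0 := fun h0 => hχ'1 (by rw [e2', h0, zero_mul])
  have hη1 : η 1 ≠ 0 := fun h0 => hχ1 (by rw [e2, h0, mul_zero])
  have hd0 : d ≠ 0 := fun h0 => hχ1 (by rw [hd 1 h1reg, h0, zero_mul])
  have hd'0 : d' ≠ 0 := fun h0 => hχ'1 (by rw [hd' 1 h1reg, h0, zero_mul])
  have hprop : ∀ g : G, (χ : G → ℂ) g = d / d' * (χ' : G → ℂ) g := by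
    intro g
    obtain ⟨x, hx⟩ := Cfsg.Agent.Lib.CT.SectionOrth.exists_isPPart p hpp g
    by_cases hxP : x ∈ P
    · obtain ⟨y, rfl, -, -, hy⟩ := hx
      have := hPn
      have hyC : y ∈ Subgroup.centralizer (P : Set G) :=
        Subgroup.mem_centralizer_iff.2 fun q hq =>
          (Cfsg.Agent.S4571.mem_centralizer_of_pRegular p P hP hG y hy q hq).symm
      rw [prod_formula P hG χ x y hxP hyC, prod_formula P hG χ' x y hxP hyC]
      have e1 : (χ : G → ℂ) x = c * η ⟨x, hxP⟩ := h ⟨x, hxP⟩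
      have e1' : (χ' : G → ℂ) x = c' * η ⟨x, hxP⟩ := h' ⟨x, hxP⟩
      rw [e1, e1', hd y hy, hd' y hy, e2, e2']
      field_simp
    · rw [vanish_off p M hM P hPn B hB hD χ hχ g x hx hxP,
        vanish_off p M hM P hPn B hB hD χ' hχ' g x hx hxP, mul_zero]
  by_contra hne
  have h3 := Cfsg.Agent.Lib.Helper75.BlockOrth2.irr_sum_mul_conj χ χ'
  rw [if_neg hne] at h3
  have h4 := Cfsg.Agent.Lib.Helper75.BlockOrth2.irr_sum_mul_conj χ' χ'
  rw [if_pos rfl] at h4
  have h5 : ∑ g : G, (χ : G → ℂ) g * conj ((χ' : G → ℂ) g)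
      = d / d' * ∑ g : G, (χ' : G → ℂ) g * conj ((χ' : G → ℂ) g) := by
    rw [Finset.mul_sum]
    refine Finset.sum_congr rfl fun g _ => ?_
    rw [hprop g, mul_assoc]
  rw [h3, h4] at h5
  have hG0 : (Nat.card G : ℂ) ≠ 0 := Nat.cast_ne_zero.2 Nat.card_pos.ne'
  exact mul_ne_zero (div_ne_zero hd0 hd'0) hG0 h5.symm

/-- Let P be a p-subgroup of the finite group G with P ⊔ C_G(P) = G, and let B be a block with defect group P relative to a maximal ideal M of the algebraic integers containing p. Then there is exactly one θ ∈ B with θ x = θ 1 for all x ∈ P; for this θ the exponent of p in θ(1) equals the exponent of p in the index of P; and the number of members of B equals the number of conjugacy classes of P. -/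
theorem result {G : Type*} [Group G] [Finite G] (p : ℕ) [Fact p.Prime] (M : Ideal Cfsg.AlgInt) (hM : Cfsg.IsPModular p M) (P : Subgroup G) (hP : IsPGroup p P) (hG : P ⊔ Subgroup.centralizer (P : Set G) = ⊤) (B : Set (Cfsg.IrrCharacter G)) (hB : Cfsg.IsPBlock M B) (hD : Cfsg.IsDefectGroup p M B P) : (∃! θ : Cfsg.IrrCharacter G, θ ∈ B ∧ ∀ x ∈ P, (θ : G → ℂ) x = (θ : G → ℂ) 1) ∧ (∀ θ ∈ B, (∀ x ∈ P, (θ : G → ℂ) x = (θ : G → ℂ) 1) → (Cfsg.charDegree (θ : G → ℂ)).factorization p = P.index.factorization p) ∧ Nat.card B = Nat.card (ConjClasses P) := by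
  classical
  have hpp : p.Prime := Fact.out
  have hMp : M.IsPrime := isPrime_of_isPModular hM
  have hPn : P.Normal := normal_of_sup P hG
  have : Fintype G := Fintype.ofFinite G
  have : Fintype P := Fintype.ofFinite P
  obtain ⟨ψ, hψB, hset, hrank, hψdeg⟩ := quot_data p M hM P hP hG B hB hD
  have hker : ∀ x ∈ P, (infl P ψ : G → ℂ) x = (infl P ψ : G → ℂ) 1 := by
    intro x hx
    rw [infl_apply, infl_apply, (QuotientGroup.eq_one_iff x).2 hx, QuotientGroup.mk_one]
  have huniq : ∀ θ' ∈ B, (∀ x ∈ P, (θ' : G → ℂ) x = (θ' : G → ℂ) 1) → θ' = infl P ψ := by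
    intro θ' hθ' hk
    obtain ⟨ψ', hψ'⟩ := exists_infl_eq P θ' hk
    have hmem : ψ' ∈ {ψ' : IrrCharacter (G ⧸ P) | infl P ψ' ∈ B} := by
      show infl P ψ' ∈ B
      rw [hψ']
      exact hθ'
    rw [hset, Set.mem_singleton_iff] at hmem
    rw [← hψ', hmem]
  refine ⟨⟨infl P ψ, ⟨hψB, hker⟩, fun θ' h => huniq θ' h.1 h.2⟩, ?_, ?_⟩
  · intro θ' hθ' hk
    rw [huniq θ' hθ' hk]
    have hdeg : charDegree (infl P ψ : G → ℂ) = charDegree (ψ : G ⧸ P → ℂ) := by
      unfold charDegree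
      rw [infl_apply, QuotientGroup.mk_one]
    rw [hdeg, hψdeg, Subgroup.index_eq_card]
  · have hex : ∀ χ : B, ∃ η : IrrCharacter P,
        classInner (fun n : P => ((χ : IrrCharacter G) : G → ℂ) n) (η : P → ℂ) ≠ 0 :=
      fun χ => Cfsg.Agent.Lib.Helper16.Cover.exists_constituent P χ.1
    choose f hf using hex
    have hfx : ∀ (χ : B) (x : P), ((χ : IrrCharacter G) : G → ℂ) x
        = classInner (fun n : P => ((χ : IrrCharacter G) : G → ℂ) n) (f χ : P → ℂ)
          * (f χ : P → ℂ) x :=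
      fun χ x => restrict_eq_smul P hG χ.1 (f χ) (hf χ) x
    have hinj : Function.Injective f := by
      intro χ χ' hff
      apply Subtype.ext
      refine eq_of_same_restrict p M hM P hP hG B hB hD hrank (infl P ψ) hψB χ.1 χ'.1 χ.2 χ'.2
        (f χ : P → ℂ) _
        (classInner (fun n : P => ((χ' : IrrCharacter G) : G → ℂ) n) (f χ' : P → ℂ))
        (hfx χ) ?_
      rw [hff]
      exact hfx χ'
    have hsurj : Function.Surjective f := by
      intro η
      obtain ⟨χ, hχ, hsum⟩ := exists_over p M hM P hP B hB η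
      refine ⟨⟨χ, hχ⟩, ?_⟩
      by_contra hne
      apply hsum
      have h1 : ∀ x : P, conj ((χ : G → ℂ) x) * (η : P → ℂ) x
          = conj (classInner (fun n : P => (χ : G → ℂ) n) (f ⟨χ, hχ⟩ : P → ℂ))
            * ((η : P → ℂ) x * conj ((f ⟨χ, hχ⟩ : P → ℂ) x)) := by
        intro x
        rw [hfx ⟨χ, hχ⟩ x, map_mul]
        ring
      rw [Finset.sum_congr rfl (fun x _ => h1 x), ← Finset.mul_sum,
        Cfsg.Agent.Lib.Helper75.BlockOrth2.irr_sum_mul_conj η (f ⟨χ, hχ⟩),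
        if_neg (fun h => hne h.symm), mul_zero]
    rw [Nat.card_congr (Equiv.ofBijective f ⟨hinj, hsurj⟩)]
    exact Cfsg.Agent.Lib.CT.Orth.card_irrCharacter

end Cfsg.Agent.S0968
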