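import Cfsg.Statements.S4964
import Cfsg.Agent.S0029
import Cfsg.Agent.Lib.CT.Ops
import Cfsg.Agent.Lib.CT.Kernel
import Cfsg.Agent.Lib.CT.Clifford
import Cfsg.Agent.Lib.CT.Wedderburn
import Cfsg.Agent.Lib.Helper16.NormalP
import Cfsg.Agent.Lib.Helper63.PFrattini
import Cfsg.Agent.Lib.Helper75.BlockOrth
import Cfsg.Agent.Lib.Helper75.BlockOrth2
import Cfsg.Agent.Lib.Helper77.LocalRing
import Cfsg.Agent.Lib.Helper77.BlockIdem
import Cfsg.Agent.Lib.Helper80.Integrality

set_option autoImplicit false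
open Cfsg

namespace Cfsg.Agent.S4964

open Cfsg.Agent.Lib.Helper77.LocalRing
open Cfsg.Agent.Lib.Helper80.Integrality
open scoped commutatorElement ComplexConjugate

/-- The central character of an inflated function is an integer multiple of the central
character on the quotient. -/
theorem centralChar_inflation {G : Type*} [Group G] [Finite G] (N : Subgroup G) [N.Normal]
    (g : G) :
    ∃ r : ℕ, ∀ χ : G ⧸ N → ℂ,
      centralChar (χ ∘ QuotientGroup.mk) g = (r : ℂ) * centralChar χ (g : G ⧸ N) := by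
  obtain ⟨L, hL⟩ : ∃ L : Subgroup G, L = (Subgroup.centralizer
      ({(g : G ⧸ N)} : Set (G ⧸ N))).comap (QuotientGroup.mk' N) := ⟨_, rfl⟩
  have hle : Subgroup.centralizer ({g} : Set G) ≤ L := by
    intro x hx
    rw [hL, Subgroup.mem_comap, Subgroup.mem_centralizer_singleton_iff]
    rw [Subgroup.mem_centralizer_singleton_iff] at hx
    show ((x : G ⧸ N)) * (g : G ⧸ N) = (g : G ⧸ N) * (x : G ⧸ N)
    rw [← QuotientGroup.mk_mul, ← QuotientGroup.mk_mul, hx]
  have hidx : L.index = (Subgroup.centralizer ({(g : G ⧸ N)} : Set (G ⧸ N))).index := by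
    rw [hL]
    exact Subgroup.index_comap_of_surjective _ (QuotientGroup.mk'_surjective N)
  refine ⟨(Subgroup.centralizer ({g} : Set G)).relIndex L, ?_⟩
  intro χ
  unfold centralChar
  rw [← Subgroup.relIndex_mul_index hle, hidx]
  simp only [Function.comp_apply, QuotientGroup.mk_one]
  push_cast
  ring

/-- A `p`-regular element of a quotient by a normal `p`-subgroup has a `p`-regular lift. -/
theorem exists_pRegular_lift {G : Type*} [Group G] [Finite G] (p : ℕ) [Fact p.Prime]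
    (N : Subgroup G) [N.Normal] (hN : IsPGroup p N) (x : G ⧸ N) (hx : ¬ p ∣ orderOf x) :
    ∃ g : G, (g : G ⧸ N) = x ∧ ¬ p ∣ orderOf g := by
  obtain ⟨g₀, rfl⟩ := QuotientGroup.mk_surjective x
  obtain ⟨c, hc⟩ := IsPGroup.iff_card.1 hN
  have hpp : p.Prime := Fact.out
  obtain ⟨m, hm⟩ : ∃ m, orderOf (g₀ : G ⧸ N) = m := ⟨_, rfl⟩
  rw [hm] at hx
  have hcop : (p ^ c).Coprime (orderOf (g₀ : G ⧸ N)) := by
    rw [hm]
    exact Nat.Coprime.pow_left c ((Nat.Prime.coprime_iff_not_dvd hpp).2 hx)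
  obtain ⟨u, hu⟩ := exists_pow_eq_self_of_coprime hcop
  refine ⟨(g₀ ^ p ^ c) ^ u, ?_, ?_⟩
  · rw [QuotientGroup.mk_pow, QuotientGroup.mk_pow]
    exact hu
  · have h1 : g₀ ^ m ∈ N := by
      rw [← QuotientGroup.eq_one_iff, QuotientGroup.mk_pow, ← hm, pow_orderOf_eq_one]
    have h2 : (g₀ ^ m) ^ p ^ c = 1 := by
      have h3 : (⟨g₀ ^ m, h1⟩ : N) ^ Nat.card N = 1 := pow_card_eq_one'
      rw [hc] at h3
      exact congrArg Subtype.val h3
    have h3 : ((g₀ ^ p ^ c) ^ u) ^ m = 1 := by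
      calc ((g₀ ^ p ^ c) ^ u) ^ m = ((g₀ ^ m) ^ p ^ c) ^ u := by
            rw [← pow_mul, ← pow_mul, ← pow_mul, ← pow_mul]
            congr 1
            ring
        _ = 1 := by rw [h2, one_pow]
    have h4 : orderOf ((g₀ ^ p ^ c) ^ u) ∣ m := orderOf_dvd_of_pow_eq_one h3
    intro hdvd
    exact hx (hdvd.trans h4)

/-- A `p`-regular element centralizing `D / D'` centralizes the normal `p`-subgroup `D`. -/
theorem centralizes_of_quotient {G : Type*} [Group G] [Finite G] (p : ℕ) [Fact p.Prime]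
    (D : Subgroup G) [D.Normal] (hD : IsPGroup p D) (g : G) (hg : ¬ p ∣ orderOf g)
    (hc : ∀ d ∈ D, ((g : G ⧸ ⁅D, D⁆)) * (d : G ⧸ ⁅D, D⁆)
      = (d : G ⧸ ⁅D, D⁆) * (g : G ⧸ ⁅D, D⁆)) :
    ∀ d ∈ D, g * d = d * g := by
  have hpp : p.Prime := Fact.out
  have hfr : ⁅D, D⁆ ≤ (frattini D).map D.subtype := by
    have h1 := Cfsg.Agent.Lib.Helper63.PFrattini.commutator_le_frattini hD
    have h2 : ⁅D, D⁆ = (commutator D).map D.subtype := by
      rw [commutator_def, Subgroup.map_commutator, ← MonoidHom.range_eq_map,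
        Subgroup.range_subtype]
    rw [h2]
    exact Subgroup.map_mono h1
  have hA : Subgroup.zpowers g ≤ Subgroup.centralizer (D : Set G) := by
    apply Cfsg.Agent.S0029.result (Subgroup.zpowers g) D
    · rw [Subgroup.normalizer_eq_top]
      exact le_top
    · rw [Nat.card_zpowers]
      obtain ⟨j, hj⟩ := IsPGroup.iff_card.1 (hD.to_subgroup (frattini D))
      rw [hj]
      exact Nat.Coprime.pow_right j
        (Nat.Coprime.symm ((Nat.Prime.coprime_iff_not_dvd hpp).2 hg))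
    · intro a ha k hk
      apply hfr
      rw [← QuotientGroup.eq_one_iff]
      obtain ⟨i, rfl⟩ := Subgroup.mem_zpowers_iff.1 ha
      have h1 : ((g ^ i : G) : G ⧸ ⁅D, D⁆) * (k : G ⧸ ⁅D, D⁆)
          = (k : G ⧸ ⁅D, D⁆) * ((g ^ i : G) : G ⧸ ⁅D, D⁆) := by
        rw [QuotientGroup.mk_zpow]
        have h2 : Commute (g : G ⧸ ⁅D, D⁆) (k : G ⧸ ⁅D, D⁆) := hc k hk
        exact h2.zpow_left i
      rw [QuotientGroup.mk_mul, QuotientGroup.mk_mul, QuotientGroup.mk_mul,
        QuotientGroup.mk_inv, QuotientGroup.mk_inv, h1]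
      group
  intro d hd
  have h1 := hA (Subgroup.mem_zpowers g)
  rw [Subgroup.mem_centralizer_iff] at h1
  exact (h1 d hd).symm

/-- For a `p`-regular element centralizing the normal `p`-subgroup `N`, inflation does not change
the central character value. -/
theorem centralChar_inflation_eq {G : Type*} [Group G] [Finite G] (p : ℕ) [Fact p.Prime]
    (N : Subgroup G) [N.Normal] (hN : IsPGroup p N) (χ : G ⧸ N → ℂ) (g : G)
    (hg : ¬ p ∣ orderOf g) (hgN : ∀ n ∈ N, g * n = n * g) :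
    centralChar (χ ∘ QuotientGroup.mk) g = centralChar χ (g : G ⧸ N) := by
  have hpp : p.Prime := Fact.out
  have hcomap : (Subgroup.centralizer ({(g : G ⧸ N)} : Set (G ⧸ N))).comap
      (QuotientGroup.mk' N) = Subgroup.centralizer ({g} : Set G) := by
    ext x
    rw [Subgroup.mem_comap, Subgroup.mem_centralizer_singleton_iff,
      Subgroup.mem_centralizer_singleton_iff]
    constructor
    · intro hx
      have hx' : (x : G ⧸ N) * (g : G ⧸ N) = (g : G ⧸ N) * (x : G ⧸ N) := hx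
      have hn : x * g * x⁻¹ * g⁻¹ ∈ N := by
        rw [← QuotientGroup.eq_one_iff, QuotientGroup.mk_mul, QuotientGroup.mk_mul,
          QuotientGroup.mk_mul, QuotientGroup.mk_inv, QuotientGroup.mk_inv, hx']
        group
      obtain ⟨n, hndef⟩ : ∃ n, x * g * x⁻¹ * g⁻¹ = n := ⟨_, rfl⟩
      rw [hndef] at hn
      have hxg : x * g * x⁻¹ = n * g := by
        rw [← hndef]
        group
      have hcomm : Commute n g := (hgN n hn).symm
      have h2 : (x * g * x⁻¹) ^ orderOf g = 1 := by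
        rw [conj_pow, pow_orderOf_eq_one]
        group
      rw [hxg, hcomm.mul_pow, pow_orderOf_eq_one, mul_one] at h2
      have h3 : orderOf n ∣ orderOf g := orderOf_dvd_of_pow_eq_one h2
      obtain ⟨c, hc⟩ := IsPGroup.iff_card.1 hN
      have h4 : orderOf n ∣ p ^ c := hc ▸ Subgroup.orderOf_dvd_natCard N hn
      have hcop : (p ^ c).Coprime (orderOf g) :=
        Nat.Coprime.pow_left c ((Nat.Prime.coprime_iff_not_dvd hpp).2 hg)
      have h5 : orderOf n = 1 := Nat.eq_one_of_dvd_coprimes hcop h4 h3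
      have h6 : n = 1 := orderOf_eq_one_iff.1 h5
      rw [h6, one_mul] at hxg
      calc x * g = (x * g * x⁻¹) * x := by group
        _ = g * x := by rw [hxg]
    · intro hx
      show (x : G ⧸ N) * (g : G ⧸ N) = (g : G ⧸ N) * (x : G ⧸ N)
      rw [← QuotientGroup.mk_mul, ← QuotientGroup.mk_mul, hx]
  have hidx : (Subgroup.centralizer ({g} : Set G)).index
      = (Subgroup.centralizer ({(g : G ⧸ N)} : Set (G ⧸ N))).index := by
    rw [← hcomap]
    exact Subgroup.index_comap_of_surjective _ (QuotientGroup.mk'_surjective N)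
  unfold centralChar
  rw [hidx]
  simp only [Function.comp_apply, QuotientGroup.mk_one]

/-- An irreducible character whose sum over a normal subgroup is nonzero is constant on it. -/
theorem const_on_of_sum_ne_zero {G : Type*} [Group G] [Fintype G] (N : Subgroup G) [Fintype N]
    (hN : N.Normal) (θ : G → ℂ) (hθ : IsIrrCharacter G θ) (hsum : ∑ n : N, θ n ≠ 0) :
    ∀ n ∈ N, θ n = θ 1 := by
  have h1 : classInner (fun n : N => θ n) (fun _ : N => (1 : ℂ)) ≠ 0 := by
    unfold classInner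
    simp only [map_one, mul_one]
    exact mul_ne_zero (inv_ne_zero (Nat.cast_ne_zero.2 Nat.card_pos.ne')) hsum
  have h2 := Cfsg.Agent.Lib.CT.Clifford.clifford N hN θ hθ (fun _ : N => (1 : ℂ))
    Cfsg.Agent.Lib.CT.Ops.isIrrCharacter_one h1
  have h3 : {ψ : N → ℂ | ∃ g : G, ψ = fun n : N =>
      (fun _ : N => (1 : ℂ)) ⟨g * n * g⁻¹, hN.conj_mem n n.2 g⟩} = {fun _ : N => (1 : ℂ)} := by
    ext ψ
    simp only [Set.mem_ofPred_eq, Set.mem_singleton_iff]
    constructor
    · rintro ⟨g, rfl⟩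
      rfl
    · rintro rfl
      exact ⟨1, rfl⟩
  rw [h3, finsum_mem_singleton] at h2
  intro n hn
  have h4 := congrFun h2 ⟨n, hn⟩
  have h5 := congrFun h2 ⟨1, N.one_mem⟩
  simp only [Pi.smul_apply, smul_eq_mul, mul_one] at h4 h5
  rw [h4, ← h5]

/-- For a normal p-subgroup D of G, inflation along G → G/D′ induces a bijection between the p-blocks of G/D′ and the p-blocks of G. -/
theorem result {G : Type*} [Group G] [Finite G] (p : ℕ) [Fact p.Prime] (M : Ideal Cfsg.AlgInt) (hM : Cfsg.IsPModular p M) (D : Subgroup G) [D.Normal] (hD : IsPGroup p D) : (∀ χ ψ : Cfsg.IrrCharacter (G ⧸ ⁅D, D⁆), Cfsg.SameBlock M (χ : G ⧸ ⁅D, D⁆ → ℂ) (ψ : G ⧸ ⁅D, D⁆ → ℂ) ↔ Cfsg.SameBlock M ((χ : G ⧸ ⁅D, D⁆ → ℂ) ∘ QuotientGroup.mk) ((ψ : G ⧸ ⁅D, D⁆ → ℂ) ∘ QuotientGroup.mk)) ∧ ∀ B : Set (Cfsg.IrrCharacter G), Cfsg.IsPBlock M B → ∃ χ : Cfsg.IrrCharacter (G ⧸ ⁅D, D⁆), ∃ θ ∈ B, (θ : G → ℂ) = (χ : G ⧸ ⁅D, D⁆ → ℂ) ∘ QuotientGroup.mk := by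
  classical
  have hpp : p.Prime := Fact.out
  have hMp : M.IsPrime := isPrime_of_isPModular hM
  have hNle : ⁅D, D⁆ ≤ D := Subgroup.commutator_le_left D D
  have hNp : IsPGroup p (⁅D, D⁆ : Subgroup G) := hD.to_le hNle
  constructor
  · intro χ ψ
    constructor
    · intro h g
      obtain ⟨r, hr⟩ := centralChar_inflation (⁅D, D⁆) g
      rw [hr, hr, ← mul_sub]
      exact memLocalIdeal_mul_left hMp (memLocalRing_natCast hMp r) (h (g : G ⧸ ⁅D, D⁆))
    · intro h
      apply Cfsg.Agent.Lib.Helper75.BlockOrth2.sameBlock_of_pRegular p M hM χ ψ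
      intro x hx
      by_cases hcx : x ∈ Subgroup.centralizer
          ((D.map (QuotientGroup.mk' ⁅D, D⁆) : Subgroup (G ⧸ ⁅D, D⁆)) : Set (G ⧸ ⁅D, D⁆))
      · obtain ⟨g, rfl, hg⟩ := exists_pRegular_lift p ⁅D, D⁆ hNp x hx
        have hgD : ∀ d ∈ D, g * d = d * g := by
          apply centralizes_of_quotient p D hD g hg
          intro d hd
          rw [Subgroup.mem_centralizer_iff] at hcx
          exact (hcx (d : G ⧸ ⁅D, D⁆) (Subgroup.mem_map_of_mem _ hd)).symm
        have h1 := centralChar_inflation_eq p ⁅D, D⁆ hNp (χ : G ⧸ ⁅D, D⁆ → ℂ) g hg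
          (fun n hn => hgD n (hNle hn))
        have h2 := centralChar_inflation_eq p ⁅D, D⁆ hNp (ψ : G ⧸ ⁅D, D⁆ → ℂ) g hg
          (fun n hn => hgD n (hNle hn))
        rw [← h1, ← h2]
        exact h g
      · have hDn : (D.map (QuotientGroup.mk' ⁅D, D⁆)).Normal :=
          Subgroup.Normal.map inferInstance _ (QuotientGroup.mk'_surjective _)
        have hDp : IsPGroup p (D.map (QuotientGroup.mk' ⁅D, D⁆)) := hD.map _
        exact memLocalIdeal_sub hMp
          (Cfsg.Agent.Lib.Helper16.NormalP.centralChar_mem_of_not_centralizer p M hM _ hDp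
            (χ : G ⧸ ⁅D, D⁆ → ℂ) χ.2 x hcx)
          (Cfsg.Agent.Lib.Helper16.NormalP.centralChar_mem_of_not_centralizer p M hM _ hDp
            (ψ : G ⧸ ⁅D, D⁆ → ℂ) ψ.2 x hcx)
  · intro B hB
    have : Fintype G := Fintype.ofFinite G
    have := Cfsg.Agent.Lib.CT.Wedderburn.finite_irrCharacter G
    have : Fintype (IrrCharacter G) := Fintype.ofFinite _
    have hvan : ∀ n : (⁅D, D⁆ : Subgroup G), (n : G) ≠ 1 → blockCoeff B (n : G) = 0 := by
      intro n hn
      apply Cfsg.Agent.Lib.Helper75.BlockOrth.blockCoeff_eq_zero_of_dvd_orderOf p M hM B hB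
      obtain ⟨k, hk⟩ := hNp n
      have h1 : orderOf (n : G) ∣ p ^ k := by
        apply orderOf_dvd_of_pow_eq_one
        have h2 := congrArg Subtype.val hk
        simpa using h2
      obtain ⟨j, -, hj⟩ := (Nat.dvd_prime_pow hpp).1 h1
      rw [hj]
      cases j with
      | zero =>
        exfalso
        rw [pow_zero, orderOf_eq_one_iff] at hj
        exact hn hj
      | succ j => exact dvd_pow_self p (Nat.succ_ne_zero j)
    have hsumN : ∑ n : (⁅D, D⁆ : Subgroup G), blockCoeff B (n : G) = blockCoeff B 1 := by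
      rw [Finset.sum_eq_single (1 : (⁅D, D⁆ : Subgroup G))]
      · rfl
      · intro n _ hn
        exact hvan n (fun h => hn (Subtype.ext h))
      · intro h
        exact absurd (Finset.mem_univ _) h
    obtain ⟨χ₀, hBdef⟩ := id hB
    have hχ₀ : χ₀ ∈ B := by
      rw [hBdef]
      intro g
      rw [sub_self]
      exact memLocalIdeal_zero hMp
    have hne : blockCoeff B 1 ≠ 0 := by
      rw [Cfsg.Agent.Lib.Helper77.BlockIdem.blockCoeff_eq_sum]
      apply mul_ne_zero (inv_ne_zero (Nat.cast_ne_zero.2 Nat.card_pos.ne'))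
      have hterm : ∀ χ : IrrCharacter G,
          B.indicator (fun χ => (χ : G → ℂ) 1 * (χ : G → ℂ) (1 : G)⁻¹) χ
            = (((if χ ∈ B then charDegree (χ : G → ℂ) ^ 2 else 0 : ℕ)) : ℂ) := by
        intro χ
        by_cases h : χ ∈ B
        · rw [Set.indicator_of_mem h, if_pos h, inv_one,
            apply_one_eq_charDegree (isCharacter_of_isIrrCharacter χ.2)]
          push_cast
          ring
        · rw [Set.indicator_of_notMem h, if_neg h]
          simp
      rw [Finset.sum_congr rfl (fun χ _ => hterm χ), ← Nat.cast_sum]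
      have hpos : 0 < ∑ χ : IrrCharacter G,
          (if χ ∈ B then charDegree (χ : G → ℂ) ^ 2 else 0) := by
        apply Finset.sum_pos' (fun _ _ => Nat.zero_le _) ⟨χ₀, Finset.mem_univ _, ?_⟩
        rw [if_pos hχ₀]
        exact pow_pos (charDegree_pos χ₀) 2
      exact_mod_cast hpos.ne'
    have hex : ∃ θ ∈ B, ∑ n : (⁅D, D⁆ : Subgroup G), (θ : G → ℂ) (n : G) ≠ 0 := by
      by_contra hno
      push Not at hno
      apply hne
      rw [← hsumN]
      simp only [Cfsg.Agent.Lib.Helper77.BlockIdem.blockCoeff_eq_sum]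
      rw [← Finset.mul_sum, Finset.sum_comm]
      apply mul_eq_zero_of_right
      apply Finset.sum_eq_zero
      intro χ _
      by_cases h : χ ∈ B
      · simp only [Set.indicator_of_mem h]
        rw [← Finset.mul_sum]
        have h1 : ∑ n : (⁅D, D⁆ : Subgroup G), (χ : G → ℂ) ((n : G))⁻¹
            = ∑ n : (⁅D, D⁆ : Subgroup G), (χ : G → ℂ) (n : G) :=
          Equiv.sum_comp (Equiv.inv (⁅D, D⁆ : Subgroup G)) (fun n => (χ : G → ℂ) (n : G))
        rw [h1, hno χ h, mul_zero]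
      · simp only [Set.indicator_of_notMem h]
        exact Finset.sum_const_zero
    obtain ⟨θ, hθB, hθsum⟩ := hex
    have hker := const_on_of_sum_ne_zero (⁅D, D⁆ : Subgroup G) inferInstance (θ : G → ℂ) θ.2 hθsum
    obtain ⟨χbar, hirr, hval⟩ := Cfsg.Agent.Lib.CT.Kernel.exists_quotient_irr (⁅D, D⁆ : Subgroup G)
      θ.2 hker
    refine ⟨⟨χbar, hirr⟩, θ, hθB, ?_⟩
    funext g
    exact (hval g).symm

end Cfsg.Agent.S4964
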