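import Cfsg.Statements.S4571
import Cfsg.Agent.S4964
import Cfsg.Agent.Lib.Helper75.BlockRank
import Cfsg.Agent.Lib.Helper75.BlockOrth2
import Cfsg.Agent.Lib.CT.Orth
import Cfsg.Agent.Lib.CT.Ops
import Cfsg.Agent.Lib.CT.Kernel
import Cfsg.Agent.Lib.CT.Wedderburn

set_option autoImplicit false
open Cfsg

namespace Cfsg.Agent.S4571

open Cfsg.Agent.Lib.Helper77.LocalRing
open scoped ComplexConjugate

theorem prp_of_reg {G : Type*} [Group G] (p : ℕ) (f : G → ℂ) (g : G) (hg : ¬ p ∣ orderOf g) :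
    pRegularPart p f g = f g := by
  unfold pRegularPart IsPRegular
  simp [hg]

theorem prp_of_sing {G : Type*} [Group G] (p : ℕ) (f : G → ℂ) (g : G) (hg : p ∣ orderOf g) :
    pRegularPart p f g = 0 := by
  unfold pRegularPart IsPRegular
  simp [hg]

/-- If `G = Q C_G(Q)` for a normal `p`-subgroup `Q`, every `p`-regular element centralizes `Q`. -/
theorem mem_centralizer_of_pRegular {G : Type*} [Group G] [Finite G] (p : ℕ) [Fact p.Prime]
    (Q : Subgroup G) [Q.Normal] (hQ : IsPGroup p Q)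
    (hsup : Q ⊔ Subgroup.centralizer (Q : Set G) = ⊤) (g : G) (hg : ¬ p ∣ orderOf g) :
    ∀ q ∈ Q, g * q = q * g := by
  have hpp : p.Prime := Fact.out
  obtain ⟨c, hc⟩ := IsPGroup.iff_card.1 hQ
  have hgmem : g ∈ (↑(Q ⊔ Subgroup.centralizer (Q : Set G)) : Set G) := by
    rw [hsup]
    exact Subgroup.mem_top g
  rw [Subgroup.normal_mul] at hgmem
  obtain ⟨a, ha, b, hb, rfl⟩ := Set.mem_mul.1 hgmem
  have hpow : ∀ n : ℕ, ∃ b' ∈ Subgroup.centralizer (Q : Set G), (a * b) ^ n = a ^ n * b' := by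
    intro n
    induction n with
    | zero => exact ⟨1, Subgroup.one_mem _, by simp⟩
    | succ n ih =>
      obtain ⟨b', hb', h⟩ := ih
      refine ⟨b' * b, Subgroup.mul_mem _ hb' hb, ?_⟩
      rw [pow_succ, h, pow_succ]
      have hcomm : b' * a = a * b' := (Subgroup.mem_centralizer_iff.1 hb' a ha).symm
      calc a ^ n * b' * (a * b) = a ^ n * (b' * a) * b := by group
        _ = a ^ n * (a * b') * b := by rw [hcomm]
        _ = a ^ n * a * (b' * b) := by group
  obtain ⟨b', hb', h⟩ := hpow (p ^ c)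
  have ha1 : a ^ p ^ c = 1 := by
    have h3 : (⟨a, ha⟩ : Q) ^ Nat.card Q = 1 := pow_card_eq_one'
    rw [hc] at h3
    exact congrArg Subtype.val h3
  rw [ha1, one_mul] at h
  have hcop : (p ^ c).Coprime (orderOf (a * b)) :=
    Nat.Coprime.pow_left c ((Nat.Prime.coprime_iff_not_dvd hpp).2 hg)
  obtain ⟨u, hu⟩ := exists_pow_eq_self_of_coprime hcop
  have hmem : a * b ∈ Subgroup.centralizer (Q : Set G) := by
    rw [← hu, h]
    exact Subgroup.pow_mem _ hb' u
  intro q hq
  exact (Subgroup.mem_centralizer_iff.1 hmem q hq).symm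

/-- If `G = Q C_G(Q)`, a coset of `Q` contains at most one `p`-regular element. -/
theorem pRegular_lift_unique {G : Type*} [Group G] [Finite G] (p : ℕ) [Fact p.Prime]
    (Q : Subgroup G) [Q.Normal] (hQ : IsPGroup p Q)
    (hsup : Q ⊔ Subgroup.centralizer (Q : Set G) = ⊤) (g g' : G) (hg : ¬ p ∣ orderOf g)
    (hg' : ¬ p ∣ orderOf g') (h : (g : G ⧸ Q) = (g' : G ⧸ Q)) : g = g' := by
  have hpp : p.Prime := Fact.out
  have hq : g⁻¹ * g' ∈ Q := QuotientGroup.eq.1 h
  obtain ⟨q, hqdef⟩ : ∃ q, g⁻¹ * g' = q := ⟨_, rfl⟩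
  rw [hqdef] at hq
  have hg'eq : g' = g * q := by
    rw [← hqdef]
    group
  have hcomm : Commute g q := mem_centralizer_of_pRegular p Q hQ hsup g hg q hq
  have h1 : q ^ (orderOf g * orderOf g') = 1 := by
    have h2 : (g * q) ^ (orderOf g * orderOf g') = 1 := by
      rw [← hg'eq, mul_comm, pow_mul, pow_orderOf_eq_one, one_pow]
    rw [hcomm.mul_pow, pow_mul, pow_orderOf_eq_one, one_pow, one_mul] at h2
    exact h2
  have h3 : orderOf q ∣ orderOf g * orderOf g' := orderOf_dvd_of_pow_eq_one h1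
  obtain ⟨c, hc⟩ := IsPGroup.iff_card.1 hQ
  have h4 : orderOf q ∣ p ^ c := hc ▸ Subgroup.orderOf_dvd_natCard Q hq
  have hcop : (p ^ c).Coprime (orderOf g * orderOf g') :=
    Nat.Coprime.pow_left c (Nat.Coprime.mul_right
      ((Nat.Prime.coprime_iff_not_dvd hpp).2 hg) ((Nat.Prime.coprime_iff_not_dvd hpp).2 hg'))
  have h5 : orderOf q = 1 := Nat.eq_one_of_dvd_coprimes hcop h4 h3
  rw [hg'eq, orderOf_eq_one_iff.1 h5, mul_one]

/-- Under `G = Q C_G(Q)`, a character of `G / Q` lies in the principal block iff its inflation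
does. -/
theorem principal_inflation {G : Type*} [Group G] [Finite G] (p : ℕ) [Fact p.Prime]
    (M : Ideal AlgInt) (hM : IsPModular p M) (Q : Subgroup G) [Q.Normal] (hQ : IsPGroup p Q)
    (hsup : Q ⊔ Subgroup.centralizer (Q : Set G) = ⊤) (ψ : IrrCharacter (G ⧸ Q))
    (ψt : IrrCharacter G) (hψt : (ψt : G → ℂ) = (ψ : G ⧸ Q → ℂ) ∘ QuotientGroup.mk) :
    ψ ∈ principalBlock M (G ⧸ Q) ↔ ψt ∈ principalBlock M G := by
  have hMp : M.IsPrime := isPrime_of_isPModular hM
  constructor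
  · intro h g
    obtain ⟨r, hr⟩ := Cfsg.Agent.S4964.centralChar_inflation Q g
    have h1 := hr (fun _ => (1 : ℂ))
    have h2 := hr (ψ : G ⧸ Q → ℂ)
    rw [hψt, h2]
    have h3 : centralChar (fun _ : G => (1 : ℂ)) g
        = (r : ℂ) * centralChar (fun _ : G ⧸ Q => (1 : ℂ)) (g : G ⧸ Q) := h1
    rw [h3, ← mul_sub]
    exact memLocalIdeal_mul_left hMp (memLocalRing_natCast hMp r) (h (g : G ⧸ Q))
  · intro h
    apply Cfsg.Agent.Lib.Helper75.BlockOrth2.mem_principalBlock_of_pRegular p M hM ψ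
    intro x hx
    obtain ⟨g, rfl, hg⟩ := Cfsg.Agent.S4964.exists_pRegular_lift p Q hQ x hx
    have hgQ := mem_centralizer_of_pRegular p Q hQ hsup g hg
    have h1 := Cfsg.Agent.S4964.centralChar_inflation_eq p Q hQ (fun _ => (1 : ℂ)) g hg hgQ
    have h2 := Cfsg.Agent.S4964.centralChar_inflation_eq p Q hQ (ψ : G ⧸ Q → ℂ) g hg hgQ
    rw [← h2, ← hψt]
    have h3 : centralChar (fun _ : G ⧸ Q => (1 : ℂ)) (g : G ⧸ Q)
        = centralChar (fun _ : G => (1 : ℂ)) g := h1.symm
    rw [h3]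
    exact h g

/-- If G = Q·C_G(Q) for a p-subgroup Q, then l(B₀(G)) = l(B₀(G/Q)). -/
theorem result {G : Type*} [Group G] [Finite G] (p : ℕ) [Fact p.Prime] (M : Ideal Cfsg.AlgInt) (hM : Cfsg.IsPModular p M) (Q : Subgroup G) [Q.Normal] (hQ : IsPGroup p Q) (hsup : Q ⊔ Subgroup.centralizer (Q : Set G) = ⊤) : Cfsg.blockRank p (Cfsg.principalBlock M G) = Cfsg.blockRank p (Cfsg.principalBlock M (G ⧸ Q)) := by
  classical
  have hpp : p.Prime := Fact.out
  have hMp : M.IsPrime := isPrime_of_isPModular hM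
  have : Fintype G := Fintype.ofFinite G
  have : Fintype (G ⧸ Q) := Fintype.ofFinite _
  have := Cfsg.Agent.Lib.CT.Wedderburn.finite_irrCharacter (G ⧸ Q)
  have : Fintype (IrrCharacter (G ⧸ Q)) := Fintype.ofFinite _
  -- a section picking the `p`-regular lift
  have hsec : ∀ x : G ⧸ Q, ∃ g : G, (g : G ⧸ Q) = x ∧ (¬ p ∣ orderOf x → ¬ p ∣ orderOf g) := by
    intro x
    by_cases hx : p ∣ orderOf x
    · obtain ⟨g, rfl⟩ := QuotientGroup.mk_surjective x
      exact ⟨g, rfl, fun h => absurd hx h⟩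
    · obtain ⟨g, hg1, hg2⟩ := Cfsg.Agent.S4964.exists_pRegular_lift p Q hQ x hx
      exact ⟨g, hg1, fun _ => hg2⟩
  choose s hs1 hs2 using hsec
  have hbar : ∀ g : G, orderOf (g : G ⧸ Q) ∣ orderOf g := fun g =>
    orderOf_map_dvd (QuotientGroup.mk' Q) g
  have hs3 : ∀ g : G, ¬ p ∣ orderOf g → s (g : G ⧸ Q) = g := by
    intro g hg
    have hb : ¬ p ∣ orderOf (g : G ⧸ Q) := fun h => hg (h.trans (hbar g))
    exact pRegular_lift_unique p Q hQ hsup _ _ (hs2 _ hb) hg (hs1 _)
  have hs4 : ∀ x : G ⧸ Q, p ∣ orderOf x → p ∣ orderOf (s x) := by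
    intro x hx
    have h1 := hbar (s x)
    rw [hs1] at h1
    exact hx.trans h1
  have hsinj : Function.Injective s := by
    intro x y hxy
    rw [← hs1 x, ← hs1 y, hxy]
  -- the two linear maps
  obtain ⟨T, hT⟩ : ∃ T : (G → ℂ) →ₗ[ℂ] (G ⧸ Q → ℂ), ∀ f x, T f x = f (s x) :=
    ⟨LinearMap.funLeft ℂ ℂ s, fun f x => rfl⟩
  obtain ⟨S, hS⟩ : ∃ S : (G ⧸ Q → ℂ) →ₗ[ℂ] (G → ℂ),
      ∀ f, S f = pRegularPart p (fun g : G => f (g : G ⧸ Q)) :=
    ⟨(Cfsg.Agent.Lib.Helper75.BlockRank.trunc p).comp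
      (LinearMap.funLeft ℂ ℂ (QuotientGroup.mk : G → G ⧸ Q)), fun f => rfl⟩
  have hTS : ∀ f : G ⧸ Q → ℂ, T (S f) = pRegularPart p f := by
    intro f
    funext x
    rw [hT, hS]
    by_cases hx : p ∣ orderOf x
    · rw [prp_of_sing p _ _ (hs4 x hx), prp_of_sing p _ _ hx]
    · rw [prp_of_reg p _ _ (hs2 x hx), prp_of_reg p _ _ hx, hs1]
  have hST : ∀ f : G → ℂ, S (T f) = pRegularPart p f := by
    intro f
    funext g
    rw [hS]
    by_cases hg : p ∣ orderOf g
    · rw [prp_of_sing p _ _ hg, prp_of_sing p _ _ hg]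
    · rw [prp_of_reg p _ _ hg, prp_of_reg p _ _ hg, hT, hs3 g hg]
  obtain ⟨V, hV⟩ : ∃ V : Submodule ℂ (G → ℂ), V = Submodule.span ℂ
      ((fun χ : IrrCharacter G => pRegularPart p (χ : G → ℂ)) '' principalBlock M G) := ⟨_, rfl⟩
  obtain ⟨W, hW⟩ : ∃ W : Submodule ℂ (G ⧸ Q → ℂ), W = Submodule.span ℂ
      ((fun χ : IrrCharacter (G ⧸ Q) => pRegularPart p (χ : G ⧸ Q → ℂ)) ''
        principalBlock M (G ⧸ Q)) := ⟨_, rfl⟩
  -- truncation is the identity on `V` and on `W`
  have htruncV : ∀ v ∈ V, pRegularPart p v = v := by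
    intro v hv
    rw [hV] at hv
    refine Submodule.span_induction (p := fun v _ => pRegularPart p v = v) ?_ ?_ ?_ ?_ hv
    · rintro _ ⟨χ, -, rfl⟩
      exact Cfsg.Agent.Lib.Helper75.BlockRank.trunc_trunc p _
    · exact map_zero (Cfsg.Agent.Lib.Helper75.BlockRank.trunc p)
    · intro a b _ _ ha hb
      have := map_add (Cfsg.Agent.Lib.Helper75.BlockRank.trunc p) a b
      rw [Cfsg.Agent.Lib.Helper75.BlockRank.trunc_apply,
        Cfsg.Agent.Lib.Helper75.BlockRank.trunc_apply,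
        Cfsg.Agent.Lib.Helper75.BlockRank.trunc_apply, ha, hb] at this
      exact this
    · intro c a _ ha
      have := map_smul (Cfsg.Agent.Lib.Helper75.BlockRank.trunc p) c a
      rw [Cfsg.Agent.Lib.Helper75.BlockRank.trunc_apply,
        Cfsg.Agent.Lib.Helper75.BlockRank.trunc_apply, ha] at this
      exact this
  have htruncW : ∀ w ∈ W, pRegularPart p w = w := by
    intro w hw
    rw [hW] at hw
    refine Submodule.span_induction (p := fun w _ => pRegularPart p w = w) ?_ ?_ ?_ ?_ hw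
    · rintro _ ⟨χ, -, rfl⟩
      exact Cfsg.Agent.Lib.Helper75.BlockRank.trunc_trunc p _
    · exact map_zero (Cfsg.Agent.Lib.Helper75.BlockRank.trunc p)
    · intro a b _ _ ha hb
      have := map_add (Cfsg.Agent.Lib.Helper75.BlockRank.trunc p) a b
      rw [Cfsg.Agent.Lib.Helper75.BlockRank.trunc_apply,
        Cfsg.Agent.Lib.Helper75.BlockRank.trunc_apply,
        Cfsg.Agent.Lib.Helper75.BlockRank.trunc_apply, ha, hb] at this
      exact this
    · intro c a _ ha
      have := map_smul (Cfsg.Agent.Lib.Helper75.BlockRank.trunc p) c a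
      rw [Cfsg.Agent.Lib.Helper75.BlockRank.trunc_apply,
        Cfsg.Agent.Lib.Helper75.BlockRank.trunc_apply, ha] at this
      exact this
  -- `S` maps `W` into `V`
  have hSW : ∀ w ∈ W, S w ∈ V := by
    have hmap : W.map S ≤ V := by
      rw [hW, Submodule.map_span_le]
      rintro _ ⟨ψ, hψ, rfl⟩
      obtain ⟨ψt, hψt⟩ : ∃ ψt : IrrCharacter G,
          (ψt : G → ℂ) = (ψ : G ⧸ Q → ℂ) ∘ QuotientGroup.mk :=
        ⟨⟨_, Cfsg.Agent.Lib.CT.Kernel.isIrrCharacter_inflation Q ψ.2⟩, rfl⟩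
      have hmem : ψt ∈ principalBlock M G :=
        (principal_inflation p M hM Q hQ hsup ψ ψt hψt).1 hψ
      have heq : S (pRegularPart p (ψ : G ⧸ Q → ℂ)) = pRegularPart p (ψt : G → ℂ) := by
        rw [hS]
        funext g
        by_cases hg : p ∣ orderOf g
        · rw [prp_of_sing p _ _ hg, prp_of_sing p _ _ hg]
        · have hb : ¬ p ∣ orderOf (g : G ⧸ Q) := fun h => hg (h.trans (hbar g))
          rw [prp_of_reg p _ _ hg, prp_of_reg p _ _ hg, prp_of_reg p _ _ hb, hψt]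
          rfl
      rw [heq, hV]
      exact Submodule.subset_span ⟨ψt, hmem, rfl⟩
    intro w hw
    exact hmap (Submodule.mem_map_of_mem hw)
  -- `T` maps `V` into `W`
  have hBG : IsPBlock M (principalBlock M G) :=
    ⟨⟨fun _ => (1 : ℂ), Cfsg.Agent.Lib.CT.Ops.isIrrCharacter_one⟩, rfl⟩
  have hTV : ∀ v ∈ V, T v ∈ W := by
    have hmap : V.map T ≤ W := by
      rw [hV, Submodule.map_span_le]
      rintro _ ⟨χ, hχ, rfl⟩
      obtain ⟨f, hf⟩ : ∃ f : G ⧸ Q → ℂ, f = T (pRegularPart p (χ : G → ℂ)) := ⟨_, rfl⟩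
      have hfx : ∀ x, f x = pRegularPart p (χ : G → ℂ) (s x) := fun x => by rw [hf, hT]
      have hconj : ∀ (G' : Type _) [Group G'] (x y : G'), orderOf (y * x * y⁻¹) = orderOf x :=
        fun G' _ x y => orderOf_injective (MulAut.conj y).toMonoidHom (MulAut.conj y).injective x
      have hcl : IsClassFunction (G ⧸ Q) f := by
        intro x y
        rw [hfx, hfx]
        by_cases hx : p ∣ orderOf x
        · have hx' : p ∣ orderOf (y * x * y⁻¹) := by rwa [hconj]
          rw [prp_of_sing p _ _ (hs4 _ hx'), prp_of_sing p _ _ (hs4 _ hx)]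
        · have hx' : ¬ p ∣ orderOf (y * x * y⁻¹) := by rwa [hconj]
          rw [prp_of_reg p _ _ (hs2 _ hx'), prp_of_reg p _ _ (hs2 _ hx)]
          have h1 : s (y * x * y⁻¹) = s y * s x * (s y)⁻¹ := by
            apply pRegular_lift_unique p Q hQ hsup _ _ (hs2 _ hx')
            · rw [hconj]
              exact hs2 _ hx
            · rw [hs1, QuotientGroup.mk_mul, QuotientGroup.mk_mul, QuotientGroup.mk_inv, hs1, hs1]
          rw [h1]
          exact Cfsg.Agent.Lib.CT.Orth.irr_isClassFunction χ (s x) (s y)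
      have h2 : pRegularPart p f = f := by
        funext x
        by_cases hx : p ∣ orderOf x
        · rw [prp_of_sing p _ _ hx, hfx, prp_of_sing p _ _ (hs4 x hx)]
        · rw [prp_of_reg p _ _ hx]
      have h1 : f = ∑ ψ : IrrCharacter (G ⧸ Q),
          classInner f (ψ : G ⧸ Q → ℂ) • (ψ : G ⧸ Q → ℂ) := by
        funext x
        rw [Cfsg.Agent.Lib.CT.Orth.classFunction_expand_sum _ hcl x, Finset.sum_apply]
        rfl
      have hexp : f = ∑ ψ : IrrCharacter (G ⧸ Q),
          classInner f (ψ : G ⧸ Q → ℂ) • pRegularPart p (ψ : G ⧸ Q → ℂ) := by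
        have h3 : Cfsg.Agent.Lib.Helper75.BlockRank.trunc p f
            = Cfsg.Agent.Lib.Helper75.BlockRank.trunc p (∑ ψ : IrrCharacter (G ⧸ Q),
              classInner f (ψ : G ⧸ Q → ℂ) • (ψ : G ⧸ Q → ℂ)) := congrArg _ h1
        rw [map_sum] at h3
        simp only [map_smul, Cfsg.Agent.Lib.Helper75.BlockRank.trunc_apply] at h3
        rw [h2] at h3
        exact h3
      rw [← hf, hexp, hW]
      refine Submodule.sum_mem _ fun ψ _ => ?_
      by_cases hψ : ψ ∈ principalBlock M (G ⧸ Q)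
      · exact Submodule.smul_mem _ _ (Submodule.subset_span ⟨ψ, hψ, rfl⟩)
      · obtain ⟨ψt, hψt⟩ : ∃ ψt : IrrCharacter G,
            (ψt : G → ℂ) = (ψ : G ⧸ Q → ℂ) ∘ QuotientGroup.mk :=
          ⟨⟨_, Cfsg.Agent.Lib.CT.Kernel.isIrrCharacter_inflation Q ψ.2⟩, rfl⟩
        have hnot : ψt ∉ principalBlock M G := fun h =>
          hψ ((principal_inflation p M hM Q hQ hsup ψ ψt hψt).2 h)
        have h0 := Cfsg.Agent.Lib.Helper75.BlockRank.classInner_pRegularPart_eq_zero p M hM
          (principalBlock M G) hBG χ ψt hχ hnot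
        unfold classInner at h0
        have hG0 : ∑ g : G, pRegularPart p (χ : G → ℂ) g * conj ((ψt : G → ℂ) g) = 0 := by
          rcases mul_eq_zero.1 h0 with h | h
          · exact absurd h (inv_ne_zero (Nat.cast_ne_zero.2 Nat.card_pos.ne'))
          · exact h
        have hzero : classInner f (ψ : G ⧸ Q → ℂ) = 0 := by
          unfold classInner
          apply mul_eq_zero_of_right
          have h4 : ∑ x : G ⧸ Q, f x * conj ((ψ : G ⧸ Q → ℂ) x)
              = ∑ x : G ⧸ Q, (fun g : G => pRegularPart p (χ : G → ℂ) g * conj ((ψt : G → ℂ) g))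
                (s x) := by
            apply Finset.sum_congr rfl
            intro x _
            show f x * conj ((ψ : G ⧸ Q → ℂ) x)
              = pRegularPart p (χ : G → ℂ) (s x) * conj ((ψt : G → ℂ) (s x))
            rw [hfx, hψt, Function.comp_apply, hs1]
          rw [h4, ← Finset.sum_image (f := fun g : G =>
            pRegularPart p (χ : G → ℂ) g * conj ((ψt : G → ℂ) g)) (fun x _ y _ h => hsinj h),
            ← hG0]
          apply Finset.sum_subset (Finset.subset_univ _)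
          intro g _ hg
          have hsing : p ∣ orderOf g := by
            by_contra hreg
            apply hg
            rw [Finset.mem_image]
            exact ⟨(g : G ⧸ Q), Finset.mem_univ _, hs3 g hreg⟩
          rw [prp_of_sing p _ _ hsing, zero_mul]
        rw [hzero, zero_smul]
        exact Submodule.zero_mem _
    intro v hv
    exact hmap (Submodule.mem_map_of_mem hv)
  -- compare the ranks
  have h1 : Module.finrank ℂ V ≤ Module.finrank ℂ W := by
    let T' : V →ₗ[ℂ] W := (T.domRestrict V).codRestrict W (fun v => hTV v.1 v.2)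
    apply LinearMap.finrank_le_finrank_of_injective (f := T')
    intro a b hab
    have h2 : T a.1 = T b.1 := congrArg Subtype.val hab
    have h3 := congrArg S h2
    rw [hST, hST, htruncV _ a.2, htruncV _ b.2] at h3
    exact Subtype.ext h3
  have h2 : Module.finrank ℂ W ≤ Module.finrank ℂ V := by
    let S' : W →ₗ[ℂ] V := (S.domRestrict W).codRestrict V (fun w => hSW w.1 w.2)
    apply LinearMap.finrank_le_finrank_of_injective (f := S')
    intro a b hab
    have h2 : S a.1 = S b.1 := congrArg Subtype.val hab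
    have h3 := congrArg T h2
    rw [hTS, hTS, htruncW _ a.2, htruncW _ b.2] at h3
    exact Subtype.ext h3
  unfold blockRank
  rw [← hV, ← hW]
  exact le_antisymm h1 h2

end Cfsg.Agent.S4571
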