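import Cfsg.Statements.S4714
import Cfsg.Agent.S0968
import Cfsg.Agent.S4571
import Cfsg.Agent.Lib.Helper75.BlockOrth
import Cfsg.Agent.Lib.Helper75.BlockOrth2

set_option autoImplicit false
open Cfsg

namespace Cfsg.Agent.S4714

open Cfsg.Agent.Lib.Helper77.LocalRing
open Cfsg.Agent.Lib.Helper82.RankQuot
open Cfsg.Agent.S0968
open scoped ComplexConjugate

/-- For `G = P C_G(P)` and a block `B` with defect group `P`: `l(B) = 1`, and restriction to `P`
gives a bijection from `B` onto the irreducible characters of `P`. -/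
theorem exists_corr {G : Type*} [Group G] [Fintype G] (p : ℕ) [Fact p.Prime] (M : Ideal AlgInt)
    (hM : IsPModular p M) (P : Subgroup G) [Fintype P] (hP : IsPGroup p P)
    (hG : P ⊔ Subgroup.centralizer (P : Set G) = ⊤) (B : Set (IrrCharacter G))
    (hB : IsPBlock M B) (hD : IsDefectGroup p M B P) :
    blockRank p B = 1 ∧ ∃ f : B → IrrCharacter P, Function.Bijective f ∧
      ∀ (χ : B) (x : P), ((χ : IrrCharacter G) : G → ℂ) x
        = classInner (fun n : P => ((χ : IrrCharacter G) : G → ℂ) n) (f χ : P → ℂ)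
          * (f χ : P → ℂ) x := by
  classical
  have hpp : p.Prime := Fact.out
  have hMp : M.IsPrime := isPrime_of_isPModular hM
  have hPn : P.Normal := normal_of_sup P hG
  obtain ⟨ψ, hψB, hset, hrank, hψdeg⟩ := quot_data p M hM P hP hG B hB hD
  refine ⟨hrank, ?_⟩
  have hex : ∀ χ : B, ∃ η : IrrCharacter P,
      classInner (fun n : P => ((χ : IrrCharacter G) : G → ℂ) n) (η : P → ℂ) ≠ 0 :=
    fun χ => Cfsg.Agent.Lib.Helper16.Cover.exists_constituent P χ.1
  choose f hf using hex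
  have hfx : ∀ (χ : B) (x : P), ((χ : IrrCharacter G) : G → ℂ) x
      = classInner (fun n : P => ((χ : IrrCharacter G) : G → ℂ) n) (f χ : P → ℂ)
        * (f χ : P → ℂ) x :=
    fun χ x => restrict_eq_smul P hG χ.1 (f χ) (hf χ) x
  have hinj : Function.Injective f := by
    intro χ χ' hff
    apply Subtype.ext
    refine eq_of_same_restrict p M hM P hP hG B hB hD hrank (infl P ψ) hψB χ.1 χ'.1 χ.2 χ'.2
      (f χ : P → ℂ) _
      (classInner (fun n : P => ((χ' : IrrCharacter G) : G → ℂ) n) (f χ' : P → ℂ))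
      (hfx χ) ?_
    rw [hff]
    exact hfx χ'
  have hsurj : Function.Surjective f := by
    intro η
    obtain ⟨χ, hχ, hsum⟩ := exists_over p M hM P hP B hB η
    refine ⟨⟨χ, hχ⟩, ?_⟩
    by_contra hne
    apply hsum
    have h1 : ∀ x : P, conj ((χ : G → ℂ) x) * (η : P → ℂ) x
        = conj (classInner (fun n : P => (χ : G → ℂ) n) (f ⟨χ, hχ⟩ : P → ℂ))
          * ((η : P → ℂ) x * conj ((f ⟨χ, hχ⟩ : P → ℂ) x)) := by
      intro x
      rw [hfx ⟨χ, hχ⟩ x, map_mul]
      ring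
    rw [Finset.sum_congr rfl (fun x _ => h1 x), ← Finset.mul_sum,
      Cfsg.Agent.Lib.Helper75.BlockOrth2.irr_sum_mul_conj η (f ⟨χ, hχ⟩),
      if_neg (fun h => hne h.symm), mul_zero]
  exact ⟨f, ⟨hinj, hsurj⟩, hfx⟩

/-- The value at `1` of an irreducible character is fixed by complex conjugation. -/
theorem conj_apply_one {G : Type*} [Group G] (χ : IrrCharacter G) :
    conj ((χ : G → ℂ) 1) = (χ : G → ℂ) 1 := by
  rw [← Cfsg.Agent.Lib.CT.Wedderburn.char_natCast_charDegree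
    (Cfsg.Agent.Lib.CT.Wedderburn.isCharacter_of_irr χ.2), Complex.conj_natCast]

/-- The value at `1` of an irreducible character is its degree. -/
theorem apply_one_eq {H : Type*} [Group H] (ψ : IrrCharacter H) :
    (ψ : H → ℂ) 1 = (charDegree (ψ : H → ℂ) : ℂ) :=
  (Cfsg.Agent.Lib.CT.Wedderburn.char_natCast_charDegree
    (Cfsg.Agent.Lib.CT.Wedderburn.isCharacter_of_irr ψ.2)).symm

/-- The multiplicities `c_θ` of the correspondence all have the same absolute value. -/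
theorem norm_const {G : Type*} [Group G] [Fintype G] (p : ℕ) [Fact p.Prime] (M : Ideal AlgInt)
    (hM : IsPModular p M) (P : Subgroup G) [Fintype P] (hP : IsPGroup p P)
    (B : Set (IrrCharacter G)) [Fintype B]
    (hB : IsPBlock M B) (f : B → IrrCharacter P) (hf : Function.Injective f)
    (c : B → ℂ)
    (hfx : ∀ (χ : B) (x : P), ((χ : IrrCharacter G) : G → ℂ) x = c χ * (f χ : P → ℂ) x)
    (θ : B) :
    c θ * conj (c θ) * (Nat.card P : ℂ)
      = ∑ χ : B, ((χ : IrrCharacter G) : G → ℂ) 1 * ((χ : IrrCharacter G) : G → ℂ) 1 := by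
  classical
  have hpp : p.Prime := Fact.out
  have hζ1 : (f θ : P → ℂ) 1 ≠ 0 := Cfsg.Agent.Lib.CT.Wedderburn.irr_apply_one_ne_zero (f θ).2
  -- block orthogonality on `P`
  have hE : ∀ y : P, ∑ χ : B, ((χ : IrrCharacter G) : G → ℂ) 1
      * conj (((χ : IrrCharacter G) : G → ℂ) (y : G))
      = if y = 1 then ∑ χ : B, ((χ : IrrCharacter G) : G → ℂ) 1
        * ((χ : IrrCharacter G) : G → ℂ) 1 else 0 := by
    intro y
    by_cases hy : y = 1
    · rw [if_pos hy, hy]
      refine Finset.sum_congr rfl fun χ _ => ?_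
      rw [Subgroup.coe_one, conj_apply_one]
    · rw [if_neg hy]
      have hy' : p ∣ orderOf (y : G) := by
        obtain ⟨k, hk⟩ := hP y
        have h1 : orderOf y ∣ p ^ k := orderOf_dvd_of_pow_eq_one hk
        obtain ⟨j, _, hj⟩ := (Nat.dvd_prime_pow hpp).1 h1
        rw [Subgroup.orderOf_coe, hj]
        rcases Nat.eq_zero_or_pos j with h0 | h0
        · exfalso
          rw [h0, pow_zero, orderOf_eq_one_iff] at hj
          exact hy hj
        · exact dvd_pow_self p h0.ne'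
      have h2 := Cfsg.Agent.Lib.Helper75.BlockOrth.blockCoeff_eq_zero_of_dvd_orderOf p M hM B hB
        (y : G) hy'
      unfold blockCoeff at h2
      have hG0 : (Nat.card G : ℂ)⁻¹ ≠ 0 := inv_ne_zero (Nat.cast_ne_zero.2 Nat.card_pos.ne')
      have h3 := (mul_eq_zero.1 h2).resolve_left hG0
      rw [← finsum_set_coe_eq_finsum_mem (s := B), finsum_eq_sum_of_fintype] at h3
      exact h3
  -- pair with `f θ`
  have h1 : ∑ y : P, (∑ χ : B, ((χ : IrrCharacter G) : G → ℂ) 1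
      * conj (((χ : IrrCharacter G) : G → ℂ) (y : G))) * (f θ : P → ℂ) y
      = (∑ χ : B, ((χ : IrrCharacter G) : G → ℂ) 1 * ((χ : IrrCharacter G) : G → ℂ) 1)
        * (f θ : P → ℂ) 1 := by
    rw [Finset.sum_eq_single (1 : P)]
    · rw [hE 1, if_pos rfl]
    · intro y _ hy
      rw [hE y, if_neg hy, zero_mul]
    · intro h
      exact absurd (Finset.mem_univ _) h
  have h2 : ∑ y : P, (∑ χ : B, ((χ : IrrCharacter G) : G → ℂ) 1
      * conj (((χ : IrrCharacter G) : G → ℂ) (y : G))) * (f θ : P → ℂ) y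
      = ((θ : IrrCharacter G) : G → ℂ) 1 * conj (c θ) * (Nat.card P : ℂ) := by
    have h3 : ∀ y : P, (∑ χ : B, ((χ : IrrCharacter G) : G → ℂ) 1
        * conj (((χ : IrrCharacter G) : G → ℂ) (y : G))) * (f θ : P → ℂ) y
        = ∑ χ : B, ((χ : IrrCharacter G) : G → ℂ) 1 * conj (c χ)
          * ((f θ : P → ℂ) y * conj ((f χ : P → ℂ) y)) := by
      intro y
      rw [Finset.sum_mul]
      refine Finset.sum_congr rfl fun χ _ => ?_
      rw [hfx χ y, map_mul]
      ring
    rw [Finset.sum_congr rfl (fun y _ => h3 y), Finset.sum_comm]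
    have h4 : ∀ χ : B, ∑ y : P, ((χ : IrrCharacter G) : G → ℂ) 1 * conj (c χ)
        * ((f θ : P → ℂ) y * conj ((f χ : P → ℂ) y))
        = if χ = θ then ((θ : IrrCharacter G) : G → ℂ) 1 * conj (c θ) * (Nat.card P : ℂ)
          else 0 := by
      intro χ
      rw [← Finset.mul_sum, Cfsg.Agent.Lib.Helper75.BlockOrth2.irr_sum_mul_conj (f θ) (f χ)]
      by_cases h : χ = θ
      · rw [if_pos h, h, if_pos rfl]
      · rw [if_neg h, if_neg (fun h' => h (hf h').symm), mul_zero]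
    rw [Finset.sum_congr rfl (fun χ _ => h4 χ), Finset.sum_ite_eq' Finset.univ θ, if_pos
      (Finset.mem_univ _)]
  rw [h1] at h2
  have h5 : ((θ : IrrCharacter G) : G → ℂ) 1 = c θ * (f θ : P → ℂ) 1 := by
    have := hfx θ 1
    rwa [Subgroup.coe_one] at this
  rw [h5] at h2
  apply mul_right_cancel₀ hζ1
  rw [h2]
  ring

/-- The character formula. -/
theorem formula {G : Type*} [Group G] [Fintype G] (p : ℕ) [Fact p.Prime] (M : Ideal AlgInt)
    (hM : IsPModular p M) (P : Subgroup G) [Fintype P] (hP : IsPGroup p P)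
    (hG : P ⊔ Subgroup.centralizer (P : Set G) = ⊤) (B : Set (IrrCharacter G))
    (hB : IsPBlock M B) (hD : IsDefectGroup p M B P) (χ : IrrCharacter G) (hχ : χ ∈ B)
    (hχD : ∀ y ∈ P, (χ : G → ℂ) y = (χ : G → ℂ) 1) :
    ∃ f : B → IrrCharacter P, Function.Bijective f ∧ ∀ (θ : B) (y : P) (x : G),
      ¬ p ∣ orderOf x → ((θ : IrrCharacter G) : G → ℂ) ((y : G) * x)
        = (f θ : P → ℂ) y * (χ : G → ℂ) x := by
  classical
  have hpp : p.Prime := Fact.out
  have hPn : P.Normal := normal_of_sup P hG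
  have := Cfsg.Agent.Lib.CT.Wedderburn.finite_irrCharacter G
  have : Fintype B := Fintype.ofFinite _
  obtain ⟨hrank, f, hbij, hfx⟩ := exists_corr p M hM P hP hG B hB hD
  refine ⟨f, hbij, ?_⟩
  -- the multiplicities are real
  have hc : ∀ θ : B, classInner (fun n : P => ((θ : IrrCharacter G) : G → ℂ) n) (f θ : P → ℂ)
      = (((charDegree ((θ : IrrCharacter G) : G → ℂ) : ℝ) / (charDegree (f θ : P → ℂ) : ℝ) : ℝ)
        : ℂ) := by
    intro θ
    have h1 := hfx θ 1
    rw [Subgroup.coe_one, apply_one_eq, apply_one_eq] at h1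
    have h2 : ((charDegree (f θ : P → ℂ) : ℕ) : ℂ) ≠ 0 :=
      Nat.cast_ne_zero.2 (Cfsg.Agent.Lib.CT.Wedderburn.irr_charDegree_pos (f θ).2).ne'
    push_cast
    rw [h1, mul_div_assoc, div_self h2, mul_one]
  have hnorm : ∀ θ : B, classInner (fun n : P => ((θ : IrrCharacter G) : G → ℂ) n) (f θ : P → ℂ)
      * conj (classInner (fun n : P => ((θ : IrrCharacter G) : G → ℂ) n) (f θ : P → ℂ))
      * (Nat.card P : ℂ)
      = ∑ χ : B, ((χ : IrrCharacter G) : G → ℂ) 1 * ((χ : IrrCharacter G) : G → ℂ) 1 :=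
    fun θ => norm_const p M hM P hP B hB f hbij.1 _ hfx θ
  have hP0 : (Nat.card P : ℂ) ≠ 0 := Nat.cast_ne_zero.2 Nat.card_pos.ne'
  -- the multiplicity of the canonical character
  have hcχ : classInner (fun n : P => (χ : G → ℂ) n) (f ⟨χ, hχ⟩ : P → ℂ)
      * conj (classInner (fun n : P => (χ : G → ℂ) n) (f ⟨χ, hχ⟩ : P → ℂ))
      = (χ : G → ℂ) 1 * (χ : G → ℂ) 1 := by
    have h1 := Cfsg.Agent.Lib.Helper75.BlockOrth2.irr_sum_mul_conj (f ⟨χ, hχ⟩) (f ⟨χ, hχ⟩)
    rw [if_pos rfl] at h1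
    have h2 : ∑ y : P, (χ : G → ℂ) (y : G) * conj ((χ : G → ℂ) (y : G))
        = classInner (fun n : P => (χ : G → ℂ) n) (f ⟨χ, hχ⟩ : P → ℂ)
          * conj (classInner (fun n : P => (χ : G → ℂ) n) (f ⟨χ, hχ⟩ : P → ℂ))
          * (Nat.card P : ℂ) := by
      rw [← h1, Finset.mul_sum]
      refine Finset.sum_congr rfl fun y _ => ?_
      have h3 := hfx ⟨χ, hχ⟩ y
      simp only at h3
      rw [h3, map_mul]
      ring
    have h4 : ∑ y : P, (χ : G → ℂ) (y : G) * conj ((χ : G → ℂ) (y : G))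
        = (χ : G → ℂ) 1 * (χ : G → ℂ) 1 * (Nat.card P : ℂ) := by
      have h5 : ∀ y : P, (χ : G → ℂ) (y : G) * conj ((χ : G → ℂ) (y : G))
          = (χ : G → ℂ) 1 * (χ : G → ℂ) 1 := by
        intro y
        rw [hχD y y.2, conj_apply_one]
      rw [Finset.sum_congr rfl (fun y _ => h5 y), Finset.sum_const, Finset.card_univ,
        nsmul_eq_mul, Nat.card_eq_fintype_card]
      ring
    rw [h4] at h2
    exact (mul_right_cancel₀ hP0 h2).symm
  -- all multiplicities equal `χ(1)`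
  have hceq : ∀ θ : B, classInner (fun n : P => ((θ : IrrCharacter G) : G → ℂ) n)
      (f θ : P → ℂ) = (χ : G → ℂ) 1 := by
    intro θ
    have h1 : classInner (fun n : P => ((θ : IrrCharacter G) : G → ℂ) n) (f θ : P → ℂ)
        * conj (classInner (fun n : P => ((θ : IrrCharacter G) : G → ℂ) n) (f θ : P → ℂ))
        = (χ : G → ℂ) 1 * (χ : G → ℂ) 1 := by
      apply mul_right_cancel₀ hP0
      rw [hnorm θ, ← hcχ]
      exact (hnorm ⟨χ, hχ⟩).symm
    rw [hc θ, Complex.conj_ofReal, apply_one_eq χ] at h1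
    rw [hc θ, apply_one_eq χ]
    have h2 : ((charDegree ((θ : IrrCharacter G) : G → ℂ) : ℝ) / (charDegree (f θ : P → ℂ) : ℝ))
        * ((charDegree ((θ : IrrCharacter G) : G → ℂ) : ℝ) / (charDegree (f θ : P → ℂ) : ℝ))
        = (charDegree (χ : G → ℂ) : ℝ) * (charDegree (χ : G → ℂ) : ℝ) := by
      exact_mod_cast h1
    have h3 : (0 : ℝ) ≤ (charDegree ((θ : IrrCharacter G) : G → ℂ) : ℝ)
        / (charDegree (f θ : P → ℂ) : ℝ) := by positivity
    have h4 : (0 : ℝ) ≤ (charDegree (χ : G → ℂ) : ℝ) := by positivity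
    have h5 : (charDegree ((θ : IrrCharacter G) : G → ℂ) : ℝ) / (charDegree (f θ : P → ℂ) : ℝ)
        = (charDegree (χ : G → ℂ) : ℝ) := by
      nlinarith
    rw [h5]
    simp
  intro θ y x hx
  have h1reg : ¬ p ∣ orderOf (1 : G) := by
    rw [orderOf_one]
    exact fun h => hpp.one_lt.ne' (Nat.dvd_one.1 h)
  have hxC : x ∈ Subgroup.centralizer (P : Set G) := by
    rw [Subgroup.mem_centralizer_iff]
    intro q hq
    exact (Cfsg.Agent.S4571.mem_centralizer_of_pRegular p P hP hG x hx q hq).symm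
  obtain ⟨r, hr⟩ := prop_of_rank_one p B hrank χ θ.1 hχ θ.2
  have hr1 := hr 1 h1reg
  have hχ1 : (χ : G → ℂ) 1 ≠ 0 := Cfsg.Agent.Lib.CT.Wedderburn.irr_apply_one_ne_zero χ.2
  have hθ1 : ((θ : IrrCharacter G) : G → ℂ) 1 ≠ 0 :=
    Cfsg.Agent.Lib.CT.Wedderburn.irr_apply_one_ne_zero θ.1.2
  have hr0 : r ≠ 0 := by
    rintro rfl
    rw [zero_mul] at hr1
    exact hθ1 hr1
  rw [prod_formula P hG θ.1 (y : G) x y.2 hxC, hfx θ y, hceq θ, hr x hx, hr1]
  field_simp

/-- Let p be a prime, M a maximal ideal of the algebraic integers containing p, D a p-subgroup of the finite group G with G = D·C_G(D), and B a p-block with defect group D. Let χ be a member of B having D in its kernel (there is exactly one, the canonical character of B). Then the irreducible characters in B are exactly the functions θ on G for which there is an irreducible character ζ of D such that θ(yx) = ζ(y)χ(x) whenever y ∈ D, x has order prime to p and x commutes with y, and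 θ(z) = 0 whenever the p-part of z does not lie in D. -/
theorem result {G : Type*} [Group G] [Finite G] (p : ℕ) [Fact p.Prime] (M : Ideal Cfsg.AlgInt) (hM : Cfsg.IsPModular p M) (D : Subgroup G) (hD : IsPGroup p D) (hG : D ⊔ Subgroup.centralizer (D : Set G) = ⊤) (B : Set (Cfsg.IrrCharacter G)) (hB : Cfsg.IsPBlock M B) (hBD : Cfsg.IsDefectGroup p M B D) (χ : Cfsg.IrrCharacter G) (hχ : χ ∈ B) (hχD : ∀ y ∈ D, (χ : G → ℂ) y = (χ : G → ℂ) 1) : (∀ θ : Cfsg.IrrCharacter G, θ ∈ B ↔ ∃ ζ : Cfsg.IrrCharacter D, (∀ (y : D) (x : G), ¬ p ∣ orderOf x → Commute (y : G) x → (θ : G → ℂ) ((y : G) * x) = (ζ : D → ℂ) y * (χ : G → ℂ) x) ∧ (∀ z : G, (∀ y : G, Cfsg.IsPPart p z y → y ∉ D) → (θ : G → ℂ) z = 0)) ∧ ∀ ζ : Cfsg.IrrCharacter D, ∃ θ ∈ B, (∀ (y : D) (x : G), ¬ p ∣ orderOf x → Commute (y : G) x → (θ : G → ℂ) ((y : G) * x) = (ζ : D → ℂ) y * (χ : G → ℂ) x) ∧ (∀ z : G, (∀ y : G, Cfsg.IsPPart p z y → y ∉ D) → (θ : G → ℂ) z = 0) := by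
  classical
  have hpp : p.Prime := Fact.out
  have : Fintype G := Fintype.ofFinite G
  have : Fintype D := Fintype.ofFinite D
  have hDn : D.Normal := normal_of_sup D hG
  obtain ⟨f, hbij, hform⟩ := formula p M hM D hD hG B hB hBD χ hχ hχD
  -- vanishing
  have hvan : ∀ θ ∈ B, ∀ z : G, (∀ y : G, IsPPart p z y → y ∉ D) → (θ : G → ℂ) z = 0 := by
    intro θ hθ z hz
    obtain ⟨x, hx⟩ := Cfsg.Agent.Lib.CT.SectionOrth.exists_isPPart p hpp z
    exact vanish_off p M hM D hDn B hB hBD θ hθ z x hx (hz x hx)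
  have hall : ∀ ζ : IrrCharacter D, ∃ θ ∈ B, (∀ (y : D) (x : G), ¬ p ∣ orderOf x →
      Commute (y : G) x → (θ : G → ℂ) ((y : G) * x) = (ζ : D → ℂ) y * (χ : G → ℂ) x) ∧
      (∀ z : G, (∀ y : G, IsPPart p z y → y ∉ D) → (θ : G → ℂ) z = 0) := by
    intro ζ
    obtain ⟨θ, rfl⟩ := hbij.2 ζ
    exact ⟨θ.1, θ.2, fun y x hx _ => hform θ y x hx, hvan θ.1 θ.2⟩
  refine ⟨fun θ => ⟨fun hθ => ?_, ?_⟩, hall⟩
  · exact ⟨f ⟨θ, hθ⟩, fun y x hx _ => hform ⟨θ, hθ⟩ y x hx, hvan θ hθ⟩
  · rintro ⟨ζ, h1, h2⟩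
    obtain ⟨θ', hθ', h1', h2'⟩ := hall ζ
    have heq : θ = θ' := by
      apply Subtype.ext
      funext z
      obtain ⟨x, hx⟩ := Cfsg.Agent.Lib.CT.SectionOrth.exists_isPPart p hpp z
      by_cases hxD : x ∈ D
      · obtain ⟨y, hxy, hcomm, _, hy⟩ := hx
        rw [← hxy]
        exact (h1 ⟨x, hxD⟩ y hy hcomm).trans (h1' ⟨x, hxD⟩ y hy hcomm).symm
      · have hz : ∀ y : G, IsPPart p z y → y ∉ D := by
          intro y hy
          rw [Cfsg.Agent.Lib.CT.SectionOrth.isPPart_unique hpp hy hx]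
          exact hxD
        rw [h2 z hz, h2' z hz]
    rw [heq]
    exact hθ'

end Cfsg.Agent.S4714
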