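import Cfsg.Statements.S4574
import Cfsg.Agent.Lib.Helper76.GaloisAvg
import Cfsg.Agent.Lib.CT.Wedderburn
import Cfsg.Agent.Lib.CT.Kernel
import Cfsg.Agent.Lib.Helper3.Spectral
import Mathlib

set_option autoImplicit false
open Cfsg

namespace Cfsg.Agent.S4574

open scoped ComplexConjugate

section aux

variable {G : Type*} [Group G]

/-- Eigenvalues: the character values on powers of `g` are power sums. -/
theorem exists_eigenvalues [Finite G] {n : ℕ} (ρ : Representation ℂ G (Fin n → ℂ)) (g : G) :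
    ∃ (m : ℕ) (μ : Fin m → ℂ), (∀ i, μ i ^ Nat.card G = 1) ∧
      ∀ k : ℕ, ρ.character (g ^ k) = ∑ i, μ i ^ k := by
  obtain ⟨b, μ, hb, hμ⟩ := Cfsg.Agent.Lib.Helper3.Spectral.exists_eigenbasis ρ g
  refine ⟨_, μ, ?_, ?_⟩
  · intro i
    obtain ⟨c, hc⟩ := orderOf_dvd_natCard g
    rw [hc, pow_mul, hμ, one_pow]
  · intro k
    have hk : ∀ i, ρ (g ^ k) (b i) = μ i ^ k • b i := by
      intro i
      rw [map_pow]
      induction k with
      | zero => simp
      | succ k ih =>
        rw [pow_succ, Module.End.mul_apply, hb, map_smul, ih, smul_smul, pow_succ, mul_comm]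
    exact Cfsg.Agent.Lib.Helper3.Spectral.trace_eq_sum_of_eigenbasis b (ρ (g ^ k))
      (fun i => μ i ^ k) hk

/-- Galois averaging for a nonvanishing character value. -/
theorem totient_le_sum [Finite G] {n : ℕ} (ρ : Representation ℂ G (Fin n → ℂ)) (g : G)
    [NeZero (Nat.card G)] (h0 : ρ.character g ≠ 0) :
    (Nat.totient (Nat.card G) : ℝ) ≤
      ∑ k : (ZMod (Nat.card G))ˣ, ‖ρ.character (g ^ (k : ZMod (Nat.card G)).val)‖ ^ 2 := by
  obtain ⟨m, μ, hμ, hpow⟩ := exists_eigenvalues ρ g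
  have h1 : ∑ i, μ i ≠ 0 := by
    have := hpow 1
    simp only [pow_one] at this
    rwa [← this]
  have := Cfsg.Agent.Lib.Helper76.GaloisAvg.totient_le_sum_norm_sq (Nat.card G) m μ hμ h1
  simp_rw [hpow]
  exact this

/-- Elements where `|χ|` is the degree stay such under powers. -/
theorem norm_pow_eq [Finite G] {n : ℕ} (ρ : Representation ℂ G (Fin n → ℂ)) (g : G)
    (h : ‖ρ.character g‖ = n) (k : ℕ) : ‖ρ.character (g ^ k)‖ = n := by
  have h1 : (ρ.character 1).re = n := by simp [Representation.char_one]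
  rw [← h1] at h ⊢
  rw [Cfsg.Agent.Lib.CT.Kernel.rep_norm_char_eq_iff] at h ⊢
  obtain ⟨ω, hω⟩ := h
  refine ⟨ω ^ k, ?_⟩
  rw [map_pow, hω, smul_pow, one_pow]

end aux

/-- Let χ be an irreducible character of the finite group G, of degree d, and let Z(χ) be the set of elements g with |χ g| = d (the centre of χ). Then χ vanishes on at least (d ^ 2 - 1) · |Z(χ)| elements of G, with equality when every value |χ g| is 0, 1 or d. -/
theorem result {G : Type*} [Group G] [Fintype G] [DecidableEq G] (χ : G → ℂ) (hχ : Cfsg.IsIrrCharacter G χ) : (Cfsg.charDegree χ ^ 2 - 1) * (Finset.univ.filter (fun g : G => ‖χ g‖ = (Cfsg.charDegree χ : ℝ))).card ≤ (Finset.univ.filter (fun g : G => χ g = 0)).card ∧ ((∀ g : G, ‖χ g‖ = 0 ∨ ‖χ g‖ = 1 ∨ ‖χ g‖ = (Cfsg.charDegree χ : ℝ)) → (Cfsg.charDegree χ ^ 2 - 1) * (Finset.univ.filter (fun g : G => ‖χ g‖ = (Cfsg.charDegree χ : ℝ))).card = (Finset.univ.filter (fun g : G => χ g = 0)).card) := by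
  have hdpos : 0 < Cfsg.charDegree χ := Cfsg.Agent.Lib.CT.Wedderburn.irr_charDegree_pos hχ
  have hχ' := hχ
  obtain ⟨n, ρ, hirr, hρ⟩ := hχ
  have hdn : Cfsg.charDegree χ = n := by
    apply Cfsg.Agent.Lib.CT.Wedderburn.charDegree_eq_of_apply_one
    rw [← hρ]
    simp [Representation.char_one]
  rw [hdn] at hdpos ⊢
  -- first orthogonality
  have horth : ∑ g : G, ‖χ g‖ ^ 2 = (Fintype.card G : ℝ) := by
    have h1 := Cfsg.Agent.Lib.CT.Wedderburn.irr_orthonormal (⟨χ, hχ'⟩ : IrrCharacter G) ⟨χ, hχ'⟩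
    rw [if_pos rfl, Cfsg.classInner] at h1
    have hne : (Nat.card G : ℂ) ≠ 0 := Nat.cast_ne_zero.mpr Nat.card_pos.ne'
    have h2 := (inv_mul_eq_one₀ hne).mp h1
    have h3 : ((∑ g : G, ‖χ g‖ ^ 2 : ℝ) : ℂ) = ((Fintype.card G : ℝ) : ℂ) := by
      push_cast
      rw [← Nat.card_eq_fintype_card, h2]
      apply Finset.sum_congr rfl
      intro g _
      rw [Complex.mul_conj']
    exact_mod_cast h3
  set Zc : ℕ := (Finset.univ.filter (fun g : G => ‖χ g‖ = (n : ℝ))).card with hZc
  set Vc : ℕ := (Finset.univ.filter (fun g : G => χ g = 0)).card with hVc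
  let iZ : G → ℝ := fun g => if ‖χ g‖ = (n : ℝ) then 1 else 0
  let iV : G → ℝ := fun g => if χ g = 0 then 1 else 0
  have hiZ : ∑ g, iZ g = (Zc : ℝ) := by
    rw [hZc]
    exact Finset.sum_boole _ _
  have hiV : ∑ g, iV g = (Vc : ℝ) := by
    rw [hVc]
    exact Finset.sum_boole _ _
  have hnR : (1 : ℝ) ≤ (n : ℝ) := by exact_mod_cast hdpos
  have hsumR : ∀ c : ℝ, ∑ g : G, c * ((n : ℝ) ^ 2 * iZ g + 1 - iZ g - iV g) =
      c * ((n : ℝ) ^ 2 * Zc + Fintype.card G - Zc - Vc) := by
    intro c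
    rw [← Finset.mul_sum, Finset.sum_sub_distrib, Finset.sum_sub_distrib, Finset.sum_add_distrib,
      ← Finset.mul_sum, hiZ, hiV]
    simp
  have hcast : (((n ^ 2 - 1 : ℕ) * Zc : ℕ) : ℝ) = ((n : ℝ) ^ 2 - 1) * Zc := by
    have h1 : 1 ≤ n ^ 2 := Nat.one_le_pow _ _ hdpos
    push_cast [Nat.cast_sub h1]
    ring
  constructor
  · -- inequality via Galois averaging
    have : NeZero (Nat.card G) := ⟨Nat.card_pos.ne'⟩
    let H : G → ℝ := fun g =>
      ∑ k : (ZMod (Nat.card G))ˣ, ‖χ (g ^ (k : ZMod (Nat.card G)).val)‖ ^ 2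
    have hφpos : (0 : ℝ) < (Nat.totient (Nat.card G) : ℝ) := by
      exact_mod_cast Nat.totient_pos.mpr Nat.card_pos
    have hHsum : ∑ g, H g = (Nat.totient (Nat.card G) : ℝ) * Fintype.card G := by
      show ∑ g, ∑ k : (ZMod (Nat.card G))ˣ, ‖χ (g ^ (k : ZMod (Nat.card G)).val)‖ ^ 2 = _
      rw [Finset.sum_comm]
      have hk : ∀ k : (ZMod (Nat.card G))ˣ,
          ∑ g : G, ‖χ (g ^ (k : ZMod (Nat.card G)).val)‖ ^ 2 = (Fintype.card G : ℝ) := by
        intro k
        have hcop : (Nat.card G).Coprime (k : ZMod (Nat.card G)).val :=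
          (ZMod.val_coe_unit_coprime k).symm
        rw [← horth]
        exact Equiv.sum_comp (powCoprime hcop) (fun g => ‖χ g‖ ^ 2)
      rw [Finset.sum_congr rfl (fun k _ => hk k), Finset.sum_const, Finset.card_univ,
        ZMod.card_units_eq_totient, nsmul_eq_mul]
    have hHlow : ∀ g, (Nat.totient (Nat.card G) : ℝ) * ((n : ℝ) ^ 2 * iZ g + 1 - iZ g - iV g)
        ≤ H g := by
      intro g
      by_cases hz : ‖χ g‖ = (n : ℝ)
      · have hv : χ g ≠ 0 := by
          intro h
          rw [h, norm_zero] at hz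
          linarith
        have hH : H g = (Nat.totient (Nat.card G) : ℝ) * (n : ℝ) ^ 2 := by
          show ∑ k : (ZMod (Nat.card G))ˣ, ‖χ (g ^ (k : ZMod (Nat.card G)).val)‖ ^ 2 = _
          have hk : ∀ k : (ZMod (Nat.card G))ˣ,
              ‖χ (g ^ (k : ZMod (Nat.card G)).val)‖ ^ 2 = (n : ℝ) ^ 2 := by
            intro k
            rw [← hρ] at hz ⊢
            rw [norm_pow_eq ρ g hz]
          rw [Finset.sum_congr rfl (fun k _ => hk k), Finset.sum_const, Finset.card_univ,
            ZMod.card_units_eq_totient, nsmul_eq_mul]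
        simp only [iZ, iV, if_pos hz, if_neg hv]
        rw [hH]
        ring_nf
        exact le_refl _
      · have hnn : 0 ≤ H g := Finset.sum_nonneg (fun k _ => sq_nonneg _)
        by_cases hv : χ g = 0
        · simp only [iZ, iV, if_neg hz, if_pos hv]
          simpa using hnn
        · simp only [iZ, iV, if_neg hz, if_neg hv]
          have := totient_le_sum ρ g (by rw [hρ]; exact hv)
          rw [hρ] at this
          simpa using this
    have hmain : (Nat.totient (Nat.card G) : ℝ) *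
        ((n : ℝ) ^ 2 * Zc + Fintype.card G - Zc - Vc) ≤
        (Nat.totient (Nat.card G) : ℝ) * Fintype.card G := by
      rw [← hsumR, ← hHsum]
      exact Finset.sum_le_sum (fun g _ => hHlow g)
    have h5 := le_of_mul_le_mul_left hmain hφpos
    have h6 : (((n ^ 2 - 1 : ℕ) * Zc : ℕ) : ℝ) ≤ (Vc : ℝ) := by
      rw [hcast]; linarith
    exact_mod_cast h6
  · intro hall
    have hpt : ∀ g, ‖χ g‖ ^ 2 = 1 * ((n : ℝ) ^ 2 * iZ g + 1 - iZ g - iV g) := by
      intro g
      by_cases hz : ‖χ g‖ = (n : ℝ)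
      · have hv : χ g ≠ 0 := by
          intro h
          rw [h, norm_zero] at hz
          linarith
        simp only [iZ, iV, if_pos hz, if_neg hv]
        rw [hz]; ring
      · rcases hall g with h | h | h
        · have hv : χ g = 0 := norm_eq_zero.mp h
          simp only [iZ, iV, if_neg hz, if_pos hv]
          rw [h]; ring
        · have hv : χ g ≠ 0 := by
            intro h'
            rw [h', norm_zero] at h
            linarith
          simp only [iZ, iV, if_neg hz, if_neg hv]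
          rw [h]; ring
        · exact absurd h hz
    have h5 : (Fintype.card G : ℝ) = 1 * ((n : ℝ) ^ 2 * Zc + Fintype.card G - Zc - Vc) := by
      rw [← hsumR, ← horth]
      exact Finset.sum_congr rfl (fun g _ => hpt g)
    have h6 : (((n ^ 2 - 1 : ℕ) * Zc : ℕ) : ℝ) = (Vc : ℝ) := by
      rw [hcast]; linarith
    exact_mod_cast h6

end Cfsg.Agent.S4574
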