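import Cfsg.Statements.S4604
import Cfsg.Agent.S4574
import Cfsg.Agent.Lib.CT.Wedderburn
import Cfsg.Agent.Lib.Helper3.Orth
import Cfsg.Agent.Lib.Helper80.Integrality
import Mathlib

set_option autoImplicit false
open Cfsg

namespace Cfsg.Agent.S4604

open scoped ComplexConjugate

/-- Freshman's dream for finite sums, modulo `p`, in any commutative ring. -/
theorem exists_sum_pow_prime_pow_eq {R : Type*} [CommRing R] (p : ℕ) (hp : p.Prime) (a : ℕ)
    {ι : Type*} (s : Finset ι) (f : ι → R) :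
    ∃ r : R, (∑ i ∈ s, f i) ^ (p ^ a) = ∑ i ∈ s, f i ^ (p ^ a) + (p : R) * r := by
  classical
  induction s using Finset.induction_on with
  | empty =>
    refine ⟨0, ?_⟩
    have : p ^ a ≠ 0 := pow_ne_zero _ hp.pos.ne'
    rw [Finset.sum_empty, Finset.sum_empty, zero_pow this, mul_zero, add_zero]
  | insert i s hi ih =>
    obtain ⟨r, hr⟩ := ih
    obtain ⟨r', hr'⟩ := exists_add_pow_prime_pow_eq hp (f i) (∑ j ∈ s, f j) a
    refine ⟨f i * (∑ j ∈ s, f j) * r' + r, ?_⟩
    rw [Finset.sum_insert hi, Finset.sum_insert hi, hr', hr]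
    ring

/-- Frobenius congruence: `χ(g)^(p^a) ≡ χ(g^(p^a))` modulo `p`. -/
theorem frob_congr {G : Type*} [Group G] [Finite G] {χ : G → ℂ} (hχ : IsCharacter G χ) (p : ℕ)
    (hp : p.Prime) (a : ℕ) (g : G) :
    ∃ γ : AlgInt, χ g ^ (p ^ a) - χ (g ^ (p ^ a)) = (p : ℂ) * (γ : ℂ) := by
  obtain ⟨n, ρ, rfl⟩ := hχ
  obtain ⟨m, μ, hμ, hk⟩ := Cfsg.Agent.S4574.exists_eigenvalues ρ g
  have hint : ∀ i, IsIntegral ℤ (μ i) := fun i =>
    IsIntegral.of_pow Nat.card_pos (by rw [hμ i]; exact isIntegral_one)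
  let ν : Fin m → AlgInt := fun i => ⟨μ i, hint i⟩
  obtain ⟨r, hr⟩ := exists_sum_pow_prime_pow_eq (R := AlgInt) p hp a Finset.univ ν
  refine ⟨r, ?_⟩
  have h1 := hk 1
  rw [pow_one] at h1
  have h2 := congrArg (fun z : AlgInt => (z : ℂ)) hr
  simp only [ν] at h2
  push_cast at h2
  rw [h1, hk (p ^ a)]
  simp only [pow_one]
  rw [h2]
  ring

/-- The trace of an endomorphism `f` with `f ^ (n + 1) = f` is an algebraic integer. -/
theorem isIntegral_trace_of_pow_succ_eq {V : Type*} [AddCommGroup V] [Module ℂ V]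
    [FiniteDimensional ℂ V] (f : Module.End ℂ V) (n : ℕ) (hn : 0 < n) (hf : f ^ (n + 1) = f) :
    IsIntegral ℤ (LinearMap.trace ℂ V f) := by
  rw [Module.End.trace_eq_sum_roots_charpoly_of_splits (IsAlgClosed.splits _)]
  refine IsIntegral.multiset_sum fun μ hμ => ?_
  have hroot : f.charpoly.IsRoot μ := (Polynomial.mem_roots'.1 hμ).2
  have hev : f.HasEigenvalue μ := (Module.End.hasEigenvalue_iff_isRoot_charpoly f μ).2 hroot
  obtain ⟨v, hv⟩ := hev.exists_hasEigenvector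
  have h2 := hv.pow_apply (n + 1)
  rw [hf, hv.apply_eq_smul] at h2
  have h3 : (μ ^ (n + 1) - μ) • v = 0 := by rw [sub_smul, ← h2, sub_self]
  rcases smul_eq_zero.1 h3 with h4 | h4
  · have h5 : μ * (μ ^ n - 1) = 0 := by rw [← h4]; ring
    rcases mul_eq_zero.1 h5 with h6 | h6
    · rw [h6]; exact isIntegral_zero
    · exact IsIntegral.of_pow hn (by rw [sub_eq_zero.1 h6]; exact isIntegral_one)
  · exact absurd h4 hv.2

/-- The average of a character over a coset `X Q` of a subgroup centralizing `X` is an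
algebraic integer. -/
theorem isIntegral_avg {G : Type*} [Group G] [Finite G] {χ : G → ℂ} (hχ : IsCharacter G χ)
    (X : G) (Q : Subgroup G) [Fintype Q] (hQ : ∀ q ∈ Q, Commute X q) :
    IsIntegral ℤ ((Nat.card Q : ℂ)⁻¹ * ∑ q : Q, χ (X * (q : G))) := by
  obtain ⟨n, ρ, rfl⟩ := hχ
  have hne : (Nat.card Q : ℂ) ≠ 0 := Nat.cast_ne_zero.mpr Nat.card_pos.ne'
  let S : Module.End ℂ (Fin n → ℂ) := ∑ q : Q, ρ (q : G)
  let E : Module.End ℂ (Fin n → ℂ) := (Nat.card Q : ℂ)⁻¹ • S
  have hqS : ∀ q : Q, ρ (q : G) * S = S := by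
    intro q
    show ρ (q : G) * ∑ q' : Q, ρ (q' : G) = ∑ q' : Q, ρ (q' : G)
    rw [Finset.mul_sum]
    simp_rw [← map_mul]
    exact Fintype.sum_equiv (Equiv.mulLeft q) _ _ (fun q' => rfl)
  have hSS : S * S = (Nat.card Q : ℂ) • S := by
    have : S * S = ∑ q : Q, ρ (q : G) * S := by
      show (∑ q : Q, ρ (q : G)) * S = _
      rw [Finset.sum_mul]
    rw [this]
    simp_rw [hqS]
    rw [Finset.sum_const, Finset.card_univ, Nat.card_eq_fintype_card, Nat.cast_smul_eq_nsmul]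
  have hEE : IsIdempotentElem E := by
    show E * E = E
    simp only [E]
    rw [smul_mul_smul_comm, hSS, smul_smul]
    congr 1
    field_simp
  have hcomm : Commute (ρ X) E := by
    apply Commute.smul_right
    apply Commute.sum_right
    intro q _
    show ρ X * ρ (q : G) = ρ (q : G) * ρ X
    rw [← map_mul, ← map_mul, (hQ q q.2).eq]
  have hT : (ρ X * E) ^ (orderOf X + 1) = ρ X * E := by
    rw [hcomm.mul_pow, hEE.pow_succ_eq, ← map_pow, pow_succ, pow_orderOf_eq_one, one_mul]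
  have hint := isIntegral_trace_of_pow_succ_eq (ρ X * E) (orderOf X) (orderOf_pos X) hT
  have htr : LinearMap.trace ℂ _ (ρ X * E) =
      (Nat.card Q : ℂ)⁻¹ * ∑ q : Q, ρ.character (X * (q : G)) := by
    simp only [E, S]
    rw [mul_smul_comm, map_smul, Finset.mul_sum, map_sum, smul_eq_mul]
    congr 1
    apply Finset.sum_congr rfl
    intro q _
    rw [← map_mul]
    rfl
  rw [← htr]
  exact hint

/-- A `p`-element `q` commuting with a `p`-regular `X` such that `X q` is conjugate to a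
`p`-regular element is trivial. -/
theorem eq_one_of_conj {G : Type*} [Group G] [Finite G] (p : ℕ) (hp : p.Prime) (X g q y : G)
    (hX : ¬ p ∣ orderOf X) (hg : ¬ p ∣ orderOf g) (hq : ∃ k : ℕ, orderOf q = p ^ k)
    (hc : Commute X q) (h : y * (X * q) * y⁻¹ = g) : q = 1 := by
  obtain ⟨k, hk⟩ := hq
  have h1 : (X * q) ^ (orderOf X * orderOf g) = 1 := by
    have h2 : (y * (X * q) * y⁻¹) ^ (orderOf X * orderOf g) = 1 := by
      rw [h, mul_comm, pow_mul, pow_orderOf_eq_one, one_pow]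
    rw [conj_pow] at h2
    have h3 : (X * q) ^ (orderOf X * orderOf g) = y⁻¹ * 1 * y := by
      rw [← h2]; group
    rw [h3]; group
  rw [hc.mul_pow, pow_mul, pow_orderOf_eq_one, one_pow, one_mul] at h1
  have h4 : orderOf q ∣ orderOf X * orderOf g := orderOf_dvd_of_pow_eq_one h1
  rw [hk] at h4
  rcases Nat.eq_zero_or_pos k with h0 | hpos
  · rw [h0, pow_zero] at hk
    exact orderOf_eq_one_iff.mp hk
  · exfalso
    have h5 : p ∣ orderOf X * orderOf g := (dvd_pow_self p hpos.ne').trans h4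
    rcases (Nat.Prime.dvd_mul hp).mp h5 with h6 | h6
    · exact hX h6
    · exact hg h6

section sums

variable {G : Type*} [Group G] [Fintype G] [DecidableEq G] [Fintype (IrrCharacter G)]

/-- The coefficient functional attached to `X` and `Q`, evaluated on a `p`-regular element. -/
theorem sum_coeff_mul (p : ℕ) (hp : p.Prime) (X : G) (hX : ¬ p ∣ orderOf X)
    (Q : Subgroup G) [Fintype Q] (hQc : ∀ q ∈ Q, Commute X q)
    (hQp : ∀ q ∈ Q, ∃ k : ℕ, orderOf q = p ^ k) (g : G) (hg : ¬ p ∣ orderOf g) :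
    ∑ χ : IrrCharacter G,
        conj ((Nat.card Q : ℂ)⁻¹ * ∑ q : Q, (χ : G → ℂ) (X * (q : G))) * (χ : G → ℂ) g =
      (Nat.card Q : ℂ)⁻¹ * ((Finset.univ.filter (fun y : G => y * X * y⁻¹ = g)).card : ℂ) := by
  have h1 : ∀ χ : IrrCharacter G,
      conj ((Nat.card Q : ℂ)⁻¹ * ∑ q : Q, (χ : G → ℂ) (X * (q : G))) * (χ : G → ℂ) g =
      (Nat.card Q : ℂ)⁻¹ * ∑ q : Q, (χ : G → ℂ) g * conj ((χ : G → ℂ) (X * (q : G))) := by
    intro χ
    rw [map_mul, map_inv₀, map_natCast, map_sum, mul_assoc, Finset.sum_mul]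
    congr 1
    apply Finset.sum_congr rfl
    intro q _
    rw [mul_comm]
  simp_rw [h1]
  rw [← Finset.mul_sum, Finset.sum_comm]
  congr 1
  simp_rw [Cfsg.Agent.Lib.Helper3.Orth.second_orthogonality_count_sum]
  rw [Finset.sum_eq_single (1 : Q)]
  · simp
  · intro q _ hq1
    have : (Finset.univ.filter (fun y : G => y * (X * (q : G)) * y⁻¹ = g)) = ∅ := by
      rw [Finset.filter_eq_empty_iff]
      intro y _ hy
      apply hq1
      have := eq_one_of_conj p hp X g (q : G) y hX hg (hQp q q.2) (hQc q q.2) hy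
      exact Subtype.ext this
    rw [this]
    simp
  · intro h
    exact absurd (Finset.mem_univ _) h

end sums

/-- Two `p`-regular elements on which all irreducible characters agree modulo `p` are
conjugate. -/
theorem isConj_of_congr {G : Type*} [Group G] [Finite G] (p : ℕ) [Fact p.Prime] (X Y : G)
    (hX : ¬ p ∣ orderOf X) (hY : ¬ p ∣ orderOf Y)
    (h : ∀ χ : IrrCharacter G, ∃ γ : AlgInt,
      (χ : G → ℂ) X - (χ : G → ℂ) Y = (p : ℂ) * (γ : ℂ)) : IsConj X Y := by
  classical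
  have hp : p.Prime := Fact.out
  have _instG : Fintype G := Fintype.ofFinite G
  have hfin := Cfsg.Agent.Lib.CT.Wedderburn.finite_irrCharacter G
  have _instI : Fintype (IrrCharacter G) := Fintype.ofFinite _
  by_contra hnc
  let C : Subgroup G := Subgroup.centralizer ({X} : Set G)
  obtain ⟨Q₀⟩ : Nonempty (Sylow p C) := inferInstance
  let Q : Subgroup G := (Q₀ : Subgroup C).map C.subtype
  have _instQ : Fintype Q := Fintype.ofFinite Q
  have hQc : ∀ q ∈ Q, Commute X q := by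
    rintro q ⟨c, -, rfl⟩
    have hc := c.2
    rw [Subgroup.mem_centralizer_singleton_iff] at hc
    exact hc.symm
  have hQp : ∀ q ∈ Q, ∃ k : ℕ, orderOf q = p ^ k := by
    rintro q ⟨c, hc, rfl⟩
    obtain ⟨k, hk⟩ := Q₀.isPGroup' ⟨c, hc⟩
    have hk' : (C.subtype c) ^ (p ^ k) = 1 := by
      have := congrArg (fun z : (Q₀ : Subgroup C) => ((z : C) : G)) hk
      simpa using this
    exact (Nat.dvd_prime_pow hp).mp (orderOf_dvd_of_pow_eq_one hk') |>.imp fun j hj => hj.2
  have hcardQ : Nat.card Q = Nat.card (Q₀ : Subgroup C) :=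
    Subgroup.card_map_of_injective C.subtype_injective
  have hidx : Nat.card (Q₀ : Subgroup C) * (Q₀ : Subgroup C).index = Nat.card C :=
    Subgroup.card_mul_index _
  have hndvd : ¬ p ∣ (Q₀ : Subgroup C).index := Q₀.not_dvd_index
  have hQne : (Nat.card Q : ℂ) ≠ 0 := Nat.cast_ne_zero.mpr Nat.card_pos.ne'
  -- the coefficients
  let c : IrrCharacter G → ℂ := fun χ =>
    conj ((Nat.card Q : ℂ)⁻¹ * ∑ q : Q, (χ : G → ℂ) (X * (q : G)))
  have hcint : ∀ χ : IrrCharacter G, IsIntegral ℤ (c χ) := fun χ =>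
    map_isIntegral_int (starRingEnd ℂ)
      (isIntegral_avg (Cfsg.Agent.Lib.CT.Wedderburn.isCharacter_of_irr χ.2) X Q hQc)
  have hsX : ∑ χ : IrrCharacter G, c χ * (χ : G → ℂ) X =
      (Nat.card Q : ℂ)⁻¹ * ((Finset.univ.filter (fun y : G => y * X * y⁻¹ = X)).card : ℂ) :=
    sum_coeff_mul p hp X hX Q hQc hQp X hX
  have hsY : ∑ χ : IrrCharacter G, c χ * (χ : G → ℂ) Y =
      (Nat.card Q : ℂ)⁻¹ * ((Finset.univ.filter (fun y : G => y * X * y⁻¹ = Y)).card : ℂ) :=
    sum_coeff_mul p hp X hX Q hQc hQp Y hY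
  have hY0 : (Finset.univ.filter (fun y : G => y * X * y⁻¹ = Y)) = ∅ := by
    rw [Finset.filter_eq_empty_iff]
    intro y _ hy
    exact hnc (isConj_iff.mpr ⟨y, hy⟩)
  have hXC : (Finset.univ.filter (fun y : G => y * X * y⁻¹ = X)).card = Nat.card C := by
    rw [Nat.card_eq_fintype_card, Fintype.card_subtype]
    congr 1
    ext y
    simp only [Finset.mem_filter, Finset.mem_univ, true_and, C,
      Subgroup.mem_centralizer_singleton_iff]
    constructor
    · intro h1
      calc y * X = (y * X * y⁻¹) * y := by group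
        _ = X * y := by rw [h1]
    · intro h1
      rw [h1]
      group
  rw [hY0, Finset.card_empty, Nat.cast_zero, mul_zero] at hsY
  rw [hXC, ← hidx, hcardQ] at hsX
  choose γ hγ using h
  have hkey : ((Q₀ : Subgroup C).index : ℂ) = (p : ℂ) * ∑ χ : IrrCharacter G, c χ * (γ χ : ℂ) := by
    have h1 : ∑ χ : IrrCharacter G, c χ * ((χ : G → ℂ) X - (χ : G → ℂ) Y) =
        ((Q₀ : Subgroup C).index : ℂ) := by
      simp_rw [mul_sub]
      rw [Finset.sum_sub_distrib, hsX, hsY, sub_zero]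
      rw [hcardQ] at hQne
      push_cast
      field_simp
    rw [← h1, Finset.mul_sum]
    apply Finset.sum_congr rfl
    intro χ _
    rw [hγ χ]
    ring
  have hint : IsIntegral ℤ (∑ χ : IrrCharacter G, c χ * (γ χ : ℂ)) :=
    IsIntegral.sum _ (fun χ _ => (hcint χ).mul (γ χ).2)
  have hpne : (p : ℂ) ≠ 0 := Nat.cast_ne_zero.mpr hp.pos.ne'
  have hdiv : IsIntegral ℤ ((((Q₀ : Subgroup C).index : ℕ) : ℂ) / (p : ℂ)) := by
    rw [hkey, mul_div_cancel_left₀ _ hpne]
    exact hint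
  exact hndvd (Cfsg.Agent.Lib.Helper80.Integrality.dvd_of_isIntegral_div hp.pos.ne' hdiv)

/-- The `p^a`-th powers of an element and its `p`-regular part agree. -/
theorem pow_eq_pow_regular {G : Type*} [Group G] [Finite G] (p : ℕ) (hp : p.Prime) (x x' : G)
    (hx : (∃ k : ℕ, orderOf (x * x'⁻¹) = p ^ k) ∧ Commute (x * x'⁻¹) x') :
    x ^ (p ^ (Nat.card G).factorization p) = x' ^ (p ^ (Nat.card G).factorization p) := by
  obtain ⟨⟨k, hk⟩, hc⟩ := hx
  have hu : (x * x'⁻¹) ^ (p ^ (Nat.card G).factorization p) = 1 := by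
    rw [← orderOf_dvd_iff_pow_eq_one, hk]
    apply pow_dvd_pow
    rw [← Nat.Prime.pow_dvd_iff_le_factorization hp Nat.card_pos.ne', ← hk]
    exact orderOf_dvd_natCard _
  have hxx : x = (x * x'⁻¹) * x' := by group
  calc x ^ (p ^ (Nat.card G).factorization p)
      = ((x * x'⁻¹) * x') ^ (p ^ (Nat.card G).factorization p) := by rw [← hxx]
    _ = x' ^ (p ^ (Nat.card G).factorization p) := by rw [hc.mul_pow, hu, one_mul]

/-- Let G be a finite group, p a prime and p^a the p-part of the order of G. Let x, y ∈ G and let x′, y′ be their p-regular parts: x′ has order prime to p, commutes with x·x′⁻¹, and x·x′⁻¹ has p-power order (likewise for y). Then x′ and y′ are conjugate in G if and only if for every irreducible character χ of G the algebraic integer χ(x)^(p^a) − χ(y)^(p^a) is p times an algebraic integer. -/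
theorem result {G : Type*} [Group G] [Finite G] (p : ℕ) [Fact p.Prime] (x y x' y' : G)
    (hx : (∃ k : ℕ, orderOf (x * x'⁻¹) = p ^ k) ∧ Commute (x * x'⁻¹) x' ∧ ¬ p ∣ orderOf x')
    (hy : (∃ k : ℕ, orderOf (y * y'⁻¹) = p ^ k) ∧ Commute (y * y'⁻¹) y' ∧ ¬ p ∣ orderOf y') :
    IsConj x' y' ↔ ∀ χ : Cfsg.IrrCharacter G, ∃ γ : Cfsg.AlgInt,
      (χ : G → ℂ) x ^ (p ^ (Nat.card G).factorization p) - (χ : G → ℂ) y ^ (p ^ (Nat.card G).factorization p) = (p : ℂ) * (γ : ℂ) := by
  have hp : p.Prime := Fact.out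
  set a := (Nat.card G).factorization p with ha
  have hxa : x ^ (p ^ a) = x' ^ (p ^ a) := pow_eq_pow_regular p hp x x' ⟨hx.1, hx.2.1⟩
  have hya : y ^ (p ^ a) = y' ^ (p ^ a) := pow_eq_pow_regular p hp y y' ⟨hy.1, hy.2.1⟩
  have hfrob : ∀ (χ : IrrCharacter G) (g : G), ∃ γ : AlgInt,
      (χ : G → ℂ) g ^ (p ^ a) - (χ : G → ℂ) (g ^ (p ^ a)) = (p : ℂ) * (γ : ℂ) := fun χ g =>
    frob_congr (Cfsg.Agent.Lib.CT.Wedderburn.isCharacter_of_irr χ.2) p hp a g
  constructor
  · intro hconj χ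
    obtain ⟨c, hc⟩ := isConj_iff.mp hconj
    have hcl : (χ : G → ℂ) (x ^ (p ^ a)) = (χ : G → ℂ) (y ^ (p ^ a)) := by
      rw [hxa, hya, ← hc, conj_pow]
      exact (Cfsg.Agent.Lib.CT.Wedderburn.char_isClassFunction
        (Cfsg.Agent.Lib.CT.Wedderburn.isCharacter_of_irr χ.2) _ c).symm
    obtain ⟨γ₁, h1⟩ := hfrob χ x
    obtain ⟨γ₂, h2⟩ := hfrob χ y
    refine ⟨γ₁ - γ₂, ?_⟩
    push_cast
    rw [mul_sub, ← h1, ← h2, hcl]
    ring
  · intro h
    have hX : ¬ p ∣ orderOf (x' ^ (p ^ a)) := fun hd => hx.2.2 (hd.trans (orderOf_pow_dvd _))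
    have hY : ¬ p ∣ orderOf (y' ^ (p ^ a)) := fun hd => hy.2.2 (hd.trans (orderOf_pow_dvd _))
    have hXY : IsConj (x' ^ (p ^ a)) (y' ^ (p ^ a)) := by
      apply isConj_of_congr p _ _ hX hY
      intro χ
      obtain ⟨γ₁, h1⟩ := hfrob χ x
      obtain ⟨γ₂, h2⟩ := hfrob χ y
      obtain ⟨γ, h3⟩ := h χ
      refine ⟨γ - γ₁ + γ₂, ?_⟩
      push_cast
      rw [mul_add, mul_sub, ← h1, ← h2, ← h3, ← hxa, ← hya]
      ring
    obtain ⟨c, hc⟩ := isConj_iff.mp hXY
    -- recover x' and y' as a common power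
    have hcop : (p ^ a).Coprime (orderOf x' * orderOf y') := by
      apply Nat.Coprime.pow_left
      apply Nat.Coprime.mul_right
      · exact (Nat.Prime.coprime_iff_not_dvd hp).mpr hx.2.2
      · exact (Nat.Prime.coprime_iff_not_dvd hp).mpr hy.2.2
    have hb := Nat.gcd_eq_gcd_ab (p ^ a) (orderOf x' * orderOf y')
    rw [hcop] at hb
    set A := (p ^ a).gcdA (orderOf x' * orderOf y') with hA
    set B := (p ^ a).gcdB (orderOf x' * orderOf y') with hB
    have hrec : ∀ z : G, z ^ (orderOf x' * orderOf y') = 1 → (z ^ (p ^ a)) ^ A = z := by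
      intro z hz
      have h1 : z ^ ((1 : ℕ) : ℤ) = z ^ (((p ^ a : ℕ) : ℤ) * A + ((orderOf x' * orderOf y' : ℕ) : ℤ) * B) := by
        rw [hb]
      rw [zpow_add, zpow_mul, zpow_mul, zpow_natCast, zpow_natCast, zpow_natCast, hz, one_zpow,
        mul_one, pow_one] at h1
      exact h1.symm
    have hx1 : x' ^ (orderOf x' * orderOf y') = 1 := by
      rw [pow_mul, pow_orderOf_eq_one, one_pow]
    have hy1 : y' ^ (orderOf x' * orderOf y') = 1 := by
      rw [mul_comm, pow_mul, pow_orderOf_eq_one, one_pow]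
    rw [isConj_iff]
    refine ⟨c, ?_⟩
    rw [← hrec x' hx1, ← conj_zpow, hc, hrec y' hy1]

end Cfsg.Agent.S4604
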