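import Cfsg.Statements.S4437
import Cfsg.Agent.Lib.Helper16.ExtFirst2

set_option autoImplicit false
open Cfsg

namespace Cfsg.Agent.S4437

open Cfsg.Agent.Lib.Helper16.ExtFirst Cfsg.Agent.Lib.Helper16.ExtFirst2 Cfsg.Agent.Lib.Helper16.Transfer Cfsg.Agent.Lib.Helper77.BPTransport Cfsg.Agent.Lib.Helper16.Normal

/-- Let P be a p-subgroup of the finite group G, H = P·C_G(P), and b a block of H (relative to a maximal ideal M of the algebraic integers containing p) having P as a defect group; let B be the block of G induced by b. Let T be the stabilizer of b in N_G(P): the elements g of N_G(P) such that the g-conjugate of every member of b is again a member of b. Then B has defect group P if and only if p does not divide the index of H in T. -/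
theorem result {G : Type*} [Group G] [Fintype G] (p : ℕ) [Fact p.Prime] (M : Ideal Cfsg.AlgInt) (hM : Cfsg.IsPModular p M) (P : Subgroup G) (hP : IsPGroup p P) (H : Subgroup G) [Fintype H] (hH : H = P ⊔ Subgroup.centralizer (P : Set G)) (b : Set (Cfsg.IrrCharacter H)) (hb : Cfsg.IsPBlock M b) (hbP : Cfsg.IsDefectGroup p M b (P.subgroupOf H)) (B : Set (Cfsg.IrrCharacter G)) (hind : Cfsg.IsInducedBlock M H b B) (T : Subgroup G) (hT : ∀ g : G, g ∈ T ↔ (g ∈ Subgroup.normalizer (P : Set G) ∧ ∀ θ ∈ b, ∀ θ' : Cfsg.IrrCharacter H, (∀ h h' : H, (h' : G) = g * h * g⁻¹ → (θ' : H → ℂ) h' = (θ : H → ℂ) h) → θ' ∈ b)) : Cfsg.IsDefectGroup p M B P ↔ ¬ p ∣ H.relIndex T := by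
  classical
  have hPL : P ≤ H := hH ▸ le_sup_left
  have hCL : Subgroup.centralizer (P : Set G) ≤ H := hH ▸ le_sup_right
  have hLN : H ≤ Subgroup.normalizer (P : Set G) := hH ▸ sup_centralizer_le_normalizer P
  have hn : (H.subgroupOf (Subgroup.normalizer (P : Set G))).Normal := by
    rw [hH]
    infer_instance
  have hTN : T ≤ Subgroup.normalizer (P : Set G) := fun g hg => ((hT g).mp hg).1
  rw [← Subgroup.relIndex_subgroupOf hTN]
  apply defect_iff_stab p hM P hP H hPL hCL hLN b hb hbP B hind
    (T.subgroupOf (Subgroup.normalizer (P : Set G)))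
  intro g
  rw [Subgroup.mem_subgroupOf]
  constructor
  · intro hg
    rintro θ ⟨θ₀, hθ₀, rfl⟩
    have hginv : ((g : G))⁻¹ ∈ T := T.inv_mem hg
    have h2 := ((hT _).mp hginv).2 θ₀ hθ₀
      (pull (sIso H (Subgroup.normalizer (P : Set G)) hLN).symm
        (cI (H.subgroupOf (Subgroup.normalizer (P : Set G))) hn g
          (pull (sIso H (Subgroup.normalizer (P : Set G)) hLN) θ₀))) ?_
    · exact ⟨_, h2, pull_pull_symm _ _⟩
    · intro h h' hh'
      rw [pull_apply, cI_apply, pull_apply]
      refine congrArg _ (Subtype.ext ?_)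
      show (g : G) * (h' : G) * (g : G)⁻¹ = (h : G)
      rw [hh']
      group
  · intro hg
    have hmem : ((g : G))⁻¹ ∈ T := by
      rw [hT]
      refine ⟨inv_mem g.2, fun θ hθ θ' hθ' => ?_⟩
      obtain ⟨θ₂, hθ₂, he⟩ := hg (pull (sIso H (Subgroup.normalizer (P : Set G)) hLN) θ)
        ⟨θ, hθ, rfl⟩
      have heq : θ' = θ₂ := by
        apply Subtype.ext
        funext h'
        have e1 : (θ₂ : H → ℂ) h'
            = (pull (sIso H (Subgroup.normalizer (P : Set G)) hLN) θ₂ : _ → ℂ)
              ((sIso H (Subgroup.normalizer (P : Set G)) hLN).symm h') := by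
          rw [pull_apply, MulEquiv.apply_symm_apply]
        rw [e1, he, cI_apply, pull_apply]
        apply hθ'
        show (h' : G) = (g : G)⁻¹ * ((g : G) * (h' : G) * (g : G)⁻¹) * ((g : G)⁻¹)⁻¹
        group
      rw [heq]
      exact hθ₂
    have := T.inv_mem hmem
    rwa [inv_inv] at this

end Cfsg.Agent.S4437
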