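import Cfsg.Statements.S0137
import Cfsg.Agent.Lib.Helper3.Spectral

set_option autoImplicit false
open Cfsg

namespace Cfsg.Agent.S0137

open Cfsg.Agent.Lib.Helper3.Spectral

/-- A character value of a finite group has absolute value at most the degree of the representation. -/
theorem result {G : Type*} [Group G] [Finite G] {V : Type*} [AddCommGroup V] [Module ℂ V] [FiniteDimensional ℂ V] (ρ : Representation ℂ G V) (g : G) : ‖ρ.character g‖ ≤ (Module.finrank ℂ V : ℝ) := by
  obtain ⟨b, μ, hb, hμ⟩ := exists_eigenbasis ρ g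
  unfold Representation.character
  rw [trace_eq_sum_of_eigenbasis b (ρ g) μ hb]
  calc ‖∑ i, μ i‖ ≤ ∑ i, ‖μ i‖ := norm_sum_le _ _
    _ = ∑ _i : Fin (Module.finrank ℂ V), (1 : ℝ) :=
        Finset.sum_congr rfl (fun i _ => norm_eq_one_of_pow_eq_one (orderOf_pos g) (hμ i))
    _ = (Module.finrank ℂ V : ℝ) := by simp

end Cfsg.Agent.S0137
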