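-- Statement S0055 (coprime action on an abelian group splits it).
import Cfsg.Statements.S0055
import Cfsg.Agent.S0026

set_option autoImplicit false
open Cfsg

namespace Cfsg.Agent.S0055

open scoped commutatorElement

/-- conjugation by an element of `A` as a map of `V`. -/
def conjV {G : Type*} [Group G] (A V : Subgroup G)
    (hAV : A ≤ Subgroup.normalizer (V : Set G)) (a : A) (v : V) : V :=
  ⟨(a : G) * v * (a : G)⁻¹, (Subgroup.mem_normalizer_iff.mp (hAV a.2) v).mp v.2⟩

open scoped IsMulCommutative in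
theorem norm_mul {G : Type*} [Group G] (A V : Subgroup G) [IsMulCommutative V] [Fintype A]
    (hAV : A ≤ Subgroup.normalizer (V : Set G)) (v w : V) :
    ∏ a : A, conjV A V hAV a (v * w) = (∏ a : A, conjV A V hAV a v) * ∏ a : A, conjV A V hAV a w := by
  rw [← Finset.prod_mul_distrib]
  apply Finset.prod_congr rfl
  intro a _
  ext
  simp [conjV, mul_assoc]

open scoped IsMulCommutative in
theorem norm_conj {G : Type*} [Group G] (A V : Subgroup G) [IsMulCommutative V] [Fintype A]
    (hAV : A ≤ Subgroup.normalizer (V : Set G)) (b : A) (v : V) :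
    ∏ a : A, conjV A V hAV a (conjV A V hAV b v) = ∏ a : A, conjV A V hAV a v := by
  apply Fintype.prod_equiv (Equiv.mulRight b)
  intro a
  ext
  simp [conjV, mul_assoc]

open scoped IsMulCommutative in
/-- The fixed points and the commutator meet trivially (coprime action on an abelian group). -/
theorem inter_eq_bot {G : Type*} [Group G] [Finite G] (A V : Subgroup G) [IsMulCommutative V]
    (hAV : A ≤ Subgroup.normalizer (V : Set G)) (hcop : (Nat.card A).Coprime (Nat.card V)) :
    (V ⊓ Subgroup.centralizer (A : Set G)) ⊓ ⁅V, A⁆ = ⊥ := by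
  classical
  letI := Fintype.ofFinite A
  let N : V →* V := MonoidHom.mk' (fun v => ∏ a : A, conjV A V hAV a v) (norm_mul A V hAV)
  have h1 : ⁅V, A⁆ ≤ N.ker.map V.subtype := by
    rw [Subgroup.commutator_le]
    intro v hv a ha
    refine ⟨⟨v, hv⟩ * (conjV A V hAV ⟨a, ha⟩ ⟨v, hv⟩)⁻¹, ?_, ?_⟩
    · have h2 : N (conjV A V hAV ⟨a, ha⟩ ⟨v, hv⟩) = N ⟨v, hv⟩ := norm_conj A V hAV ⟨a, ha⟩ ⟨v, hv⟩
      rw [SetLike.mem_coe, MonoidHom.mem_ker, map_mul, map_inv, h2, mul_inv_cancel]
    · simp [conjV, commutatorElement_def, mul_assoc]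
  rw [eq_bot_iff]
  rintro w ⟨⟨hwV, hwC⟩, hwcomm⟩
  obtain ⟨w', hw', rfl⟩ := h1 hwcomm
  have h2 : N w' = w' ^ Fintype.card A := by
    show ∏ a : A, conjV A V hAV a w' = _
    rw [Finset.prod_eq_pow_card (b := w')]
    · simp
    · intro a _
      ext
      have h6 : (a : G) * (w' : G) = (w' : G) * (a : G) :=
        Subgroup.mem_centralizer_iff.mp hwC a a.2
      simp only [conjV]
      rw [h6]
      simp
  rw [SetLike.mem_coe, MonoidHom.mem_ker, h2] at hw'
  have h3 : orderOf w' ∣ Nat.card A := by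
    rw [Nat.card_eq_fintype_card]; exact orderOf_dvd_of_pow_eq_one hw'
  have h4 : orderOf w' ∣ Nat.card V := orderOf_dvd_natCard w'
  have h5 : orderOf w' = 1 := Nat.eq_one_of_dvd_coprimes hcop h3 h4
  simp [orderOf_eq_one_iff.mp h5]

/-- If A normalises an abelian subgroup V of coprime order, then V is the internal direct product of its A-fixed points and its commutator with A: the two meet trivially and generate V. -/
theorem result {G : Type*} [Group G] [Finite G] (A V : Subgroup G) [IsMulCommutative V]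
    (hAV : A ≤ Subgroup.normalizer (V : Set G)) (hcop : (Nat.card A).Coprime (Nat.card V)) :
    (V ⊓ Subgroup.centralizer (A : Set G)) ⊓ ⁅V, A⁆ = ⊥ ∧ (V ⊓ Subgroup.centralizer (A : Set G)) ⊔ ⁅V, A⁆ = V := by
  refine ⟨inter_eq_bot A V hAV hcop, ?_⟩
  have hsolv : Group.IsSolvable ↥V := Group.isSolvable_of_comm (fun a b => mul_comm' a b)
  rw [sup_comm]
  exact Cfsg.Agent.S0026.result A V hAV hcop (Or.inr hsolv)

end Cfsg.Agent.S0055
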