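-- Statement S0119.
import Cfsg.Statements.S0119
import Cfsg.Agent.Lib.Helper24.SpecialGroup
import Cfsg.Agent.Lib.Helper63.PFrattini

set_option autoImplicit false
open Cfsg

namespace Cfsg.Agent.S0119

open Cfsg.Agent.Lib.Helper24.SpecialGroup in
/-- If a p'-group A of automorphisms of a p-group G satisfies G = [G, A] and acts trivially on every characteristic abelian subgroup, then G is special with centre equal to the fixed points of A. -/
theorem result {G : Type*} [Group G] [Finite G] {p : ℕ} [Fact p.Prime] (hG : IsPGroup p G) (A : Subgroup (MulAut G)) (hA : Nat.Coprime (Nat.card A) p) (hGA : Subgroup.closure {x : G | ∃ g : G, ∃ a ∈ A, x = g⁻¹ * a g} = ⊤) (hchar : ∀ H : Subgroup G, H.Characteristic → IsMulCommutative H → ∀ a ∈ A, ∀ h ∈ H, a h = h) : Cfsg.IsSpecial p G ∧ (∀ g : G, (g ∈ Subgroup.center G ↔ ∀ a ∈ A, a g = g)) := by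
  obtain ⟨h1, h2, h3⟩ := special_of_coprime_action hG A hA hGA (fun H hH hHc a ha h hh =>
    hchar H hH (isMulCommutative_iff.mpr (fun a b => Subtype.ext (hHc a a.2 b b.2))) a ha h hh)
  refine ⟨⟨hG, ?_, h1⟩, h3⟩
  apply le_antisymm
  · exact frattini_le_of_quotient_elementary p (Subgroup.center G) h1.le h2
  · rw [← h1]
    exact Cfsg.Agent.Lib.Helper63.PFrattini.commutator_le_frattini hG

end Cfsg.Agent.S0119
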