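-- Statement S3736.
import Cfsg.Statements.S3736
import Cfsg.Agent.S0119
import Cfsg.Agent.Lib.Helper24.ConjAction

set_option autoImplicit false
open Cfsg

namespace Cfsg.Agent.S3736

open scoped commutatorElement

open Cfsg.Agent.Lib.Helper24.Coprime Cfsg.Agent.Lib.Helper24.ConjAction
  Cfsg.Agent.Lib.Helper24.SpecialGroup in
/-- The Hall–Higman reduction for a minimal non-trivial action. Let B, A and P be subgroups of a finite group with P a p-group, B normalizing P, and A a normal subgroup of B of order prime to p. Suppose A does not centralize P but centralizes every proper B-invariant subgroup of P. Then [P, A] = P; P is elementary abelian or special; B acts irreducibly on P/Φ(P), that is, the only B-invariant subgroups of P containing Φ(P) are Φ(P) and P; and if p is odd then every element of P has order dividing p. -/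
theorem result {X : Type*} [Group X] [Finite X] {p : ℕ} [Fact p.Prime] (B A P : Subgroup X) (hP : IsPGroup p P) (hBP : B ≤ Subgroup.normalizer (P : Set X)) (hAB : A ≤ B) (hAn : B ≤ Subgroup.normalizer (A : Set X)) (hAp : (Nat.card A).Coprime p) (hnt : ⁅P, A⁆ ≠ ⊥) (hmin : ∀ U : Subgroup X, U < P → B ≤ Subgroup.normalizer (U : Set X) → ⁅U, A⁆ = ⊥) : ⁅P, A⁆ = P ∧ (Cfsg.IsElementaryAbelian p P ∨ Cfsg.IsSpecial p ↥P) ∧ (∀ U : Subgroup X, (frattini ↥P).map P.subtype ≤ U → U ≤ P → B ≤ Subgroup.normalizer (U : Set X) → U = (frattini ↥P).map P.subtype ∨ U = P) ∧ (p ≠ 2 → ∀ x ∈ P, x ^ p = 1) := by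
  have hpr : p.Prime := Fact.out
  have hAP : A ≤ Subgroup.normalizer (P : Set X) := hAB.trans hBP
  have hcomle : ⁅P, A⁆ ≤ P := commutator_le_of_le_normalizer hAP
  have hcopa : ∀ a ∈ A, (orderOf a).Coprime (Nat.card P) := by
    intro a ha
    obtain ⟨n, hn⟩ := hP.exists_card_eq
    rw [hn]
    exact Nat.Coprime.pow_right n
      (Nat.Coprime.coprime_dvd_left (Subgroup.orderOf_dvd_natCard A ha) hAp)
  have htriv : ∀ U : Subgroup X, ⁅U, A⁆ = ⊥ → ∀ u ∈ U, ∀ a ∈ A, u * a = a * u := by
    intro U hU u hu a ha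
    have : ⁅u, a⁆ ∈ ⁅U, A⁆ := Subgroup.commutator_mem_commutator hu ha
    rw [hU, Subgroup.mem_bot, commutatorElement_eq_one_iff_mul_comm] at this
    exact this
  -- (1) `[P, A] = P`
  have h1 : ⁅P, A⁆ = P := by
    by_contra hne
    have hlt : ⁅P, A⁆ < P := lt_of_le_of_ne hcomle hne
    have hBn : B ≤ Subgroup.normalizer ((⁅P, A⁆ : Subgroup X) : Set X) :=
      fun b hb => mem_normalizer_commutator (hBP hb) (hAn hb)
    have h0 := htriv _ (hmin _ hlt hBn)
    apply hnt
    rw [eq_bot_iff, Subgroup.commutator_le]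
    intro x hx a ha
    rw [Subgroup.mem_bot, commutatorElement_eq_one_iff_mul_comm]
    exact commute_of_commutator_commute (hAP ha) (hcopa a ha) hx
      (h0 ⁅x, a⁆ (Subgroup.commutator_mem_commutator hx ha) a ha)
  -- the automorphism group induced by `A`
  obtain ⟨A', hA'⟩ : ∃ A' : Subgroup (MulAut ↥P), A' = (conjHom A P hAP).range := ⟨_, rfl⟩
  have hA'cop : (Nat.card A').Coprime p := by
    rw [hA']; exact card_range_coprime A P hAP hAp
  have hA'mem : ∀ a' ∈ A', ∃ a ∈ A, ∀ w : ↥P, ((a' w : ↥P) : X) = a * w * a⁻¹ := by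
    intro a' ha'
    rw [hA'] at ha'
    exact exists_of_mem_range A P hAP a' ha'
  have hGA : Subgroup.closure {x : ↥P | ∃ g : ↥P, ∃ a ∈ A', x = g⁻¹ * a g} = ⊤ := by
    have hle : ⁅P, A⁆ ≤ (Subgroup.closure {x : ↥P | ∃ g : ↥P, ∃ a ∈ A', x = g⁻¹ * a g}).map
        P.subtype := by
      rw [Subgroup.commutator_le]
      intro x hx a ha
      refine ⟨(⟨x⁻¹, P.inv_mem hx⟩ : ↥P)⁻¹ * conjHom A P hAP ⟨a, ha⟩ ⟨x⁻¹, P.inv_mem hx⟩,
        Subgroup.subset_closure ⟨⟨x⁻¹, P.inv_mem hx⟩, conjHom A P hAP ⟨a, ha⟩, ?_, rfl⟩, ?_⟩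
      · rw [hA']; exact ⟨⟨a, ha⟩, rfl⟩
      · show (x⁻¹)⁻¹ * (a * x⁻¹ * a⁻¹) = ⁅x, a⁆
        rw [commutatorElement_def]; group
    rw [h1] at hle
    rw [eq_top_iff]
    intro w _
    obtain ⟨w', hw', hww'⟩ := hle w.2
    have : w' = w := Subtype.ext hww'
    rw [← this]; exact hw'
  -- (3) irreducibility
  have h3 : ∀ U : Subgroup X, (frattini ↥P).map P.subtype ≤ U → U ≤ P →
      B ≤ Subgroup.normalizer (U : Set X) → U = (frattini ↥P).map P.subtype ∨ U = P := by
    intro U hΦU hUP hBU
    by_cases hUP' : U = P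
    · right; exact hUP'
    · left
      have h0 := htriv U (hmin U (lt_of_le_of_ne hUP hUP') hBU)
      apply le_antisymm _ hΦU
      intro u hu
      have hfix : ∀ a' ∈ A', a' ⟨u, hUP hu⟩ = ⟨u, hUP hu⟩ := by
        intro a' ha'
        obtain ⟨a, ha, hact⟩ := hA'mem a' ha'
        apply Subtype.ext
        rw [hact]
        have := h0 u hu a ha
        show a * u * a⁻¹ = u
        rw [← this, mul_inv_cancel_right]
      have hmemc := fixed_mem_commutator hP A' hA'cop hGA ⟨u, hUP hu⟩ hfix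
      exact ⟨⟨u, hUP hu⟩, Cfsg.Agent.Lib.Helper63.PFrattini.commutator_le_frattini hP hmemc, rfl⟩
  by_cases hab : ∀ x ∈ P, ∀ y ∈ P, x * y = y * x
  · -- abelian case
    have hexp : ∀ x ∈ P, x ^ p = 1 := by
      by_contra hne
      let Ω : Subgroup X :=
        { carrier := {x | x ∈ P ∧ x ^ p = 1}
          one_mem' := ⟨P.one_mem, one_pow p⟩
          mul_mem' := by
            rintro x y ⟨hx, hxp⟩ ⟨hy, hyp⟩
            have hc : Commute x y := hab x hx y hy
            exact ⟨P.mul_mem hx hy, by rw [hc.mul_pow, hxp, hyp, one_mul]⟩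
          inv_mem' := by
            rintro x ⟨hx, hxp⟩
            exact ⟨P.inv_mem hx, by rw [inv_pow, hxp, inv_one]⟩ }
      have hΩP : Ω ≤ P := fun x hx => hx.1
      have hΩne : Ω ≠ P := by
        intro h
        apply hne
        intro x hx
        have : x ∈ Ω := h ▸ hx
        exact this.2
      have hBΩ : B ≤ Subgroup.normalizer (Ω : Set X) := by
        intro b hb
        rw [Subgroup.mem_normalizer_iff]
        intro h
        constructor
        · rintro ⟨hh, hhp⟩
          exact ⟨(Subgroup.mem_normalizer_iff.mp (hBP hb) h).mp hh, by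
            rw [conj_pow, hhp, mul_one, mul_inv_cancel]⟩
        · rintro ⟨hh, hhp⟩
          refine ⟨(Subgroup.mem_normalizer_iff.mp (hBP hb) h).mpr hh, ?_⟩
          rw [conj_pow] at hhp
          have : h ^ p = b⁻¹ * (b * h ^ p * b⁻¹) * b := by group
          rw [this, hhp, mul_one, inv_mul_cancel]
      have h0 := htriv Ω (hmin Ω (lt_of_le_of_ne hΩP hΩne) hBΩ)
      apply hnt
      rw [eq_bot_iff, Subgroup.commutator_le]
      intro x hx a ha
      rw [Subgroup.mem_bot, commutatorElement_eq_one_iff_mul_comm]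
      exact centralizes_abelian_of_centralizes_omega p a P (hcopa a ha) hP hab (hAP ha)
        (fun y hy hyp => h0 y ⟨hy, hyp⟩ a ha) x hx
    exact ⟨h1, Or.inl ⟨isMulCommutative_iff.mpr (fun a b => Subtype.ext (hab a a.2 b b.2)), hexp⟩,
      h3, fun _ => hexp⟩
  · -- nonabelian case
    have hchar : ∀ H : Subgroup ↥P, H.Characteristic → IsMulCommutative H →
        ∀ a ∈ A', ∀ h ∈ H, a h = h := by
      intro H hH hHc a' ha' h hh
      obtain ⟨a, ha, hact⟩ := hA'mem a' ha'
      have hUP : H.map P.subtype ≤ P := Subgroup.map_subtype_le H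
      have hUne : H.map P.subtype ≠ P := by
        intro heq
        apply hab
        intro x hx y hy
        rw [← heq] at hx hy
        obtain ⟨x', hx', rfl⟩ := hx
        obtain ⟨y', hy', rfl⟩ := hy
        have := isMulCommutative_iff.mp hHc ⟨x', hx'⟩ ⟨y', hy'⟩
        exact congrArg (fun z : H => ((z : ↥P) : X)) this
      have hBU : B ≤ Subgroup.normalizer ((H.map P.subtype : Subgroup X) : Set X) :=
        hBP.trans (le_normalizer_map_of_characteristic P H hH)
      have h0 := htriv _ (hmin _ (lt_of_le_of_ne hUP hUne) hBU)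
      apply Subtype.ext
      rw [hact]
      have := h0 (h : X) ⟨h, hh, rfl⟩ a ha
      rw [← this, mul_inv_cancel_right]
    obtain ⟨hsp, hfix⟩ := Cfsg.Agent.S0119.result hP A' hA'cop hGA hchar
    refine ⟨h1, Or.inr hsp, h3, ?_⟩
    intro hp2 x hx
    obtain ⟨_, hfr, hcm⟩ := hsp
    have hpowc : ∀ y : ↥P, y ^ p ∈ Subgroup.center ↥P :=
      fun y => hfr ▸ Cfsg.Agent.Lib.Helper63.PFrattini.pow_mem_frattini hP y
    have hcomc : ∀ u v : ↥P, v⁻¹ * u⁻¹ * v * u ∈ Subgroup.center ↥P := by
      intro u v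
      rw [← hcm, commutator_def]
      have : v⁻¹ * u⁻¹ * v * u = ⁅v⁻¹, u⁻¹⁆ := by rw [commutatorElement_def]; group
      rw [this]
      exact Subgroup.commutator_mem_commutator (Subgroup.mem_top _) (Subgroup.mem_top _)
    have hmulpow : ∀ u v : ↥P, (u * v) ^ p = u ^ p * v ^ p := by
      intro u v
      apply mul_pow_prime_of_central p hp2
      · exact (Subgroup.mem_center_iff.mp (hcomc u v) u).symm
      · exact (Subgroup.mem_center_iff.mp (hcomc u v) v).symm
      · exact (Subgroup.mem_center_iff.mp (hpowc v) u).symm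
    have hgen : ∀ y ∈ Subgroup.closure {x : ↥P | ∃ g : ↥P, ∃ a ∈ A', x = g⁻¹ * a g},
        y ^ p = 1 := by
      intro y hy
      induction hy using Subgroup.closure_induction with
      | mem y hy =>
        obtain ⟨g, a', ha', rfl⟩ := hy
        rw [hmulpow, inv_pow, ← map_pow, (hfix (g ^ p)).mp (hpowc g) a' ha', inv_mul_cancel]
      | one => exact one_pow p
      | mul y z _ _ hy hz => rw [hmulpow, hy, hz, one_mul]
      | inv y _ hy => rw [inv_pow, hy, inv_one]
    rw [hGA] at hgen
    have := hgen ⟨x, hx⟩ (Subgroup.mem_top _)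
    exact congrArg Subtype.val this

end Cfsg.Agent.S3736
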