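import Mathlib
import Cfsg.Statements.S0630
import Cfsg.Agent.Lib.Helper11.ZJQuot
import Cfsg.Agent.Lib.Helper22.PCons

set_option autoImplicit false
open Cfsg

namespace Cfsg.Agent.S0630

open Cfsg.Agent.Lib.Helper76.PSolv

/-- `p`-constraint in terms of the quotient by `O_{p'}`. -/
theorem isPConstrained_iff_centralizer {G : Type*} [Group G] [Finite G] {p : ℕ} [Fact p.Prime] :
    Cfsg.IsPConstrained p G ↔
      Subgroup.centralizer ((Cfsg.pCore p (G ⧸ Cfsg.pPrimeCore p G) :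
        Subgroup (G ⧸ Cfsg.pPrimeCore p G)) : Set (G ⧸ Cfsg.pPrimeCore p G))
        ≤ Cfsg.pCore p (G ⧸ Cfsg.pPrimeCore p G) := by
  constructor
  · exact fun h => Cfsg.Agent.Lib.Helper11.ZJQuot.centralizer_pCore_quotient_le h
  · intro hcent S x hx
    show QuotientGroup.mk' (Cfsg.pPrimeCore p G) x ∈ Cfsg.pCore p (G ⧸ Cfsg.pPrimeCore p G)
    apply hcent
    rw [← Cfsg.Agent.Lib.Helper11.ZJQuot.map_sylow_eq_pCore S, Subgroup.mem_centralizer_iff]
    rintro _ ⟨s, hs, rfl⟩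
    have := Subgroup.mem_centralizer_iff.mp hx s hs
    rw [← map_mul, ← map_mul, this]

/-- If `O_{p'}(Y) = 1` then `O_{p',p}(Y) = O_p(Y)`. -/
theorem pPrimePCore_eq_pCore {Y : Type*} [Group Y] [Finite Y] {p : ℕ} [Fact p.Prime]
    (h : Cfsg.pPrimeCore p Y = ⊥) : Cfsg.pPrimePCore p Y = Cfsg.pCore p Y := by
  haveI hKn : (Cfsg.pPrimeCore p Y).Normal := (pPrimeCore_mem p).1
  apply le_antisymm
  · apply le_pCore (Cfsg.Agent.Lib.Helper11.PConstr.pPrimePCore_normal p Y)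
    intro m
    have hm : QuotientGroup.mk' (Cfsg.pPrimeCore p Y) (m : Y) ∈
        Cfsg.pCore p (Y ⧸ Cfsg.pPrimeCore p Y) := m.2
    obtain ⟨k, hk⟩ := (pCore_isPGroup p (G := Y ⧸ Cfsg.pPrimeCore p Y)) ⟨_, hm⟩
    refine ⟨k, Subtype.ext ?_⟩
    have hk' := congrArg Subtype.val hk
    simp only [Subgroup.coe_pow, Subgroup.coe_one] at hk'
    rw [← map_pow, QuotientGroup.mk'_apply, QuotientGroup.eq_one_iff, h, Subgroup.mem_bot] at hk'
    simpa using hk'
  · intro x hx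
    show QuotientGroup.mk' (Cfsg.pPrimeCore p Y) x ∈ Cfsg.pCore p (Y ⧸ Cfsg.pPrimeCore p Y)
    have hn : ((Cfsg.pCore p Y).map (QuotientGroup.mk' (Cfsg.pPrimeCore p Y))).Normal :=
      (Cfsg.Agent.Lib.Helper11.PConstr.pCore_normal'' p Y).map _ (QuotientGroup.mk'_surjective _)
    exact le_pCore hn ((pCore_isPGroup p).map _) (Subgroup.mem_map_of_mem _ hx)

/-- If `O_{p'}(Y) = 1` then `Y` is `p`-constrained iff `C_Y(O_p(Y)) ≤ O_p(Y)`. -/
theorem isPConstrained_iff_of_core_bot {Y : Type*} [Group Y] [Finite Y] {p : ℕ} [Fact p.Prime]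
    (h : Cfsg.pPrimeCore p Y = ⊥) :
    Cfsg.IsPConstrained p Y ↔
      Subgroup.centralizer ((Cfsg.pCore p Y : Subgroup Y) : Set Y) ≤ Cfsg.pCore p Y := by
  have hM := pPrimePCore_eq_pCore (p := p) h
  have hMp : IsPGroup p ↥(Cfsg.pPrimePCore p Y) := by rw [hM]; exact pCore_isPGroup p
  have hS : ∀ S : Sylow p ↥(Cfsg.pPrimePCore p Y),
      (S : Subgroup ↥(Cfsg.pPrimePCore p Y)).map (Cfsg.pPrimePCore p Y).subtype
        = Cfsg.pCore p Y := by
    intro S
    rw [Cfsg.Agent.Lib.Helper22.PCons.sylow_eq_top_of_isPGroup p hMp S, ← MonoidHom.range_eq_map,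
      Subgroup.range_subtype, hM]
  constructor
  · intro hc
    obtain ⟨S⟩ : Nonempty (Sylow p ↥(Cfsg.pPrimePCore p Y)) := inferInstance
    have := hc S
    rw [hS S, hM] at this
    exact this
  · intro hc S
    rw [hS S, hM]
    exact hc

/-- p-constraint passes to and from the quotient by the largest normal subgroup of order prime to p. -/
theorem result {G : Type*} [Group G] [Finite G] {p : ℕ} [Fact p.Prime] : Cfsg.IsPConstrained p G ↔ Cfsg.IsPConstrained p (G ⧸ Cfsg.pPrimeCore p G) := by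
  rw [isPConstrained_iff_centralizer, isPConstrained_iff_of_core_bot (pPrimeCore_quotient p)]

end Cfsg.Agent.S0630
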