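import Cfsg.Statements.S1396
-- import your own Cfsg.Agent.* helpers here
import Mathlib
import Cfsg.Agent.Lib.Helper90.TTOmega
import Cfsg.Agent.Lib.Helper90.SylowConj
import Cfsg.Agent.Lib.Helper23.Transitivity
import Cfsg.Agent.Lib.Helper22.PCons
import Cfsg.Agent.S0044
import Cfsg.Agent.S0630


set_option autoImplicit false
open Cfsg

namespace Cfsg.Agent.S1396

open Cfsg.Agent.Lib.Helper90.Conj Cfsg.Agent.Lib.Helper90.TTOmega
  Cfsg.Agent.Lib.Helper23.Transitivity

/-- A finite solvable group is `p`-constrained. -/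
theorem isPConstrained_of_isSolvable {X : Type*} [Group X] [Finite X] (p : ℕ) [Fact p.Prime]
    [Group.IsSolvable X] : Cfsg.IsPConstrained p X := by
  rw [Cfsg.Agent.S0630.isPConstrained_iff_centralizer,
    ← Cfsg.Agent.Lib.Helper22.PCons.fitting_quotient_eq]
  exact Cfsg.Agent.S0044.result


/-- Let G be a minimal simple group of odd order, p a prime dividing the order of G and A an abelian p-subgroup. Suppose either (1) A consists exactly of the elements x of C_G(A) with x^p = 1, and every proper subgroup of G has p-length at most one, or (2) A is normal and self-centralizing in some Sylow p-subgroup of G and has rank at least 2. Then A satisfies the transitivity hypothesis. -/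
theorem result {G : Type*} [Group G] [Finite G] (hG : Cfsg.IsMinSimpleOddOrder G)
    (p : ℕ) [Fact p.Prime] (hp : p ∣ Nat.card G) (A : Subgroup G) (hAp : IsPGroup p A) (hAc : IsMulCommutative A)
    (h : (∀ x ∈ Subgroup.centralizer (A : Set G), x ^ p = 1 ↔ x ∈ A) ∧ (∀ H : Subgroup G, H ≠ ⊤ → Cfsg.PLengthLE p 1 H) ∨
      ∃ P : Sylow p G, Cfsg.IsSCN (P : Subgroup G) A ∧ ¬ Cfsg.PRankLE p 1 A) :
    Cfsg.TransitivityHypothesis A := by
  obtain ⟨hodd, hsimp, hnab, hsolv⟩ := hG
  have hpp : p.Prime := Fact.out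
  have hp2 : p ≠ 2 := by
    rintro rfl
    exact (Nat.not_even_iff_odd.mpr hodd) (even_iff_two_dvd.mpr hp)
  have hAcomm : ∀ a ∈ A, ∀ b ∈ A, a * b = b * a := fun a ha b hb =>
    congrArg Subtype.val (mul_comm' (⟨a, ha⟩ : ↥A) ⟨b, hb⟩)
  have hfull : ∀ x : G, (∀ a ∈ A, a * x = x * a) → x ^ p = 1 → x ∈ A := by
    intro x hx hxp
    have hxC : x ∈ Subgroup.centralizer (A : Set G) := by
      rw [Subgroup.mem_centralizer_iff]; exact hx
    rcases h with ⟨h1, -⟩ | ⟨P, hscn, -⟩
    · exact (h1 x hxC).mp hxp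
    · obtain ⟨hAP, hPn, hPC⟩ := hscn
      have hxN : x ∈ Subgroup.normalizer (A : Set G) := Subgroup.centralizer_le_normalizer (A : Set G) hxC
      obtain ⟨a, haN, ha⟩ := Cfsg.Agent.Lib.Helper90.SylowConj.exists_conj_mem_sylow_of_le P
        (Subgroup.normalizer (A : Set G)) hPn x hxN 1 (by simpa using hxp)
      have haN' : a⁻¹ ∈ Subgroup.normalizer (A : Set G) := Subgroup.inv_mem _ haN
      have hc : a⁻¹ * x * a ∈ Subgroup.centralizer (A : Set G) := by
        rw [Subgroup.mem_centralizer_iff]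
        intro b hb
        have hb' : a * b * a⁻¹ ∈ A := conj_mem_of_mem_normalizer haN hb
        have h3 := hx _ hb'
        calc b * (a⁻¹ * x * a) = a⁻¹ * ((a * b * a⁻¹) * x) * a := by group
          _ = a⁻¹ * (x * (a * b * a⁻¹)) * a := by rw [h3]
          _ = a⁻¹ * x * a * b := by group
      have hA' : a⁻¹ * x * a ∈ A := by rw [← hPC]; exact ⟨ha, hc⟩
      have h4 := conj_mem_of_mem_normalizer haN hA'
      have h5 : a * (a⁻¹ * x * a) * a⁻¹ = x := by group
      rwa [h5] at h4
  have hAne : A ≠ ⊥ := by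
    rintro rfl
    rcases h with ⟨h1, -⟩ | ⟨P, -, hrk⟩
    · obtain ⟨x, hx⟩ := exists_prime_orderOf_dvd_card' p hp
      have hx1 : x ∈ (⊥ : Subgroup G) :=
        (h1 x (by simp [Subgroup.mem_centralizer_iff])).mp (by rw [← hx]; exact pow_orderOf_eq_one x)
      rw [Subgroup.mem_bot] at hx1
      rw [hx1, orderOf_one] at hx
      exact hpp.one_lt.ne hx
    · apply hrk
      intro B _ _
      have h1 : Nat.card B ≤ 1 := Finite.card_le_one_iff_subsingleton.mpr inferInstance
      exact h1.trans (Nat.one_le_pow _ _ hpp.pos)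
  have hAtop : A ≠ ⊤ := by
    rintro rfl
    apply hnab
    exact ⟨⟨fun a b => hAcomm a trivial b trivial⟩⟩
  refine ⟨hAne, hAtop, ?_⟩
  intro X hX hAX
  have hπ : ∀ q : ℕ, q.Prime → (q ∈ Cfsg.primesNotDvd (Nat.card A) ↔ q ≠ p) := by
    intro q hq
    obtain ⟨n, hn⟩ := IsPGroup.iff_card.mp hAp
    have hn0 : n ≠ 0 := by
      rintro rfl
      rw [pow_zero] at hn
      exact hAne (Subgroup.card_eq_one.mp hn)
    unfold Cfsg.primesNotDvd
    simp only [Set.mem_ofPred_eq, hq, true_and, hn]
    constructor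
    · rintro h1 rfl
      exact h1 (dvd_pow_self q hn0)
    · intro h1 h2
      exact h1 ((Nat.prime_dvd_prime_iff_eq hq hpp).mp (hq.dvd_of_dvd_pow h2))
  apply le_antisymm
  · apply sSup_le
    intro Y hY
    obtain ⟨hYX, hYπ, hAY⟩ := hY
    have hYp : ¬ p ∣ Nat.card Y := fun hd => ((hπ p hpp).mp (hYπ p hpp hd)) rfl
    have hsX : Group.IsSolvable ↥X := hsolv X hX
    have hc : Cfsg.IsPConstrained p ↥X := isPConstrained_of_isSolvable p
    have hcardY : Nat.card ↥(Y.subgroupOf X) = Nat.card Y :=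
      Nat.card_congr (Subgroup.subgroupOfEquivOfLe hYX).toEquiv
    have key := le_pPrimeCore_of_invariant_pprime (X := ↥X) hp2 hc (A.subgroupOf X)
      (Y.subgroupOf X) hAp.comap_subtype
      (fun a ha b hb => Subtype.ext (hAcomm a (Subgroup.mem_subgroupOf.mp ha) b
        (Subgroup.mem_subgroupOf.mp hb)))
      (fun x hx hxp => by
        rw [Subgroup.mem_subgroupOf]
        apply hfull
        · intro a ha
          exact congrArg Subtype.val (hx ⟨a, hAX ha⟩ (Subgroup.mem_subgroupOf.mpr ha))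
        · simpa using congrArg Subtype.val hxp)
      (by rw [hcardY]; exact hYp)
      (by
        apply le_normalizer_of_conj
        intro a ha k hk
        rw [Subgroup.mem_subgroupOf] at ha hk ⊢
        exact conj_mem_of_mem_normalizer (hAY ha) hk)
    have hle : Cfsg.pPrimeCore p ↥X ≤ Cfsg.piCore (Cfsg.primesNotDvd (Nat.card A)) ↥X := by
      unfold Cfsg.piCore
      apply le_sSup
      refine ⟨inferInstance, ?_⟩
      intro q hq hqd
      rw [hπ q hq]
      rintro rfl
      have hcop := Cfsg.Agent.Lib.Helper23.Cores.pPrimeCore_card_coprime (G := ↥X) q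
      exact (Nat.Prime.coprime_iff_not_dvd hq).mp hcop.symm hqd
    intro y hy
    unfold Cfsg.piCoreOf
    exact ⟨⟨y, hYX hy⟩, hle (key (Subgroup.mem_subgroupOf.mpr hy)), rfl⟩
  · apply le_sSup
    exact ⟨piCoreOf_le _ _, isPiNum_card_piCoreOf _ _, hAX.trans (le_normalizer_piCoreOf _ _)⟩

end Cfsg.Agent.S1396
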