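import Cfsg.Statements.S0260
import Mathlib
import Cfsg.Agent.Lib.Helper5.SL2Card
import Cfsg.Agent.Lib.Helper5.SLGen

set_option autoImplicit false
open Cfsg

namespace Cfsg.Agent.S0260

open Matrix

variable {F : Type*} [Field F]

theorem h01 : (0 : Fin 2) ≠ 1 := by decide
theorem h10 : (1 : Fin 2) ≠ 0 := by decide

/-- upper transvection -/
def up (t : F) : Matrix.SpecialLinearGroup (Fin 2) F := Matrix.SpecialLinearGroup.transvection h01 t
/-- lower transvection -/
def lo (t : F) : Matrix.SpecialLinearGroup (Fin 2) F := Matrix.SpecialLinearGroup.transvection h10 t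

theorem up_coe (t : F) :
    ((up t : Matrix.SpecialLinearGroup (Fin 2) F) : Matrix (Fin 2) (Fin 2) F) = !![1, t; 0, 1] := by
  rw [up, Matrix.SpecialLinearGroup.transvection_coe]
  ext i j
  fin_cases i <;> fin_cases j <;> simp

theorem lo_coe (t : F) :
    ((lo t : Matrix.SpecialLinearGroup (Fin 2) F) : Matrix (Fin 2) (Fin 2) F) = !![1, 0; t, 1] := by
  rw [lo, Matrix.SpecialLinearGroup.transvection_coe]
  ext i j
  fin_cases i <;> fin_cases j <;> simp

theorem up_mul (s t : F) : up s * up t = up (s + t) := by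
  ext i j
  rw [Matrix.SpecialLinearGroup.coe_mul, up_coe, up_coe, up_coe]
  fin_cases i <;> fin_cases j <;> simp [Matrix.mul_apply, Fin.sum_univ_two, add_comm]

theorem up_zero : up (0 : F) = 1 := by
  ext i j
  rw [up_coe]
  fin_cases i <;> fin_cases j <;> simp

theorem up_inj {s t : F} (h : up s = up t) : s = t := by
  have h1 := congrArg (fun g : Matrix.SpecialLinearGroup (Fin 2) F =>
    (g : Matrix (Fin 2) (Fin 2) F) 0 1) h
  simpa [up_coe] using h1

/-- conjugating by an upper triangular matrix -/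
theorem conj_upper (m : Matrix.SpecialLinearGroup (Fin 2) F)
    (hm : (m : Matrix (Fin 2) (Fin 2) F) 1 0 = 0) (t : F) :
    m * up t * m⁻¹ = up (t * ((m : Matrix (Fin 2) (Fin 2) F) 0 0) ^ 2) := by
  rw [mul_inv_eq_iff_eq_mul]
  have hdet := m.det_coe
  rw [Matrix.det_fin_two, hm, mul_zero, sub_zero] at hdet
  ext i j
  rw [Matrix.SpecialLinearGroup.coe_mul, Matrix.SpecialLinearGroup.coe_mul, up_coe, up_coe]
  fin_cases i <;> fin_cases j <;> simp [Matrix.mul_apply, Fin.sum_univ_two, hm]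
  linear_combination (-(t * (m : Matrix (Fin 2) (Fin 2) F) 0 0)) * hdet

/-- conjugating by a matrix with zero top left entry -/
theorem conj_lower (n : Matrix.SpecialLinearGroup (Fin 2) F)
    (hn : (n : Matrix (Fin 2) (Fin 2) F) 0 0 = 0) (s : F) :
    n * up s * n⁻¹ = lo (-(s * ((n : Matrix (Fin 2) (Fin 2) F) 1 0) ^ 2)) := by
  rw [mul_inv_eq_iff_eq_mul]
  have hdet := n.det_coe
  rw [Matrix.det_fin_two, hn, zero_mul, zero_sub] at hdet
  ext i j
  rw [Matrix.SpecialLinearGroup.coe_mul, Matrix.SpecialLinearGroup.coe_mul, up_coe, lo_coe]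
  fin_cases i <;> fin_cases j <;> simp [Matrix.mul_apply, Fin.sum_univ_two, hn]
  linear_combination (-(s * (n : Matrix (Fin 2) (Fin 2) F) 1 0)) * hdet

variable (F) in
/-- the unipotent hom -/
def upHom : Multiplicative F →* Matrix.SpecialLinearGroup (Fin 2) F where
  toFun t := up (Multiplicative.toAdd t)
  map_one' := up_zero
  map_mul' x y := (up_mul (Multiplicative.toAdd x) (Multiplicative.toAdd y)).symm

variable (F) in
/-- the upper unitriangular subgroup -/
def U : Subgroup (Matrix.SpecialLinearGroup (Fin 2) F) := (upHom F).range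

theorem mem_U_iff (g : Matrix.SpecialLinearGroup (Fin 2) F) : g ∈ U F ↔ ∃ t : F, g = up t := by
  constructor
  · rintro ⟨x, rfl⟩
    exact ⟨Multiplicative.toAdd x, rfl⟩
  · rintro ⟨t, rfl⟩
    exact ⟨Multiplicative.ofAdd t, rfl⟩

section Finite

variable [Fintype F] (p : ℕ) [Fact p.Prime] [CharP F p]

theorem card_U_eq :
    Nat.card (U F) = p ^ (Nat.card (Matrix.SpecialLinearGroup (Fin 2) F)).factorization p := by
  classical
  have hp : p.Prime := Fact.out
  obtain ⟨k, -, hk⟩ := FiniteField.card F p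
  have hcU : Nat.card (U F) = Fintype.card F := by
    have hinj : Function.Injective (upHom F) := fun x y h =>
      up_inj (s := Multiplicative.toAdd x) (t := Multiplicative.toAdd y) h
    rw [U, ← Nat.card_congr (MonoidHom.ofInjective hinj).toEquiv, Nat.card_eq_fintype_card,
      Fintype.card_multiplicative]
  rw [hcU, Cfsg.Agent.Lib.Helper5.SL2Card.card_SL_two (F := F) rfl, hk]
  have hq1 : 1 ≤ p ^ (k : ℕ) := Nat.one_le_pow _ _ hp.pos
  have hM : ¬ p ∣ (p ^ (k : ℕ)) ^ 2 - 1 := by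
    intro hdvd
    have h2 : p ∣ (p ^ (k : ℕ)) ^ 2 := dvd_pow (dvd_pow_self p k.ne_zero) (by norm_num)
    have h3 : 1 ≤ (p ^ (k : ℕ)) ^ 2 := Nat.one_le_pow _ _ hq1
    have h4 : (p ^ (k : ℕ)) ^ 2 = ((p ^ (k : ℕ)) ^ 2 - 1) + 1 := by omega
    rw [h4] at h2
    have h5 : p ∣ 1 := (Nat.dvd_add_right hdvd).mp h2
    exact hp.one_lt.ne' (Nat.dvd_one.mp h5)
  have hMpos : (p ^ (k : ℕ)) ^ 2 - 1 ≠ 0 := by
    intro h0
    apply hM
    rw [h0]
    exact dvd_zero p
  rw [Nat.factorization_mul (by positivity) hMpos, Finsupp.add_apply,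
    Nat.factorization_eq_zero_of_not_dvd hM, add_zero, Nat.factorization_pow,
    Finsupp.smul_apply, hp.factorization_self, smul_eq_mul, mul_one]

/-- `U` as a Sylow `p`-subgroup -/
noncomputable def U₀ : Sylow p (Matrix.SpecialLinearGroup (Fin 2) F) := Sylow.ofCard (U F) (card_U_eq p)

/-- every Sylow `p`-subgroup is a conjugate of `U` -/
theorem exists_conj (P : Sylow p (Matrix.SpecialLinearGroup (Fin 2) F)) :
    ∃ g : Matrix.SpecialLinearGroup (Fin 2) F, ∀ x, x ∈ P ↔ g⁻¹ * x * g ∈ U F := by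
  obtain ⟨g, hg⟩ := MulAction.exists_smul_eq (Matrix.SpecialLinearGroup (Fin 2) F) (U₀ (F := F) p) P
  refine ⟨g, fun x => ?_⟩
  rw [← hg]
  show x ∈ ((g • U₀ (F := F) p : Sylow p (Matrix.SpecialLinearGroup (Fin 2) F))
    : Subgroup (Matrix.SpecialLinearGroup (Fin 2) F)) ↔ _
  rw [Sylow.coe_subgroup_smul, Subgroup.mem_pointwise_smul_iff_inv_smul_mem]
  show (MulAut.conj g)⁻¹ • x ∈ U F ↔ _
  simp [MulAut.smul_def]

end Finite

/-- Any two distinct Sylow p-subgroups of SL_2(q), p the characteristic, generate SL_2(q). -/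
theorem result {F : Type*} [Field F] [Fintype F] (p : ℕ) [Fact p.Prime] [CharP F p] (P Q : Sylow p (Matrix.SpecialLinearGroup (Fin 2) F)) (h : P ≠ Q) : (P : Subgroup (Matrix.SpecialLinearGroup (Fin 2) F)) ⊔ (Q : Subgroup (Matrix.SpecialLinearGroup (Fin 2) F)) = ⊤ := by
  classical
  obtain ⟨g, hg⟩ := exists_conj p P
  obtain ⟨k, hk⟩ := exists_conj p Q
  set m := g⁻¹ * k with hm
  set H := (P : Subgroup (Matrix.SpecialLinearGroup (Fin 2) F)) ⊔
    (Q : Subgroup (Matrix.SpecialLinearGroup (Fin 2) F)) with hH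
  have hPH : ∀ t : F, g * up t * g⁻¹ ∈ H := by
    intro t
    apply Subgroup.mem_sup_left
    show g * up t * g⁻¹ ∈ P
    rw [hg]
    have : g⁻¹ * (g * up t * g⁻¹) * g = up t := by group
    rw [this]
    exact (mem_U_iff _).mpr ⟨t, rfl⟩
  have hQH : ∀ t : F, g * (m * up t * m⁻¹) * g⁻¹ ∈ H := by
    intro t
    apply Subgroup.mem_sup_right
    show g * (m * up t * m⁻¹) * g⁻¹ ∈ Q
    rw [hk]
    have : k⁻¹ * (g * (m * up t * m⁻¹) * g⁻¹) * k = up t := by rw [hm]; group
    rw [this]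
    exact (mem_U_iff _).mpr ⟨t, rfl⟩
  by_cases hm10 : (m : Matrix (Fin 2) (Fin 2) F) 1 0 = 0
  · exfalso
    apply h
    apply Sylow.ext
    ext y
    have e1 : y ∈ (P : Subgroup (Matrix.SpecialLinearGroup (Fin 2) F)) ↔ g⁻¹ * y * g ∈ U F := hg y
    have e2 : y ∈ (Q : Subgroup (Matrix.SpecialLinearGroup (Fin 2) F)) ↔ k⁻¹ * y * k ∈ U F := hk y
    rw [e1, e2]
    have hminv : ((m⁻¹ : Matrix.SpecialLinearGroup (Fin 2) F) : Matrix (Fin 2) (Fin 2) F) 1 0 = 0 := by
      rw [Matrix.SpecialLinearGroup.coe_inv, Matrix.adjugate_fin_two]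
      simp [hm10]
    constructor
    · intro hy
      obtain ⟨t, ht⟩ := (mem_U_iff _).mp hy
      have : k⁻¹ * y * k = m⁻¹ * (g⁻¹ * y * g) * (m⁻¹)⁻¹ := by rw [hm]; group
      rw [this, ht, conj_upper _ hminv]
      exact (mem_U_iff _).mpr ⟨_, rfl⟩
    · intro hy
      obtain ⟨t, ht⟩ := (mem_U_iff _).mp hy
      have : g⁻¹ * y * g = m * (k⁻¹ * y * k) * m⁻¹ := by rw [hm]; group
      rw [this, ht, conj_upper _ hm10]
      exact (mem_U_iff _).mpr ⟨_, rfl⟩
  · -- `m` is not upper triangular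
    set γ := (m : Matrix (Fin 2) (Fin 2) F) 1 0 with hγ
    set α := (m : Matrix (Fin 2) (Fin 2) F) 0 0 with hα
    let n := up (-(α / γ)) * m
    have hn00 : (n : Matrix (Fin 2) (Fin 2) F) 0 0 = 0 := by
      show ((up (-(α / γ)) * m : Matrix.SpecialLinearGroup (Fin 2) F) : Matrix (Fin 2) (Fin 2) F) 0 0 = 0
      rw [Matrix.SpecialLinearGroup.coe_mul, up_coe]
      simp [Matrix.mul_apply, Fin.sum_univ_two]
      rw [← hα, ← hγ]
      field_simp
      ring
    have hn10 : (n : Matrix (Fin 2) (Fin 2) F) 1 0 = γ := by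
      show ((up (-(α / γ)) * m : Matrix.SpecialLinearGroup (Fin 2) F) : Matrix (Fin 2) (Fin 2) F) 1 0 = γ
      rw [Matrix.SpecialLinearGroup.coe_mul, up_coe]
      simp [Matrix.mul_apply, Fin.sum_univ_two]
      exact hγ.symm
    have hlo : ∀ c : F, g * lo c * g⁻¹ ∈ H := by
      intro c
      have h1 := conj_lower n hn00 (-(c / γ ^ 2))
      rw [hn10] at h1
      have h2 : -(-(c / γ ^ 2) * γ ^ 2) = c := by field_simp
      rw [h2] at h1
      rw [← h1]
      have h3 : g * (n * up (-(c / γ ^ 2)) * n⁻¹) * g⁻¹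
          = (g * up (-(α / γ)) * g⁻¹) * (g * (m * up (-(c / γ ^ 2)) * m⁻¹) * g⁻¹)
            * (g * up (-(α / γ)) * g⁻¹)⁻¹ := by
        show g * ((up (-(α / γ)) * m) * up (-(c / γ ^ 2)) * (up (-(α / γ)) * m)⁻¹) * g⁻¹ = _
        group
      rw [h3]
      exact H.mul_mem (H.mul_mem (hPH _) (hQH _)) (H.inv_mem (hPH _))
    rw [eq_top_iff]
    intro x _
    have key : ∀ A : Matrix.SpecialLinearGroup (Fin 2) F, g * A * g⁻¹ ∈ H := by
      intro A
      refine Cfsg.Agent.Lib.Helper5.SLGen.transvection_induction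
        (fun A => g * A * g⁻¹ ∈ H) ?_ ?_ A
      · intro i j hij c
        fin_cases i <;> fin_cases j
        · exact absurd rfl hij
        · exact hPH c
        · exact hlo c
        · exact absurd rfl hij
      · intro A B hA hB
        have : g * (A * B) * g⁻¹ = (g * A * g⁻¹) * (g * B * g⁻¹) := by group
        rw [this]
        exact H.mul_mem hA hB
    have := key (g⁻¹ * x * g)
    have e : g * (g⁻¹ * x * g) * g⁻¹ = x := by group
    rw [e] at this
    exact this

end Cfsg.Agent.S0260
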