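import Mathlib
import Cfsg.Statements.S1463
import Cfsg.Agent.Lib.Helper5.DicksonLite
import Cfsg.Agent.Lib.Helper53.SL2Inv

set_option autoImplicit false
open Cfsg

namespace Cfsg.Agent.S1463

open Matrix

/-- a `2 × 2` matrix `X` with `X ^ p = 1` in characteristic `p` has `(X - 1)² = 0` -/
theorem unipotent_sq {F : Type*} [Field F] (p : ℕ) [Fact p.Prime] [CharP F p]
    (X : Matrix (Fin 2) (Fin 2) F) (hX : X ^ p = 1) : (X - 1) * (X - 1) = 0 := by
  have hp : p.Prime := Fact.out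
  have hNp : (X - 1) ^ p = 0 := by
    rw [sub_pow_char_of_commute p (Commute.one_right X), hX, one_pow, sub_self]
  obtain ⟨N, hNdef⟩ : ∃ N : Matrix (Fin 2) (Fin 2) F, N = X - 1 := ⟨_, rfl⟩
  rw [← hNdef] at hNp ⊢
  have hdet : N.det = 0 := by
    have h1 : N.det ^ p = 0 := by rw [← Matrix.det_pow, hNp, Matrix.det_zero]
    exact pow_eq_zero_iff hp.ne_zero |>.mp h1
  have hCH : N * N = (N 0 0 + N 1 1) • N := by
    rw [Matrix.det_fin_two] at hdet
    ext i j
    fin_cases i <;> fin_cases j <;>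
      simp [Matrix.mul_apply, Fin.sum_univ_two] <;>
      first | ring1 | linear_combination (-1 : F) * hdet
  have hpow : ∀ k : ℕ, N ^ (k + 1) = (N 0 0 + N 1 1) ^ k • N := by
    intro k
    induction k with
    | zero => simp
    | succ k ih =>
      rw [pow_succ, ih, Matrix.smul_mul, hCH, smul_smul, pow_succ]
  have h2 : (N 0 0 + N 1 1) ^ (p - 1) • N = 0 := by
    rw [← hpow (p - 1), Nat.sub_add_cancel hp.one_le, hNp]
  rcases smul_eq_zero.mp h2 with h3 | h3
  · have h4 : N 0 0 + N 1 1 = 0 := pow_eq_zero_iff (Nat.sub_ne_zero_of_lt hp.one_lt) |>.mp h3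
    rw [hCH, h4, zero_smul]
  · rw [h3, mul_zero]

/-- nilpotent normal form -/
theorem nil_apply {F : Type*} [Field F] (N : Matrix (Fin 2) (Fin 2) F) (hN : N * N = 0)
    (v u : Fin 2 → F) (hv : N *ᵥ v = 0) (hD : v 0 * u 1 - u 0 * v 1 ≠ 0) :
    ∃ a : F, N *ᵥ u = a • v := by
  have h00 := congrFun (congrFun hN 0) 0
  have h01 := congrFun (congrFun hN 0) 1
  have h10 := congrFun (congrFun hN 1) 0
  have h11 := congrFun (congrFun hN 1) 1
  simp only [Matrix.mul_apply, Fin.sum_univ_two, Matrix.zero_apply] at h00 h01 h10 h11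
  have hv0 := congrFun hv 0
  have hv1 := congrFun hv 1
  simp only [Matrix.mulVec, dotProduct, Fin.sum_univ_two, Pi.zero_apply] at hv0 hv1
  have htr : N 0 0 + N 1 1 = 0 := by
    by_contra h
    have hb : N 0 1 = 0 := by
      have : N 0 1 * (N 0 0 + N 1 1) = 0 := by linear_combination h01
      rcases mul_eq_zero.mp this with h' | h'
      · exact h'
      · exact absurd h' h
    have hc : N 1 0 = 0 := by
      have : N 1 0 * (N 0 0 + N 1 1) = 0 := by linear_combination h10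
      rcases mul_eq_zero.mp this with h' | h'
      · exact h'
      · exact absurd h' h
    have ha : N 0 0 = 0 := by
      have : N 0 0 * N 0 0 = 0 := by rw [hb] at h00; linear_combination h00
      exact mul_self_eq_zero.mp this
    have hd : N 1 1 = 0 := by
      have : N 1 1 * N 1 1 = 0 := by rw [hb] at h11; linear_combination h11
      exact mul_self_eq_zero.mp this
    apply h; rw [ha, hd, add_zero]
  refine ⟨((N 0 0 * u 0 + N 0 1 * u 1) * u 1 - (N 1 0 * u 0 + N 1 1 * u 1) * u 0) /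
    (v 0 * u 1 - u 0 * v 1), ?_⟩
  funext i
  fin_cases i
  · simp only [Matrix.mulVec, dotProduct, Fin.sum_univ_two, Pi.smul_apply, smul_eq_mul,
      Fin.zero_eta]
    rw [div_mul_eq_mul_div, eq_div_iff hD]
    linear_combination u 0 * (u 0 * hv1 - u 0 * v 1 * htr + u 1 * v 0 * htr - u 1 * hv0)
  · simp only [Matrix.mulVec, dotProduct, Fin.sum_univ_two, Pi.smul_apply, smul_eq_mul,
      Fin.mk_one]
    rw [div_mul_eq_mul_div, eq_div_iff hD]
    linear_combination u 1 * (u 0 * hv1 - u 0 * v 1 * htr + u 1 * v 0 * htr - u 1 * hv0)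

theorem e12_add_one {F : Type*} [Field F] :
    (!![0, 1; 0, 0] : Matrix (Fin 2) (Fin 2) F) + 1 = !![1, 1; 0, 1] := by
  ext i j
  fin_cases i <;> fin_cases j <;> simp

theorem e21_add_one {F : Type*} [Field F] (c : F) :
    (!![0, 0; c, 0] : Matrix (Fin 2) (Fin 2) F) + 1 = !![1, 0; c, 1] := by
  ext i j
  fin_cases i <;> fin_cases j <;> simp

/-- simultaneous normal form for two nilpotents with distinct kernels -/
theorem normal_form {F : Type*} [Field F] (N M : Matrix (Fin 2) (Fin 2) F)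
    (hN : N * N = 0) (hM : M * M = 0) (hN0 : N ≠ 0) (hM0 : M ≠ 0)
    (v u : Fin 2 → F) (hv : N *ᵥ v = 0) (hu : M *ᵥ u = 0) (hD : v 0 * u 1 - u 0 * v 1 ≠ 0) :
    ∃ (B : Matrix (Fin 2) (Fin 2) F) (c : F), B.det ≠ 0 ∧ c ≠ 0 ∧
      N * B = B * !![0, 1; 0, 0] ∧ M * B = B * !![0, 0; c, 0] := by
  obtain ⟨a, ha⟩ := nil_apply N hN v u hv hD
  have hD' : u 0 * v 1 - v 0 * u 1 ≠ 0 := by
    intro h; apply hD; linear_combination -h
  obtain ⟨b, hb⟩ := nil_apply M hM u v hu hD'
  have hv0 := congrFun hv 0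
  have hv1 := congrFun hv 1
  have hu0 := congrFun hu 0
  have hu1 := congrFun hu 1
  have ha0 := congrFun ha 0
  have ha1 := congrFun ha 1
  have hb0 := congrFun hb 0
  have hb1 := congrFun hb 1
  simp only [Matrix.mulVec, dotProduct, Fin.sum_univ_two, Pi.zero_apply, Pi.smul_apply,
    smul_eq_mul] at hv0 hv1 hu0 hu1 ha0 ha1 hb0 hb1
  have hB0 : (!![v 0, u 0; v 1, u 1] : Matrix (Fin 2) (Fin 2) F).det ≠ 0 := by
    rw [Matrix.det_fin_two_of]; exact hD
  have hunit : IsUnit (!![v 0, u 0; v 1, u 1] : Matrix (Fin 2) (Fin 2) F) := by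
    rw [Matrix.isUnit_iff_isUnit_det]; exact isUnit_iff_ne_zero.mpr hB0
  have ha_ne : a ≠ 0 := by
    intro h0
    apply hN0
    have h1 : N * !![v 0, u 0; v 1, u 1] = 0 := by
      ext i j
      fin_cases i <;> fin_cases j <;> simp [Matrix.mul_apply, Fin.sum_univ_two] <;>
      first | exact hv0 | exact hv1 | (rw [ha0, h0, zero_mul]) | (rw [ha1, h0, zero_mul])
    exact (hunit.mul_left_eq_zero).mp h1
  have hb_ne : b ≠ 0 := by
    intro h0
    apply hM0
    have h1 : M * !![v 0, u 0; v 1, u 1] = 0 := by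
      ext i j
      fin_cases i <;> fin_cases j <;> simp [Matrix.mul_apply, Fin.sum_univ_two] <;>
      first | exact hu0 | exact hu1 | (rw [hb0, h0, zero_mul]) | (rw [hb1, h0, zero_mul])
    exact (hunit.mul_left_eq_zero).mp h1
  refine ⟨!![a * v 0, u 0; a * v 1, u 1], a * b, ?_, mul_ne_zero ha_ne hb_ne, ?_, ?_⟩
  · rw [Matrix.det_fin_two_of]
    intro h
    have : a * (v 0 * u 1 - u 0 * v 1) = 0 := by linear_combination h
    rcases mul_eq_zero.mp this with h' | h'
    · exact ha_ne h'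
    · exact hD h'
  · ext i j
    fin_cases i <;> fin_cases j <;> simp [Matrix.mul_apply, Fin.sum_univ_two] <;>
    first | linear_combination a * hv0 | linear_combination a * hv1 | linear_combination ha0 |
      linear_combination ha1
  · ext i j
    fin_cases i <;> fin_cases j <;> simp [Matrix.mul_apply, Fin.sum_univ_two] <;>
    first | linear_combination a * hb0 | linear_combination a * hb1 | linear_combination hu0 |
      linear_combination hu1

/-- powers of an element of the `𝔽_p`-algebra generated by a finite matrix group repeat -/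
theorem exists_pow_eq {F : Type*} [Field F] (p : ℕ) [Fact p.Prime] [CharP F p]
    (H : Subgroup (GL (Fin 2) F)) [Finite H] (X Y : GL (Fin 2) F) (hX : X ∈ H) (hY : Y ∈ H) :
    ∃ k l : ℕ, k ≠ l ∧
      (((X : Matrix (Fin 2) (Fin 2) F) - 1) * ((Y : Matrix (Fin 2) (Fin 2) F) - 1)) ^ k =
      (((X : Matrix (Fin 2) (Fin 2) F) - 1) * ((Y : Matrix (Fin 2) (Fin 2) F) - 1)) ^ l := by
  letI : Algebra (ZMod p) F := ZMod.algebra F p
  obtain ⟨Hm, hHm⟩ : ∃ Hm : Submonoid (Matrix (Fin 2) (Fin 2) F),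
      Hm = H.toSubmonoid.map (Units.coeHom (Matrix (Fin 2) (Fin 2) F)) := ⟨_, rfl⟩
  have hfin : (Hm : Set (Matrix (Fin 2) (Fin 2) F)).Finite := by
    apply Set.Finite.subset
      (Set.finite_range (fun h : H => ((h : GL (Fin 2) F) : Matrix (Fin 2) (Fin 2) F)))
    rw [hHm]
    rintro _ ⟨g, hg, rfl⟩
    exact ⟨⟨g, hg⟩, rfl⟩
  obtain ⟨S, hS⟩ : ∃ S : Subalgebra (ZMod p) (Matrix (Fin 2) (Fin 2) F),
      S = Algebra.adjoin (ZMod p) (Hm : Set (Matrix (Fin 2) (Fin 2) F)) := ⟨_, rfl⟩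
  have h1 : Subalgebra.toSubmodule S = Submodule.span (ZMod p) (Hm : Set _) := by
    rw [hS, Algebra.adjoin_eq_span, Submonoid.closure_eq]
  haveI : Module.Finite (ZMod p)
      (Submodule.span (ZMod p) (Hm : Set (Matrix (Fin 2) (Fin 2) F))) :=
    Module.Finite.span_of_finite _ hfin
  haveI : Finite (Submodule.span (ZMod p) (Hm : Set (Matrix (Fin 2) (Fin 2) F))) :=
    Module.finite_of_finite (ZMod p)
  have hSfin : Finite S := by
    apply Finite.of_injective
      (fun s : S => (⟨s.1, by rw [← h1]; exact s.2⟩ :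
        Submodule.span (ZMod p) (Hm : Set (Matrix (Fin 2) (Fin 2) F))))
    intro a b h
    have h' := congrArg Subtype.val h
    exact Subtype.ext h'
  have hXm : (X : Matrix (Fin 2) (Fin 2) F) ∈ S := by
    rw [hS]; apply Algebra.subset_adjoin; rw [hHm]; exact ⟨X, hX, rfl⟩
  have hYm : (Y : Matrix (Fin 2) (Fin 2) F) ∈ S := by
    rw [hS]; apply Algebra.subset_adjoin; rw [hHm]; exact ⟨Y, hY, rfl⟩
  have hA : ((X : Matrix (Fin 2) (Fin 2) F) - 1) * ((Y : Matrix (Fin 2) (Fin 2) F) - 1) ∈ S :=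
    S.mul_mem (S.sub_mem hXm S.one_mem) (S.sub_mem hYm S.one_mem)
  obtain ⟨k, l, hkl, h⟩ := Finite.exists_ne_map_eq_of_infinite
    (fun k : ℕ => (⟨_, S.pow_mem hA k⟩ : S))
  exact ⟨k, l, hkl, congrArg Subtype.val h⟩

open Cfsg.Agent.Lib.Helper5.DicksonLite Cfsg.Agent.S0260 Cfsg.Agent.Lib.Helper53.SL2Inv in
/-- two unipotents in normal form with a root of unity parameter force even order -/
theorem even_of_pair {F : Type*} [Field F] (p : ℕ) [Fact p.Prime] [CharP F p] (hp : p ≠ 2)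
    (H : Subgroup (GL (Fin 2) F)) [Finite H] (X Y B : GL (Fin 2) F) (hX : X ∈ H) (hY : Y ∈ H)
    (c : F) (hc0 : c ≠ 0) (n : ℕ) (hn : 0 < n) (hcn : c ^ n = 1)
    (hXB : (X : Matrix (Fin 2) (Fin 2) F) * (B : Matrix (Fin 2) (Fin 2) F) =
      (B : Matrix (Fin 2) (Fin 2) F) * !![1, 1; 0, 1])
    (hYB : (Y : Matrix (Fin 2) (Fin 2) F) * (B : Matrix (Fin 2) (Fin 2) F) =
      (B : Matrix (Fin 2) (Fin 2) F) * !![1, 0; c, 1]) :
    2 ∣ Nat.card H := by
  letI : Algebra (ZMod p) F := ZMod.algebra F p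
  have hint : IsIntegral (ZMod p) c := IsIntegral.of_pow hn (by rw [hcn]; exact isIntegral_one)
  haveI : FiniteDimensional (ZMod p) (IntermediateField.adjoin (ZMod p) {c}) :=
    IntermediateField.adjoin.finiteDimensional hint
  haveI : Finite (IntermediateField.adjoin (ZMod p) {c}) := Module.finite_of_finite (ZMod p)
  letI : Fintype (IntermediateField.adjoin (ZMod p) {c}) := Fintype.ofFinite _
  haveI : CharP (IntermediateField.adjoin (ZMod p) {c}) p :=
    charP_of_injective_algebraMap (algebraMap (ZMod p) _).injective p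
  obtain ⟨c', hc'⟩ : ∃ c' : IntermediateField.adjoin (ZMod p) {c}, (c' : F) = c :=
    ⟨⟨c, IntermediateField.mem_adjoin_simple_self (ZMod p) c⟩, rfl⟩
  have hc'0 : c' ≠ 0 := by
    intro h; apply hc0; rw [← hc', h]; rfl
  obtain ⟨f, hf, hrange⟩ :=
    exists_sl2p (F := IntermediateField.adjoin (ZMod p) {c}) p hp 1 c' one_ne_zero hc'0
  obtain ⟨ι, hι⟩ : ∃ ι : (IntermediateField.adjoin (ZMod p) {c}) →+* F, ∀ y, ι y = (y : F) :=
    ⟨algebraMap _ F, fun y => rfl⟩
  have hιinj : Function.Injective ι := ι.injective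
  obtain ⟨Φ, hΦ⟩ : ∃ Φ : SL2 (IntermediateField.adjoin (ZMod p) {c}) →* GL (Fin 2) F,
      ∀ A, Φ A = B * Matrix.SpecialLinearGroup.toGL (Matrix.SpecialLinearGroup.map ι A) * B⁻¹ :=
    ⟨(MulAut.conj B).toMonoidHom.comp
      (Matrix.SpecialLinearGroup.toGL.comp (Matrix.SpecialLinearGroup.map ι)), fun A => rfl⟩
  have hΦinj : Function.Injective Φ := by
    intro A A' h
    rw [hΦ, hΦ] at h
    have h1 : Matrix.SpecialLinearGroup.toGL (Matrix.SpecialLinearGroup.map ι A) =
        Matrix.SpecialLinearGroup.toGL (Matrix.SpecialLinearGroup.map ι A') := by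
      have := congrArg (fun z => B⁻¹ * z * B) h
      simpa [mul_assoc] using this
    have h2 := Matrix.SpecialLinearGroup.toGL_injective h1
    apply Matrix.SpecialLinearGroup.ext
    intro i j
    have h3 := congrArg
      (fun z : Matrix.SpecialLinearGroup (Fin 2) F => (z : Matrix (Fin 2) (Fin 2) F) i j) h2
    simp only [Matrix.SpecialLinearGroup.map_apply_coe, RingHom.mapMatrix_apply,
      Matrix.map_apply] at h3
    exact hιinj h3
  have hΦup : Φ (up 1) = X := by
    rw [hΦ]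
    have h1 : X * B =
        B * Matrix.SpecialLinearGroup.toGL (Matrix.SpecialLinearGroup.map ι (up 1)) := by
      apply Units.ext
      rw [Units.val_mul, Units.val_mul, hXB]
      congr 1
      ext i j
      fin_cases i <;> fin_cases j <;>
        simp [Matrix.SpecialLinearGroup.coe_GL_coe_matrix,
          Matrix.SpecialLinearGroup.map_apply_coe, up_coe, hι]
    rw [← h1]; group
  have hΦlo : Φ (lo c') = Y := by
    rw [hΦ]
    have h1 : Y * B =
        B * Matrix.SpecialLinearGroup.toGL (Matrix.SpecialLinearGroup.map ι (lo c')) := by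
      apply Units.ext
      rw [Units.val_mul, Units.val_mul, hYB]
      congr 1
      ext i j
      fin_cases i <;> fin_cases j <;>
        simp [Matrix.SpecialLinearGroup.coe_GL_coe_matrix,
          Matrix.SpecialLinearGroup.map_apply_coe, lo_coe, hι, hc']
    rw [← h1]; group
  have hle : (Subgroup.closure {(up 1 : SL2 (IntermediateField.adjoin (ZMod p) {c})),
      lo c'}).map Φ ≤ H := by
    rw [Subgroup.map_le_iff_le_comap, Subgroup.closure_le]
    rintro z (rfl | rfl)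
    · show Φ _ ∈ H
      rw [hΦup]; exact hX
    · show Φ _ ∈ H
      rw [hΦlo]; exact hY
  have h2F : (2 : ZMod p) ≠ 0 := two_ne_zero_of_char (F := ZMod p) p hp
  obtain ⟨z, hz⟩ : ∃ z : GL (Fin 2) F, z = Φ (f negOne) := ⟨_, rfl⟩
  have hzH : z ∈ H := by
    rw [hz]; exact hle ⟨f negOne, hrange ⟨negOne, rfl⟩, rfl⟩
  have hzz : z * z = 1 := by
    rw [hz, ← map_mul, ← map_mul, negOne_mul_negOne, map_one, map_one]
  have hz1 : z ≠ 1 := by
    intro h
    have h1 : f negOne = 1 := hΦinj (by rw [map_one, ← hz]; exact h)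
    have h2 : (negOne : SL2 (ZMod p)) = 1 := hf (by rw [map_one]; exact h1)
    exact negOne_ne_one h2F h2
  have hord : orderOf (⟨z, hzH⟩ : H) = 2 := by
    apply orderOf_eq_prime
    · rw [pow_two]; exact Subtype.ext hzz
    · intro h; exact hz1 (congrArg Subtype.val h)
  have hdvd := orderOf_dvd_natCard (⟨z, hzH⟩ : H)
  rwa [hord] at hdvd

theorem diag_pow {F : Type*} [Field F] (c : F) (k : ℕ) :
    ((!![c, 0; 0, 0] : Matrix (Fin 2) (Fin 2) F) ^ k) 0 0 = c ^ k := by
  have h : (!![c, 0; 0, 0] : Matrix (Fin 2) (Fin 2) F) = Matrix.diagonal ![c, 0] := by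
    ext i j
    fin_cases i <;> fin_cases j <;> simp
  rw [h, Matrix.diagonal_pow]
  simp

/-- A finite irreducible group of odd order of linear transformations of a 2-dimensional vector space over a field of odd characteristic p has order prime to p. -/
theorem result {F : Type*} [Field F] (p : ℕ) [Fact p.Prime] [CharP F p] (hp : p ≠ 2)
    (H : Subgroup (GL (Fin 2) F)) [Finite H] (hodd : Odd (Nat.card H))
    (hirr : ∀ v : Fin 2 → F, v ≠ 0 → ∃ g ∈ H, (g : Matrix (Fin 2) (Fin 2) F).mulVec v ∉ Submodule.span F {v}) :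
    ¬ p ∣ Nat.card H := by
  intro hdvd
  obtain ⟨x, hx⟩ := exists_prime_orderOf_dvd_card' p hdvd
  have hp' : p.Prime := Fact.out
  obtain ⟨X, hXdef⟩ : ∃ X : Matrix (Fin 2) (Fin 2) F,
      X = ((x : GL (Fin 2) F) : Matrix (Fin 2) (Fin 2) F) := ⟨_, rfl⟩
  have hXp : X ^ p = 1 := by
    have h1 : x ^ p = 1 := by rw [← hx]; exact pow_orderOf_eq_one x
    have h2 : ((x : GL (Fin 2) F)) ^ p = 1 := by
      have := congrArg Subtype.val h1
      simpa using this
    have h3 := congrArg (fun y : GL (Fin 2) F => (y : Matrix (Fin 2) (Fin 2) F)) h2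
    simpa [hXdef] using h3
  have hX1 : X ≠ 1 := by
    intro h
    have h1 : (x : GL (Fin 2) F) = 1 := by
      apply Units.ext; rw [← hXdef, h]; rfl
    have h2 : x = 1 := Subtype.ext h1
    rw [h2, orderOf_one] at hx
    exact hp'.one_lt.ne hx
  have hNN := unipotent_sq p X hXp
  have hN0 : X - 1 ≠ 0 := sub_ne_zero.mpr hX1
  obtain ⟨w, hw⟩ : ∃ w : Fin 2 → F, (X - 1) *ᵥ w ≠ 0 := by
    by_contra hcon
    push Not at hcon
    apply hN0
    ext i j
    have := congrFun (hcon (Pi.single j 1)) i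
    rw [Matrix.mulVec_single_one] at this
    simpa using this
  obtain ⟨v, hvdef⟩ : ∃ v : Fin 2 → F, v = (X - 1) *ᵥ w := ⟨_, rfl⟩
  have hv_ne : v ≠ 0 := by rw [hvdef]; exact hw
  have hNv : (X - 1) *ᵥ v = 0 := by
    rw [hvdef, Matrix.mulVec_mulVec, hNN, Matrix.zero_mulVec]
  obtain ⟨g, hgH, hg⟩ := hirr v hv_ne
  obtain ⟨Gm, hGm⟩ : ∃ Gm : Matrix (Fin 2) (Fin 2) F,
      Gm = (g : Matrix (Fin 2) (Fin 2) F) := ⟨_, rfl⟩
  obtain ⟨Gi, hGi⟩ : ∃ Gi : Matrix (Fin 2) (Fin 2) F,
      Gi = ((g⁻¹ : GL (Fin 2) F) : Matrix (Fin 2) (Fin 2) F) := ⟨_, rfl⟩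
  have hGG : Gm * Gi = 1 := by
    rw [hGm, hGi, ← Units.val_mul, mul_inv_cancel]; rfl
  have hGG' : Gi * Gm = 1 := by
    rw [hGm, hGi, ← Units.val_mul, inv_mul_cancel]; rfl
  obtain ⟨u, hudef⟩ : ∃ u : Fin 2 → F, u = Gm *ᵥ v := ⟨_, rfl⟩
  rw [← hGm, ← hudef] at hg
  have hD : v 0 * u 1 - u 0 * v 1 ≠ 0 := by
    intro hD0
    apply hg
    rw [Submodule.mem_span_singleton]
    by_cases h0 : v 0 = 0
    · have h1 : v 1 ≠ 0 := by
        intro h1
        apply hv_ne
        funext i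
        fin_cases i
        · exact h0
        · exact h1
      have hu0 : u 0 = 0 := by
        have : u 0 * v 1 = 0 := by rw [h0] at hD0; linear_combination -hD0
        rcases mul_eq_zero.mp this with h | h
        · exact h
        · exact absurd h h1
      refine ⟨u 1 / v 1, ?_⟩
      funext i
      fin_cases i
      · simp [h0, hu0]
      · simp only [Pi.smul_apply, smul_eq_mul, Fin.mk_one]
        field_simp
    · refine ⟨u 0 / v 0, ?_⟩
      funext i
      fin_cases i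
      · simp only [Pi.smul_apply, smul_eq_mul, Fin.zero_eta]
        field_simp
      · simp only [Pi.smul_apply, smul_eq_mul, Fin.mk_one]
        rw [div_mul_eq_mul_div, div_eq_iff h0]
        linear_combination -hD0
  -- the conjugate
  obtain ⟨Y, hYdef⟩ : ∃ Y : GL (Fin 2) F, Y = g * (x : GL (Fin 2) F) * g⁻¹ := ⟨_, rfl⟩
  have hYH : Y ∈ H := by
    rw [hYdef]; exact H.mul_mem (H.mul_mem hgH x.2) (H.inv_mem hgH)
  have hYm : (Y : Matrix (Fin 2) (Fin 2) F) = Gm * X * Gi := by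
    rw [hYdef, Units.val_mul, Units.val_mul, hGm, hGi, hXdef]
  have hM : (Y : Matrix (Fin 2) (Fin 2) F) - 1 = Gm * (X - 1) * Gi := by
    rw [hYm, Matrix.mul_sub, Matrix.sub_mul, Matrix.mul_one, hGG]
  have hMM : ((Y : Matrix (Fin 2) (Fin 2) F) - 1) * ((Y : Matrix (Fin 2) (Fin 2) F) - 1) = 0 := by
    rw [hM]
    calc Gm * (X - 1) * Gi * (Gm * (X - 1) * Gi)
        = Gm * (X - 1) * (Gi * Gm) * (X - 1) * Gi := by simp only [Matrix.mul_assoc]
      _ = Gm * ((X - 1) * (X - 1)) * Gi := by rw [hGG', Matrix.mul_one, Matrix.mul_assoc Gm]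
      _ = 0 := by rw [hNN, Matrix.mul_zero, Matrix.zero_mul]
  have hMu : ((Y : Matrix (Fin 2) (Fin 2) F) - 1) *ᵥ u = 0 := by
    rw [hM, hudef, Matrix.mulVec_mulVec]
    have : Gm * (X - 1) * Gi * Gm = Gm * (X - 1) := by
      rw [Matrix.mul_assoc, hGG', Matrix.mul_one]
    rw [this, ← Matrix.mulVec_mulVec, hNv, Matrix.mulVec_zero]
  have hM0 : (Y : Matrix (Fin 2) (Fin 2) F) - 1 ≠ 0 := by
    intro h
    apply hN0
    rw [hM] at h
    calc X - 1 = Gi * (Gm * (X - 1) * Gi) * Gm := by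
          rw [← Matrix.mul_assoc, ← Matrix.mul_assoc, hGG', Matrix.one_mul, Matrix.mul_assoc,
            hGG', Matrix.mul_one]
      _ = 0 := by rw [h, Matrix.mul_zero, Matrix.zero_mul]
  obtain ⟨B, c, hBdet, hc0, hNB, hMB⟩ :=
    normal_form (X - 1) ((Y : Matrix (Fin 2) (Fin 2) F) - 1) hNN hMM hN0 hM0 v u hNv hMu hD
  have hXB : X * B = B * !![1, 1; 0, 1] := by
    have : X * B = (X - 1) * B + B := by rw [Matrix.sub_mul, Matrix.one_mul, sub_add_cancel]
    rw [this, hNB, ← e12_add_one, Matrix.mul_add, Matrix.mul_one]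
  have hYB : (Y : Matrix (Fin 2) (Fin 2) F) * B = B * !![1, 0; c, 1] := by
    have : (Y : Matrix (Fin 2) (Fin 2) F) * B = ((Y : Matrix (Fin 2) (Fin 2) F) - 1) * B + B := by
      rw [Matrix.sub_mul, Matrix.one_mul, sub_add_cancel]
    rw [this, hMB, ← e21_add_one, Matrix.mul_add, Matrix.mul_one]
  -- `c` is a root of unity
  have hAB : ((X - 1) * ((Y : Matrix (Fin 2) (Fin 2) F) - 1)) * B = B * !![c, 0; 0, 0] := by
    rw [Matrix.mul_assoc, hMB, ← Matrix.mul_assoc, hNB, Matrix.mul_assoc]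
    congr 1
    ext i j
    fin_cases i <;> fin_cases j <;> simp
  have hApow : ∀ k : ℕ, ((X - 1) * ((Y : Matrix (Fin 2) (Fin 2) F) - 1)) ^ k * B =
      B * (!![c, 0; 0, 0] : Matrix (Fin 2) (Fin 2) F) ^ k := by
    intro k
    induction k with
    | zero => simp
    | succ k ih =>
      rw [pow_succ, Matrix.mul_assoc, hAB, ← Matrix.mul_assoc, ih, Matrix.mul_assoc, ← pow_succ]
  have hBunit : IsUnit B := by
    rw [Matrix.isUnit_iff_isUnit_det]; exact isUnit_iff_ne_zero.mpr hBdet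
  obtain ⟨k, l, hkl, hpow⟩ := exists_pow_eq p H (x : GL (Fin 2) F) Y x.2 hYH
  rw [← hXdef] at hpow
  have hck : c ^ k = c ^ l := by
    have h1 : B * (!![c, 0; 0, 0] : Matrix (Fin 2) (Fin 2) F) ^ k =
        B * (!![c, 0; 0, 0] : Matrix (Fin 2) (Fin 2) F) ^ l := by
      rw [← hApow, ← hApow, hpow]
    have h2 := hBunit.mul_right_injective h1
    have h3 := congrFun (congrFun h2 0) 0
    rw [diag_pow, diag_pow] at h3
    exact h3
  obtain ⟨n, hn, hcn⟩ : ∃ n : ℕ, 0 < n ∧ c ^ n = 1 := by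
    rcases Nat.lt_or_gt_of_ne hkl with h | h
    · refine ⟨l - k, Nat.sub_pos_of_lt h, ?_⟩
      have h1 : c ^ k * c ^ (l - k) = c ^ k * 1 := by
        rw [← pow_add, Nat.add_sub_cancel' h.le, mul_one, hck]
      exact mul_left_cancel₀ (pow_ne_zero k hc0) h1
    · refine ⟨k - l, Nat.sub_pos_of_lt h, ?_⟩
      have h1 : c ^ l * c ^ (k - l) = c ^ l * 1 := by
        rw [← pow_add, Nat.add_sub_cancel' h.le, mul_one, hck]
      exact mul_left_cancel₀ (pow_ne_zero l hc0) h1
  have h2dvd := even_of_pair p hp H (x : GL (Fin 2) F) Y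
    (Matrix.GeneralLinearGroup.mkOfDetNeZero B hBdet) x.2 hYH c hc0 n hn hcn
    (by rw [← hXdef]; exact hXB) hYB
  exact (Nat.not_even_iff_odd.mpr hodd) (even_iff_two_dvd.mpr h2dvd)

end Cfsg.Agent.S1463
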