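import Cfsg.Statements.S1480
-- import your own Cfsg.Agent.* helpers here
import Cfsg.Agent.Lib.Helper90.TTMain


set_option autoImplicit false
open Cfsg

namespace Cfsg.Agent.S1480

open scoped commutatorElement


/-- Let G be a finite group and p a prime such that the normalizer of every nontrivial p-subgroup of G is p-constrained; if p = 2 assume also that the Sylow 2-subgroups of G have nilpotency class at most 2. Let E be an abelian p-subgroup containing an elementary abelian subgroup of order p ^ 3 and containing every element of p-power order of C_G(E). Then for every prime q ≠ p, any two maximal E-invariant q-subgroups of G are conjugate by an element of O_{p'}(C_G(E)). -/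
theorem result {G : Type*} [Group G] [Finite G] (p : ℕ) [Fact p.Prime]
    (hloc : ∀ T : Subgroup G, IsPGroup p T → T ≠ ⊥ → Cfsg.IsPConstrained p ↥(Subgroup.normalizer (T : Set G)))
    (h2 : p = 2 → ∀ S : Sylow p G, Group.IsNilpotent (S : Subgroup G) ∧ Group.nilpotencyClass (S : Subgroup G) ≤ 2)
    (E : Subgroup G) (hEp : IsPGroup p E) (hEc : IsMulCommutative E) (hE3 : ¬ Cfsg.PRankLE p 2 E)
    (hEfull : ∀ x ∈ Subgroup.centralizer (E : Set G), IsPGroup p (Subgroup.zpowers x) → x ∈ E)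
    (q : ℕ) [Fact q.Prime] (hqp : q ≠ p) :
    ∀ Q₁ ∈ Cfsg.maxInvSubgroups ⊤ E {q}, ∀ Q₂ ∈ Cfsg.maxInvSubgroups ⊤ E {q},
        ∃ k ∈ Cfsg.piCoreOf (Cfsg.primesNotDvd p) (Subgroup.centralizer (E : Set G)), Q₂ = Q₁.map (MulAut.conj k).toMonoidHom := by
  intro Q₁ h₁ Q₂ h₂
  have hEc' : ∀ a ∈ E, ∀ b ∈ E, a * b = b * a := fun a ha b hb =>
    congrArg Subtype.val (mul_comm' (⟨a, ha⟩ : ↥E) ⟨b, hb⟩)
  have hfull : ∀ x : G, (∀ a ∈ E, a * x = x * a) → (∃ k : ℕ, x ^ p ^ k = 1) → x ∈ E := by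
    intro x hx hxp
    obtain ⟨k, hk⟩ := hxp
    exact hEfull x (Subgroup.mem_centralizer_iff.mpr hx)
      (Cfsg.Agent.Lib.Helper90.SylowConj.isPGroup_zpowers x k hk)
  have h2' : p = 2 → ∀ R : Subgroup G, IsPGroup p R → ∀ x ∈ R, ∀ y ∈ R, ∀ z ∈ R,
      ⁅⁅x, y⁆, z⁆ = 1 :=
    fun hp2 => Cfsg.Agent.Lib.Helper90.TTKey.class_two_of_sylow (h2 hp2)
  exact Cfsg.Agent.Lib.Helper90.TTMain.transitive hqp hloc h2' E hEp hEc' hE3 hfull Q₁ h₁ Q₂ h₂

end Cfsg.Agent.S1480
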