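import Cfsg.Statements.S0093
import Cfsg.Agent.Lib.Helper47.Frat
import Cfsg.Agent.Lib.Helper53.PGroupBasics
-- import your own Cfsg.Agent.* helpers here

set_option autoImplicit false
open Cfsg

namespace Cfsg.Agent.S0093

open scoped commutatorElement

/-- Central elements of order dividing `p`. -/
def omegaCenter (Q : Type*) [Group Q] (p : ℕ) : Subgroup Q where
  carrier := {z | z ∈ Subgroup.center Q ∧ z ^ p = 1}
  one_mem' := ⟨Subgroup.one_mem _, one_pow _⟩
  mul_mem' := by
    rintro a b ⟨ha, hap⟩ ⟨hb, hbp⟩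
    refine ⟨Subgroup.mul_mem _ ha hb, ?_⟩
    have hc : Commute a b := (Subgroup.mem_center_iff.mp hb a)
    rw [hc.mul_pow, hap, hbp, one_mul]
  inv_mem' := by
    rintro a ⟨ha, hap⟩
    exact ⟨Subgroup.inv_mem _ ha, by rw [inv_pow, hap, inv_one]⟩

/-- The candidate critical subgroup attached to a normal subgroup `M`. -/
def crit {P : Type*} [Group P] (p : ℕ) (M : Subgroup P) [M.Normal] : Subgroup P :=
  Subgroup.centralizer (M : Set P) ⊓ (omegaCenter (P ⧸ M) p).comap (QuotientGroup.mk' M)

theorem mem_crit' {P : Type*} [Group P] (p : ℕ) (M : Subgroup P) [M.Normal] (x : P) :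
    x ∈ crit p M ↔ x ∈ Subgroup.centralizer (M : Set P) ∧
      (QuotientGroup.mk' M x) ∈ Subgroup.center (P ⧸ M) ∧ (QuotientGroup.mk' M x) ^ p = 1 := by
  rw [crit, Subgroup.mem_inf, Subgroup.mem_comap]
  rfl

theorem mk_mem_center_iff {P : Type*} [Group P] (M : Subgroup P) [M.Normal] (x : P) :
    (QuotientGroup.mk' M x) ∈ Subgroup.center (P ⧸ M) ↔ ∀ g : P, ⁅x, g⁆ ∈ M := by
  rw [Subgroup.mem_center_iff]
  constructor
  · intro h g
    have h1 := h (QuotientGroup.mk' M g)
    rw [← QuotientGroup.eq_one_iff, ← QuotientGroup.mk'_apply, map_commutatorElement,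
      commutatorElement_eq_one_iff_mul_comm]
    exact h1.symm
  · intro h q
    obtain ⟨g, rfl⟩ := QuotientGroup.mk'_surjective M q
    have h1 := h g
    rw [← QuotientGroup.eq_one_iff, ← QuotientGroup.mk'_apply, map_commutatorElement,
      commutatorElement_eq_one_iff_mul_comm] at h1
    exact h1.symm

theorem mem_crit {P : Type*} [Group P] (p : ℕ) (M : Subgroup P) [M.Normal] (x : P) :
    x ∈ crit p M ↔ x ∈ Subgroup.centralizer (M : Set P) ∧ x ^ p ∈ M ∧ ∀ g : P, ⁅x, g⁆ ∈ M := by
  rw [mem_crit', mk_mem_center_iff, ← map_pow, QuotientGroup.mk'_apply, QuotientGroup.eq_one_iff]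
  tauto

theorem crit_characteristic {P : Type*} [Group P] (p : ℕ) (M : Subgroup P) [hM : M.Characteristic] :
    (crit p M).Characteristic := by
  rw [Subgroup.characteristic_iff_le_comap]
  intro φ x hx
  rw [Subgroup.mem_comap]
  have hMφ : ∀ (ψ : P ≃* P) (m : P), m ∈ M → ψ m ∈ M := by
    intro ψ m hm
    have := Subgroup.characteristic_iff_le_comap.mp hM ψ hm
    exact this
  rw [mem_crit] at hx ⊢
  obtain ⟨h1, h2, h3⟩ := hx
  refine ⟨?_, ?_, ?_⟩
  · rw [Subgroup.mem_centralizer_iff]
    intro m hm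
    have hm' : φ.symm m ∈ M := hMφ φ.symm m hm
    have := (Subgroup.mem_centralizer_iff.mp h1) _ hm'
    have h4 := congrArg φ this
    simpa using h4
  · have := hMφ φ _ h2
    simpa using this
  · intro g
    have := hMφ φ _ (h3 (φ.symm g))
    simpa [map_commutatorElement] using this

/-- Every finite p-group has a critical subgroup: a characteristic subgroup H whose Frattini subgroup and whose commutator with the whole group lie in the centre of H, and whose centralizer is contained in H. -/
theorem result {P : Type*} [Group P] [Finite P] {p : ℕ} [Fact p.Prime] (hP : IsPGroup p P) : ∃ H : Subgroup P, H.Characteristic ∧ (frattini H).map H.subtype ≤ Subgroup.centralizer (H : Set P) ∧ ⁅H, (⊤ : Subgroup P)⁆ ≤ H ⊓ Subgroup.centralizer (H : Set P) ∧ Subgroup.centralizer (H : Set P) ≤ H := by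
  classical
  have hp : p.Prime := Fact.out
  have hfin : ({M : Subgroup P | M.Characteristic ∧ ∀ x ∈ M, ∀ y ∈ M, x * y = y * x} :
      Set (Subgroup P)).Finite := Set.toFinite _
  obtain ⟨M, hM⟩ := hfin.exists_maximal
    ⟨⊥, Subgroup.botCharacteristic, by
      intro x hx y hy
      rw [Subgroup.mem_bot] at hx hy
      rw [hx, hy]⟩
  obtain ⟨⟨hMchar, hMab⟩, hMmax⟩ := hM
  haveI := hMchar
  haveI hHchar : (crit p M).Characteristic := crit_characteristic p M
  set H := crit p M with hH
  have hMH : M ≤ H := by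
    intro x hx
    rw [hH, mem_crit]
    refine ⟨?_, Subgroup.pow_mem _ hx _, ?_⟩
    · rw [Subgroup.mem_centralizer_iff]
      intro m hm
      exact hMab m hm x hx
    · intro g
      rw [commutatorElement_def]
      have : g * x⁻¹ * g⁻¹ ∈ M := Subgroup.Normal.conj_mem inferInstance _ (Subgroup.inv_mem _ hx) g
      have h2 := Subgroup.mul_mem _ hx this
      have e : x * (g * x⁻¹ * g⁻¹) = x * g * x⁻¹ * g⁻¹ := by group
      rwa [e] at h2
  have hHC : H ≤ Subgroup.centralizer (M : Set P) := inf_le_left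
  have hZ : H ⊓ Subgroup.centralizer (H : Set P) = M := by
    apply le_antisymm
    · apply hMmax
      · refine ⟨inferInstance, ?_⟩
        intro x hx y hy
        exact (Subgroup.mem_centralizer_iff.mp (Subgroup.mem_inf.mp hy).2) x (Subgroup.mem_inf.mp hx).1
      · refine le_inf hMH ?_
        intro m hm
        rw [Subgroup.mem_centralizer_iff]
        intro h hh
        exact ((Subgroup.mem_centralizer_iff.mp (hHC hh)) m hm).symm
    · refine le_inf hMH ?_
      intro m hm
      rw [Subgroup.mem_centralizer_iff]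
      intro h hh
      exact ((Subgroup.mem_centralizer_iff.mp (hHC hh)) m hm).symm
  have hMcH : M ≤ Subgroup.centralizer (H : Set P) := by
    rw [← hZ]; exact inf_le_right
  refine ⟨H, hHchar, ?_, ?_, ?_⟩
  · -- Frattini
    have h1 : frattini H ≤ M.subgroupOf H := by
      apply Cfsg.Agent.Lib.Helper47.Frat.frattini_le_of_pow_comm (p := p)
      · intro x
        rw [Subgroup.mem_subgroupOf]
        have := ((mem_crit p M (x : P)).mp x.2).2.1
        simpa using this
      · rw [commutator_eq_closure, Subgroup.closure_le]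
        rintro _ ⟨a, b, rfl⟩
        show ⁅a, b⁆ ∈ M.subgroupOf H
        rw [Subgroup.mem_subgroupOf]
        exact ((mem_crit p M (a : P)).mp a.2).2.2 (b : P)
    intro x hx
    obtain ⟨y, hy, rfl⟩ := Subgroup.mem_map.mp hx
    exact hMcH (Subgroup.mem_subgroupOf.mp (h1 hy))
  · rw [hZ, Subgroup.commutator_le]
    intro g₁ hg₁ g₂ _
    exact ((mem_crit p M g₁).mp hg₁).2.2 g₂
  · by_contra hcon
    set Q := Subgroup.centralizer (H : Set P) with hQ
    haveI hQchar : Q.Characteristic := Subgroup.characteristic_centralizer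
    set Qb := Q.map (QuotientGroup.mk' M) with hQb
    haveI : Qb.Normal := Subgroup.Normal.map inferInstance _ (QuotientGroup.mk'_surjective M)
    have hQb_ne : Qb ≠ ⊥ := by
      intro h
      apply hcon
      intro q hq
      have : QuotientGroup.mk' M q ∈ Qb := Subgroup.mem_map_of_mem _ hq
      rw [h, Subgroup.mem_bot, QuotientGroup.mk'_apply, QuotientGroup.eq_one_iff] at this
      exact hMH this
    have hPG : IsPGroup p (P ⧸ M) := hP.to_quotient M
    obtain ⟨z, hzQ, hz1, hzc⟩ :=
      Cfsg.Agent.Lib.Helper53.PGroupBasics.exists_center_mem_normal hPG Qb hQb_ne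
    -- an element of order p in ⟨z⟩
    obtain ⟨k, hk⟩ := hPG z
    have hex : ∃ k, z ^ p ^ k = 1 := ⟨k, hk⟩
    set k0 := Nat.find hex with hk0
    have hk0s : z ^ p ^ k0 = 1 := Nat.find_spec hex
    have hk0pos : k0 ≠ 0 := by
      intro h0
      rw [h0, pow_zero, pow_one] at hk0s
      exact hz1 hk0s
    obtain ⟨j, hj⟩ := Nat.exists_eq_succ_of_ne_zero hk0pos
    have hjmin : z ^ p ^ j ≠ 1 := by
      have : j < k0 := by omega
      exact Nat.find_min hex this
    set w := z ^ p ^ j with hw
    have hwQ : w ∈ Qb := Subgroup.pow_mem _ hzQ _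
    have hwc : w ∈ Subgroup.center (P ⧸ M) := Subgroup.pow_mem _ hzc _
    have hwp : w ^ p = 1 := by
      rw [hw, ← pow_mul, ← pow_succ]
      rw [hj] at hk0s
      exact hk0s
    obtain ⟨q, hqQ, hqw⟩ := Subgroup.mem_map.mp hwQ
    have hqH : q ∈ H := by
      rw [hH, mem_crit']
      refine ⟨?_, ?_, ?_⟩
      · exact Subgroup.centralizer_le hMH hqQ
      · rw [hqw]; exact hwc
      · rw [hqw]; exact hwp
    have hqM : q ∈ M := by
      rw [← hZ]
      exact Subgroup.mem_inf.mpr ⟨hqH, hqQ⟩
    apply hjmin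
    rw [← hqw, QuotientGroup.mk'_apply, QuotientGroup.eq_one_iff]
    exact hqM

end Cfsg.Agent.S0093
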