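import Mathlib
import Cfsg.Statements.S0121
-- import your own Cfsg.Agent.* helpers here

set_option autoImplicit false
open Cfsg

namespace Cfsg.Agent.S0121

/-- A p'-automorphism of a p-group acting trivially on a critical subgroup is trivial. -/
theorem result {G : Type*} [Group G] [Finite G] {p : ℕ} [Fact p.Prime] (hG : IsPGroup p G) (H : Subgroup G) (hH : H.Characteristic) (h1 : (frattini H).map H.subtype ≤ Subgroup.centralizer (H : Set G)) (h2 : ⁅H, (⊤ : Subgroup G)⁆ ≤ H ⊓ Subgroup.centralizer (H : Set G)) (h3 : Subgroup.centralizer (H : Set G) ≤ H) (a : MulAut G) (ha : Nat.Coprime (orderOf a) p) (h : ∀ x ∈ H, a x = x) : a = 1 := by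
  have : H.Normal := Subgroup.normal_of_characteristic H
  have hz : ∀ g : G, g⁻¹ * a g ∈ H ∧ a (g⁻¹ * a g) = g⁻¹ * a g := by
    intro g
    have hc : g⁻¹ * a g ∈ Subgroup.centralizer (H : Set G) := by
      rw [Subgroup.mem_centralizer_iff]
      intro x hx
      have hx' : g * x * g⁻¹ ∈ H := ‹H.Normal›.conj_mem x hx g
      have e1 : a (g * x * g⁻¹) = g * x * g⁻¹ := h _ hx'
      rw [map_mul, map_mul, map_inv, h x hx] at e1
      calc x * (g⁻¹ * a g) = g⁻¹ * (g * x * g⁻¹) * a g := by group
        _ = g⁻¹ * (a g * x * (a g)⁻¹) * a g := by rw [e1]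
        _ = g⁻¹ * a g * x := by group
    have hH := h3 hc
    exact ⟨hH, h _ hH⟩
  have hpow : ∀ (k : ℕ) (g : G), (a ^ k) g = g * (g⁻¹ * a g) ^ k := by
    intro k
    induction k with
    | zero => intro g; simp
    | succ k ih =>
      intro g
      rw [pow_succ', MulAut.mul_apply, ih, map_mul, map_pow, (hz g).2, pow_succ']
      simp only [mul_assoc, mul_inv_cancel_left]
  have hcard : a ^ Nat.card G = 1 := by
    ext g
    rw [hpow, pow_card_eq_one', mul_one]
    rfl
  obtain ⟨n, hn⟩ := (IsPGroup.iff_card.mp hG)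
  have hdvd : orderOf a ∣ p ^ n := by
    rw [← hn]
    exact orderOf_dvd_of_pow_eq_one hcard
  have hone : orderOf a = 1 := Nat.Coprime.eq_one_of_dvd (Nat.Coprime.pow_right n ha) hdvd
  exact orderOf_eq_one_iff.mp hone

end Cfsg.Agent.S0121
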