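import Cfsg.Statements.S1335
import Mathlib

set_option autoImplicit false
open Cfsg

namespace Cfsg.Agent.S1335

/-- `PRankLE` transfers backwards along an injective homomorphism. -/
theorem pRankLE_of_injective {G G' : Type*} [Group G] [Group G'] (p k : ℕ) (f : G →* G')
    (hf : Function.Injective f) (h : Cfsg.PRankLE p k G') : Cfsg.PRankLE p k G := by
  intro A hA hexp
  have h1 := h (A.map f) ?_ ?_
  · rw [Subgroup.card_map_of_injective hf] at h1
    exact h1
  · constructor
    constructor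
    rintro ⟨x, hx⟩ ⟨y, hy⟩
    obtain ⟨a, ha, rfl⟩ := hx
    obtain ⟨b, hb, rfl⟩ := hy
    apply Subtype.ext
    show f a * f b = f b * f a
    have hab : a * b = b * a := by
      have := hA.is_comm.comm (⟨a, ha⟩ : A) ⟨b, hb⟩
      exact congrArg Subtype.val this
    rw [← map_mul, ← map_mul, hab]
  · rintro x ⟨a, ha, rfl⟩
    rw [← map_pow, hexp a ha, map_one]

/-- Let H be a subgroup of the finite group G, p a prime, k ≥ 1, P a Sylow p-subgroup of H of p-rank at least k, and suppose N_G(X) ≤ H for every subgroup X ≤ P of p-rank at least k. Then P is a Sylow p-subgroup of G. -/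
theorem result {G : Type*} [Group G] [Finite G] {p : ℕ} [Fact p.Prime] (k : ℕ) (hk : 1 ≤ k) (H : Subgroup G) (P : Sylow p ↥H) (hP : ¬ Cfsg.PRankLE p (k - 1) ↥(P : Subgroup ↥H)) (hΓ : (∀ X : Subgroup G, X ≤ (P : Subgroup ↥H).map H.subtype → ¬ Cfsg.PRankLE p (k - 1) ↥X → Subgroup.normalizer (X : Set G) ≤ H)) : ∃ Q : Sylow p G, (Q : Subgroup G) = (P : Subgroup ↥H).map H.subtype := by
  classical
  set P' : Subgroup G := (P : Subgroup ↥H).map H.subtype with hP'
  have hP'p : IsPGroup p P' := P.isPGroup'.map H.subtype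
  obtain ⟨Q, hQ⟩ := hP'p.exists_le_sylow
  refine ⟨Q, ?_⟩
  -- the normalizer of P' is in H
  have hN : Subgroup.normalizer (P' : Set G) ≤ H := by
    apply hΓ P' le_rfl
    intro hr
    apply hP
    have e : ↥(P : Subgroup ↥H) ≃* ↥P' :=
      (P : Subgroup ↥H).equivMapOfInjective H.subtype H.subtype_injective
    exact pRankLE_of_injective p (k - 1) e.toMonoidHom e.injective hr
  have hP'H : P' ≤ H := by
    rintro x ⟨y, _, rfl⟩
    exact y.2
  -- Q ⊓ H = P'
  have hQH : (Q : Subgroup G) ⊓ H = P' := by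
    have hpg : IsPGroup p ↥(((Q : Subgroup G) ⊓ H).subgroupOf H) := by
      have h1 : IsPGroup p ↥((Q : Subgroup G) ⊓ H) := Q.isPGroup'.to_le inf_le_left
      exact h1.comap_of_injective H.subtype H.subtype_injective
    have hle : (P : Subgroup ↥H) ≤ ((Q : Subgroup G) ⊓ H).subgroupOf H := by
      intro x hx
      rw [Subgroup.mem_subgroupOf]
      refine ⟨hQ ⟨x, hx, rfl⟩, x.2⟩
    have heq := P.is_maximal' hpg hle
    apply le_antisymm
    · intro x hx
      have hxH : x ∈ H := hx.2
      have : (⟨x, hxH⟩ : ↥H) ∈ ((Q : Subgroup G) ⊓ H).subgroupOf H := by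
        rw [Subgroup.mem_subgroupOf]; exact hx
      rw [heq] at this
      exact ⟨⟨x, hxH⟩, this, rfl⟩
    · exact le_inf hQ hP'H
  -- normalizer condition in Q
  by_contra hne
  have hlt : P'.subgroupOf (Q : Subgroup G) < ⊤ := by
    rw [lt_top_iff_ne_top]
    intro htop
    apply hne
    apply le_antisymm _ hQ
    intro x hx
    have : (⟨x, hx⟩ : ↥(Q : Subgroup G)) ∈ P'.subgroupOf (Q : Subgroup G) := by
      rw [htop]; trivial
    exact this
  have : Group.IsNilpotent ↥(Q : Subgroup G) := Q.isPGroup'.isNilpotent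
  have hnc := Group.normalizerCondition_of_isNilpotent (G := ↥(Q : Subgroup G)) _ hlt
  obtain ⟨x, hxN, hxP⟩ := SetLike.exists_of_lt hnc
  apply hxP
  rw [Subgroup.mem_subgroupOf]
  rw [← hQH]
  refine ⟨x.2, hN ?_⟩
  rw [Subgroup.mem_normalizer_iff] at hxN ⊢
  intro g
  constructor
  · intro hg
    have hgQ : g ∈ (Q : Subgroup G) := hQ hg
    have := (hxN ⟨g, hgQ⟩).1 (by rw [Subgroup.mem_subgroupOf]; exact hg)
    rw [Subgroup.mem_subgroupOf] at this
    exact this
  · intro hg
    have hgQ : g ∈ (Q : Subgroup G) := by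
      have h1 : (x : G) * g * (x : G)⁻¹ ∈ (Q : Subgroup G) := hQ hg
      have h2 := (Q : Subgroup G).mul_mem ((Q : Subgroup G).mul_mem ((Q : Subgroup G).inv_mem x.2) h1) x.2
      simpa [mul_assoc] using h2
    have := (hxN ⟨g, hgQ⟩).2 (by rw [Subgroup.mem_subgroupOf]; exact hg)
    rw [Subgroup.mem_subgroupOf] at this
    exact this

end Cfsg.Agent.S1335
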