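import Cfsg.Statements.S3810
import Cfsg.Agent.Lib.Helper63.PFrattini
import Cfsg.Agent.Lib.Helper53.PGroupBasics

set_option autoImplicit false
open Cfsg

namespace Cfsg.Agent.S3810

open scoped commutatorElement

variable {G : Type*} [Group G]

/-- The map `g ↦ [g, x]` as a homomorphism into a central subgroup. -/
def commHom (Z : Subgroup G) (hZ : Z ≤ Subgroup.center G) (x : G)
    (hx : ∀ g : G, g * x * g⁻¹ * x⁻¹ ∈ Z) : G →* Z where
  toFun g := ⟨g * x * g⁻¹ * x⁻¹, hx g⟩
  map_one' := by
    apply Subtype.ext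
    show 1 * x * 1⁻¹ * x⁻¹ = 1
    group
  map_mul' a b := by
    apply Subtype.ext
    have hb := Subgroup.mem_center_iff.1 (hZ (hx b))
    show a * b * x * (a * b)⁻¹ * x⁻¹ = (a * x * a⁻¹ * x⁻¹) * (b * x * b⁻¹ * x⁻¹)
    calc a * b * x * (a * b)⁻¹ * x⁻¹ = a * (b * x * b⁻¹ * x⁻¹) * x * a⁻¹ * x⁻¹ := by group
      _ = (b * x * b⁻¹ * x⁻¹) * a * x * a⁻¹ * x⁻¹ := by rw [hb a]
      _ = (b * x * b⁻¹ * x⁻¹) * (a * x * a⁻¹ * x⁻¹) := by group
      _ = (a * x * a⁻¹ * x⁻¹) * (b * x * b⁻¹ * x⁻¹) := (hb _).symm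

lemma commHom_ker (Z : Subgroup G) (hZ : Z ≤ Subgroup.center G) (x : G)
    (hx : ∀ g : G, g * x * g⁻¹ * x⁻¹ ∈ Z) :
    (commHom Z hZ x hx).ker = Subgroup.centralizer {x} := by
  ext g
  rw [MonoidHom.mem_ker, Subgroup.mem_centralizer_iff]
  simp only [Set.mem_singleton_iff, forall_eq]
  constructor
  · intro h
    have h' : g * x * g⁻¹ * x⁻¹ = 1 := congrArg Subtype.val h
    calc x * g = (g * x * g⁻¹ * x⁻¹)⁻¹ * (g * x) := by group
      _ = g * x := by rw [h']; simp
  · intro h
    apply Subtype.ext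
    show g * x * g⁻¹ * x⁻¹ = 1
    rw [← h]; group

lemma index_centralizer_dvd [Finite G] (Z : Subgroup G) (hZ : Z ≤ Subgroup.center G) (x : G)
    (hx : ∀ g : G, g * x * g⁻¹ * x⁻¹ ∈ Z) :
    (Subgroup.centralizer {x}).index ∣ Nat.card Z := by
  rw [← commHom_ker Z hZ x hx, Subgroup.index_ker]
  exact Subgroup.card_subgroup_dvd_card _

lemma sup_eq_top_of_index_prime {p : ℕ} (hp : p.Prime) (B K : Subgroup G) (hB : B.index = p)
    (hK : ¬ K ≤ B) : B ⊔ K = ⊤ := by
  have h1 := Subgroup.relIndex_mul_index (le_sup_left : B ≤ B ⊔ K)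
  rw [hB] at h1
  rcases (Nat.dvd_prime hp).1 (Dvd.intro _ h1) with h2 | h2
  · exfalso
    apply hK
    rw [Subgroup.relIndex_eq_one] at h2
    exact le_sup_right.trans h2
  · rw [h2] at h1
    have h3 : (B ⊔ K).index = 1 := by
      have : p * (B ⊔ K).index = p * 1 := by rw [h1, mul_one]
      exact Nat.eq_of_mul_eq_mul_left hp.pos this
    exact Subgroup.index_eq_one.1 h3

lemma extraspecial_basic {Q : Type*} [Group Q] [Finite Q] {p : ℕ} [Fact p.Prime]
    (hQ : IsExtraspecial p Q) : (¬ ∀ a b : Q, a * b = b * a) ∧ p ^ 3 ≤ Nat.card Q := by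
  have hp : p.Prime := Fact.out
  obtain ⟨⟨hQp, -, hcomm⟩, hZQ⟩ := hQ
  have hnc : ¬ ∀ a b : Q, a * b = b * a := by
    intro hab
    have h1 : Subgroup.center Q = ⊤ := by
      rw [Subgroup.eq_top_iff']
      intro z
      rw [Subgroup.mem_center_iff]
      intro g; exact hab g z
    have h2 : commutator Q = ⊥ := (commutator_eq_bot_iff_center_eq_top Q).2 h1
    rw [hcomm] at h2
    rw [h2, Subgroup.card_bot] at hZQ
    exact hp.one_lt.ne hZQ
  refine ⟨hnc, ?_⟩
  obtain ⟨n, hn⟩ := IsPGroup.iff_card.1 hQp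
  rw [hn]
  apply Nat.pow_le_pow_right hp.pos
  by_contra hlt
  have hn2 : n ≤ 2 := by omega
  interval_cases n
  · have h1 := Subgroup.card_le_card_group (Subgroup.center Q)
    rw [hZQ, hn, pow_zero] at h1
    exact absurd hp.one_lt (by omega)
  · apply hnc
    have h1 : Subgroup.center Q = ⊤ := Subgroup.eq_top_of_card_eq _ (by rw [hZQ, hn, pow_one])
    intro a b
    have : b ∈ Subgroup.center Q := by rw [h1]; exact Subgroup.mem_top b
    exact Subgroup.mem_center_iff.1 this a
  · have := IsPGroup.isMulCommutative_of_card_eq_prime_sq hn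
    exact hnc (fun a b => mul_comm' a b)

lemma card_of_abelian_index {Q : Type*} [Group Q] [Finite Q] {p : ℕ} [Fact p.Prime]
    (hQ : IsExtraspecial p Q) (B : Subgroup Q) (hB : ∀ a ∈ B, ∀ b ∈ B, a * b = b * a)
    (hBi : B.index ∣ p) : Nat.card Q = p ^ 3 := by
  have hp : p.Prime := Fact.out
  obtain ⟨hnc, hge⟩ := extraspecial_basic hQ
  obtain ⟨⟨hQp, -, hcomm⟩, hZQ⟩ := hQ
  have hBtop : B ≠ ⊤ := by
    intro h
    apply hnc
    intro a b
    exact hB a (by rw [h]; exact Subgroup.mem_top a) b (by rw [h]; exact Subgroup.mem_top b)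
  have hBi' : B.index = p := by
    rcases (Nat.dvd_prime hp).1 hBi with h | h
    · exact absurd (Subgroup.index_eq_one.1 h) hBtop
    · exact h
  obtain ⟨x, hx⟩ : ∃ x : Q, x ∉ B := by
    by_contra hcon
    apply hBtop
    rw [Subgroup.eq_top_iff']
    intro x
    by_contra hx
    exact hcon ⟨x, hx⟩
  have hxc : ∀ g : Q, g * x * g⁻¹ * x⁻¹ ∈ Subgroup.center Q := by
    intro g
    rw [← hcomm, commutator_def, ← commutatorElement_def]
    exact Subgroup.commutator_mem_commutator (Subgroup.mem_top g) (Subgroup.mem_top x)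
  have hCi := index_centralizer_dvd (Subgroup.center Q) le_rfl x hxc
  rw [hZQ] at hCi
  have hCi' : (Subgroup.centralizer {x}).index ≤ p := Nat.le_of_dvd hp.pos hCi
  have htop : B ⊔ Subgroup.zpowers x = ⊤ := by
    apply sup_eq_top_of_index_prime hp B _ hBi'
    intro h
    exact hx (h (Subgroup.mem_zpowers x))
  have hle : B ⊓ Subgroup.centralizer {x} ≤ Subgroup.center Q := by
    intro b hb
    have hbB : b ∈ B := hb.1
    have hbx : b ∈ Subgroup.centralizer {x} := hb.2
    have h1 : (⊤ : Subgroup Q) ≤ Subgroup.centralizer {b} := by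
      rw [← htop]
      apply sup_le
      · intro c hc
        rw [Subgroup.mem_centralizer_iff]
        simp only [Set.mem_singleton_iff, forall_eq]
        exact hB b hbB c hc
      · rw [Subgroup.zpowers_le, Subgroup.mem_centralizer_iff]
        simp only [Set.mem_singleton_iff, forall_eq]
        rw [Subgroup.mem_centralizer_iff] at hbx
        simp only [Set.mem_singleton_iff, forall_eq] at hbx
        exact hbx.symm
    rw [Subgroup.mem_center_iff]
    intro g
    have h2 := h1 (Subgroup.mem_top g)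
    rw [Subgroup.mem_centralizer_iff] at h2
    simp only [Set.mem_singleton_iff, forall_eq] at h2
    exact h2.symm
  have h1 := Subgroup.index_mul_card (B ⊓ Subgroup.centralizer {x})
  have h2 : (B ⊓ Subgroup.centralizer {x}).index ≤ p * p := by
    calc (B ⊓ Subgroup.centralizer {x}).index ≤ B.index * (Subgroup.centralizer {x}).index :=
          Subgroup.index_inf_le
      _ ≤ p * p := by rw [hBi']; exact Nat.mul_le_mul_left p hCi'
  have h3 : Nat.card (B ⊓ Subgroup.centralizer {x} : Subgroup Q) ≤ p := by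
    rw [← hZQ]; exact Subgroup.card_le_of_le hle
  have h4 : Nat.card Q ≤ p ^ 3 := by
    rw [← h1]
    calc (B ⊓ Subgroup.centralizer {x}).index * Nat.card (B ⊓ Subgroup.centralizer {x} : Subgroup Q)
        ≤ (p * p) * p := Nat.mul_le_mul h2 h3
      _ = p ^ 3 := by ring
  exact le_antisymm h4 hge

lemma normal_of_index_p [Finite G] {p : ℕ} [Fact p.Prime] (hG : IsPGroup p G) (Q : Subgroup G)
    (hQi : Q.index = p) : Q.Normal := by
  have hp : p.Prime := Fact.out
  apply Subgroup.normal_of_index_eq_minFac_card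
  obtain ⟨n, hn⟩ := IsPGroup.iff_card.1 hG
  rw [hQi, hn]
  have hn0 : n ≠ 0 := by
    rintro rfl
    have h1 : Q.index ∣ Nat.card G := Subgroup.index_dvd_card Q
    rw [hn, hQi, pow_zero, Nat.dvd_one] at h1
    exact hp.one_lt.ne' h1
  rw [Nat.pow_minFac hn0, Nat.Prime.minFac_eq hp]

/-- Let S be a finite p-group with an extraspecial subgroup of index p. Then S has an abelian subgroup of index p if and only if S has order p⁴. -/
theorem result {S : Type*} [Group S] [Finite S] (p : ℕ) [Fact p.Prime] (hS : IsPGroup p S) (Q : Subgroup S) (hQ : Cfsg.IsExtraspecial p ↥Q) (hQi : Q.index = p) :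
    (∃ A : Subgroup S, IsMulCommutative ↥A ∧ A.index = p) ↔ Nat.card S = p ^ 4 := by
  have hp : p.Prime := Fact.out
  have hcard : Nat.card S = p * Nat.card Q := by
    rw [← hQi]; exact (Subgroup.index_mul_card Q).symm
  constructor
  · rintro ⟨A, hA, hAi⟩
    have hAn : A.Normal := normal_of_index_p hS A hAi
    have h1 : (A.subgroupOf Q).index ∣ p := by
      have := Subgroup.relIndex_dvd_index_of_normal A Q
      rwa [hAi] at this
    have h2 := card_of_abelian_index hQ (A.subgroupOf Q) (fun a ha b hb => by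
      apply Subtype.ext
      have h3 : (⟨(a : S), ha⟩ : A) * ⟨(b : S), hb⟩ = ⟨(b : S), hb⟩ * ⟨(a : S), ha⟩ :=
        mul_comm' _ _
      have h4 : (a : S) * (b : S) = (b : S) * (a : S) := congrArg Subtype.val h3
      exact h4) h1
    rw [hcard, h2]; ring
  · intro hS4
    have hQ3 : Nat.card Q = p ^ 3 := by
      have : p * Nat.card Q = p * p ^ 3 := by rw [← hcard, hS4]; ring
      exact Nat.eq_of_mul_eq_mul_left hp.pos this
    obtain ⟨-, hZQ⟩ := hQ
    have hQn : Q.Normal := normal_of_index_p hS Q hQi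
    have hZ₀n : ((Subgroup.center ↥Q).map Q.subtype).Normal := inferInstance
    have hZ₀card : Nat.card ((Subgroup.center ↥Q).map Q.subtype) = p := by
      rw [Subgroup.card_map_of_injective Q.subtype_injective]; exact hZQ
    have hZ₀le : (Subgroup.center ↥Q).map Q.subtype ≤ Subgroup.center S :=
      Cfsg.Agent.Lib.Helper63.PFrattini.normal_card_prime_le_center hS _ hZ₀card
    have hinf : Q ⊓ Subgroup.center S ≤ (Subgroup.center ↥Q).map Q.subtype := by
      rintro z ⟨hzQ, hz⟩
      refine ⟨⟨z, hzQ⟩, ?_, rfl⟩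
      rw [SetLike.mem_coe, Subgroup.mem_center_iff]
      intro q
      apply Subtype.ext
      exact (Subgroup.mem_center_iff.1 hz) q
    generalize (Subgroup.center ↥Q).map Q.subtype = Z₀ at hZ₀n hZ₀card hZ₀le hinf
    have hNbot : Q.map (QuotientGroup.mk' Z₀) ≠ ⊥ := by
      intro h
      rw [Subgroup.map_eq_bot_iff, QuotientGroup.ker_mk'] at h
      have h1 := Subgroup.card_le_of_le h
      rw [hQ3, hZ₀card] at h1
      have h2 : p ^ 1 < p ^ 3 := Nat.pow_lt_pow_right hp.one_lt (by norm_num)
      rw [pow_one] at h2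
      omega
    have hNn : (Q.map (QuotientGroup.mk' Z₀)).Normal :=
      Subgroup.Normal.map hQn _ (QuotientGroup.mk'_surjective Z₀)
    obtain ⟨xbar, hxN, hx1, hxc⟩ :=
      Cfsg.Agent.Lib.Helper53.PGroupBasics.exists_center_mem_normal (hS.to_quotient Z₀)
        (Q.map (QuotientGroup.mk' Z₀)) hNbot
    obtain ⟨x, hxQ, rfl⟩ := hxN
    have hxZ : x ∉ Z₀ := by
      intro h; apply hx1; rw [QuotientGroup.mk'_apply, QuotientGroup.eq_one_iff]; exact h
    have hxs : ∀ g : S, g * x * g⁻¹ * x⁻¹ ∈ Z₀ := by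
      intro g
      rw [← QuotientGroup.eq_one_iff]
      have h1 := Subgroup.mem_center_iff.1 hxc (QuotientGroup.mk' Z₀ g)
      have h2 : ((g * x * g⁻¹ * x⁻¹ : S) : S ⧸ Z₀)
          = QuotientGroup.mk' Z₀ g * QuotientGroup.mk' Z₀ x * (QuotientGroup.mk' Z₀ g)⁻¹
            * (QuotientGroup.mk' Z₀ x)⁻¹ := by simp
      rw [h2, h1]; group
    have hCi := index_centralizer_dvd Z₀ hZ₀le x hxs
    rw [hZ₀card] at hCi
    have hCtop : Subgroup.centralizer {x} ≠ ⊤ := by
      intro h
      apply hxZ
      apply hinf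
      refine ⟨hxQ, ?_⟩
      show x ∈ Subgroup.center S
      rw [Subgroup.mem_center_iff]
      intro g
      have h1 : g ∈ Subgroup.centralizer {x} := by rw [h]; exact Subgroup.mem_top g
      rw [Subgroup.mem_centralizer_iff] at h1
      simp only [Set.mem_singleton_iff, forall_eq] at h1
      exact h1.symm
    have hCi' : (Subgroup.centralizer {x}).index = p := by
      rcases (Nat.dvd_prime hp).1 hCi with h | h
      · exact absurd (Subgroup.index_eq_one.1 h) hCtop
      · exact h
    refine ⟨Subgroup.centralizer {x}, ?_, hCi'⟩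
    have hCmem : ∀ g : S, g ∈ Subgroup.centralizer {x} ↔ x * g = g * x := by
      intro g
      rw [Subgroup.mem_centralizer_iff]
      simp only [Set.mem_singleton_iff, forall_eq]
    generalize Subgroup.centralizer {x} = C at hCi' hCmem
    have hCcard : Nat.card C = p ^ 3 := by
      have h1 := Subgroup.index_mul_card C
      rw [hCi', hS4] at h1
      exact Nat.eq_of_mul_eq_mul_left hp.pos (by rw [h1]; ring)
    have hXle : Z₀ ⊔ Subgroup.zpowers x ≤ (Subgroup.center C).map C.subtype := by
      apply sup_le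
      · intro z hz
        have hzc := hZ₀le hz
        have hzC : z ∈ C := by
          rw [hCmem]
          exact Subgroup.mem_center_iff.1 hzc x
        refine ⟨⟨z, hzC⟩, ?_, rfl⟩
        rw [SetLike.mem_coe, Subgroup.mem_center_iff]
        intro g; apply Subtype.ext; exact Subgroup.mem_center_iff.1 hzc g
      · rw [Subgroup.zpowers_le]
        have hxC : x ∈ C := by rw [hCmem]
        refine ⟨⟨x, hxC⟩, ?_, rfl⟩
        rw [SetLike.mem_coe, Subgroup.mem_center_iff]
        intro g; apply Subtype.ext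
        have h1 := (hCmem g).1 g.2
        exact h1.symm
    have hXcard : p ^ 2 ∣ Nat.card (Z₀ ⊔ Subgroup.zpowers x : Subgroup S) := by
      obtain ⟨k, hk⟩ := IsPGroup.iff_card.1 (hS.to_subgroup (Z₀ ⊔ Subgroup.zpowers x))
      rw [hk]
      apply pow_dvd_pow
      by_contra hlt
      have hk1 : k ≤ 1 := by omega
      have h1 : Nat.card (Z₀ ⊔ Subgroup.zpowers x : Subgroup S) ≤ p := by
        rw [hk]
        calc p ^ k ≤ p ^ 1 := Nat.pow_le_pow_right hp.pos hk1
          _ = p := pow_one p
      have h2 : Z₀ = Z₀ ⊔ Subgroup.zpowers x :=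
        Subgroup.eq_of_le_of_card_ge le_sup_left (by rw [hZ₀card]; exact h1)
      apply hxZ
      rw [h2]; exact Subgroup.mem_sup_right (Subgroup.mem_zpowers x)
    have hZC : p ^ 2 ∣ Nat.card (Subgroup.center C) := by
      have h1 := Subgroup.card_dvd_of_le hXle
      rw [Subgroup.card_map_of_injective C.subtype_injective] at h1
      exact hXcard.trans h1
    have hidx : (Subgroup.center C).index ∣ p := by
      obtain ⟨m, hm⟩ := hZC
      have h1 := Subgroup.index_mul_card (Subgroup.center C)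
      rw [hCcard, hm] at h1
      have h2 : p ^ 2 * ((Subgroup.center C).index * m) = p ^ 2 * p := by
        calc p ^ 2 * ((Subgroup.center C).index * m)
            = (Subgroup.center C).index * (p ^ 2 * m) := by ring
          _ = p ^ 3 := h1
          _ = p ^ 2 * p := by ring
      exact Dvd.intro _ (Nat.eq_of_mul_eq_mul_left (pow_pos hp.pos 2) h2)
    have hcyc : IsCyclic (C ⧸ Subgroup.center C) := by
      apply isCyclic_of_card_dvd_prime (p := p)
      rw [← Subgroup.index_eq_card]; exact hidx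
    exact MonoidHom.isMulCommutative_of_isCyclic_of_ker_le_center
      (QuotientGroup.mk' (Subgroup.center C)) (by rw [QuotientGroup.ker_mk'])


end Cfsg.Agent.S3810
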