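import Cfsg.Statements.S3771
import Cfsg.Agent.S3810

set_option autoImplicit false
open Cfsg

namespace Cfsg.Agent.S3771

/-- Let p be a prime and R a finite p-group of p-rank at most 2 (no elementary abelian subgroup of order p³) in which every element has order dividing p. Then R has order at most p³. -/
theorem result {R : Type*} [Group R] [Finite R] {p : ℕ} [Fact p.Prime] (hR : IsPGroup p R) (hrank : Cfsg.PRankLE p 2 R) (hexp : ∀ x : R, x ^ p = 1) : Nat.card R ≤ p ^ 3 := by
  have hp : p.Prime := Fact.out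
  by_contra hgt
  obtain ⟨n, hn⟩ := IsPGroup.iff_card.1 hR
  have hn4 : 4 ≤ n := by
    by_contra h
    apply hgt
    rw [hn]
    exact Nat.pow_le_pow_right hp.pos (by omega)
  have hR4 : p ^ 4 ≤ Nat.card R := by
    rw [hn]; exact Nat.pow_le_pow_right hp.pos hn4
  have hcardle : ∀ E : Subgroup R, IsMulCommutative E → Nat.card E ≤ p ^ 2 :=
    fun E hE => hrank E hE (fun a _ => hexp a)
  have hpow : ∀ (E : Subgroup R), p < Nat.card E → p ^ 2 ≤ Nat.card E := by
    intro E hE
    obtain ⟨k, hk⟩ := IsPGroup.iff_card.1 (hR.to_subgroup E)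
    rw [hk] at hE ⊢
    apply Nat.pow_le_pow_right hp.pos
    by_contra hk2
    have : p ^ k ≤ p ^ 1 := Nat.pow_le_pow_right hp.pos (by omega)
    rw [pow_one] at this
    omega
  have hlt : ∀ (E F : Subgroup R), E ≤ F → ∀ x ∈ F, x ∉ E → Nat.card E < Nat.card F := by
    intro E F hEF x hxF hxE
    by_contra hle
    have := Subgroup.eq_of_le_of_card_ge hEF (not_lt.1 hle)
    exact hxE (this ▸ hxF)
  -- a central element of order p
  have htop : (⊤ : Subgroup R) ≠ ⊥ := by
    intro h
    have h1 : Nat.card (⊤ : Subgroup R) = 1 := by rw [h, Subgroup.card_bot]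
    rw [Subgroup.card_top] at h1
    have : 1 < p ^ 4 := Nat.one_lt_pow (by norm_num) hp.one_lt
    omega
  obtain ⟨z, -, hz1, hzc⟩ :=
    Cfsg.Agent.Lib.Helper53.PGroupBasics.exists_center_mem_normal hR ⊤ htop
  have hzcomm : ∀ g : R, g * z = z * g := Subgroup.mem_center_iff.1 hzc
  have hA₁le : Subgroup.zpowers z ≤ Subgroup.center R := by
    rw [Subgroup.zpowers_le]; exact hzc
  have hA₁n : (Subgroup.zpowers z).Normal := by
    constructor
    intro a ha g
    have := Subgroup.mem_center_iff.1 (hA₁le ha) g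
    rw [this, mul_inv_cancel_right]; exact ha
  have hA₁card : Nat.card (Subgroup.zpowers z) = p := by
    rw [Nat.card_zpowers]
    exact orderOf_eq_prime (hexp z) hz1
  -- a central element of the quotient
  have htop' : (⊤ : Subgroup (R ⧸ Subgroup.zpowers z)) ≠ ⊥ := by
    intro h
    have h1 : Subgroup.zpowers z = ⊤ := by
      rw [Subgroup.eq_top_iff']
      intro g
      rw [← QuotientGroup.eq_one_iff, ← Subgroup.mem_bot, ← h]
      exact Subgroup.mem_top _
    rw [h1, Subgroup.card_top] at hA₁card
    have : p ^ 1 < p ^ 4 := Nat.pow_lt_pow_right hp.one_lt (by norm_num)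
    rw [pow_one] at this
    omega
  obtain ⟨ybar, -, hy1, hyc⟩ :=
    Cfsg.Agent.Lib.Helper53.PGroupBasics.exists_center_mem_normal
      (hR.to_quotient (Subgroup.zpowers z)) ⊤ htop'
  obtain ⟨y, rfl⟩ := QuotientGroup.mk'_surjective (Subgroup.zpowers z) ybar
  have hyA : y ∉ Subgroup.zpowers z := by
    intro h; apply hy1; rw [QuotientGroup.mk'_apply, QuotientGroup.eq_one_iff]; exact h
  have hys : ∀ g : R, g * y * g⁻¹ * y⁻¹ ∈ Subgroup.zpowers z := by
    intro g
    rw [← QuotientGroup.eq_one_iff]
    have h1 := Subgroup.mem_center_iff.1 hyc (QuotientGroup.mk' (Subgroup.zpowers z) g)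
    have h2 : ((g * y * g⁻¹ * y⁻¹ : R) : R ⧸ Subgroup.zpowers z)
        = QuotientGroup.mk' (Subgroup.zpowers z) g * QuotientGroup.mk' (Subgroup.zpowers z) y
          * (QuotientGroup.mk' (Subgroup.zpowers z) g)⁻¹
          * (QuotientGroup.mk' (Subgroup.zpowers z) y)⁻¹ := by simp
    rw [h2, h1]; group
  have hCi := Cfsg.Agent.S3810.index_centralizer_dvd (Subgroup.zpowers z) hA₁le y hys
  rw [hA₁card] at hCi
  have hCmem : ∀ g : R, g ∈ Subgroup.centralizer {y} ↔ y * g = g * y := by
    intro g
    rw [Subgroup.mem_centralizer_iff]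
    simp only [Set.mem_singleton_iff, forall_eq]
  have hCcard : p ^ 3 ≤ Nat.card (Subgroup.centralizer {y}) := by
    have h1 := Subgroup.index_mul_card (Subgroup.centralizer {y})
    have h2 : (Subgroup.centralizer {y}).index ≤ p := Nat.le_of_dvd hp.pos hCi
    have h3 : p ^ 4 ≤ p * Nat.card (Subgroup.centralizer {y}) := by
      calc p ^ 4 ≤ Nat.card R := hR4
        _ = (Subgroup.centralizer {y}).index * Nat.card (Subgroup.centralizer {y}) := h1.symm
        _ ≤ p * Nat.card (Subgroup.centralizer {y}) := Nat.mul_le_mul_right _ h2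
    have h4 : p * p ^ 3 ≤ p * Nat.card (Subgroup.centralizer {y}) := by
      calc p * p ^ 3 = p ^ 4 := by ring
        _ ≤ _ := h3
    exact Nat.le_of_mul_le_mul_left h4 hp.pos
  -- E = ⟨z, y⟩
  have hEcomm : IsMulCommutative (Subgroup.closure ({z, y} : Set R)) := by
    apply Subgroup.isMulCommutative_closure
    intro a ha b hb
    simp only [Set.mem_insert_iff, Set.mem_singleton_iff] at ha hb
    rcases ha with rfl | rfl <;> rcases hb with rfl | rfl
    · rfl
    · exact (hzcomm _).symm
    · exact hzcomm _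
    · rfl
  have hEle := hcardle _ hEcomm
  have hEge : p ^ 2 ≤ Nat.card (Subgroup.closure ({z, y} : Set R)) := by
    apply hpow
    rw [← hA₁card]
    apply hlt _ _ _ y (Subgroup.subset_closure (by simp)) hyA
    rw [Subgroup.zpowers_le]
    exact Subgroup.subset_closure (by simp)
  have hEC : Subgroup.closure ({z, y} : Set R) ≤ Subgroup.centralizer {y} := by
    rw [Subgroup.closure_le]
    intro a ha
    simp only [Set.mem_insert_iff, Set.mem_singleton_iff] at ha
    rw [SetLike.mem_coe, hCmem]
    rcases ha with rfl | rfl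
    · exact hzcomm y
    · rfl
  obtain ⟨x, hxC, hxE⟩ : ∃ x ∈ Subgroup.centralizer {y},
      x ∉ Subgroup.closure ({z, y} : Set R) := by
    by_contra hcon
    have hle : Subgroup.centralizer {y} ≤ Subgroup.closure ({z, y} : Set R) := by
      intro x hx
      by_contra hxE
      exact hcon ⟨x, hx, hxE⟩
    have h1 := Subgroup.card_le_of_le hle
    have h2 : p ^ 2 < p ^ 3 := Nat.pow_lt_pow_right hp.one_lt (by norm_num)
    omega
  have hxy : y * x = x * y := (hCmem x).1 hxC
  have hE'comm : IsMulCommutative (Subgroup.closure ({z, y, x} : Set R)) := by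
    apply Subgroup.isMulCommutative_closure
    intro a ha b hb
    simp only [Set.mem_insert_iff, Set.mem_singleton_iff] at ha hb
    rcases ha with rfl | rfl | rfl <;> rcases hb with rfl | rfl | rfl
    · rfl
    · exact (hzcomm _).symm
    · exact (hzcomm _).symm
    · exact hzcomm _
    · rfl
    · exact hxy
    · exact hzcomm _
    · exact hxy.symm
    · rfl
  have hE'le := hcardle _ hE'comm
  have hEE' : Nat.card (Subgroup.closure ({z, y} : Set R))
      < Nat.card (Subgroup.closure ({z, y, x} : Set R)) := by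
    apply hlt _ _ _ x (Subgroup.subset_closure (by simp)) hxE
    apply Subgroup.closure_mono
    intro a ha
    simp only [Set.mem_insert_iff, Set.mem_singleton_iff] at ha ⊢
    tauto
  omega

end Cfsg.Agent.S3771
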