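import Cfsg.Statements.S0640
import Cfsg.Agent.S0093
import Cfsg.Agent.S0121
import Cfsg.Agent.S0120
import Cfsg.Agent.S3771
import Cfsg.Agent.S4208
import Cfsg.Agent.S0012
import Cfsg.Agent.S1335

set_option autoImplicit false
open Cfsg

namespace Cfsg.Agent.S0640

open scoped commutatorElement

/-- Restriction of an automorphism to an invariant subgroup. -/
def restr {R : Type*} [Group R] (H : Subgroup R) (α : MulAut R) (h : ∀ x, x ∈ H ↔ α x ∈ H) :
    MulAut ↥H where
  toFun x := ⟨α x, (h x).mp x.2⟩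
  invFun y := ⟨α.symm y, (h _).mpr (by rw [MulEquiv.apply_symm_apply]; exact y.2)⟩
  left_inv x := by apply Subtype.ext; simp
  right_inv y := by apply Subtype.ext; simp
  map_mul' x y := by apply Subtype.ext; simp

theorem restr_apply {R : Type*} [Group R] (H : Subgroup R) (α : MulAut R)
    (h : ∀ x, x ∈ H ↔ α x ∈ H) (x : ↥H) : ((restr H α h x : ↥H) : R) = α x := rfl

theorem restr_pow {R : Type*} [Group R] (H : Subgroup R) (α : MulAut R)
    (h : ∀ x, x ∈ H ↔ α x ∈ H) (k : ℕ) (x : ↥H) :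
    (((restr H α h) ^ k) x : R) = (α ^ k) (x : R) := by
  induction k generalizing x with
  | zero => simp
  | succ k ih =>
    rw [pow_succ, pow_succ, MulAut.mul_apply, MulAut.mul_apply, ih, restr_apply]

/-- The elements of order dividing `p` in a subgroup `C` with `[C, G] ≤ Z(C)` form a subgroup
(`p` odd). -/
def omegaSub {R : Type*} [Group R] (p : ℕ) [Fact p.Prime] (hp : p ≠ 2) (C : Subgroup R)
    (hC2 : ⁅C, (⊤ : Subgroup R)⁆ ≤ C ⊓ Subgroup.centralizer (C : Set R)) : Subgroup R where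
  carrier := {x | x ∈ C ∧ x ^ p = 1}
  one_mem' := ⟨C.one_mem, one_pow p⟩
  inv_mem' := fun {x} hx => ⟨C.inv_mem hx.1, by rw [inv_pow, hx.2, inv_one]⟩
  mul_mem' := by
    intro x y hx hy
    refine ⟨C.mul_mem hx.1 hy.1, ?_⟩
    have hc : y⁻¹ * x⁻¹ * y * x ∈ Subgroup.centralizer (C : Set R) := by
      have h1 : ⁅y⁻¹, x⁻¹⁆ ∈ ⁅C, (⊤ : Subgroup R)⁆ :=
        Subgroup.commutator_mem_commutator (C.inv_mem hy.1) (Subgroup.mem_top _)
      have h2 : ⁅y⁻¹, x⁻¹⁆ = y⁻¹ * x⁻¹ * y * x := by
        rw [commutatorElement_def, inv_inv, inv_inv]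
      rw [← h2]
      exact (hC2 h1).2
    have hcx := Subgroup.mem_centralizer_iff.mp hc x hx.1
    have hcy := Subgroup.mem_centralizer_iff.mp hc y hy.1
    rw [Cfsg.Agent.Lib.Helper24.Coprime.mul_pow_prime_of_central p hp hcx.symm hcy.symm
      (by rw [hy.2, one_mul, mul_one]), hx.2, hy.2, one_mul]

theorem mem_omegaSub {R : Type*} [Group R] (p : ℕ) [Fact p.Prime] (hp : p ≠ 2) (C : Subgroup R)
    (hC2 : ⁅C, (⊤ : Subgroup R)⁆ ≤ C ⊓ Subgroup.centralizer (C : Set R)) (x : R) :
    x ∈ omegaSub p hp C hC2 ↔ x ∈ C ∧ x ^ p = 1 := Iff.rfl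

theorem arith_a (k : ℕ) : (k + 1) ^ 2 - 1 = k * (k + 2) := Nat.sub_eq_of_eq_add (by ring)

theorem arith_b (k : ℕ) : (k + 1) ^ 2 - (k + 1) = (k + 1) * k := Nat.sub_eq_of_eq_add (by ring)

theorem final_arith (p q : ℕ) (hpp : p.Prime) (hp : p ≠ 2) (hq : q.Prime) (hqp : q ≠ p)
    (h : q ∣ p - 1 ∨ q ∣ p ^ 2 - 1 ∨ q ∣ p ^ 2 - p) : q ∣ p ^ 2 - 1 ∧ q < p := by
  obtain ⟨k, rfl⟩ : ∃ k, p = k + 1 := ⟨p - 1, by have := hpp.one_le; omega⟩
  have hcop : Nat.Coprime q (k + 1) := (Nat.coprime_primes hq hpp).mpr hqp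
  have hk : q ∣ k ∨ q ∣ k + 2 := by
    rcases h with h | h | h
    · left; simpa using h
    · rw [arith_a] at h; exact (Nat.Prime.dvd_mul hq).mp h
    · rw [arith_b] at h; left; exact hcop.dvd_of_dvd_mul_left h
  have hk0 : 0 < k := by have := hpp.two_le; omega
  have hodd : (k + 1) % 2 = 1 := (hpp.eq_two_or_odd).resolve_left hp
  constructor
  · rw [arith_a]
    rcases hk with h | h
    · exact Dvd.dvd.mul_right h _
    · exact Dvd.dvd.mul_left h _
  · rcases hk with h | h
    · have := Nat.le_of_dvd hk0 h; omega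
    · have h1 := Nat.le_of_dvd (by omega) h
      have h2 : q ≠ k + 2 := by
        intro h3
        have h4 : 2 ∣ q := by rw [h3]; omega
        have h5 := (Nat.prime_dvd_prime_iff_eq Nat.prime_two hq).mp h4
        omega
      omega

/-- For odd p, a prime q ≠ p dividing the order of the automorphism group of a p-group of rank at most 2 divides p² - 1 and is less than p. -/
theorem result {R : Type*} [Group R] [Finite R] {p : ℕ} [Fact p.Prime] (hp : p ≠ 2) (hR : IsPGroup p R) (hrk : Cfsg.PRankLE p 2 R) (q : ℕ) (hq : q.Prime) (hqp : q ≠ p) (hdvd : q ∣ Nat.card (MulAut R)) : q ∣ p ^ 2 - 1 ∧ q < p := by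
  have hpp : p.Prime := Fact.out
  haveI : Fact q.Prime := ⟨hq⟩
  obtain ⟨α, hα⟩ := exists_prime_orderOf_dvd_card' q hdvd
  have hcop : Nat.Coprime q p := (Nat.coprime_primes hq hpp).mpr hqp
  have hαq : α ^ q = 1 := by rw [← hα]; exact pow_orderOf_eq_one α
  have hα1 : α ≠ 1 := by
    intro h
    rw [h, orderOf_one] at hα
    exact hq.one_lt.ne hα
  -- a critical subgroup
  obtain ⟨C, hCchar, hC1, hC2, hC3⟩ := Cfsg.Agent.S0093.result hR
  have hCinv : ∀ x : R, x ∈ C ↔ α x ∈ C := by
    intro x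
    have h := hCchar.fixed α
    constructor
    · intro hx
      rw [← h] at hx
      exact hx
    · intro hx
      rw [← h]
      exact hx
  have hmoveC : ∃ x ∈ C, α x ≠ x := by
    by_contra hcon
    push Not at hcon
    exact hα1 (Cfsg.Agent.S0121.result hR C hCchar hC1 hC2 hC3 α (by rw [hα]; exact hcop) hcon)
  -- restrictions of α have order q as soon as they are nontrivial
  have hrestr : ∀ (H : Subgroup R) (h : ∀ x, x ∈ H ↔ α x ∈ H), (∃ x ∈ H, α x ≠ x) →
      orderOf (restr H α h) = q := by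
    rintro H h ⟨x, hx, hne⟩
    apply orderOf_eq_prime
    · apply MulEquiv.ext
      intro y
      apply Subtype.ext
      rw [restr_pow, hαq]
      rfl
    · intro h1
      apply hne
      have h2 := congrArg (fun f : MulAut ↥H => ((f ⟨x, hx⟩ : ↥H) : R)) h1
      simpa [restr_apply] using h2
  have hCp : IsPGroup p ↥C := hR.to_subgroup C
  obtain ⟨x, hxC, hxp, hxne⟩ : ∃ x ∈ C, x ^ p = 1 ∧ α x ≠ x := by
    by_contra hcon
    push Not at hcon
    have hord := hrestr C hCinv hmoveC
    have h1 : restr C α hCinv = 1 :=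
      Cfsg.Agent.S0120.result hp hCp (restr C α hCinv) (by rw [hord]; exact hcop) (by
        intro y hy
        apply Subtype.ext
        rw [restr_apply]
        apply hcon y.1 y.2
        have h2 := congrArg Subtype.val hy
        simpa using h2)
    rw [h1, orderOf_one] at hord
    exact hq.one_lt.ne hord
  -- the subgroup E of elements of order dividing p in C
  set E : Subgroup R := omegaSub p hp C hC2 with hE
  have hEinv : ∀ y : R, y ∈ E ↔ α y ∈ E := by
    intro y
    rw [hE, mem_omegaSub, mem_omegaSub, ← hCinv y, ← map_pow]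
    constructor
    · rintro ⟨h1, h2⟩
      exact ⟨h1, by rw [h2, map_one]⟩
    · rintro ⟨h1, h2⟩
      exact ⟨h1, (MulEquiv.map_eq_one_iff α).mp h2⟩
  have hordE := hrestr E hEinv ⟨x, ⟨hxC, hxp⟩, hxne⟩
  have hqE : q ∣ Nat.card (MulAut ↥E) := by
    rw [← hordE]
    exact orderOf_dvd_natCard _
  have hEp : IsPGroup p ↥E := hR.to_subgroup E
  have hexp : ∀ y : ↥E, y ^ p = 1 := by
    intro y
    apply Subtype.ext
    have := y.2.2
    simpa using this
  have hrkE : Cfsg.PRankLE p 2 ↥E :=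
    Cfsg.Agent.S1335.pRankLE_of_injective p 2 E.subtype (Subgroup.subtype_injective E) hrk
  have hcard3 : Nat.card ↥E ≤ p ^ 3 := Cfsg.Agent.S3771.result hEp hrkE hexp
  obtain ⟨n, hn⟩ := IsPGroup.iff_card.mp hEp
  have hn3 : n ≤ 3 := by
    rw [hn] at hcard3
    exact (Nat.pow_le_pow_iff_right hpp.one_lt).mp hcard3
  obtain ⟨r, hr⟩ := hEp.index (frattini ↥E)
  have hrn : r ≤ n := by
    have h1 : (frattini ↥E).index ∣ Nat.card ↥E := Subgroup.index_dvd_card _
    rw [hr, hn] at h1
    exact (Nat.pow_dvd_pow_iff_le_right hpp.one_lt).mp h1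
  have hS := Cfsg.Agent.S4208.result hn hr
  have hdiv : q ∣ ∏ i ∈ Finset.range r, (p ^ r - p ^ i) :=
    (Nat.Coprime.pow_right _ hcop).dvd_of_dvd_mul_left (dvd_trans hqE hS)
  have hr2 : r ≤ 2 := by
    by_contra hcon
    push Not at hcon
    have hr3 : r = 3 := by omega
    have hn3' : n = 3 := by omega
    have hfr : frattini ↥E = ⊥ := by
      have h1 := Subgroup.card_mul_index (frattini ↥E)
      rw [hr, hn, hr3, hn3'] at h1
      have h2 : Nat.card ↥(frattini ↥E) = 1 := by
        have h3 : 0 < p ^ 3 := pow_pos hpp.pos 3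
        exact Nat.eq_of_mul_eq_mul_right h3 (by rw [h1, one_mul])
      exact Subgroup.card_eq_one.mp h2
    have hcomm : commutator ↥E ≤ ⊥ := by
      rw [← hfr]
      exact (Cfsg.Agent.S0012.result p hEp).1
    haveI : IsMulCommutative ↥E := by
      refine ⟨⟨fun a b => ?_⟩⟩
      have h1 : ⁅a, b⁆ ∈ commutator ↥E := by
        rw [commutator_def]
        exact Subgroup.commutator_mem_commutator (Subgroup.mem_top a) (Subgroup.mem_top b)
      have h2 : ⁅a, b⁆ = 1 := Subgroup.mem_bot.mp (hcomm h1)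
      exact commutatorElement_eq_one_iff_mul_comm.mp h2
    have h4 := hrk E inferInstance (fun a ha => ha.2)
    rw [hn, hn3'] at h4
    have h5 := (Nat.pow_le_pow_iff_right hpp.one_lt).mp h4
    omega
  apply final_arith p q hpp hp hq hqp
  interval_cases r
  · simp at hdiv
    exact absurd hdiv hq.one_lt.ne'
  · left
    simpa using hdiv
  · right
    rw [Finset.prod_range_succ, Finset.prod_range_succ, Finset.prod_range_zero, one_mul,
      pow_zero, pow_one] at hdiv
    exact (Nat.Prime.dvd_mul hq).mp hdiv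

end Cfsg.Agent.S0640
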