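import Cfsg.Statements.S1450
import Cfsg.Agent.Lib.Helper9.Rank2Solv

set_option autoImplicit false
open Cfsg

namespace Cfsg.Agent.S1450

/-- Let G be a solvable group of odd order, p a prime dividing its order with G having no elementary abelian subgroup of order p ^ 3. Then every prime dividing the index of O_{p'}(G) is at most p; if p = 3 or p is the smallest prime divisor of #G then G has a normal p-complement; the derived subgroup G' has a normal p-complement; every subgroup of G' of order coprime to p lies in O_{p'}(G'); and G/O_{p',p}(G) is abelian of order coprime to p. -/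
theorem result {G : Type*} [Group G] [Finite G] [Group.IsSolvable G] (hodd : Odd (Nat.card G)) (p : ℕ) [Fact p.Prime] (hpG : p ∣ Nat.card G) (hr : Cfsg.PRankLE p 2 G) :
    (∀ q : ℕ, q.Prime → q ∣ (Cfsg.pPrimeCore p G).index → q ≤ p) ∧
      ((p = 3 ∨ ∀ q : ℕ, q.Prime → q ∣ Nat.card G → p ≤ q) → Cfsg.HasNormalPComplement p G) ∧
      Cfsg.HasNormalPComplement p ↥(commutator G) ∧
      (∀ L : Subgroup ↥(commutator G), (Nat.card L).Coprime p → L ≤ Cfsg.pPrimeCore p ↥(commutator G)) ∧
      commutator G ≤ Cfsg.pPrimePCore p G ∧ ((Cfsg.pPrimePCore p G).index).Coprime p := by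
  have hpp : p.Prime := Fact.out
  have hp : p ≠ 2 := by
    intro h
    rw [h] at hpG
    exact (Nat.not_even_iff_odd.mpr hodd) (even_iff_two_dvd.mpr hpG)
  obtain ⟨K1, K2, K3⟩ := Cfsg.Agent.Lib.Helper9.Rank2Solv.core hodd hp hr
  have hNT : Cfsg.pPrimeCore p G ≤ Cfsg.pPrimePCore p G :=
    Cfsg.Agent.Lib.Helper11.PConstr.pPrimeCore_le_pPrimePCore p G
  obtain ⟨k, hk⟩ := Cfsg.Agent.Lib.Helper9.Rank2Solv.relIndex_pPrimeCore
    (Cfsg.pPrimePCore p G) le_rfl
  have hidx : (Cfsg.pPrimeCore p G).index = p ^ k * (Cfsg.pPrimePCore p G).index := by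
    rw [← hk]
    exact (Subgroup.relIndex_mul_index hNT).symm
  have hc : (Nat.card ↥((Cfsg.pPrimeCore p G).subgroupOf (commutator G))).Coprime p := by
    have h1 : Nat.card ↥((Cfsg.pPrimeCore p G).subgroupOf (commutator G)) =
        Nat.card ↥(Cfsg.pPrimeCore p G ⊓ commutator G) := by
      rw [← Subgroup.inf_subgroupOf_right]
      exact Nat.card_congr (Subgroup.subgroupOfEquivOfLe inf_le_right).toEquiv
    rw [h1]
    exact Nat.Coprime.coprime_dvd_left (Subgroup.card_dvd_of_le inf_le_left)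
      (Cfsg.Agent.Lib.Helper76.PSolv.pPrimeCore_coprime p)
  refine ⟨?_, ?_, ?_, ?_, K1, K2⟩
  · intro q hq hqd
    rw [hidx] at hqd
    rcases (Nat.Prime.dvd_mul hq).mp hqd with h | h
    · have := (Nat.prime_dvd_prime_iff_eq hq hpp).mp (hq.dvd_of_dvd_pow h)
      exact le_of_eq this
    · exact (K3 q hq h).le
  · intro hcase
    have hT1 : (Cfsg.pPrimePCore p G).index = 1 := by
      by_contra hne
      obtain ⟨q, hq, hqd⟩ := Nat.exists_prime_and_dvd hne
      have hlt := K3 q hq hqd
      have hqG : q ∣ Nat.card G := dvd_trans hqd (Subgroup.index_dvd_card _)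
      have hq2 : q ≠ 2 := by
        intro h
        rw [h] at hqG
        exact (Nat.not_even_iff_odd.mpr hodd) (even_iff_two_dvd.mpr hqG)
      rcases hcase with h3 | hleast
      · have := hq.two_le
        omega
      · have := hleast q hq hqG
        omega
    rw [hT1, mul_one] at hidx
    exact Cfsg.Agent.Lib.Helper9.Rank2Solv.hasNormalPComplement_of p (Cfsg.pPrimeCore p G)
      (Cfsg.Agent.Lib.Helper76.PSolv.pPrimeCore_coprime p) k hidx
  · obtain ⟨j, hj⟩ := Cfsg.Agent.Lib.Helper9.Rank2Solv.relIndex_pPrimeCore (commutator G) K1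
    exact Cfsg.Agent.Lib.Helper9.Rank2Solv.hasNormalPComplement_of p
      ((Cfsg.pPrimeCore p G).subgroupOf (commutator G)) hc j hj
  · intro L hL x hx
    have hK : (Cfsg.pPrimeCore p G).subgroupOf (commutator G) ≤
        Cfsg.pPrimeCore p ↥(commutator G) :=
      Cfsg.Agent.Lib.Helper76.PSolv.le_pPrimeCore inferInstance hc
    apply hK
    rw [Subgroup.mem_subgroupOf]
    have hxT : (x : G) ∈ Cfsg.pPrimePCore p G := K1 x.2
    have h1 : (QuotientGroup.mk' (Cfsg.pPrimeCore p G) (x : G)) ∈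
        Cfsg.pCore p (G ⧸ Cfsg.pPrimeCore p G) := hxT
    obtain ⟨j, hj⟩ := Cfsg.Agent.Lib.Helper76.PSolv.pCore_isPGroup p
      (G := G ⧸ Cfsg.pPrimeCore p G) ⟨_, h1⟩
    have h2 : (QuotientGroup.mk' (Cfsg.pPrimeCore p G) (x : G)) ^ (p ^ j) = 1 := by
      have := congrArg Subtype.val hj
      rwa [Subgroup.coe_pow, Subgroup.coe_one] at this
    have h3 : orderOf (QuotientGroup.mk' (Cfsg.pPrimeCore p G) (x : G)) ∣ p ^ j :=
      orderOf_dvd_of_pow_eq_one h2
    have h4 : orderOf (QuotientGroup.mk' (Cfsg.pPrimeCore p G) (x : G)) ∣ Nat.card L := by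
      refine dvd_trans (orderOf_map_dvd _ _) ?_
      rw [Subgroup.orderOf_coe]
      have := orderOf_dvd_natCard (⟨x, hx⟩ : ↥L)
      rwa [Subgroup.orderOf_mk] at this
    have h5 : orderOf (QuotientGroup.mk' (Cfsg.pPrimeCore p G) (x : G)) ∣
        Nat.gcd (Nat.card L) (p ^ j) := Nat.dvd_gcd h4 h3
    rw [(Nat.Coprime.pow_right j hL).gcd_eq_one, Nat.dvd_one] at h5
    exact (QuotientGroup.eq_one_iff _).mp (orderOf_eq_one_iff.mp h5)

end Cfsg.Agent.S1450
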