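import Cfsg.Statements.S4209
import Mathlib

set_option autoImplicit false
open Cfsg
open scoped commutatorElement

namespace Cfsg.Agent.S4209

section poly

variable {K : Type*} [Group K]

theorem three_subgroups_le (N : Subgroup K) [N.Normal] (A B C : Subgroup K)
    (h1 : ⁅⁅B, C⁆, A⁆ ≤ N) (h2 : ⁅⁅C, A⁆, B⁆ ≤ N) : ⁅⁅A, B⁆, C⁆ ≤ N := by
  have key : ∀ X : Subgroup K, X ≤ N ↔ X.map (QuotientGroup.mk' N) = ⊥ := by
    intro X
    rw [Subgroup.map_eq_bot_iff, QuotientGroup.ker_mk']
  rw [key] at h1 h2 ⊢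
  rw [Subgroup.map_commutator, Subgroup.map_commutator] at h1 h2 ⊢
  exact Subgroup.commutator_commutator_eq_bot_of_rotate h1 h2

theorem lcs_comm_le (i j : ℕ) :
    ⁅(⊤ : Subgroup K).lowerCentralSeries i, (⊤ : Subgroup K).lowerCentralSeries j⁆ ≤
      (⊤ : Subgroup K).lowerCentralSeries (i + j + 1) := by
  induction j generalizing i with
  | zero => simp
  | succ j ih =>
    rw [Subgroup.lowerCentralSeries_succ, Subgroup.commutator_comm]
    apply three_subgroups_le
    · rw [Subgroup.commutator_comm ⊤ ((⊤ : Subgroup K).lowerCentralSeries i)]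
      have h := ih (i + 1)
      have e : i + 1 + j + 1 = i + (j + 1) + 1 := by omega
      rw [e] at h
      exact h
    · have e : i + (j + 1) + 1 = (i + j + 1) + 1 := by omega
      rw [e, Subgroup.lowerCentralSeries_succ]
      exact Subgroup.commutator_mono (ih i) le_rfl

/-- The lower central series indexed from `1`, with `Gam 0 = Gam 1 = ⊤`. -/
def Gam (K : Type*) [Group K] (d : ℕ) : Subgroup K := (⊤ : Subgroup K).lowerCentralSeries (d - 1)

theorem Gam_anti {d e : ℕ} (h : d ≤ e) : Gam K e ≤ Gam K d :=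
  Subgroup.lowerCentralSeries_antitone _ (by omega)

instance Gam_normal (d : ℕ) : (Gam K d).Normal := by
  unfold Gam
  infer_instance

theorem Gam_comm (d e : ℕ) : ⁅Gam K d, Gam K e⁆ ≤ Gam K (d + e) := by
  rcases Nat.eq_zero_or_pos d with rfl | hd
  · rw [zero_add]
    exact Subgroup.commutator_le_right _ _
  rcases Nat.eq_zero_or_pos e with rfl | he
  · rw [add_zero]
    exact Subgroup.commutator_le_left _ _
  unfold Gam
  have h := lcs_comm_le (K := K) (d - 1) (e - 1)
  have e1 : d - 1 + (e - 1) + 1 = d + e - 1 := by omega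
  rw [e1] at h
  exact h

/-- discrete derivative of a sequence -/
def D (g : ℕ → K) : ℕ → K := fun k => g (k + 1) * (g k)⁻¹

/-- filtered polynomial sequences -/
inductive W : ℕ → (ℕ → K) → Prop
  | binom (x : K) (i j : ℕ) (hx : x ∈ Gam K (i + j)) : W j (fun k => x ^ (k.choose i))
  | mul {d : ℕ} {g h : ℕ → K} : W d g → W d h → W d (fun k => g k * h k)
  | inv {d : ℕ} {g : ℕ → K} : W d g → W d (fun k => (g k)⁻¹)
  | comm {d e : ℕ} {g h : ℕ → K} : W d g → W e h → W (d + e) (fun k => ⁅g k, h k⁆)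
  | mono {d e : ℕ} {g : ℕ → K} : e ≤ d → W d g → W e g

theorem W_spec {d : ℕ} {g : ℕ → K} (h : W d g) : (∀ k, g k ∈ Gam K d) ∧ W (d + 1) (D g) := by
  induction h with
  | binom x i j hx =>
    refine ⟨fun k => Gam_anti (by omega : j ≤ i + j) (pow_mem hx _), ?_⟩
    cases i with
    | zero =>
      have h1 := W.binom (1 : K) 0 (j + 1) (one_mem _)
      have e : D (fun k : ℕ => x ^ (k.choose 0)) = fun k : ℕ => (1 : K) ^ (k.choose 0) := by
        funext k
        simp [D]
      rw [e]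
      exact h1
    | succ i =>
      have h1 := W.binom x i (j + 1) (by
        have e : i + (j + 1) = i + 1 + j := by omega
        rw [e]; exact hx)
      have e : D (fun k : ℕ => x ^ (k.choose (i + 1))) = fun k : ℕ => x ^ (k.choose i) := by
        funext k
        simp only [D]
        rw [Nat.choose_succ_succ, pow_add, mul_inv_cancel_right]
      rw [e]
      exact h1
  | @mul d g h hg hh ihg ihh =>
    refine ⟨fun k => mul_mem (ihg.1 k) (ihh.1 k), ?_⟩
    have h1 : W (d + 1) (fun k => D g k * ⁅g k, D h k⁆ * D h k) :=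
      W.mul (W.mul ihg.2 (W.mono (by omega) (W.comm hg ihh.2))) ihh.2
    have e : D (fun k => g k * h k) = fun k => D g k * ⁅g k, D h k⁆ * D h k := by
      funext k
      simp only [D, commutatorElement_def]
      group
    rw [e]
    exact h1
  | @inv d g hg ih =>
    refine ⟨fun k => inv_mem (ih.1 k), ?_⟩
    have h1 : W (d + 1) (fun k => ⁅(g k)⁻¹, (D g k)⁻¹⁆ * (D g k)⁻¹) :=
      W.mul (W.mono (by omega) (W.comm (W.inv hg) (W.inv ih.2))) (W.inv ih.2)
    have e : D (fun k => (g k)⁻¹) = fun k => ⁅(g k)⁻¹, (D g k)⁻¹⁆ * (D g k)⁻¹ := by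
      funext k
      simp only [D, commutatorElement_def]
      group
    rw [e]
    exact h1
  | @comm d e g h hg hh ihg ihh =>
    refine ⟨fun k => Gam_comm d e (Subgroup.commutator_mem_commutator (ihg.1 k) (ihh.1 k)), ?_⟩
    have hT : W e (fun k => D h k * h k) := W.mul (W.mono (by omega) ihh.2) hh
    have t1 : W (d + e + 1) (fun k => ⁅D g k, ⁅g k, D h k * h k⁆⁆) :=
      W.mono (by omega) (W.comm ihg.2 (W.comm hg hT))
    have t2 : W (d + e + 1) (fun k => ⁅g k, D h k⁆) :=
      W.mono (by omega) (W.comm hg ihh.2)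
    have t3 : W (d + e + 1) (fun k => ⁅D h k, ⁅g k, h k⁆⁆) :=
      W.mono (by omega) (W.comm ihh.2 (W.comm hg hh))
    have t5 : W (d + e + 1) (fun k => ⁅D g k, D h k * h k⁆) :=
      W.mono (by omega) (W.comm ihg.2 hT)
    have t4 : W (d + e + 1) (fun k => ⁅⁅g k, h k⁆, ⁅D g k, D h k * h k⁆⁆) :=
      W.mono (by omega) (W.comm (W.comm hg hh) (W.comm ihg.2 hT))
    have h1 := W.mul (W.mul (W.mul (W.mul t1 t2) t3) t4) t5
    have e : D (fun k => ⁅g k, h k⁆) = fun k => ⁅D g k, ⁅g k, D h k * h k⁆⁆ * ⁅g k, D h k⁆ *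
        ⁅D h k, ⁅g k, h k⁆⁆ * ⁅⁅g k, h k⁆, ⁅D g k, D h k * h k⁆⁆ * ⁅D g k, D h k * h k⁆ := by
      funext k
      simp only [D, commutatorElement_def]
      group
    rw [e]
    exact h1
  | @mono d e g hle hg ih =>
    exact ⟨fun k => Gam_anti hle (ih.1 k), W.mono (by omega) ih.2⟩

theorem W_vanish (i : ℕ) : ∀ {d : ℕ} {g : ℕ → K}, W d g → (∀ j < i, g j = 1) →
    g i ∈ Gam K (d + i) := by
  induction i with
  | zero => intro d g h _; exact (W_spec h).1 0
  | succ i ih =>
    intro d g h hv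
    have h1 := ih (W_spec h).2 (fun j hj => by
      simp [D, hv j (by omega), hv (j + 1) (by omega)])
    have e : D g i = g (i + 1) := by simp [D, hv i (by omega)]
    have e2 : d + 1 + i = d + (i + 1) := by omega
    rw [e, e2] at h1
    exact h1

theorem W_eq_one (c : ℕ) (hc : Gam K (c + 1) = ⊥) {g : ℕ → K} (h : W 0 g)
    (hv : ∀ j ≤ c, g j = 1) : ∀ k, g k = 1 := by
  intro k
  induction k using Nat.strong_induction_on with
  | _ k ih =>
    by_cases hk : k ≤ c
    · exact hv k hk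
    · have h1 := W_vanish k h (fun j hj => ih j hj)
      have h2 : g k ∈ Gam K (c + 1) := Gam_anti (by omega) h1
      rw [hc] at h2
      exact (Subgroup.mem_bot).1 h2

theorem W_eval (c m : ℕ) (hc : Gam K (c + 1) = ⊥) (hexp : ∀ x ∈ Gam K 2, x ^ m = 1)
    (hdiv : ∀ i, 2 ≤ i → i ≤ c → m ∣ m.choose i) :
    ∀ (r i : ℕ), 2 ≤ i → c + 1 ≤ i + r → ∀ g : ℕ → K, W 0 g → (∀ j < i, g j = 1) → g m = 1 := by
  intro r
  induction r with
  | zero =>
    intro i _ hi g hg hv
    exact W_eq_one c hc hg (fun j hj => hv j (by omega)) m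
  | succ r ih =>
    intro i hi2 hi g hg hv
    by_cases hic : c + 1 ≤ i
    · exact W_eq_one c hc hg (fun j hj => hv j (by omega)) m
    · have hx : g i ∈ Gam K i := by
        have := W_vanish i hg hv
        rwa [zero_add] at this
      have hg' : W 0 (fun k => ((g i)⁻¹) ^ (k.choose i) * g k) :=
        W.mul (W.binom (g i)⁻¹ i 0 (by rw [add_zero]; exact inv_mem hx)) hg
      have h1 := ih (i + 1) (by omega) (by omega) _ hg' (fun j hj => by
        rcases Nat.lt_succ_iff_lt_or_eq.1 hj with hj | rfl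
        · simp [Nat.choose_eq_zero_of_lt hj, hv j hj]
        · simp)
      obtain ⟨q, hq⟩ := hdiv i hi2 (by omega)
      have h2 : (g i) ^ m = 1 := hexp _ (Gam_anti hi2 hx)
      have h3 : ((g i)⁻¹) ^ (m.choose i) = 1 := by
        rw [hq, pow_mul, inv_pow, h2, inv_one, one_pow]
      simpa [h3] using h1

theorem dvd_choose_pow_of_lt (p n i : ℕ) (hp : p.Prime) (hi0 : 0 < i) (hip : i < p) :
    p ^ n ∣ (p ^ n).choose i := by
  have hpos : 0 < p ^ n := pow_pos hp.pos n
  have h1 := Nat.add_one_mul_choose_eq (p ^ n - 1) (i - 1)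
  have e1 : p ^ n - 1 + 1 = p ^ n := by omega
  have e2 : i - 1 + 1 = i := by omega
  rw [e1, e2] at h1
  have h2 : p ^ n ∣ (p ^ n).choose i * i := ⟨_, h1.symm⟩
  have hcop : Nat.Coprime (p ^ n) i := by
    apply Nat.Coprime.pow_left
    rw [Nat.Prime.coprime_iff_not_dvd hp]
    intro hd
    exact absurd (Nat.le_of_dvd hi0 hd) (by omega)
  exact hcop.dvd_of_dvd_mul_right h2

theorem mul_pow_of_class (p n : ℕ) [hp : Fact p.Prime]
    (hcl : (⊤ : Subgroup K).lowerCentralSeries (p - 1) = ⊥)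
    (hexp : ∀ d ∈ commutator K, d ^ (p ^ n) = 1) (x y : K) :
    (x * y) ^ (p ^ n) = x ^ (p ^ n) * y ^ (p ^ n) := by
  have hpw : ∀ z : K, W 0 (fun k => z ^ k) := by
    intro z
    have := W.binom z 1 0 (by unfold Gam; simp)
    simpa [Nat.choose_one_right] using this
  have hf : W 0 (fun k => ((x * y) ^ k)⁻¹ * (x ^ k * y ^ k)) :=
    W.mul (W.inv (hpw (x * y))) (W.mul (hpw x) (hpw y))
  have hc : Gam K (p - 1 + 1) = ⊥ := by
    unfold Gam
    rw [Nat.add_sub_cancel]
    exact hcl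
  have h2 : ∀ d ∈ Gam K 2, d ^ (p ^ n) = 1 := by
    intro d hd
    exact hexp d hd
  have key := W_eval (p - 1) (p ^ n) hc h2
    (fun i hi2 hic => dvd_choose_pow_of_lt p n i hp.out (by omega) (by
      have := hp.out.two_le
      omega))
    (p - 1 + 1) 2 le_rfl (by omega) _ hf (fun j hj => by
      interval_cases j <;> simp)
  have key' : ((x * y) ^ (p ^ n))⁻¹ * (x ^ (p ^ n) * y ^ (p ^ n)) = 1 := key
  rw [inv_mul_eq_one] at key'
  exact key'

end poly

theorem lcs_mono {G : Type*} [Group G] {S T : Subgroup G} (h : S ≤ T) (n : ℕ) :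
    S.lowerCentralSeries n ≤ T.lowerCentralSeries n := by
  induction n with
  | zero => simpa using h
  | succ n ih =>
    rw [Subgroup.lowerCentralSeries_succ, Subgroup.lowerCentralSeries_succ]
    exact Subgroup.commutator_mono ih h

/-- A finite `p`-group of nilpotency class less than `p` (the term of index `p - 1` of the lower central series of the whole group, indexed from `0`, is trivial) is a regular `p`-group. -/
theorem result {G : Type*} [Group G] [Finite G] {p : ℕ} [Fact p.Prime] (hG : IsPGroup p G) (hcl : (⊤ : Subgroup G).lowerCentralSeries (p - 1) = ⊥) : Cfsg.IsRegularPGroup p G := by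
  refine ⟨hG, fun a b n => ?_⟩
  set H : Subgroup G := Subgroup.closure ({a, b} : Set G) with hH
  set m := p ^ n with hm
  -- the subgroup of `H` generated by `m`-th powers of commutators
  let N₀ : Subgroup H := Subgroup.closure {y : H | ∃ x ∈ commutator H, y = x ^ m}
  have hN₀ : N₀.Normal := by
    refine ⟨fun u hu h => ?_⟩
    induction hu using Subgroup.closure_induction with
    | mem z hz =>
      obtain ⟨x, hx, rfl⟩ := hz
      apply Subgroup.subset_closure
      refine ⟨h * x * h⁻¹, ?_, ?_⟩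
      · exact (inferInstance : (commutator H).Normal).conj_mem x hx h
      · rw [conj_pow]
    | one => simp
    | mul z w _ _ hz hw =>
      have e : h * (z * w) * h⁻¹ = (h * z * h⁻¹) * (h * w * h⁻¹) := by group
      rw [e]
      exact mul_mem hz hw
    | inv z _ hz =>
      have e : h * z⁻¹ * h⁻¹ = (h * z * h⁻¹)⁻¹ := by group
      rw [e]
      exact inv_mem hz
  let π : H →* H ⧸ N₀ := QuotientGroup.mk' N₀
  have hπ : Function.Surjective π := QuotientGroup.mk'_surjective N₀
  -- class of the quotient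
  have hclH : (⊤ : Subgroup H).lowerCentralSeries (p - 1) = ⊥ := by
    have h1 := Subgroup.top_subtype_lowerCentralSeries H (p - 1)
    have h2 : H.lowerCentralSeries (p - 1) = ⊥ := by
      have := lcs_mono (le_top : H ≤ ⊤) (p - 1)
      rw [hcl] at this
      exact le_bot_iff.1 this
    rw [h2] at h1
    exact (Subgroup.map_eq_bot_iff_of_injective _ H.subtype_injective).1 h1
  have hclK : (⊤ : Subgroup (H ⧸ N₀)).lowerCentralSeries (p - 1) = ⊥ := by
    have h1 := Subgroup.map_lowerCentralSeries (⊤ : Subgroup H) π (p - 1)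
    rw [hclH, Subgroup.map_bot, Subgroup.map_top_of_surjective π hπ] at h1
    exact h1.symm
  have hexpK : ∀ d ∈ commutator (H ⧸ N₀), d ^ m = 1 := by
    intro d hd
    have h1 := Subgroup.map_lowerCentralSeries (⊤ : Subgroup H) π 1
    rw [Subgroup.map_top_of_surjective π hπ] at h1
    have hd' : d ∈ ((⊤ : Subgroup H).lowerCentralSeries 1).map π := by
      rw [h1]; exact hd
    obtain ⟨d₀, hd₀, rfl⟩ := hd'
    rw [← map_pow]
    apply (QuotientGroup.eq_one_iff _).2
    exact Subgroup.subset_closure ⟨d₀, hd₀, rfl⟩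
  have ha : a ∈ H := Subgroup.subset_closure (by simp)
  have hb : b ∈ H := Subgroup.subset_closure (by simp)
  have key : (π ⟨a, ha⟩ * π ⟨b, hb⟩) ^ m = (π ⟨a, ha⟩) ^ m * (π ⟨b, hb⟩) ^ m :=
    mul_pow_of_class p n hclK hexpK (π ⟨a, ha⟩) (π ⟨b, hb⟩)
  have key2 : ((⟨a, ha⟩ : H) ^ m * (⟨b, hb⟩ : H) ^ m)⁻¹ * ((⟨a, ha⟩ : H) * ⟨b, hb⟩) ^ m ∈ N₀ := by
    apply (QuotientGroup.eq_one_iff _).1
    show π (((⟨a, ha⟩ : H) ^ m * (⟨b, hb⟩ : H) ^ m)⁻¹ * ((⟨a, ha⟩ : H) * ⟨b, hb⟩) ^ m) = 1
    have e : π (((⟨a, ha⟩ : H) ^ m * (⟨b, hb⟩ : H) ^ m)⁻¹ * ((⟨a, ha⟩ : H) * ⟨b, hb⟩) ^ m)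
        = ((π ⟨a, ha⟩) ^ m * (π ⟨b, hb⟩) ^ m)⁻¹ * ((π ⟨a, ha⟩) * (π ⟨b, hb⟩)) ^ m := by
      simp only [map_mul, map_inv, map_pow]
    rw [e, key]
    simp
  -- transport to `G`
  have hle : N₀.map H.subtype ≤ powerClosure p n ⁅H, H⁆ := by
    rw [MonoidHom.map_closure]
    unfold powerClosure
    apply Subgroup.closure_mono
    rintro _ ⟨y, ⟨x, hx, rfl⟩, rfl⟩
    refine ⟨(x : G), ?_, by simp [hm]⟩
    have h1 := Subgroup.top_subtype_lowerCentralSeries H 1
    have h2 : (x : G) ∈ ((⊤ : Subgroup H).lowerCentralSeries 1).map H.subtype :=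
      ⟨x, hx, rfl⟩
    rw [h1] at h2
    exact h2
  refine ⟨(a ^ m * b ^ m)⁻¹ * (a * b) ^ m, hle ⟨_, key2, by simp⟩, by group⟩

end Cfsg.Agent.S4209
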