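-- Statement S0126.
import Cfsg.Statements.S0126
import Cfsg.Agent.Lib.Helper24.PGroupBasic
import Cfsg.Agent.Lib.Helper49.RankOne

set_option autoImplicit false
open Cfsg

namespace Cfsg.Agent.S0126

open Cfsg.Agent.Lib.Helper24.Alperin Cfsg.Agent.Lib.Helper24.PGroupBasic
  Cfsg.Agent.Lib.Helper24.Coprime in
/-- For odd p, every non-cyclic p-group contains a normal elementary abelian subgroup of order p^2. -/
theorem result {R : Type*} [Group R] [Finite R] {p : ℕ} [Fact p.Prime] (hp : p ≠ 2) (hR : IsPGroup p R) (hnc : ¬ IsCyclic R) : ∃ A : Subgroup R, A.Normal ∧ Cfsg.IsElementaryAbelian p A ∧ Nat.card A = p ^ 2 := by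
  have hpr : p.Prime := Fact.out
  have hRnil : Group.IsNilpotent R := hR.isNilpotent
  obtain ⟨A, ⟨hAn, hAc, hAe⟩, -, hmax⟩ := exists_maximal_subgroup
    (fun A : Subgroup R => A.Normal ∧ (∀ a ∈ A, ∀ b ∈ A, a * b = b * a) ∧ ∀ a ∈ A, a ^ p = 1) ⊥
    ⟨inferInstance, by
      intro a ha b hb
      rw [Subgroup.mem_bot] at ha hb
      rw [ha, hb], by
      intro a ha
      rw [Subgroup.mem_bot] at ha
      rw [ha, one_pow]⟩
  by_cases hcard : p ^ 2 ≤ Nat.card A
  · obtain ⟨B, hBn, hBA, hBc⟩ := exists_normal_le_card hR A hAe 2 hcard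
    refine ⟨B, hBn, ⟨?_, fun b hb => hAe b (hBA hb)⟩, hBc⟩
    exact isMulCommutative_iff.mpr (fun a b => Subtype.ext (hAc a (hBA a.2) b (hBA b.2)))
  · exfalso
    apply hnc
    obtain ⟨k, hk⟩ := (hR.to_subgroup A).exists_card_eq
    have hk1 : k ≤ 1 := by
      by_contra hk2
      apply hcard
      rw [hk]
      exact Nat.pow_le_pow_right hpr.pos (by omega)
    have hcardA : Nat.card A ≤ p := by
      rw [hk]
      calc p ^ k ≤ p ^ 1 := Nat.pow_le_pow_right hpr.pos hk1
        _ = p := pow_one p
    -- `A` is central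
    have hAZ : ∀ a ∈ A, ∀ t : R, a * t = t * a := by
      by_cases hAbot : A ≤ ⊥
      · intro a ha t
        have := hAbot ha
        rw [Subgroup.mem_bot] at this
        rw [this, one_mul, mul_one]
      have hnil : Group.IsNilpotent (⊤ : Subgroup R) := inferInstance
      obtain ⟨z, hzA, hz1, hzt⟩ := exists_commutator_mem hnil (le_top : A ≤ ⊤)
        (by rw [Subgroup.normalizer_eq_top]) hAbot
      have hz1' : z ≠ 1 := fun h => hz1 (by rw [h]; exact Subgroup.one_mem _)
      have hzc : ∀ t, z * t = t * z := by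
        intro t
        have := hzt t (Subgroup.mem_top t)
        rw [Subgroup.mem_bot, commutatorElement_eq_one_iff_mul_comm] at this
        exact this
      have hzA' : Subgroup.zpowers z ≤ A := Subgroup.zpowers_le.mpr hzA
      have hzp : orderOf z = p := by
        have h1 : orderOf z ∣ p := orderOf_dvd_of_pow_eq_one (hAe z hzA)
        rcases (Nat.dvd_prime hpr).mp h1 with h | h
        · exact absurd (orderOf_eq_one_iff.mp h) hz1'
        · exact h
      have hAz : A = Subgroup.zpowers z := by
        symm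
        apply Subgroup.eq_of_le_of_card_ge hzA'
        rw [Nat.card_zpowers, hzp]
        exact hcardA
      intro a ha t
      rw [hAz] at ha
      exact (commute_zpowers (x := t) (hzc t).symm ha).symm
    have halp : ∀ x : R, x ^ p = 1 → x ∈ A := by
      intro x hxp
      have hxC : x ∈ Subgroup.centralizer (A : Set R) :=
        Subgroup.mem_centralizer_iff.mpr (fun a ha => hAZ a ha x)
      refine alperin hR 1 (by rwa [pow_one]) A hAc (by simpa using hAe) ?_ x hxC (by simpa using hxp)
      intro B hBn hBc hBe hAB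
      exact hmax B ⟨hBn, hBc, by simpa using hBe⟩ hAB
    obtain ⟨n, hn⟩ := hR.exists_card_eq
    refine Cfsg.Agent.Lib.Helper49.RankOne.isCyclic_of_card_pow_eq_one_le hp n R hn ?_
    refine le_trans ?_ hcardA
    exact Nat.card_le_card_of_injective (fun g : {g : R // g ^ p = 1} => (⟨g.1, halp g.1 g.2⟩ : A))
      (fun a b h => Subtype.ext (congrArg (fun y : A => (y : R)) h))

end Cfsg.Agent.S0126
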