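import Cfsg.Statements.S0128
import Cfsg.Agent.Lib.Helper70.OmegaClass
import Cfsg.Agent.Lib.Helper54.MaxClass
import Cfsg.Agent.Lib.Helper51.CardSup

set_option autoImplicit false
open Cfsg

namespace Cfsg.Agent.S0128

open Subgroup

universe u

/-- In a `p`-group a proper inclusion of subgroups multiplies the order by at least `p`. -/
theorem mul_card_le_of_lt {p : ℕ} [hp : Fact p.Prime] {N : Type u} [Group N] [Finite N]
    (hN : IsPGroup p N) {H K : Subgroup N} (h : H < K) : p * Nat.card H ≤ Nat.card K := by
  obtain ⟨k, hk⟩ := (IsPGroup.iff_card).mp (hN.to_subgroup K)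
  have hdvd : Nat.card H ∣ Nat.card K := Subgroup.card_dvd_of_le h.le
  rw [hk] at hdvd
  obtain ⟨j, hj, hHj⟩ := (Nat.dvd_prime_pow hp.out).mp hdvd
  have hjk : j ≠ k := by
    intro hjk
    have : H = K := Subgroup.eq_of_le_of_card_ge h.le (by rw [hk, hHj, hjk])
    exact h.ne this
  have hlt : j < k := lt_of_le_of_ne hj hjk
  rw [hk, hHj, ← pow_succ']
  exact Nat.pow_le_pow_right hp.out.pos hlt

/-- The closure of a set of pairwise commuting elements is commutative. -/
theorem closure_comm {N : Type u} [Group N] (S : Set N)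
    (hS : ∀ a ∈ S, ∀ b ∈ S, a * b = b * a) :
    ∀ a ∈ closure S, ∀ b ∈ closure S, a * b = b * a := by
  have h1 : closure S ≤ centralizer S := by
    rw [closure_le]
    intro a ha
    rw [SetLike.mem_coe, mem_centralizer_iff]
    intro b hb
    exact hS b hb a ha
  have h2 : closure S ≤ centralizer (closure S : Set N) := by
    rw [closure_le]
    intro a ha
    rw [SetLike.mem_coe, mem_centralizer_iff]
    intro b hb
    have := h1 hb
    rw [mem_centralizer_iff] at this
    exact (this a ha).symm
  intro a ha b hb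
  have := h2 ha
  rw [mem_centralizer_iff] at this
  exact (this b hb).symm

/-- A group of exponent `p` and order at least `p ^ 4` has an abelian subgroup of order
greater than `p ^ 2`. -/
theorem exists_abelian_of_exp {p : ℕ} [hp : Fact p.Prime] {N : Type u} [Group N] [Finite N]
    (hexp : ∀ g : N, g ^ p = 1) (hcard : p ^ 4 ≤ Nat.card N) :
    ∃ F : Subgroup N, (∀ a ∈ F, ∀ b ∈ F, a * b = b * a) ∧ p ^ 2 < Nat.card F := by
  have hp2 : 2 ≤ p := hp.out.two_le
  have hN : IsPGroup p N := fun g => ⟨1, by rw [pow_one]; exact hexp g⟩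
  have hnt : Nontrivial N := by
    rw [← Finite.one_lt_card_iff_nontrivial]
    calc 1 < p ^ 4 := Nat.one_lt_pow (by norm_num) hp2
      _ ≤ Nat.card N := hcard
  -- a central element of order p
  have hcn := hN.center_nontrivial
  obtain ⟨⟨z, hzc⟩, hz1⟩ := exists_ne (1 : center N)
  have hz1' : z ≠ 1 := fun h => hz1 (Subtype.ext h)
  have hzc' : ∀ g : N, g * z = z * g := fun g => (mem_center_iff.mp hzc g)
  have hzord : orderOf z = p := orderOf_eq_prime (hexp z) hz1'
  let Z1 : Subgroup N := zpowers z
  have hZ1c : Z1 ≤ center N := by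
    rw [zpowers_le]; exact hzc
  have hZ1n : Z1.Normal := by
    constructor
    intro a ha g
    have := mem_center_iff.mp (hZ1c ha) g
    rw [this, mul_inv_cancel_right]
    exact ha
  have hZ1card : Nat.card Z1 = p := by
    rw [Nat.card_zpowers, hzord]
  -- the quotient has nontrivial centre
  have hQ : IsPGroup p (N ⧸ Z1) := hN.to_quotient Z1
  have hQcard : Nat.card (N ⧸ Z1) * p = Nat.card N := by
    have := Subgroup.card_eq_card_quotient_mul_card_subgroup Z1
    rw [hZ1card] at this
    exact this.symm
  have hQnt : Nontrivial (N ⧸ Z1) := by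
    rw [← Finite.one_lt_card_iff_nontrivial]
    by_contra hcon
    have h1 : Nat.card (N ⧸ Z1) ≤ 1 := by omega
    have : Nat.card N ≤ p := by
      rw [← hQcard]
      calc Nat.card (N ⧸ Z1) * p ≤ 1 * p := Nat.mul_le_mul_right p h1
        _ = p := one_mul p
    have h4 : p ^ 4 ≤ p := le_trans hcard this
    have : p ^ 1 < p ^ 4 := Nat.pow_lt_pow_right (by omega) (by norm_num)
    rw [pow_one] at this
    omega
  have hcn2 := hQ.center_nontrivial
  obtain ⟨⟨ebar, hebc⟩, heb1⟩ := exists_ne (1 : center (N ⧸ Z1))
  have heb1' : ebar ≠ 1 := fun h => heb1 (Subtype.ext h)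
  obtain ⟨e, rfl⟩ := QuotientGroup.mk_surjective ebar
  have heZ : e ∉ Z1 := by
    intro h
    exact heb1' ((QuotientGroup.eq_one_iff e).mpr h)
  have hecomm : ∀ n : N, e⁻¹ * n⁻¹ * e * n ∈ Z1 := by
    intro n
    have h1 := mem_center_iff.mp hebc (n : N ⧸ Z1)
    rw [← QuotientGroup.eq_one_iff]
    have h2 : ((e⁻¹ * n⁻¹ * e * n : N) : N ⧸ Z1)
        = (e : N ⧸ Z1)⁻¹ * (n : N ⧸ Z1)⁻¹ * ((e : N ⧸ Z1) * (n : N ⧸ Z1)) := by
      rw [← mul_assoc]; rfl
    rw [h2, ← h1]
    group
  -- the commutator homomorphism
  let φ : N →* Z1 := MonoidHom.mk' (fun n => ⟨e⁻¹ * n⁻¹ * e * n, hecomm n⟩) (by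
    intro a b
    apply Subtype.ext
    show e⁻¹ * (a * b)⁻¹ * e * (a * b) = (e⁻¹ * a⁻¹ * e * a) * (e⁻¹ * b⁻¹ * e * b)
    have hc := mem_center_iff.mp (hZ1c (hecomm a)) (e⁻¹ * b⁻¹ * e)
    calc e⁻¹ * (a * b)⁻¹ * e * (a * b)
        = (e⁻¹ * b⁻¹ * e) * (e⁻¹ * a⁻¹ * e * a) * b := by group
      _ = (e⁻¹ * a⁻¹ * e * a) * (e⁻¹ * b⁻¹ * e) * b := by rw [hc]
      _ = _ := by group)
  have hker : ∀ n : N, n ∈ φ.ker ↔ e * n = n * e := by
    intro n
    rw [MonoidHom.mem_ker]
    constructor
    · intro h
      have h' : e⁻¹ * n⁻¹ * e * n = 1 := congrArg Subtype.val h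
      calc e * n = n * e * (e⁻¹ * n⁻¹ * e * n) := by group
        _ = n * e := by rw [h', mul_one]
    · intro h
      apply Subtype.ext
      show e⁻¹ * n⁻¹ * e * n = 1
      rw [mul_assoc, h]
      group
  have hkercard : p ^ 3 ≤ Nat.card φ.ker := by
    have h1 : φ.ker.index = Nat.card φ.range := Subgroup.index_ker φ
    have h2 : Nat.card φ.range ≤ p := by
      rw [← hZ1card]
      exact Subgroup.card_le_card_group _
    have h3 : Nat.card φ.ker * φ.ker.index = Nat.card N := Subgroup.card_mul_index _
    have h4 : p ^ 4 ≤ Nat.card φ.ker * p := by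
      calc p ^ 4 ≤ Nat.card N := hcard
        _ = Nat.card φ.ker * φ.ker.index := h3.symm
        _ ≤ Nat.card φ.ker * p := Nat.mul_le_mul_left _ (h1 ▸ h2)
    have h5 : p ^ 4 = p ^ 3 * p := by ring
    rw [h5] at h4
    exact Nat.le_of_mul_le_mul_right h4 hp.out.pos
  have hp23 : p ^ 2 < p ^ 3 := Nat.pow_lt_pow_right (by omega) (by norm_num)
  -- the abelian subgroup E = ⟨z, e⟩
  let E : Subgroup N := closure {z, e}
  have hEcomm : ∀ a ∈ E, ∀ b ∈ E, a * b = b * a := by
    apply closure_comm
    intro a ha b hb
    rcases ha with rfl | rfl <;> rcases hb with rfl | rfl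
    · rfl
    · exact (hzc' b).symm
    · exact hzc' a
    · rfl
  have hZ1E : Z1 < E := by
    refine lt_of_le_of_ne ?_ ?_
    · rw [zpowers_le]
      exact subset_closure (by simp)
    · intro h
      apply heZ
      rw [h]
      exact subset_closure (by simp)
  have hEcard : p ^ 2 ≤ Nat.card E := by
    have := mul_card_le_of_lt hN hZ1E
    rw [hZ1card] at this
    rw [pow_two]
    exact this
  by_cases hcase : φ.ker ≤ E
  · refine ⟨φ.ker, ?_, lt_of_lt_of_le hp23 hkercard⟩
    intro a ha b hb
    exact hEcomm a (hcase ha) b (hcase hb)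
  · obtain ⟨w, hwk, hwE⟩ := SetLike.not_le_iff_exists.mp hcase
    have hwe : e * w = w * e := (hker w).mp hwk
    let F : Subgroup N := closure {z, e, w}
    have hFcomm : ∀ a ∈ F, ∀ b ∈ F, a * b = b * a := by
      apply closure_comm
      intro a ha b hb
      rcases ha with rfl | rfl | rfl <;> rcases hb with rfl | rfl | rfl
      · rfl
      · exact (hzc' b).symm
      · exact (hzc' b).symm
      · exact hzc' a
      · rfl
      · exact hwe
      · exact hzc' a
      · exact hwe.symm
      · rfl
    have hEF : E < F := by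
      refine lt_of_le_of_ne ?_ ?_
      · apply Subgroup.closure_mono
        intro a ha
        rcases ha with rfl | rfl
        · simp
        · simp
      · intro h
        apply hwE
        rw [h]
        exact subset_closure (by simp)
    refine ⟨F, hFcomm, ?_⟩
    have := mul_card_le_of_lt hN hEF
    have h2 : p * p ^ 2 ≤ Nat.card F := le_trans (Nat.mul_le_mul_left p hEcard) this
    have h3 : p * p ^ 2 = p ^ 3 := by ring
    rw [h3] at h2
    exact lt_of_lt_of_le hp23 h2

/-- Transfer of the rank hypothesis to a subgroup. -/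
theorem rank_subgroup {p : ℕ} {R : Type u} [Group R] [Finite R]
    (hrk : ∀ E : Subgroup R, Cfsg.IsElementaryAbelian p E → Nat.card E ≤ p ^ 2) (M : Subgroup R) :
    ∀ E : Subgroup M, Cfsg.IsElementaryAbelian p E → Nat.card E ≤ p ^ 2 := by
  intro E hE
  have hmap : Cfsg.IsElementaryAbelian p (E.map M.subtype) := by
    refine ⟨⟨⟨?_⟩⟩, ?_⟩
    · rintro ⟨a, ha⟩ ⟨b, hb⟩
      obtain ⟨a', ha', rfl⟩ := Subgroup.mem_map.mp ha
      obtain ⟨b', hb', rfl⟩ := Subgroup.mem_map.mp hb
      apply Subtype.ext
      show M.subtype a' * M.subtype b' = M.subtype b' * M.subtype a'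
      rw [← map_mul, ← map_mul]
      have := hE.1.is_comm.comm ⟨a', ha'⟩ ⟨b', hb'⟩
      exact congrArg M.subtype (congrArg Subtype.val this)
    · intro a ha
      obtain ⟨a', ha', rfl⟩ := Subgroup.mem_map.mp ha
      rw [← map_pow, hE.2 a' ha', map_one]
  have hc : Nat.card (E.map M.subtype) = Nat.card E :=
    Subgroup.card_map_of_injective M.subtype_injective
  rw [← hc]
  exact hrk _ hmap

theorem main {p : ℕ} [hp : Fact p.Prime] (hp3 : 3 < p) :
    ∀ (n : ℕ) (R : Type u) [Group R] [Finite R], Nat.card R ≤ n → IsPGroup p R →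
      (∀ E : Subgroup R, Cfsg.IsElementaryAbelian p E → Nat.card E ≤ p ^ 2) →
      ∀ x y : R, x ^ p = 1 → y ^ p = 1 → (x * y) ^ p = 1 := by
  intro n
  induction n with
  | zero =>
    intro R _ _ hn
    have := Nat.card_pos (α := R)
    omega
  | succ n ih =>
    intro R _ _ hn hR hrk x y hx hy
    by_cases hD : closure ({x, y} : Set R) = ⊤
    · by_cases hc : Commute x y
      · rw [hc.mul_pow, hx, hy, one_mul]
      -- x does not generate
      have hxne : closure ({x} : Set R) ≠ ⊤ := by
        intro h
        apply hc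
        have hy' : y ∈ closure ({x} : Set R) := by rw [h]; trivial
        rw [← zpowers_eq_closure] at hy'
        obtain ⟨k, rfl⟩ := mem_zpowers_iff.mp hy'
        exact (Commute.refl x).zpow_right k
      obtain ⟨M, hM, hxM⟩ := (eq_top_or_exists_le_coatom (closure ({x} : Set R))).resolve_left hxne
      have hnil : Group.IsNilpotent R := hR.isNilpotent
      have hMn : M.Normal :=
        Subgroup.NormalizerCondition.normal_of_coatom M Group.normalizerCondition_of_isNilpotent hM
      have hxM' : x ∈ M := hxM (subset_closure (by simp))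
      have hMcard : Nat.card M ≤ n := by
        have h1 : Nat.card M * M.index = Nat.card R := Subgroup.card_mul_index M
        have h2 : M.index ≠ 1 := fun h => hM.1 (Subgroup.index_eq_one.mp h)
        have h3 : M.index ≠ 0 := Subgroup.index_ne_zero_of_finite
        have h4 : 2 ≤ M.index := by omega
        have h5 : Nat.card M * 2 ≤ Nat.card R := by
          rw [← h1]; exact Nat.mul_le_mul_left _ h4
        have := Nat.card_pos (α := M)
        omega
      have ihM := ih M hMcard (hR.to_subgroup M) (rank_subgroup hrk M)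
      -- Ω = elements of M of order dividing p
      let Om : Subgroup R :=
        { carrier := {g | g ∈ M ∧ g ^ p = 1}
          mul_mem' := by
            rintro a b ⟨haM, ha⟩ ⟨hbM, hb⟩
            refine ⟨M.mul_mem haM hbM, ?_⟩
            have := ihM ⟨a, haM⟩ ⟨b, hbM⟩ (Subtype.ext ha) (Subtype.ext hb)
            exact congrArg Subtype.val this
          one_mem' := ⟨M.one_mem, one_pow p⟩
          inv_mem' := by
            rintro a ⟨haM, ha⟩
            exact ⟨M.inv_mem haM, by rw [inv_pow, ha, inv_one]⟩ }
      have hOmn : Om.Normal := by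
        constructor
        rintro a ⟨haM, ha⟩ g
        refine ⟨hMn.conj_mem a haM g, ?_⟩
        rw [conj_pow, ha, mul_one, mul_inv_cancel]
      let N : Subgroup R := normalClosure ({x} : Set R)
      have hNOm : N ≤ Om := by
        apply normalClosure_le_normal
        intro a ha
        rw [Set.mem_singleton_iff] at ha
        subst ha
        exact ⟨hxM', hx⟩
      have hNexp : ∀ g : N, g ^ p = 1 := by
        rintro ⟨g, hg⟩
        apply Subtype.ext
        exact (hNOm hg).2
      have hNp : IsPGroup p N := hR.to_subgroup N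
      have hNcard : Nat.card N ≤ p ^ 3 := by
        by_contra hcon
        push Not at hcon
        obtain ⟨k, hk⟩ := (IsPGroup.iff_card).mp hNp
        have hk4 : 4 ≤ k := by
          by_contra hk4
          have : k ≤ 3 := by omega
          have : p ^ k ≤ p ^ 3 := Nat.pow_le_pow_right hp.out.pos this
          omega
        have h4 : p ^ 4 ≤ Nat.card N := by
          rw [hk]; exact Nat.pow_le_pow_right hp.out.pos hk4
        obtain ⟨F, hFc, hFcard⟩ := exists_abelian_of_exp hNexp h4
        have hFE : Cfsg.IsElementaryAbelian p F := by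
          refine ⟨⟨⟨?_⟩⟩, ?_⟩
          · rintro ⟨a, ha⟩ ⟨b, hb⟩
            apply Subtype.ext
            exact hFc a ha b hb
          · intro a _
            exact hNexp a
        have := rank_subgroup hrk N F hFE
        omega
      -- |R| ≤ p^4
      have hsup : N ⊔ zpowers y = ⊤ := by
        rw [eq_top_iff, ← hD, closure_le]
        intro a ha
        rcases ha with rfl | rfl
        · exact le_sup_left (a := N) (subset_normalClosure (Set.mem_singleton a))
        · exact le_sup_right (a := N) (mem_zpowers a)
      have hycard : Nat.card (zpowers y) ≤ p := by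
        rw [Nat.card_zpowers]
        exact Nat.le_of_dvd hp.out.pos (orderOf_dvd_of_pow_eq_one hy)
      have hRcard : Nat.card R ≤ p ^ 4 := by
        have hsurj : Function.Surjective
            (fun q : N × zpowers y => (⟨(q.1 : R) * (q.2 : R), by
              rw [hsup]; trivial⟩ : (N ⊔ zpowers y : Subgroup R))) := by
          rintro ⟨g, hg⟩
          have hg' : g ∈ (↑(N ⊔ zpowers y) : Set R) := hg
          rw [Subgroup.normal_mul] at hg'
          obtain ⟨a, ha, b, hb, rfl⟩ := Set.mem_mul.mp hg'
          exact ⟨(⟨a, ha⟩, ⟨b, hb⟩), rfl⟩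
        have h1 := Nat.card_le_card_of_surjective _ hsurj
        rw [Nat.card_prod] at h1
        have h2 : Nat.card (N ⊔ zpowers y : Subgroup R) = Nat.card R := by
          rw [hsup, Subgroup.card_top]
        rw [h2] at h1
        calc Nat.card R ≤ Nat.card N * Nat.card (zpowers y) := h1
          _ ≤ p ^ 3 * p := Nat.mul_le_mul hNcard hycard
          _ = p ^ 4 := by ring
      obtain ⟨k, hk⟩ := (IsPGroup.iff_card).mp hR
      have hk4 : k ≤ 4 := by
        by_contra hk4
        have h5 : 5 ≤ k := by omega
        have h6 : p ^ 5 ≤ p ^ k := Nat.pow_le_pow_right hp.out.pos h5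
        have h7 : p ^ 4 < p ^ 5 := Nat.pow_lt_pow_right hp.out.one_lt (by norm_num)
        omega
      have hlcs : (⊤ : Subgroup R).lowerCentralSeries (p - 1) = ⊥ := by
        by_cases hk2 : 2 ≤ k
        · have h1 := Cfsg.Agent.Lib.Helper54.MaxClass.lcs_eq_bot_of_card (p := p) k R hk hk2
          have h2 : (⊤ : Subgroup R).lowerCentralSeries (p - 1)
              ≤ (⊤ : Subgroup R).lowerCentralSeries (k - 1) :=
            Subgroup.lowerCentralSeries_antitone _ (by omega)
          rw [h1] at h2
          exact le_bot_iff.mp h2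
        · exfalso
          apply hc
          have hk1 : k ≤ 1 := by omega
          have hcyc : IsCyclic R := by
            rcases Nat.le_one_iff_eq_zero_or_eq_one.mp hk1 with h0 | h1
            · rw [h0, pow_zero] at hk
              have hsub : Subsingleton R := (Nat.card_eq_one_iff_unique.mp hk).1
              infer_instance
            · rw [h1, pow_one] at hk
              exact isCyclic_of_prime_card hk
          obtain ⟨g, hg⟩ := hcyc.exists_generator
          obtain ⟨i, rfl⟩ := mem_zpowers_iff.mp (hg x)
          obtain ⟨j, rfl⟩ := mem_zpowers_iff.mp (hg y)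
          exact ((Commute.refl g).zpow_left i).zpow_right j
      exact Cfsg.Agent.Lib.Helper70.OmegaClass.mul_pow_eq_one (Nat.card R) R hR le_rfl hlcs x y hx hy
    · -- proper subgroup: induction
      let D : Subgroup R := closure ({x, y} : Set R)
      have hDcard : Nat.card D ≤ n := by
        have h1 : Nat.card D * D.index = Nat.card R := Subgroup.card_mul_index D
        have h2 : D.index ≠ 1 := fun h => hD (Subgroup.index_eq_one.mp h)
        have h3 : D.index ≠ 0 := Subgroup.index_ne_zero_of_finite
        have h4 : 2 ≤ D.index := by omega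
        have h5 : Nat.card D * 2 ≤ Nat.card R := by
          rw [← h1]; exact Nat.mul_le_mul_left _ h4
        have := Nat.card_pos (α := D)
        omega
      have hxD : x ∈ D := subset_closure (by simp)
      have hyD : y ∈ D := subset_closure (by simp)
      have := ih D hDcard (hR.to_subgroup D) (rank_subgroup hrk D) ⟨x, hxD⟩ ⟨y, hyD⟩
        (Subtype.ext hx) (Subtype.ext hy)
      exact congrArg Subtype.val this

/-- For p > 3, in a p-group of p-rank at most 2 the elements of order dividing p generate a subgroup of exponent dividing p. -/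
theorem result {R : Type*} [Group R] [Finite R] {p : ℕ} [Fact p.Prime] (hp : 3 < p) (hR : IsPGroup p R) (hrk : ∀ E : Subgroup R, Cfsg.IsElementaryAbelian p E → Nat.card E ≤ p ^ 2) (g : R) (hg : g ∈ Subgroup.closure {x : R | x ^ p = 1}) : g ^ p = 1 := by
  induction hg using Subgroup.closure_induction with
  | mem d hd => exact hd
  | one => exact one_pow p
  | mul a b _ _ iha ihb => exact main hp (Nat.card R) R le_rfl hR hrk a b iha ihb
  | inv a _ iha => rw [inv_pow, iha, inv_one]

end Cfsg.Agent.S0128
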