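import Cfsg.Statements.S0637
import Cfsg.Agent.Lib.Helper70.OmegaSmall

set_option autoImplicit false
open Cfsg

namespace Cfsg.Agent.S0637

open Subgroup
open Cfsg.Agent.Lib.Helper70.OmegaSmall

universe u

/-- A subgroup `T` of prime order is contained in any subgroup meeting it nontrivially. -/
theorem le_of_mem_of_card {p : ℕ} [hp : Fact p.Prime] {R : Type u} [Group R] (T H : Subgroup R)
    (hT : Nat.card T = p) (w : R) (hw : w ∈ T) (hwH : w ∈ H) (hw1 : w ≠ 1) : T ≤ H := by
  have h1 : zpowers (⟨w, hw⟩ : T) = ⊤ :=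
    zpowers_eq_top_of_prime_card hT (fun h => hw1 (congrArg Subtype.val h))
  intro t ht
  have h2 : (⟨t, ht⟩ : T) ∈ zpowers (⟨w, hw⟩ : T) := h1 ▸ mem_top _
  obtain ⟨k, hk⟩ := mem_zpowers_iff.mp h2
  have h3 : w ^ k = t := by
    have := congrArg Subtype.val hk
    simpa using this
  rw [← h3]
  exact H.zpow_mem hwH k

/-- A subgroup `V ⊇ T` all of whose `p`-th powers lie in `T` (of order `p`) has order at most
`p³` when `|Ω₁(G/T)| ≤ p²`. -/
theorem card_le_of_quot {p : ℕ} [hp : Fact p.Prime] {G : Type u} [Group G] [Finite G]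
    (T : Subgroup G) [T.Normal] (hT : Nat.card T = p)
    (hO : Nat.card (Cfsg.omegaOne p (⊤ : Subgroup (G ⧸ T))) ≤ p ^ 2)
    (V : Subgroup G) (hTV : T ≤ V) (hV : ∀ g ∈ V, g ^ p ∈ T) : Nat.card V ≤ p ^ 3 := by
  have h1 : V.map (QuotientGroup.mk' T) ≤ Cfsg.omegaOne p (⊤ : Subgroup (G ⧸ T)) := by
    rintro _ ⟨g, hg, rfl⟩
    apply Subgroup.subset_closure
    refine ⟨mem_top _, ?_⟩
    show (QuotientGroup.mk' T g) ^ p = 1
    rw [← map_pow]
    exact (QuotientGroup.eq_one_iff _).mpr (hV g hg)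
  have h2 := card_map_mk_mul T V hTV
  have h3 : Nat.card (V.map (QuotientGroup.mk' T)) ≤ p ^ 2 := (Subgroup.card_le_of_le h1).trans hO
  rw [hT] at h2
  calc Nat.card V = Nat.card (V.map (QuotientGroup.mk' T)) * p := h2.symm
    _ ≤ p ^ 2 * p := Nat.mul_le_mul_right _ h3
    _ = p ^ 3 := by ring

/-- If all `p`-th powers of `V` lie in a central subgroup `T` of order `p` and `|Ω₁(R)| ≤ p²`,
then `|V| ≤ p³`. -/
theorem card_le_of_pow_mem {p : ℕ} [hp : Fact p.Prime] (hp3 : 3 < p) {R : Type u} [Group R]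
    [Finite R] (hR : IsPGroup p R) (hO : Nat.card (Cfsg.omegaOne p (⊤ : Subgroup R)) ≤ p ^ 2)
    (T : Subgroup R) (hTc : T ≤ center R) (hT : Nat.card T = p)
    (V : Subgroup R) (hV : ∀ g ∈ V, g ^ p ∈ T) : Nat.card V ≤ p ^ 3 := by
  obtain ⟨k, hk⟩ := (IsPGroup.iff_card).mp (hR.to_subgroup V)
  by_contra hcon
  have hk4 : 4 ≤ k := by
    by_contra hk4
    have h3 : k ≤ 3 := by omega
    have : p ^ k ≤ p ^ 3 := Nat.pow_le_pow_right hp.out.pos h3
    omega
  have hdvd : p ^ 4 ∣ Nat.card V := by rw [hk]; exact pow_dvd_pow p hk4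
  obtain ⟨K, hK⟩ := Sylow.exists_subgroup_card_pow_prime p hdvd
  let V0 : Subgroup R := K.map V.subtype
  have hV0card : Nat.card V0 = p ^ 4 := by
    rw [← hK]; exact Subgroup.card_map_of_injective V.subtype_injective
  have hV0V : V0 ≤ V := by
    rintro _ ⟨g, _, rfl⟩
    exact g.2
  have hZc : T.subgroupOf V0 ≤ center V0 := by
    intro g hg
    rw [mem_center_iff]
    intro h
    apply Subtype.ext
    exact mem_center_iff.mp (hTc (mem_subgroupOf.mp hg)) h.1
  have hZcard : Nat.card (T.subgroupOf V0) ≤ p := by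
    have : Nat.card (T.subgroupOf V0) ≤ Nat.card T :=
      Nat.card_le_card_of_injective
        (fun t : T.subgroupOf V0 => (⟨t.1.1, mem_subgroupOf.mp t.2⟩ : T)) (by
          intro a b hab
          apply Subtype.ext; apply Subtype.ext
          have h := congrArg Subtype.val hab
          exact h)
    omega
  have hpow : ∀ q : V0, q ^ p ∈ T.subgroupOf V0 := by
    intro q
    rw [mem_subgroupOf, Subgroup.coe_pow]
    exact hV _ (hV0V q.2)
  obtain ⟨K', hK'card, hK'pow⟩ :=
    ker_large hp3 (hR.to_subgroup V0) hV0card (T.subgroupOf V0) hZc hZcard hpow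
  have h1 : K'.map V0.subtype ≤ Cfsg.omegaOne p (⊤ : Subgroup R) := by
    rintro _ ⟨g, hg, rfl⟩
    apply Subgroup.subset_closure
    refine ⟨mem_top _, ?_⟩
    have := hK'pow g hg
    show (V0.subtype g) ^ p = 1
    rw [← map_pow, this, map_one]
  have h2 : Nat.card (K'.map V0.subtype) = Nat.card K' :=
    Subgroup.card_map_of_injective V0.subtype_injective
  have h3 := Subgroup.card_le_of_le h1
  have h4 : p ^ 2 < p ^ 3 := Nat.pow_lt_pow_right hp.out.one_lt (by norm_num)
  omega

/-- Step 1 of the base case: elements with `p`-th power in `T` are closed under products. -/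
theorem step1 {p : ℕ} [hp : Fact p.Prime] (hp3 : 3 < p) {R : Type u} [Group R] [Finite R]
    (hR : IsPGroup p R) (hO : Nat.card (Cfsg.omegaOne p (⊤ : Subgroup R)) ≤ p ^ 2)
    (ih : ∀ M : Subgroup R, M ≠ ⊤ → ∀ (N : Subgroup M) [N.Normal],
      Nat.card (Cfsg.omegaOne p (⊤ : Subgroup (M ⧸ N))) ≤ p ^ 2)
    (T : Subgroup R) [hTn : T.Normal] (hT : Nat.card T = p)
    (x y : R) (hx : x ^ p ∈ T) (hy : y ^ p ∈ T) : (x * y) ^ p ∈ T := by
  have hnil : Group.IsNilpotent R := hR.isNilpotent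
  have hsub : ∀ M : Subgroup R, M ≠ ⊤ → ∀ a b : R, a ∈ M → b ∈ M → a ^ p ∈ T → b ^ p ∈ T →
      (a * b) ^ p ∈ T := by
    intro M hM a b ha hb hap hbp
    have hq := ih M hM (T.subgroupOf M)
    have h1 : (⟨a, ha⟩ : M) ^ p ∈ T.subgroupOf M := by
      rw [mem_subgroupOf, Subgroup.coe_pow]; exact hap
    have h2 : (⟨b, hb⟩ : M) ^ p ∈ T.subgroupOf M := by
      rw [mem_subgroupOf, Subgroup.coe_pow]; exact hbp
    have h3 := pow_mem_of_quot (hR.to_subgroup M) (T.subgroupOf M) hq ⟨a, ha⟩ ⟨b, hb⟩ h1 h2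
    rw [mem_subgroupOf, Subgroup.coe_pow] at h3
    exact h3
  have hxH : x ∈ closure ({x, y} : Set R) := Subgroup.subset_closure (by simp)
  have hyH : y ∈ closure ({x, y} : Set R) := Subgroup.subset_closure (by simp)
  by_cases hA : closure ({x, y} : Set R) ⊔ T = ⊤
  swap
  · exact hsub _ hA x y (mem_sup_left hxH) (mem_sup_left hyH) hx hy
  by_cases hB : closure ({x, y} : Set R) = ⊤
  swap
  · have hTH : ¬ T ≤ closure ({x, y} : Set R) := by
      intro h
      apply hB
      rw [← hA]; exact (sup_eq_left.mpr h).symm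
    have hx1 : x ^ p = 1 := by
      by_contra h1
      exact hTH (le_of_mem_of_card T _ hT (x ^ p) hx (Subgroup.pow_mem _ hxH p) h1)
    have hy1 : y ^ p = 1 := by
      by_contra h1
      exact hTH (le_of_mem_of_card T _ hT (y ^ p) hy (Subgroup.pow_mem _ hyH p) h1)
    rw [mul_pow_of_small hR hO x y hx1 hy1]
    exact T.one_mem
  -- now `closure {x, y} = ⊤`
  let π := QuotientGroup.mk' T
  have hπx : π x ^ p = 1 := by rw [← map_pow]; exact (QuotientGroup.eq_one_iff _).mpr hx
  have hπy : π y ^ p = 1 := by rw [← map_pow]; exact (QuotientGroup.eq_one_iff _).mpr hy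
  suffices h : (π x * π y) ^ p = 1 by
    rw [← map_mul, ← map_pow] at h
    exact (QuotientGroup.eq_one_iff _).mp h
  by_cases hC : Commute (π x) (π y)
  · rw [hC.mul_pow, hπx, hπy, one_mul]
  -- non-commuting case
  have hK : closure ({x} : Set R) ⊔ T ≠ ⊤ := by
    intro hK
    apply hC
    have hy' : y ∈ ((closure ({x} : Set R) ⊔ T : Subgroup R) : Set R) := by
      rw [hK]; exact mem_top y
    rw [Subgroup.mul_normal] at hy'
    obtain ⟨a, ha, t, ht, rfl⟩ := Set.mem_mul.mp hy'
    rw [SetLike.mem_coe, ← zpowers_eq_closure] at ha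
    obtain ⟨k, rfl⟩ := mem_zpowers_iff.mp ha
    have hπt : π t = 1 := (QuotientGroup.eq_one_iff _).mpr ht
    show Commute (π x) (π (x ^ k * t))
    rw [map_mul, hπt, mul_one, map_zpow]
    exact (Commute.refl (π x)).zpow_right k
  obtain ⟨M, hMco, hKM⟩ := (eq_top_or_exists_le_coatom _).resolve_left hK
  have hMn : M.Normal :=
    Subgroup.NormalizerCondition.normal_of_coatom M Group.normalizerCondition_of_isNilpotent hMco
  have hMtop : M ≠ ⊤ := hMco.1
  have hxM : x ∈ M := hKM (mem_sup_left (Subgroup.subset_closure (Set.mem_singleton x)))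
  have hTM : T ≤ M := le_sup_right.trans hKM
  let Om : Subgroup R :=
    { carrier := {g | g ∈ M ∧ g ^ p ∈ T}
      mul_mem' := fun {a b} ha hb => ⟨M.mul_mem ha.1 hb.1, hsub M hMtop a b ha.1 hb.1 ha.2 hb.2⟩
      one_mem' := ⟨M.one_mem, by rw [one_pow]; exact T.one_mem⟩
      inv_mem' := fun {a} ha => ⟨M.inv_mem ha.1, by rw [inv_pow]; exact T.inv_mem ha.2⟩ }
  have hOmn : Om.Normal := by
    constructor
    intro g hg r
    refine ⟨hMn.conj_mem g hg.1 r, ?_⟩
    show (r * g * r⁻¹) ^ p ∈ T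
    rw [conj_pow]
    exact hTn.conj_mem _ hg.2 r
  have hOmM : Om ≤ M := fun g hg => hg.1
  have hTOm : T ≤ Om := fun t ht => ⟨hTM ht, T.pow_mem ht p⟩
  have hOmcard : Nat.card Om ≤ p ^ 3 := by
    have hq := ih M hMtop (T.subgroupOf M)
    have hT' : Nat.card (T.subgroupOf M) = p := by
      rw [← hT]; exact Nat.card_congr (Subgroup.subgroupOfEquivOfLe hTM).toEquiv
    have h1 := card_le_of_quot (T.subgroupOf M) hT' hq (Om.subgroupOf M)
      (by
        intro t ht
        rw [mem_subgroupOf] at ht ⊢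
        exact hTOm ht)
      (by
        intro g hg
        rw [mem_subgroupOf] at hg ⊢
        rw [Subgroup.coe_pow]; exact hg.2)
    rw [← Nat.card_congr (Subgroup.subgroupOfEquivOfLe hOmM).toEquiv]; exact h1
  have hxOm : x ∈ Om := ⟨hxM, hx⟩
  have hidx : Nat.card (R ⧸ Om) ≤ p := by
    let ρ := QuotientGroup.mk' Om
    have hρx : ρ x = 1 := (QuotientGroup.eq_one_iff _).mpr hxOm
    have hρy : ρ y ^ p = 1 := by
      rw [← map_pow]; exact (QuotientGroup.eq_one_iff _).mpr (hTOm hy)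
    have htop : zpowers (ρ y) = ⊤ := by
      rw [eq_top_iff]
      intro q _
      obtain ⟨g, rfl⟩ := QuotientGroup.mk_surjective q
      have hg : g ∈ closure ({x, y} : Set R) := hB ▸ mem_top g
      have hle : closure ({x, y} : Set R) ≤ (zpowers (ρ y)).comap ρ := by
        rw [closure_le]
        rintro a (rfl | rfl)
        · show ρ a ∈ zpowers (ρ y)
          rw [hρx]; exact one_mem _
        · exact mem_zpowers _
      exact hle hg
    have h1 : Nat.card (R ⧸ Om) = orderOf (ρ y) := by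
      rw [← Nat.card_zpowers, htop, Subgroup.card_top]
    rw [h1]
    exact Nat.le_of_dvd hp.out.pos (orderOf_dvd_of_pow_eq_one hρy)
  have hRcard : Nat.card R ≤ p ^ 4 := by
    have h1 : Nat.card R = Nat.card (R ⧸ Om) * Nat.card Om :=
      Subgroup.card_eq_card_quotient_mul_card_subgroup Om
    calc Nat.card R = Nat.card (R ⧸ Om) * Nat.card Om := h1
      _ ≤ p * p ^ 3 := Nat.mul_le_mul hidx hOmcard
      _ = p ^ 4 := by ring
  have hQcard : Nat.card (R ⧸ T) ≤ p ^ 3 := by
    have h1 : Nat.card R = Nat.card (R ⧸ T) * Nat.card T :=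
      Subgroup.card_eq_card_quotient_mul_card_subgroup T
    rw [hT] at h1
    have h2 : Nat.card (R ⧸ T) * p ≤ p ^ 3 * p := by
      rw [← h1]
      calc Nat.card R ≤ p ^ 4 := hRcard
        _ = p ^ 3 * p := by ring
    exact Nat.le_of_mul_le_mul_right h2 hp.out.pos
  have hQ : IsPGroup p (R ⧸ T) := hR.to_quotient T
  obtain ⟨k, hk⟩ := (IsPGroup.iff_card).mp hQ
  have hk3 : k ≤ 3 := by
    by_contra hk3
    have h4 : p ^ 4 ≤ p ^ k := Nat.pow_le_pow_right hp.out.pos (by omega)
    have h5 : p ^ 3 < p ^ 4 := Nat.pow_lt_pow_right hp.out.one_lt (by norm_num)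
    omega
  by_cases hk2 : k ≤ 2
  · exfalso
    apply hC
    exact comm_of_card_le_sq hQ (by rw [hk]; exact Nat.pow_le_pow_right hp.out.pos hk2) _ _
  have hk3' : k = 3 := by omega
  subst hk3'
  have hl := Cfsg.Agent.Lib.Helper54.MaxClass.lcs_eq_bot_of_card (p := p) 3 (R ⧸ T) hk
    (by norm_num)
  have hl' : (⊤ : Subgroup (R ⧸ T)).lowerCentralSeries (p - 1) = ⊥ := by
    have h2 := Subgroup.lowerCentralSeries_antitone (⊤ : Subgroup (R ⧸ T))
      (show 3 - 1 ≤ p - 1 by omega)
    rw [hl] at h2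
    exact le_bot_iff.mp h2
  exact Cfsg.Agent.Lib.Helper70.OmegaClass.mul_pow_eq_one (Nat.card (R ⧸ T)) (R ⧸ T) hQ le_rfl
    hl' _ _ hπx hπy

/-- The base case: quotient by a central subgroup of order `p`, given the statement for proper
subgroups. -/
theorem base {p : ℕ} [hp : Fact p.Prime] (hp3 : 3 < p) {R : Type u} [Group R] [Finite R]
    (hR : IsPGroup p R) (hO : Nat.card (Cfsg.omegaOne p (⊤ : Subgroup R)) ≤ p ^ 2)
    (ih : ∀ M : Subgroup R, M ≠ ⊤ → ∀ (N : Subgroup M) [N.Normal],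
      Nat.card (Cfsg.omegaOne p (⊤ : Subgroup (M ⧸ N))) ≤ p ^ 2)
    (T : Subgroup R) [hTn : T.Normal] (hTc : T ≤ center R) (hT : Nat.card T = p) :
    Nat.card (Cfsg.omegaOne p (⊤ : Subgroup (R ⧸ T))) ≤ p ^ 2 := by
  have hs1 : ∀ x y : R, x ^ p ∈ T → y ^ p ∈ T → (x * y) ^ p ∈ T :=
    fun x y hx hy => step1 hp3 hR hO ih T hT x y hx hy
  let V : Subgroup R :=
    { carrier := {g | g ^ p ∈ T}
      mul_mem' := fun {a b} ha hb => hs1 a b ha hb
      one_mem' := by
        show (1 : R) ^ p ∈ T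
        rw [one_pow]; exact T.one_mem
      inv_mem' := fun {a} ha => by
        show (a⁻¹) ^ p ∈ T
        rw [inv_pow]; exact T.inv_mem ha }
  have hV : ∀ g ∈ V, g ^ p ∈ T := fun g hg => hg
  have hVcard : Nat.card V ≤ p ^ 3 := card_le_of_pow_mem hp3 hR hO T hTc hT V hV
  have hTV : T ≤ V := fun t ht => T.pow_mem ht p
  have h1 : Cfsg.omegaOne p (⊤ : Subgroup (R ⧸ T)) ≤ V.map (QuotientGroup.mk' T) := by
    apply omega_le_of
    intro q hq
    obtain ⟨g, rfl⟩ := QuotientGroup.mk_surjective q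
    refine ⟨g, ?_, rfl⟩
    show g ^ p ∈ T
    rw [← QuotientGroup.mk_pow] at hq
    exact (QuotientGroup.eq_one_iff _).mp hq
  have h2 := card_map_mk_mul T V hTV
  rw [hT] at h2
  have h3 : Nat.card (V.map (QuotientGroup.mk' T)) * p ≤ p ^ 2 * p := by
    rw [h2]
    calc Nat.card V ≤ p ^ 3 := hVcard
      _ = p ^ 2 * p := by ring
  exact (Subgroup.card_le_of_le h1).trans (Nat.le_of_mul_le_mul_right h3 hp.out.pos)

/-- The main induction. -/
theorem main {p : ℕ} [hp : Fact p.Prime] (hp3 : 3 < p) : ∀ (n : ℕ) (R : Type u) [Group R]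
    [Finite R], Nat.card R ≤ n → IsPGroup p R →
    Nat.card (Cfsg.omegaOne p (⊤ : Subgroup R)) ≤ p ^ 2 →
    ∀ (T : Subgroup R) [T.Normal], Nat.card (Cfsg.omegaOne p (⊤ : Subgroup (R ⧸ T))) ≤ p ^ 2 := by
  intro n
  induction n with
  | zero =>
    intro R _ _ hn
    exact absurd hn (by have := Nat.card_pos (α := R); omega)
  | succ n ih =>
    intro R _ _ hn hR hO T _
    have ihsub : ∀ M : Subgroup R, M ≠ ⊤ → ∀ (N : Subgroup M) [N.Normal],
        Nat.card (Cfsg.omegaOne p (⊤ : Subgroup (M ⧸ N))) ≤ p ^ 2 := by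
      intro M hM N _
      have hlt : Nat.card M < Nat.card R := by
        by_contra hlt
        have h1 := Subgroup.card_le_card_group M
        exact hM (Subgroup.eq_top_of_card_eq M (by omega))
      exact ih M (by omega) (hR.to_subgroup M) ((card_omega_subgroup M).trans hO) N
    by_cases hT : T = ⊥
    · subst hT
      rw [card_omega_congr (QuotientGroup.quotientBot (G := R))]
      exact hO
    obtain ⟨z, hzT, hzc, hzo⟩ := exists_central_of_normal hR T hT
    let T1 : Subgroup R := zpowers z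
    have hT1c : T1 ≤ center R := by
      show zpowers z ≤ center R
      rw [zpowers_le]; exact hzc
    have hT1n : T1.Normal := by
      constructor
      intro t ht g
      have := mem_center_iff.mp (hT1c ht) g
      rw [this, mul_inv_cancel_right]
      exact ht
    have hT1card : Nat.card T1 = p := by
      show Nat.card (zpowers z) = p
      rw [Nat.card_zpowers, hzo]
    have hT1T : T1 ≤ T := by
      show zpowers z ≤ T
      rw [zpowers_le]; exact hzT
    have hb := base hp3 hR hO ihsub T1 hT1c hT1card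
    have hlt : Nat.card (R ⧸ T1) < Nat.card R := by
      have h1 : Nat.card R = Nat.card (R ⧸ T1) * Nat.card T1 :=
        Subgroup.card_eq_card_quotient_mul_card_subgroup T1
      rw [hT1card] at h1
      have h2 : 0 < Nat.card (R ⧸ T1) := Nat.card_pos
      have h3 := hp.out.one_lt
      nlinarith
    have h2 := ih (R ⧸ T1) (by omega) (hR.to_quotient T1) hb (T.map (QuotientGroup.mk' T1))
    rw [card_omega_congr (QuotientGroup.quotientQuotientEquivQuotient T1 T hT1T)] at h2
    exact h2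

/-- For p greater than 3, the bound p² on the order of the subgroup generated by the elements of order dividing p passes from a p-group to all its quotients. -/
theorem result {R : Type*} [Group R] [Finite R] {p : ℕ} [Fact p.Prime] (hp : 3 < p) (hR : IsPGroup p R) (hO : Nat.card ↥(Cfsg.omegaOne p (⊤ : Subgroup R)) ≤ p ^ 2) (T : Subgroup R) [T.Normal] : Nat.card ↥(Cfsg.omegaOne p (⊤ : Subgroup (R ⧸ T))) ≤ p ^ 2 := by
  exact main hp (Nat.card R) R le_rfl hR hO T

end Cfsg.Agent.S0637
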