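import Cfsg.Statements.S0639
import Cfsg.Agent.Lib.Helper70.OmegaSmall
import Cfsg.Agent.Lib.Helper70.FrattiniQuot
import Cfsg.Agent.S0637
import Cfsg.Agent.S0643
import Cfsg.Agent.S0644
import Cfsg.Agent.S0128

set_option autoImplicit false
open Cfsg

namespace Cfsg.Agent.S0639

open Subgroup
open scoped commutatorElement
open Cfsg.Agent.Lib.Helper70.OmegaSmall

universe u

/-- Generators of a metacyclic group. -/
theorem metacyclic_gens {Q : Type u} [Group Q] (h : Cfsg.IsMetacyclic Q) :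
    ∃ a b : Q, (∀ g : Q, ∃ j i : ℤ, g = b ^ j * a ^ i) ∧ ∃ r : ℤ, b * a * b⁻¹ = a ^ r := by
  obtain ⟨N, hN, hNc, hQc⟩ := h
  obtain ⟨⟨a, haN⟩, ha⟩ := hNc.exists_generator
  obtain ⟨β, hβ⟩ := hQc.exists_generator
  obtain ⟨b, rfl⟩ := QuotientGroup.mk_surjective β
  have hNa : ∀ n ∈ N, ∃ i : ℤ, n = a ^ i := by
    intro n hn
    obtain ⟨i, hi⟩ := mem_zpowers_iff.mp (ha ⟨n, hn⟩)
    refine ⟨i, ?_⟩
    have h1 := congrArg Subtype.val hi
    simpa using h1.symm
  refine ⟨a, b, ?_, ?_⟩
  · intro g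
    obtain ⟨j, hj⟩ := mem_zpowers_iff.mp (hβ (QuotientGroup.mk g))
    have h1 : (b ^ j)⁻¹ * g ∈ N := by
      rw [← QuotientGroup.eq, QuotientGroup.mk_zpow]; exact hj
    obtain ⟨i, hi⟩ := hNa _ h1
    refine ⟨j, i, ?_⟩
    rw [← hi]; group
  · obtain ⟨r, hr⟩ := hNa _ (hN.conj_mem a haN b)
    exact ⟨r, hr⟩

/-- In a finite group, an element conjugating a subgroup into itself normalizes it. -/
theorem mem_normalizer_of_conj {G : Type u} [Group G] [Finite G] (C : Subgroup G) (g : G)
    (h : ∀ c ∈ C, g * c * g⁻¹ ∈ C) : g ∈ normalizer (C : Set G) := by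
  rw [mem_normalizer_iff]
  intro x
  refine ⟨h x, fun hx => ?_⟩
  let f : C → C := fun c => ⟨g * c * g⁻¹, h c c.2⟩
  have hinj : Function.Injective f := by
    intro c d hcd
    have h1 := congrArg Subtype.val hcd
    apply Subtype.ext
    have h2 : g * (c : G) * g⁻¹ = g * (d : G) * g⁻¹ := h1
    exact mul_left_cancel (mul_right_cancel h2)
  obtain ⟨c, hc⟩ := Finite.surjective_of_injective hinj ⟨g * x * g⁻¹, hx⟩
  have h2 : g * (c : G) * g⁻¹ = g * x * g⁻¹ := congrArg Subtype.val hc
  have h3 : (c : G) = x := mul_left_cancel (mul_right_cancel h2)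
  rw [← h3]; exact c.2

/-- If all proper quotients are metacyclic, then the commutator subgroup is cyclic. -/
theorem cyclic_commutator {p : ℕ} [hp : Fact p.Prime] {R : Type u} [Group R] [Finite R]
    (hR : IsPGroup p R)
    (ih : ∀ (T : Subgroup R) [T.Normal], T ≠ ⊥ → Cfsg.IsMetacyclic (R ⧸ T)) :
    IsCyclic (commutator R) := by
  by_cases htriv : (⊤ : Subgroup R) = ⊥
  · have h1 : commutator R = ⊥ := le_bot_iff.mp (htriv ▸ le_top)
    rw [h1]; infer_instance
  obtain ⟨z, -, hzc, hzo⟩ := exists_central_of_normal hR ⊤ htriv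
  let T : Subgroup R := zpowers z
  have hTc : T ≤ center R := by
    show zpowers z ≤ center R
    rw [zpowers_le]; exact hzc
  have hTn : T.Normal := by
    constructor
    intro t ht g
    have := mem_center_iff.mp (hTc ht) g
    rw [this, mul_inv_cancel_right]
    exact ht
  have hTne : T ≠ ⊥ := by
    intro h
    have h1 : z ∈ (⊥ : Subgroup R) := h ▸ mem_zpowers z
    rw [mem_bot] at h1
    rw [h1, orderOf_one] at hzo
    exact hp.out.one_lt.ne hzo
  obtain ⟨α, β, hgen, r, hr⟩ := metacyclic_gens (ih T hTne)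
  obtain ⟨a, rfl⟩ := QuotientGroup.mk_surjective α
  obtain ⟨b, rfl⟩ := QuotientGroup.mk_surjective β
  have F1 : ∀ g : R, ∃ j i : ℤ, ∃ t ∈ T, g = b ^ j * a ^ i * t := by
    intro g
    obtain ⟨j, i, hji⟩ := hgen (QuotientGroup.mk g)
    have h1 : (b ^ j * a ^ i)⁻¹ * g ∈ T := by
      rw [← QuotientGroup.eq, hji, QuotientGroup.mk_mul, QuotientGroup.mk_zpow,
        QuotientGroup.mk_zpow]
    exact ⟨j, i, _, h1, by group⟩
  obtain ⟨t₀, ht₀, e1⟩ : ∃ t₀ ∈ T, b * a * b⁻¹ = a ^ r * t₀ := by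
    have h1 : (a ^ r)⁻¹ * (b * a * b⁻¹) ∈ T := by
      rw [← QuotientGroup.eq, QuotientGroup.mk_zpow, ← hr]
      rfl
    exact ⟨_, h1, by group⟩
  have ht₀c : ∀ g : R, g * t₀ = t₀ * g := fun g => mem_center_iff.mp (hTc ht₀) g
  have ht₀ic : ∀ g : R, g * t₀⁻¹ = t₀⁻¹ * g :=
    fun g => mem_center_iff.mp (inv_mem (hTc ht₀)) g
  obtain ⟨u, hu⟩ : ∃ u : R, u = ⁅a, b⁆ := ⟨_, rfl⟩
  have hu1 : u = a ^ (1 - r) * t₀⁻¹ := by
    have h1 : u = a * (b * a * b⁻¹)⁻¹ := by rw [hu, commutatorElement_def]; group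
    have h2 : (a ^ r * t₀)⁻¹ = (a ^ r)⁻¹ * t₀⁻¹ := by
      rw [mul_inv_rev]; exact (ht₀ic _).symm
    rw [h1, e1, h2, zpow_sub, zpow_one, mul_assoc]
  have hau : Commute a u := by
    rw [hu1]
    exact ((Commute.refl a).zpow_right _).mul_right (ht₀ic a)
  have hbu : b * u * b⁻¹ = u ^ r := by
    have h1 : b * u * b⁻¹ = (b * a * b⁻¹) ^ (1 - r) * t₀⁻¹ := by
      rw [hu1, conj_zpow]
      have h2 := ht₀ic b⁻¹
      calc b * (a ^ (1 - r) * t₀⁻¹) * b⁻¹ = b * a ^ (1 - r) * (t₀⁻¹ * b⁻¹) := by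
            simp only [mul_assoc]
        _ = b * a ^ (1 - r) * (b⁻¹ * t₀⁻¹) := by rw [h2]
        _ = b * a ^ (1 - r) * b⁻¹ * t₀⁻¹ := by simp only [mul_assoc]
    have hc : Commute (a ^ r) t₀ := ht₀c (a ^ r)
    have hc' : Commute (a ^ (1 - r)) t₀⁻¹ := ht₀ic _
    have h3 : t₀ ^ (1 - r) * t₀⁻¹ = t₀⁻¹ ^ r := by group
    rw [h1, e1, hu1, hc.mul_zpow, hc'.mul_zpow, ← zpow_mul, ← zpow_mul, mul_comm r (1 - r),
      mul_assoc, h3]
  let C : Subgroup R := zpowers u
  have haN : a ∈ normalizer (C : Set R) := by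
    apply mem_normalizer_of_conj
    intro c hc
    obtain ⟨k, rfl⟩ := mem_zpowers_iff.mp hc
    have h1 : a * u ^ k * a⁻¹ = u ^ k := by
      rw [(hau.zpow_right k).eq, mul_inv_cancel_right]
    rw [h1]; exact hc
  have hbN : b ∈ normalizer (C : Set R) := by
    apply mem_normalizer_of_conj
    intro c hc
    obtain ⟨k, rfl⟩ := mem_zpowers_iff.mp hc
    have h1 : b * u ^ k * b⁻¹ = (u ^ r) ^ k := by rw [← conj_zpow, hbu]
    rw [h1]; exact zpow_mem (zpow_mem (mem_zpowers u) r) k
  have hTN : T ≤ normalizer (C : Set R) := fun t ht => (center_le_normalizer _) (hTc ht)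
  have hCn : C.Normal := by
    rw [← normalizer_eq_top_iff, eq_top_iff]
    intro g _
    obtain ⟨j, i, t, ht, rfl⟩ := F1 g
    exact mul_mem (mul_mem (zpow_mem hbN j) (zpow_mem haN i)) (hTN ht)
  have hle : commutator R ≤ C := by
    rw [commutator_eq_closure, closure_le]
    rintro _ ⟨g, h, rfl⟩
    apply Cfsg.Agent.Lib.Helper70.OmegaClass.mem_of_mk_comm C
    have hab : Commute (QuotientGroup.mk' C a) (QuotientGroup.mk' C b) :=
      Cfsg.Agent.Lib.Helper70.OmegaClass.mk_comm_of_mem C (hu ▸ mem_zpowers u)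
    have hT : ∀ t ∈ T, ∀ q : R ⧸ C, Commute q (QuotientGroup.mk' C t) := by
      intro t ht q
      obtain ⟨g, rfl⟩ := QuotientGroup.mk'_surjective C q
      show QuotientGroup.mk' C g * QuotientGroup.mk' C t
        = QuotientGroup.mk' C t * QuotientGroup.mk' C g
      rw [← map_mul, ← map_mul, mem_center_iff.mp (hTc ht) g]
    obtain ⟨j, i, t, ht, rfl⟩ := F1 g
    obtain ⟨j', i', t', ht', rfl⟩ := F1 h
    simp only [map_mul, map_zpow]
    have h1 : Commute (QuotientGroup.mk' C b ^ j * QuotientGroup.mk' C a ^ i)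
        (QuotientGroup.mk' C b ^ j' * QuotientGroup.mk' C a ^ i') := by
      apply Commute.mul_left <;> apply Commute.mul_right
      · exact (Commute.refl _).zpow_zpow j j'
      · exact (hab.symm).zpow_zpow j i'
      · exact hab.zpow_zpow i j'
      · exact (Commute.refl _).zpow_zpow i i'
    exact ((h1.mul_right (hT t' ht' _)).mul_left (hT t ht _).symm).eq
  have : IsCyclic C := Subgroup.isCyclic_zpowers u
  exact Subgroup.isCyclic_of_le hle

/-- A finite `p`-group (`p` odd) with cyclic commutator subgroup satisfies the regularity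
identity. -/
theorem reg_of_cyclic {p : ℕ} [hp : Fact p.Prime] (hp3 : 3 ≤ p) {G : Type u} [Group G] [Finite G]
    (hG : IsPGroup p G) (hc : IsCyclic (commutator G)) (x y : G) :
    ∃ c ∈ commutator G, (x * y) ^ p = x ^ p * y ^ p * c ^ p := by
  obtain ⟨⟨u, hu⟩, hgen⟩ := hc.exists_generator
  have hD : ∀ d ∈ commutator G, ∃ k : ℤ, d = u ^ k := by
    intro d hd
    obtain ⟨k, hk⟩ := mem_zpowers_iff.mp (hgen ⟨d, hd⟩)
    refine ⟨k, ?_⟩
    have h1 := congrArg Subtype.val hk
    simpa using h1.symm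
  have hpk : ∀ k : ℤ, (u ^ k) ^ p = (u ^ p) ^ k := by
    intro k
    rw [← zpow_natCast, ← zpow_mul, ← zpow_natCast, ← zpow_mul, mul_comm]
  let E : Subgroup G := zpowers (u ^ p)
  have hEn : E.Normal := by
    constructor
    intro e he g
    obtain ⟨k, rfl⟩ := mem_zpowers_iff.mp he
    have hcn : (commutator G).Normal := inferInstance
    obtain ⟨m, hm⟩ := hD _ (hcn.conj_mem u hu g)
    have h1 : g * (u ^ p) ^ k * g⁻¹ = ((u ^ p) ^ m) ^ k := by
      rw [← conj_zpow, ← conj_pow, hm, hpk]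
    rw [h1]
    exact zpow_mem (zpow_mem (mem_zpowers _) m) k
  let π := QuotientGroup.mk' E
  have hsurj : Function.Surjective π := QuotientGroup.mk'_surjective E
  have hcomm : commutator (G ⧸ E) = (commutator G).map π := by
    rw [commutator_def, commutator_def, Subgroup.map_commutator,
      Subgroup.map_top_of_surjective π hsurj]
  have hexp : ∀ d ∈ commutator (G ⧸ E), d ^ (p ^ 1) = 1 := by
    intro d hd
    rw [hcomm] at hd
    obtain ⟨d', hd', rfl⟩ := hd
    obtain ⟨k, rfl⟩ := hD d' hd'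
    rw [pow_one, ← map_pow]
    apply (QuotientGroup.eq_one_iff _).mpr
    rw [hpk]; exact zpow_mem (mem_zpowers _) k
  have hQ : IsPGroup p (G ⧸ E) := hG.to_quotient E
  have hcent : commutator (G ⧸ E) ≤ center (G ⧸ E) := by
    by_cases hbot : commutator (G ⧸ E) = ⊥
    · rw [hbot]; exact bot_le
    obtain ⟨z, hz, hzc, hzo⟩ := exists_central_of_normal hQ (commutator (G ⧸ E)) hbot
    have hcard : Nat.card (commutator (G ⧸ E)) = p := by
      have h1 : commutator (G ⧸ E) = zpowers (π u) := by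
        apply le_antisymm
        · intro d hd
          rw [hcomm] at hd
          obtain ⟨d', hd', rfl⟩ := hd
          obtain ⟨k, rfl⟩ := hD d' hd'
          rw [map_zpow]; exact zpow_mem (mem_zpowers _) k
        · rw [zpowers_le, hcomm]; exact mem_map_of_mem π hu
      have h2 : π u ≠ 1 := by
        intro h
        apply hbot
        rw [h1, h, zpowers_one_eq_bot]
      have h3 : (π u) ^ p = 1 := by
        have := hexp (π u) (by rw [hcomm]; exact mem_map_of_mem π hu)
        rwa [pow_one] at this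
      rw [h1, Nat.card_zpowers]
      exact orderOf_eq_prime h3 h2
    have hz1 : z ≠ 1 := by
      intro h
      rw [h, orderOf_one] at hzo
      exact hp.out.one_lt.ne hzo
    exact Cfsg.Agent.S0637.le_of_mem_of_card _ _ hcard z hz hzc hz1
  have hcl : (⊤ : Subgroup (G ⧸ E)).lowerCentralSeries (p - 1) = ⊥ := by
    have h2 : (⊤ : Subgroup (G ⧸ E)).lowerCentralSeries 2 = ⊥ := by
      rw [Subgroup.lowerCentralSeries_succ, Subgroup.lowerCentralSeries_succ,
        Subgroup.lowerCentralSeries_zero,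
        Subgroup.commutator_eq_bot_iff_le_centralizer, Subgroup.coe_top,
        Subgroup.centralizer_univ, ← commutator_def]
      exact hcent
    have h3 := Subgroup.lowerCentralSeries_antitone (⊤ : Subgroup (G ⧸ E))
      (show 2 ≤ p - 1 by omega)
    rw [h2] at h3
    exact le_bot_iff.mp h3
  have hmul := Cfsg.Agent.S4209.mul_pow_of_class p 1 hcl hexp (π x) (π y)
  rw [pow_one] at hmul
  have hmem : (x ^ p * y ^ p)⁻¹ * (x * y) ^ p ∈ E := by
    rw [← QuotientGroup.eq]
    show π (x ^ p * y ^ p) = π ((x * y) ^ p)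
    rw [map_mul, map_pow, map_pow, map_pow, map_mul, hmul]
  obtain ⟨k, hk⟩ := mem_zpowers_iff.mp hmem
  refine ⟨u ^ k, zpow_mem hu k, ?_⟩
  rw [hpk, hk]; group

/-- The order of a proper quotient drops. -/
theorem card_quot_lt {G : Type u} [Group G] [Finite G] (T : Subgroup G) [T.Normal] (hT : T ≠ ⊥) :
    Nat.card (G ⧸ T) < Nat.card G := by
  have h2 : Nat.card G = Nat.card (G ⧸ T) * Nat.card T :=
    Subgroup.card_eq_card_quotient_mul_card_subgroup T
  have h3 : 1 < Nat.card T := (Subgroup.one_lt_card_iff_ne_bot T).mpr hT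
  have h5 : 0 < Nat.card (G ⧸ T) := Nat.card_pos
  nlinarith

/-- A regular `p`-group with `|Ω₁| ≤ p²` and cyclic commutator subgroup is metacyclic. -/
theorem partA {p : ℕ} [hp : Fact p.Prime] {R : Type u} [Group R] [Finite R]
    (hR : IsPGroup p R) (hreg : Cfsg.IsRegularPGroup p R)
    (hO : Nat.card (Cfsg.omegaOne p (⊤ : Subgroup R)) ≤ p ^ 2)
    (hc : IsCyclic (commutator R)) : Cfsg.IsMetacyclic R := by
  by_cases hsub : Subsingleton R
  · exact ⟨⊤, inferInstance, inferInstance, inferInstance⟩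
  let A : Subgroup R := Cfsg.powerClosure p 1 (⊤ : Subgroup R)
  have hA : ∀ y : R, y ∈ A ↔ ∃ x : R, y = x ^ p := by
    intro y
    have h1 := (Cfsg.Agent.S0644.result hreg (⊤ : Subgroup R) 1).1
    have h2 : y ∈ (A : Set R) ↔ y ∈ {y : R | ∃ x ∈ (⊤ : Subgroup R), y = x ^ (p ^ 1)} := by
      rw [h1]
    rw [← SetLike.mem_coe, h2]
    constructor
    · rintro ⟨x, -, hx⟩; exact ⟨x, by rw [hx, pow_one]⟩
    · rintro ⟨x, hx⟩; exact ⟨x, mem_top x, by rw [hx, pow_one]⟩
  have hAn : A.Normal := by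
    constructor
    intro y hy g
    obtain ⟨x, rfl⟩ := (hA y).mp hy
    rw [hA]
    exact ⟨g * x * g⁻¹, (conj_pow).symm⟩
  have hAfr : A ≤ frattini R := by
    intro y hy
    obtain ⟨x, rfl⟩ := (hA y).mp hy
    exact Cfsg.Agent.Lib.Helper70.FrattiniQuot.pow_mem_frattini hR x
  let Ω : Subgroup R := Cfsg.Agent.Lib.Helper70.Regular.omega hreg 1
  have hΩ : ∀ x : R, x ∈ Ω ↔ x ^ p = 1 := by
    intro x
    show x ∈ Cfsg.Agent.Lib.Helper70.Regular.omega hreg 1 ↔ _
    rw [Cfsg.Agent.Lib.Helper70.Regular.mem_omega, pow_one]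
  have hΩcard : Nat.card Ω ≤ p ^ 2 := by
    have hle : Ω ≤ Cfsg.omegaOne p (⊤ : Subgroup R) := by
      intro x hx
      exact Subgroup.subset_closure ⟨mem_top x, (hΩ x).mp hx⟩
    exact (Subgroup.card_le_of_le hle).trans hO
  have hkey : ∀ a b : R, a ^ p = b ^ p → a⁻¹ * b ∈ Ω := by
    intro a b hab
    rw [hΩ]
    have h1 : a⁻¹ ^ p ^ 1 = b⁻¹ ^ p ^ 1 := by rw [pow_one, inv_pow, inv_pow, hab]
    have h2 := (Cfsg.Agent.Lib.Helper70.Regular.pow_eq_iff hreg a⁻¹ b⁻¹ 1).mp h1
    rwa [pow_one, inv_inv] at h2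
  have hidx : Nat.card (R ⧸ Ω) ≤ Nat.card A := by
    let f : R ⧸ Ω → A := fun q => ⟨q.out ^ p, (hA _).mpr ⟨q.out, rfl⟩⟩
    apply Nat.card_le_card_of_injective f
    intro q q' h
    have h1 : q.out ^ p = q'.out ^ p := congrArg Subtype.val h
    rw [← QuotientGroup.out_eq' q, ← QuotientGroup.out_eq' q', QuotientGroup.eq]
    exact hkey _ _ h1
  have hRcard : Nat.card R ≤ p ^ 2 * Nat.card A := by
    have h1 : Nat.card R = Nat.card (R ⧸ Ω) * Nat.card Ω :=
      Subgroup.card_eq_card_quotient_mul_card_subgroup Ω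
    rw [h1, mul_comm]
    exact Nat.mul_le_mul hΩcard hidx
  have hQcard : Nat.card (R ⧸ A) ≤ p ^ 2 := by
    have h1 : Nat.card R = Nat.card (R ⧸ A) * Nat.card A :=
      Subgroup.card_eq_card_quotient_mul_card_subgroup A
    rw [h1] at hRcard
    exact Nat.le_of_mul_le_mul_right hRcard Nat.card_pos
  have hcomA : commutator R ≤ A := by
    rw [commutator_eq_closure, closure_le]
    rintro _ ⟨g, h, rfl⟩
    apply Cfsg.Agent.Lib.Helper70.OmegaClass.mem_of_mk_comm A
    exact comm_of_card_le_sq (hR.to_quotient A) hQcard _ _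
  obtain ⟨⟨u, hu⟩, hgen⟩ := hc.exists_generator
  have hD : commutator R ≤ zpowers u := by
    intro d hd
    obtain ⟨k, hk⟩ := mem_zpowers_iff.mp (hgen ⟨d, hd⟩)
    have h1 := congrArg Subtype.val hk
    rw [mem_zpowers_iff]
    exact ⟨k, by simpa using h1⟩
  have hne : Nonempty {x : R // u ∈ zpowers x} := ⟨⟨u, mem_zpowers u⟩⟩
  obtain ⟨⟨x, hx⟩, hmax⟩ := Finite.exists_max (fun x : {x : R // u ∈ zpowers x} => orderOf x.1)
  have hmax' : ∀ w : R, u ∈ zpowers w → orderOf w ≤ orderOf x := fun w hw => hmax ⟨w, hw⟩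
  have hxA : x ∉ A := by
    intro hxA
    obtain ⟨v, rfl⟩ := (hA x).mp hxA
    have hv : u ∈ zpowers v := (zpowers_le.mpr (pow_mem (mem_zpowers v) p)) hx
    have h1 := hmax' v hv
    have hv1 : v = 1 := by
      by_contra hv1
      obtain ⟨j, hj⟩ := hR v
      obtain ⟨i, -, hi⟩ := (Nat.dvd_prime_pow hp.out).mp (orderOf_dvd_of_pow_eq_one hj)
      have hi0 : i ≠ 0 := by
        intro h0
        rw [h0, pow_zero, orderOf_eq_one_iff] at hi
        exact hv1 hi
      have hdvd : p ∣ orderOf v := by rw [hi]; exact dvd_pow_self p hi0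
      have h2 : orderOf (v ^ p) = orderOf v / p := orderOf_pow_of_dvd hp.out.ne_zero hdvd
      have h3 : orderOf v / p < orderOf v := Nat.div_lt_self (orderOf_pos v) hp.out.one_lt
      omega
    apply hsub
    have hu1 : u = 1 := by
      rw [hv1, one_pow] at hx
      simpa using hx
    have hall : ∀ w : R, w = 1 := by
      intro w
      have h2 := hmax' w (by rw [hu1]; exact one_mem _)
      rw [hv1, one_pow, orderOf_one] at h2
      exact orderOf_eq_one_iff.mp (le_antisymm h2 (orderOf_pos w))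
    constructor
    intro g h
    rw [hall g, hall h]
  obtain ⟨z, hz⟩ : ∃ z : R, closure ({x, z} : Set R) ⊔ A = ⊤ := by
    by_cases hS : closure ({x} : Set R) ⊔ A = ⊤
    · refine ⟨x, ?_⟩
      rw [Set.pair_eq_singleton]; exact hS
    · obtain ⟨z, hz⟩ : ∃ z : R, z ∉ closure ({x} : Set R) ⊔ A := by
        by_contra hcon
        push Not at hcon
        exact hS (eq_top_iff.mpr (fun g _ => hcon g))
      refine ⟨z, ?_⟩
      have h1 : A < closure ({x} : Set R) ⊔ A := by
        refine lt_of_le_of_ne le_sup_right ?_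
        intro h
        apply hxA
        rw [h]
        exact mem_sup_left (Subgroup.subset_closure rfl)
      have h2 : closure ({x} : Set R) ⊔ A < closure ({x, z} : Set R) ⊔ A := by
        refine lt_of_le_of_ne (sup_le_sup_right (Subgroup.closure_mono (by simp)) A) ?_
        intro h
        apply hz
        rw [h]
        exact mem_sup_left (Subgroup.subset_closure (by simp))
      have h3 := Cfsg.Agent.S0128.mul_card_le_of_lt hR h1
      have h4 := Cfsg.Agent.S0128.mul_card_le_of_lt hR h2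
      apply Subgroup.eq_top_of_card_eq
      have h5 := Subgroup.card_le_card_group (closure ({x, z} : Set R) ⊔ A)
      have h6 : p ^ 2 * Nat.card A ≤ Nat.card (closure ({x, z} : Set R) ⊔ A : Subgroup R) := by
        calc p ^ 2 * Nat.card A = p * (p * Nat.card A) := by ring
          _ ≤ p * Nat.card (closure ({x} : Set R) ⊔ A : Subgroup R) := Nat.mul_le_mul_left p h3
          _ ≤ _ := h4
      omega
  have hgenR : closure ({x, z} : Set R) = ⊤ := by
    apply frattini_nongenerating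
    rw [eq_top_iff, ← hz]
    exact sup_le_sup_left hAfr _
  let N : Subgroup R := zpowers x
  have hDN : commutator R ≤ N := hD.trans (zpowers_le.mpr hx)
  have hNn : N.Normal := by
    constructor
    intro n hn g
    have h1 : g * n * g⁻¹ = ⁅g, n⁆ * n := by rw [commutatorElement_def]; group
    rw [h1]
    exact mul_mem (hDN (commutator_mem_commutator (mem_top g) (mem_top n))) hn
  refine ⟨N, hNn, Subgroup.isCyclic_zpowers x, ?_⟩
  rw [isCyclic_iff_exists_zpowers_eq_top]
  refine ⟨QuotientGroup.mk' N z, ?_⟩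
  rw [eq_top_iff]
  intro q _
  obtain ⟨g, rfl⟩ := QuotientGroup.mk_surjective q
  have hg : g ∈ closure ({x, z} : Set R) := hgenR ▸ mem_top g
  have hle : closure ({x, z} : Set R) ≤
      (zpowers (QuotientGroup.mk' N z)).comap (QuotientGroup.mk' N) := by
    rw [closure_le]
    intro a ha
    rcases ha with h | h
    · show QuotientGroup.mk' N a ∈ zpowers (QuotientGroup.mk' N z)
      have h1 : QuotientGroup.mk' N x = 1 := (QuotientGroup.eq_one_iff _).mpr (mem_zpowers x)
      rw [h, h1]; exact one_mem _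
    · rw [Set.mem_singleton_iff] at h
      rw [h]; exact mem_zpowers _
  exact hle hg

/-- The main induction. -/
theorem main {p : ℕ} [hp : Fact p.Prime] (hp3 : 3 < p) : ∀ (n : ℕ) (R : Type u) [Group R]
    [Finite R], Nat.card R ≤ n → IsPGroup p R →
    Nat.card (Cfsg.omegaOne p (⊤ : Subgroup R)) ≤ p ^ 2 → Cfsg.IsMetacyclic R := by
  intro n
  induction n with
  | zero =>
    intro R _ _ hn
    exact absurd hn (by have := Nat.card_pos (α := R); omega)
  | succ n ih =>
    intro R _ _ hn hR hO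
    have hquot : ∀ (H : Subgroup R) (T : Subgroup H) [T.Normal], T ≠ ⊥ →
        Cfsg.IsMetacyclic (H ⧸ T) := by
      intro H T _ hT
      have hOH : Nat.card (Cfsg.omegaOne p (⊤ : Subgroup H)) ≤ p ^ 2 :=
        (card_omega_subgroup H).trans hO
      have h1 := Cfsg.Agent.S0637.result hp3 (hR.to_subgroup H) hOH T
      have hlt := card_quot_lt T hT
      have h4 := Subgroup.card_le_card_group H
      exact ih (H ⧸ T) (by omega) ((hR.to_subgroup H).to_quotient T) h1
    have hcyc : ∀ H : Subgroup R, IsCyclic (commutator H) := fun H =>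
      cyclic_commutator (hR.to_subgroup H) (fun T _ hT => hquot H T hT)
    have hreg : Cfsg.IsRegularPGroup p R := by
      rw [Cfsg.Agent.S0643.result hR]
      intro a b
      obtain ⟨H, hH⟩ : ∃ H : Subgroup R, H = closure ({a, b} : Set R) := ⟨_, rfl⟩
      rw [← hH]
      have haH : a ∈ H := by rw [hH]; exact Subgroup.subset_closure (by simp)
      have hbH : b ∈ H := by rw [hH]; exact Subgroup.subset_closure (by simp)
      obtain ⟨c, hc, hceq⟩ := reg_of_cyclic (by omega : 3 ≤ p) (hR.to_subgroup H) (hcyc H)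
        ⟨a, haH⟩ ⟨b, hbH⟩
      refine ⟨c, ?_, ?_⟩
      · have h1 : (commutator H).map H.subtype = ⁅H, H⁆ := by
          rw [commutator_def, Subgroup.map_commutator, ← MonoidHom.range_eq_map,
            Subgroup.range_subtype]
        rw [← h1]
        exact mem_map_of_mem H.subtype hc
      · have h2 := congrArg Subtype.val hceq
        simpa using h2
    have hcR : IsCyclic (commutator R) := by
      apply cyclic_commutator hR
      intro T _ hT
      have h1 := Cfsg.Agent.S0637.result hp3 hR hO T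
      have hlt := card_quot_lt T hT
      exact ih (R ⧸ T) (by omega) (hR.to_quotient T) h1
    exact partA hR hreg hO hcR

/-- Huppert's criterion: for p greater than 3, a p-group whose elements of order dividing p generate a subgroup of order at most p² is metacyclic. -/
theorem result {R : Type*} [Group R] [Finite R] {p : ℕ} [Fact p.Prime] (hp : 3 < p) (hR : IsPGroup p R) (hO : Nat.card ↥(Cfsg.omegaOne p (⊤ : Subgroup R)) ≤ p ^ 2) : Cfsg.IsMetacyclic R := by
  exact main hp (Nat.card R) R le_rfl hR hO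

end Cfsg.Agent.S0639
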