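import Cfsg.Statements.S1448
import Cfsg.Agent.Lib.Helper70.Blackburn
import Cfsg.Agent.Lib.Helper24.ConjAction
import Cfsg.Agent.S0640
import Cfsg.Agent.S1447
import Cfsg.Agent.S3771
import Cfsg.Agent.S1335
import Cfsg.Agent.S0639
import Cfsg.Agent.S0128

set_option autoImplicit false
open Cfsg

namespace Cfsg.Agent.S1448

open scoped commutatorElement
open Cfsg.Agent.Lib.Helper24.ConjAction

/-- Let G be a finite group, p an odd prime, R a nontrivial p-subgroup with no elementary abelian subgroup of order p ^ 3, and A a subgroup of odd order coprime to p normalizing R with [R, A] = R. Then 3 < p, and either R is abelian or R is generated by two elementwise-commuting subgroups R₁, R₂ with R₁ non-abelian of order p ^ 3 and exponent p, R₂ cyclic, and the elements of R₂ of order dividing p generating exactly [R₁, R₁]. -/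
theorem result {G : Type*} [Group G] [Finite G] (p : ℕ) [Fact p.Prime] (hp : p ≠ 2) (R A : Subgroup G) (hR : IsPGroup p R) (hR1 : R ≠ ⊥) (hr : Cfsg.PRankLE p 2 R)
    (hA : (A ≤ Subgroup.normalizer (R : Set G))) (hcop : (Nat.card A).Coprime p) (hAodd : Odd (Nat.card A)) (hRA : ⁅R, A⁆ = R) :
    3 < p ∧ (IsMulCommutative R ∨ ∃ R₁ R₂ : Subgroup G, R₁ ⊔ R₂ = R ∧ (∀ a ∈ R₁, ∀ b ∈ R₂, a * b = b * a) ∧
        ¬ IsMulCommutative R₁ ∧ Nat.card R₁ = p ^ 3 ∧ Monoid.exponent R₁ = p ∧ IsCyclic R₂ ∧
        Subgroup.closure {x : G | x ∈ R₂ ∧ x ^ p = 1} = ⁅R₁, R₁⁆) := by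
  classical
  have hpp : p.Prime := Fact.out
  have hford : ∀ a : A, (conjHom A R hA a) ^ (Nat.card A) = 1 := by
    intro a
    rw [← map_pow, pow_card_eq_one', map_one]
  -- `p ≠ 3`
  have h3 : 3 < p := by
    by_contra hlt
    have hf1 : ∀ a : A, conjHom A R hA a = 1 := by
      intro a
      by_contra hne
      obtain ⟨q, hq, hqd⟩ := Nat.exists_prime_and_dvd
        (n := orderOf (conjHom A R hA a)) (by rwa [Ne, orderOf_eq_one_iff])
      have hqA : q ∣ Nat.card A := hqd.trans (orderOf_dvd_of_pow_eq_one (hford a))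
      have hqp : q ≠ p := by
        rintro rfl
        have h1 : q ∣ Nat.gcd (Nat.card A) q := Nat.dvd_gcd hqA dvd_rfl
        rw [hcop] at h1
        exact hq.one_lt.ne' (Nat.dvd_one.mp h1)
      have hq2 : q ≠ 2 := by
        rintro rfl
        exact (Nat.not_even_iff_odd.mpr hAodd) (even_iff_two_dvd.mpr hqA)
      have hqM : q ∣ Nat.card (MulAut R) := hqd.trans (orderOf_dvd_natCard _)
      obtain ⟨-, hlt'⟩ := Cfsg.Agent.S0640.result hp hR hr q hq hqp hqM
      have := hq.two_le
      have := hpp.two_le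
      omega
    have hbot : ⁅R, A⁆ = ⊥ := by
      rw [Subgroup.commutator_eq_bot_iff_le_centralizer]
      intro r hr'
      rw [Subgroup.mem_centralizer_iff]
      intro a ha
      have h1 : ((conjHom A R hA ⟨a, ha⟩ ⟨r, hr'⟩ : R) : G) = r := by
        rw [hf1 ⟨a, ha⟩]; rfl
      rw [conjHom_apply] at h1
      have h2 : a * r * a⁻¹ = r := h1
      calc a * r = a * r * a⁻¹ * a := by group
        _ = r * a := by rw [h2]
    rw [hbot] at hRA
    exact hR1 hRA.symm
  refine ⟨h3, ?_⟩
  have hmul : ∀ g : R, g ∈ Subgroup.closure {x : R | x ^ p = 1} → g ^ p = 1 := fun g hg =>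
    Cfsg.Agent.S0128.result h3 hR (fun E hE => hr E hE.1 hE.2) g hg
  obtain ⟨W, hWmem⟩ : ∃ W : Subgroup R, ∀ x : R, x ∈ W ↔ x ^ p = 1 :=
    ⟨Subgroup.closure {x : R | x ^ p = 1}, fun x => ⟨hmul x, fun h => Subgroup.subset_closure h⟩⟩
  have hWle : Nat.card W ≤ p ^ 3 := by
    apply Cfsg.Agent.S3771.result (hR.to_subgroup W)
      (Cfsg.Agent.S1335.pRankLE_of_injective p 2 W.subtype W.subtype_injective hr)
    intro x
    have := (hWmem x).mp x.2
    exact Subtype.ext (by simpa using this)
  by_cases hW2 : Nat.card W ≤ p ^ 2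
  · left
    have hO : Nat.card (Cfsg.omegaOne p (⊤ : Subgroup R)) ≤ p ^ 2 := by
      have : Cfsg.omegaOne p (⊤ : Subgroup R) = W := by
        apply le_antisymm
        · unfold Cfsg.omegaOne
          rw [Subgroup.closure_le]
          rintro x ⟨-, hx⟩
          exact (hWmem x).mpr hx
        · intro x hx
          exact Subgroup.subset_closure ⟨Subgroup.mem_top x, (hWmem x).mp hx⟩
      rw [this]; exact hW2
    have hmeta : Cfsg.IsMetacyclic R := Cfsg.Agent.S0639.result h3 hR hO
    have h1 := (Cfsg.Agent.S1447.result p hp R A hR hmeta hA hcop).1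
    rw [hRA] at h1
    exact h1
  · have hWc : Nat.card W = p ^ 3 := by
      obtain ⟨k, hk⟩ := (IsPGroup.iff_card).mp (hR.to_subgroup W)
      rw [hk] at hW2 hWle ⊢
      have hk3 : k ≤ 3 := (Nat.pow_le_pow_iff_right hpp.one_lt).mp hWle
      have hk2 : ¬ k ≤ 2 := fun h => hW2 (Nat.pow_le_pow_right hpp.pos h)
      have : k = 3 := by omega
      rw [this]
    have hWn : ∃ a ∈ W, ∃ b ∈ W, a * b ≠ b * a := by
      by_contra hcon
      push Not at hcon
      have hWcomm : IsMulCommutative W := ⟨⟨fun a b => Subtype.ext (hcon a a.2 b b.2)⟩⟩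
      have h1 := hr W hWcomm (fun a ha => (hWmem a).mp ha)
      rw [hWc] at h1
      have h2 : p ^ 2 < p ^ 3 := Nat.pow_lt_pow_right hpp.one_lt (by norm_num)
      omega
    rcases Cfsg.Agent.Lib.Helper70.Blackburn.core hp hR W hWmem hWc hWn with
      ⟨C, hCcyc, hCW, hWC, hCΩ, hWWC⟩ | ⟨D, hDtop, hD⟩
    · right
      refine ⟨W.map R.subtype, C.map R.subtype, ?_, ?_, ?_, ?_, ?_, ?_, ?_⟩
      · apply le_antisymm
        · exact sup_le (Subgroup.map_subtype_le _) (Subgroup.map_subtype_le _)
        · intro g hg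
          obtain ⟨w, hw, c, hc, hgeq⟩ := hWC ⟨g, hg⟩
          have h1 : g = (w : G) * (c : G) := congrArg Subtype.val hgeq
          rw [h1]
          exact Subgroup.mul_mem _ (Subgroup.mem_sup_left ⟨w, hw, rfl⟩)
            (Subgroup.mem_sup_right ⟨c, hc, rfl⟩)
      · rintro _ ⟨w, hw, rfl⟩ _ ⟨c, hc, rfl⟩
        exact (congrArg Subtype.val (hCW c hc w hw)).symm
      · intro hcomm
        obtain ⟨a, ha, b, hb, hab⟩ := hWn
        apply hab
        have h1 := hcomm.is_comm.comm ⟨(a : G), ⟨a, ha, rfl⟩⟩ ⟨(b : G), ⟨b, hb, rfl⟩⟩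
        have h2 : ((a : R) : G) * (b : G) = (b : G) * (a : G) :=
          congrArg (fun t : W.map R.subtype => (t : G)) h1
        exact Subtype.ext h2
      · rw [Subgroup.card_map_of_injective R.subtype_injective]; exact hWc
      · have hnt : Nontrivial (W.map R.subtype) := by
          obtain ⟨a, ha, b, hb, hab⟩ := hWn
          refine ⟨⟨(a : G), ⟨a, ha, rfl⟩⟩, ⟨(b : G), ⟨b, hb, rfl⟩⟩, ?_⟩
          intro h
          apply hab
          have h1 : ((a : R) : G) = ((b : R) : G) :=
            congrArg (fun t : W.map R.subtype => (t : G)) h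
          have h2 : a = b := Subtype.ext h1
          rw [h2]
        rw [Monoid.exponent_eq_prime_iff hpp]
        intro g hg
        obtain ⟨w, hw, hwg⟩ := g.2
        apply orderOf_eq_prime
        · apply Subtype.ext
          have h1 := (hWmem w).mp hw
          have h2 : (w : G) ^ p = 1 := by
            have := congrArg Subtype.val h1
            simpa using this
          rw [Subgroup.coe_pow, ← hwg]
          exact h2
        · exact hg
      · have e := C.equivMapOfInjective R.subtype R.subtype_injective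
        exact isCyclic_of_surjective e.toMonoidHom e.surjective
      · rw [← Subgroup.map_commutator]
        apply le_antisymm
        · rw [Subgroup.closure_le]
          rintro x ⟨⟨c, hc, rfl⟩, hx⟩
          have hcp : c ^ p = 1 := Subtype.ext (by simpa using hx)
          exact ⟨c, hCΩ c hc hcp, rfl⟩
        · rintro _ ⟨c, hc, rfl⟩
          apply Subgroup.subset_closure
          refine ⟨⟨c, hWWC hc, rfl⟩, ?_⟩
          have hcW : c ∈ W := by
            have hle : ⁅W, W⁆ ≤ W := by
              rw [Subgroup.commutator_le]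
              intro a ha b hb
              rw [commutatorElement_def]
              exact W.mul_mem (W.mul_mem (W.mul_mem ha hb) (W.inv_mem ha)) (W.inv_mem hb)
            exact hle hc
          have h1 := (hWmem c).mp hcW
          have h2 := congrArg Subtype.val h1
          simpa using h2
    · exfalso
      have hle : ⁅R, A⁆ ≤ D.map R.subtype := by
        rw [Subgroup.commutator_le]
        intro r hr' a ha
        have h1 := hD (conjHom A R hA ⟨a, ha⟩) (Nat.card A) hAodd (hford _) ⟨r, hr'⟩
        refine ⟨(conjHom A R hA ⟨a, ha⟩ ⟨r, hr'⟩ * (⟨r, hr'⟩ : R)⁻¹)⁻¹, D.inv_mem h1, ?_⟩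
        show (((conjHom A R hA ⟨a, ha⟩ ⟨r, hr'⟩ : R) : G) * (r : G)⁻¹)⁻¹ = ⁅r, a⁆
        rw [conjHom_apply, commutatorElement_def]
        show (a * r * a⁻¹ * r⁻¹)⁻¹ = r * a * r⁻¹ * a⁻¹
        group
      rw [hRA] at hle
      apply hDtop
      rw [eq_top_iff]
      intro x _
      obtain ⟨d, hd, hdx⟩ := hle x.2
      have h1 : d = x := Subtype.ext hdx
      rwa [h1] at hd

end Cfsg.Agent.S1448
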