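import Cfsg.Statements.S0095
-- import your own Cfsg.Agent.* helpers here

set_option autoImplicit false
open Cfsg

namespace Cfsg.Agent.S0095

open scoped commutatorElement

/-- In a group whose commutators are central and whose centre has prime order `p`, the centralizer
of a non-central (relative to `L`) element has index `p` in `L`. -/
theorem relIndex_centralizer {P : Type*} [Group P] [Finite P] {p : ℕ} [Fact p.Prime]
    (hc : ∀ a b : P, ⁅a, b⁆ ∈ Subgroup.center P) (hZ : Nat.card (Subgroup.center P) = p)
    (L : Subgroup P) (y : P) (g : P) (hg : g ∈ L) (hgy : g * y ≠ y * g) :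
    (L ⊓ Subgroup.centralizer {y}).relIndex L = p := by
  classical
  have hp : p.Prime := Fact.out
  let f : L →* Subgroup.center P := MonoidHom.mk' (fun a => ⟨⁅(a : P), y⁆, hc _ _⟩) (by
    intro a b
    apply Subtype.ext
    show ⁅(a : P) * (b : P), y⁆ = ⁅(a : P), y⁆ * ⁅(b : P), y⁆
    have h1 : ⁅(b : P), y⁆ ∈ Subgroup.center P := hc _ _
    have h2 := (Subgroup.mem_center_iff.mp h1) ((a : P))
    -- h2 : a * ⁅b,y⁆ = ⁅b,y⁆ * a
    simp only [commutatorElement_def] at h2 ⊢
    calc (a : P) * b * y * ((a : P) * b)⁻¹ * y⁻¹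
        = (a : P) * ((b : P) * y * (b : P)⁻¹ * y⁻¹) * y * (a : P)⁻¹ * y⁻¹ := by group
      _ = ((b : P) * y * (b : P)⁻¹ * y⁻¹) * (a : P) * y * (a : P)⁻¹ * y⁻¹ := by rw [h2]
      _ = ((b : P) * y * (b : P)⁻¹ * y⁻¹) * ((a : P) * y * (a : P)⁻¹ * y⁻¹) := by group
      _ = (a : P) * y * (a : P)⁻¹ * y⁻¹ * ((b : P) * y * (b : P)⁻¹ * y⁻¹) := by
          have h3 := (Subgroup.mem_center_iff.mp h1) ((a : P) * y * (a : P)⁻¹ * y⁻¹)
          simp only [commutatorElement_def] at h3
          exact h3.symm)
  have hker : f.ker = (L ⊓ Subgroup.centralizer {y}).subgroupOf L := by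
    ext a
    rw [MonoidHom.mem_ker, Subgroup.mem_subgroupOf, Subgroup.mem_inf,
      Subgroup.mem_centralizer_singleton_iff]
    constructor
    · intro h
      have h' : ⁅(a : P), y⁆ = 1 := congrArg Subtype.val h
      rw [commutatorElement_eq_one_iff_mul_comm] at h'
      exact ⟨a.2, h'⟩
    · rintro ⟨_, h⟩
      apply Subtype.ext
      show ⁅(a : P), y⁆ = 1
      rw [commutatorElement_eq_one_iff_mul_comm]
      exact h
  have h1 : (L ⊓ Subgroup.centralizer {y}).relIndex L = Nat.card f.range := by
    rw [Subgroup.relIndex, ← hker, Subgroup.index_ker]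
  rw [h1]
  have h2 : Nat.card f.range ∣ p := by
    rw [← hZ]; exact Subgroup.card_subgroup_dvd_card _
  rcases (Nat.dvd_prime hp).mp h2 with h3 | h3
  · exfalso
    have h4 : f.range = ⊥ := Subgroup.eq_bot_of_card_eq _ h3
    have h5 : f ⟨g, hg⟩ ∈ f.range := ⟨_, rfl⟩
    rw [h4, Subgroup.mem_bot] at h5
    have h6 : ⁅g, y⁆ = 1 := congrArg Subtype.val h5
    rw [commutatorElement_eq_one_iff_mul_comm] at h6
    exact hgy h6
  · exact h3

theorem relIndex_center_sq {P : Type*} [Group P] [Finite P] {p : ℕ} [Fact p.Prime]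
    (hc : ∀ a b : P, ⁅a, b⁆ ∈ Subgroup.center P) (hZ : Nat.card (Subgroup.center P) = p) :
    ∀ m : ℕ, ∀ H : Subgroup P, Nat.card H = m →
      ∃ k : ℕ, (H ⊓ Subgroup.centralizer (H : Set P)).relIndex H = p ^ (2 * k) := by
  classical
  have hp : p.Prime := Fact.out
  intro m
  induction m using Nat.strong_induction_on with
  | _ m ih =>
    intro H hH
    by_cases hab : ∀ x ∈ H, ∀ y ∈ H, x * y = y * x
    · refine ⟨0, ?_⟩
      have : H ⊓ Subgroup.centralizer (H : Set P) = H := by
        apply inf_eq_left.mpr
        intro x hx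
        rw [Subgroup.mem_centralizer_iff]
        intro y hy
        exact hab y hy x hx
      rw [this]
      simp
    · push Not at hab
      obtain ⟨x, hx, y, hy, hxy⟩ := hab
      set Hx := H ⊓ Subgroup.centralizer {x} with hHx
      set K := Hx ⊓ Subgroup.centralizer {y} with hK
      have hi1 : Hx.relIndex H = p :=
        relIndex_centralizer hc hZ H x y hy (fun h => hxy h.symm)
      have hxHx : x ∈ Hx := Subgroup.mem_inf.mpr ⟨hx, Subgroup.mem_centralizer_singleton_iff.mpr rfl⟩
      have hi2 : K.relIndex Hx = p := relIndex_centralizer hc hZ Hx y x hxHx hxy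
      have hKHx : K ≤ Hx := inf_le_left
      have hHxH : Hx ≤ H := inf_le_left
      have hKH : K ≤ H := hKHx.trans hHxH
      have hyHx : y ∉ Hx := by
        intro h
        have := Subgroup.mem_centralizer_singleton_iff.mp (Subgroup.mem_inf.mp h).2
        exact hxy this.symm
      have hxK : x ∉ K := by
        intro h
        have := Subgroup.mem_centralizer_singleton_iff.mp (Subgroup.mem_inf.mp h).2
        exact hxy this
      have hlt : Nat.card K < m := by
        by_contra hcon
        push Not at hcon
        rw [← hH] at hcon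
        have := Subgroup.eq_of_le_of_card_ge hKH hcon
        exact hyHx (hKHx (this ▸ hy))
      obtain ⟨k, hk⟩ := ih _ hlt K rfl
      have hZeq : K ⊓ Subgroup.centralizer (K : Set P) = H ⊓ Subgroup.centralizer (H : Set P) := by
        apply le_antisymm
        · intro c hcc
          obtain ⟨hcK, hcC⟩ := Subgroup.mem_inf.mp hcc
          refine Subgroup.mem_inf.mpr ⟨hKH hcK, ?_⟩
          set D := H ⊓ Subgroup.centralizer {c} with hD
          have hKD : K ≤ D := by
            intro a ha
            refine Subgroup.mem_inf.mpr ⟨hKH ha, ?_⟩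
            rw [Subgroup.mem_centralizer_singleton_iff]
            exact ((Subgroup.mem_centralizer_iff.mp hcC) a ha)
          have hxD : x ∈ D := by
            refine Subgroup.mem_inf.mpr ⟨hx, ?_⟩
            rw [Subgroup.mem_centralizer_singleton_iff]
            exact (Subgroup.mem_centralizer_singleton_iff.mp (Subgroup.mem_inf.mp (hKHx hcK)).2).symm
          have hyD : y ∈ D := by
            refine Subgroup.mem_inf.mpr ⟨hy, ?_⟩
            rw [Subgroup.mem_centralizer_singleton_iff]
            exact (Subgroup.mem_centralizer_singleton_iff.mp (Subgroup.mem_inf.mp hcK).2).symm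
          have hHxD : Hx ≤ D := by
            have e := Subgroup.relIndex_mul_relIndex K (D ⊓ Hx) Hx (le_inf hKD hKHx) inf_le_right
            rw [hi2] at e
            rcases (Nat.dvd_prime hp).mp (Dvd.intro_left _ e) with h1 | h1
            · exact (Subgroup.relIndex_eq_one.mp h1).trans inf_le_left
            · exfalso
              rw [h1] at e
              have h2 : K.relIndex (D ⊓ Hx) = 1 := by
                have hp0 : 0 < p := hp.pos
                exact Nat.eq_of_mul_eq_mul_right hp0 (by rw [e, one_mul])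
              exact hxK (Subgroup.relIndex_eq_one.mp h2 (Subgroup.mem_inf.mpr ⟨hxD, hxHx⟩))
          have hHD : H ≤ D := by
            have e := Subgroup.relIndex_mul_relIndex Hx D H hHxD inf_le_left
            rw [hi1] at e
            rcases (Nat.dvd_prime hp).mp (Dvd.intro_left _ e) with h1 | h1
            · exact Subgroup.relIndex_eq_one.mp h1
            · exfalso
              rw [h1] at e
              have h2 : Hx.relIndex D = 1 := by
                have hp0 : 0 < p := hp.pos
                exact Nat.eq_of_mul_eq_mul_right hp0 (by rw [e, one_mul])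
              exact hyHx (Subgroup.relIndex_eq_one.mp h2 hyD)
          rw [Subgroup.mem_centralizer_iff]
          intro h hh
          exact Subgroup.mem_centralizer_singleton_iff.mp (Subgroup.mem_inf.mp (hHD hh)).2
        · intro c hcc
          obtain ⟨hcH, hcC⟩ := Subgroup.mem_inf.mp hcc
          have hcx : x * c = c * x := (Subgroup.mem_centralizer_iff.mp hcC) x hx
          have hcy : y * c = c * y := (Subgroup.mem_centralizer_iff.mp hcC) y hy
          refine Subgroup.mem_inf.mpr ⟨Subgroup.mem_inf.mpr ⟨Subgroup.mem_inf.mpr ⟨hcH, ?_⟩, ?_⟩, ?_⟩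
          · rw [Subgroup.mem_centralizer_singleton_iff]; exact hcx.symm
          · rw [Subgroup.mem_centralizer_singleton_iff]; exact hcy.symm
          · rw [Subgroup.mem_centralizer_iff]
            intro a ha
            exact (Subgroup.mem_centralizer_iff.mp hcC) a (hKH ha)
      refine ⟨k + 1, ?_⟩
      rw [← hZeq]
      have e1 := Subgroup.relIndex_mul_relIndex (K ⊓ Subgroup.centralizer (K : Set P)) K Hx
        inf_le_left hKHx
      have e2 := Subgroup.relIndex_mul_relIndex (K ⊓ Subgroup.centralizer (K : Set P)) Hx H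
        (inf_le_left.trans hKHx) hHxH
      rw [← e2, ← e1, hk, hi1, hi2]
      ring

/-- The order of an extraspecial p-group is an odd power p^(2n+1) of p with n ≥ 1. -/
theorem result {P : Type*} [Group P] [Finite P] {p : ℕ} [Fact p.Prime] (h : Cfsg.IsExtraspecial p P) : ∃ n : ℕ, 1 ≤ n ∧ Nat.card P = p ^ (2 * n + 1) := by
  classical
  have hp : p.Prime := Fact.out
  obtain ⟨⟨_, _, hcomm⟩, hZ⟩ := h
  have hc : ∀ a b : P, ⁅a, b⁆ ∈ Subgroup.center P := by
    intro a b
    rw [← hcomm, commutator_def]
    exact Subgroup.commutator_mem_commutator (Subgroup.mem_top a) (Subgroup.mem_top b)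
  obtain ⟨k, hk⟩ := relIndex_center_sq hc hZ _ (⊤ : Subgroup P) rfl
  rw [Subgroup.coe_top, Subgroup.centralizer_univ, top_inf_eq, Subgroup.relIndex_top_right] at hk
  have hcard : Nat.card P = p ^ (2 * k + 1) := by
    rw [← Subgroup.card_mul_index (Subgroup.center P), hZ, hk]
    ring
  refine ⟨k, ?_, hcard⟩
  by_contra hk0
  have hk0' : k = 0 := by omega
  subst hk0'
  simp only [Nat.mul_zero, pow_zero] at hk
  have htop : Subgroup.center P = ⊤ := Subgroup.index_eq_one.mp hk
  have hbot : commutator P = ⊥ := by
    rw [commutator_def, Subgroup.commutator_eq_bot_iff_le_centralizer, Subgroup.coe_top,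
      Subgroup.centralizer_univ, htop]
  rw [hcomm] at hbot
  rw [hbot] at hZ
  simp at hZ
  exact hp.one_lt.ne hZ

end Cfsg.Agent.S0095
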