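import Cfsg.Statements.S0178
import Mathlib
import Cfsg.Agent.Lib.Helper3.Irr

set_option autoImplicit false
open Cfsg

namespace Cfsg.Agent.S0178

open Cfsg.Agent.Lib.Helper3.Irr


/-- The degree of an irreducible complex representation of a finite group is at most the index of any abelian subgroup. -/
theorem result {G : Type*} [Group G] [Finite G] {V : Type*} [AddCommGroup V] [Module ℂ V] [FiniteDimensional ℂ V] (ρ : Representation ℂ G V) [ρ.IsIrreducible] (A : Subgroup G) (hA : ∀ a ∈ A, ∀ b ∈ A, a * b = b * a) : Module.finrank ℂ V ≤ A.index := by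
  classical
  have hVnt : Nontrivial V := nontrivial_of_isIrreducible ρ
  -- each ρ a is semisimple
  have hss : ∀ g : G, Module.End.IsSemisimple (ρ g : Module.End ℂ V) := by
    intro g
    have hsep : (Polynomial.X ^ orderOf g - 1 : Polynomial ℂ).Separable :=
      Polynomial.X_pow_sub_one_separable_iff.2 (by exact_mod_cast (orderOf_pos g).ne')
    refine Module.End.isSemisimple_of_squarefree_aeval_eq_zero hsep.squarefree ?_
    have hpow : (ρ g) ^ orderOf g = 1 := by rw [← map_pow, pow_orderOf_eq_one, map_one]
    simp [hpow]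
  -- a common eigenvector for A
  let f : A → Module.End ℂ V := fun a => ρ (a : G)
  have hcomm : Pairwise fun i j => Commute (f i) (f j) := by
    intro a b _
    show ρ (a : G) * ρ (b : G) = ρ (b : G) * ρ (a : G)
    rw [← map_mul, ← map_mul, hA a a.2 b b.2]
  have htop := Module.End.iSup_iInf_maxGenEigenspace_eq_top_of_iSup_maxGenEigenspace_eq_top_of_commute
    f hcomm (fun a => Module.End.iSup_maxGenEigenspace_eq_top (f a))
  obtain ⟨χ, hχ⟩ : ∃ χ : A → ℂ, (⨅ a, (f a).maxGenEigenspace (χ a)) ≠ ⊥ := by
    by_contra hcon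
    push Not at hcon
    rw [iSup_congr hcon, iSup_bot] at htop
    exact bot_ne_top htop
  obtain ⟨v, hv, hv0⟩ := (Submodule.ne_bot_iff _).1 hχ
  have heig : ∀ a : A, ρ (a : G) v = χ a • v := by
    intro a
    have h1 : v ∈ (f a).maxGenEigenspace (χ a) := (Submodule.mem_iInf _).1 hv a
    rw [(Module.End.isFinitelySemisimple_iff_isSemisimple.mpr (hss a)).maxGenEigenspace_eq_eigenspace]
      at h1
    exact Module.End.mem_eigenspace_iff.1 h1
  -- the span of the orbit of v is everything
  let W : Subrepresentation ρ :=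
    { toSubmodule := Submodule.span ℂ (Set.range (fun g : G => ρ g v))
      apply_mem_toSubmodule := by
        intro h w hw
        have h1 : Submodule.map (ρ h) (Submodule.span ℂ (Set.range (fun g : G => ρ g v)))
            ≤ Submodule.span ℂ (Set.range (fun g : G => ρ g v)) := by
          rw [Submodule.map_span, Submodule.span_le]
          rintro _ ⟨_, ⟨g, rfl⟩, rfl⟩
          apply Submodule.subset_span
          refine ⟨h * g, ?_⟩
          simp [map_mul]
        exact h1 (Submodule.mem_map_of_mem hw) }
  have hvW : v ∈ W.toSubmodule := Submodule.subset_span ⟨1, by simp⟩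
  have hW : W = ⊤ := by
    rcases eq_bot_or_eq_top W with h | h
    · exfalso
      have h2 : v ∈ (⊥ : Subrepresentation ρ).toSubmodule := by rw [← h]; exact hvW
      exact hv0 h2
    · exact h
  have hWtop : Submodule.span ℂ (Set.range (fun g : G => ρ g v)) = ⊤ := by
    have := congrArg Subrepresentation.toSubmodule hW
    exact this
  have hle : Submodule.span ℂ (Set.range (fun g : G => ρ g v))
      ≤ Submodule.span ℂ (Set.range (fun q : G ⧸ A => ρ (q.out) v)) := by
    rw [Submodule.span_le]
    rintro _ ⟨g, rfl⟩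
    obtain ⟨a, ha⟩ := QuotientGroup.mk_out_eq_mul A g
    have hg : g = (QuotientGroup.mk g : G ⧸ A).out * ((a⁻¹ : A) : G) := by
      rw [ha]; simp
    have h1 : ρ g v = χ a⁻¹ • ρ ((QuotientGroup.mk g : G ⧸ A).out) v := by
      conv_lhs => rw [hg]
      rw [map_mul, Module.End.mul_apply, heig, map_smul]
    show ρ g v ∈ _
    rw [h1]
    exact Submodule.smul_mem _ _ (Submodule.subset_span ⟨_, rfl⟩)
  have : Fintype (G ⧸ A) := Fintype.ofFinite _
  have h3 : Submodule.span ℂ (Set.range (fun q : G ⧸ A => ρ (q.out) v)) = ⊤ := by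
    rw [eq_top_iff, ← hWtop]
    exact hle
  calc Module.finrank ℂ V = Module.finrank ℂ (⊤ : Submodule ℂ V) := (finrank_top ℂ V).symm
    _ = (Set.range (fun q : G ⧸ A => ρ (q.out) v)).finrank ℂ := by rw [Set.finrank, h3]
    _ ≤ Fintype.card (G ⧸ A) := finrank_range_le_card _
    _ = A.index := by rw [Subgroup.index_eq_card, Nat.card_eq_fintype_card]

end Cfsg.Agent.S0178
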