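import Cfsg.Statements.S0177
import Mathlib
import Cfsg.Agent.Lib.Helper3.Irr
import Cfsg.Agent.Lib.CT.NormOne
import Cfsg.Agent.Lib.CT.Ops
import Cfsg.Agent.Lib.CT.LinChar
import Cfsg.Agent.Lib.CT.FrobRec
import Cfsg.Agent.Lib.CT.IndChar
import Cfsg.Agent.S0178

set_option autoImplicit false
open Cfsg

namespace Cfsg.Agent.S0177

open Cfsg.Agent.Lib.Helper3.Irr Cfsg.Agent.Lib.CT.FrobRec

universe u

open Classical in
/-- `|A|` on the generators of `A`, zero elsewhere. -/
noncomputable def genFun (A : Type u) [Group A] : A → ℂ :=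
  fun a => if Subgroup.zpowers a = ⊤ then (Nat.card A : ℂ) else 0

/-- The integer span of the linear characters. -/
def linSpan (A : Type u) [Group A] : AddSubgroup (A → ℂ) :=
  AddSubgroup.closure {f | ∃ μ : A →* ℂˣ, f = fun a => ((μ a : ℂˣ) : ℂ)}

/-- The integer span of the functions induced from linear characters of cyclic subgroups. -/
def artinSpan (G : Type u) [Group G] [Fintype G] : AddSubgroup (G → ℂ) :=
  AddSubgroup.closure {f | ∃ (B : Subgroup G) (_ : IsCyclic B) (μ : B →* ℂˣ),
    f = indFun B (fun b => ((μ b : ℂˣ) : ℂ))}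

theorem zpowers_subtype_eq_top_iff {G : Type u} [Group G] (B : Subgroup G) (y : G) (hy : y ∈ B) :
    Subgroup.zpowers (⟨y, hy⟩ : B) = ⊤ ↔ Subgroup.zpowers y = B := by
  have h1 : (Subgroup.zpowers (⟨y, hy⟩ : B)).map B.subtype = Subgroup.zpowers y := by
    rw [MonoidHom.map_zpowers]
    rfl
  have h2 : (⊤ : Subgroup B).map B.subtype = B := by
    rw [← MonoidHom.range_eq_map, Subgroup.range_subtype]
  constructor
  · intro h
    rw [← h1, h, h2]
  · intro h
    apply Subgroup.map_injective B.subtype_injective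
    rw [h1, h2, h]

open Classical in
theorem extendByZero_genFun {G : Type u} [Group G] (B : Subgroup G) (y : G) :
    extendByZero B (genFun B) y = if Subgroup.zpowers y = B then (Nat.card B : ℂ) else 0 := by
  by_cases hy : y ∈ B
  · rw [extendByZero_apply_of_mem B _ hy]
    unfold genFun
    by_cases h : Subgroup.zpowers y = B
    · rw [if_pos h, if_pos ((zpowers_subtype_eq_top_iff B y hy).2 h)]
    · rw [if_neg h, if_neg (fun h' => h ((zpowers_subtype_eq_top_iff B y hy).1 h'))]
  · rw [extendByZero_apply_of_not_mem B _ hy, if_neg]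
    intro h
    apply hy
    rw [← h]
    exact Subgroup.mem_zpowers y

theorem sum_indFun_genFun {G : Type u} [Group G] [Fintype G] [Fintype (Subgroup G)] :
    ∑ B : Subgroup G, indFun B (genFun B) = fun _ => (Nat.card G : ℂ) := by
  classical
  funext g
  rw [Finset.sum_apply]
  have h1 : ∀ B : Subgroup G, indFun B (genFun B) g
      = ∑ x : G, if Subgroup.zpowers (x⁻¹ * g * x) = B then (1 : ℂ) else 0 := by
    intro B
    rw [indFun_apply, Finset.mul_sum]
    refine Finset.sum_congr rfl (fun x _ => ?_)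
    rw [extendByZero_genFun]
    have hB : (Nat.card B : ℂ) ≠ 0 := by exact_mod_cast Nat.card_pos.ne'
    split_ifs
    · exact inv_mul_cancel₀ hB
    · exact mul_zero _
  simp only [h1]
  rw [Finset.sum_comm]
  simp only [Finset.sum_ite_eq, Finset.mem_univ, if_true]
  simp [Nat.card_eq_fintype_card]

theorem indFun_top {A : Type u} [Group A] [Fintype A] (hcomm : ∀ a b : A, a * b = b * a) :
    indFun (⊤ : Subgroup A) (genFun (⊤ : Subgroup A)) = genFun A := by
  classical
  funext a
  rw [indFun_apply]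
  simp only [extendByZero_genFun]
  have h : ∀ x : A, x⁻¹ * a * x = a := fun x => by
    rw [mul_assoc, hcomm a x, inv_mul_cancel_left]
  have h' : ∑ x : A, (if Subgroup.zpowers (x⁻¹ * a * x) = ⊤
        then (Nat.card (⊤ : Subgroup A) : ℂ) else 0)
      = ∑ x : A, (if Subgroup.zpowers a = ⊤ then (Nat.card (⊤ : Subgroup A) : ℂ) else 0) :=
    Finset.sum_congr rfl (fun x _ => by rw [h x])
  rw [h']
  rw [Finset.sum_const, Finset.card_univ, Subgroup.card_top, ← Nat.card_eq_fintype_card]
  have hA : (Nat.card A : ℂ) ≠ 0 := by exact_mod_cast Nat.card_pos.ne'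
  unfold genFun
  split_ifs
  · rw [nsmul_eq_mul]
    field_simp
  · simp

theorem irr_apply_one_of_comm {A : Type u} [Group A] [Finite A] (hcomm : ∀ a b : A, a * b = b * a)
    {φ : A → ℂ} (hφ : IsIrrCharacter A φ) : φ 1 = 1 := by
  obtain ⟨n, ρ, hirr, rfl⟩ := hφ
  haveI := hirr
  have h1 := Cfsg.Agent.S0178.result ρ (⊤ : Subgroup A) (fun a _ b _ => hcomm a b)
  have h2 := finrank_pos_of_isIrreducible ρ
  rw [Subgroup.index_top] at h1
  have h3 : Module.finrank ℂ (Fin n → ℂ) = 1 := le_antisymm h1 h2
  rw [Representation.char_one, h3]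
  simp

theorem char_mem_linSpan {A : Type u} [Group A] [Fintype A] (hcomm : ∀ a b : A, a * b = b * a)
    {ψ : A → ℂ} (hψ : IsCharacter A ψ) : ψ ∈ linSpan A := by
  classical
  have := finite_irrCharacter (G := A)
  haveI : Fintype (IrrCharacter A) := Fintype.ofFinite _
  obtain ⟨m, -, hexp⟩ := Cfsg.Agent.Lib.CT.NormOne.exists_mult_sum hψ
  rw [hexp]
  apply sum_mem
  intro φ _
  have h1 : ((m φ : ℂ) • (φ : A → ℂ)) = (m φ) • (φ : A → ℂ) := by
    funext a
    simp
  rw [h1]
  apply nsmul_mem
  obtain ⟨f, hf⟩ := Cfsg.Agent.Lib.CT.LinChar.exists_hom_of_isCharacter (φ : A → ℂ)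
    (IsIrrCharacter.isCharacter φ.2) (irr_apply_one_of_comm hcomm φ.2)
  exact AddSubgroup.subset_closure ⟨f, funext hf⟩

theorem indFun_mem_linSpan {A : Type u} [Group A] [Fintype A] (hcomm : ∀ a b : A, a * b = b * a)
    (B : Subgroup A) {f : B → ℂ} (hf : f ∈ linSpan B) : indFun B f ∈ linSpan A := by
  unfold linSpan at hf
  induction hf using AddSubgroup.closure_induction with
  | mem x hx =>
    obtain ⟨μ, rfl⟩ := hx
    exact char_mem_linSpan hcomm (Cfsg.Agent.Lib.CT.IndChar.isCharacter_indFun B _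
      (Cfsg.Agent.Lib.CT.LinChar.isCharacter_of_hom μ))
  | zero => rw [indFun_zero]; exact zero_mem _
  | add x y _ _ hx hy => rw [indFun_add]; exact add_mem hx hy
  | neg x _ hx => rw [indFun_neg]; exact neg_mem hx

theorem linSpan_mul {A : Type u} [Group A] {f g : A → ℂ} (hf : f ∈ linSpan A)
    (hg : g ∈ linSpan A) : f * g ∈ linSpan A := by
  unfold linSpan at hf
  induction hf using AddSubgroup.closure_induction with
  | mem x hx =>
    obtain ⟨μ, rfl⟩ := hx
    unfold linSpan at hg
    induction hg using AddSubgroup.closure_induction with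
    | mem y hy =>
      obtain ⟨ν, rfl⟩ := hy
      refine AddSubgroup.subset_closure ⟨μ * ν, ?_⟩
      funext a
      simp
    | zero => rw [mul_zero]; exact zero_mem _
    | add x y _ _ hx hy => rw [mul_add]; exact add_mem hx hy
    | neg x _ hx => rw [mul_neg]; exact neg_mem hx
  | zero => rw [zero_mul]; exact zero_mem _
  | add x y _ _ hx hy => rw [add_mul]; exact add_mem hx hy
  | neg x _ hx => rw [neg_mul]; exact neg_mem hx

theorem genFun_mem_linSpan : ∀ (n : ℕ) (A : Type u) [Group A] [Finite A] [IsCyclic A],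
    Nat.card A = n → genFun A ∈ linSpan A := by
  intro n
  induction n using Nat.strong_induction_on with
  | _ n ih =>
    intro A _ _ _ hn
    classical
    haveI : Fintype A := Fintype.ofFinite A
    haveI : Fintype (Subgroup A) := Fintype.ofFinite _
    have hcomm : ∀ a b : A, a * b = b * a := fun a b => by
      letI := IsCyclic.commGroup (α := A)
      exact mul_comm a b
    have hsum := sum_indFun_genFun (G := A)
    rw [← Finset.add_sum_erase Finset.univ _ (Finset.mem_univ (⊤ : Subgroup A)),
      indFun_top hcomm] at hsum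
    have h2 : genFun A = (fun _ => (Nat.card A : ℂ))
        - ∑ B ∈ Finset.univ.erase (⊤ : Subgroup A), indFun B (genFun B) :=
      eq_sub_of_add_eq hsum
    rw [h2]
    apply sub_mem
    · have h3 : (fun _ : A => (Nat.card A : ℂ))
          = (Nat.card A) • (fun a : A => (((1 : A →* ℂˣ) a : ℂˣ) : ℂ)) := by
        funext a
        simp
      rw [h3]
      have h4 : (fun a : A => (((1 : A →* ℂˣ) a : ℂˣ) : ℂ)) ∈ linSpan A :=
        AddSubgroup.subset_closure ⟨1, rfl⟩
      exact nsmul_mem h4 _
    · apply sum_mem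
      intro B hB
      have hBne : B ≠ ⊤ := Finset.ne_of_mem_erase hB
      have hlt : Nat.card B < n := by
        rw [← hn]
        rcases lt_or_eq_of_le (Subgroup.card_le_card_group B) with h | h
        · exact h
        · exact absurd (Subgroup.eq_top_of_card_eq B h) hBne
      exact indFun_mem_linSpan hcomm B (ih (Nat.card B) hlt B rfl)

theorem indFun_mem_artinSpan {G : Type u} [Group G] [Fintype G] (B : Subgroup G) [IsCyclic B]
    {f : B → ℂ} (hf : f ∈ linSpan B) : indFun B f ∈ artinSpan G := by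
  unfold linSpan at hf
  induction hf using AddSubgroup.closure_induction with
  | mem x hx =>
    obtain ⟨μ, rfl⟩ := hx
    exact AddSubgroup.subset_closure ⟨B, inferInstance, μ, rfl⟩
  | zero => rw [indFun_zero]; exact zero_mem _
  | add x y _ _ hx hy => rw [indFun_add]; exact add_mem hx hy
  | neg x _ hx => rw [indFun_neg]; exact neg_mem hx

theorem neg_list_sum {G : Type u} [Group G] [Fintype G]
    (l : List ((A : Subgroup G) × ((A →* ℂˣ) × ℤ))) :
    -(l.map fun t => (t.2.2 : ℂ) • Cfsg.indFun t.1 (fun a => (t.2.1 a : ℂ))).sum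
      = (l.map ((fun t : ((A : Subgroup G) × ((A →* ℂˣ) × ℤ)) =>
          (t.2.2 : ℂ) • Cfsg.indFun t.1 (fun a => (t.2.1 a : ℂ))) ∘
        (fun t : ((A : Subgroup G) × ((A →* ℂˣ) × ℤ)) =>
          (⟨t.1, (t.2.1, -t.2.2)⟩ : (A : Subgroup G) × ((A →* ℂˣ) × ℤ))))).sum := by
  induction l with
  | nil => simp
  | cons a l ih =>
    rw [List.map_cons, List.sum_cons, List.map_cons, List.sum_cons, neg_add, ih]
    congr 1
    simp

theorem exists_list_of_mem_artinSpan {G : Type u} [Group G] [Fintype G] {f : G → ℂ}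
    (hf : f ∈ artinSpan G) :
    ∃ l : List ((A : Subgroup G) × ((A →* ℂˣ) × ℤ)), (∀ t ∈ l, IsCyclic t.1) ∧
      f = (l.map fun t => (t.2.2 : ℂ) • Cfsg.indFun t.1 (fun a => (t.2.1 a : ℂ))).sum := by
  unfold artinSpan at hf
  induction hf using AddSubgroup.closure_induction with
  | mem x hx =>
    obtain ⟨B, hB, μ, rfl⟩ := hx
    refine ⟨[⟨B, (μ, 1)⟩], ?_, ?_⟩
    · intro t ht
      rw [List.mem_singleton] at ht
      subst ht
      exact hB
    · simp
  | zero => exact ⟨[], by simp, by simp⟩
  | add x y _ _ hx hy =>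
    obtain ⟨l₁, h₁, rfl⟩ := hx
    obtain ⟨l₂, h₂, rfl⟩ := hy
    refine ⟨l₁ ++ l₂, ?_, ?_⟩
    · intro t ht
      rcases List.mem_append.1 ht with h | h
      · exact h₁ t h
      · exact h₂ t h
    · rw [List.map_append, List.sum_append]
  | neg x _ hx =>
    obtain ⟨l, h₁, rfl⟩ := hx
    refine ⟨l.map (fun t : ((A : Subgroup G) × ((A →* ℂˣ) × ℤ)) =>
      (⟨t.1, (t.2.1, -t.2.2)⟩ : (A : Subgroup G) × ((A →* ℂˣ) × ℤ))), ?_, ?_⟩
    · intro t ht
      obtain ⟨s, hs, rfl⟩ := List.mem_map.1 ht
      exact h₁ s hs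
    · rw [List.map_map]
      exact neg_list_sum l

/-- The Artin induction Theorem: for a character χ of a finite group, |G| • χ is a ℤ-linear combination of functions induced from homomorphisms of cyclic subgroups into ℂˣ. -/
theorem result {G : Type*} [Group G] [Fintype G] (χ : G → ℂ) (hχ : Cfsg.IsCharacter G χ) : ∃ l : List ((A : Subgroup G) × ((A →* ℂˣ) × ℤ)), (∀ t ∈ l, IsCyclic t.1) ∧ (Nat.card G : ℂ) • χ = (l.map fun t => (t.2.2 : ℂ) • Cfsg.indFun t.1 (fun a => (t.2.1 a : ℂ))).sum := by
  classical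
  apply exists_list_of_mem_artinSpan
  haveI : Fintype (Subgroup G) := Fintype.ofFinite _
  have h1 : (Nat.card G : ℂ) • χ
      = ∑ B : Subgroup G, indFun B (fun b : B => genFun B b * χ b) := by
    have h2 : ∀ B : Subgroup G, indFun B (fun b : B => genFun B b * χ b)
        = indFun B (genFun B) * χ :=
      fun B => indFun_mul_classFunction B (genFun B) χ (IsCharacter.isClassFunction hχ)
    simp only [h2]
    rw [← Finset.sum_mul, sum_indFun_genFun]
    funext g
    simp
  rw [h1]
  apply sum_mem
  intro B _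
  by_cases hB : IsCyclic B
  · apply indFun_mem_artinSpan B
    have hcomm : ∀ a b : B, a * b = b * a := fun a b => by
      letI := IsCyclic.commGroup (α := B)
      exact mul_comm a b
    exact linSpan_mul (genFun_mem_linSpan _ B rfl)
      (char_mem_linSpan hcomm (Cfsg.Agent.Lib.CT.Ops.isCharacter_restrict B hχ))
  · have h0 : (fun b : B => genFun B b * χ b) = 0 := by
      funext b
      have : genFun B b = 0 := by
        unfold genFun
        rw [if_neg]
        intro h
        apply hB
        exact ⟨⟨b, fun x => by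
          have : x ∈ Subgroup.zpowers b := by rw [h]; exact Subgroup.mem_top x
          exact this⟩⟩
      rw [this, zero_mul]
      rfl
    rw [h0, indFun_zero]
    exact zero_mem _

end Cfsg.Agent.S0177
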