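import Cfsg.Statements.S0170
import Mathlib
import Cfsg.Agent.Lib.Helper3.Irr
import Cfsg.Agent.Lib.CT.NormOne
import Cfsg.Agent.Lib.CT.Ops
import Cfsg.Agent.Lib.CT.Orth
import Cfsg.Agent.Lib.CT.FrobRec
import Cfsg.Agent.Lib.CT.IndChar
import Cfsg.Agent.S0150

set_option autoImplicit false
open Cfsg

namespace Cfsg.Agent.S0170

open Cfsg.Agent.Lib.Helper3.Irr Cfsg.Agent.Lib.CT.FrobRec
open scoped ComplexConjugate

section Comb

variable {I : Type*} [Fintype I] [DecidableEq I]

theorem sum_delta (a b c e : I) :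
    ∑ ψ : I, ((if ψ = a then (1 : ℤ) else 0) - (if ψ = b then 1 else 0))
        * ((if ψ = c then (1 : ℤ) else 0) - (if ψ = e then 1 else 0))
      = (if a = c then (1 : ℤ) else 0) - (if a = e then 1 else 0) - (if b = c then 1 else 0)
        + (if b = e then 1 else 0) := by
  simp only [sub_mul, mul_sub, Finset.sum_sub_distrib, ite_mul, one_mul, zero_mul,
    Finset.sum_ite_eq', Finset.mem_univ, if_true]
  ring

/-- An integer vector of norm two, orthogonal to a positive vector, is a difference of two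
distinct basis vectors. -/
theorem norm_two (w : I → ℤ) (d : I → ℤ) (hd : ∀ ψ, 0 < d ψ)
    (h2 : ∑ ψ, w ψ * w ψ = 2) (h0 : ∑ ψ, w ψ * d ψ = 0) :
    ∃ a b : I, a ≠ b ∧ w = fun ψ => (if ψ = a then (1 : ℤ) else 0) - (if ψ = b then 1 else 0) := by
  have hle : ∀ ψ, w ψ * w ψ ≤ 2 := by
    intro ψ
    rw [← h2]
    exact Finset.single_le_sum (f := fun ψ => w ψ * w ψ) (fun i _ => mul_self_nonneg (w i))
      (Finset.mem_univ ψ)
  have hrange : ∀ ψ, -1 ≤ w ψ ∧ w ψ ≤ 1 := by
    intro ψ
    have := hle ψ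
    constructor <;> nlinarith
  have hsq : ∀ ψ, w ψ * w ψ = if w ψ ≠ 0 then 1 else 0 := by
    intro ψ
    obtain ⟨h1, h2⟩ := hrange ψ
    have h3 : w ψ = -1 ∨ w ψ = 0 ∨ w ψ = 1 := by omega
    rcases h3 with h | h | h <;> simp [h]
  have hcard : (Finset.univ.filter (fun ψ => w ψ ≠ 0)).card = 2 := by
    have h3 : ∑ ψ, w ψ * w ψ = ((Finset.univ.filter (fun ψ => w ψ ≠ 0)).card : ℤ) := by
      simp only [hsq]
      rw [Finset.sum_boole]
    rw [h2] at h3
    exact_mod_cast h3.symm
  obtain ⟨x, y, hxy, hs⟩ := Finset.card_eq_two.1 hcard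
  have hx : w x ≠ 0 := by
    have : x ∈ Finset.univ.filter (fun ψ => w ψ ≠ 0) := by rw [hs]; simp
    simpa using this
  have hy : w y ≠ 0 := by
    have : y ∈ Finset.univ.filter (fun ψ => w ψ ≠ 0) := by rw [hs]; simp
    simpa using this
  have hz : ∀ ψ, ψ ≠ x → ψ ≠ y → w ψ = 0 := by
    intro ψ h1 h2
    by_contra h
    have : ψ ∈ Finset.univ.filter (fun ψ => w ψ ≠ 0) := by simpa using h
    rw [hs] at this
    simp at this
    tauto
  have hsum : ∑ ψ, w ψ * d ψ = w x * d x + w y * d y := by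
    rw [← Finset.sum_subset (Finset.subset_univ ({x, y} : Finset I))]
    · rw [Finset.sum_pair hxy]
    · intro ψ _ hψ
      simp only [Finset.mem_insert, Finset.mem_singleton, not_or] at hψ
      rw [hz ψ hψ.1 hψ.2, zero_mul]
  rw [hsum] at h0
  have hdx := hd x
  have hdy := hd y
  obtain ⟨hx1, hx2⟩ := hrange x
  obtain ⟨hy1, hy2⟩ := hrange y
  have hx' : w x = 1 ∨ w x = -1 := by omega
  have hy' : w y = 1 ∨ w y = -1 := by omega
  rcases hx' with hx' | hx' <;> rcases hy' with hy' | hy'
  · exfalso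
    rw [hx', hy'] at h0
    linarith
  · refine ⟨x, y, hxy, ?_⟩
    funext ψ
    by_cases h1 : ψ = x
    · subst h1
      rw [if_pos rfl, if_neg hxy, hx']
      ring
    · by_cases h2 : ψ = y
      · subst h2
        rw [if_neg h1, if_pos rfl, hy']
        ring
      · rw [if_neg h1, if_neg h2, hz ψ h1 h2]
        ring
  · refine ⟨y, x, hxy.symm, ?_⟩
    funext ψ
    by_cases h1 : ψ = x
    · subst h1
      rw [if_pos rfl, if_neg hxy, hx']
      ring
    · by_cases h2 : ψ = y
      · subst h2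
        rw [if_neg h1, if_pos rfl, hy']
        ring
      · rw [if_neg h1, if_neg h2, hz ψ h1 h2]
        ring
  · exfalso
    rw [hx', hy'] at h0
    linarith

theorem exists_theta {n : ℕ} (hn : 2 ≤ n) (m : Fin n → I → ℤ) (d : I → ℤ) (hd : ∀ ψ, 0 < d ψ)
    (ha : ∀ i j k l, ∑ ψ, (m i ψ - m j ψ) * (m k ψ - m l ψ)
      = (if i = k then (1 : ℤ) else 0) - (if i = l then 1 else 0) - (if j = k then 1 else 0)
        + (if j = l then 1 else 0))
    (hb : ∀ i j, ∑ ψ, (m i ψ - m j ψ) * d ψ = 0) :
    ∃ ε : ℤ, (ε = 1 ∨ ε = -1) ∧ ∃ θ : Fin n → I, Function.Injective θ ∧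
      ∀ i j ψ, m i ψ - m j ψ
        = ε * ((if ψ = θ i then (1 : ℤ) else 0) - (if ψ = θ j then 1 else 0)) := by
  let z : Fin n := ⟨0, by omega⟩
  let o : Fin n := ⟨1, by omega⟩
  have hoz : o ≠ z := by
    intro h
    have := congrArg Fin.val h
    simp [o, z] at this
  have hw : ∀ i, i ≠ z → ∃ a b, a ≠ b ∧ (fun ψ => m i ψ - m z ψ)
      = fun ψ => (if ψ = a then (1 : ℤ) else 0) - (if ψ = b then 1 else 0) := by
    intro i hi
    apply norm_two _ d hd
    · have := ha i z i z
      rw [if_pos rfl, if_neg hi, if_neg (Ne.symm hi), if_pos rfl] at this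
      rw [this]
      norm_num
    · exact hb i z
  haveI : Nonempty I := by
    obtain ⟨a, -, -⟩ := hw o hoz
    exact ⟨a⟩
  choose! a b hab hw using hw
  have hw' : ∀ i, i ≠ z → ∀ ψ, m i ψ - m z ψ
      = (if ψ = a i then (1 : ℤ) else 0) - (if ψ = b i then 1 else 0) :=
    fun i hi ψ => congrFun (hw i hi) ψ
  have hpair : ∀ i k, i ≠ z → k ≠ z → i ≠ k →
      (a i = a k ∧ b i ≠ b k) ∨ (b i = b k ∧ a i ≠ a k) := by
    intro i k hi hk hik
    have key := ha i z k z
    rw [if_neg hik, if_neg hi, if_neg (Ne.symm hk), if_pos rfl] at key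
    simp only [hw' i hi, hw' k hk] at key
    rw [sum_delta] at key
    by_cases h1 : a i = a k
    · by_cases h2 : b i = b k
      · exfalso
        have h3 : a i ≠ b k := by rw [h1]; exact hab k hk
        have h4 : b i ≠ a k := by rw [h2]; exact (hab k hk).symm
        rw [if_pos h1, if_neg h3, if_neg h4, if_pos h2] at key
        norm_num at key
      · exact Or.inl ⟨h1, h2⟩
    · by_cases h2 : b i = b k
      · exact Or.inr ⟨h2, h1⟩
      · exfalso
        rw [if_neg h1, if_neg h2] at key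
        split_ifs at key <;> omega
  have hdich : (∀ i k, i ≠ z → k ≠ z → b i = b k) ∨ (∀ i k, i ≠ z → k ≠ z → a i = a k) := by
    by_cases hB : ∀ i k, i ≠ z → k ≠ z → b i = b k
    · exact Or.inl hB
    · right
      push Not at hB
      obtain ⟨i, k, hi, hk, hbik⟩ := hB
      have hik : i ≠ k := fun h => hbik (by rw [h])
      have haik : a i = a k := by
        rcases hpair i k hi hk hik with h | h
        · exact h.1
        · exact absurd h.1 hbik
      have hall : ∀ l, l ≠ z → a l = a i := by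
        intro l hl
        by_cases hli : l = i
        · rw [hli]
        · by_cases hlk : l = k
          · rw [hlk, haik]
          · rcases hpair l i hl hi hli with h | h
            · exact h.1
            · rcases hpair l k hl hk hlk with h' | h'
              · rw [h'.1, haik]
              · exact absurd (h.1.symm.trans h'.1) hbik
      intro i' k' hi' hk'
      rw [hall i' hi', hall k' hk']
  have hform : ∃ ε : ℤ, (ε = 1 ∨ ε = -1) ∧ ∃ θ : Fin n → I,
      ∀ i j ψ, m i ψ - m j ψ
        = ε * ((if ψ = θ i then (1 : ℤ) else 0) - (if ψ = θ j then 1 else 0)) := by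
    rcases hdich with hB | hA
    · refine ⟨1, Or.inl rfl, fun i => if i = z then b o else a i, ?_⟩
      have hc : ∀ i ψ, m i ψ - m z ψ
          = (if ψ = (if i = z then b o else a i) then (1 : ℤ) else 0)
            - (if ψ = b o then 1 else 0) := by
        intro i ψ
        by_cases hi : i = z
        · rw [if_pos hi, hi]
          ring
        · rw [if_neg hi, hw' i hi, hB i o hi hoz]
      intro i j ψ
      have e1 := hc i ψ
      have e2 := hc j ψ
      simp only
      linarith
    · refine ⟨-1, Or.inr rfl, fun i => if i = z then a o else b i, ?_⟩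
      have hc : ∀ i ψ, m i ψ - m z ψ
          = (if ψ = a o then (1 : ℤ) else 0)
            - (if ψ = (if i = z then a o else b i) then 1 else 0) := by
        intro i ψ
        by_cases hi : i = z
        · rw [if_pos hi, hi]
          ring
        · rw [if_neg hi, hw' i hi, hA i o hi hoz]
      intro i j ψ
      have e1 := hc i ψ
      have e2 := hc j ψ
      simp only
      linarith
  obtain ⟨ε, hε, θ, hθ⟩ := hform
  refine ⟨ε, hε, θ, ?_, hθ⟩
  intro i j hij
  by_contra hne
  have h1 := ha i j i j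
  rw [if_pos rfl, if_neg hne, if_neg (Ne.symm hne), if_pos rfl] at h1
  have h2 : ∀ ψ, m i ψ - m j ψ = 0 := by
    intro ψ
    rw [hθ i j ψ, hij]
    ring
  simp only [h2] at h1
  simp at h1

end Comb

theorem inner_expand {G : Type*} [Group G] [Fintype G] [Fintype (IrrCharacter G)] (f : G → ℂ)
    (c : IrrCharacter G → ℂ) :
    classInner f (∑ ψ : IrrCharacter G, c ψ • (ψ : G → ℂ))
      = ∑ ψ : IrrCharacter G, classInner f (ψ : G → ℂ) * conj (c ψ) := by
  rw [← Cfsg.Agent.Lib.Helper3.Irr.classInner_conj_symm,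
    Cfsg.Agent.Lib.Helper3.Irr.classInner_sum_left, map_sum]
  refine Finset.sum_congr rfl (fun ψ _ => ?_)
  rw [Cfsg.Agent.Lib.Helper3.Irr.classInner_smul_left, map_mul,
    Cfsg.Agent.Lib.Helper3.Irr.classInner_conj_symm, mul_comm]

/-- Exceptional characters. Let S be a subset of a finite group contained in its normalizer N and meeting its conjugates by elements outside N only in the identity. Given n ≥ 2 distinct irreducible characters of N of equal degree that vanish on N away from S, there exist a sign ε and n distinct irreducible characters θ_i of G such that inducing χ_i − χ_j to G gives ε (θ_i − θ_j) for all i, j. -/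
theorem result {G : Type*} [Group G] [Fintype G] (S : Set G) (hSN : S ⊆ Subgroup.normalizer S) (hTI : ∀ g : G, g ∉ Subgroup.normalizer S → ∀ s ∈ S, g * s * g⁻¹ ∈ S → s = 1) (n : ℕ) (hn : 2 ≤ n) (χ : Fin n → (Subgroup.normalizer S → ℂ)) (hirr : ∀ i, Cfsg.IsIrrCharacter (Subgroup.normalizer S) (χ i)) (hinj : Function.Injective χ) (hvan : ∀ i, ∀ x : Subgroup.normalizer S, (x : G) ∉ S → χ i x = 0) (hdeg : ∀ i j, χ i 1 = χ j 1) : ∃ ε : ℂ, (ε = 1 ∨ ε = -1) ∧ ∃ θ : Fin n → (G → ℂ), (∀ i, Cfsg.IsIrrCharacter G (θ i)) ∧ Function.Injective θ ∧ ∀ i j, Cfsg.indFun (Subgroup.normalizer S) (χ i) - Cfsg.indFun (Subgroup.normalizer S) (χ j) = ε • (θ i - θ j) := by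
  classical
  haveI : Fintype (Subgroup.normalizer S) := Fintype.ofFinite _
  have hfin := finite_irrCharacter (G := G)
  haveI : Fintype (IrrCharacter G) := Fintype.ofFinite _
  have hchar : ∀ i, IsCharacter G (indFun (Subgroup.normalizer S) (χ i)) := fun i =>
    Cfsg.Agent.Lib.CT.IndChar.isCharacter_indFun _ (χ i) (IsIrrCharacter.isCharacter (hirr i))
  choose m hm hexp using fun i => Cfsg.Agent.Lib.CT.NormOne.exists_mult_sum (hchar i)
  choose d hdpos hd using fun ψ : IrrCharacter G => IsIrrCharacter.exists_apply_one_pos ψ.2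
  have hcls : ∀ i, IsClassFunction (Subgroup.normalizer S) (χ i) := fun i =>
    IsIrrCharacter.isClassFunction (hirr i)
  have hA : ∀ i j k l, ∑ ψ : IrrCharacter G, ((m i ψ : ℤ) - (m j ψ : ℤ)) * ((m k ψ : ℤ) - (m l ψ : ℤ))
      = (if i = k then (1 : ℤ) else 0) - (if i = l then 1 else 0) - (if j = k then 1 else 0)
        + (if j = l then 1 else 0) := by
    intro i j k l
    have h1 := Cfsg.Agent.S0150.result S hTI hSN (χ i - χ j) (χ k - χ l)
      (Cfsg.Agent.Lib.CT.Orth.isClassFunction_sub (hcls i) (hcls j))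
      (Cfsg.Agent.Lib.CT.Orth.isClassFunction_sub (hcls k) (hcls l))
      (fun x hx => by rw [Pi.sub_apply, hvan i x hx, hvan j x hx, sub_zero])
      (fun x hx => by rw [Pi.sub_apply, hvan k x hx, hvan l x hx, sub_zero])
      (by rw [Pi.sub_apply, hdeg i j, sub_self])
    have horth : ∀ p q : Fin n, classInner (χ p) (χ q) = if p = q then 1 else 0 := by
      intro p q
      have := irr_orthonormal (⟨χ p, hirr p⟩ : IrrCharacter (Subgroup.normalizer S)) ⟨χ q, hirr q⟩
      rw [this]
      by_cases hpq : p = q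
      · rw [if_pos hpq, if_pos (by rw [hpq])]
      · rw [if_neg hpq, if_neg (fun h => hpq (hinj (congrArg Subtype.val h)))]
    have hR : classInner (χ i - χ j) (χ k - χ l)
        = (if i = k then (1 : ℂ) else 0) - (if i = l then 1 else 0) - (if j = k then 1 else 0)
          + (if j = l then 1 else 0) := by
      have e1 : ∀ φ ψ₁ ψ₂ : Subgroup.normalizer S → ℂ, classInner φ (ψ₁ - ψ₂)
          = classInner φ ψ₁ - classInner φ ψ₂ := by
        intro φ ψ₁ ψ₂
        rw [← Cfsg.Agent.Lib.Helper3.Irr.classInner_conj_symm,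
          Cfsg.Agent.Lib.Helper3.Irr.classInner_sub_left, map_sub,
          Cfsg.Agent.Lib.Helper3.Irr.classInner_conj_symm,
          Cfsg.Agent.Lib.Helper3.Irr.classInner_conj_symm]
      rw [Cfsg.Agent.Lib.Helper3.Irr.classInner_sub_left, e1, e1, horth, horth, horth, horth]
      ring
    have hL : classInner (indFun (Subgroup.normalizer S) (χ i - χ j))
        (indFun (Subgroup.normalizer S) (χ k - χ l))
        = ∑ ψ : IrrCharacter G, ((m i ψ : ℂ) - (m j ψ : ℂ)) * ((m k ψ : ℂ) - (m l ψ : ℂ)) := by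
      have e2 : indFun (Subgroup.normalizer S) (χ k - χ l)
          = ∑ ψ : IrrCharacter G, ((m k ψ : ℂ) - (m l ψ : ℂ)) • (ψ : G → ℂ) := by
        rw [indFun_sub, hexp k, hexp l, ← Finset.sum_sub_distrib]
        refine Finset.sum_congr rfl (fun ψ _ => ?_)
        rw [sub_smul]
      rw [e2, inner_expand]
      refine Finset.sum_congr rfl (fun ψ _ => ?_)
      rw [indFun_sub, Cfsg.Agent.Lib.Helper3.Irr.classInner_sub_left, hm i ψ, hm j ψ]
      simp
    rw [hL, hR] at h1
    exact_mod_cast h1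
  have hB : ∀ i j, ∑ ψ : IrrCharacter G, ((m i ψ : ℤ) - (m j ψ : ℤ)) * (d ψ : ℤ) = 0 := by
    intro i j
    have h1 : (indFun (Subgroup.normalizer S) (χ i) - indFun (Subgroup.normalizer S) (χ j)) 1
        = 0 := by
      rw [Pi.sub_apply, indFun_one, indFun_one, hdeg i j, sub_self]
    have h2 : (indFun (Subgroup.normalizer S) (χ i) - indFun (Subgroup.normalizer S) (χ j)) 1
        = ∑ ψ : IrrCharacter G, ((m i ψ : ℂ) - (m j ψ : ℂ)) * (d ψ : ℂ) := by
      rw [hexp i, hexp j, ← Finset.sum_sub_distrib, Finset.sum_apply]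
      refine Finset.sum_congr rfl (fun ψ _ => ?_)
      rw [← sub_smul, Pi.smul_apply, hd ψ, smul_eq_mul]
    rw [h2] at h1
    exact_mod_cast h1
  obtain ⟨ε, hε, θ, hθinj, hθ⟩ := exists_theta hn (fun i ψ => (m i ψ : ℤ)) (fun ψ => (d ψ : ℤ))
    (fun ψ => by exact_mod_cast hdpos ψ) hA hB
  refine ⟨(ε : ℂ), ?_, fun i => (θ i : G → ℂ), fun i => (θ i).2, ?_, ?_⟩
  · rcases hε with rfl | rfl <;> simp
  · intro i j hij
    exact hθinj (Subtype.ext hij)
  · intro i j
    rw [hexp i, hexp j, ← Finset.sum_sub_distrib]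
    have h3 : ∀ ψ : IrrCharacter G, ((m i ψ : ℂ) • (ψ : G → ℂ) - (m j ψ : ℂ) • (ψ : G → ℂ))
        = ((ε : ℂ) * ((if ψ = θ i then (1 : ℂ) else 0) - (if ψ = θ j then 1 else 0)))
          • (ψ : G → ℂ) := by
      intro ψ
      rw [← sub_smul]
      congr 1
      have := hθ i j ψ
      exact_mod_cast this
    simp only [h3]
    simp only [mul_smul, sub_smul, ite_smul, one_smul, zero_smul, smul_sub,
      Finset.sum_sub_distrib, ← Finset.smul_sum, Finset.sum_ite_eq', Finset.mem_univ, if_true]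

end Cfsg.Agent.S0170
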