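import Cfsg.Statements.S1506
import Cfsg.Agent.Lib.CT.FrobRec
import Mathlib

set_option autoImplicit false
open Cfsg

namespace Cfsg.Agent.S1506

open Cfsg.Agent.Lib.CT.FrobRec
open scoped ComplexConjugate

theorem inner_expand4 {X : Type*} [Group X] [Fintype X] (θ A B C : X → ℂ) :
    Cfsg.classInner θ (fun g => 1 - A g - B g + C g) =
      Cfsg.classInner θ (fun _ => 1) - Cfsg.classInner θ A - Cfsg.classInner θ B
        + Cfsg.classInner θ C := by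
  unfold Cfsg.classInner
  simp only [map_sub, map_add, map_one]
  have e : ∀ g : X, θ g * (1 - conj (A g) - conj (B g) + conj (C g)) =
      θ g * 1 - θ g * conj (A g) - θ g * conj (B g) + θ g * conj (C g) := by
    intro g; ring
  simp_rw [e, Finset.sum_add_distrib, Finset.sum_sub_distrib]
  ring

/-- additivity: a(φψ) = a(φ) + a(ψ) − a(1). -/
theorem additivity {G : Type*} [Group G] [Fintype G] (W₁ W₂ : Subgroup G)
    (χ : (↥(W₁ ⊔ W₂) →* ℂˣ) → (G → ℂ)) (hχ : Cfsg.IsCyclicTIFamily W₁ W₂ χ) (θ : G → ℂ)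
    (hθ : Cfsg.IsClassFunction G θ)
    (hθV : ∀ w : ↥(W₁ ⊔ W₂), (w : G) ∉ W₁ → (w : G) ∉ W₂ → θ w = 0)
    (φ ψ : ↥(W₁ ⊔ W₂) →* ℂˣ)
    (hφ₂ : ∀ w : ↥(W₁ ⊔ W₂), (w : G) ∈ W₂ → φ w = 1)
    (hψ₁ : ∀ w : ↥(W₁ ⊔ W₂), (w : G) ∈ W₁ → ψ w = 1) :
    Cfsg.classInner θ (χ (φ * ψ)) =
      Cfsg.classInner θ (χ φ) + Cfsg.classInner θ (χ ψ) - Cfsg.classInner θ (χ 1) := by
  classical
  by_cases h1 : φ = 1
  · subst h1
    have e : (1 : ↥(W₁ ⊔ W₂) →* ℂˣ) * ψ = ψ := by ext w; simp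
    rw [e]; ring
  by_cases h2 : ψ = 1
  · subst h2
    have e : φ * 1 = φ := by ext w; simp
    rw [e]; ring
  have hind := hχ.induced_eq φ ψ h1 h2 hφ₂ hψ₁
  have hfr := frobenius_reciprocity' (W₁ ⊔ W₂)
    (fun w => 1 - (φ w : ℂ) - (ψ w : ℂ) + (φ w : ℂ) * (ψ w : ℂ)) θ hθ
  rw [hind, inner_expand4] at hfr
  have hz : Cfsg.classInner (fun h : ↥(W₁ ⊔ W₂) => θ h)
      (fun w => 1 - (φ w : ℂ) - (ψ w : ℂ) + (φ w : ℂ) * (ψ w : ℂ)) = 0 := by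
    unfold Cfsg.classInner
    rw [Finset.sum_eq_zero, mul_zero]
    intro w _
    beta_reduce
    by_cases hw1 : (w : G) ∈ W₁
    · rw [hψ₁ w hw1]; simp
    by_cases hw2 : (w : G) ∈ W₂
    · rw [hφ₂ w hw2]; simp
    rw [hθV w hw1 hw2, zero_mul]
  rw [hz] at hfr
  have hone : Cfsg.classInner θ (fun _ => 1) = Cfsg.classInner θ (χ 1) := by
    rw [hχ.map_one]
  rw [hone] at hfr
  linear_combination hfr

/-- Let W₁, W₂ ≤ G form a self-normalising cyclic subgroup W = W₁ ⊔ W₂ and χ an orthonormal family of irreducible characters of G up to sign, indexed by the linear characters ω of W, with χ_1 = 1, χ_ω = ω on W outside W₁ ∪ W₂, and the induction identity for (1 − φ)(1 − ψ). Let θ be a class function of G vanishing at every element of W outside W₁ ∪ W₂. For linear characters φ, φ' of W trivial on W₂ and ψ, ψ' trivial on W₁, the inner products a(ω)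 = ⟨θ, χ ω⟩ satisfy a(φψ) + a(φ'ψ') = a(φψ') + a(φ'ψ). -/
theorem result {G : Type*} [Group G] [Fintype G] (W₁ W₂ : Subgroup G) (hW : Cfsg.IsSelfNormalizingCyclic W₁ W₂) (χ : (↥(W₁ ⊔ W₂) →* ℂˣ) → (G → ℂ)) (hχ : Cfsg.IsCyclicTIFamily W₁ W₂ χ) (θ : G → ℂ) (hθ : Cfsg.IsClassFunction G θ) (hθV : ∀ w : ↥(W₁ ⊔ W₂), (w : G) ∉ W₁ → (w : G) ∉ W₂ → θ w = 0) (φ φ' ψ ψ' : ↥(W₁ ⊔ W₂) →* ℂˣ) (hφ₂ : ∀ w : ↥(W₁ ⊔ W₂), (w : G) ∈ W₂ → φ w = 1 ∧ φ' w = 1) (hψ₁ : ∀ w : ↥(W₁ ⊔ W₂), (w : G) ∈ W₁ → ψ w = 1 ∧ ψ' w = 1) : Cfsg.classInner θ (χ (φ * ψ)) + Cfsg.classInner θ (χ (φ' * ψ')) = Cfsg.classInner θ (χ (φ * ψ')) + Cfsg.classInner θ (χ (φ' * ψ)) := by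
  have a1 := additivity W₁ W₂ χ hχ θ hθ hθV φ ψ (fun w hw => (hφ₂ w hw).1) (fun w hw => (hψ₁ w hw).1)
  have a2 := additivity W₁ W₂ χ hχ θ hθ hθV φ' ψ' (fun w hw => (hφ₂ w hw).2) (fun w hw => (hψ₁ w hw).2)
  have a3 := additivity W₁ W₂ χ hχ θ hθ hθV φ ψ' (fun w hw => (hφ₂ w hw).1) (fun w hw => (hψ₁ w hw).2)
  have a4 := additivity W₁ W₂ χ hχ θ hθ hθV φ' ψ (fun w hw => (hφ₂ w hw).2) (fun w hw => (hψ₁ w hw).1)
  rw [a1, a2, a3, a4]; ring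

end Cfsg.Agent.S1506
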