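import Cfsg.Statements.S1507
import Cfsg.Agent.S1506
import Mathlib

set_option autoImplicit false
open Cfsg

namespace Cfsg.Agent.S1507

open Classical in
/-- Pure counting lemma on a matrix of the shape `f i + y j`. -/
theorem comb {I J : Type*} [Finite I] [Finite J] (f : I → ℂ) (y : J → ℂ) (n : ℕ)
    (hI : n ≤ Nat.card I) (hJ : n + 2 ≤ Nat.card J)
    (hfew : Nat.card {p : I × J // f p.1 + y p.2 ≠ 0} < 2 * n) :
    (∀ i j, f i + y j = 0) ∨ (∃ (j₀ : J) (a : ℂ), ∀ i j, f i + y j = if j = j₀ then a else 0) ∨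
      (∃ (i₀ : I) (a : ℂ), ∀ i j, f i + y j = if i = i₀ then a else 0) := by
  classical
  by_cases h0 : ∀ i j, f i + y j = 0
  · exact Or.inl h0
  push Not at h0
  obtain ⟨i₀, j₀, h₀⟩ := h0
  by_cases hf : ∀ i i', f i = f i'
  · right; left
    refine ⟨j₀, f i₀ + y j₀, ?_⟩
    intro i j
    split_ifs with hj
    · rw [hj, hf i i₀]
    · by_contra hne
      have hle : 2 * n ≤ Nat.card {p : I × J // f p.1 + y p.2 ≠ 0} := by
        let F : I ⊕ I → {p : I × J // f p.1 + y p.2 ≠ 0} := fun s =>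
          Sum.elim (fun k => ⟨(k, j₀), by rw [hf k i₀]; exact h₀⟩)
            (fun k => ⟨(k, j), by rw [hf k i]; exact hne⟩) s
        have hF : Function.Injective F := by
          rintro (a | a) (b | b) h
          · simp only [F, Sum.elim_inl, Subtype.mk.injEq, Prod.mk.injEq] at h
            rw [h.1]
          · simp only [F, Sum.elim_inl, Sum.elim_inr, Subtype.mk.injEq, Prod.mk.injEq] at h
            exact absurd h.2.symm hj
          · simp only [F, Sum.elim_inl, Sum.elim_inr, Subtype.mk.injEq, Prod.mk.injEq] at h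
            exact absurd h.2 hj
          · simp only [F, Sum.elim_inr, Subtype.mk.injEq, Prod.mk.injEq] at h
            rw [h.1]
        have h1 := Nat.card_le_card_of_injective F hF
        rw [Nat.card_sum] at h1
        omega
      omega
  by_cases hy : ∀ j j', y j = y j'
  · right; right
    refine ⟨i₀, f i₀ + y j₀, ?_⟩
    intro i j
    split_ifs with hi
    · rw [hi, hy j j₀]
    · by_contra hne
      have hle : 2 * n ≤ Nat.card {p : I × J // f p.1 + y p.2 ≠ 0} := by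
        let F : J ⊕ J → {p : I × J // f p.1 + y p.2 ≠ 0} := fun s =>
          Sum.elim (fun k => ⟨(i₀, k), by rw [hy k j₀]; exact h₀⟩)
            (fun k => ⟨(i, k), by rw [hy k j]; exact hne⟩) s
        have hF : Function.Injective F := by
          rintro (a | a) (b | b) h
          · simp only [F, Sum.elim_inl, Subtype.mk.injEq, Prod.mk.injEq] at h
            rw [h.2]
          · simp only [F, Sum.elim_inl, Sum.elim_inr, Subtype.mk.injEq, Prod.mk.injEq] at h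
            exact absurd h.1.symm hi
          · simp only [F, Sum.elim_inl, Sum.elim_inr, Subtype.mk.injEq, Prod.mk.injEq] at h
            exact absurd h.1 hi
          · simp only [F, Sum.elim_inr, Subtype.mk.injEq, Prod.mk.injEq] at h
            rw [h.2]
        have h1 := Nat.card_le_card_of_injective F hF
        rw [Nat.card_sum] at h1
        omega
      omega
  exfalso
  push Not at hf hy
  obtain ⟨i₁, i₂, hi12⟩ := hf
  obtain ⟨j₁, j₂, hj12⟩ := hy
  have hg : ∀ j, ∃ i, (i = i₁ ∨ i = i₂) ∧ f i + y j ≠ 0 := by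
    intro j
    by_cases h : f i₁ + y j = 0
    · refine ⟨i₂, Or.inr rfl, ?_⟩
      intro h'
      apply hi12
      linear_combination h - h'
    · exact ⟨i₁, Or.inl rfl, h⟩
  have hh : ∀ i, ∃ j, f i + y j ≠ 0 := by
    intro i
    by_cases h : f i + y j₁ = 0
    · refine ⟨j₂, ?_⟩
      intro h'
      apply hj12
      linear_combination h - h'
    · exact ⟨j₁, h⟩
  choose g hg1 hg2 using hg
  choose h hh1 using hh
  let F : J ⊕ {i : I // i ≠ i₁ ∧ i ≠ i₂} → {p : I × J // f p.1 + y p.2 ≠ 0} := fun s =>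
    Sum.elim (fun j => ⟨(g j, j), hg2 j⟩) (fun i => ⟨(i.1, h i.1), hh1 i.1⟩) s
  have hF : Function.Injective F := by
    rintro (a | a) (b | b) e
    · simp only [F, Sum.elim_inl, Subtype.mk.injEq, Prod.mk.injEq] at e
      rw [e.2]
    · simp only [F, Sum.elim_inl, Sum.elim_inr, Subtype.mk.injEq, Prod.mk.injEq] at e
      exfalso
      rcases hg1 a with h' | h'
      · exact b.2.1 (e.1 ▸ h')
      · exact b.2.2 (e.1 ▸ h')
    · simp only [F, Sum.elim_inl, Sum.elim_inr, Subtype.mk.injEq, Prod.mk.injEq] at e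
      exfalso
      rcases hg1 b with h' | h'
      · exact a.2.1 (e.1.symm ▸ h')
      · exact a.2.2 (e.1.symm ▸ h')
    · simp only [F, Sum.elim_inr, Subtype.mk.injEq, Prod.mk.injEq] at e
      congr 1
      exact Subtype.ext e.1
  have h1 := Nat.card_le_card_of_injective F hF
  rw [Nat.card_sum] at h1
  have h2 : Nat.card I ≤ Nat.card {i : I // i ≠ i₁ ∧ i ≠ i₂} + 2 := by
    haveI := Fintype.ofFinite I
    rw [Nat.card_eq_fintype_card, Nat.card_eq_fintype_card, Fintype.card_subtype]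
    have h3 : (Finset.univ.filter (fun i : I => i ≠ i₁ ∧ i ≠ i₂)) = Finset.univ \ {i₁, i₂} := by
      ext i; simp
    rw [h3]
    have h4 := Finset.le_card_sdiff ({i₁, i₂} : Finset I) Finset.univ
    have h5 : ({i₁, i₂} : Finset I).card ≤ 2 := Finset.card_le_two
    rw [Finset.card_univ] at h4
    omega
  omega

theorem card_hom_sub {G : Type*} [Group G] [Finite G] (K : Subgroup G)
    (hK : ∀ a ∈ K, ∀ b ∈ K, a * b = b * a) :
    Nat.card (↥K →* ℂˣ) = Nat.card K := by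
  letI : CommGroup ↥K :=
    { (inferInstance : Group ↥K) with mul_comm := fun a b => Subtype.ext (hK a a.2 b b.2) }
  haveI : NeZero (Monoid.exponent ↥K) := ⟨Monoid.exponent_ne_zero_of_finite⟩
  haveI : NeZero ((Monoid.exponent ↥K : ℕ) : ℂ) := ⟨Nat.cast_ne_zero.mpr (NeZero.ne _)⟩
  exact CommGroup.card_monoidHom_of_hasEnoughRootsOfUnity ↥K ℂ

/-- the direct product decomposition of `W₁ ⊔ W₂`. -/
theorem exists_prodEquiv {G : Type*} [Group G] (W₁ W₂ : Subgroup G) (hdisj : W₁ ⊓ W₂ = ⊥)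
    (hcomm : ∀ a ∈ W₁, ∀ b ∈ W₂, a * b = b * a) :
    ∃ e : (↥W₁ × ↥W₂) ≃* ↥(W₁ ⊔ W₂), ∀ p : ↥W₁ × ↥W₂, ((e p : ↥(W₁ ⊔ W₂)) : G) = p.1 * p.2 := by
  have comm : ∀ (m : ↥W₁) (n : ↥W₂), Commute (W₁.subtype m) (W₂.subtype n) :=
    fun m n => hcomm m m.2 n n.2
  let F : ↥W₁ × ↥W₂ →* G := MonoidHom.noncommCoprod W₁.subtype W₂.subtype comm
  have hF : Function.Injective F := by
    rw [MonoidHom.noncommCoprod_injective]
    refine ⟨W₁.subtype_injective, W₂.subtype_injective, ?_⟩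
    rw [Subgroup.range_subtype, Subgroup.range_subtype, disjoint_iff, hdisj]
  have hr : F.range = W₁ ⊔ W₂ := by
    rw [MonoidHom.noncommCoprod_range, Subgroup.range_subtype, Subgroup.range_subtype]
  refine ⟨(MonoidHom.ofInjective hF).trans (MulEquiv.subgroupCongr hr), ?_⟩
  intro p
  rfl

open Classical in
/-- Let W₁, W₂ ≤ G form a self-normalising cyclic subgroup W = W₁ ⊔ W₂ of odd order with Nat.card W₁ < Nat.card W₂, and χ an orthonormal family of irreducible characters of G up to sign, indexed by the linear characters ω of W, with χ_1 = 1, χ_ω = ω on W outside W₁ ∪ W₂, and the induction identity for (1 − φ)(1 − ψ). Let θ be a class function of G vanishing on W outside W₁ ∪ W₂, and suppose fewer than 2 · Nat.card W₁ linear characters ω of W have ⟨θ, χ ω⟩ ≠ 0. Then one of: all ⟨θ, χ ω⟩ vanish; or there are ψ₀ and a with ⟨θ, χ ω⟩ = a when ω ψ₀⁻¹ is trivial on W₂ and 0 otherwise; or there are φ₀ and a with ⟨θ,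 χ ω⟩ = a when ω φ₀⁻¹ is trivial on W₁ and 0 otherwise. -/
theorem result {G : Type*} [Group G] [Fintype G] (W₁ W₂ : Subgroup G) (hW : Cfsg.IsSelfNormalizingCyclic W₁ W₂) (hodd : Odd (Nat.card ↥(W₁ ⊔ W₂))) (χ : (↥(W₁ ⊔ W₂) →* ℂˣ) → (G → ℂ)) (hχ : Cfsg.IsCyclicTIFamily W₁ W₂ χ) (hlt : Nat.card W₁ < Nat.card W₂) (θ : G → ℂ) (hθ : Cfsg.IsClassFunction G θ) (hθV : ∀ w : ↥(W₁ ⊔ W₂), (w : G) ∉ W₁ → (w : G) ∉ W₂ → θ w = 0) (hfew : Nat.card {ω : ↥(W₁ ⊔ W₂) →* ℂˣ // Cfsg.classInner θ (χ ω) ≠ 0} < 2 * Nat.card W₁) : (∀ ω, Cfsg.classInner θ (χ ω) = 0) ∨ (∃ (ψ₀ : ↥(W₁ ⊔ W₂) →* ℂˣ) (a : ℂ), ∀ ω, Cfsg.classInner θ (χ ω) = if (∀ w : ↥(W₁ ⊔ W₂), (w : G) ∈ W₂ → (ω * ψ₀⁻¹) w = 1) then a else 0) ∨ (∃ (φ₀ : ↥(W₁ ⊔ W₂) →* ℂˣ) (a : ℂ), ∀ ω, Cfsg.classInner θ (χ ω) = if (∀ w : ↥(W₁ ⊔ W₂), (w : G) ∈ W₁ → (ω * φ₀⁻¹) w = 1) then a else 0) := by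
  obtain ⟨hW1, hW2, hdisj, hcomm, hcyc, -⟩ := hW
  obtain ⟨e, he⟩ := exists_prodEquiv W₁ W₂ hdisj hcomm
  -- commutativity inside W
  have hWcomm : ∀ a ∈ W₁ ⊔ W₂, ∀ b ∈ W₁ ⊔ W₂, a * b = b * a := by
    intro a ha b hb
    letI := hcyc
    letI : CommGroup ↥(W₁ ⊔ W₂) := IsCyclic.commGroup
    have := mul_comm (⟨a, ha⟩ : ↥(W₁ ⊔ W₂)) ⟨b, hb⟩
    exact congrArg Subtype.val this
  have hc1 : Nat.card (↥W₁ →* ℂˣ) = Nat.card W₁ :=
    card_hom_sub W₁ (fun a ha b hb => hWcomm a (Subgroup.mem_sup_left ha) b (Subgroup.mem_sup_left hb))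
  have hc2 : Nat.card (↥W₂ →* ℂˣ) = Nat.card W₂ :=
    card_hom_sub W₂ (fun a ha b hb => hWcomm a (Subgroup.mem_sup_right ha) b (Subgroup.mem_sup_right hb))
  have hcard : Nat.card ↥(W₁ ⊔ W₂) = Nat.card W₁ * Nat.card W₂ := by
    rw [← Nat.card_congr e.toEquiv, Nat.card_prod]
  rw [hcard, Nat.odd_mul] at hodd
  have hJ : Nat.card W₁ + 2 ≤ Nat.card W₂ := by
    obtain ⟨⟨k, hk⟩, ⟨l, hl⟩⟩ := hodd
    omega
  -- elements of W₁ and W₂ inside W through e
  have hw1 : ∀ w : ↥(W₁ ⊔ W₂), ∀ hw : (w : G) ∈ W₁, w = e (⟨w, hw⟩, 1) := by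
    intro w hw
    apply Subtype.ext
    rw [he]; simp
  have hw2 : ∀ w : ↥(W₁ ⊔ W₂), ∀ hw : (w : G) ∈ W₂, w = e (1, ⟨w, hw⟩) := by
    intro w hw
    apply Subtype.ext
    rw [he]; simp
  -- the parametrisation of the characters of W
  let E : (↥W₁ →* ℂˣ) × (↥W₂ →* ℂˣ) → (↥(W₁ ⊔ W₂) →* ℂˣ) := fun p =>
    (p.1.coprod p.2).comp e.symm.toMonoidHom
  have hE : ∀ (α : ↥W₁ →* ℂˣ) (β : ↥W₂ →* ℂˣ) (a : ↥W₁) (b : ↥W₂),
      E (α, β) (e (a, b)) = α a * β b := by
    intro α β a b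
    simp [E]
  have hEbij : Function.Bijective E := by
    constructor
    · rintro ⟨α, β⟩ ⟨α', β'⟩ h
      have h1 : α = α' := by
        ext a
        have := congrArg (fun ω : ↥(W₁ ⊔ W₂) →* ℂˣ => ω (e (a, 1))) h
        simp only [hE, map_one, mul_one] at this
        rw [this]
      have h2 : β = β' := by
        ext b
        have := congrArg (fun ω : ↥(W₁ ⊔ W₂) →* ℂˣ => ω (e (1, b))) h
        simp only [hE, map_one, one_mul] at this
        rw [this]
      rw [h1, h2]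
    · intro ω
      refine ⟨(ω.comp (e.toMonoidHom.comp (MonoidHom.inl _ _)),
        ω.comp (e.toMonoidHom.comp (MonoidHom.inr _ _))), ?_⟩
      ext w
      obtain ⟨⟨a, b⟩, rfl⟩ := e.surjective w
      rw [hE]
      simp only [MonoidHom.coe_comp, MulEquiv.coe_toMonoidHom, Function.comp_apply,
        MonoidHom.inl_apply, MonoidHom.inr_apply]
      rw [← map_mul, ← map_mul]
      simp
  -- translation of the conditions
  have hT3 : ∀ α β, E (α, β) = E (α, 1) * E (1, β) := by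
    intro α β
    ext w
    obtain ⟨⟨a, b⟩, rfl⟩ := e.surjective w
    rw [MonoidHom.mul_apply, hE, hE, hE]
    simp
  have hT1 : ∀ α, ∀ w : ↥(W₁ ⊔ W₂), (w : G) ∈ W₂ → E (α, 1) w = 1 := by
    intro α w hw
    rw [hw2 w hw, hE]; simp
  have hT2 : ∀ β, ∀ w : ↥(W₁ ⊔ W₂), (w : G) ∈ W₁ → E (1, β) w = 1 := by
    intro β w hw
    rw [hw1 w hw, hE]; simp
  have hT4 : E (1, 1) = 1 := by
    ext w
    obtain ⟨⟨a, b⟩, rfl⟩ := e.surjective w
    rw [hE]; simp
  have hT5 : ∀ α β j₀, (∀ w : ↥(W₁ ⊔ W₂), (w : G) ∈ W₂ → (E (α, β) * (E (1, j₀))⁻¹) w = 1) ↔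
      β = j₀ := by
    intro α β j₀
    constructor
    · intro h
      ext b
      have h1 := h (e (1, b)) (by rw [he]; simp)
      rw [MonoidHom.mul_apply, MonoidHom.inv_apply, hE, hE] at h1
      simp only [map_one, one_mul] at h1
      rw [mul_inv_eq_one] at h1
      rw [h1]
    · rintro rfl w hw
      rw [hw2 w hw, MonoidHom.mul_apply, MonoidHom.inv_apply, hE, hE]
      simp
  have hT6 : ∀ α β i₀, (∀ w : ↥(W₁ ⊔ W₂), (w : G) ∈ W₁ → (E (α, β) * (E (i₀, 1))⁻¹) w = 1) ↔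
      α = i₀ := by
    intro α β i₀
    constructor
    · intro h
      ext a
      have h1 := h (e (a, 1)) (by rw [he]; simp)
      rw [MonoidHom.mul_apply, MonoidHom.inv_apply, hE, hE] at h1
      simp only [map_one, mul_one] at h1
      rw [mul_inv_eq_one] at h1
      rw [h1]
    · rintro rfl w hw
      rw [hw1 w hw, MonoidHom.mul_apply, MonoidHom.inv_apply, hE, hE]
      simp
  -- additivity
  have hadd : ∀ α β, Cfsg.classInner θ (χ (E (α, β))) =
      (Cfsg.classInner θ (χ (E (α, 1))) - Cfsg.classInner θ (χ 1)) +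
        Cfsg.classInner θ (χ (E (1, β))) := by
    intro α β
    rw [hT3 α β, Cfsg.Agent.S1506.additivity W₁ W₂ χ hχ θ hθ hθV (E (α, 1)) (E (1, β))
      (hT1 α) (hT2 β)]
    ring
  have hfew' : Nat.card {p : (↥W₁ →* ℂˣ) × (↥W₂ →* ℂˣ) //
      (Cfsg.classInner θ (χ (E (p.1, 1))) - Cfsg.classInner θ (χ 1)) +
        Cfsg.classInner θ (χ (E (1, p.2))) ≠ 0} < 2 * Nat.card W₁ := by
    refine lt_of_le_of_lt (le_of_eq ?_) hfew
    apply Nat.card_congr
    refine Equiv.subtypeEquiv (Equiv.ofBijective E hEbij) ?_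
    rintro ⟨α, β⟩
    simp only [Equiv.ofBijective_apply]
    rw [hadd α β]
  haveI : Finite (↥W₁ →* ℂˣ) := Nat.finite_of_card_ne_zero (by rw [hc1]; exact Nat.card_pos.ne')
  haveI : Finite (↥W₂ →* ℂˣ) := Nat.finite_of_card_ne_zero (by rw [hc2]; exact Nat.card_pos.ne')
  rcases comb (fun α : ↥W₁ →* ℂˣ => Cfsg.classInner θ (χ (E (α, 1))) - Cfsg.classInner θ (χ 1))
    (fun β : ↥W₂ →* ℂˣ => Cfsg.classInner θ (χ (E (1, β)))) (Nat.card W₁) (le_of_eq hc1.symm)
    (by rw [hc2]; exact hJ) hfew' with h | ⟨j₀, a, h⟩ | ⟨i₀, a, h⟩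
  · left
    intro ω
    obtain ⟨⟨α, β⟩, rfl⟩ := hEbij.2 ω
    rw [hadd]
    exact h α β
  · right; left
    refine ⟨E (1, j₀), a, ?_⟩
    intro ω
    obtain ⟨⟨α, β⟩, rfl⟩ := hEbij.2 ω
    rw [hadd]
    have := h α β
    rw [this]
    by_cases hb : β = j₀
    · rw [if_pos hb, if_pos ((hT5 α β j₀).2 hb)]
    · rw [if_neg hb, if_neg (fun h' => hb ((hT5 α β j₀).1 h'))]
  · right; right
    refine ⟨E (i₀, 1), a, ?_⟩
    intro ω
    obtain ⟨⟨α, β⟩, rfl⟩ := hEbij.2 ω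
    rw [hadd]
    have := h α β
    rw [this]
    by_cases hb : α = i₀
    · rw [if_pos hb, if_pos ((hT6 α β i₀).2 hb)]
    · rw [if_neg hb, if_neg (fun h' => hb ((hT6 α β i₀).1 h'))]

end Cfsg.Agent.S1507
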