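import Cfsg.Statements.S1504
import Mathlib

set_option autoImplicit false
open Cfsg

namespace Cfsg.Agent.S1504

open Classical in
theorem orth {W : Type*} [Group W] [Fintype W] (χ χ' : W →* ℂˣ) :
    ∑ w : W, (χ w : ℂ) * ((χ' w : ℂ))⁻¹ = if χ = χ' then (Fintype.card W : ℂ) else 0 := by
  split_ifs with h
  · subst h
    simp
  · have e : ∀ w, (χ w : ℂ) * ((χ' w : ℂ))⁻¹ = ((Units.coeHom ℂ).comp (χ * χ'⁻¹)) w := by
      intro w; simp
    simp_rw [e]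
    apply sum_hom_units_eq_zero
    intro h1
    apply h
    apply MonoidHom.ext
    intro w
    have h2 := congrArg (fun f : W →* ℂ => f w) h1
    simp only [MonoidHom.coe_comp, Function.comp_apply, MonoidHom.mul_apply, MonoidHom.inv_apply,
      MonoidHom.one_apply] at h2
    have h3 : χ w * (χ' w)⁻¹ = 1 := by
      apply Units.ext
      simpa using h2
    exact mul_inv_eq_one.mp h3

theorem hom_ext_sup {G : Type*} [Group G] (W₁ W₂ : Subgroup G) (χ₁ χ₂ : ↥(W₁ ⊔ W₂) →* ℂˣ)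
    (h₁ : ∀ w : ↥(W₁ ⊔ W₂), (w : G) ∈ W₁ → χ₁ w = χ₂ w)
    (h₂ : ∀ w : ↥(W₁ ⊔ W₂), (w : G) ∈ W₂ → χ₁ w = χ₂ w) : χ₁ = χ₂ := by
  have hle : W₁ ⊔ W₂ ≤ (χ₁.eqLocus χ₂).map (W₁ ⊔ W₂).subtype := by
    apply sup_le
    · intro a ha
      exact ⟨⟨a, Subgroup.mem_sup_left ha⟩, h₁ _ ha, rfl⟩
    · intro a ha
      exact ⟨⟨a, Subgroup.mem_sup_right ha⟩, h₂ _ ha, rfl⟩
  apply MonoidHom.ext
  intro w
  obtain ⟨k, hk, hkw⟩ := hle w.2
  have hkw' : k = w := Subtype.ext hkw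
  rw [← hkw']
  exact hk

/-- Let W₁, W₂ be subgroups of a finite group with W₁ ⊓ W₂ = ⊥ whose elements commute, and W = W₁ ⊔ W₂. For linear characters φ, ψ of W with φ trivial on W₂ and ψ trivial on W₁, the function (1 − φ)(1 − ψ) vanishes on W₁ ∪ W₂; and the family of these functions, indexed by pairs (φ, ψ) with φ ≠ 1 ≠ ψ, is linearly independent over ℂ. -/
theorem result {G : Type*} [Group G] [Finite G] (W₁ W₂ : Subgroup G) (hdisj : W₁ ⊓ W₂ = ⊥) (hcomm : ∀ a ∈ W₁, ∀ b ∈ W₂, a * b = b * a) : (∀ φ ψ : ↥(W₁ ⊔ W₂) →* ℂˣ, (∀ w : ↥(W₁ ⊔ W₂), (w : G) ∈ W₂ → φ w = 1) → (∀ w : ↥(W₁ ⊔ W₂), (w : G) ∈ W₁ → ψ w = 1) → ∀ w : ↥(W₁ ⊔ W₂), ((w : G) ∈ W₁ ∨ (w : G) ∈ W₂) → (1 - (φ w : ℂ) - (ψ w : ℂ) + (φ w : ℂ) * (ψ w : ℂ)) = 0) ∧ LinearIndependent ℂ (fun p : {p : (↥(W₁ ⊔ W₂) →* ℂˣ) × (↥(W₁ ⊔ W₂) →* ℂˣ) // p.1 ≠ 1 ∧ p.2 ≠ 1 ∧ (∀ w : ↥(W₁ ⊔ W₂), (w : G) ∈ W₂ → p.1 w = 1) ∧ (∀ w : ↥(W₁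 ⊔ W₂), (w : G) ∈ W₁ → p.2 w = 1)} => fun w : ↥(W₁ ⊔ W₂) => 1 - (p.1.1 w : ℂ) - (p.1.2 w : ℂ) + (p.1.1 w : ℂ) * (p.1.2 w : ℂ)) := by
  classical
  constructor
  · intro φ ψ hφ hψ w hw
    rcases hw with h | h
    · rw [hψ w h]; simp
    · rw [hφ w h]; simp
  · haveI : Fintype ↥(W₁ ⊔ W₂) := Fintype.ofFinite _
    rw [linearIndependent_iff']
    intro s g hg p hp
    obtain ⟨⟨φ, ψ⟩, hφ1, hψ1, hφ2, hψ2⟩ := p
    simp only at hφ1 hψ1 hφ2 hψ2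
    have hval : ∀ i : {p : (↥(W₁ ⊔ W₂) →* ℂˣ) × (↥(W₁ ⊔ W₂) →* ℂˣ) // p.1 ≠ 1 ∧ p.2 ≠ 1 ∧ (∀ w : ↥(W₁ ⊔ W₂), (w : G) ∈ W₂ → p.1 w = 1) ∧ (∀ w : ↥(W₁ ⊔ W₂), (w : G) ∈ W₁ → p.2 w = 1)},
        ∑ w : ↥(W₁ ⊔ W₂), (1 - (i.1.1 w : ℂ) - (i.1.2 w : ℂ) + (i.1.1 w : ℂ) * (i.1.2 w : ℂ)) * (((φ * ψ) w : ℂ))⁻¹
          = if i.1 = (φ, ψ) then (Fintype.card ↥(W₁ ⊔ W₂) : ℂ) else 0 := by
      rintro ⟨⟨φ', ψ'⟩, hφ1', hψ1', hφ2', hψ2'⟩
      simp only at hφ1' hψ1' hφ2' hψ2'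
      have e : ∀ w : ↥(W₁ ⊔ W₂), (1 - (φ' w : ℂ) - (ψ' w : ℂ) + (φ' w : ℂ) * (ψ' w : ℂ)) * (((φ * ψ) w : ℂ))⁻¹
          = (((1 : ↥(W₁ ⊔ W₂) →* ℂˣ) w : ℂ)) * (((φ * ψ) w : ℂ))⁻¹ - (φ' w : ℂ) * (((φ * ψ) w : ℂ))⁻¹
            - (ψ' w : ℂ) * (((φ * ψ) w : ℂ))⁻¹ + ((φ' * ψ') w : ℂ) * (((φ * ψ) w : ℂ))⁻¹ := by
        intro w
        simp only [MonoidHom.one_apply, Units.val_one, MonoidHom.mul_apply, Units.val_mul]
        ring
      simp_rw [e, Finset.sum_add_distrib, Finset.sum_sub_distrib, orth]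
      have h1 : (1 : ↥(W₁ ⊔ W₂) →* ℂˣ) ≠ φ * ψ := by
        intro h
        apply hφ1
        apply hom_ext_sup W₁ W₂
        · intro w hw
          have := congrArg (fun f : ↥(W₁ ⊔ W₂) →* ℂˣ => f w) h
          simp only [MonoidHom.one_apply, MonoidHom.mul_apply, hψ2 w hw, mul_one] at this
          exact this.symm
        · intro w hw
          rw [hφ2 w hw]; rfl
      have h2 : φ' ≠ φ * ψ := by
        intro h
        apply hψ1
        apply hom_ext_sup W₁ W₂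
        · intro w hw
          rw [hψ2 w hw]; rfl
        · intro w hw
          have := congrArg (fun f : ↥(W₁ ⊔ W₂) →* ℂˣ => f w) h
          simp only [MonoidHom.mul_apply, hφ2 w hw, hφ2' w hw, one_mul] at this
          exact this.symm
      have h3 : ψ' ≠ φ * ψ := by
        intro h
        apply hφ1
        apply hom_ext_sup W₁ W₂
        · intro w hw
          have := congrArg (fun f : ↥(W₁ ⊔ W₂) →* ℂˣ => f w) h
          simp only [MonoidHom.mul_apply, hψ2 w hw, hψ2' w hw, mul_one] at this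
          exact this.symm
        · intro w hw
          rw [hφ2 w hw]; rfl
      have h4 : φ' * ψ' = φ * ψ → (φ', ψ') = (φ, ψ) := by
        intro h
        have hφ : φ' = φ := by
          apply hom_ext_sup W₁ W₂
          · intro w hw
            have := congrArg (fun f : ↥(W₁ ⊔ W₂) →* ℂˣ => f w) h
            simpa only [MonoidHom.mul_apply, hψ2 w hw, hψ2' w hw, mul_one] using this
          · intro w hw
            rw [hφ2 w hw, hφ2' w hw]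
        have hψ : ψ' = ψ := by
          apply hom_ext_sup W₁ W₂
          · intro w hw
            rw [hψ2 w hw, hψ2' w hw]
          · intro w hw
            have := congrArg (fun f : ↥(W₁ ⊔ W₂) →* ℂˣ => f w) h
            simpa only [MonoidHom.mul_apply, hφ2 w hw, hφ2' w hw, one_mul] using this
        rw [hφ, hψ]
      rw [if_neg h1, if_neg h2, if_neg h3]
      by_cases hip : (φ', ψ') = (φ, ψ)
      · have h5 : φ' * ψ' = φ * ψ := by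
          rw [Prod.mk.injEq] at hip; rw [hip.1, hip.2]
        rw [if_pos hip, if_pos h5]; ring
      · rw [if_neg hip, if_neg (fun h => hip (h4 h))]; ring
    have key := congrArg (fun F : ↥(W₁ ⊔ W₂) → ℂ => ∑ w : ↥(W₁ ⊔ W₂), F w * (((φ * ψ) w : ℂ))⁻¹) hg
    simp only [Finset.sum_apply, Pi.smul_apply, smul_eq_mul, Finset.sum_mul, Pi.zero_apply, zero_mul,
      Finset.sum_const_zero] at key
    rw [Finset.sum_comm] at key
    simp only [mul_assoc, ← Finset.mul_sum] at key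
    simp only [hval] at key
    rw [Finset.sum_eq_single_of_mem _ hp] at key
    · simp only [if_true] at key
      have hcard : (Fintype.card ↥(W₁ ⊔ W₂) : ℂ) ≠ 0 := by
        exact_mod_cast Fintype.card_ne_zero
      exact (mul_eq_zero.mp key).resolve_right hcard
    · intro i _ hi
      have : ¬ (i.1 = (φ, ψ)) := fun h => hi (Subtype.ext h)
      rw [if_neg this, mul_zero]

end Cfsg.Agent.S1504
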