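import Cfsg.Statements.S4665
import Mathlib
import Cfsg.Agent.Lib.CT.Wedderburn

set_option autoImplicit false
open Cfsg

namespace Cfsg.Agent.S4665

open Cfsg.Agent.Lib.CT.Wedderburn

theorem char_sum_sub {G : Type*} [Group G] {χ : G → ℂ} (hχ : IsCharacter G χ) (Q : Subgroup G)
    [Fintype Q] : ∃ m : ℕ, ∑ w : Q, χ (w : G) = (Nat.card Q : ℂ) * m := by
  obtain ⟨n, ρ, rfl⟩ := hχ
  have hne : (Nat.card Q : ℂ) ≠ 0 := Nat.cast_ne_zero.mpr Nat.card_pos.ne'
  have : Invertible (Nat.card Q : ℂ) := invertibleOfNonzero hne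
  let σ : Representation ℂ Q (Fin n → ℂ) := ρ.comp Q.subtype
  have h := Representation.card_inv_mul_sum_char_eq_finrank σ
  refine ⟨Module.finrank ℂ (Representation.invariants σ), ?_⟩
  rw [← h, ← mul_assoc, mul_inv_cancel₀ hne, one_mul]
  rfl

theorem pRegularPart_sum {G : Type*} [Group G] [Fintype G] (p : ℕ) [Fact p.Prime]
    (P : Subgroup G) (hP : IsPGroup p P) [Fintype P] (χ : G → ℂ) :
    ∑ w : P, pRegularPart p χ (w : G) = χ 1 := by
  classical
  rw [Finset.sum_eq_single (1 : P)]
  · have h1 : IsPRegular p (1 : G) := by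
      unfold IsPRegular
      rw [orderOf_one]
      exact (Fact.out : p.Prime).one_lt.ne' ∘ Nat.dvd_one.mp
    simp only [pRegularPart, Subgroup.coe_one]
    rw [if_pos h1]
  · intro w _ hw
    have h2 : ¬ IsPRegular p (w : G) := by
      unfold IsPRegular
      rw [not_not]
      obtain ⟨k, hk⟩ := hP w
      have hk' : (w : G) ^ p ^ k = 1 := by
        have := congrArg (Subtype.val) hk
        simpa using this
      have hdvd : orderOf (w : G) ∣ p ^ k := orderOf_dvd_of_pow_eq_one hk'
      obtain ⟨j, _, hj⟩ := (Nat.dvd_prime_pow (Fact.out : p.Prime)).mp hdvd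
      rw [hj]
      rcases Nat.eq_zero_or_pos j with h0 | h0
      · exfalso
        rw [h0, pow_zero, orderOf_eq_one_iff] at hj
        exact hw (Subtype.ext hj)
      · exact dvd_pow_self p h0.ne'
    simp only [pRegularPart]
    rw [if_neg h2]
  · intro h
    exact absurd (Finset.mem_univ _) h

/-- Fix a prime p, a maximal ideal M of the algebraic integers containing p, and a p-block B of the finite group G, and let p^a be the p-part of the order of G. Let χ be an integer combination of the irreducible characters in B. If the function that agrees with χ on p-regular elements and vanishes on p-singular elements is again an integer combination of the irreducible characters in B, then p^a divides χ(1). -/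
theorem result {G : Type*} [Group G] [Fintype G] (p : ℕ) [Fact p.Prime] (M : Ideal Cfsg.AlgInt) (hM : Cfsg.IsPModular p M) (B : Set (Cfsg.IrrCharacter G)) (hB : Cfsg.IsPBlock M B) (χ : G → ℂ) (hχ : (∃ n : Cfsg.IrrCharacter G → ℤ, ∀ g : G, χ g = ∑ᶠ ψ ∈ B, (n ψ : ℂ) * (ψ : G → ℂ) g)) (h0 : (∃ n : Cfsg.IrrCharacter G → ℤ, ∀ g : G, Cfsg.pRegularPart p χ g = ∑ᶠ ψ ∈ B, (n ψ : ℂ) * (ψ : G → ℂ) g)) : ∃ k : ℤ, χ 1 = (p ^ (Nat.card G).factorization p : ℂ) * k := by
  classical
  obtain ⟨n, hn⟩ := h0
  have : Finite (IrrCharacter G) := finite_irrCharacter G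
  letI : Fintype (IrrCharacter G) := Fintype.ofFinite _
  obtain ⟨P⟩ : Nonempty (Sylow p G) := inferInstance
  have hcard : Nat.card (P : Subgroup G) = p ^ (Nat.card G).factorization p :=
    Sylow.card_eq_multiplicity P
  have hm : ∀ ψ : IrrCharacter G, ∃ m : ℕ,
      ∑ w : (P : Subgroup G), (ψ : G → ℂ) (w : G) = (Nat.card (P : Subgroup G) : ℂ) * m :=
    fun ψ => char_sum_sub (isCharacter_of_irr ψ.2) (P : Subgroup G)
  choose m hm using hm
  refine ⟨∑ ψ : IrrCharacter G, B.indicator (fun ψ => n ψ * (m ψ : ℤ)) ψ, ?_⟩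
  rw [← pRegularPart_sum p (P : Subgroup G) P.isPGroup' χ]
  have h3 : ∀ w : (P : Subgroup G), pRegularPart p χ (w : G) =
      ∑ ψ : IrrCharacter G, B.indicator (fun ψ => (n ψ : ℂ) * (ψ : G → ℂ) (w : G)) ψ := by
    intro w
    rw [hn, finsum_mem_def, finsum_eq_sum_of_fintype]
  simp only [h3]
  rw [Finset.sum_comm, Int.cast_sum, Finset.mul_sum]
  refine Finset.sum_congr rfl fun ψ _ => ?_
  by_cases h : ψ ∈ B
  · simp only [Set.indicator_of_mem h]
    rw [← Finset.mul_sum, hm ψ, hcard]
    push_cast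
    ring
  · simp only [Set.indicator_of_notMem h]
    simp

end Cfsg.Agent.S4665
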