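import Cfsg.Statements.S4426
import Cfsg.Agent.Lib.Helper82.Contrib

set_option autoImplicit false
open Cfsg

namespace Cfsg.Agent.S4426

open Cfsg.Agent.Lib.Helper82.Contrib
open Cfsg.Agent.Lib.Helper77.LocalRing

/-- Height zero gives exact `p`-parts of all contributions. -/
theorem forall_of_min {G : Type*} [Group G] [Fintype G] (p : ℕ) [Fact p.Prime]
    (M : Ideal AlgInt) (hM : IsPModular p M) (B : Set (IrrCharacter G)) (hB : IsPBlock M B)
    (χ : IrrCharacter G) (hχ : χ ∈ B)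
    (hmin : ∀ ξ ∈ B, (charDegree (χ : G → ℂ)).factorization p
      ≤ (charDegree (ξ : G → ℂ)).factorization p) (ξ : IrrCharacter G) (hξ : ξ ∈ B) :
    ∃ n : ℤ, classInner (fun x : G => if p ∣ orderOf x then (0 : ℂ)
        else ((p ^ (Nat.card G).factorization p : ℕ) : ℂ) * (χ : G → ℂ) x) (ξ : G → ℂ) = (n : ℂ)
      ∧ n ≠ 0 ∧ padicValInt p n = (charDegree (ξ : G → ℂ)).factorization p := by
  have h1 : (p : ℤ) ^ (charDegree (ξ : G → ℂ)).factorization p ∣ ctr p χ ξ := by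
    rw [ctr_symm]
    exact pow_dvd_ctr p hM ξ χ
  have h2 := not_dvd_ctr_of_min p hM B hB χ ξ hχ hξ hmin
  have h0 : ctr p χ ξ ≠ 0 := fun h => h2 (h ▸ dvd_zero _)
  refine ⟨ctr p χ ξ, ctr_spec p χ ξ, h0, ?_⟩
  have h3 := (padicValInt_dvd_iff (p := p) _ _).1 h1
  have h4 : ¬ ((charDegree (ξ : G → ℂ)).factorization p + 1 ≤ padicValInt p (ctr p χ ξ)) :=
    fun h => h2 ((padicValInt_dvd_iff (p := p) _ _).2 (Or.inr h))
  rcases h3 with h3 | h3
  · exact absurd h3 h0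
  · omega

/-- One exact contribution forces height zero. -/
theorem min_of_exists {G : Type*} [Group G] [Fintype G] (p : ℕ) [Fact p.Prime]
    (M : Ideal AlgInt) (hM : IsPModular p M) (B : Set (IrrCharacter G)) (hB : IsPBlock M B)
    (χ : IrrCharacter G) (hχ : χ ∈ B) (χ₁ : IrrCharacter G) (hχ₁ : χ₁ ∈ B)
    (ξ : IrrCharacter G) (hξ : ξ ∈ B)
    (h : ∃ n : ℤ, classInner (fun x : G => if p ∣ orderOf x then (0 : ℂ)
        else ((p ^ (Nat.card G).factorization p : ℕ) : ℂ) * (χ : G → ℂ) x) (ξ : G → ℂ) = (n : ℂ)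
      ∧ n ≠ 0 ∧ padicValInt p n = (charDegree (ξ : G → ℂ)).factorization p) :
    (charDegree (χ : G → ℂ)).factorization p ≤ (charDegree (χ₁ : G → ℂ)).factorization p := by
  obtain ⟨n, hn, hn0, hval⟩ := h
  have hn' : n = ctr p χ ξ := by
    have h1 := ctr_spec p χ ξ
    have h2 : (n : ℂ) = (ctr p χ ξ : ℂ) := by
      rw [← hn, ← h1]
      rfl
    exact_mod_cast h2
  by_contra hlt
  rw [not_le] at hlt
  have h3 := dvd_ctr_of_not_min p hM B hB χ ξ χ₁ hχ hξ hχ₁ hlt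
  rw [← hn'] at h3
  rcases (padicValInt_dvd_iff (p := p) _ _).1 h3 with h4 | h4
  · exact hn0 h4
  · omega

/-- Let χ be an irreducible character in the p-block B of the finite group G (relative to a maximal ideal M of the algebraic integers containing p), let p^a be the p-part of the order of G, and let χ̃ be the class function equal to p^a · χ on p-regular elements and zero elsewhere. For ξ ∈ B the inner product [χ̃, ξ] is an integer. The following are equivalent: (a) χ has height zero in B; (b) for some ξ ∈ B the integer [χ̃, ξ] is nonzero and the exact power of p dividing it equals the exact power of p dividing ξ(1); (c) the same holds for every ξ ∈ B. -/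
theorem result {G : Type*} [Group G] [Fintype G] (p : ℕ) [Fact p.Prime] (M : Ideal Cfsg.AlgInt) (hM : Cfsg.IsPModular p M) (B : Set (Cfsg.IrrCharacter G)) (hB : Cfsg.IsPBlock M B) (χ : Cfsg.IrrCharacter G) (hχ : χ ∈ B) : (Cfsg.blockHeight p B (χ : G → ℂ) = 0 ↔ ∃ ξ ∈ B, ∃ n : ℤ, Cfsg.classInner (fun x : G => if p ∣ orderOf x then (0 : ℂ) else ((p ^ (Nat.card G).factorization p : ℕ) : ℂ) * (χ : G → ℂ) x) (ξ : G → ℂ) = (n : ℂ) ∧ n ≠ 0 ∧ padicValInt p n = (Cfsg.charDegree (ξ : G → ℂ)).factorization p) ∧ (Cfsg.blockHeight p B (χ : G → ℂ) = 0 ↔ ∀ ξ ∈ B, ∃ n : ℤ, Cfsg.classInner (fun x : G => if p ∣ orderOf x then (0 : ℂ) else ((p ^ (Nat.card G).factorization p : ℕ) : ℂ) * (χ : G → ℂ) x) (ξ : G → ℂ) = (n : ℂ) ∧ n ≠ 0 ∧ padicValInt p n = (Cfsg.charDegree (ξ : G → ℂ)).factorization p) := by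
  classical
  have hne : ((fun ψ : IrrCharacter G => (charDegree (ψ : G → ℂ)).factorization p) '' B).Nonempty :=
    ⟨_, χ, hχ, rfl⟩
  obtain ⟨χ₁, hχ₁, hχ₁e⟩ := Nat.sInf_mem hne
  have hle : ∀ ξ ∈ B, sInf ((fun ψ : IrrCharacter G => (charDegree (ψ : G → ℂ)).factorization p) '' B)
      ≤ (charDegree (ξ : G → ℂ)).factorization p := fun ξ hξ => Nat.sInf_le ⟨ξ, hξ, rfl⟩
  have hheight : blockHeight p B (χ : G → ℂ) = (charDegree (χ : G → ℂ)).factorization p
      - sInf ((fun ψ : IrrCharacter G => (charDegree (ψ : G → ℂ)).factorization p) '' B) := rfl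
  have hA : blockHeight p B (χ : G → ℂ) = 0 → ∀ ξ ∈ B, ∃ n : ℤ,
      classInner (fun x : G => if p ∣ orderOf x then (0 : ℂ)
        else ((p ^ (Nat.card G).factorization p : ℕ) : ℂ) * (χ : G → ℂ) x) (ξ : G → ℂ) = (n : ℂ)
      ∧ n ≠ 0 ∧ padicValInt p n = (charDegree (ξ : G → ℂ)).factorization p := by
    intro h0 ξ hξ
    apply forall_of_min p M hM B hB χ hχ _ ξ hξ
    intro ξ' hξ'
    have := hle ξ' hξ'
    omega
  have hBk : (∃ ξ ∈ B, ∃ n : ℤ,
      classInner (fun x : G => if p ∣ orderOf x then (0 : ℂ)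
        else ((p ^ (Nat.card G).factorization p : ℕ) : ℂ) * (χ : G → ℂ) x) (ξ : G → ℂ) = (n : ℂ)
      ∧ n ≠ 0 ∧ padicValInt p n = (charDegree (ξ : G → ℂ)).factorization p)
      → blockHeight p B (χ : G → ℂ) = 0 := by
    rintro ⟨ξ, hξ, h⟩
    have h1 := min_of_exists p M hM B hB χ hχ χ₁ hχ₁ ξ hξ h
    have hχ₁e' : (charDegree (χ₁ : G → ℂ)).factorization p
        = sInf ((fun ψ : IrrCharacter G => (charDegree (ψ : G → ℂ)).factorization p) '' B) :=
      hχ₁e
    rw [hheight, ← hχ₁e']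
    exact Nat.sub_eq_zero_of_le h1
  refine ⟨⟨fun h0 => ⟨χ, hχ, hA h0 χ hχ⟩, hBk⟩, ⟨hA, fun h => hBk ⟨χ, hχ, h χ hχ⟩⟩⟩

end Cfsg.Agent.S4426
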