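import Cfsg.Statements.S4431
import Cfsg.Agent.S4426
import Cfsg.Agent.Lib.CT.SecondMain2
import Cfsg.Agent.Lib.Helper16.Defect

set_option autoImplicit false
open Cfsg

namespace Cfsg.Agent.S4431

open Cfsg.Agent.Lib.Helper77.LocalRing Cfsg.Agent.Lib.Helper77.CentralChar
  Cfsg.Agent.Lib.Helper77.ClassSum Cfsg.Agent.Lib.Helper77.BlockIdem
  Cfsg.Agent.Lib.CT.Wedderburn
  Cfsg.Agent.Lib.CT.SecondMain Cfsg.Agent.Lib.CT.DefectZeroBlock

open scoped ComplexConjugate

universe u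
variable {G : Type u} [Group G] {M : Ideal AlgInt}

/-- The central element whose coefficients are the conjugate values of `χ` on the `p`-regular
elements. -/
noncomputable def zreg [Finite G] (p : ℕ) (χ : G → ℂ) : MonoidAlgebra ℂ G :=
  ofFun (fun g => if p ∣ orderOf g then 0 else conj (χ g))

theorem zreg_mem_center [Finite G] (p : ℕ) (χ : IrrCharacter G) :
    zreg p (χ : G → ℂ) ∈ Zc G := by
  apply ofFun_mem_center
  intro x g
  have h1 : orderOf (x * g * x⁻¹) = orderOf g := by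
    have := (MulAut.conj x).orderOf_eq g
    rwa [MulAut.conj_apply] at this
  have h2 : (χ : G → ℂ) (x * g * x⁻¹) = (χ : G → ℂ) g :=
    Cfsg.Agent.Lib.CT.Orth.irr_isClassFunction χ g x
  rw [h1, h2]

theorem zreg_coeff_mem [Finite G] (hMp : M.IsPrime) (p : ℕ) (χ : IrrCharacter G) (g : G) :
    MemLocalRing M ((zreg p (χ : G → ℂ)).coeff g) := by
  unfold zreg
  rw [coeff_ofFun]
  split_ifs
  · exact memLocalRing_zero hMp
  · rw [← char_apply_inv (isCharacter_of_irr χ.2) g]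
    exact memLocalRing_of_isIntegral hMp
      (Cfsg.Agent.Lib.Helper80.Integrality.isIntegral_irrCharacter χ g⁻¹)

theorem pair_zreg [Fintype G] (p : ℕ) (χ ψ : G → ℂ) :
    pair ψ (zreg p χ) = ∑ g : G, if p ∣ orderOf g then 0 else ψ g * conj (χ g) := by
  unfold zreg
  rw [pair_ofFun]
  refine Finset.sum_congr rfl fun g _ => ?_
  split_ifs <;> ring

theorem pair_res_zreg [Fintype G] (p : ℕ) (H : Subgroup G) [Fintype H] (χ : G → ℂ)
    (ψ : H → ℂ) :
    pair ψ (res H (zreg p χ)) =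
      ∑ h : H, if p ∣ orderOf h then 0 else ψ h * conj (χ h) := by
  rw [pair_eq_sum]
  refine Finset.sum_congr rfl fun h _ => ?_
  rw [coeff_res]
  unfold zreg
  rw [coeff_ofFun, Subgroup.orderOf_coe]
  split_ifs <;> ring

theorem classInner_eq [Fintype G] (p : ℕ) (H : Subgroup G) [Fintype H] (χ : IrrCharacter G)
    (ψ : IrrCharacter H) (c : ℂ) :
    classInner (fun h : H => if p ∣ orderOf h then (0 : ℂ) else c * (χ : G → ℂ) h)
        (ψ : H → ℂ) / (ψ : H → ℂ) 1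
      = (c / (Nat.card H : ℂ)) * omega (ψ : H → ℂ) (res H (zreg p (χ : G → ℂ))) := by
  unfold classInner omega
  rw [pair_res_zreg, ← Equiv.sum_comp (Equiv.inv H)]
  have h1 : ∀ h : H, (if p ∣ orderOf ((Equiv.inv H) h) then (0 : ℂ)
        else c * (χ : G → ℂ) ((Equiv.inv H) h : H)) * conj ((ψ : H → ℂ) ((Equiv.inv H) h))
      = c * (if p ∣ orderOf h then 0 else (ψ : H → ℂ) h * conj ((χ : G → ℂ) h)) := by
    intro h
    rw [Equiv.inv_apply, orderOf_inv, char_apply_inv (isCharacter_of_irr ψ.2) h,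
      Complex.conj_conj]
    split_ifs
    · simp
    · rw [Subgroup.coe_inv, char_apply_inv (isCharacter_of_irr χ.2)]
      ring
  rw [Finset.sum_congr rfl (fun h _ => h1 h), ← Finset.mul_sum]
  ring

/-- A quotient of a nonzero integer by a natural number with the same `p`-part is a unit of
the local ring. -/
theorem int_div_unit {p : ℕ} [Fact p.Prime] (hM : IsPModular p M) (N : ℤ) (d : ℕ) (hN : N ≠ 0)
    (hd : d ≠ 0) (h : padicValInt p N = d.factorization p) :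
    MemLocalRing M ((N : ℂ) / d) ∧ ¬ MemLocalIdeal M ((N : ℂ) / d) := by
  have hMp := isPrime_of_isPModular hM
  have hp := hM.1
  have hN' : N.natAbs ≠ 0 := Int.natAbs_ne_zero.mpr hN
  have hfac : N.natAbs.factorization p = d.factorization p := by
    rw [← h, Nat.factorization_def _ hp]
    rfl
  have h1 : MemLocalRing M ((N.natAbs : ℂ) / d) :=
    Cfsg.Agent.Lib.Helper16.Defect.natCast_div_memLocalRing hM N.natAbs d hd
      (by rw [← hfac]; exact Nat.ordProj_dvd _ _)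
  have h2 : MemLocalRing M ((d : ℂ) / N.natAbs) :=
    Cfsg.Agent.Lib.Helper16.Defect.natCast_div_memLocalRing hM d N.natAbs hN'
      (by rw [hfac]; exact Nat.ordProj_dvd _ _)
  have hd0 : (d : ℂ) ≠ 0 := Nat.cast_ne_zero.mpr hd
  have hN0 : ((N.natAbs : ℕ) : ℂ) ≠ 0 := Nat.cast_ne_zero.mpr hN'
  have h3 : ¬ MemLocalIdeal M ((N.natAbs : ℂ) / d) := by
    intro h4
    have h5 := memLocalIdeal_mul_left hMp h2 h4
    have h6 : (d : ℂ) / N.natAbs * ((N.natAbs : ℂ) / d) = 1 := by field_simp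
    rw [h6] at h5
    exact not_memLocalIdeal_one hMp h5
  have hcast : ((N.natAbs : ℕ) : ℂ) = ((N.natAbs : ℤ) : ℂ) := (Int.cast_natCast _).symm
  rcases Int.natAbs_eq N with hN1 | hN1
  · have e : (N : ℂ) / d = (N.natAbs : ℂ) / d := by
      rw [hcast, ← hN1]
    rw [e]
    exact ⟨h1, h3⟩
  · have e : (N : ℂ) / d = -((N.natAbs : ℂ) / d) := by
      rw [hcast]
      conv_lhs => rw [hN1]
      push_cast
      ring
    rw [e]
    exact ⟨memLocalRing_neg h1, fun h4 => h3 (memLocalIdeal_neg_iff.mp h4)⟩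

/-- The `p'`-part of a nonzero natural number is a unit of the local ring. -/
theorem ordProj_div_unit {p : ℕ} (hM : IsPModular p M) (n : ℕ) (hn : n ≠ 0) :
    MemLocalRing M (((p ^ n.factorization p : ℕ) : ℂ) / (n : ℂ)) ∧
      ¬ MemLocalIdeal M (((p ^ n.factorization p : ℕ) : ℂ) / (n : ℂ)) := by
  have hMp := isPrime_of_isPModular hM
  have hp := hM.1
  have h1 : ¬ p ∣ n / p ^ n.factorization p := Nat.not_dvd_ordCompl hp hn
  have h2 : p ^ n.factorization p * (n / p ^ n.factorization p) = n :=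
    Nat.ordProj_mul_ordCompl_eq_self n p
  have hpp : ((p ^ n.factorization p : ℕ) : ℂ) ≠ 0 :=
    Nat.cast_ne_zero.mpr (pow_ne_zero _ hp.ne_zero)
  have hm0 : ((n / p ^ n.factorization p : ℕ) : ℂ) ≠ 0 := by
    apply Nat.cast_ne_zero.mpr
    intro h0
    exact h1 (h0 ▸ dvd_zero p)
  have e : ((p ^ n.factorization p : ℕ) : ℂ) / (n : ℂ)
      = ((n / p ^ n.factorization p : ℕ) : ℂ)⁻¹ := by
    have h3 : (n : ℂ) = ((p ^ n.factorization p : ℕ) : ℂ) * ((n / p ^ n.factorization p : ℕ) : ℂ) := by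
      rw [← Nat.cast_mul, h2]
    rw [h3]
    field_simp
  rw [e]
  have h4 : ¬ MemLocalIdeal M ((n / p ^ n.factorization p : ℕ) : ℂ) :=
    fun h => h1 ((memLocalIdeal_natCast_iff hM _).mp h)
  exact ⟨memLocalRing_inv (memLocalRing_natCast hMp _) h4,
    not_memLocalIdeal_inv hMp (memLocalRing_natCast hMp _) h4⟩

theorem part1 [Fintype G] (p : ℕ) [Fact p.Prime] (hM : IsPModular p M) (H : Subgroup G)
    [Fintype H] (b : Set (IrrCharacter H)) (B₀ : Set (IrrCharacter G))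
    (hind : IsInducedBlock M H b B₀) (χ : IrrCharacter G) (ψ : IrrCharacter H) (hψ : ψ ∈ b)
    (hχ : χ ∉ B₀) :
    MemLocalIdeal M (omega (ψ : H → ℂ) (res H (zreg p (χ : G → ℂ)))) := by
  classical
  have hMp := isPrime_of_isPModular hM
  obtain ⟨hb, hB, hcong⟩ := hind
  obtain ⟨χ₀, hχ₀⟩ := Cfsg.Agent.Lib.Helper16.ZR.isPBlock_nonempty hMp hB
  have h1 := omega_res_sub_mem hMp H (ψ : H → ℂ) χ₀ (hcong ψ hψ χ₀ hχ₀) (zreg p (χ : G → ℂ))
    (zreg_mem_center p χ) (zreg_coeff_mem hMp p χ)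
  have h2 : omega (χ₀ : G → ℂ) (zreg p (χ : G → ℂ)) = 0 := by
    unfold omega
    rw [pair_zreg]
    have h3 := Cfsg.Agent.Lib.Helper75.BlockOrth2.sum_pRegular_eq_zero_of_not_sameBlock p M hM χ₀ χ
      (fun hs => hχ (Cfsg.Agent.Lib.Helper75.BlockRank.mem_of_sameBlock hMp hB hχ₀ hs))
    rw [Cfsg.Agent.Lib.Helper16.Grouping.finsum_mem_eq_sum_filter_univ, Finset.sum_filter] at h3
    have h4 : ∑ g : G, (if p ∣ orderOf g then (0 : ℂ)
        else (χ₀ : G → ℂ) g * conj ((χ : G → ℂ) g)) = 0 := by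
      refine Eq.trans ?_ h3
      refine Finset.sum_congr rfl fun g _ => ?_
      by_cases hg : p ∣ orderOf g
      · simp [hg]
      · simp [hg]
    rw [h4, zero_div]
  rw [h2, sub_zero] at h1
  exact h1

theorem part2 [Fintype G] (p : ℕ) [Fact p.Prime] (hM : IsPModular p M) (H : Subgroup G)
    [Fintype H] (b : Set (IrrCharacter H)) (B₀ : Set (IrrCharacter G))
    (hind : IsInducedBlock M H b B₀) (χ : IrrCharacter G) (ψ : IrrCharacter H) (hψ : ψ ∈ b)
    (hχ : χ ∈ B₀) (hht : blockHeight p B₀ (χ : G → ℂ) = 0) :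
    ¬ MemLocalIdeal M (omega (ψ : H → ℂ) (res H (zreg p (χ : G → ℂ)))) := by
  classical
  have hMp := isPrime_of_isPModular hM
  have hp := hM.1
  obtain ⟨hb, hB, hcong⟩ := hind
  have h1 := omega_res_sub_mem hMp H (ψ : H → ℂ) χ (hcong ψ hψ χ hχ) (zreg p (χ : G → ℂ))
    (zreg_mem_center p χ) (zreg_coeff_mem hMp p χ)
  obtain ⟨n, hn, hn0, hnv⟩ := ((Cfsg.Agent.S4426.result p M hM B₀ hB χ hχ).2.mp hht) χ hχ
  have hcardne : Nat.card G ≠ 0 := Nat.card_pos.ne'
  obtain ⟨m, hm⟩ : ∃ m : ℕ, m = Nat.card G / p ^ (Nat.card G).factorization p := ⟨_, rfl⟩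
  have hmp : ¬ p ∣ m := by rw [hm]; exact Nat.not_dvd_ordCompl hp hcardne
  have hm0 : m ≠ 0 := fun h0 => hmp (h0 ▸ dvd_zero p)
  have hcard : p ^ (Nat.card G).factorization p * m = Nat.card G := by
    rw [hm]; exact Nat.ordProj_mul_ordCompl_eq_self _ p
  have hpp : ((p ^ (Nat.card G).factorization p : ℕ) : ℂ) ≠ 0 :=
    Nat.cast_ne_zero.mpr (pow_ne_zero _ hp.ne_zero)
  -- the pairing
  have hpair : pair (χ : G → ℂ) (zreg p (χ : G → ℂ)) = ((n * (m : ℤ) : ℤ) : ℂ) := by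
    rw [pair_zreg]
    unfold classInner at hn
    have h2 : ∑ g : G, (if p ∣ orderOf g then (0 : ℂ)
          else ((p ^ (Nat.card G).factorization p : ℕ) : ℂ) * (χ : G → ℂ) g)
          * conj ((χ : G → ℂ) g)
        = ((p ^ (Nat.card G).factorization p : ℕ) : ℂ) *
          ∑ g : G, (if p ∣ orderOf g then (0 : ℂ)
            else (χ : G → ℂ) g * conj ((χ : G → ℂ) g)) := by
      rw [Finset.mul_sum]
      refine Finset.sum_congr rfl fun g _ => ?_
      split_ifs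
      · simp
      · ring
    rw [h2] at hn
    have h3 : (Nat.card G : ℂ) = ((p ^ (Nat.card G).factorization p : ℕ) : ℂ) * (m : ℂ) := by
      rw [← Nat.cast_mul, hcard]
    rw [h3] at hn
    have hmc : (m : ℂ) ≠ 0 := Nat.cast_ne_zero.mpr hm0
    push_cast
    field_simp at hn
    linear_combination hn
  have hd : charDegree (χ : G → ℂ) ≠ 0 := (irr_charDegree_pos χ.2).ne'
  have hdeg : (charDegree (χ : G → ℂ) : ℂ) = (χ : G → ℂ) 1 :=
    char_natCast_charDegree (isCharacter_of_irr χ.2)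
  have hval : padicValInt p (n * (m : ℤ)) = (charDegree (χ : G → ℂ)).factorization p := by
    have hmz : (m : ℤ) ≠ 0 := Int.natCast_ne_zero.mpr hm0
    rw [padicValInt.mul hn0 hmz, hnv, padicValInt.of_nat, padicValNat.eq_zero_of_not_dvd hmp,
      add_zero]
  have hunit := int_div_unit hM (n * (m : ℤ)) (charDegree (χ : G → ℂ))
    (mul_ne_zero hn0 (Int.natCast_ne_zero.mpr hm0)) hd hval
  have homega : omega (χ : G → ℂ) (zreg p (χ : G → ℂ))
      = ((n * (m : ℤ) : ℤ) : ℂ) / (charDegree (χ : G → ℂ) : ℂ) := by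
    unfold omega
    rw [hpair, hdeg]
  intro hmem
  apply hunit.2
  rw [← homega]
  have h5 := memLocalIdeal_sub hMp hmem h1
  rwa [sub_sub_cancel] at h5

theorem result {G : Type*} [Group G] [Fintype G] (p : ℕ) [Fact p.Prime] (M : Ideal Cfsg.AlgInt) (hM : Cfsg.IsPModular p M) (H : Subgroup G) [Fintype H] (b : Set (Cfsg.IrrCharacter H)) (B₀ : Set (Cfsg.IrrCharacter G)) (hind : Cfsg.IsInducedBlock M H b B₀) (χ : Cfsg.IrrCharacter G) (ψ : Cfsg.IrrCharacter H) (hψ : ψ ∈ b) : (χ ∉ B₀ → Cfsg.MemLocalIdeal M (Cfsg.classInner (fun h : H => if p ∣ orderOf h then (0 : ℂ) else ((p ^ (Nat.card H).factorization p : ℕ) : ℂ) * (χ : G → ℂ) h) (ψ : H → ℂ) / (ψ : H → ℂ) 1)) ∧ (χ ∈ B₀ → Cfsg.blockHeight p B₀ (χ : G → ℂ) = 0 → ¬ Cfsg.MemLocalIdeal M (Cfsg.classInner (fun h : H => if p ∣ orderOf h then (0 : ℂ) else ((p ^ (Nat.card H).factorization p : ℕ) : ℂ) * (χ : G → ℂ) h) (ψ : H → ℂ) / (ψ : H → ℂ) 1)) := by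
  have hMp := isPrime_of_isPModular hM
  have hu := ordProj_div_unit hM (Nat.card H) Nat.card_pos.ne'
  rw [classInner_eq]
  constructor
  · intro hχ
    exact memLocalIdeal_mul_left hMp hu.1 (part1 p hM H b B₀ hind χ ψ hψ hχ)
  · intro hχ hht
    exact not_memLocalIdeal_mul hMp hu.1 hu.2 (part2 p hM H b B₀ hind χ ψ hψ hχ hht)

end Cfsg.Agent.S4431
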