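import Cfsg.Statements.S4716
import Cfsg.Agent.Lib.Helper82.CycSum
import Cfsg.Agent.Lib.Helper82.SecSq
import Cfsg.Agent.Lib.Helper82.SecLocal
import Cfsg.Agent.S4431

set_option autoImplicit false
open Cfsg

namespace Cfsg.Agent.S4716

open Cfsg.Agent.Lib.Helper77.LocalRing Cfsg.Agent.Lib.Helper82.SecSq
  Cfsg.Agent.Lib.Helper82.SecLocal Cfsg.Agent.Lib.Helper82.CycSum
open scoped ComplexConjugate
open Finset

/-- The centralizer of a power of `y` prime to the order of `y` is the centralizer of `y`. -/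
theorem centralizer_pow_eq {G : Type*} [Group G] [Finite G] (y : G) (t : ℕ)
    (ht : Nat.Coprime t (orderOf y)) :
    Subgroup.centralizer ({y} : Set G) = Subgroup.centralizer ({y ^ t} : Set G) := by
  have hz : Subgroup.zpowers (y ^ t) = Subgroup.zpowers y := by
    apply Subgroup.eq_of_le_of_card_ge
    · rw [Subgroup.zpowers_le]
      exact Subgroup.pow_mem _ (Subgroup.mem_zpowers y) t
    · rw [Nat.card_zpowers, Nat.card_zpowers, orderOf_pow, Nat.coprime_comm.1 ht, Nat.div_one]
  have key : ∀ u : G, Subgroup.centralizer ({u} : Set G)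
      = Subgroup.centralizer (Subgroup.zpowers u : Set G) := by
    intro u
    ext c
    rw [Subgroup.mem_centralizer_iff, Subgroup.mem_centralizer_iff]
    constructor
    · intro h g hg
      obtain ⟨k, rfl⟩ := Subgroup.mem_zpowers_iff.1 hg
      have h1 : Commute u c := h u rfl
      exact (h1.zpow_left k).eq
    · intro h g hg
      rw [Set.mem_singleton_iff] at hg
      subst hg
      exact h g (Subgroup.mem_zpowers g)
  rw [key y, key (y ^ t), hz]

/-- Let p be a prime, M a maximal ideal of the algebraic integers containing p, and B a p-block of defect d of the finite group G all of whose irreducible characters have height zero. Let y be a p-element, C = C_G(y), and b a block of C inducing B and having the same defect d (a major subsection). Then k(B)^2 ≤ p^(2d)·l(b), where k(B) is the number of irreducible characters in B and l(b) the p-regular rank of b (its number of irreducible Brauer characters); in particular (y = 1) k(B)^2 ≤ p^(2d)·l(B). -/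
theorem result {G : Type*} [Group G] [Finite G] (p : ℕ) [Fact p.Prime] (M : Ideal Cfsg.AlgInt) (hM : Cfsg.IsPModular p M) (B : Set (Cfsg.IrrCharacter G)) (hB : Cfsg.IsPBlock M B) (d : ℕ) (hd : Cfsg.blockDefect p B = d) (hh : ∀ χ ∈ B, Cfsg.blockHeight p B (χ : G → ℂ) = 0) (y : G) (hy : ∃ k : ℕ, orderOf y = p ^ k) (b : Set (Cfsg.IrrCharacter ↥(Subgroup.centralizer ({y} : Set G)))) (hind : Cfsg.IsInducedBlock M (Subgroup.centralizer ({y} : Set G)) b B) (hbd : Cfsg.blockDefect p b = d) : Nat.card B ^ 2 ≤ p ^ (2 * d) * Cfsg.blockRank p b := by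
  classical
  have hpp : p.Prime := Fact.out
  have hMp : M.IsPrime := isPrime_of_isPModular hM
  have : Fintype G := Fintype.ofFinite G
  have : Fintype (Subgroup.centralizer ({y} : Set G)) := Fintype.ofFinite _
  have := Cfsg.Agent.Lib.CT.Wedderburn.finite_irrCharacter G
  have : Fintype (IrrCharacter G) := Fintype.ofFinite _
  have := Cfsg.Agent.Lib.CT.Wedderburn.finite_irrCharacter (Subgroup.centralizer ({y} : Set G))
  have : Fintype (IrrCharacter (Subgroup.centralizer ({y} : Set G))) := Fintype.ofFinite _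
  obtain ⟨k, hk⟩ := hy
  subst hbd
  -- the central element
  have hyC : y ∈ Subgroup.centralizer ({y} : Set G) := by
    rw [Subgroup.mem_centralizer_iff]
    intro h hh'
    rw [Set.mem_singleton_iff] at hh'
    rw [hh']
  obtain ⟨z, hzdef⟩ : ∃ z : Subgroup.centralizer ({y} : Set G), z = ⟨y, hyC⟩ := ⟨_, rfl⟩
  have hzval : (z : G) = y := by rw [hzdef]
  have hz : ∀ h : Subgroup.centralizer ({y} : Set G), z * h = h * z := by
    intro h
    apply Subtype.ext
    rw [Subgroup.coe_mul, Subgroup.coe_mul, hzval]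
    exact Subgroup.mem_centralizer_iff.1 h.2 y rfl
  have hzk : z ^ (p ^ k) = 1 := by
    apply Subtype.ext
    rw [Subgroup.coe_pow, hzval, ← hk, pow_orderOf_eq_one]
    rfl
  -- the conclusion of S4431 for the members of `B`
  have hS : ∀ χ ∈ B, ∀ ψ ∈ b, ¬ MemLocalIdeal M (classInner
      (fun h : Subgroup.centralizer ({y} : Set G) => if p ∣ orderOf h then (0 : ℂ) else
        ((p ^ (Nat.card (Subgroup.centralizer ({y} : Set G))).factorization p : ℕ) : ℂ)
          * (χ : G → ℂ) h) (ψ : Subgroup.centralizer ({y} : Set G) → ℂ)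
        / (ψ : Subgroup.centralizer ({y} : Set G) → ℂ) 1) :=
    fun χ hχ ψ hψ => (Cfsg.Agent.S4431.result p M hM _ b B hind χ ψ hψ).2 hχ (hh χ hχ)
  -- the shifted restrictions
  have hshift : ∀ (χ : IrrCharacter G) (t : ℕ),
      (fun c : Subgroup.centralizer ({y} : Set G) => (χ : G → ℂ) (y ^ t * c))
      = fun h : Subgroup.centralizer ({y} : Set G) =>
          (fun c : Subgroup.centralizer ({y} : Set G) => (χ : G → ℂ) c) (z ^ t * h) := by
    intro χ t
    funext h
    show (χ : G → ℂ) (y ^ t * h) = (χ : G → ℂ) ((z ^ t * h : Subgroup.centralizer ({y} : Set G)) : G)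
    rw [Subgroup.coe_mul, Subgroup.coe_pow, hzval]
  -- the set of units
  obtain ⟨U, hU⟩ : ∃ U : Finset ℕ, U = (range (p ^ k)).filter (fun t => Nat.Coprime t (p ^ k)) :=
    ⟨_, rfl⟩
  have hUcard : U.card = (p ^ k).totient := by
    rw [hU, Nat.totient_eq_card_coprime]
    congr 1
    ext t
    simp only [mem_filter, Nat.coprime_comm]
  have hφ : 0 < (p ^ k).totient := Nat.totient_pos.2 (pow_pos hpp.pos k)
  -- sums of squares for each unit
  have hSS : ∀ t ∈ U, ∑ χ ∈ univ.filter (· ∈ B), ∑ ψ ∈ univ.filter (· ∈ B),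
      Complex.normSq (mm p b
        (fun c : Subgroup.centralizer ({y} : Set G) => (χ : G → ℂ) (y ^ t * c))
        (fun c : Subgroup.centralizer ({y} : Set G) => (ψ : G → ℂ) (y ^ t * c)))
      = (blockRank p b : ℝ) := by
    intro t ht
    rw [hU] at ht
    have htc : Nat.Coprime t (orderOf y) := by rw [hk]; exact (mem_filter.1 ht).2
    have hx : ∃ k' : ℕ, orderOf (y ^ t) = p ^ k' :=
      ⟨k, by rw [orderOf_pow, Nat.coprime_comm.1 htc, Nat.div_one, hk]⟩
    have h1 := sum_sq_sec p M hM B (y ^ t) hx (Subgroup.centralizer ({y} : Set G))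
      (centralizer_pow_eq y t htc) b hind
    have h2 : ((∑ χ ∈ univ.filter (· ∈ B), ∑ ψ ∈ univ.filter (· ∈ B),
        Complex.normSq (mm p b
          (fun c : Subgroup.centralizer ({y} : Set G) => (χ : G → ℂ) (y ^ t * c))
          (fun c : Subgroup.centralizer ({y} : Set G) => (ψ : G → ℂ) (y ^ t * c))) : ℝ) : ℂ)
        = ((blockRank p b : ℝ) : ℂ) := by
      push_cast
      rw [← h1]
      refine sum_congr rfl fun χ _ => sum_congr rfl fun ψ _ => ?_
      rw [Complex.mul_conj]
    exact_mod_cast h2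
  -- the lower bound for each pair
  have hpair : ∀ χ ∈ B, ∀ ψ ∈ B, ((p ^ k).totient : ℝ) ≤ ∑ t ∈ U,
      ((p : ℝ) ^ (2 * blockDefect p b)) * Complex.normSq (mm p b
        (fun c : Subgroup.centralizer ({y} : Set G) => (χ : G → ℂ) (y ^ t * c))
        (fun c : Subgroup.centralizer ({y} : Set G) => (ψ : G → ℂ) (y ^ t * c))) := by
    intro χ hχ ψ hψ
    obtain ⟨s, K, μ, hμ, hval⟩ := local_main p M hM b hind.1 z hz k hzk
      (fun c : Subgroup.centralizer ({y} : Set G) => (χ : G → ℂ) c)
      (fun c : Subgroup.centralizer ({y} : Set G) => (ψ : G → ℂ) c)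
      (Cfsg.Agent.Lib.CT.Ops.isCharacter_restrict _
        (Cfsg.Agent.Lib.CT.Wedderburn.isCharacter_of_irr χ.2))
      (Cfsg.Agent.Lib.CT.Ops.isCharacter_restrict _
        (Cfsg.Agent.Lib.CT.Wedderburn.isCharacter_of_irr ψ.2))
      (hS χ hχ) (hS ψ hψ)
    have h1 := cyc_ge' hpp k s K μ hμ ⟨1, Nat.coprime_one_left _, (hval 1).2⟩
    rw [← hU] at h1
    refine le_trans h1 (le_of_eq ?_)
    refine sum_congr rfl fun t _ => ?_
    rw [← (hval t).1, ← hshift χ t, ← hshift ψ t, Complex.normSq_mul, map_pow,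
      Complex.normSq_natCast, pow_mul, ← sq]
  -- summation
  have hcard : Nat.card B = (univ.filter (· ∈ B) : Finset (IrrCharacter G)).card := by
    rw [Nat.card_eq_fintype_card, Fintype.card_subtype]
  have hmain : ((univ.filter (· ∈ B) : Finset (IrrCharacter G)).card : ℝ) ^ 2
      * ((p ^ k).totient : ℝ)
      ≤ ((p ^ k).totient : ℝ) * ((p : ℝ) ^ (2 * blockDefect p b) * (blockRank p b : ℝ)) := by
    have h1 : ∑ χ ∈ univ.filter (· ∈ B), ∑ ψ ∈ univ.filter (· ∈ B), ((p ^ k).totient : ℝ)
        ≤ ∑ χ ∈ univ.filter (· ∈ B), ∑ ψ ∈ univ.filter (· ∈ B), ∑ t ∈ U,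
          ((p : ℝ) ^ (2 * blockDefect p b)) * Complex.normSq (mm p b
            (fun c : Subgroup.centralizer ({y} : Set G) => (χ : G → ℂ) (y ^ t * c))
            (fun c : Subgroup.centralizer ({y} : Set G) => (ψ : G → ℂ) (y ^ t * c))) :=
      sum_le_sum fun χ hχ => sum_le_sum fun ψ hψ =>
        hpair χ (mem_filter.1 hχ).2 ψ (mem_filter.1 hψ).2
    have h2 : ∑ χ ∈ univ.filter (· ∈ B), ∑ ψ ∈ univ.filter (· ∈ B), ∑ t ∈ U,
          ((p : ℝ) ^ (2 * blockDefect p b)) * Complex.normSq (mm p b
            (fun c : Subgroup.centralizer ({y} : Set G) => (χ : G → ℂ) (y ^ t * c))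
            (fun c : Subgroup.centralizer ({y} : Set G) => (ψ : G → ℂ) (y ^ t * c)))
        = ∑ t ∈ U, ((p : ℝ) ^ (2 * blockDefect p b)) * (blockRank p b : ℝ) := by
      have : ∀ χ ∈ univ.filter (· ∈ B), ∑ ψ ∈ univ.filter (· ∈ B), ∑ t ∈ U,
          ((p : ℝ) ^ (2 * blockDefect p b)) * Complex.normSq (mm p b
            (fun c : Subgroup.centralizer ({y} : Set G) => (χ : G → ℂ) (y ^ t * c))
            (fun c : Subgroup.centralizer ({y} : Set G) => (ψ : G → ℂ) (y ^ t * c)))
          = ∑ t ∈ U, ∑ ψ ∈ univ.filter (· ∈ B),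
            ((p : ℝ) ^ (2 * blockDefect p b)) * Complex.normSq (mm p b
              (fun c : Subgroup.centralizer ({y} : Set G) => (χ : G → ℂ) (y ^ t * c))
              (fun c : Subgroup.centralizer ({y} : Set G) => (ψ : G → ℂ) (y ^ t * c))) :=
        fun χ _ => sum_comm
      rw [sum_congr rfl this, sum_comm]
      refine sum_congr rfl fun t ht => ?_
      rw [← hSS t ht, mul_sum]
      refine sum_congr rfl fun χ _ => ?_
      rw [mul_sum]
    rw [h2] at h1
    simp only [sum_const, nsmul_eq_mul] at h1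
    rw [hUcard] at h1
    calc ((univ.filter (· ∈ B) : Finset (IrrCharacter G)).card : ℝ) ^ 2 * ((p ^ k).totient : ℝ)
        = ((univ.filter (· ∈ B) : Finset (IrrCharacter G)).card : ℝ)
          * (((univ.filter (· ∈ B) : Finset (IrrCharacter G)).card : ℝ)
            * ((p ^ k).totient : ℝ)) := by ring
      _ ≤ _ := h1
  have hφ' : (0 : ℝ) < ((p ^ k).totient : ℝ) := by exact_mod_cast hφ
  have hfin : ((univ.filter (· ∈ B) : Finset (IrrCharacter G)).card : ℝ) ^ 2
      ≤ (p : ℝ) ^ (2 * blockDefect p b) * (blockRank p b : ℝ) := by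
    rw [mul_comm] at hmain
    exact le_of_mul_le_mul_left hmain hφ'
  rw [hcard]
  exact_mod_cast hfin

end Cfsg.Agent.S4716
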