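import Cfsg.Statements.S4539
import Cfsg.Agent.Lib.Helper82.Lat2
import Cfsg.Agent.Lib.Helper82.SecCong
import Cfsg.Agent.Lib.Helper82.CycSum
import Cfsg.Agent.Lib.Helper16.Defect
import Cfsg.Agent.S4716

set_option autoImplicit false
set_option linter.unusedSectionVars false
open Cfsg

namespace Cfsg.Agent.S4539

open Cfsg.Agent.Lib.Helper77.LocalRing Cfsg.Agent.Lib.Helper82.SecSq
  Cfsg.Agent.Lib.Helper82.SecLocal Cfsg.Agent.Lib.Helper82.CycSum
  Cfsg.Agent.Lib.Helper82.SecCong Cfsg.Agent.Lib.Helper82.Lat2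
  Cfsg.Agent.Lib.Helper80.Contrib Cfsg.Agent.Lib.Helper75.Section
  Cfsg.Agent.Lib.Helper75.BlockRank
open scoped ComplexConjugate
open Finset

universe u

section lattice

variable {H : Type u} [Group H] [Fintype H]

/-- The inner product of a function with itself, as a real number. -/
theorem classInner_self (f : H → ℂ) :
    classInner f f = (((Nat.card H : ℝ)⁻¹ * ∑ h : H, Complex.normSq (f h) : ℝ) : ℂ) := by
  unfold classInner
  push_cast
  congr 1
  refine sum_congr rfl fun h _ => ?_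
  rw [Complex.mul_conj]

theorem classInner_self_eq_zero (f : H → ℂ) (h0 : classInner f f = 0) : f = 0 := by
  rw [classInner_self] at h0
  have h1 : (Nat.card H : ℝ)⁻¹ * ∑ h : H, Complex.normSq (f h) = 0 := by exact_mod_cast h0
  have hH : (Nat.card H : ℝ)⁻¹ ≠ 0 := inv_ne_zero (Nat.cast_ne_zero.2 Nat.card_pos.ne')
  have h2 : ∑ h : H, Complex.normSq (f h) = 0 := by
    rcases mul_eq_zero.1 h1 with h | h
    · exact absurd h hH
    · exact h
  funext h
  have h3 := (sum_eq_zero_iff_of_nonneg (fun h _ => Complex.normSq_nonneg (f h))).1 h2 h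
    (mem_univ h)
  exact Complex.normSq_eq_zero.1 h3

theorem classInner_add_right (f g₁ g₂ : H → ℂ) :
    classInner f (g₁ + g₂) = classInner f g₁ + classInner f g₂ := by
  rw [Cfsg.Agent.Lib.CT.Clifford.classInner_conj_symm, Cfsg.Agent.Lib.CT.Orth.classInner_add_left,
    map_add, ← Cfsg.Agent.Lib.CT.Clifford.classInner_conj_symm,
    ← Cfsg.Agent.Lib.CT.Clifford.classInner_conj_symm]

theorem classInner_intsmul_right (a : ℤ) (f g : H → ℂ) :
    classInner f ((a : ℂ) • g) = (a : ℂ) * classInner f g := by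
  rw [Cfsg.Agent.Lib.CT.Clifford.classInner_conj_symm, Cfsg.Agent.Lib.CT.Orth.classInner_smul_left,
    map_mul, map_intCast, ← Cfsg.Agent.Lib.CT.Clifford.classInner_conj_symm]

variable [Fintype (IrrCharacter H)]

/-- The combination of truncated characters of `b` with integer coefficients `c`. -/
noncomputable def th (p : ℕ) (b : Set (IrrCharacter H)) [DecidablePred (· ∈ b)]
    (c : IrrCharacter H → ℤ) : H → ℂ :=
  ∑ ξ ∈ univ.filter (· ∈ b), (c ξ : ℂ) • pRegularPart p (ξ : H → ℂ)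

/-- The contribution form of `b` on integer vectors. -/
noncomputable def Bf (p : ℕ) (b : Set (IrrCharacter H)) [DecidablePred (· ∈ b)]
    (c c' : IrrCharacter H → ℤ) : ℤ :=
  ∑ ξ ∈ univ.filter (· ∈ b), ∑ ξ' ∈ univ.filter (· ∈ b), c ξ * c' ξ' * mz p b ξ ξ'

theorem th_add (p : ℕ) (b : Set (IrrCharacter H)) [DecidablePred (· ∈ b)]
    (u v : IrrCharacter H → ℤ) : th p b (u + v) = th p b u + th p b v := by
  unfold th
  rw [← sum_add_distrib]
  refine sum_congr rfl fun ξ _ => ?_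
  rw [Pi.add_apply, Int.cast_add, add_smul]

theorem th_sub (p : ℕ) (b : Set (IrrCharacter H)) [DecidablePred (· ∈ b)]
    (u v : IrrCharacter H → ℤ) : th p b (u - v) = th p b u - th p b v := by
  unfold th
  rw [← sum_sub_distrib]
  refine sum_congr rfl fun ξ _ => ?_
  rw [Pi.sub_apply, Int.cast_sub, sub_smul]

theorem th_zero (p : ℕ) (b : Set (IrrCharacter H)) [DecidablePred (· ∈ b)] :
    th p b (0 : IrrCharacter H → ℤ) = 0 := by
  unfold th
  refine sum_eq_zero fun ξ _ => ?_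
  rw [Pi.zero_apply, Int.cast_zero, zero_smul]

theorem classInner_th_right (p : ℕ) (b : Set (IrrCharacter H)) [DecidablePred (· ∈ b)]
    (f : H → ℂ) (c : IrrCharacter H → ℤ) :
    classInner f (th p b c)
      = ∑ ξ ∈ univ.filter (· ∈ b), (c ξ : ℂ) * classInner f (pRegularPart p (ξ : H → ℂ)) := by
  unfold th
  rw [Cfsg.Agent.Lib.CT.Clifford.classInner_conj_symm, Cfsg.Agent.Lib.CT.Orth.classInner_sum_left,
    map_sum]
  refine sum_congr rfl fun ξ _ => ?_
  rw [Cfsg.Agent.Lib.CT.Orth.classInner_smul_left, map_mul, map_intCast,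
    ← Cfsg.Agent.Lib.CT.Clifford.classInner_conj_symm]

section form

variable (p : ℕ) [Fact p.Prime] (M : Ideal AlgInt) (hM : IsPModular p M)
  (b : Set (IrrCharacter H)) (hb : IsPBlock M b) [DecidablePred (· ∈ b)]

include hM in
theorem Bf_cast (c c' : IrrCharacter H → ℤ) :
    (Bf p b c c' : ℂ) = (p : ℂ) ^ blockDefect p b * classInner (th p b c) (th p b c') := by
  unfold Bf
  conv_rhs => rw [th]
  rw [Cfsg.Agent.Lib.CT.Orth.classInner_sum_left, mul_sum]
  push_cast
  refine sum_congr rfl fun ξ hξ => ?_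
  rw [Cfsg.Agent.Lib.CT.Orth.classInner_smul_left, classInner_th_right, mul_sum, mul_sum]
  refine sum_congr rfl fun ξ' _ => ?_
  rw [classInner_pRegularPart_right, mz_cast p M hM b ξ ξ' (mem_filter.1 hξ).2]
  ring

include hM in
theorem Bf_symm (c c' : IrrCharacter H → ℤ) : Bf p b c c' = Bf p b c' c := by
  unfold Bf
  rw [sum_comm]
  refine sum_congr rfl fun ξ hξ => sum_congr rfl fun ξ' hξ' => ?_
  rw [mz_symm p M hM b ξ' ξ (mem_filter.1 hξ').2 (mem_filter.1 hξ).2]
  ring

omit [Fact p.Prime] in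
theorem Bf_add_left (u v w : IrrCharacter H → ℤ) :
    Bf p b (u + v) w = Bf p b u w + Bf p b v w := by
  unfold Bf
  simp only [Pi.add_apply, add_mul, sum_add_distrib]

omit [Fact p.Prime] in
theorem Bf_sub_left (u v w : IrrCharacter H → ℤ) :
    Bf p b (u - v) w = Bf p b u w - Bf p b v w := by
  unfold Bf
  simp only [Pi.sub_apply, sub_mul, sum_sub_distrib]

include hM in
theorem Bf_add_self (u v : IrrCharacter H → ℤ) :
    Bf p b (u + v) (u + v) = Bf p b u u + 2 * Bf p b u v + Bf p b v v := by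
  rw [Bf_add_left, Bf_symm p M hM b u (u + v), Bf_symm p M hM b v (u + v), Bf_add_left,
    Bf_add_left, Bf_symm p M hM b v u]
  ring

include hM in
theorem Bf_sub_self (u v : IrrCharacter H → ℤ) :
    Bf p b (u - v) (u - v) = Bf p b u u - 2 * Bf p b u v + Bf p b v v := by
  rw [Bf_sub_left, Bf_symm p M hM b u (u - v), Bf_symm p M hM b v (u - v), Bf_sub_left,
    Bf_sub_left, Bf_symm p M hM b v u]
  ring

include hM in
theorem Bf_nonneg (c : IrrCharacter H → ℤ) : 0 ≤ Bf p b c c := by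
  have hpp : p.Prime := Fact.out
  have h1 := Bf_cast p M hM b c c
  rw [classInner_self] at h1
  have h2 : ((Bf p b c c : ℤ) : ℝ) = (p : ℝ) ^ blockDefect p b
      * ((Nat.card H : ℝ)⁻¹ * ∑ h : H, Complex.normSq (th p b c h)) := by
    exact_mod_cast h1
  have h3 : (0 : ℝ) ≤ ((Bf p b c c : ℤ) : ℝ) := by
    rw [h2]
    refine mul_nonneg (pow_nonneg (Nat.cast_nonneg p) _) (mul_nonneg (inv_nonneg.2
      (Nat.cast_nonneg _)) (sum_nonneg fun h _ => Complex.normSq_nonneg _))
  exact_mod_cast h3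

end form

section gen

variable (p : ℕ) [Fact p.Prime] (M : Ideal AlgInt) (hM : IsPModular p M)
  (b : Set (IrrCharacter H)) (hb : IsPBlock M b) [DecidablePred (· ∈ b)]

include hM in
/-- A block of `p`-regular rank at most two has a generating pair for its lattice of truncated
characters. -/
theorem exists_gen (hl : blockRank p b ≤ 2) :
    ∃ c0 c1 : IrrCharacter H → ℤ, ∀ ξ ∈ b, ∃ a a' : ℤ,
      pRegularPart p (ξ : H → ℂ) = (a : ℂ) • th p b c0 + (a' : ℂ) • th p b c1 := by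
  classical
  have hpp : p.Prime := Fact.out
  have hp0 : (p : ℂ) ^ blockDefect p b ≠ 0 := pow_ne_zero _ (Nat.cast_ne_zero.2 hpp.ne_zero)
  obtain ⟨v, hv⟩ : ∃ v : IrrCharacter H → (H → ℂ), ∀ ξ : IrrCharacter H,
      v ξ = if ξ ∈ b then pRegularPart p (ξ : H → ℂ) else 0 := ⟨_, fun _ => rfl⟩
  obtain ⟨L, hL⟩ : ∃ L : Submodule ℤ (H → ℂ), L = Submodule.span ℤ (Set.range v) := ⟨_, rfl⟩
  have hmem : ∀ f ∈ L, ∃ c : IrrCharacter H → ℤ, th p b c = f := by
    intro f hf
    rw [hL] at hf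
    obtain ⟨c, hc⟩ := (Submodule.mem_span_range_iff_exists_fun ℤ).1 hf
    refine ⟨c, ?_⟩
    rw [← hc]
    unfold th
    rw [sum_filter]
    refine sum_congr rfl fun ξ _ => ?_
    rw [hv]
    by_cases hξ : ξ ∈ b
    · rw [if_pos hξ, if_pos hξ, Int.cast_smul_eq_zsmul]
    · rw [if_neg hξ, if_neg hξ, smul_zero]
  have htrL : ∀ ξ ∈ b, pRegularPart p (ξ : H → ℂ) ∈ L := by
    intro ξ hξ
    rw [hL]
    apply Submodule.subset_span
    exact ⟨ξ, by rw [hv, if_pos hξ]⟩
  have : Module.Finite ℤ L := by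
    rw [hL]
    exact Module.Finite.span_of_finite ℤ (Set.finite_range v)
  -- every basis of `L` has at most two elements
  have hrepr : ∀ (r : ℕ) (bs : Module.Basis (Fin r) ℤ L) (ξ : IrrCharacter H) (hξ : ξ ∈ b),
      pRegularPart p (ξ : H → ℂ)
        = ∑ i : Fin r, ((bs.repr ⟨pRegularPart p (ξ : H → ℂ), htrL ξ hξ⟩ i : ℤ) : ℂ)
            • ((bs i : L) : H → ℂ) := by
    intro r bs ξ hξ
    have h1 : ((∑ i, bs.repr ⟨pRegularPart p (ξ : H → ℂ), htrL ξ hξ⟩ i • bs i : L) : H → ℂ)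
        = pRegularPart p (ξ : H → ℂ) :=
      congrArg (Subtype.val) (bs.sum_repr ⟨pRegularPart p (ξ : H → ℂ), htrL ξ hξ⟩)
    rw [Submodule.coe_sum] at h1
    refine h1.symm.trans ?_
    refine sum_congr rfl fun i _ => ?_
    rw [Submodule.coe_smul, Int.cast_smul_eq_zsmul]
  have hkey : ∀ (r : ℕ) (bs : Module.Basis (Fin r) ℤ L), r ≤ 2 →
      ∃ c0 c1 : IrrCharacter H → ℤ, ∀ ξ ∈ b, ∃ a a' : ℤ,
        pRegularPart p (ξ : H → ℂ) = (a : ℂ) • th p b c0 + (a' : ℂ) • th p b c1 := by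
    intro r bs hr
    interval_cases r
    · refine ⟨0, 0, fun ξ hξ => ⟨0, 0, ?_⟩⟩
      rw [hrepr 0 bs ξ hξ]
      simp
    · obtain ⟨c0, hc0⟩ := hmem _ (bs 0).2
      refine ⟨c0, 0, fun ξ hξ => ⟨bs.repr ⟨pRegularPart p (ξ : H → ℂ), htrL ξ hξ⟩ 0, 0, ?_⟩⟩
      rw [hc0, Int.cast_zero, zero_smul, add_zero]
      conv_lhs => rw [hrepr 1 bs ξ hξ]
      rw [Fin.sum_univ_one]
    · obtain ⟨c0, hc0⟩ := hmem _ (bs 0).2
      obtain ⟨c1, hc1⟩ := hmem _ (bs 1).2
      refine ⟨c0, c1, fun ξ hξ => ⟨bs.repr ⟨pRegularPart p (ξ : H → ℂ), htrL ξ hξ⟩ 0,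
        bs.repr ⟨pRegularPart p (ξ : H → ℂ), htrL ξ hξ⟩ 1, ?_⟩⟩
      rw [hc0, hc1]
      conv_lhs => rw [hrepr 2 bs ξ hξ]
      rw [Fin.sum_univ_two]
  apply hkey (Module.finrank ℤ L) (Module.finBasis ℤ L)
  -- the rank bound
  obtain ⟨r, hr⟩ : ∃ r : ℕ, r = Module.finrank ℤ L := ⟨_, rfl⟩
  obtain ⟨bs, -⟩ : ∃ bs : Module.Basis (Fin (Module.finrank ℤ L)) ℤ L, bs = Module.finBasis ℤ L :=
    ⟨_, rfl⟩
  choose cc hcc using fun i : Fin (Module.finrank ℤ L) => hmem _ (bs i).2
  have hli : LinearIndependent ℂ (fun i : Fin (Module.finrank ℤ L) => ((bs i : L) : H → ℂ)) := by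
    rw [Fintype.linearIndependent_iff]
    intro a ha
    by_contra hne
    push Not at hne
    obtain ⟨Gz, hGz⟩ : ∃ Gz : Matrix (Fin (Module.finrank ℤ L)) (Fin (Module.finrank ℤ L)) ℤ,
        ∀ i j, Gz i j = Bf p b (cc i) (cc j) := ⟨fun i j => Bf p b (cc i) (cc j), fun _ _ => rfl⟩
    have hG : ∀ i j, ((Gz i j : ℤ) : ℂ) = (p : ℂ) ^ blockDefect p b
        * classInner ((bs i : L) : H → ℂ) ((bs j : L) : H → ℂ) := by
      intro i j
      rw [hGz, ← hcc i, ← hcc j]
      exact Bf_cast p M hM b _ _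
    have hker : Matrix.vecMul a (Gz.map (Int.cast : ℤ → ℂ)) = 0 := by
      funext j
      simp only [Matrix.vecMul, dotProduct, Matrix.map_apply, Pi.zero_apply]
      have h1 : ∑ i, a i * ((Gz i j : ℤ) : ℂ) = (p : ℂ) ^ blockDefect p b
          * classInner (∑ i, a i • ((bs i : L) : H → ℂ)) ((bs j : L) : H → ℂ) := by
        rw [Cfsg.Agent.Lib.CT.Orth.classInner_sum_left, mul_sum]
        refine sum_congr rfl fun i _ => ?_
        rw [Cfsg.Agent.Lib.CT.Orth.classInner_smul_left, hG]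
        ring
      rw [h1, ha, Cfsg.Agent.Lib.CT.Orth.classInner_zero_left, mul_zero]
    have hdet : (Gz.map (Int.cast : ℤ → ℂ)).det = 0 :=
      Matrix.exists_vecMul_eq_zero_iff.1 ⟨a, fun h0 => by
        obtain ⟨i, hi⟩ := hne
        exact hi (congrFun h0 i), hker⟩
    have hdetz : Gz.det = 0 := by
      have h := (Int.castRingHom ℂ).map_det Gz
      have h' : ((Int.castRingHom ℂ).mapMatrix Gz) = Gz.map (Int.cast : ℤ → ℂ) := rfl
      rw [h', hdet] at h
      have h'' : ((Gz.det : ℤ) : ℂ) = 0 := h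
      exact_mod_cast h''
    obtain ⟨m, hm0, hm⟩ := Matrix.exists_vecMul_eq_zero_iff.2 hdetz
    have hW : (∑ i, m i • bs i : L) = 0 := by
      apply Subtype.ext
      rw [Submodule.coe_sum, Submodule.coe_zero]
      have e1 : ∑ i, ((m i • bs i : L) : H → ℂ) = ∑ i, (m i : ℂ) • ((bs i : L) : H → ℂ) := by
        refine sum_congr rfl fun i _ => ?_
        rw [Submodule.coe_smul, Int.cast_smul_eq_zsmul]
      rw [e1]
      apply classInner_self_eq_zero
      have e2 : ∀ j, classInner (∑ i, (m i : ℂ) • ((bs i : L) : H → ℂ)) ((bs j : L) : H → ℂ)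
          = 0 := by
        intro j
        have h1 : (p : ℂ) ^ blockDefect p b
            * classInner (∑ i, (m i : ℂ) • ((bs i : L) : H → ℂ)) ((bs j : L) : H → ℂ)
            = ((∑ i, m i * Gz i j : ℤ) : ℂ) := by
          rw [Cfsg.Agent.Lib.CT.Orth.classInner_sum_left, mul_sum]
          push_cast
          refine sum_congr rfl fun i _ => ?_
          rw [Cfsg.Agent.Lib.CT.Orth.classInner_smul_left, hG]
          ring
        have h2 : ∑ i, m i * Gz i j = 0 := by
          have := congrFun hm j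
          simpa [Matrix.vecMul, dotProduct] using this
        rw [h2, Int.cast_zero] at h1
        rcases mul_eq_zero.1 h1 with h | h
        · exact absurd h hp0
        · exact h
      rw [Cfsg.Agent.Lib.CT.Clifford.classInner_conj_symm,
        Cfsg.Agent.Lib.CT.Orth.classInner_sum_left, map_sum]
      refine sum_eq_zero fun i _ => ?_
      rw [Cfsg.Agent.Lib.CT.Orth.classInner_smul_left,
        Cfsg.Agent.Lib.CT.Clifford.classInner_conj_symm, e2 i, map_zero, mul_zero, map_zero]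
    have h3 := Fintype.linearIndependent_iff.1 bs.linearIndependent m hW
    exact hm0 (funext h3)
  have hcard := linearIndependent_iff_card_eq_finrank_span.1 hli
  rw [Fintype.card_fin] at hcard
  rw [hcard]
  refine le_trans ?_ hl
  unfold blockRank Set.finrank
  apply Submodule.finrank_mono
  rw [Submodule.span_le]
  rintro _ ⟨i, rfl⟩
  have h2 : L ≤ (Submodule.span ℂ
      ((fun χ : IrrCharacter H => pRegularPart p (χ : H → ℂ)) '' b)).restrictScalars ℤ := by
    rw [hL, Submodule.span_le]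
    rintro _ ⟨ξ, rfl⟩
    rw [hv]
    by_cases hξ : ξ ∈ b
    · rw [if_pos hξ]
      exact Submodule.subset_span ⟨ξ, hξ, rfl⟩
    · rw [if_neg hξ]
      exact Submodule.zero_mem _
  exact h2 (bs i).2

include hM in
/-- A weakly reduced generating pair, with coordinates. -/
theorem exists_pair (hl : blockRank p b ≤ 2) :
    ∃ (c0 c1 x0 x1 : IrrCharacter H → ℤ),
      (∀ ξ ∈ b, pRegularPart p (ξ : H → ℂ)
        = (x0 ξ : ℂ) • th p b c0 + (x1 ξ : ℂ) • th p b c1) ∧
      2 * |Bf p b c0 c1| ≤ Bf p b c0 c0 ∧ 2 * |Bf p b c0 c1| ≤ Bf p b c1 c1 := by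
  obtain ⟨c0, c1, hgen⟩ := exists_gen p M hM b hl
  obtain ⟨ψ0, ψ1, hgen', h0, h1⟩ := exists_reduced (Bf p b) (Bf_nonneg p M hM b)
    (Bf_add_self p M hM b) (Bf_sub_self p M hM b) (Bf_symm p M hM b)
    (fun u v => ∀ ξ ∈ b, ∃ a a' : ℤ,
      pRegularPart p (ξ : H → ℂ) = (a : ℂ) • th p b u + (a' : ℂ) • th p b v)
    (fun u v h ξ hξ => by
      obtain ⟨a, a', ha⟩ := h ξ hξ
      refine ⟨a - a', a', ?_⟩
      rw [ha, th_add]
      push_cast
      module)
    (fun u v h ξ hξ => by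
      obtain ⟨a, a', ha⟩ := h ξ hξ
      refine ⟨a + a', a', ?_⟩
      rw [ha, th_sub]
      push_cast
      module)
    (fun u v h ξ hξ => by
      obtain ⟨a, a', ha⟩ := h ξ hξ
      refine ⟨a, a' - a, ?_⟩
      rw [ha, th_add]
      push_cast
      module)
    (fun u v h ξ hξ => by
      obtain ⟨a, a', ha⟩ := h ξ hξ
      refine ⟨a, a' + a, ?_⟩
      rw [ha, th_sub]
      push_cast
      module)
    _ c0 c1 hgen rfl
  have h2 : ∀ ξ : IrrCharacter H, ∃ a a' : ℤ, ξ ∈ b →
      pRegularPart p (ξ : H → ℂ) = (a : ℂ) • th p b ψ0 + (a' : ℂ) • th p b ψ1 := by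
    intro ξ
    by_cases hξ : ξ ∈ b
    · obtain ⟨a, a', ha⟩ := hgen' ξ hξ
      exact ⟨a, a', fun _ => ha⟩
    · exact ⟨0, 0, fun h => absurd h hξ⟩
  choose x0 x1 hx using h2
  exact ⟨ψ0, ψ1, x0, x1, hx, h0, h1⟩

end gen

section coords

/-- The coordinate sums: `∑_{η ∈ b} n η x η λ_η ^ t`. -/
noncomputable def cs (b : Set (IrrCharacter H)) [DecidablePred (· ∈ b)] (n : IrrCharacter H → ℕ)
    (x : IrrCharacter H → ℤ) (z : H) (t : ℕ) : ℂ :=
  ∑ η ∈ univ.filter (· ∈ b), (((n η : ℤ) * x η : ℤ) : ℂ) * ((η : H → ℂ) z / (η : H → ℂ) 1) ^ t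

theorem cs_congr (b : Set (IrrCharacter H)) [DecidablePred (· ∈ b)] (n : IrrCharacter H → ℕ)
    (x x' : IrrCharacter H → ℤ) (h : ∀ η ∈ b, x η = x' η) (z : H) (t : ℕ) :
    cs b n x z t = cs b n x' z t := by
  unfold cs
  refine sum_congr rfl fun η hη => ?_
  rw [h η (mem_filter.1 hη).2]

theorem cs_lin (b : Set (IrrCharacter H)) [DecidablePred (· ∈ b)] (n : IrrCharacter H → ℕ)
    (x x' : IrrCharacter H → ℤ) (u u' : ℤ) (z : H) (t : ℕ) :
    cs b n (fun η => u * x η + u' * x' η) z t = (u : ℂ) * cs b n x z t + (u' : ℂ) * cs b n x' z t := by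
  unfold cs
  rw [mul_sum, mul_sum, ← sum_add_distrib]
  refine sum_congr rfl fun η _ => ?_
  push_cast
  ring

theorem cs_mul_conj (b : Set (IrrCharacter H)) [DecidablePred (· ∈ b)] (n : IrrCharacter H → ℕ)
    (x x' : IrrCharacter H → ℤ) (z : H) (t : ℕ) :
    cs b n x z t * conj (cs b n x' z t)
      = ∑ η ∈ univ.filter (· ∈ b), ∑ η' ∈ univ.filter (· ∈ b),
          (((n η : ℤ) * x η : ℤ) : ℂ) * (((n η' : ℤ) * x' η' : ℤ) : ℂ)
            * (((η : H → ℂ) z / (η : H → ℂ) 1) * conj ((η' : H → ℂ) z / (η' : H → ℂ) 1)) ^ t := by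
  unfold cs
  rw [map_sum, sum_mul_sum]
  refine sum_congr rfl fun η _ => sum_congr rfl fun η' _ => ?_
  rw [map_mul, map_intCast, map_pow, mul_pow]
  ring

variable (p : ℕ) [Fact p.Prime] (M : Ideal AlgInt) (hM : IsPModular p M)
  (b : Set (IrrCharacter H)) (hb : IsPBlock M b) [DecidablePred (· ∈ b)]

include hM in
theorem mz_coords (c0 c1 x0 x1 : IrrCharacter H → ℤ)
    (hx : ∀ ξ ∈ b, pRegularPart p (ξ : H → ℂ)
      = (x0 ξ : ℂ) • th p b c0 + (x1 ξ : ℂ) • th p b c1)
    (ξ ξ' : IrrCharacter H) (hξ : ξ ∈ b) (hξ' : ξ' ∈ b) :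
    mz p b ξ ξ' = x0 ξ * x0 ξ' * Bf p b c0 c0 + (x0 ξ * x1 ξ' + x1 ξ * x0 ξ') * Bf p b c0 c1
      + x1 ξ * x1 ξ' * Bf p b c1 c1 := by
  have hpp : p.Prime := Fact.out
  have hp0 : (p : ℂ) ^ blockDefect p b ≠ 0 := pow_ne_zero _ (Nat.cast_ne_zero.2 hpp.ne_zero)
  have hs : classInner (th p b c1) (th p b c0) = classInner (th p b c0) (th p b c1) := by
    have h1 := Bf_cast p M hM b c1 c0
    have h2 := Bf_cast p M hM b c0 c1
    rw [Bf_symm p M hM b c1 c0, h2] at h1
    exact (mul_left_cancel₀ hp0 h1).symm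
  have h : ((mz p b ξ ξ' : ℤ) : ℂ) = ((x0 ξ * x0 ξ' * Bf p b c0 c0
      + (x0 ξ * x1 ξ' + x1 ξ * x0 ξ') * Bf p b c0 c1 + x1 ξ * x1 ξ' * Bf p b c1 c1 : ℤ) : ℂ) := by
    rw [mz_cast p M hM b ξ ξ' hξ, ← classInner_pRegularPart_right]
    conv_lhs => rw [hx ξ hξ, hx ξ' hξ']
    rw [Cfsg.Agent.Lib.CT.Orth.classInner_add_left, Cfsg.Agent.Lib.CT.Orth.classInner_smul_left,
      Cfsg.Agent.Lib.CT.Orth.classInner_smul_left, classInner_add_right, classInner_add_right,
      classInner_intsmul_right, classInner_intsmul_right, classInner_intsmul_right,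
      classInner_intsmul_right, hs]
    push_cast
    rw [Bf_cast p M hM b c0 c0, Bf_cast p M hM b c0 c1, Bf_cast p M hM b c1 c1]
    ring
  exact_mod_cast h

include hM in
/-- The scaled contribution of `b` to a shifted character, in coordinates. -/
theorem mm_coords (c0 c1 x0 x1 : IrrCharacter H → ℤ)
    (hx : ∀ ξ ∈ b, pRegularPart p (ξ : H → ℂ)
      = (x0 ξ : ℂ) • th p b c0 + (x1 ξ : ℂ) • th p b c1)
    (X : H → ℂ) (n : IrrCharacter H → ℕ)
    (hn : X = ∑ η : IrrCharacter H, (n η : ℂ) • (η : H → ℂ)) (z : H)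
    (hz : ∀ h : H, z * h = h * z) (t : ℕ) :
    (p : ℂ) ^ blockDefect p b
        * mm p b (fun h : H => X (z ^ t * h)) (fun h : H => X (z ^ t * h))
      = (Bf p b c0 c0 : ℂ) * (cs b n x0 z t * conj (cs b n x0 z t))
        + (Bf p b c1 c1 : ℂ) * (cs b n x1 z t * conj (cs b n x1 z t))
        + (Bf p b c0 c1 : ℂ) * (cs b n x0 z t * conj (cs b n x1 z t)
          + cs b n x1 z t * conj (cs b n x0 z t)) := by
  rw [mm_shift p b X X n n hn hn z hz t, cs_mul_conj, cs_mul_conj, cs_mul_conj, cs_mul_conj]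
  simp only [mul_sum, mul_add, ← sum_add_distrib]
  refine sum_congr rfl fun η hη => sum_congr rfl fun η' hη' => ?_
  have e : (p : ℂ) ^ blockDefect p b * ((n η : ℂ) * (n η' : ℂ)
      * (((η : H → ℂ) z / (η : H → ℂ) 1) * conj ((η' : H → ℂ) z / (η' : H → ℂ) 1)) ^ t
      * classInner (pRegularPart p (η : H → ℂ)) (η' : H → ℂ))
      = (n η : ℂ) * (n η' : ℂ)
      * (((η : H → ℂ) z / (η : H → ℂ) 1) * conj ((η' : H → ℂ) z / (η' : H → ℂ) 1)) ^ t
      * ((p : ℂ) ^ blockDefect p b * classInner (pRegularPart p (η : H → ℂ)) (η' : H → ℂ)) := by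
    ring
  rw [e, ← mz_cast p M hM b η η' (mem_filter.1 hη).2,
    mz_coords p M hM b c0 c1 x0 x1 hx η η' (mem_filter.1 hη).2 (mem_filter.1 hη').2]
  push_cast
  ring

include hM hb in
/-- Scaled integer combinations of the truncated coefficients of a shifted character. -/
theorem lin_coords (c : IrrCharacter H → ℤ) (X : H → ℂ) (n : IrrCharacter H → ℕ)
    (hn : X = ∑ η : IrrCharacter H, (n η : ℂ) • (η : H → ℂ)) (z : H)
    (hz : ∀ h : H, z * h = h * z) (t : ℕ) :
    (p : ℂ) ^ blockDefect p b * ∑ ξ ∈ univ.filter (· ∈ b), (c ξ : ℂ)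
        * classInner (pRegularPart p (fun h : H => X (z ^ t * h))) (ξ : H → ℂ)
      = cs b n (fun η => ∑ ξ ∈ univ.filter (· ∈ b), c ξ * mz p b η ξ) z t := by
  unfold cs
  have h1 : ∀ ξ ∈ univ.filter (· ∈ b), (p : ℂ) ^ blockDefect p b * ((c ξ : ℂ)
        * classInner (pRegularPart p (fun h : H => X (z ^ t * h))) (ξ : H → ℂ))
      = ∑ η ∈ univ.filter (· ∈ b), (c ξ : ℂ)
          * ((n η : ℂ) * ((η : H → ℂ) z / (η : H → ℂ) 1) ^ t * (mz p b η ξ : ℂ)) := by
    intro ξ hξ
    rw [mul_left_comm, shift_coeff p M hM b hb X n hn z hz t ξ (mem_filter.1 hξ).2, mul_sum]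
  rw [mul_sum, sum_congr rfl h1, sum_comm]
  refine sum_congr rfl fun η _ => ?_
  push_cast
  rw [mul_sum, sum_mul]
  refine sum_congr rfl fun ξ _ => ?_
  ring

omit [Fact p.Prime] in
theorem Bf_single (ψ₀ : IrrCharacter H) (hψ₀ : ψ₀ ∈ b) :
    ∑ ξ ∈ univ.filter (· ∈ b), ∑ ξ' ∈ univ.filter (· ∈ b),
      (if ξ = ψ₀ then (1 : ℤ) else 0) * (if ξ' = ψ₀ then (1 : ℤ) else 0) * mz p b ξ ξ'
      = mz p b ψ₀ ψ₀ := by
  rw [sum_eq_single ψ₀]
  · rw [sum_eq_single ψ₀]
    · rw [if_pos rfl, one_mul, one_mul]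
    · intro ξ' _ hne
      rw [if_neg hne, mul_zero, zero_mul]
    · intro h
      exact absurd (mem_filter.2 ⟨mem_univ _, hψ₀⟩) h
  · intro ξ _ hne
    refine sum_eq_zero fun ξ' _ => ?_
    rw [if_neg hne, zero_mul, zero_mul]
  · intro h
    exact absurd (mem_filter.2 ⟨mem_univ _, hψ₀⟩) h

end coords

end lattice

/-- Let B be a p-block of the finite group G (relative to a maximal ideal M of the algebraic integers containing p) of defect d with defect group D. Let z be an element of D commuting with every element of D, and let b be a block of the centralizer C of z with defect group D that induces B (a major subsection (z, b)). If b has p-regular rank at most two, then B contains at most p ^ d irreducible characters. -/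
theorem result {G : Type*} [Group G] [Finite G] (p : ℕ) [Fact p.Prime] (M : Ideal Cfsg.AlgInt) (hM : Cfsg.IsPModular p M) (B : Set (Cfsg.IrrCharacter G)) (hB : Cfsg.IsPBlock M B) (D : Subgroup G) (hD : Cfsg.IsDefectGroup p M B D) (z : G) (hzD : z ∈ D) (hzc : ∀ d ∈ D, d * z = z * d) (b : Set (Cfsg.IrrCharacter ↥(Subgroup.centralizer ({z} : Set G)))) (hb : Cfsg.IsInducedBlock M (Subgroup.centralizer ({z} : Set G)) b B) (hbD : Cfsg.IsDefectGroup p M b (D.subgroupOf (Subgroup.centralizer ({z} : Set G)))) (hl : Cfsg.blockRank p b ≤ 2) : Nat.card B ≤ p ^ Cfsg.blockDefect p B := by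
  classical
  have hpp : p.Prime := Fact.out
  have hMp : M.IsPrime := isPrime_of_isPModular hM
  have : Fintype G := Fintype.ofFinite G
  have : Fintype (Subgroup.centralizer ({z} : Set G)) := Fintype.ofFinite _
  have := Cfsg.Agent.Lib.CT.Wedderburn.finite_irrCharacter G
  have : Fintype (IrrCharacter G) := Fintype.ofFinite _
  have := Cfsg.Agent.Lib.CT.Wedderburn.finite_irrCharacter (Subgroup.centralizer ({z} : Set G))
  have : Fintype (IrrCharacter (Subgroup.centralizer ({z} : Set G))) := Fintype.ofFinite _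
  have hbb : IsPBlock M b := hb.1
  have hp0 : (p : ℂ) ≠ 0 := Nat.cast_ne_zero.2 hpp.ne_zero
  -- the defects agree and `z` is a `p`-element
  have hDC : D ≤ Subgroup.centralizer ({z} : Set G) := by
    intro d hd
    rw [Subgroup.mem_centralizer_iff]
    intro h hh
    rw [Set.mem_singleton_iff] at hh
    rw [hh]
    exact (hzc d hd).symm
  have hcD := Cfsg.Agent.Lib.Helper16.Defect.card_defectGroup p hM B hB D hD
  have hcD' := Cfsg.Agent.Lib.Helper16.Defect.card_defectGroup p hM b hbb _ hbD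
  have hdb : blockDefect p b = blockDefect p B := by
    have h1 : Nat.card (D.subgroupOf (Subgroup.centralizer ({z} : Set G))) = Nat.card D :=
      Nat.card_congr (Subgroup.subgroupOfEquivOfLe hDC).toEquiv
    rw [hcD, hcD'] at h1
    exact Nat.pow_right_injective hpp.two_le h1
  obtain ⟨k, hk⟩ : ∃ k : ℕ, orderOf z = p ^ k := by
    have h1 : orderOf z ∣ Nat.card D := Subgroup.orderOf_dvd_natCard D hzD
    rw [hcD] at h1
    obtain ⟨k, -, hk⟩ := (Nat.dvd_prime_pow hpp).1 h1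
    exact ⟨k, hk⟩
  -- the central element
  have hzC : z ∈ Subgroup.centralizer ({z} : Set G) := by
    rw [Subgroup.mem_centralizer_iff]
    intro h hh'
    rw [Set.mem_singleton_iff] at hh'
    rw [hh']
  obtain ⟨zz, hzdef⟩ : ∃ zz : Subgroup.centralizer ({z} : Set G), zz = ⟨z, hzC⟩ := ⟨_, rfl⟩
  have hzval : (zz : G) = z := by rw [hzdef]
  have hz : ∀ h : Subgroup.centralizer ({z} : Set G), zz * h = h * zz := by
    intro h
    apply Subtype.ext
    rw [Subgroup.coe_mul, Subgroup.coe_mul, hzval]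
    exact Subgroup.mem_centralizer_iff.1 h.2 z rfl
  have hzk : zz ^ (p ^ k) = 1 := by
    apply Subtype.ext
    rw [Subgroup.coe_pow, hzval, ← hk, pow_orderOf_eq_one]
    rfl
  -- the restrictions
  have hres : ∀ χ : IrrCharacter G, ∃ n : IrrCharacter (Subgroup.centralizer ({z} : Set G)) → ℕ,
      (fun y : Subgroup.centralizer ({z} : Set G) => (χ : G → ℂ) y)
        = ∑ η : IrrCharacter (Subgroup.centralizer ({z} : Set G)),
            (n η : ℂ) • (η : Subgroup.centralizer ({z} : Set G) → ℂ) := by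
    intro χ
    obtain ⟨n, -, hn⟩ := Cfsg.Agent.Lib.CT.NormOne.exists_mult_sum
      (Cfsg.Agent.Lib.CT.Ops.isCharacter_restrict (Subgroup.centralizer ({z} : Set G))
        (Cfsg.Agent.Lib.CT.Wedderburn.isCharacter_of_irr χ.2))
    exact ⟨n, hn⟩
  choose nn hnn using hres
  have hshift : ∀ (χ : IrrCharacter G) (t : ℕ),
      (fun c : Subgroup.centralizer ({z} : Set G) => (χ : G → ℂ) (z ^ t * c))
      = fun h : Subgroup.centralizer ({z} : Set G) =>
          (fun c : Subgroup.centralizer ({z} : Set G) => (χ : G → ℂ) c) (zz ^ t * h) := by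
    intro χ t
    funext h
    show (χ : G → ℂ) (z ^ t * h)
      = (χ : G → ℂ) ((zz ^ t * h : Subgroup.centralizer ({z} : Set G)) : G)
    rw [Subgroup.coe_mul, Subgroup.coe_pow, hzval]
  -- the set of units
  obtain ⟨U, hU⟩ : ∃ U : Finset ℕ, U = (range (p ^ k)).filter (fun t => Nat.Coprime t (p ^ k)) :=
    ⟨_, rfl⟩
  have hUcard : U.card = (p ^ k).totient := by
    rw [hU, Nat.totient_eq_card_coprime]
    congr 1
    ext t
    simp only [mem_filter, Nat.coprime_comm]
  have hφ : 0 < (p ^ k).totient := Nat.totient_pos.2 (pow_pos hpp.pos k)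
  have hφ' : (0 : ℝ) < ((p ^ k).totient : ℝ) := by exact_mod_cast hφ
  have hUx : ∀ t ∈ U, Nat.Coprime t (orderOf z) ∧ ∃ k' : ℕ, orderOf (z ^ t) = p ^ k' := by
    intro t ht
    rw [hU] at ht
    have htc : Nat.Coprime t (orderOf z) := by rw [hk]; exact (mem_filter.1 ht).2
    exact ⟨htc, k, by rw [orderOf_pow, Nat.coprime_comm.1 htc, Nat.div_one, hk]⟩
  have hcard : Nat.card B = (univ.filter (· ∈ B) : Finset (IrrCharacter G)).card := by
    rw [Nat.card_eq_fintype_card, Fintype.card_subtype]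
  have hlam : ∀ η : IrrCharacter (Subgroup.centralizer ({z} : Set G)),
      ((η : Subgroup.centralizer ({z} : Set G) → ℂ) zz
        / (η : Subgroup.centralizer ({z} : Set G) → ℂ) 1) ^ (p ^ k) = 1 :=
    fun η => lam_pow _ η.2 zz hz _ hzk
  -- Galois sums of a nonzero coordinate sum
  have hcyc : ∀ (χ : IrrCharacter G) (x : IrrCharacter (Subgroup.centralizer ({z} : Set G)) → ℤ),
      cs b (nn χ) x zz 1 ≠ 0 →
      ((p ^ k).totient : ℝ) ≤ ∑ t ∈ U, Complex.normSq (cs b (nn χ) x zz t) := by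
    intro χ x hne
    have h1 := cyc_ge' hpp k (univ.filter (· ∈ b)) (fun η => (nn χ η : ℤ) * x η)
      (fun η => (η : Subgroup.centralizer ({z} : Set G) → ℂ) zz
        / (η : Subgroup.centralizer ({z} : Set G) → ℂ) 1) (fun η _ => hlam η)
      ⟨1, Nat.coprime_one_left _, hne⟩
    rw [← hU] at h1
    exact h1
  by_cases hA : ∃ c : IrrCharacter (Subgroup.centralizer ({z} : Set G)) → ℤ, Bf p b c c = 1
  · -- a vector of norm one
    obtain ⟨c, hc1⟩ := hA
    obtain ⟨Y, hYdef⟩ : ∃ Y : IrrCharacter G → ℕ → ℂ, ∀ χ t, Y χ t = cs b (nn χ)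
        (fun η => ∑ ξ ∈ univ.filter (· ∈ b), c ξ * mz p b η ξ) zz t := ⟨_, fun _ _ => rfl⟩
    have hY : ∀ (χ : IrrCharacter G) (t : ℕ), (p : ℂ) ^ blockDefect p b
        * ∑ ξ ∈ univ.filter (· ∈ b), (c ξ : ℂ) * classInner (pRegularPart p
            (fun y : Subgroup.centralizer ({z} : Set G) => (χ : G → ℂ) (z ^ t * y)))
            (ξ : Subgroup.centralizer ({z} : Set G) → ℂ) = Y χ t := by
      intro χ t
      rw [hYdef, hshift χ t]
      exact lin_coords p M hM b hbb c _ (nn χ) (hnn χ) zz hz t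
    have hBfc : ∑ ξ ∈ univ.filter (· ∈ b), ∑ ξ' ∈ univ.filter (· ∈ b),
        (c ξ : ℂ) * conj ((c ξ' : ℂ))
          * classInner (pRegularPart p (ξ' : Subgroup.centralizer ({z} : Set G) → ℂ))
            (ξ : Subgroup.centralizer ({z} : Set G) → ℂ) * (p : ℂ) ^ blockDefect p b = 1 := by
      have h1 : ((Bf p b c c : ℤ) : ℂ) = 1 := by rw [hc1]; norm_num
      rw [← h1]
      unfold Bf
      push_cast
      refine sum_congr rfl fun ξ hξ => ?_
      refine sum_congr rfl fun ξ' hξ' => ?_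
      rw [map_intCast, mz_symm p M hM b ξ ξ' (mem_filter.1 hξ).2 (mem_filter.1 hξ').2,
        mz_cast p M hM b ξ' ξ (mem_filter.1 hξ').2]
      ring
    have hsumA : ∀ t ∈ U, ∑ χ ∈ univ.filter (· ∈ B), Complex.normSq (Y χ t)
        = (p : ℝ) ^ blockDefect p b := by
      intro t ht
      obtain ⟨htc, hx⟩ := hUx t ht
      have h1 := sum_lin p M hM B (z ^ t) hx (Subgroup.centralizer ({z} : Set G))
        (Cfsg.Agent.S4716.centralizer_pow_eq z t htc) b hb (fun ξ => (c ξ : ℂ))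
        (fun ξ => (c ξ : ℂ))
      have h2 : ((∑ χ ∈ univ.filter (· ∈ B), Complex.normSq (Y χ t) : ℝ) : ℂ)
          = (((p : ℝ) ^ blockDefect p b : ℝ) : ℂ) := by
        push_cast
        have h3 : ∀ χ ∈ univ.filter (· ∈ B), ((Complex.normSq (Y χ t) : ℝ) : ℂ)
            = (p : ℂ) ^ blockDefect p b * (p : ℂ) ^ blockDefect p b
              * ((∑ ξ ∈ univ.filter (· ∈ b), (c ξ : ℂ) * classInner (pRegularPart p
                  (fun y : Subgroup.centralizer ({z} : Set G) => (χ : G → ℂ) (z ^ t * y)))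
                  (ξ : Subgroup.centralizer ({z} : Set G) → ℂ))
                * conj (∑ ξ ∈ univ.filter (· ∈ b), (c ξ : ℂ) * classInner (pRegularPart p
                  (fun y : Subgroup.centralizer ({z} : Set G) => (χ : G → ℂ) (z ^ t * y)))
                  (ξ : Subgroup.centralizer ({z} : Set G) → ℂ))) := by
          intro χ _
          rw [← Complex.mul_conj, ← hY χ t, map_mul, map_pow, Complex.conj_natCast]
          ring
        rw [sum_congr rfl h3, ← mul_sum, h1, mul_assoc, mul_comm ((p : ℂ) ^ blockDefect p b)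
          (∑ ξ ∈ univ.filter (· ∈ b), ∑ ξ' ∈ univ.filter (· ∈ b), _), sum_mul]
        have h4 : ∀ ξ ∈ univ.filter (· ∈ b), (∑ ξ' ∈ univ.filter (· ∈ b),
            (c ξ : ℂ) * conj ((c ξ' : ℂ))
              * classInner (pRegularPart p (ξ' : Subgroup.centralizer ({z} : Set G) → ℂ))
                (ξ : Subgroup.centralizer ({z} : Set G) → ℂ)) * (p : ℂ) ^ blockDefect p b
            = ∑ ξ' ∈ univ.filter (· ∈ b), (c ξ : ℂ) * conj ((c ξ' : ℂ))
              * classInner (pRegularPart p (ξ' : Subgroup.centralizer ({z} : Set G) → ℂ))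
                (ξ : Subgroup.centralizer ({z} : Set G) → ℂ) * (p : ℂ) ^ blockDefect p b :=
          fun ξ _ => sum_mul _ _ _
        rw [sum_congr rfl h4, hBfc, mul_one]
      exact_mod_cast h2
    have hneA : ∀ χ ∈ B, Y χ 1 ≠ 0 := by
      intro χ hχ
      have hc : ¬ (p : ℤ) ∣ ∑ ξ ∈ univ.filter (· ∈ b), ∑ ξ' ∈ univ.filter (· ∈ b),
          c ξ * c ξ' * mz p b ξ ξ' := by
        have e : ∑ ξ ∈ univ.filter (· ∈ b), ∑ ξ' ∈ univ.filter (· ∈ b),
            c ξ * c ξ' * mz p b ξ ξ' = Bf p b c c := rfl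
        rw [e, hc1]
        intro h
        have h' : p ∣ 1 := by exact_mod_cast h
        exact hpp.one_lt.ne' (Nat.dvd_one.1 h')
      have h1 := nonvanishing p M hM B z ⟨k, hk⟩ b hb hdb c hc χ hχ
      rw [← hY χ 1]
      refine mul_ne_zero (pow_ne_zero _ hp0) ?_
      have e : (fun y : Subgroup.centralizer ({z} : Set G) => (χ : G → ℂ) (z ^ 1 * y))
          = fun y : Subgroup.centralizer ({z} : Set G) => (χ : G → ℂ) (z * y) := by
        funext y
        rw [pow_one]
      rw [e]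
      exact h1
    have hpairA : ∀ χ ∈ B, ((p ^ k).totient : ℝ) ≤ ∑ t ∈ U, Complex.normSq (Y χ t) := by
      intro χ hχ
      have h1 := hcyc χ (fun η => ∑ ξ ∈ univ.filter (· ∈ b), c ξ * mz p b η ξ)
        (by rw [← hYdef]; exact hneA χ hχ)
      refine le_trans h1 (le_of_eq ?_)
      refine sum_congr rfl fun t _ => ?_
      rw [hYdef]
    have hmain : ((univ.filter (· ∈ B) : Finset (IrrCharacter G)).card : ℝ)
        * ((p ^ k).totient : ℝ) ≤ ((p ^ k).totient : ℝ) * (p : ℝ) ^ blockDefect p b := by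
      have h1 : ∑ χ ∈ univ.filter (· ∈ B), ((p ^ k).totient : ℝ)
          ≤ ∑ χ ∈ univ.filter (· ∈ B), ∑ t ∈ U, Complex.normSq (Y χ t) :=
        sum_le_sum fun χ hχ => hpairA χ (mem_filter.1 hχ).2
      rw [sum_comm, sum_congr rfl hsumA] at h1
      simp only [sum_const, nsmul_eq_mul] at h1
      rw [hUcard] at h1
      exact h1
    have hfin : ((univ.filter (· ∈ B) : Finset (IrrCharacter G)).card : ℝ)
        ≤ (p : ℝ) ^ blockDefect p b := by
      rw [mul_comm] at hmain
      exact le_of_mul_le_mul_left hmain hφ'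
    rw [hcard, ← hdb]
    exact_mod_cast hfin
  · -- all nonzero norms are at least two
    push Not at hA
    obtain ⟨c0, c1, x0, x1, hxx, hr0, hr1⟩ := exists_pair p M hM b hl
    obtain ⟨g00, hg00⟩ : ∃ g : ℤ, g = Bf p b c0 c0 := ⟨_, rfl⟩
    obtain ⟨g01, hg01⟩ : ∃ g : ℤ, g = Bf p b c0 c1 := ⟨_, rfl⟩
    obtain ⟨g11, hg11⟩ : ∃ g : ℤ, g = Bf p b c1 c1 := ⟨_, rfl⟩
    rw [← hg00, ← hg01] at hr0
    rw [← hg11, ← hg01] at hr1
    have hn00 : 0 ≤ g00 := by rw [hg00]; exact Bf_nonneg p M hM b c0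
    have hn11 : 0 ≤ g11 := by rw [hg11]; exact Bf_nonneg p M hM b c1
    have h100 : g00 ≠ 1 := by rw [hg00]; exact hA c0
    have h111 : g11 ≠ 1 := by rw [hg11]; exact hA c1
    obtain ⟨R, hR⟩ : ∃ R : IrrCharacter G → ℕ → ℝ, ∀ χ t, R χ t
        = (g00 : ℝ) * Complex.normSq (cs b (nn χ) x0 zz t)
          + (g11 : ℝ) * Complex.normSq (cs b (nn χ) x1 zz t)
          + (g01 : ℝ) * (2 * (cs b (nn χ) x0 zz t * conj (cs b (nn χ) x1 zz t)).re) :=
      ⟨_, fun _ _ => rfl⟩
    have hmmB : ∀ (χ : IrrCharacter G) (t : ℕ), (p : ℂ) ^ blockDefect p b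
        * mm p b (fun y : Subgroup.centralizer ({z} : Set G) => (χ : G → ℂ) (z ^ t * y))
          (fun y : Subgroup.centralizer ({z} : Set G) => (χ : G → ℂ) (z ^ t * y))
        = ((R χ t : ℝ) : ℂ) := by
      intro χ t
      rw [hshift χ t, mm_coords p M hM b c0 c1 x0 x1 hxx _ (nn χ) (hnn χ) zz hz t, hR,
        ← hg00, ← hg01, ← hg11]
      have e : cs b (nn χ) x1 zz t * conj (cs b (nn χ) x0 zz t)
          = conj (cs b (nn χ) x0 zz t * conj (cs b (nn χ) x1 zz t)) := by
        rw [map_mul, Complex.conj_conj, mul_comm]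
      rw [e, Complex.add_conj, Complex.mul_conj, Complex.mul_conj]
      push_cast
      ring
    have hsumB : ∀ t ∈ U, ∑ χ ∈ univ.filter (· ∈ B), R χ t
        = (p : ℝ) ^ blockDefect p b * (blockRank p b : ℝ) := by
      intro t ht
      obtain ⟨htc, hx⟩ := hUx t ht
      have h1 := sum_mm_diag p M hM B (z ^ t) hx (Subgroup.centralizer ({z} : Set G))
        (Cfsg.Agent.S4716.centralizer_pow_eq z t htc) b hb
      have h2 : ((∑ χ ∈ univ.filter (· ∈ B), R χ t : ℝ) : ℂ)
          = (((p : ℝ) ^ blockDefect p b * (blockRank p b : ℝ) : ℝ) : ℂ) := by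
        push_cast
        rw [← h1, mul_sum]
        refine sum_congr rfl fun χ _ => ?_
        rw [hmmB]
      exact_mod_cast h2
    -- a character of height zero in `b`
    obtain ⟨e, hae, -, ψ₀, hψ₀, hψ₀e⟩ := Cfsg.Agent.Lib.Helper75.NumMinMax.exists_defect_data p b
      (Cfsg.Agent.Lib.CT.DefectZeroBlock.isPBlock_nonempty hMp hbb)
    have hfc := factorization_charDegree p b ψ₀ hψ₀
    have h0ψ : blockHeight p b (ψ₀ : Subgroup.centralizer ({z} : Set G) → ℂ) = 0 := by omega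
    have hcψ : ¬ (p : ℤ) ∣ ∑ ξ ∈ univ.filter (· ∈ b), ∑ ξ' ∈ univ.filter (· ∈ b),
        (if ξ = ψ₀ then (1 : ℤ) else 0) * (if ξ' = ψ₀ then (1 : ℤ) else 0) * mz p b ξ ξ' := by
      rw [Bf_single p b ψ₀ hψ₀]
      exact not_dvd_mz_self p M hM b hbb ψ₀ hψ₀ h0ψ
    obtain ⟨u0, hu0⟩ : ∃ u : ℤ, u = x0 ψ₀ * g00 + x1 ψ₀ * g01 := ⟨_, rfl⟩
    obtain ⟨u1, hu1⟩ : ∃ u : ℤ, u = x0 ψ₀ * g01 + x1 ψ₀ * g11 := ⟨_, rfl⟩
    have hpairB : ∀ χ ∈ B, 2 * ((p ^ k).totient : ℝ) ≤ ∑ t ∈ U, R χ t := by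
      intro χ hχ
      have h1 := nonvanishing p M hM B z ⟨k, hk⟩ b hb hdb
        (fun ξ => if ξ = ψ₀ then (1 : ℤ) else 0) hcψ χ hχ
      have h2 : (p : ℂ) ^ blockDefect p b * ∑ ξ ∈ univ.filter (· ∈ b),
          (((if ξ = ψ₀ then (1 : ℤ) else 0 : ℤ)) : ℂ) * classInner (pRegularPart p
            (fun y : Subgroup.centralizer ({z} : Set G) => (χ : G → ℂ) (z ^ 1 * y)))
            (ξ : Subgroup.centralizer ({z} : Set G) → ℂ) ≠ 0 := by
        refine mul_ne_zero (pow_ne_zero _ hp0) ?_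
        have e : (fun y : Subgroup.centralizer ({z} : Set G) => (χ : G → ℂ) (z ^ 1 * y))
            = fun y : Subgroup.centralizer ({z} : Set G) => (χ : G → ℂ) (z * y) := by
          funext y
          rw [pow_one]
        rw [e]
        exact h1
      rw [hshift χ 1, lin_coords p M hM b hbb _ _ (nn χ) (hnn χ) zz hz 1] at h2
      have h3 : cs b (nn χ) (fun η => ∑ ξ ∈ univ.filter (· ∈ b),
            (if ξ = ψ₀ then (1 : ℤ) else 0) * mz p b η ξ) zz 1
          = (u0 : ℂ) * cs b (nn χ) x0 zz 1 + (u1 : ℂ) * cs b (nn χ) x1 zz 1 := by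
        rw [← cs_lin]
        apply cs_congr
        intro η hη
        rw [sum_eq_single ψ₀]
        · rw [if_pos rfl, one_mul, mz_coords p M hM b c0 c1 x0 x1 hxx η ψ₀ hη hψ₀, hu0, hu1,
            ← hg00, ← hg01, ← hg11]
          ring
        · intro ξ _ hne
          rw [if_neg hne, zero_mul]
        · intro h
          exact absurd (mem_filter.2 ⟨mem_univ _, hψ₀⟩) h
      rw [h3] at h2
      have hcase : (cs b (nn χ) x0 zz 1 ≠ 0 ∧ 2 ≤ g00) ∨ (cs b (nn χ) x1 zz 1 ≠ 0 ∧ 2 ≤ g11) := by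
        by_cases hX0 : (u0 : ℂ) * cs b (nn χ) x0 zz 1 = 0
        · right
          rw [hX0, zero_add] at h2
          have hu : u1 ≠ 0 := by
            intro h
            rw [h, Int.cast_zero, zero_mul] at h2
            exact h2 rfl
          refine ⟨right_ne_zero_of_mul h2, ?_⟩
          by_contra hlt
          have hg : g11 = 0 := by omega
          have hg' : g01 = 0 := by
            rw [hg] at hr1
            have := abs_nonneg g01
            exact abs_eq_zero.1 (by omega)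
          apply hu
          rw [hu1, hg, hg', mul_zero, mul_zero, add_zero]
        · left
          have hu : u0 ≠ 0 := by
            intro h
            rw [h, Int.cast_zero, zero_mul] at hX0
            exact hX0 rfl
          refine ⟨right_ne_zero_of_mul hX0, ?_⟩
          by_contra hlt
          have hg : g00 = 0 := by omega
          have hg' : g01 = 0 := by
            rw [hg] at hr0
            have := abs_nonneg g01
            exact abs_eq_zero.1 (by omega)
          apply hu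
          rw [hu0, hg, hg', mul_zero, mul_zero, add_zero]
      have hadd : ∀ t, cs b (nn χ) x0 zz t + cs b (nn χ) x1 zz t
          = cs b (nn χ) (fun η => 1 * x0 η + 1 * x1 η) zz t := by
        intro t
        rw [cs_lin]
        push_cast
        ring
      have hsub : ∀ t, cs b (nn χ) x0 zz t - cs b (nn χ) x1 zz t
          = cs b (nn χ) (fun η => 1 * x0 η + (-1) * x1 η) zz t := by
        intro t
        rw [cs_lin]
        push_cast
        ring
      have h := form_ge g00 g01 g11 hr0 hr1 U (fun t => cs b (nn χ) x0 zz t)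
        (fun t => cs b (nn χ) x1 zz t) ((p ^ k).totient : ℝ) hφ'.le (hcyc χ x0) (hcyc χ x1)
        (by
          intro hne
          simp only [hadd] at hne ⊢
          exact hcyc χ _ hne)
        (by
          intro hne
          simp only [hsub] at hne ⊢
          exact hcyc χ _ hne) hcase
      refine le_trans h (le_of_eq ?_)
      refine sum_congr rfl fun t _ => ?_
      rw [hR]
    have hmain : ((univ.filter (· ∈ B) : Finset (IrrCharacter G)).card : ℝ)
        * (2 * ((p ^ k).totient : ℝ))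
        ≤ ((p ^ k).totient : ℝ) * ((p : ℝ) ^ blockDefect p b * (blockRank p b : ℝ)) := by
      have h1 : ∑ χ ∈ univ.filter (· ∈ B), (2 * ((p ^ k).totient : ℝ))
          ≤ ∑ χ ∈ univ.filter (· ∈ B), ∑ t ∈ U, R χ t :=
        sum_le_sum fun χ hχ => hpairB χ (mem_filter.1 hχ).2
      rw [sum_comm, sum_congr rfl hsumB] at h1
      simp only [sum_const, nsmul_eq_mul] at h1
      rw [hUcard] at h1
      exact h1
    have hl' : (blockRank p b : ℝ) ≤ 2 := by exact_mod_cast hl
    have hpd : (0 : ℝ) ≤ (p : ℝ) ^ blockDefect p b := pow_nonneg (Nat.cast_nonneg p) _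
    have hfin : ((univ.filter (· ∈ B) : Finset (IrrCharacter G)).card : ℝ)
        ≤ (p : ℝ) ^ blockDefect p b := by
      have h2 : ((univ.filter (· ∈ B) : Finset (IrrCharacter G)).card : ℝ)
          * (2 * ((p ^ k).totient : ℝ))
          ≤ (p : ℝ) ^ blockDefect p b * (2 * ((p ^ k).totient : ℝ)) := by
        refine le_trans hmain ?_
        have := mul_le_mul_of_nonneg_left hl' hpd
        nlinarith
      exact le_of_mul_le_mul_right h2 (by linarith)
    rw [hcard, ← hdb]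
    exact_mod_cast hfin

end Cfsg.Agent.S4539
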