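import Cfsg.Statements.S4646
import Cfsg.Agent.S4691
import Cfsg.Agent.S0939
import Cfsg.Agent.S0968
import Cfsg.Agent.Lib.Helper16.QuotP
import Cfsg.Agent.Lib.Helper77.OsimaVanish
import Cfsg.Agent.Lib.CT.Kernel

set_option autoImplicit false
open Cfsg

namespace Cfsg.Agent.S4646

open Cfsg.Agent.Lib.Helper77.BPPrincipal in
theorem rank_of_complement {G : Type*} [Group G] [Finite G] (p : ℕ) [Fact p.Prime]
    (M : Ideal Cfsg.AlgInt) (hM : Cfsg.IsPModular p M) (h : HasNormalPComplement p G) :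
    Cfsg.blockRank p (Cfsg.principalBlock M G) = 1 := by
  classical
  have hMp := Cfsg.Agent.Lib.Helper77.LocalRing.isPrime_of_isPModular hM
  have hp : p.Prime := Fact.out
  obtain ⟨P, N, hN, hc⟩ := h
  have hcard := hc.card_mul
  obtain ⟨n, hn⟩ : ∃ n : ℕ, n = (Nat.card G).factorization p := ⟨_, rfl⟩
  have hPcard : Nat.card P = p ^ n := by rw [hn]; exact P.card_eq_multiplicity
  have hNcop : (Nat.card N).Coprime p := by
    rw [Nat.coprime_comm, Nat.Prime.coprime_iff_not_dvd hp]
    intro hdvd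
    have h1 : p ^ (n + 1) ∣ Nat.card N * Nat.card P := by
      rw [hPcard, pow_succ, mul_comm]
      exact mul_dvd_mul_right hdvd _
    rw [hcard, hn] at h1
    exact Nat.pow_succ_factorization_not_dvd (Nat.card_pos.ne') hp h1
  have hNle : N ≤ pPrimeCore p G := le_sSup ⟨hN, hNcop⟩
  have hNidx : N.index = p ^ n := by
    have h1 := N.card_mul_index
    rw [← hcard, hPcard] at h1
    exact Nat.eq_of_mul_eq_mul_left Nat.card_pos h1
  obtain ⟨k, hk⟩ : ∃ k : ℕ, (Cfsg.pPrimeCore p G).index = p ^ k := by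
    have h1 := Subgroup.index_dvd_of_le hNle
    rw [hNidx] at h1
    obtain ⟨k, -, hk⟩ := (Nat.dvd_prime_pow hp).mp h1
    exact ⟨k, hk⟩
  have hB := Cfsg.Agent.S0939.result p M hM ⟨k, hk⟩
  haveI : (pPrimeCore p G).Normal := Cfsg.Agent.Lib.Helper75.SelfCentCore.pPrimeCore_normal G p
  have hreg : ∀ g : G, IsPRegular p g → g ∈ pPrimeCore p G := by
    intro g hg
    have h1 : g ^ (p ^ k) ∈ pPrimeCore p G := by
      rw [← hk]
      exact Subgroup.pow_index_mem _ g
    have h2 : Nat.Coprime (p ^ k) (orderOf g) :=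
      Nat.Coprime.pow_left _ ((Nat.Prime.coprime_iff_not_dvd hp).mpr hg)
    obtain ⟨m, hm⟩ := exists_pow_eq_self_of_coprime h2
    rw [← hm]
    exact Subgroup.pow_mem _ h1 m
  have hspan : Submodule.span ℂ ((fun χ : IrrCharacter G => pRegularPart p (χ : G → ℂ)) ''
      (principalBlock M G)) = Submodule.span ℂ {pRegularPart p (fun _ : G => (1 : ℂ))} := by
    apply le_antisymm
    · rw [Submodule.span_le]
      rintro _ ⟨χ, hχ, rfl⟩
      rw [hB] at hχ
      have : pRegularPart p (χ : G → ℂ)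
          = ((χ : G → ℂ) 1) • pRegularPart p (fun _ : G => (1 : ℂ)) := by
        funext g
        unfold pRegularPart
        by_cases hg : IsPRegular p g
        · simp [hg, hχ g (hreg g hg)]
        · simp [hg]
      show pRegularPart p (χ : G → ℂ) ∈ _
      rw [this]
      exact Submodule.smul_mem _ _ (Submodule.mem_span_singleton_self _)
    · rw [Submodule.span_le, Set.singleton_subset_iff]
      exact Submodule.subset_span ⟨trivIrr G, trivIrr_mem hMp G, rfl⟩
  unfold blockRank
  rw [hspan]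
  apply finrank_span_singleton
  intro h0
  have h1 := congrFun h0 1
  unfold pRegularPart at h1
  have h2 : IsPRegular p (1 : G) := by
    unfold IsPRegular
    rw [orderOf_one]
    exact hp.one_lt.ne' ∘ Nat.dvd_one.mp
  simp [h2] at h1

open Cfsg.Agent.Lib.Helper77.BPPrincipal in
theorem complement_of_rank {G : Type*} [Group G] [Finite G] (p : ℕ) [Fact p.Prime]
    (M : Ideal Cfsg.AlgInt) (hM : Cfsg.IsPModular p M)
    (h : Cfsg.blockRank p (Cfsg.principalBlock M G) = 1) : HasNormalPComplement p G := by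
  classical
  have hMp := Cfsg.Agent.Lib.Helper77.LocalRing.isPrime_of_isPModular hM
  have hp : p.Prime := Fact.out
  -- values at p-regular elements
  have hval : ∀ χ ∈ principalBlock M G, ∀ y : G, IsPRegular p y →
      (χ : G → ℂ) y = (χ : G → ℂ) 1 := by
    intro χ hχ y hy
    obtain ⟨c, hc⟩ := Cfsg.Agent.S0968.prop_of_rank_one p _ h (trivIrr G) χ (trivIrr_mem hMp G) hχ
    have h1 : ¬ p ∣ orderOf (1 : G) := by
      rw [orderOf_one]
      exact hp.one_lt.ne' ∘ Nat.dvd_one.mp
    rw [hc y hy, hc 1 h1]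
    rfl
  -- the kernel
  have hker : ∀ χ : IrrCharacter G, ∃ N : Subgroup G, N.Normal ∧
      ∀ g, g ∈ N ↔ (χ : G → ℂ) g = (χ : G → ℂ) 1 := fun χ =>
    Cfsg.Agent.Lib.CT.Kernel.exists_normal_ker
      (Cfsg.Agent.Lib.CT.Ops.IsIrrCharacter.isCharacter χ.2)
  choose Nχ hNχn hNχ using hker
  obtain ⟨K, hKdef⟩ : ∃ K : Subgroup G, K = ⨅ χ : principalBlock M G, Nχ χ.1 := ⟨_, rfl⟩
  have hKmem : ∀ g, g ∈ K ↔ ∀ χ ∈ principalBlock M G, (χ : G → ℂ) g = (χ : G → ℂ) 1 := by
    intro g
    rw [hKdef, Subgroup.mem_iInf]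
    constructor
    · intro hg χ hχ
      exact (hNχ χ g).mp (hg ⟨χ, hχ⟩)
    · intro hg χ
      exact (hNχ χ.1 g).mpr (hg χ.1 χ.2)
  haveI hKn : K.Normal := by
    rw [hKdef]
    exact Subgroup.normal_iInf_normal (fun χ => hNχn χ.1)
  have hreg : ∀ y : G, IsPRegular p y → y ∈ K := fun y hy =>
    (hKmem y).mpr (fun χ hχ => hval χ hχ y hy)
  have hKreg : ∀ x ∈ K, ¬ p ∣ orderOf x := by
    intro x hx hdvd
    have h0 := Cfsg.Agent.Lib.Helper77.OsimaVanish.blockCoeff_eq_zero_of_singular p M hM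
      (principalBlock M G) (isPBlock_principal G) x hdvd
    have h1 : blockCoeff (principalBlock M G) x = blockCoeff (principalBlock M G) 1 := by
      unfold blockCoeff
      congr 1
      apply finsum_congr
      intro χ
      apply finsum_congr
      intro hχ
      rw [(hKmem x).mp hx χ hχ]
    exact Cfsg.Agent.Lib.Helper16.QuotP.blockCoeff_one_ne_zero _ (trivIrr G) (trivIrr_mem hMp G)
      (h1 ▸ h0)
  have hKcop : ¬ p ∣ Nat.card K := by
    intro hdvd
    obtain ⟨x, hx⟩ := exists_prime_orderOf_dvd_card' p hdvd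
    have h1 := hKreg (x : G) x.2
    rw [Subgroup.orderOf_coe, hx] at h1
    exact h1 dvd_rfl
  have hquot : IsPGroup p (G ⧸ K) := by
    intro q
    obtain ⟨g, rfl⟩ := QuotientGroup.mk_surjective q
    obtain ⟨k, m, hm, hkm⟩ := Nat.exists_eq_pow_mul_and_not_dvd (orderOf_pos g).ne' p hp.ne_one
    refine ⟨k, ?_⟩
    rw [← QuotientGroup.mk_pow, QuotientGroup.eq_one_iff]
    apply hreg
    unfold IsPRegular
    have h1 : orderOf (g ^ (p ^ k)) = m := by
      rw [orderOf_pow' g (pow_ne_zero _ hp.ne_zero), hkm, Nat.gcd_eq_right (dvd_mul_right _ _)]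
      exact Nat.mul_div_cancel_left _ (pow_pos hp.pos _)
    rw [h1]
    exact hm
  obtain ⟨j, hj⟩ := IsPGroup.iff_card.mp hquot
  have hidx : K.index = p ^ j := by
    rw [Subgroup.index_eq_card]
    exact hj
  obtain ⟨P⟩ : Nonempty (Sylow p G) := inferInstance
  have hcard := K.card_mul_index
  have hPcard : Nat.card P = p ^ j := by
    rw [P.card_eq_multiplicity, ← hcard, hidx]
    congr 1
    rw [Nat.factorization_mul Nat.card_pos.ne' (pow_ne_zero _ hp.ne_zero)]
    simp [Nat.factorization_eq_zero_of_not_dvd hKcop, hp.factorization_self]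
  refine ⟨P, K, hKn, Subgroup.isComplement'_of_coprime ?_ ?_⟩
  · rw [hPcard, ← hidx]
    exact hcard
  · rw [hPcard]
    exact Nat.Coprime.pow_right _ ((Nat.Prime.coprime_iff_not_dvd hp).mpr hKcop).symm

/-- For a finite group G, a prime p and a maximal ideal M of the algebraic integers containing p: the principal block of G is nilpotent if and only if its p-regular rank is 1 (the trivial Brauer character is its only irreducible Brauer character). -/
theorem result {G : Type*} [Group G] [Finite G] (p : ℕ) [Fact p.Prime] (M : Ideal Cfsg.AlgInt) (hM : Cfsg.IsPModular p M) : Cfsg.IsNilpotentBlock p M (Cfsg.principalBlock M G) ↔ Cfsg.blockRank p (Cfsg.principalBlock M G) = 1 := by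
  letI : Fintype G := Fintype.ofFinite G
  rw [← Cfsg.Agent.S4691.result p M hM]
  exact ⟨rank_of_complement p M hM, complement_of_rank p M hM⟩

end Cfsg.Agent.S4646
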