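import Cfsg.Statements.S4606
import Cfsg.Agent.Lib.Helper82.OneClass
import Cfsg.Agent.Lib.Helper77.BPCyc
import Cfsg.Agent.Lib.Helper77.BPPrincipal2
import Cfsg.Agent.S4646
import Cfsg.Agent.S4691

set_option autoImplicit false
open Cfsg

namespace Cfsg.Agent.S4606

open Cfsg.Agent.Lib.Helper77.LocalRing Cfsg.Agent.Lib.Helper77.BPNormal
  Cfsg.Agent.Lib.Helper77.BPEquiv Cfsg.Agent.Lib.Helper77.BPEquiv2
  Cfsg.Agent.Lib.Helper77.BPConjMax Cfsg.Agent.Lib.Helper77.BPFix
  Cfsg.Agent.Lib.Helper77.BPSub Cfsg.Agent.Lib.Helper77.BPSubpair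
  Cfsg.Agent.Lib.Helper77.BPUp Cfsg.Agent.Lib.Helper77.BPInd
  Cfsg.Agent.Lib.Helper77.BPFus Cfsg.Agent.Lib.Helper77.BPMax2
  Cfsg.Agent.Lib.Helper77.BPTransport Cfsg.Agent.Lib.Helper77.BPCyc
  Cfsg.Agent.Lib.Helper77.BPPrincipal Cfsg.Agent.Lib.Helper77.BPPrincipal2
  Cfsg.Agent.Lib.Helper33.Conj Cfsg.Agent.Lib.Helper16.ZR Cfsg.Agent.Lib.Helper16.BPLocal
  Cfsg.Agent.Lib.Helper16.Defect Cfsg.Agent.Lib.CT.Wedderburn
  Cfsg.Agent.Lib.Helper82.OneClass

universe u

/-- Brauer's count of characters by subsections when `k(B) = l(B) + 1`: with respect to any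
system `rep` of class representatives, all nonidentity elements of a defect group have the same
representative, and every block of its centraliser inducing `B` has a single Brauer character. -/
theorem count_core {G : Type u} [Group G] {M : Ideal AlgInt} [Finite G] {p : ℕ} [Fact p.Prime]
    (hM : IsPModular p M) {B : Set (IrrCharacter G)} (hB : IsPBlock M B) {D : Subgroup G}
    (hD : IsDefectGroup p M B D) (hk : Nat.card B = blockRank p B + 1) (rep : G → G)
    (hrepconj : ∀ g, IsConj g (rep g)) (hrepeq : ∀ g g', IsConj g g' → rep g = rep g') :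
    (∀ u ∈ D, u ≠ 1 → ∀ u' ∈ D, u' ≠ 1 → rep u = rep u') ∧
    (∀ u ∈ D, u ≠ 1 → ∀ x : G, rep u = x →
      ∀ b : Set (IrrCharacter (Subgroup.centralizer ({x} : Set G))),
        IsInducedBlock M (Subgroup.centralizer ({x} : Set G)) b B → blockRank p b = 1) := by
  classical
  have hMp := isPrime_of_isPModular hM
  have hp : p.Prime := Fact.out
  obtain ⟨c, hmax⟩ := exists_maximal_pair hM B hB D hD
  have hPp : IsPGroup p D := hmax.1.1.1
  have : Fintype G := Fintype.ofFinite G
  have hord : ∀ g g' : G, IsConj g g' → orderOf g = orderOf g' :=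
    fun g g' h => orderOf_eq_of_isConj h
  obtain ⟨X, hXdef⟩ : ∃ X : Finset G, ∀ x, x ∈ X ↔ (∃ k : ℕ, orderOf x = p ^ k) ∧ rep x = x :=
    ⟨Finset.univ.filter (fun x => (∃ k : ℕ, orderOf x = p ^ k) ∧ rep x = x), fun x => by simp⟩
  have hX : ∀ x ∈ X, ∃ k : ℕ, orderOf x = p ^ k := fun x hx => ((hXdef x).mp hx).1
  have hXrep : ∀ g : G, (∃ k : ℕ, orderOf g = p ^ k) → ∃! x, x ∈ X ∧ IsConj g x := by
    intro g hg
    refine ⟨rep g, ⟨(hXdef _).mpr ⟨?_, ?_⟩, hrepconj g⟩, ?_⟩
    · obtain ⟨k, hk⟩ := hg
      exact ⟨k, by rw [← hord g (rep g) (hrepconj g), hk]⟩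
    · exact hrepeq _ _ (hrepconj g).symm
    · rintro y ⟨hyX, hgy⟩
      rw [← ((hXdef y).mp hyX).2]
      exact hrepeq _ _ hgy.symm
  have hcount := Cfsg.Agent.S4511.result p M hM B hB X hX hXrep
  obtain ⟨t, ht⟩ : ∃ t : G → ℕ, ∀ x, t x =
      ∑ᶠ b ∈ {b : Set (IrrCharacter (Subgroup.centralizer ({x} : Set G))) |
        IsInducedBlock M (Subgroup.centralizer ({x} : Set G)) b B}, blockRank p b :=
    ⟨_, fun _ => rfl⟩
  have hcount' : Nat.card B = ∑ x ∈ X, t x := by
    rw [hcount]
    exact Finset.sum_congr rfl (fun x _ => (ht x).symm)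
  have hfin : ∀ x : G, Finite (Set (IrrCharacter (Subgroup.centralizer ({x} : Set G)))) := by
    intro x
    have := finite_irrCharacter (Subgroup.centralizer ({x} : Set G))
    infer_instance
  have hpos : ∀ (x : G) (b : Set (IrrCharacter (Subgroup.centralizer ({x} : Set G)))),
      IsInducedBlock M (Subgroup.centralizer ({x} : Set G)) b B → 1 ≤ blockRank p b := by
    intro x b hb
    obtain ⟨ψ, hψ⟩ := isPBlock_nonempty hMp hb.1
    exact blockRank_pos p hψ
  have hsingle : ∀ (x : G) (b : Set (IrrCharacter (Subgroup.centralizer ({x} : Set G)))),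
      IsInducedBlock M (Subgroup.centralizer ({x} : Set G)) b B → blockRank p b ≤ t x := by
    intro x b hb
    have := hfin x
    rw [ht x, finsum_mem_eq_finite_toFinset_sum _ (Set.toFinite _)]
    exact Finset.single_le_sum (f := fun b => blockRank p b) (fun _ _ => Nat.zero_le _)
      ((Set.Finite.mem_toFinset _).mpr hb)
  -- the term at `1`
  have h1X : (1 : G) ∈ X := by
    refine (hXdef 1).mpr ⟨⟨0, by simp⟩, ?_⟩
    exact (isConj_one_right.mp (hrepconj 1))
  have ht1 : blockRank p B ≤ t 1 := by
    have hK : Subgroup.centralizer (((⊥ : Subgroup G) : Set G)) =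
        Subgroup.centralizer ({1} : Set G) := by
      rw [Subgroup.coe_bot]
    have hbot := isBrauerPairOf_bot hM B hB
    have hind := (isBrauerPairOf_iff_isInducedBlock hM ⊥ hbot.1.1 _ B).mp hbot
    obtain ⟨b₁, -, hb1, -, hb3⟩ := transport (p := p) (M := M) B hK (pull (botIso G) '' B)
    rw [blockRank_pull] at hb3
    rw [← hb3]
    exact hsingle 1 b₁ (hb1 hind)
  have hsplit : ∑ x ∈ X, t x = t 1 + ∑ x ∈ X.erase 1, t x :=
    (Finset.add_sum_erase X t h1X).symm
  have hrest : ∑ x ∈ X.erase 1, t x ≤ 1 := by omega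
  have hmem : ∀ u ∈ D, u ≠ 1 → rep u ∈ X.erase 1 := by
    intro u hu hu1
    rw [Finset.mem_erase]
    refine ⟨?_, (hXdef _).mpr ⟨?_, hrepeq _ _ (hrepconj u).symm⟩⟩
    · intro h1
      have h2 := hrepconj u
      rw [h1] at h2
      exact hu1 (isConj_one_left.mp h2)
    · obtain ⟨k, hk⟩ := (IsPGroup.iff_orderOf.mp hPp) ⟨u, hu⟩
      refine ⟨k, ?_⟩
      rw [← hord u (rep u) (hrepconj u), ← hk, Subgroup.orderOf_mk]
  have htpos : ∀ u ∈ D, u ≠ 1 → 1 ≤ t (rep u) := by
    intro u hu hu1
    obtain ⟨b, hb1, -⟩ := exists_subsectionBlock hM hmax hu (hrepconj u)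
    exact (hpos _ b hb1).trans (hsingle _ b hb1)
  refine ⟨?_, ?_⟩
  · intro u hu hu1 u' hu' hu'1
    by_contra hne
    have hsub : ({rep u, rep u'} : Finset G) ⊆ X.erase 1 := by
      intro y hy
      rw [Finset.mem_insert, Finset.mem_singleton] at hy
      rcases hy with rfl | rfl
      · exact hmem u hu hu1
      · exact hmem u' hu' hu'1
    have h1 := Finset.sum_le_sum_of_subset (f := t) hsub
    rw [Finset.sum_pair hne] at h1
    have h2 := htpos u hu hu1
    have h3 := htpos u' hu' hu'1
    omega
  · intro u hu hu1 x hx b hb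
    subst hx
    have h1 := hsingle _ b hb
    have h2 : t (rep u) ≤ ∑ x ∈ X.erase 1, t x :=
      Finset.single_le_sum (f := t) (fun _ _ => Nat.zero_le _) (hmem u hu hu1)
    have h3 := hpos _ b hb
    omega

theorem induced_congr {G : Type u} [Group G] {M : Ideal AlgInt} {B : Set (IrrCharacter G)}
    {K K' : Subgroup G} (h : K = K')
    (hind : IsInducedBlock M K (principalBlock M K) B) :
    IsInducedBlock M K' (principalBlock M K') B := by
  subst h
  exact hind

/-- Brauer's third main theorem for the centraliser of a `p`-element. -/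
theorem induced_principal {G : Type u} [Group G] {M : Ideal AlgInt} [Finite G] {p : ℕ}
    [Fact p.Prime] (hM : IsPModular p M) (x : G) (hx : ∃ k : ℕ, orderOf x = p ^ k) :
    IsInducedBlock M (Subgroup.centralizer ({x} : Set G))
      (principalBlock M (Subgroup.centralizer ({x} : Set G))) (principalBlock M G) := by
  obtain ⟨k, hk⟩ := hx
  have hQ : IsPGroup p (Subgroup.zpowers x) := by
    apply IsPGroup.of_card (n := k)
    rw [Nat.card_zpowers, hk]
  have h1 := isBrauerPairOf_principal hM (Subgroup.zpowers x) hQ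
  have h2 := (isBrauerPairOf_iff_isInducedBlock hM _ hQ _ _).mp h1
  exact induced_congr (centralizer_zpowers_eq x) h2

/-- Let G be a finite group, p a prime, M a maximal ideal of the algebraic integers containing p, and B a p-block of G with defect group D. Suppose the number of irreducible characters in B exceeds the p-regular rank of B (the number of irreducible Brauer characters in B) by exactly one. If B is the principal block, or if G is p-solvable, then D is elementary abelian. -/
theorem result {G : Type*} [Group G] [Finite G] (p : ℕ) [Fact p.Prime] (M : Ideal Cfsg.AlgInt) (hM : Cfsg.IsPModular p M) (B : Set (Cfsg.IrrCharacter G)) (hB : Cfsg.IsPBlock M B) (D : Subgroup G) (hD : Cfsg.IsDefectGroup p M B D)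
    (hk : Nat.card B = Cfsg.blockRank p B + 1) (hB0 : B = Cfsg.principalBlock M G ∨ Cfsg.IsPSolvable p G) :
    Cfsg.IsElementaryAbelian p D := by
  classical
  have hMp := isPrime_of_isPModular hM
  have hp : p.Prime := Fact.out
  obtain ⟨rep, hrep⟩ : ∃ rep : G → G, ∀ g, rep g = Quotient.out (ConjClasses.mk g) :=
    ⟨_, fun _ => rfl⟩
  have hrepconj : ∀ g, IsConj g (rep g) := by
    intro g
    rw [hrep]
    apply ConjClasses.mk_eq_mk_iff_isConj.mp
    exact (Quotient.out_eq (ConjClasses.mk g)).symm
  have hrepeq : ∀ g g', IsConj g g' → rep g = rep g' := by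
    intro g g' h
    rw [hrep, hrep, ConjClasses.mk_eq_mk_iff_isConj.mpr h]
  obtain ⟨h1, -⟩ := count_core hM hB hD hk rep hrepconj hrepeq
  have hconj : ∀ u ∈ D, u ≠ 1 → ∀ u' ∈ D, u' ≠ 1 → IsConj u u' := by
    intro u hu hu1 u' hu' hu'1
    have h2 := h1 u hu hu1 u' hu' hu'1
    have h3 := hrepconj u
    rw [h2] at h3
    exact h3.trans (hrepconj u').symm
  obtain ⟨c, hmax⟩ := exists_maximal_pair hM B hB D hD
  have hDp : IsPGroup p D := hmax.1.1.1
  have hexp := pow_eq_one_of_conj D hDp hconj
  have hcomm : ∀ a ∈ D, ∀ b ∈ D, a * b = b * a := by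
    rcases hB0 with hB0 | hps
    · by_cases hp2 : p = 2
      · intro a ha b hb
        have ha2 := hexp a ha
        have hb2 := hexp b hb
        have hab2 := hexp (a * b) (D.mul_mem ha hb)
        rw [hp2, pow_two] at ha2 hb2 hab2
        have e1 : a⁻¹ = a := inv_eq_of_mul_eq_one_right ha2
        have e2 : b⁻¹ = b := inv_eq_of_mul_eq_one_right hb2
        have e3 : (a * b)⁻¹ = a * b := inv_eq_of_mul_eq_one_right hab2
        calc a * b = (a * b)⁻¹ := e3.symm
          _ = b⁻¹ * a⁻¹ := mul_inv_rev a b
          _ = b * a := by rw [e1, e2]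
      · obtain ⟨S⟩ : Nonempty (Sylow p G) := inferInstance
        have hSD : IsDefectGroup p M (principalBlock M G) (S : Subgroup G) :=
          isDefectGroup_of_maximal hM (isMaximalBrauerPair_principal_sylow hM S)
        have hcard : Nat.card D = p ^ (Nat.card G).factorization p := by
          rw [card_defectGroup p hM B hB D hD, hB0,
            ← card_defectGroup p hM _ (hB0 ▸ hB) (S : Subgroup G) hSD]
          exact S.card_eq_multiplicity
        have hPD : ((Sylow.ofCard D hcard : Sylow p G) : Subgroup G) = D := Sylow.coe_ofCard D hcard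
        have hcommP := comm_of_pnil_centralizers hp2 (Sylow.ofCard D hcard)
          (by rw [hPD]; exact hconj) (by
            rw [hPD]
            intro v hv hv1
            obtain ⟨rep', hrep'⟩ : ∃ rep' : G → G, ∀ g, rep' g = if IsConj g v then v else rep g :=
              ⟨_, fun _ => rfl⟩
            have hr1 : ∀ g, IsConj g (rep' g) := by
              intro g
              rw [hrep']
              split_ifs with h
              · exact h
              · exact hrepconj g
            have hr2 : ∀ g g', IsConj g g' → rep' g = rep' g' := by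
              intro g g' h
              rw [hrep', hrep']
              by_cases hg : IsConj g v
              · rw [if_pos hg, if_pos (h.symm.trans hg)]
              · rw [if_neg hg, if_neg (fun h' => hg (h.trans h'))]
                exact hrepeq g g' h
            obtain ⟨-, h2⟩ := count_core hM hB hD hk rep' hr1 hr2
            have hrv : rep' v = v := by
              rw [hrep', if_pos (IsConj.refl v)]
            obtain ⟨k, hk'⟩ := (IsPGroup.iff_orderOf.mp hDp) ⟨v, hv⟩
            rw [Subgroup.orderOf_mk] at hk'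
            have hind := induced_principal hM v ⟨k, hk'⟩
            rw [← hB0] at hind
            have hrank := h2 v hv hv1 v hrv _ hind
            have : Fintype (Subgroup.centralizer ({v} : Set G)) := Fintype.ofFinite _
            exact (Cfsg.Agent.S4691.result p M hM).mpr
              ((Cfsg.Agent.S4646.result p M hM).mpr hrank))
        rw [hPD] at hcommP
        exact hcommP
    · exact comm_of_pSolvable hps D hDp hconj
  exact ⟨⟨⟨fun a b => Subtype.ext (hcomm a a.2 b b.2)⟩⟩, hexp⟩

end Cfsg.Agent.S4606
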