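import Cfsg.Statements.S5294
import Cfsg.Agent.Lib.Helper88.FSBase
import Cfsg.Agent.Lib.Helper88.RelTrace
import Cfsg.Agent.Lib.Helper87.FSNormal
import Cfsg.Agent.S5144
import Cfsg.Agent.S5145
-- import your own Cfsg.Agent.* helpers here

set_option autoImplicit false
universe u
open Cfsg

namespace Cfsg.Agent.S5294


open Cfsg.FusionSystem Cfsg.Agent.Lib.Helper88 Cfsg.Agent.Lib.Helper87 in
/-- A subgroup normal in a saturated system is fully automized. -/
theorem fullyAutomized_of_isNormal {Ω : Type u} [Group Ω] {S : Subgroup Ω} [Finite S] (p : ℕ)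
    (F : Cfsg.FusionSystem S) (hF : F.IsSaturated p) {Q : Subgroup Ω} (hN : F.IsNormal Q) :
    F.IsFullyAutomized p Q := by
  obtain ⟨Q', ⟨φ, hφ, rfl⟩, hfa, -⟩ := hF Q hN.1
  have hsc := FSNormal.stronglyClosed_of_isNormal F hN
  have hfin : Finite Q := FSSat.finite_of_le hN.1
  have hr : φ.range = Q := FSBase.range_eq_of_finite F hφ (fun x => hsc.2 Q le_rfl φ hφ x)
  rwa [hr] at hfa

open Cfsg.FusionSystem Cfsg.Agent.Lib.Helper88 Cfsg.Agent.Lib.Helper87 in
/-- A central subgroup is normal. -/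
theorem isNormal_of_isCentral {Ω : Type u} [Group Ω] {S : Subgroup Ω}
    (F : Cfsg.FusionSystem S) {Q : Subgroup Ω} (hc : F.IsCentral Q) : F.IsNormal Q := by
  refine ⟨hc.1, fun P φ hφ => ?_⟩
  obtain ⟨ψ, hψ, hψP, hψQ⟩ := hc.2 P φ hφ
  refine ⟨ψ, hψ, hψP, ?_⟩
  ext y
  constructor
  · rintro ⟨x, hx, rfl⟩
    have hxQ : (x : Ω) ∈ Q := Subgroup.mem_subgroupOf.mp hx
    have e : x = Subgroup.inclusion le_sup_right (⟨x, hxQ⟩ : Q) := Subtype.ext rfl
    rw [e]
    show ψ (Subgroup.inclusion le_sup_right (⟨x, hxQ⟩ : Q)) ∈ Q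
    rw [hψQ]
    exact hxQ
  · intro hy
    exact ⟨Subgroup.inclusion le_sup_right (⟨y, hy⟩ : Q), Subgroup.mem_subgroupOf.mpr hy,
      hψQ ⟨y, hy⟩⟩

open Cfsg.FusionSystem Cfsg.Agent.Lib.Helper88 Cfsg.Agent.Lib.Helper87 in
/-- A central subgroup lies in the centre of `S`. -/
theorem le_center_of_isCentral {Ω : Type u} [Group Ω] {S : Subgroup Ω}
    (F : Cfsg.FusionSystem S) {Q : Subgroup Ω} (hc : F.IsCentral Q) :
    Q ≤ S ⊓ Subgroup.centralizer (S : Set Ω) := by
  intro x hx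
  refine ⟨hc.1 hx, Subgroup.mem_centralizer_iff.mpr fun s hs => ?_⟩
  obtain ⟨ψ, -, hψS, hψQ⟩ := hc.2 S (conjHom S s) (F.conj_mem le_rfl hs)
  have h1 := hψS ⟨x, hc.1 hx⟩
  have h2 := hψQ ⟨x, hx⟩
  have e : Subgroup.inclusion (le_sup_left : S ≤ S ⊔ Q) ⟨x, hc.1 hx⟩ =
      Subgroup.inclusion (le_sup_right : Q ≤ S ⊔ Q) ⟨x, hx⟩ := Subtype.ext rfl
  rw [e, h2] at h1
  have h3 : x = s * x * s⁻¹ := h1
  rw [eq_mul_inv_iff_mul_eq] at h3
  exact h3.symm

open Cfsg.FusionSystem Cfsg.Agent.Lib.Helper88 Cfsg.Agent.Lib.Helper87 in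
/-- An automorphism (in the system) of `Q` fixes the elements of a central subgroup lying in `Q`. -/
theorem aut_fix_central {Ω : Type u} [Group Ω] {S : Subgroup Ω}
    (F : Cfsg.FusionSystem S) {Z : Subgroup Ω} (hc : F.IsCentral Z) {Q : Subgroup Ω} (hQ : Q ≤ S)
    {a : MulAut Q} (ha : a ∈ F.autGroup Q) (x : Q) (hx : (x : Ω) ∈ Z) : a x = x := by
  obtain ⟨ψ, -, hψQ, hψZ⟩ := hc.2 Q _ (FSBasic.autGroup_hom F hQ ha)
  have h1 := hψQ x
  have h2 := hψZ ⟨x, hx⟩
  have e : Subgroup.inclusion (le_sup_left : Q ≤ Q ⊔ Z) x =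
      Subgroup.inclusion (le_sup_right : Z ≤ Q ⊔ Z) ⟨x, hx⟩ := Subtype.ext rfl
  rw [e, h2] at h1
  exact Subtype.ext h1.symm

open Cfsg.FusionSystem Cfsg.Agent.Lib.Helper88 Cfsg.Agent.Lib.Helper87 in
/-- An element of a normal subgroup `Q` fixed by all automorphisms of `Q` in the system lies in
the centre of the system. -/
theorem mem_center_of_fixed {Ω : Type u} [Group Ω] {S : Subgroup Ω} [Finite S]
    (F : Cfsg.FusionSystem S) {Q : Subgroup Ω} (hN : F.IsNormal Q) (w : Q)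
    (hw : ∀ a ∈ F.autGroup Q, a w = w) : (w : Ω) ∈ F.center := by
  have hQS := hN.1
  have hfin : Finite Q := FSSat.finite_of_le hQS
  have hzQ : Subgroup.zpowers (w : Ω) ≤ Q := by
    rw [Subgroup.zpowers_le]; exact w.2
  have hcen : F.IsCentral (Subgroup.zpowers (w : Ω)) := by
    refine ⟨hzQ.trans hQS, fun P φ hφ => ?_⟩
    obtain ⟨ψ', hψ', hψ'P, hψ'Q⟩ := hN.2 P φ hφ
    have hle : P ⊔ Subgroup.zpowers (w : Ω) ≤ P ⊔ Q := sup_le_sup_left hzQ P
    refine ⟨ψ'.comp (Subgroup.inclusion hle), FSBasic.restrict_mem F hψ' hle, fun x => hψ'P x, ?_⟩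
    have hθ : ψ'.comp (Subgroup.inclusion (le_sup_right : Q ≤ P ⊔ Q)) ∈ F.Hom Q :=
      FSBasic.restrict_mem F hψ' le_sup_right
    have hθQ : ∀ q : Q, (ψ'.comp (Subgroup.inclusion (le_sup_right : Q ≤ P ⊔ Q))) q ∈ Q := by
      intro q
      have h0 : (ψ'.comp (Subgroup.inclusion (le_sup_right : Q ≤ P ⊔ Q))) q ∈
          (Q.subgroupOf (P ⊔ Q)).map ψ' :=
        ⟨Subgroup.inclusion le_sup_right q, Subgroup.mem_subgroupOf.mpr q.2, rfl⟩
      rwa [hψ'Q] at h0
    have hr := FSBase.range_eq_of_finite F hθ hθQ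
    have ha := FSBasic.autOfMap_mem F hθ hr
    have hfix := hw _ ha
    have hθw : ψ' (Subgroup.inclusion le_sup_right w) = (w : Ω) := congrArg Subtype.val hfix
    intro x
    obtain ⟨k, hk⟩ := Subgroup.mem_zpowers_iff.mp x.2
    have e : Subgroup.inclusion hle (Subgroup.inclusion le_sup_right x) =
        (Subgroup.inclusion (le_sup_right : Q ≤ P ⊔ Q) w) ^ k := by
      apply Subtype.ext
      rw [Subgroup.coe_zpow]
      exact hk.symm
    show ψ' (Subgroup.inclusion hle (Subgroup.inclusion le_sup_right x)) = x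
    rw [e, map_zpow, hθw, hk]
  exact (le_sSup hcen : Subgroup.zpowers (w : Ω) ≤ F.center) (Subgroup.mem_zpowers _)

open scoped IsMulCommutative in
open Cfsg.FusionSystem Cfsg.Agent.Lib.Helper88 Cfsg.Agent.Lib.Helper87 in
/-- Let F be a saturated fusion system over a finite p-group S whose centre Z(S) lies in the largest subgroup O_p(F) normal in F. Then the centre Z(F) of F is a direct factor of Z(S): there is a subgroup K of Z(S) with Z(F) ∩ K = 1 and Z(F)K = Z(S). -/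
theorem result {Ω : Type u} [Group Ω] {S : Subgroup Ω} [Finite S] (p : ℕ) [Fact p.Prime] (hS : IsPGroup p S)
    (F : Cfsg.FusionSystem S) (hF : F.IsSaturated p) (hZ : (S ⊓ Subgroup.centralizer (S : Set Ω)) ≤ F.core) :
    ∃ K : Subgroup Ω, K ≤ (S ⊓ Subgroup.centralizer (S : Set Ω)) ∧ F.center ⊓ K = ⊥ ∧ F.center ⊔ K = (S ⊓ Subgroup.centralizer (S : Set Ω)) := by
  have hN : F.IsNormal F.core := Cfsg.Agent.S5145.result F
  have hc : F.IsCentral F.center := Cfsg.Agent.S5144.result F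
  have hQS : F.core ≤ S := hN.1
  have hfin : Finite F.core := FSSat.finite_of_le hQS
  have hQp : IsPGroup p F.core := hS.to_le hQS
  have hsc := FSNormal.stronglyClosed_of_isNormal F hN
  have hnorm : S ≤ Subgroup.normalizer (F.core : Set Ω) :=
    FSNormal.le_normalizer_of_stronglyClosed F hsc
  have hfa := fullyAutomized_of_isNormal p F hF hN
  have hcZ : F.center ≤ S ⊓ Subgroup.centralizer (S : Set Ω) := le_center_of_isCentral F hc
  obtain ⟨R, hR⟩ := hfa.2
  have hidx : p.Coprime ((autInducedBy S F.core).subgroupOf (F.autGroup F.core)).index := by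
    rw [← hR]
    exact (Nat.Prime.coprime_iff_not_dvd Fact.out).mpr R.not_dvd_index
  obtain ⟨K', hK'P, hK'A, hK'ex⟩ := RelTrace.exists_complement (M := Subgroup.center F.core) p
    (hQp.to_subgroup (Subgroup.center F.core))
    ((MulAut.characteristic (Subgroup.center F.core)).comp (F.autGroup F.core).subtype) _ hidx
  have hK_le : (K'.map (Subgroup.center F.core).subtype).map F.core.subtype ≤
      S ⊓ Subgroup.centralizer (S : Set Ω) := by
    rintro _ ⟨_, ⟨k', hk', rfl⟩, rfl⟩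
    refine ⟨hQS (k' : F.core).2, Subgroup.mem_centralizer_iff.mpr fun s hs => ?_⟩
    have hb : F.core.normalizerMonoidHom ⟨s, hnorm hs⟩ ∈ autInducedBy S F.core :=
      FSBasic.conj_mem_autInducedBy hs _
    have hbA := FSBasic.autInducedBy_le_autGroup F hQS hb
    have h1 := hK'P k' hk' ⟨_, hbA⟩ (Subgroup.mem_subgroupOf.mpr hb)
    have h2 : s * ((k' : F.core) : Ω) * s⁻¹ = ((k' : F.core) : Ω) :=
      congrArg (fun z : Subgroup.center F.core => ((z : F.core) : Ω)) h1
    rw [mul_inv_eq_iff_eq_mul] at h2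
    exact h2
  refine ⟨(K'.map (Subgroup.center F.core).subtype).map F.core.subtype, hK_le, ?_, ?_⟩
  · rw [eq_bot_iff]
    rintro x ⟨hxc, hxK⟩
    obtain ⟨_, ⟨k', hk', rfl⟩, rfl⟩ := hxK
    have hfixA : ∀ a : F.autGroup F.core,
        ((MulAut.characteristic (Subgroup.center F.core)).comp (F.autGroup F.core).subtype) a k'
          = k' := by
      intro a
      apply Subtype.ext
      exact aut_fix_central F hc hQS a.2 (k' : F.core) hxc
    have h1 := hK'A k' hk' hfixA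
    rw [h1]
    simp
  · refine le_antisymm (sup_le hcZ hK_le) ?_
    intro v hv
    have hvQ : v ∈ F.core := hZ hv
    have hv1 : (⟨v, hvQ⟩ : F.core) ∈ Subgroup.center F.core := by
      rw [Subgroup.mem_center_iff]
      intro g
      apply Subtype.ext
      exact Subgroup.mem_centralizer_iff.mp hv.2 g (hQS g.2)
    have hfixP : ∀ b ∈ (autInducedBy S F.core).subgroupOf (F.autGroup F.core),
        ((MulAut.characteristic (Subgroup.center F.core)).comp (F.autGroup F.core).subtype) b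
          ⟨⟨v, hvQ⟩, hv1⟩ = ⟨⟨v, hvQ⟩, hv1⟩ := by
      intro b hb
      obtain ⟨g, hg, hgb⟩ := (FSBasic.mem_autInducedBy_iff _).mp (Subgroup.mem_subgroupOf.mp hb)
      apply Subtype.ext
      apply Subtype.ext
      have h1 := hgb ⟨v, hvQ⟩
      have h2 : g * v = v * g := Subgroup.mem_centralizer_iff.mp hv.2 g hg
      have h3 : g * v * g⁻¹ = v := by rw [h2, mul_inv_cancel_right]
      exact h1.trans h3
    obtain ⟨w, hwA, hwK⟩ := hK'ex _ hfixP
    have hwc : ((w : F.core) : Ω) ∈ F.center :=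
      mem_center_of_fixed F hN (w : F.core) (fun a ha => congrArg Subtype.val (hwA ⟨a, ha⟩))
    have hk : (((w⁻¹ * ⟨⟨v, hvQ⟩, hv1⟩ : Subgroup.center F.core) : F.core) : Ω) ∈
        (K'.map (Subgroup.center F.core).subtype).map F.core.subtype :=
      ⟨_, ⟨_, hwK, rfl⟩, rfl⟩
    have hmul := Subgroup.mul_mem_sup hwc hk
    have e : ((w : F.core) : Ω) *
        (((w⁻¹ * ⟨⟨v, hvQ⟩, hv1⟩ : Subgroup.center F.core) : F.core) : Ω) = v := by
      simp
    rw [e] at hmul
    exact hmul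

end Cfsg.Agent.S5294
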