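import Cfsg.Statements.S3377

set_option autoImplicit false
open Cfsg

namespace Cfsg.Agent.S3377

abbrev rels : Set (FreeGroup (Fin 2)) :=
  {FreeGroup.of (0 : Fin 2) ^ 3, FreeGroup.of (1 : Fin 2) ^ 5,
    (FreeGroup.of (0 : Fin 2) * FreeGroup.of 1) ^ 2}

abbrev P := PresentedGroup rels

noncomputable def x : P := PresentedGroup.of 0
noncomputable def y : P := PresentedGroup.of 1

theorem hx3 : x ^ 3 = 1 := by
  have h : PresentedGroup.mk rels (FreeGroup.of 0 ^ 3) = 1 :=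
    PresentedGroup.one_of_mem (by simp [rels])
  rw [map_pow] at h
  exact h

theorem hy5 : y ^ 5 = 1 := by
  have h : PresentedGroup.mk rels (FreeGroup.of 1 ^ 5) = 1 :=
    PresentedGroup.one_of_mem (by simp [rels])
  rw [map_pow] at h
  exact h

theorem hxy2 : (x * y) ^ 2 = 1 := by
  have h : PresentedGroup.mk rels ((FreeGroup.of 0 * FreeGroup.of 1) ^ 2) = 1 :=
    PresentedGroup.one_of_mem (by simp [rels])
  rw [map_pow, map_mul] at h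
  exact h

theorem relA (a : P) : a * x * x * x = a := by
  calc a * x * x * x = a * x ^ 3 := by simp only [pow_succ, pow_zero, one_mul, mul_assoc]
    _ = a := by rw [hx3, mul_one]

theorem relB (a : P) : a * y * y * y * y * y = a := by
  calc a * y * y * y * y * y = a * y ^ 5 := by simp only [pow_succ, pow_zero, one_mul, mul_assoc]
    _ = a := by rw [hy5, mul_one]

theorem relC (a : P) : a * x * y * x * y = a := by
  calc a * x * y * x * y = a * (x * y) ^ 2 := by simp only [pow_succ, pow_zero, one_mul, mul_assoc]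
    _ = a := by rw [hxy2, mul_one]

noncomputable def r0 : P := 1
noncomputable def r1 : P := r0 * x
noncomputable def r2 : P := r0 * y
noncomputable def r3 : P := r1 * x
noncomputable def r4 : P := r1 * y
noncomputable def r5 : P := r2 * x
noncomputable def r6 : P := r2 * y
noncomputable def r7 : P := r3 * y
noncomputable def r8 : P := r4 * x
noncomputable def r9 : P := r4 * y
noncomputable def r10 : P := r5 * x
noncomputable def r11 : P := r6 * x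
noncomputable def r12 : P := r6 * y
noncomputable def r13 : P := r7 * x
noncomputable def r14 : P := r7 * y
noncomputable def r15 : P := r8 * x
noncomputable def r16 : P := r9 * x
noncomputable def r17 : P := r9 * y
noncomputable def r18 : P := r10 * y
noncomputable def r19 : P := r11 * x
noncomputable def r20 : P := r12 * x
noncomputable def r21 : P := r13 * x
noncomputable def r22 : P := r14 * x
noncomputable def r23 : P := r14 * y
noncomputable def r24 : P := r15 * y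
noncomputable def r25 : P := r16 * x
noncomputable def r26 : P := r17 * x
noncomputable def r27 : P := r18 * y
noncomputable def r28 : P := r19 * y
noncomputable def r29 : P := r21 * y
noncomputable def r30 : P := r22 * x
noncomputable def r31 : P := r23 * x
noncomputable def r32 : P := r24 * y
noncomputable def r33 : P := r25 * y
noncomputable def r34 : P := r27 * x
noncomputable def r35 : P := r27 * y
noncomputable def r36 : P := r28 * y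
noncomputable def r37 : P := r29 * y
noncomputable def r38 : P := r30 * y
noncomputable def r39 : P := r32 * x
noncomputable def r40 : P := r32 * y
noncomputable def r41 : P := r33 * y
noncomputable def r42 : P := r34 * x
noncomputable def r43 : P := r35 * x
noncomputable def r44 : P := r36 * x
noncomputable def r45 : P := r37 * x
noncomputable def r46 : P := r37 * y
noncomputable def r47 : P := r38 * y
noncomputable def r48 : P := r39 * x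
noncomputable def r49 : P := r40 * x
noncomputable def r50 : P := r41 * x
noncomputable def r51 : P := r42 * y
noncomputable def r52 : P := r44 * x
noncomputable def r53 : P := r45 * x
noncomputable def r54 : P := r46 * x
noncomputable def r55 : P := r47 * x
noncomputable def r56 : P := r50 * x
noncomputable def r57 : P := r51 * y
noncomputable def r58 : P := r52 * y
noncomputable def r59 : P := r56 * y
theorem e_0_x : r0 * x = r1 := rfl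
theorem e_0_y : r0 * y = r2 := rfl
theorem e_1_x : r1 * x = r3 := rfl
theorem e_1_y : r1 * y = r4 := rfl
theorem e_2_x : r2 * x = r5 := rfl
theorem e_2_y : r2 * y = r6 := rfl
theorem e_3_y : r3 * y = r7 := rfl
theorem e_4_x : r4 * x = r8 := rfl
theorem e_4_y : r4 * y = r9 := rfl
theorem e_5_x : r5 * x = r10 := rfl
theorem e_6_x : r6 * x = r11 := rfl
theorem e_6_y : r6 * y = r12 := rfl
theorem e_7_x : r7 * x = r13 := rfl
theorem e_7_y : r7 * y = r14 := rfl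
theorem e_8_x : r8 * x = r15 := rfl
theorem e_9_x : r9 * x = r16 := rfl
theorem e_9_y : r9 * y = r17 := rfl
theorem e_10_y : r10 * y = r18 := rfl
theorem e_11_x : r11 * x = r19 := rfl
theorem e_12_x : r12 * x = r20 := rfl
theorem e_13_x : r13 * x = r21 := rfl
theorem e_14_x : r14 * x = r22 := rfl
theorem e_14_y : r14 * y = r23 := rfl
theorem e_15_y : r15 * y = r24 := rfl
theorem e_16_x : r16 * x = r25 := rfl
theorem e_17_x : r17 * x = r26 := rfl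
theorem e_18_y : r18 * y = r27 := rfl
theorem e_19_y : r19 * y = r28 := rfl
theorem e_21_y : r21 * y = r29 := rfl
theorem e_22_x : r22 * x = r30 := rfl
theorem e_23_x : r23 * x = r31 := rfl
theorem e_24_y : r24 * y = r32 := rfl
theorem e_25_y : r25 * y = r33 := rfl
theorem e_27_x : r27 * x = r34 := rfl
theorem e_27_y : r27 * y = r35 := rfl
theorem e_28_y : r28 * y = r36 := rfl
theorem e_29_y : r29 * y = r37 := rfl
theorem e_30_y : r30 * y = r38 := rfl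
theorem e_32_x : r32 * x = r39 := rfl
theorem e_32_y : r32 * y = r40 := rfl
theorem e_33_y : r33 * y = r41 := rfl
theorem e_34_x : r34 * x = r42 := rfl
theorem e_35_x : r35 * x = r43 := rfl
theorem e_36_x : r36 * x = r44 := rfl
theorem e_37_x : r37 * x = r45 := rfl
theorem e_37_y : r37 * y = r46 := rfl
theorem e_38_y : r38 * y = r47 := rfl
theorem e_39_x : r39 * x = r48 := rfl
theorem e_40_x : r40 * x = r49 := rfl
theorem e_41_x : r41 * x = r50 := rfl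
theorem e_42_y : r42 * y = r51 := rfl
theorem e_44_x : r44 * x = r52 := rfl
theorem e_45_x : r45 * x = r53 := rfl
theorem e_46_x : r46 * x = r54 := rfl
theorem e_47_x : r47 * x = r55 := rfl
theorem e_50_x : r50 * x = r56 := rfl
theorem e_51_y : r51 * y = r57 := rfl
theorem e_52_y : r52 * y = r58 := rfl
theorem e_56_y : r56 * y = r59 := rfl
theorem e_3_x : r3 * x = r0 := by
  have h := relA r0
  simp only [e_0_x, e_1_x] at h
  exact h
theorem e_10_x : r10 * x = r2 := by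
  have h := relA r2
  simp only [e_2_x, e_5_x] at h
  exact h
theorem e_15_x : r15 * x = r4 := by
  have h := relA r4
  simp only [e_4_x, e_8_x] at h
  exact h
theorem e_19_x : r19 * x = r6 := by
  have h := relA r6
  simp only [e_6_x, e_11_x] at h
  exact h
theorem e_21_x : r21 * x = r7 := by
  have h := relA r7
  simp only [e_7_x, e_13_x] at h
  exact h
theorem e_25_x : r25 * x = r9 := by
  have h := relA r9
  simp only [e_9_x, e_16_x] at h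
  exact h
theorem e_30_x : r30 * x = r14 := by
  have h := relA r14
  simp only [e_14_x, e_22_x] at h
  exact h
theorem e_42_x : r42 * x = r27 := by
  have h := relA r27
  simp only [e_27_x, e_34_x] at h
  exact h
theorem e_48_x : r48 * x = r32 := by
  have h := relA r32
  simp only [e_32_x, e_39_x] at h
  exact h
theorem e_52_x : r52 * x = r36 := by
  have h := relA r36
  simp only [e_36_x, e_44_x] at h
  exact h
theorem e_53_x : r53 * x = r37 := by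
  have h := relA r37
  simp only [e_37_x, e_45_x] at h
  exact h
theorem e_56_x : r56 * x = r41 := by
  have h := relA r41
  simp only [e_41_x, e_50_x] at h
  exact h
theorem e_8_y : r8 * y = r0 := by
  have h := relC r0
  simp only [e_0_x, e_1_y, e_4_x] at h
  exact h
theorem e_13_y : r13 * y = r1 := by
  have h := relC r1
  simp only [e_1_x, e_3_y, e_7_x] at h
  exact h
theorem e_5_y : r5 * y = r3 := by
  have h := relC r2
  simp only [e_2_x] at h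
  have h2 : r3 * x * y = r2 := by simp only [e_3_x, e_0_y]
  exact (mul_right_cancel (mul_right_cancel (h.trans h2.symm)))
theorem e_11_y : r11 * y = r10 := by
  have h := relC r6
  simp only [e_6_x] at h
  have h2 : r10 * x * y = r6 := by simp only [e_10_x, e_2_y]
  exact (mul_right_cancel (mul_right_cancel (h.trans h2.symm)))
theorem e_16_y : r16 * y = r15 := by
  have h := relC r9
  simp only [e_9_x] at h
  have h2 : r15 * x * y = r9 := by simp only [e_15_x, e_4_y]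
  exact (mul_right_cancel (mul_right_cancel (h.trans h2.symm)))
theorem e_20_y : r20 * y = r19 := by
  have h := relC r12
  simp only [e_12_x] at h
  have h2 : r19 * x * y = r12 := by simp only [e_19_x, e_6_y]
  exact (mul_right_cancel (mul_right_cancel (h.trans h2.symm)))
theorem e_22_y : r22 * y = r21 := by
  have h := relC r14
  simp only [e_14_x] at h
  have h2 : r21 * x * y = r14 := by simp only [e_21_x, e_7_y]
  exact (mul_right_cancel (mul_right_cancel (h.trans h2.symm)))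
theorem e_26_y : r26 * y = r25 := by
  have h := relC r17
  simp only [e_17_x] at h
  have h2 : r25 * x * y = r17 := by simp only [e_25_x, e_9_y]
  exact (mul_right_cancel (mul_right_cancel (h.trans h2.symm)))
theorem e_31_y : r31 * y = r30 := by
  have h := relC r23
  simp only [e_23_x] at h
  have h2 : r30 * x * y = r23 := by simp only [e_30_x, e_14_y]
  exact (mul_right_cancel (mul_right_cancel (h.trans h2.symm)))
theorem e_43_y : r43 * y = r42 := by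
  have h := relC r35
  simp only [e_35_x] at h
  have h2 : r42 * x * y = r35 := by simp only [e_42_x, e_27_y]
  exact (mul_right_cancel (mul_right_cancel (h.trans h2.symm)))
theorem e_49_y : r49 * y = r48 := by
  have h := relC r40
  simp only [e_40_x] at h
  have h2 : r48 * x * y = r40 := by simp only [e_48_x, e_32_y]
  exact (mul_right_cancel (mul_right_cancel (h.trans h2.symm)))
theorem e_54_y : r54 * y = r53 := by
  have h := relC r46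
  simp only [e_46_x] at h
  have h2 : r53 * x * y = r46 := by simp only [e_53_x, e_37_y]
  exact (mul_right_cancel (mul_right_cancel (h.trans h2.symm)))
theorem e_12_y : r12 * y = r8 := by
  have h := relB r0
  simp only [e_0_y, e_2_y, e_6_y] at h
  have h2 : r8 * y = r0 := by simp only [e_8_y]
  exact (mul_right_cancel (h.trans h2.symm))
theorem e_17_y : r17 * y = r13 := by
  have h := relB r1
  simp only [e_1_y, e_4_y, e_9_y] at h
  have h2 : r13 * y = r1 := by simp only [e_13_y]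
  exact (mul_right_cancel (h.trans h2.symm))
theorem e_23_y : r23 * y = r5 := by
  have h := relB r3
  simp only [e_3_y, e_7_y, e_14_y] at h
  have h2 : r5 * y = r3 := by simp only [e_5_y]
  exact (mul_right_cancel (h.trans h2.symm))
theorem e_35_y : r35 * y = r11 := by
  have h := relB r10
  simp only [e_10_y, e_18_y, e_27_y] at h
  have h2 : r11 * y = r10 := by simp only [e_11_y]
  exact (mul_right_cancel (h.trans h2.symm))
theorem e_40_y : r40 * y = r16 := by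
  have h := relB r15
  simp only [e_15_y, e_24_y, e_32_y] at h
  have h2 : r16 * y = r15 := by simp only [e_16_y]
  exact (mul_right_cancel (h.trans h2.symm))
theorem e_46_y : r46 * y = r22 := by
  have h := relB r21
  simp only [e_21_y, e_29_y, e_37_y] at h
  have h2 : r22 * y = r21 := by simp only [e_22_y]
  exact (mul_right_cancel (h.trans h2.symm))
theorem e_18_x : r18 * x = r23 := by
  have h := relC r5
  simp only [e_5_x, e_10_y] at h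
  have h2 : r23 * y = r5 := by simp only [e_23_y]
  exact (mul_right_cancel (h.trans h2.symm))
theorem e_24_x : r24 * x = r12 := by
  have h := relC r8
  simp only [e_8_x, e_15_y] at h
  have h2 : r12 * y = r8 := by simp only [e_12_y]
  exact (mul_right_cancel (h.trans h2.symm))
theorem e_28_x : r28 * x = r35 := by
  have h := relC r11
  simp only [e_11_x, e_19_y] at h
  have h2 : r35 * y = r11 := by simp only [e_35_y]
  exact (mul_right_cancel (h.trans h2.symm))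
theorem e_29_x : r29 * x = r17 := by
  have h := relC r13
  simp only [e_13_x, e_21_y] at h
  have h2 : r17 * y = r13 := by simp only [e_17_y]
  exact (mul_right_cancel (h.trans h2.symm))
theorem e_33_x : r33 * x = r40 := by
  have h := relC r16
  simp only [e_16_x, e_25_y] at h
  have h2 : r40 * y = r16 := by simp only [e_40_y]
  exact (mul_right_cancel (h.trans h2.symm))
theorem e_38_x : r38 * x = r46 := by
  have h := relC r22
  simp only [e_22_x, e_30_y] at h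
  have h2 : r46 * y = r22 := by simp only [e_46_y]
  exact (mul_right_cancel (h.trans h2.symm))
theorem e_20_x : r20 * x = r24 := by
  have h := relA r12
  simp only [e_12_x] at h
  have h2 : r24 * x = r12 := by simp only [e_24_x]
  exact (mul_right_cancel (h.trans h2.symm))
theorem e_26_x : r26 * x = r29 := by
  have h := relA r17
  simp only [e_17_x] at h
  have h2 : r29 * x = r17 := by simp only [e_29_x]
  exact (mul_right_cancel (h.trans h2.symm))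
theorem e_31_x : r31 * x = r18 := by
  have h := relA r18
  simp only [e_18_x, e_23_x] at h
  exact h
theorem e_43_x : r43 * x = r28 := by
  have h := relA r28
  simp only [e_28_x, e_35_x] at h
  exact h
theorem e_49_x : r49 * x = r33 := by
  have h := relA r33
  simp only [e_33_x, e_40_x] at h
  exact h
theorem e_54_x : r54 * x = r38 := by
  have h := relA r38
  simp only [e_38_x, e_46_x] at h
  exact h
theorem e_39_y : r39 * y = r20 := by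
  have h := relC r20
  simp only [e_20_x, e_24_y, e_32_x] at h
  exact h
theorem e_45_y : r45 * y = r26 := by
  have h := relC r26
  simp only [e_26_x, e_29_y, e_37_x] at h
  exact h
theorem e_34_y : r34 * y = r31 := by
  have h := relC r27
  simp only [e_27_x] at h
  have h2 : r31 * x * y = r27 := by simp only [e_31_x, e_18_y]
  exact (mul_right_cancel (mul_right_cancel (h.trans h2.symm)))
theorem e_44_y : r44 * y = r43 := by
  have h := relC r36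
  simp only [e_36_x] at h
  have h2 : r43 * x * y = r36 := by simp only [e_43_x, e_28_y]
  exact (mul_right_cancel (mul_right_cancel (h.trans h2.symm)))
theorem e_50_y : r50 * y = r49 := by
  have h := relC r41
  simp only [e_41_x] at h
  have h2 : r49 * x * y = r41 := by simp only [e_49_x, e_33_y]
  exact (mul_right_cancel (mul_right_cancel (h.trans h2.symm)))
theorem e_55_y : r55 * y = r54 := by
  have h := relC r47
  simp only [e_47_x] at h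
  have h2 : r54 * x * y = r47 := by simp only [e_54_x, e_38_y]
  exact (mul_right_cancel (mul_right_cancel (h.trans h2.symm)))
theorem e_36_y : r36 * y = r39 := by
  have h := relB r19
  simp only [e_19_y, e_28_y] at h
  have h2 : r39 * y * y = r19 := by simp only [e_39_y, e_20_y]
  exact (mul_right_cancel (mul_right_cancel (h.trans h2.symm)))
theorem e_41_y : r41 * y = r45 := by
  have h := relB r25
  simp only [e_25_y, e_33_y] at h
  have h2 : r45 * y * y = r25 := by simp only [e_45_y, e_26_y]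
  exact (mul_right_cancel (mul_right_cancel (h.trans h2.symm)))
theorem e_47_y : r47 * y = r34 := by
  have h := relB r30
  simp only [e_30_y, e_38_y] at h
  have h2 : r34 * y * y = r30 := by simp only [e_34_y, e_31_y]
  exact (mul_right_cancel (mul_right_cancel (h.trans h2.symm)))
theorem e_57_y : r57 * y = r44 := by
  have h := relB r42
  simp only [e_42_y, e_51_y] at h
  have h2 : r44 * y * y = r42 := by simp only [e_44_y, e_43_y]
  exact (mul_right_cancel (mul_right_cancel (h.trans h2.symm)))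
theorem e_51_x : r51 * x = r47 := by
  have h := relC r34
  simp only [e_34_x, e_42_y] at h
  have h2 : r47 * y = r34 := by simp only [e_47_y]
  exact (mul_right_cancel (h.trans h2.symm))
theorem e_48_y : r48 * y = r52 := by
  have h := relC r39
  simp only [e_39_x] at h
  have h2 : r52 * x * y = r39 := by simp only [e_52_x, e_36_y]
  exact (mul_right_cancel (mul_right_cancel (h.trans h2.symm)))
theorem e_58_x : r58 * x = r57 := by
  have h := relC r44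
  simp only [e_44_x, e_52_y] at h
  have h2 : r57 * y = r44 := by simp only [e_57_y]
  exact (mul_right_cancel (h.trans h2.symm))
theorem e_53_y : r53 * y = r56 := by
  have h := relC r45
  simp only [e_45_x] at h
  have h2 : r56 * x * y = r45 := by simp only [e_56_x, e_41_y]
  exact (mul_right_cancel (mul_right_cancel (h.trans h2.symm)))
theorem e_55_x : r55 * x = r51 := by
  have h := relA r47
  simp only [e_47_x] at h
  have h2 : r51 * x = r47 := by simp only [e_51_x]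
  exact (mul_right_cancel (h.trans h2.symm))
theorem e_58_y : r58 * y = r50 := by
  have h := relB r48
  simp only [e_48_y, e_52_y] at h
  have h2 : r50 * y * y = r48 := by simp only [e_50_y, e_49_y]
  exact (mul_right_cancel (mul_right_cancel (h.trans h2.symm)))
theorem e_59_y : r59 * y = r55 := by
  have h := relB r53
  simp only [e_53_y, e_56_y] at h
  have h2 : r55 * y * y = r53 := by simp only [e_55_y, e_54_y]
  exact (mul_right_cancel (mul_right_cancel (h.trans h2.symm)))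
theorem e_59_x : r59 * x = r58 := by
  have h := relC r50
  simp only [e_50_x, e_56_y] at h
  have h2 : r58 * y = r50 := by simp only [e_58_y]
  exact (mul_right_cancel (h.trans h2.symm))
theorem e_57_x : r57 * x = r59 := by
  have h := relC r55
  simp only [e_55_x, e_51_y] at h
  have h2 : r59 * y = r55 := by simp only [e_59_y]
  exact (mul_right_cancel (h.trans h2.symm))
noncomputable def rep : Fin 60 → P
  | ⟨0, _⟩ => r0
  | ⟨1, _⟩ => r1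
  | ⟨2, _⟩ => r2
  | ⟨3, _⟩ => r3
  | ⟨4, _⟩ => r4
  | ⟨5, _⟩ => r5
  | ⟨6, _⟩ => r6
  | ⟨7, _⟩ => r7
  | ⟨8, _⟩ => r8
  | ⟨9, _⟩ => r9
  | ⟨10, _⟩ => r10
  | ⟨11, _⟩ => r11
  | ⟨12, _⟩ => r12
  | ⟨13, _⟩ => r13
  | ⟨14, _⟩ => r14
  | ⟨15, _⟩ => r15
  | ⟨16, _⟩ => r16
  | ⟨17, _⟩ => r17
  | ⟨18, _⟩ => r18
  | ⟨19, _⟩ => r19
  | ⟨20, _⟩ => r20
  | ⟨21, _⟩ => r21
  | ⟨22, _⟩ => r22
  | ⟨23, _⟩ => r23
  | ⟨24, _⟩ => r24
  | ⟨25, _⟩ => r25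
  | ⟨26, _⟩ => r26
  | ⟨27, _⟩ => r27
  | ⟨28, _⟩ => r28
  | ⟨29, _⟩ => r29
  | ⟨30, _⟩ => r30
  | ⟨31, _⟩ => r31
  | ⟨32, _⟩ => r32
  | ⟨33, _⟩ => r33
  | ⟨34, _⟩ => r34
  | ⟨35, _⟩ => r35
  | ⟨36, _⟩ => r36
  | ⟨37, _⟩ => r37
  | ⟨38, _⟩ => r38
  | ⟨39, _⟩ => r39
  | ⟨40, _⟩ => r40
  | ⟨41, _⟩ => r41
  | ⟨42, _⟩ => r42
  | ⟨43, _⟩ => r43
  | ⟨44, _⟩ => r44
  | ⟨45, _⟩ => r45
  | ⟨46, _⟩ => r46
  | ⟨47, _⟩ => r47
  | ⟨48, _⟩ => r48
  | ⟨49, _⟩ => r49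
  | ⟨50, _⟩ => r50
  | ⟨51, _⟩ => r51
  | ⟨52, _⟩ => r52
  | ⟨53, _⟩ => r53
  | ⟨54, _⟩ => r54
  | ⟨55, _⟩ => r55
  | ⟨56, _⟩ => r56
  | ⟨57, _⟩ => r57
  | ⟨58, _⟩ => r58
  | ⟨59, _⟩ => r59
  | ⟨n+60, h⟩ => absurd h (by omega)
def nx_x : Fin 60 → Fin 60
  | ⟨0, _⟩ => 1
  | ⟨1, _⟩ => 3
  | ⟨2, _⟩ => 5
  | ⟨3, _⟩ => 0
  | ⟨4, _⟩ => 8
  | ⟨5, _⟩ => 10
  | ⟨6, _⟩ => 11
  | ⟨7, _⟩ => 13
  | ⟨8, _⟩ => 15
  | ⟨9, _⟩ => 16
  | ⟨10, _⟩ => 2
  | ⟨11, _⟩ => 19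
  | ⟨12, _⟩ => 20
  | ⟨13, _⟩ => 21
  | ⟨14, _⟩ => 22
  | ⟨15, _⟩ => 4
  | ⟨16, _⟩ => 25
  | ⟨17, _⟩ => 26
  | ⟨18, _⟩ => 23
  | ⟨19, _⟩ => 6
  | ⟨20, _⟩ => 24
  | ⟨21, _⟩ => 7
  | ⟨22, _⟩ => 30
  | ⟨23, _⟩ => 31
  | ⟨24, _⟩ => 12
  | ⟨25, _⟩ => 9
  | ⟨26, _⟩ => 29
  | ⟨27, _⟩ => 34
  | ⟨28, _⟩ => 35
  | ⟨29, _⟩ => 17
  | ⟨30, _⟩ => 14
  | ⟨31, _⟩ => 18
  | ⟨32, _⟩ => 39
  | ⟨33, _⟩ => 40
  | ⟨34, _⟩ => 42
  | ⟨35, _⟩ => 43
  | ⟨36, _⟩ => 44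
  | ⟨37, _⟩ => 45
  | ⟨38, _⟩ => 46
  | ⟨39, _⟩ => 48
  | ⟨40, _⟩ => 49
  | ⟨41, _⟩ => 50
  | ⟨42, _⟩ => 27
  | ⟨43, _⟩ => 28
  | ⟨44, _⟩ => 52
  | ⟨45, _⟩ => 53
  | ⟨46, _⟩ => 54
  | ⟨47, _⟩ => 55
  | ⟨48, _⟩ => 32
  | ⟨49, _⟩ => 33
  | ⟨50, _⟩ => 56
  | ⟨51, _⟩ => 47
  | ⟨52, _⟩ => 36
  | ⟨53, _⟩ => 37
  | ⟨54, _⟩ => 38
  | ⟨55, _⟩ => 51
  | ⟨56, _⟩ => 41
  | ⟨57, _⟩ => 59
  | ⟨58, _⟩ => 57
  | ⟨59, _⟩ => 58
  | ⟨n+60, h⟩ => absurd h (by omega)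
def px_x : Fin 60 → Fin 60
  | ⟨0, _⟩ => 3
  | ⟨1, _⟩ => 0
  | ⟨2, _⟩ => 10
  | ⟨3, _⟩ => 1
  | ⟨4, _⟩ => 15
  | ⟨5, _⟩ => 2
  | ⟨6, _⟩ => 19
  | ⟨7, _⟩ => 21
  | ⟨8, _⟩ => 4
  | ⟨9, _⟩ => 25
  | ⟨10, _⟩ => 5
  | ⟨11, _⟩ => 6
  | ⟨12, _⟩ => 24
  | ⟨13, _⟩ => 7
  | ⟨14, _⟩ => 30
  | ⟨15, _⟩ => 8
  | ⟨16, _⟩ => 9
  | ⟨17, _⟩ => 29
  | ⟨18, _⟩ => 31
  | ⟨19, _⟩ => 11
  | ⟨20, _⟩ => 12
  | ⟨21, _⟩ => 13
  | ⟨22, _⟩ => 14
  | ⟨23, _⟩ => 18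
  | ⟨24, _⟩ => 20
  | ⟨25, _⟩ => 16
  | ⟨26, _⟩ => 17
  | ⟨27, _⟩ => 42
  | ⟨28, _⟩ => 43
  | ⟨29, _⟩ => 26
  | ⟨30, _⟩ => 22
  | ⟨31, _⟩ => 23
  | ⟨32, _⟩ => 48
  | ⟨33, _⟩ => 49
  | ⟨34, _⟩ => 27
  | ⟨35, _⟩ => 28
  | ⟨36, _⟩ => 52
  | ⟨37, _⟩ => 53
  | ⟨38, _⟩ => 54
  | ⟨39, _⟩ => 32
  | ⟨40, _⟩ => 33
  | ⟨41, _⟩ => 56
  | ⟨42, _⟩ => 34
  | ⟨43, _⟩ => 35
  | ⟨44, _⟩ => 36
  | ⟨45, _⟩ => 37
  | ⟨46, _⟩ => 38
  | ⟨47, _⟩ => 51
  | ⟨48, _⟩ => 39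
  | ⟨49, _⟩ => 40
  | ⟨50, _⟩ => 41
  | ⟨51, _⟩ => 55
  | ⟨52, _⟩ => 44
  | ⟨53, _⟩ => 45
  | ⟨54, _⟩ => 46
  | ⟨55, _⟩ => 47
  | ⟨56, _⟩ => 50
  | ⟨57, _⟩ => 58
  | ⟨58, _⟩ => 59
  | ⟨59, _⟩ => 57
  | ⟨n+60, h⟩ => absurd h (by omega)
theorem closed_x : ∀ i : Fin 60, rep i * x = rep (nx_x i)
  | ⟨0, _⟩ => e_0_x
  | ⟨1, _⟩ => e_1_x
  | ⟨2, _⟩ => e_2_x
  | ⟨3, _⟩ => e_3_x
  | ⟨4, _⟩ => e_4_x
  | ⟨5, _⟩ => e_5_x
  | ⟨6, _⟩ => e_6_x
  | ⟨7, _⟩ => e_7_x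
  | ⟨8, _⟩ => e_8_x
  | ⟨9, _⟩ => e_9_x
  | ⟨10, _⟩ => e_10_x
  | ⟨11, _⟩ => e_11_x
  | ⟨12, _⟩ => e_12_x
  | ⟨13, _⟩ => e_13_x
  | ⟨14, _⟩ => e_14_x
  | ⟨15, _⟩ => e_15_x
  | ⟨16, _⟩ => e_16_x
  | ⟨17, _⟩ => e_17_x
  | ⟨18, _⟩ => e_18_x
  | ⟨19, _⟩ => e_19_x
  | ⟨20, _⟩ => e_20_x
  | ⟨21, _⟩ => e_21_x
  | ⟨22, _⟩ => e_22_x
  | ⟨23, _⟩ => e_23_x
  | ⟨24, _⟩ => e_24_x
  | ⟨25, _⟩ => e_25_x
  | ⟨26, _⟩ => e_26_x
  | ⟨27, _⟩ => e_27_x
  | ⟨28, _⟩ => e_28_x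
  | ⟨29, _⟩ => e_29_x
  | ⟨30, _⟩ => e_30_x
  | ⟨31, _⟩ => e_31_x
  | ⟨32, _⟩ => e_32_x
  | ⟨33, _⟩ => e_33_x
  | ⟨34, _⟩ => e_34_x
  | ⟨35, _⟩ => e_35_x
  | ⟨36, _⟩ => e_36_x
  | ⟨37, _⟩ => e_37_x
  | ⟨38, _⟩ => e_38_x
  | ⟨39, _⟩ => e_39_x
  | ⟨40, _⟩ => e_40_x
  | ⟨41, _⟩ => e_41_x
  | ⟨42, _⟩ => e_42_x
  | ⟨43, _⟩ => e_43_x
  | ⟨44, _⟩ => e_44_x
  | ⟨45, _⟩ => e_45_x
  | ⟨46, _⟩ => e_46_x
  | ⟨47, _⟩ => e_47_x
  | ⟨48, _⟩ => e_48_x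
  | ⟨49, _⟩ => e_49_x
  | ⟨50, _⟩ => e_50_x
  | ⟨51, _⟩ => e_51_x
  | ⟨52, _⟩ => e_52_x
  | ⟨53, _⟩ => e_53_x
  | ⟨54, _⟩ => e_54_x
  | ⟨55, _⟩ => e_55_x
  | ⟨56, _⟩ => e_56_x
  | ⟨57, _⟩ => e_57_x
  | ⟨58, _⟩ => e_58_x
  | ⟨59, _⟩ => e_59_x
  | ⟨n+60, h⟩ => absurd h (by omega)
theorem pre_x : ∀ i : Fin 60, rep (px_x i) * x = rep i
  | ⟨0, _⟩ => e_3_x
  | ⟨1, _⟩ => e_0_x
  | ⟨2, _⟩ => e_10_x
  | ⟨3, _⟩ => e_1_x
  | ⟨4, _⟩ => e_15_x
  | ⟨5, _⟩ => e_2_x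
  | ⟨6, _⟩ => e_19_x
  | ⟨7, _⟩ => e_21_x
  | ⟨8, _⟩ => e_4_x
  | ⟨9, _⟩ => e_25_x
  | ⟨10, _⟩ => e_5_x
  | ⟨11, _⟩ => e_6_x
  | ⟨12, _⟩ => e_24_x
  | ⟨13, _⟩ => e_7_x
  | ⟨14, _⟩ => e_30_x
  | ⟨15, _⟩ => e_8_x
  | ⟨16, _⟩ => e_9_x
  | ⟨17, _⟩ => e_29_x
  | ⟨18, _⟩ => e_31_x
  | ⟨19, _⟩ => e_11_x
  | ⟨20, _⟩ => e_12_x
  | ⟨21, _⟩ => e_13_x
  | ⟨22, _⟩ => e_14_x
  | ⟨23, _⟩ => e_18_x
  | ⟨24, _⟩ => e_20_x
  | ⟨25, _⟩ => e_16_x
  | ⟨26, _⟩ => e_17_x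
  | ⟨27, _⟩ => e_42_x
  | ⟨28, _⟩ => e_43_x
  | ⟨29, _⟩ => e_26_x
  | ⟨30, _⟩ => e_22_x
  | ⟨31, _⟩ => e_23_x
  | ⟨32, _⟩ => e_48_x
  | ⟨33, _⟩ => e_49_x
  | ⟨34, _⟩ => e_27_x
  | ⟨35, _⟩ => e_28_x
  | ⟨36, _⟩ => e_52_x
  | ⟨37, _⟩ => e_53_x
  | ⟨38, _⟩ => e_54_x
  | ⟨39, _⟩ => e_32_x
  | ⟨40, _⟩ => e_33_x
  | ⟨41, _⟩ => e_56_x
  | ⟨42, _⟩ => e_34_x
  | ⟨43, _⟩ => e_35_x
  | ⟨44, _⟩ => e_36_x
  | ⟨45, _⟩ => e_37_x
  | ⟨46, _⟩ => e_38_x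
  | ⟨47, _⟩ => e_51_x
  | ⟨48, _⟩ => e_39_x
  | ⟨49, _⟩ => e_40_x
  | ⟨50, _⟩ => e_41_x
  | ⟨51, _⟩ => e_55_x
  | ⟨52, _⟩ => e_44_x
  | ⟨53, _⟩ => e_45_x
  | ⟨54, _⟩ => e_46_x
  | ⟨55, _⟩ => e_47_x
  | ⟨56, _⟩ => e_50_x
  | ⟨57, _⟩ => e_58_x
  | ⟨58, _⟩ => e_59_x
  | ⟨59, _⟩ => e_57_x
  | ⟨n+60, h⟩ => absurd h (by omega)
def nx_y : Fin 60 → Fin 60
  | ⟨0, _⟩ => 2
  | ⟨1, _⟩ => 4
  | ⟨2, _⟩ => 6
  | ⟨3, _⟩ => 7
  | ⟨4, _⟩ => 9
  | ⟨5, _⟩ => 3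
  | ⟨6, _⟩ => 12
  | ⟨7, _⟩ => 14
  | ⟨8, _⟩ => 0
  | ⟨9, _⟩ => 17
  | ⟨10, _⟩ => 18
  | ⟨11, _⟩ => 10
  | ⟨12, _⟩ => 8
  | ⟨13, _⟩ => 1
  | ⟨14, _⟩ => 23
  | ⟨15, _⟩ => 24
  | ⟨16, _⟩ => 15
  | ⟨17, _⟩ => 13
  | ⟨18, _⟩ => 27
  | ⟨19, _⟩ => 28
  | ⟨20, _⟩ => 19
  | ⟨21, _⟩ => 29
  | ⟨22, _⟩ => 21
  | ⟨23, _⟩ => 5
  | ⟨24, _⟩ => 32
  | ⟨25, _⟩ => 33
  | ⟨26, _⟩ => 25
  | ⟨27, _⟩ => 35
  | ⟨28, _⟩ => 36
  | ⟨29, _⟩ => 37
  | ⟨30, _⟩ => 38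
  | ⟨31, _⟩ => 30
  | ⟨32, _⟩ => 40
  | ⟨33, _⟩ => 41
  | ⟨34, _⟩ => 31
  | ⟨35, _⟩ => 11
  | ⟨36, _⟩ => 39
  | ⟨37, _⟩ => 46
  | ⟨38, _⟩ => 47
  | ⟨39, _⟩ => 20
  | ⟨40, _⟩ => 16
  | ⟨41, _⟩ => 45
  | ⟨42, _⟩ => 51
  | ⟨43, _⟩ => 42
  | ⟨44, _⟩ => 43
  | ⟨45, _⟩ => 26
  | ⟨46, _⟩ => 22
  | ⟨47, _⟩ => 34
  | ⟨48, _⟩ => 52
  | ⟨49, _⟩ => 48
  | ⟨50, _⟩ => 49
  | ⟨51, _⟩ => 57
  | ⟨52, _⟩ => 58
  | ⟨53, _⟩ => 56
  | ⟨54, _⟩ => 53
  | ⟨55, _⟩ => 54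
  | ⟨56, _⟩ => 59
  | ⟨57, _⟩ => 44
  | ⟨58, _⟩ => 50
  | ⟨59, _⟩ => 55
  | ⟨n+60, h⟩ => absurd h (by omega)
def px_y : Fin 60 → Fin 60
  | ⟨0, _⟩ => 8
  | ⟨1, _⟩ => 13
  | ⟨2, _⟩ => 0
  | ⟨3, _⟩ => 5
  | ⟨4, _⟩ => 1
  | ⟨5, _⟩ => 23
  | ⟨6, _⟩ => 2
  | ⟨7, _⟩ => 3
  | ⟨8, _⟩ => 12
  | ⟨9, _⟩ => 4
  | ⟨10, _⟩ => 11
  | ⟨11, _⟩ => 35
  | ⟨12, _⟩ => 6
  | ⟨13, _⟩ => 17
  | ⟨14, _⟩ => 7
  | ⟨15, _⟩ => 16
  | ⟨16, _⟩ => 40
  | ⟨17, _⟩ => 9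
  | ⟨18, _⟩ => 10
  | ⟨19, _⟩ => 20
  | ⟨20, _⟩ => 39
  | ⟨21, _⟩ => 22
  | ⟨22, _⟩ => 46
  | ⟨23, _⟩ => 14
  | ⟨24, _⟩ => 15
  | ⟨25, _⟩ => 26
  | ⟨26, _⟩ => 45
  | ⟨27, _⟩ => 18
  | ⟨28, _⟩ => 19
  | ⟨29, _⟩ => 21
  | ⟨30, _⟩ => 31
  | ⟨31, _⟩ => 34
  | ⟨32, _⟩ => 24
  | ⟨33, _⟩ => 25
  | ⟨34, _⟩ => 47
  | ⟨35, _⟩ => 27
  | ⟨36, _⟩ => 28
  | ⟨37, _⟩ => 29
  | ⟨38, _⟩ => 30
  | ⟨39, _⟩ => 36
  | ⟨40, _⟩ => 32
  | ⟨41, _⟩ => 33
  | ⟨42, _⟩ => 43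
  | ⟨43, _⟩ => 44
  | ⟨44, _⟩ => 57
  | ⟨45, _⟩ => 41
  | ⟨46, _⟩ => 37
  | ⟨47, _⟩ => 38
  | ⟨48, _⟩ => 49
  | ⟨49, _⟩ => 50
  | ⟨50, _⟩ => 58
  | ⟨51, _⟩ => 42
  | ⟨52, _⟩ => 48
  | ⟨53, _⟩ => 54
  | ⟨54, _⟩ => 55
  | ⟨55, _⟩ => 59
  | ⟨56, _⟩ => 53
  | ⟨57, _⟩ => 51
  | ⟨58, _⟩ => 52
  | ⟨59, _⟩ => 56
  | ⟨n+60, h⟩ => absurd h (by omega)
theorem closed_y : ∀ i : Fin 60, rep i * y = rep (nx_y i)
  | ⟨0, _⟩ => e_0_y
  | ⟨1, _⟩ => e_1_y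
  | ⟨2, _⟩ => e_2_y
  | ⟨3, _⟩ => e_3_y
  | ⟨4, _⟩ => e_4_y
  | ⟨5, _⟩ => e_5_y
  | ⟨6, _⟩ => e_6_y
  | ⟨7, _⟩ => e_7_y
  | ⟨8, _⟩ => e_8_y
  | ⟨9, _⟩ => e_9_y
  | ⟨10, _⟩ => e_10_y
  | ⟨11, _⟩ => e_11_y
  | ⟨12, _⟩ => e_12_y
  | ⟨13, _⟩ => e_13_y
  | ⟨14, _⟩ => e_14_y
  | ⟨15, _⟩ => e_15_y
  | ⟨16, _⟩ => e_16_y
  | ⟨17, _⟩ => e_17_y
  | ⟨18, _⟩ => e_18_y
  | ⟨19, _⟩ => e_19_y
  | ⟨20, _⟩ => e_20_y
  | ⟨21, _⟩ => e_21_y
  | ⟨22, _⟩ => e_22_y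
  | ⟨23, _⟩ => e_23_y
  | ⟨24, _⟩ => e_24_y
  | ⟨25, _⟩ => e_25_y
  | ⟨26, _⟩ => e_26_y
  | ⟨27, _⟩ => e_27_y
  | ⟨28, _⟩ => e_28_y
  | ⟨29, _⟩ => e_29_y
  | ⟨30, _⟩ => e_30_y
  | ⟨31, _⟩ => e_31_y
  | ⟨32, _⟩ => e_32_y
  | ⟨33, _⟩ => e_33_y
  | ⟨34, _⟩ => e_34_y
  | ⟨35, _⟩ => e_35_y
  | ⟨36, _⟩ => e_36_y
  | ⟨37, _⟩ => e_37_y
  | ⟨38, _⟩ => e_38_y
  | ⟨39, _⟩ => e_39_y
  | ⟨40, _⟩ => e_40_y
  | ⟨41, _⟩ => e_41_y
  | ⟨42, _⟩ => e_42_y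
  | ⟨43, _⟩ => e_43_y
  | ⟨44, _⟩ => e_44_y
  | ⟨45, _⟩ => e_45_y
  | ⟨46, _⟩ => e_46_y
  | ⟨47, _⟩ => e_47_y
  | ⟨48, _⟩ => e_48_y
  | ⟨49, _⟩ => e_49_y
  | ⟨50, _⟩ => e_50_y
  | ⟨51, _⟩ => e_51_y
  | ⟨52, _⟩ => e_52_y
  | ⟨53, _⟩ => e_53_y
  | ⟨54, _⟩ => e_54_y
  | ⟨55, _⟩ => e_55_y
  | ⟨56, _⟩ => e_56_y
  | ⟨57, _⟩ => e_57_y
  | ⟨58, _⟩ => e_58_y
  | ⟨59, _⟩ => e_59_y
  | ⟨n+60, h⟩ => absurd h (by omega)
theorem pre_y : ∀ i : Fin 60, rep (px_y i) * y = rep i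
  | ⟨0, _⟩ => e_8_y
  | ⟨1, _⟩ => e_13_y
  | ⟨2, _⟩ => e_0_y
  | ⟨3, _⟩ => e_5_y
  | ⟨4, _⟩ => e_1_y
  | ⟨5, _⟩ => e_23_y
  | ⟨6, _⟩ => e_2_y
  | ⟨7, _⟩ => e_3_y
  | ⟨8, _⟩ => e_12_y
  | ⟨9, _⟩ => e_4_y
  | ⟨10, _⟩ => e_11_y
  | ⟨11, _⟩ => e_35_y
  | ⟨12, _⟩ => e_6_y
  | ⟨13, _⟩ => e_17_y
  | ⟨14, _⟩ => e_7_y
  | ⟨15, _⟩ => e_16_y
  | ⟨16, _⟩ => e_40_y
  | ⟨17, _⟩ => e_9_y
  | ⟨18, _⟩ => e_10_y
  | ⟨19, _⟩ => e_20_y
  | ⟨20, _⟩ => e_39_y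
  | ⟨21, _⟩ => e_22_y
  | ⟨22, _⟩ => e_46_y
  | ⟨23, _⟩ => e_14_y
  | ⟨24, _⟩ => e_15_y
  | ⟨25, _⟩ => e_26_y
  | ⟨26, _⟩ => e_45_y
  | ⟨27, _⟩ => e_18_y
  | ⟨28, _⟩ => e_19_y
  | ⟨29, _⟩ => e_21_y
  | ⟨30, _⟩ => e_31_y
  | ⟨31, _⟩ => e_34_y
  | ⟨32, _⟩ => e_24_y
  | ⟨33, _⟩ => e_25_y
  | ⟨34, _⟩ => e_47_y
  | ⟨35, _⟩ => e_27_y
  | ⟨36, _⟩ => e_28_y
  | ⟨37, _⟩ => e_29_y
  | ⟨38, _⟩ => e_30_y
  | ⟨39, _⟩ => e_36_y
  | ⟨40, _⟩ => e_32_y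
  | ⟨41, _⟩ => e_33_y
  | ⟨42, _⟩ => e_43_y
  | ⟨43, _⟩ => e_44_y
  | ⟨44, _⟩ => e_57_y
  | ⟨45, _⟩ => e_41_y
  | ⟨46, _⟩ => e_37_y
  | ⟨47, _⟩ => e_38_y
  | ⟨48, _⟩ => e_49_y
  | ⟨49, _⟩ => e_50_y
  | ⟨50, _⟩ => e_58_y
  | ⟨51, _⟩ => e_42_y
  | ⟨52, _⟩ => e_48_y
  | ⟨53, _⟩ => e_54_y
  | ⟨54, _⟩ => e_55_y
  | ⟨55, _⟩ => e_59_y
  | ⟨56, _⟩ => e_53_y
  | ⟨57, _⟩ => e_51_y
  | ⟨58, _⟩ => e_52_y
  | ⟨59, _⟩ => e_56_y
  | ⟨n+60, h⟩ => absurd h (by omega)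
theorem rep_surj : Function.Surjective rep := by
  let H : Subgroup P :=
    { carrier := {p | ∀ s : P, s ∈ Set.range rep ↔ s * p ∈ Set.range rep}
      mul_mem' := by
        intro a b ha hb s
        rw [ha s, hb (s * a), mul_assoc]
      one_mem' := by intro s; rw [mul_one]
      inv_mem' := by
        intro a ha s
        rw [ha (s * a⁻¹), inv_mul_cancel_right] }
  have hgen : ∀ j : Fin 2, (PresentedGroup.of j : P) ∈ H := by
    intro j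
    fin_cases j
    · intro s
      constructor
      · rintro ⟨i, rfl⟩
        exact ⟨nx_x i, (closed_x i).symm⟩
      · rintro ⟨i, hi⟩
        refine ⟨px_x i, ?_⟩
        have := pre_x i
        rw [hi] at this
        exact mul_right_cancel this
    · intro s
      constructor
      · rintro ⟨i, rfl⟩
        exact ⟨nx_y i, (closed_y i).symm⟩
      · rintro ⟨i, hi⟩
        refine ⟨px_y i, ?_⟩
        have := pre_y i
        rw [hi] at this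
        exact mul_right_cancel this
  intro p
  have hp : p ∈ H := PresentedGroup.generated_by rels H hgen p
  have h1 : (1 : P) * p ∈ Set.range rep := (hp 1).mp ⟨0, rfl⟩
  rw [one_mul] at h1
  exact h1

def ga : alternatingGroup (Fin 5) :=
  ⟨Equiv.swap 0 3 * Equiv.swap 3 1, Equiv.Perm.mem_alternatingGroup.mpr (by
    rw [Equiv.Perm.sign_mul, Equiv.Perm.sign_swap (by decide), Equiv.Perm.sign_swap (by decide)]
    rfl)⟩

def gb : alternatingGroup (Fin 5) :=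
  ⟨Equiv.swap 0 1 * Equiv.swap 1 2 * Equiv.swap 2 3 * Equiv.swap 3 4,
    Equiv.Perm.mem_alternatingGroup.mpr (by
    rw [Equiv.Perm.sign_mul, Equiv.Perm.sign_mul, Equiv.Perm.sign_mul,
      Equiv.Perm.sign_swap (by decide), Equiv.Perm.sign_swap (by decide),
      Equiv.Perm.sign_swap (by decide), Equiv.Perm.sign_swap (by decide)]
    rfl)⟩

theorem card_A5 : Nat.card (alternatingGroup (Fin 5)) = 60 := by
  rw [nat_card_alternatingGroup, Nat.card_fin]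
  rfl

theorem lift_rel : ∀ r ∈ rels, FreeGroup.lift ![ga, gb] r = 1 := by
  intro r hr
  simp only [rels, Set.mem_insert_iff, Set.mem_singleton_iff] at hr
  rcases hr with rfl | rfl | rfl
  · simp only [map_pow, FreeGroup.lift_apply_of]
    decide
  · simp only [map_pow, FreeGroup.lift_apply_of]
    decide
  · simp only [map_pow, map_mul, FreeGroup.lift_apply_of]
    decide

noncomputable def φ : P →* alternatingGroup (Fin 5) := PresentedGroup.toGroup lift_rel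

theorem φ_surj : Function.Surjective φ := by
  rw [← MonoidHom.range_eq_top]
  have hcard : Nat.card (alternatingGroup (Fin 5)) = 60 := card_A5
  have ha : ga ∈ φ.range := ⟨x, by simp [φ, x]⟩
  have hb : gb ∈ φ.range := ⟨y, by simp [φ, y]⟩
  have hab : ga * gb ∈ φ.range := Subgroup.mul_mem _ ha hb
  have : Fact (Nat.Prime 5) := ⟨by norm_num⟩
  have o3 : orderOf ga = 3 := orderOf_eq_prime (by decide) (by decide)
  have o5 : orderOf gb = 5 := orderOf_eq_prime (by decide) (by decide)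
  have o2 : orderOf (ga * gb) = 2 := orderOf_eq_prime (by decide) (by decide)
  have d3 : 3 ∣ Nat.card φ.range := by
    have := orderOf_dvd_natCard (⟨ga, ha⟩ : φ.range)
    rwa [Subgroup.orderOf_mk, o3] at this
  have d5 : 5 ∣ Nat.card φ.range := by
    have := orderOf_dvd_natCard (⟨gb, hb⟩ : φ.range)
    rwa [Subgroup.orderOf_mk, o5] at this
  have d2 : 2 ∣ Nat.card φ.range := by
    have := orderOf_dvd_natCard (⟨ga * gb, hab⟩ : φ.range)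
    rwa [Subgroup.orderOf_mk, o2] at this
  have hmul := φ.range.index_mul_card
  rw [hcard] at hmul
  have d30 : 30 ∣ Nat.card φ.range := by
    have h6 : 6 ∣ Nat.card φ.range := Nat.Coprime.mul_dvd_of_dvd_of_dvd (by norm_num) d2 d3
    exact Nat.Coprime.mul_dvd_of_dvd_of_dvd (by norm_num) h6 d5
  obtain ⟨k, hk⟩ := d30
  have hidx : φ.range.index = 1 ∨ φ.range.index = 2 := by
    rw [hk] at hmul
    have hk0 : 0 < k := by
      rcases Nat.eq_zero_or_pos k with h | h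
      · rw [h] at hmul; omega
      · exact h
    have : φ.range.index * k = 2 := by nlinarith
    have h1 : φ.range.index ∣ 2 := Dvd.intro _ this
    have h2 := Nat.le_of_dvd (by norm_num) h1
    have h3 : φ.range.index ≠ 0 := by
      intro h; rw [h] at this; omega
    omega
  rcases hidx with h | h
  · exact Subgroup.index_eq_one.mp h
  · have hn : φ.range.Normal := Subgroup.normal_of_index_eq_two h
    rcases hn.eq_bot_or_eq_top with h' | h'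
    · rw [h', Subgroup.card_bot] at d3
      omega
    · exact h'

/-- The alternating group of degree 5 has the presentation ⟨x, y | x³ = 1, y⁵ = 1, (xy)² = 1⟩: the group so presented is isomorphic to Alt(5). -/
theorem result :
    Nonempty (PresentedGroup ({FreeGroup.of (0 : Fin 2) ^ 3, FreeGroup.of (1 : Fin 2) ^ 5,
        (FreeGroup.of (0 : Fin 2) * FreeGroup.of 1) ^ 2} : Set (FreeGroup (Fin 2))) ≃* alternatingGroup (Fin 5)) := by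
  have hcard : Nat.card (alternatingGroup (Fin 5)) = 60 := card_A5
  have hfin : Finite P := Finite.of_surjective rep rep_surj
  have h1 : Nat.card P ≤ 60 := by
    have := Nat.card_le_card_of_surjective rep rep_surj
    simpa using this
  have h2 : 60 ≤ Nat.card P := by
    have := Nat.card_le_card_of_surjective φ φ_surj
    rwa [hcard] at this
  have hbij : Function.Bijective φ :=
    (Nat.bijective_iff_surjective_and_card φ).mpr ⟨φ_surj, by rw [hcard]; omega⟩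
  exact ⟨MulEquiv.ofBijective φ hbij⟩

end Cfsg.Agent.S3377
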