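import Cfsg.Statements.S0804
import Cfsg.Agent.Lib.Helper14.Tri
import Cfsg.Agent.Lib.Helper5.SL2Card
import Cfsg.Agent.Lib.Helper42.SL2Even
import Cfsg.Agent.S3377

set_option autoImplicit false
open Cfsg

namespace Cfsg.Agent.S0804

open Cfsg.Agent.Lib.Helper14.Tri Cfsg.Agent.Lib.Helper59.PSL2Spec

/-- an injective homomorphism from `A₅` given a non-trivial triangle triple `(3, 5, 2)` -/
theorem exists_A5 {G : Type*} [Group G] (x y : G) (hx : x ^ 3 = 1) (hy : y ^ 5 = 1)
    (hxy : (x * y) ^ 2 = 1) (hne : y ≠ 1) :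
    ∃ H : Subgroup G, Nonempty (H ≃* alternatingGroup (Fin 5)) := by
  obtain ⟨e⟩ := Cfsg.Agent.S3377.result
  have hrel : ∀ r ∈ ({FreeGroup.of (0 : Fin 2) ^ 3, FreeGroup.of (1 : Fin 2) ^ 5,
      (FreeGroup.of (0 : Fin 2) * FreeGroup.of 1) ^ 2} : Set (FreeGroup (Fin 2))),
      FreeGroup.lift ![x, y] r = 1 := by
    intro r hr
    simp only [Set.mem_insert_iff, Set.mem_singleton_iff] at hr
    rcases hr with rfl | rfl | rfl
    · simpa using hx
    · simpa using hy
    · simpa using hxy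
  let ψ := PresentedGroup.toGroup hrel
  let φ : alternatingGroup (Fin 5) →* G := ψ.comp e.symm.toMonoidHom
  have hsimple : IsSimpleGroup (alternatingGroup (Fin 5)) := alternatingGroup.isSimpleGroup_five
  have hinj : Function.Injective φ := by
    rw [← MonoidHom.ker_eq_bot_iff]
    rcases (MonoidHom.normal_ker φ).eq_bot_or_eq_top with h | h
    · exact h
    · exfalso
      apply hne
      have h1 : e (PresentedGroup.of 1) ∈ φ.ker := by rw [h]; trivial
      rw [MonoidHom.mem_ker] at h1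
      have h2 : φ (e (PresentedGroup.of 1)) = y := by
        simp [φ, ψ]
      rw [← h2, h1]
  exact ⟨φ.range, ⟨(MonoidHom.ofInjective hinj).symm⟩⟩


/-- PSL_2(q) has a subgroup isomorphic to A_5 iff 5 ∣ q(q² − 1). -/
theorem result {F : Type*} [Field F] [Fintype F] {q : ℕ} (hF : Fintype.card F = q) : (∃ H : Subgroup (Matrix.ProjectiveSpecialLinearGroup (Fin 2) F), Nonempty (H ≃* alternatingGroup (Fin 5))) ↔ 5 ∣ q * (q ^ 2 - 1) := by
  classical
  have hSL := Cfsg.Agent.Lib.Helper5.SL2Card.card_SL_two hF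
  have hPSL := Cfsg.Agent.Lib.Helper5.SL2Card.card_PSL_two hF
  constructor
  · rintro ⟨H, ⟨e⟩⟩
    have h60 : Nat.card H = 60 := by
      rw [Nat.card_congr e.toEquiv, Cfsg.Agent.S3377.card_A5]
    have hdvd : Nat.card H ∣ Nat.card (Matrix.ProjectiveSpecialLinearGroup (Fin 2) F) :=
      Subgroup.card_subgroup_dvd_card H
    rw [h60] at hdvd
    rw [← hPSL]
    exact Dvd.dvd.mul_right (dvd_trans (by norm_num) hdvd) _
  · intro h5
    rw [← hSL] at h5
    obtain ⟨τ, hτ⟩ := exists_tau5 h5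
    have hconic : ∃ a b : F, a ^ 2 - τ * a + b ^ 2 - b + 1 = 0 := by
      rcases Nat.even_or_odd (Fintype.card F) with he | ho
      · have hc : CharP F 2 := Cfsg.Agent.Lib.Helper42.SL2Even.charP_two_of_even he.two_dvd
        have h2 : (2 : F) = 0 := CharTwo.two_eq_zero
        exact ⟨0, τ, by linear_combination hτ + (1 - τ) * h2⟩
      · exact exists_conic (Nat.odd_iff.mp ho) τ
    obtain ⟨a, b, hab⟩ := hconic
    refine exists_A5 (QuotientGroup.mk (X a b τ hab)) (QuotientGroup.mk (Y a b τ hab))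
      (mk_X_pow a b τ hab) (mk_Y_pow a b τ hab 5 ?_) (mk_XY_pow a b τ hab) (mk_Y_ne_one a b τ hab)
    rw [lucas_five, hτ, zero_mul]


end Cfsg.Agent.S0804
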