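import Cfsg.Statements.S0680
import Mathlib

set_option autoImplicit false
open Cfsg

namespace Cfsg.Agent.S0680

/-- abstract lemma: a finite set `N` of size at most `|ι|` containing all products `t i * t j`
of an injective family of elements of square one is closed under the group operations and
commutative. -/
lemma lemS {G ι : Type*} [Group G] [Fintype ι] [Nonempty ι] (N : Set G) (hNfin : N.Finite)
    (hN : N.ncard ≤ Fintype.card ι)
    (t : ι → G) (ht : Function.Injective t) (ht2 : ∀ i, t i * t i = 1)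
    (htN : ∀ i j, t i * t j ∈ N) :
    (1 : G) ∈ N ∧ (∀ x ∈ N, ∀ y ∈ N, x * y ∈ N) ∧ (∀ x ∈ N, x⁻¹ ∈ N) ∧
      (∀ x ∈ N, ∀ y ∈ N, x * y = y * x) := by
  have hrange : ∀ i, Set.range (fun j => t i * t j) = N := by
    intro i
    apply Set.eq_of_subset_of_ncard_le
    · rintro _ ⟨j, rfl⟩; exact htN i j
    · have hinj : Function.Injective (fun j => t i * t j) := by
        intro j j' h
        exact ht (mul_left_cancel h)
      rw [← Set.image_univ, Set.ncard_image_of_injective _ hinj, Set.ncard_univ,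
        Nat.card_eq_fintype_card]
      exact hN
    · exact hNfin
  have hrep : ∀ i, ∀ x ∈ N, ∃ j, x = t i * t j := by
    intro i x hx
    rw [← hrange i] at hx
    obtain ⟨j, hj⟩ := hx
    exact ⟨j, hj.symm⟩
  have hinv : ∀ i, (t i)⁻¹ = t i := fun i => inv_eq_of_mul_eq_one_right (ht2 i)
  obtain ⟨i₀⟩ := ‹Nonempty ι›
  have h1 : (1 : G) ∈ N := by rw [← ht2 i₀]; exact htN i₀ i₀
  have hmul : ∀ x ∈ N, ∀ y ∈ N, x * y ∈ N := by
    intro x hx y hy
    obtain ⟨j, rfl⟩ := hrep i₀ x hx
    obtain ⟨k, rfl⟩ := hrep j y hy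
    have h3 : t i₀ * t j * (t j * t k) = t i₀ * t k := by
      rw [mul_assoc, ← mul_assoc (t j), ht2, one_mul]
    rw [h3]; exact htN i₀ k
  have hinvN : ∀ x ∈ N, x⁻¹ ∈ N := by
    intro x hx
    obtain ⟨j, rfl⟩ := hrep i₀ x hx
    rw [mul_inv_rev, hinv j, hinv i₀]; exact htN j i₀
  have hconj : ∀ x ∈ N, t i₀ * x * (t i₀)⁻¹ = x⁻¹ := by
    intro x hx
    obtain ⟨j, rfl⟩ := hrep i₀ x hx
    rw [mul_inv_rev, hinv j, hinv i₀, ← mul_assoc, ht2, one_mul]
  refine ⟨h1, hmul, hinvN, ?_⟩
  intro x hx y hy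
  have h3 := hconj (x * y) (hmul x hx y hy)
  have h4 : t i₀ * (x * y) * (t i₀)⁻¹ = (t i₀ * x * (t i₀)⁻¹) * (t i₀ * y * (t i₀)⁻¹) := by
    group
  rw [h4, hconj x hx, hconj y hy, mul_inv_rev] at h3
  have h5 := congrArg (fun z => z⁻¹) h3
  simp only [mul_inv_rev, inv_inv] at h5
  exact h5.symm

section
variable {G α : Type*} [Group G] [MulAction G α]

lemma uniq (H2 : ∀ (g : G) (a b : α), a ≠ b → g • a = a → g • b = b → g = 1)
    (g h : G) (a b : α) (hab : a ≠ b) (ha : g • a = h • a) (hb : g • b = h • b) : g = h := by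
  have h1 : h⁻¹ * g = 1 := by
    apply H2 (h⁻¹ * g) a b hab
    · rw [mul_smul, ha, inv_smul_smul]
    · rw [mul_smul, hb, inv_smul_smul]
  exact (inv_mul_eq_one.mp h1).symm

lemma prod_fpf (H2 : ∀ (g : G) (a b : α), a ≠ b → g • a = a → g • b = b → g = 1)
    (s t : G) (hs : s * s = 1) (ht : t * t = 1) (hne : s ≠ t)
    (hno : ∀ c : α, ¬ (s • c = c ∧ t • c = c)) : ∀ c : α, (s * t) • c ≠ c := by
  intro c hc
  rw [mul_smul] at hc
  have hsinv : s⁻¹ = s := inv_eq_of_mul_eq_one_right hs
  have h1 : t • c = s • c := by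
    have h0 := congrArg (fun x => s⁻¹ • x) hc
    simp only [inv_smul_smul] at h0
    rw [h0, hsinv]
  by_cases hdc : t • c = c
  · exact hno c ⟨by rw [← h1, hdc], hdc⟩
  · apply hne
    apply uniq H2 s t c (t • c) (Ne.symm hdc) h1.symm
    have e1 : s • (t • c) = c := by rw [h1, ← mul_smul, hs, one_smul]
    have e2 : t • (t • c) = c := by rw [← mul_smul, ht, one_smul]
    exact e1.trans e2.symm

theorem general [Finite G] [Fintype α]
    (H1 : ∀ a b c d : α, a ≠ b → c ≠ d → ∃ g : G, g • a = c ∧ g • b = d)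
    (H2 : ∀ (g : G) (a b : α), a ≠ b → g • a = a → g • b = b → g = 1)
    (hcardG : Nat.card G = Fintype.card α * (Fintype.card α - 1))
    (h2 : 2 ≤ Fintype.card α) :
    ∃ p j : ℕ, p.Prime ∧ 1 ≤ j ∧ Fintype.card α = p ^ j ∧
      ∀ (_ : Fact p.Prime) (P : Sylow p G),
        (P : Subgroup G).Normal ∧ IsMulCommutative (P : Subgroup G) ∧
        (∀ x ∈ (P : Subgroup G), x ^ p = 1) ∧
        MulAction.IsPretransitive (P : Subgroup G) α ∧
        (∀ a : α, MulAction.stabilizer (P : Subgroup G) a = ⊥) ∧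
        ∀ g : G, g ∈ (P : Subgroup G) ↔ g = 1 ∨ ∀ a : α, g • a ≠ a := by
  classical
  have hne : Nonempty α := by
    rw [← Fintype.card_pos_iff]; omega
  obtain ⟨o⟩ := hne
  have htrans : ∀ a b : α, ∃ g : G, g • a = b := by
    intro a b
    by_cases hab : a = b
    · exact ⟨1, by rw [one_smul, hab]⟩
    · obtain ⟨g, hg, -⟩ := H1 a b b a hab (Ne.symm hab)
      exact ⟨g, hg⟩
  letI : Fintype G := Fintype.ofFinite G
  set Nf : Finset G := Finset.univ.filter (fun g : G => g = 1 ∨ ∀ a : α, g • a ≠ a) with hNf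
  have hmemNf : ∀ g : G, g ∈ Nf ↔ g = 1 ∨ ∀ a : α, g • a ≠ a := by
    intro g
    rw [hNf, Finset.mem_filter]
    exact ⟨fun h => h.2, fun h => ⟨Finset.mem_univ _, h⟩⟩
  -- counting via Burnside
  have hNcard : Nf.card = Fintype.card α := by
    have hB := MulAction.sum_card_fixedBy_eq_card_orbits_mul_card_group G α
    have hΩ : Fintype.card (MulAction.orbitRel.Quotient G α) = 1 := by
      rw [Fintype.card_eq_one_iff]
      refine ⟨Quotient.mk'' o, ?_⟩
      intro q
      induction q using Quotient.inductionOn' with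
      | h a =>
        obtain ⟨g, hg⟩ := htrans o a
        exact Quotient.sound' ⟨g, hg⟩
    rw [hΩ, one_mul] at hB
    have key : ∀ g : G, Fintype.card (MulAction.fixedBy α g) + (if g ∈ Nf then 1 else 0) =
        1 + (if g = 1 then Fintype.card α else 0) := by
      intro g
      by_cases hg1 : g = 1
      · have hc0 : Fintype.card (MulAction.fixedBy α g) = Fintype.card α := by
          apply Fintype.card_congr
          exact Equiv.subtypeUnivEquiv (fun a => by rw [MulAction.mem_fixedBy, hg1, one_smul])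
        rw [hc0, if_pos ((hmemNf g).mpr (Or.inl hg1)), if_pos hg1, add_comm]
      · by_cases hgN : g ∈ Nf
        · have hc1 : Fintype.card (MulAction.fixedBy α g) = 0 := by
            rw [Fintype.card_eq_zero_iff]
            constructor
            rintro ⟨a, ha⟩
            rcases (hmemNf g).mp hgN with h | h
            · exact hg1 h
            · exact h a ha
          rw [hc1, if_pos hgN, if_neg hg1]
        · have hc2 : Fintype.card (MulAction.fixedBy α g) = 1 := by
            have hg' := hgN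
            rw [hmemNf, not_or] at hg'
            obtain ⟨-, hg2⟩ := hg'
            push Not at hg2
            obtain ⟨a, ha⟩ := hg2
            rw [Fintype.card_eq_one_iff]
            refine ⟨⟨a, ha⟩, ?_⟩
            rintro ⟨b, hb⟩
            apply Subtype.ext
            by_contra hne
            exact hg1 (H2 g b a hne hb ha)
          rw [hc2, if_neg hgN, if_neg hg1]
    have hsum : ∑ g : G, (Fintype.card (MulAction.fixedBy α g) + (if g ∈ Nf then 1 else 0)) =
        ∑ g : G, (1 + (if g = 1 then Fintype.card α else 0)) :=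
      Finset.sum_congr rfl (fun g _ => key g)
    rw [Finset.sum_add_distrib, Finset.sum_add_distrib, hB] at hsum
    simp at hsum
    omega
  set N : Set G := (Nf : Set G) with hNdef
  have hmemN : ∀ g : G, g ∈ N ↔ g = 1 ∨ ∀ a : α, g • a ≠ a := by
    intro g
    rw [hNdef, Finset.mem_coe]
    exact hmemNf g
  have hNncard : N.ncard = Fintype.card α := by
    rw [hNdef, Set.ncard_coe_finset]; exact hNcard
  -- the family
  have hfam : ∃ t : α → G, Function.Injective t ∧ (∀ a, t a * t a = 1) ∧
      (∀ a b, t a * t b ∈ N) := by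
    by_cases hA : ∃ s : G, s ≠ 1 ∧ s * s = 1 ∧ ∃ c : α, s • c = c
    · obtain ⟨s, hs1, hs2, c, hsc⟩ := hA
      have hall : ∀ a : α, ∃ u : G, u ≠ 1 ∧ u * u = 1 ∧ u • a = a := by
        intro a
        obtain ⟨g, hg⟩ := htrans c a
        refine ⟨g * s * g⁻¹, ?_, ?_, ?_⟩
        · intro h
          apply hs1
          have h' : s = g⁻¹ * (g * s * g⁻¹) * g := by group
          rw [h', h]; group
        · have h' : g * s * g⁻¹ * (g * s * g⁻¹) = g * (s * s) * g⁻¹ := by group
          rw [h', hs2, mul_one, mul_inv_cancel]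
        · rw [mul_smul, mul_smul, ← hg, inv_smul_smul, hsc]
      choose t ht1 ht2 ht3 using hall
      have htinj : Function.Injective t := by
        intro a b hab
        by_contra hne
        exact ht1 a (H2 (t a) a b hne (ht3 a) (by rw [hab]; exact ht3 b))
      refine ⟨t, htinj, ht2, ?_⟩
      intro a b
      rw [hmemN]
      by_cases hab : a = b
      · rw [hab, ht2]; exact Or.inl rfl
      · right
        apply prod_fpf H2 (t a) (t b) (ht2 a) (ht2 b) (fun h => hab (htinj h))
        rintro c' ⟨h1, h2'⟩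
        have hca : c' = a := by
          by_contra hne
          exact ht1 a (H2 (t a) c' a hne h1 (ht3 a))
        have hcb : c' = b := by
          by_contra hne
          exact ht1 b (H2 (t b) c' b hne h2' (ht3 b))
        exact hab (hca.symm.trans hcb)
    · push Not at hA
      have hex : ∀ b : α, ∃ u : G, u * u = 1 ∧ u • o = b := by
        intro b
        by_cases hb : b = o
        · exact ⟨1, mul_one 1, by rw [one_smul, hb]⟩
        · obtain ⟨u, hu1, hu2⟩ := H1 o b b o (Ne.symm hb) hb
          refine ⟨u, ?_, hu1⟩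
          apply H2 (u * u) o b (Ne.symm hb)
          · rw [mul_smul, hu1, hu2]
          · rw [mul_smul, hu2, hu1]
      choose t ht2 hto using hex
      have htinj : Function.Injective t := by
        intro a b hab
        have h1 := hto a
        rw [hab, hto b] at h1
        exact h1.symm
      refine ⟨t, htinj, ht2, ?_⟩
      intro a b
      rw [hmemN]
      by_cases hab : a = b
      · rw [hab, ht2]; exact Or.inl rfl
      · right
        apply prod_fpf H2 (t a) (t b) (ht2 a) (ht2 b) (fun h => hab (htinj h))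
        rintro c' ⟨h1, h2'⟩
        by_cases hao : a = o
        · have hbo : b ≠ o := fun h => hab (hao.trans h.symm)
          have htb1 : t b ≠ 1 := by
            intro h
            have h3 := hto b
            rw [h, one_smul] at h3
            exact hbo h3.symm
          exact hA (t b) htb1 (ht2 b) c' h2'
        · have hta1 : t a ≠ 1 := by
            intro h
            have h3 := hto a
            rw [h, one_smul] at h3
            exact hao h3.symm
          exact hA (t a) hta1 (ht2 a) c' h1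
  obtain ⟨t, htinj, ht2, htN⟩ := hfam
  haveI : Nonempty α := ⟨o⟩
  obtain ⟨hN1, hNmul, hNinv, hNcomm⟩ := lemS N (Set.toFinite N) hNncard.le t htinj ht2 htN
  let Nsub : Subgroup G :=
    { carrier := N
      mul_mem' := fun {x y} hx hy => hNmul x hx y hy
      one_mem' := hN1
      inv_mem' := fun {x} hx => hNinv x hx }
  have hmemNs : ∀ g : G, g ∈ Nsub ↔ g = 1 ∨ ∀ a : α, g • a ≠ a := fun g => hmemN g
  have hNsubcard : Nat.card Nsub = Fintype.card α := by
    rw [← hNncard]; exact Nat.card_coe_set_eq N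
  have hfix : ∀ x ∈ Nsub, ∀ a : α, x • a = a → x = 1 := by
    intro x hx a ha
    rcases (hmemNs x).mp hx with h | h
    · exact h
    · exact absurd ha (h a)
  have hnormal : Nsub.Normal := by
    constructor
    intro n hn g
    rcases (hmemNs n).mp hn with h | h
    · rw [h, mul_one, mul_inv_cancel]; exact Nsub.one_mem
    · rw [hmemNs]; right
      intro a ha
      apply h (g⁻¹ • a)
      rw [mul_smul, mul_smul] at ha
      have h0 := congrArg (fun x => g⁻¹ • x) ha
      simpa only [inv_smul_smul] using h0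
  have hconj : ∀ x ∈ Nsub, ∀ y ∈ Nsub, x ≠ 1 → y ≠ 1 → ∃ g : G, g * x * g⁻¹ = y := by
    intro x hx y hy hx1 hy1
    have hxo : x • o ≠ o := fun h => hx1 (hfix x hx o h)
    have hyo : y • o ≠ o := fun h => hy1 (hfix y hy o h)
    obtain ⟨g, hgo, hgb⟩ := H1 o (x • o) o (y • o) (Ne.symm hxo) (Ne.symm hyo)
    refine ⟨g, ?_⟩
    have hz : g * x * g⁻¹ ∈ Nsub := hnormal.conj_mem x hx g
    have hzo : (g * x * g⁻¹) • o = y • o := by
      rw [mul_smul, mul_smul]
      have h0 : g⁻¹ • o = o := by rw [inv_smul_eq_iff, hgo]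
      rw [h0, hgb]
    have h1 : (g * x * g⁻¹)⁻¹ * y ∈ Nsub := Nsub.mul_mem (Nsub.inv_mem hz) hy
    have h2' : ((g * x * g⁻¹)⁻¹ * y) • o = o := by
      rw [mul_smul, ← hzo, inv_smul_smul]
    have h3 := hfix _ h1 o h2'
    exact inv_mul_eq_one.mp h3
  have hex : ∃ x₀ ∈ Nsub, x₀ ≠ 1 := by
    by_contra hcon
    push Not at hcon
    have h0 : Nsub = ⊥ := by
      rw [Subgroup.eq_bot_iff_forall]; exact hcon
    rw [h0, Subgroup.card_bot] at hNsubcard
    omega
  obtain ⟨x₀, hx₀, hx₀1⟩ := hex
  have hm1 : orderOf x₀ ≠ 1 := by rwa [Ne, orderOf_eq_one_iff]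
  set p := (orderOf x₀).minFac with hp_def
  have hp : p.Prime := Nat.minFac_prime hm1
  have hpm : p ∣ orderOf x₀ := Nat.minFac_dvd _
  have hy₀o : orderOf (x₀ ^ (orderOf x₀ / p)) = p :=
    orderOf_pow_orderOf_div (orderOf_pos x₀).ne' hpm
  have hy₀ : x₀ ^ (orderOf x₀ / p) ∈ Nsub := Nsub.pow_mem hx₀ _
  have hy₀1 : x₀ ^ (orderOf x₀ / p) ≠ 1 := by
    intro h
    rw [h, orderOf_one] at hy₀o
    exact hp.ne_one hy₀o.symm
  have hexp : ∀ x ∈ Nsub, x ^ p = 1 := by
    intro x hx
    by_cases hx1 : x = 1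
    · rw [hx1, one_pow]
    · obtain ⟨g, hg⟩ := hconj _ hy₀ x hx hy₀1 hx1
      have h0 : (x₀ ^ (orderOf x₀ / p)) ^ p = 1 := by
        rw [← orderOf_dvd_iff_pow_eq_one, hy₀o]
      rw [← hg, conj_pow, h0, mul_one, mul_inv_cancel]
  have hNp : IsPGroup p Nsub := by
    intro x
    refine ⟨1, ?_⟩
    rw [pow_one]
    exact Subtype.ext (hexp x.1 x.2)
  haveI hpF0 : Fact p.Prime := ⟨hp⟩
  obtain ⟨j, hj⟩ := hNp.exists_card_eq
  rw [hNsubcard] at hj
  have hj1 : 1 ≤ j := by
    by_contra hcon
    have h0 : j = 0 := by omega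
    rw [h0, pow_zero] at hj
    omega
  refine ⟨p, j, hp, hj1, hj, ?_⟩
  intro hpF P
  haveI := hnormal
  have hPN : (P : Subgroup G) = Nsub := by
    have hle : Nsub ≤ (P : Subgroup G) := hNp.le_sylow_of_normal P
    apply (Subgroup.eq_of_le_of_card_ge hle ?_).symm
    obtain ⟨k, hk⟩ := P.2.exists_card_eq
    have hdvd : p ^ k ∣ Fintype.card α * (Fintype.card α - 1) := by
      rw [← hk, ← hcardG]; exact Subgroup.card_subgroup_dvd_card _
    have hcop : Nat.Coprime (p ^ k) (Fintype.card α - 1) := by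
      apply Nat.Coprime.pow_left
      rw [Nat.Prime.coprime_iff_not_dvd hp]
      intro hd
      have hpn : p ∣ Fintype.card α := by rw [hj]; exact dvd_pow_self p (by omega)
      have h3 := Nat.dvd_sub hpn hd
      have h4 : Fintype.card α - (Fintype.card α - 1) = 1 := by omega
      rw [h4] at h3
      exact hp.one_lt.ne' (Nat.dvd_one.mp h3)
    have h5 : p ^ k ∣ Fintype.card α := hcop.dvd_of_dvd_mul_right hdvd
    rw [hk, hNsubcard]
    exact Nat.le_of_dvd (by omega) h5
  rw [hPN]
  refine ⟨hnormal, ⟨⟨fun x y => Subtype.ext (hNcomm x.1 x.2 y.1 y.2)⟩⟩, hexp, ?_, ?_, hmemNs⟩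
  · constructor
    intro a b
    have hinj : Function.Injective (fun x : Nsub => (x : G) • a) := by
      intro x y hxy
      have hxy' : (x : G) • a = (y : G) • a := hxy
      have h1 : ((y : G)⁻¹ * x) • a = a := by
        rw [mul_smul, hxy', inv_smul_smul]
      have h3 := hfix _ (Nsub.mul_mem (Nsub.inv_mem y.2) x.2) a h1
      exact Subtype.ext (inv_mul_eq_one.mp h3).symm
    have hbij := hinj.bijective_of_nat_card_le (by rw [hNsubcard, Nat.card_eq_fintype_card])
    obtain ⟨x, hx⟩ := hbij.2 b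
    exact ⟨x, hx⟩
  · intro a
    rw [Subgroup.eq_bot_iff_forall]
    intro x hx
    rw [MulAction.mem_stabilizer_iff] at hx
    exact Subtype.ext (hfix x.1 x.2 a hx)

end

theorem result {α : Type*} [Fintype α] [DecidableEq α] (G : Subgroup (Equiv.Perm α)) [MulAction.IsMultiplyPretransitive G α 2] (hsharp : ∀ x : Fin 2 ↪ α, MulAction.stabilizer G x = ⊥) (h2 : 2 ≤ Fintype.card α) : ∃ p j : ℕ, p.Prime ∧ 1 ≤ j ∧ Fintype.card α = p ^ j ∧ ∀ (hp : Fact p.Prime) (P : Sylow p G), (P : Subgroup G).Normal ∧ IsMulCommutative (P : Subgroup G) ∧ (∀ x ∈ (P : Subgroup G), x ^ p = 1) ∧ MulAction.IsPretransitive (P : Subgroup G) α ∧ (∀ a : α, MulAction.stabilizer (P : Subgroup G) a = ⊥) ∧ ∀ g : G, g ∈ (P : Subgroup G) ↔ g = 1 ∨ ∀ a : α, g • a ≠ a := by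
  have H1 : ∀ a b c d : α, a ≠ b → c ≠ d → ∃ g : G, g • a = c ∧ g • b = d := by
    intro a b c d hab hcd
    exact (MulAction.is_two_pretransitive_iff.mp inferInstance) hab hcd
  have H2 : ∀ (g : G) (a b : α), a ≠ b → g • a = a → g • b = b → g = 1 := by
    intro g a b hab ha hb
    have hmem : g ∈ MulAction.stabilizer G (Function.Embedding.embFinTwo hab) := by
      rw [MulAction.mem_stabilizer_iff]
      ext i
      change g • (Function.Embedding.embFinTwo hab i) = Function.Embedding.embFinTwo hab i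
      fin_cases i
      · exact ha
      · exact hb
    rw [hsharp] at hmem
    exact Subgroup.mem_bot.mp hmem
  have hcardG : Nat.card G = Fintype.card α * (Fintype.card α - 1) := by
    obtain ⟨a, b, hab⟩ := Fintype.one_lt_card_iff.mp (by omega : 1 < Fintype.card α)
    have h1 := MulAction.index_stabilizer G (Function.Embedding.embFinTwo hab)
    have horb : MulAction.orbit G (Function.Embedding.embFinTwo hab) = Set.univ := by
      ext y
      simp only [Set.mem_univ, iff_true]
      obtain ⟨g, hg⟩ := (‹MulAction.IsMultiplyPretransitive G α 2›).exists_smul_eq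
        (Function.Embedding.embFinTwo hab) y
      exact ⟨g, hg⟩
    rw [hsharp, Subgroup.index_bot] at h1
    change _ = (MulAction.orbit G (Function.Embedding.embFinTwo hab)).ncard at h1
    rw [horb, Set.ncard_univ,
      Nat.card_eq_fintype_card (α := Fin 2 ↪ α), Fintype.card_embedding_eq,
      Fintype.card_fin] at h1
    rw [h1, show (2 : ℕ) = 1 + 1 from rfl, Nat.descFactorial_succ, Nat.descFactorial_one,
      mul_comm]
  exact general H1 H2 hcardG h2

end Cfsg.Agent.S0680
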