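import Mathlib
import Cfsg.Statements.S0727
import Cfsg.Agent.Lib.Helper52.S3TPerm

set_option autoImplicit false
open Cfsg

namespace Cfsg.Agent.S0727

open Cfsg.Agent.Lib.Helper52

/-- A sharply triply transitive permutation group of degree `2^f + 1` is isomorphic to the projective general linear group of degree 2 over the field with `2^f` elements. -/
theorem result {α : Type*} [Fintype α] [DecidableEq α] {f : ℕ} (hf : 1 ≤ f) (hα : Fintype.card α = 2 ^ f + 1) (G : Subgroup (Equiv.Perm α)) (h3 : MulAction.IsMultiplyPretransitive G α 3) (hsharp : ∀ x : Fin 3 ↪ α, MulAction.stabilizer G x = ⊥) : ∃ (F : Type) (_ : Field F) (_ : Fintype F), Fintype.card F = 2 ^ f ∧ Nonempty (G ≃* Matrix.ProjGenLinGroup (Fin 2) F) := by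
  have hfix' : ∀ (g : G) (x y z : α), x ≠ y → x ≠ z → y ≠ z → g • x = x → g • y = y →
      g • z = z → g = 1 := by
    intro g x y z hxy hxz hyz hx hy hz
    have hmem : g ∈ MulAction.stabilizer G (S3TPerm.emb3 x y z hxy hxz hyz) := by
      rw [MulAction.mem_stabilizer_iff]
      apply DFunLike.ext
      intro i
      fin_cases i
      · exact hx
      · exact hy
      · exact hz
    rw [hsharp, Subgroup.mem_bot] at hmem
    exact hmem
  have hcardα : Nat.card α = Fintype.card α := Nat.card_eq_fintype_card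
  have h2f : 2 ≤ 2 ^ f := by
    calc 2 = 2 ^ 1 := (pow_one 2).symm
      _ ≤ 2 ^ f := Nat.pow_le_pow_right (by norm_num) hf
  have hoddα : Odd (Nat.card α) := by
    rw [hcardα, hα]
    exact Even.add_one (Nat.even_pow.2 ⟨even_two, by omega⟩)
  obtain ⟨C⟩ := S3TPerm.exists_config (G := G) (Ω := α)
    (S3TPerm.three_trans_of_pretransitive h3) hfix' hoddα (by rw [hcardα, hα]; omega)
  obtain ⟨F, hF1, hF2, -, hc2, hiso⟩ := S3TField.exists_field_type0 C
  refine ⟨F, hF1, hF2, ?_, hiso⟩
  rw [← Nat.card_eq_fintype_card]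
  rw [hcardα, hα] at hc2
  omega

end Cfsg.Agent.S0727
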