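import Cfsg.Statements.S0171
import Mathlib
import Cfsg.Agent.Lib.Helper3.Irr
import Cfsg.Agent.Lib.Helper3.ClassCount
import Cfsg.Agent.Lib.Helper3.Frob
import Cfsg.Agent.Lib.CT.NormOne
import Cfsg.Agent.Lib.CT.Ops
import Cfsg.Agent.Lib.CT.FrobRec
import Cfsg.Agent.Lib.CT.IndChar
import Cfsg.Agent.Lib.CT.Clifford

set_option autoImplicit false
open Cfsg

namespace Cfsg.Agent.S0171

open Cfsg.Agent.Lib.Helper3.Irr Cfsg.Agent.Lib.Helper3.Frob Cfsg.Agent.Lib.CT.FrobRec
open Cfsg.Agent.Lib.CT.Clifford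

/-- In a Frobenius group, a non-principal irreducible character of the kernel is not fixed by
a non-identity element of the complement. -/
theorem conjFun_ne_of_mem_H {G : Type*} [Group G] [Finite G] (K H : Subgroup G) [hN : K.Normal]
    (hKH : K ⊓ H = ⊥) (hKH' : K ⊔ H = ⊤)
    (hfpf : ∀ h ∈ H, h ≠ 1 → ∀ k ∈ K, h * k = k * h → k = 1) (τ : K → ℂ)
    (hτ : Cfsg.IsIrrCharacter K τ) (hτ1 : τ ≠ fun _ => 1) {h : G} (hh : h ∈ H) (h1 : h ≠ 1) :
    conjFun K hN τ h ≠ τ := by
  classical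
  intro hfix
  let f : IrrCharacter K → IrrCharacter K :=
    fun χ => ⟨conjFun K hN χ h, isIrrCharacter_conjFun K hN χ.2 h⟩
  let a : K → K := fun k => ⟨h * k * h⁻¹, hN.conj_mem k k.2 h⟩
  have hcard := Cfsg.Agent.Lib.Helper3.ClassCount.card_irr_fixed_eq_card_classes f a
    (fun χ g => rfl) (fun C => C = ConjClasses.mk 1) (by
      intro g
      constructor
      · intro hg
        have hg1 : g = 1 := by
          rw [ConjClasses.mk_eq_mk_iff_isConj] at hg
          exact isConj_one_left.1 hg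
        subst hg1
        have ha : a 1 = 1 := by
          apply Subtype.ext
          simp [a]
        rw [ha]
      · intro hg
        obtain ⟨c, hc⟩ := isConj_iff.1 hg
        have e : (c : G) * g * (c : G)⁻¹ = h * g * h⁻¹ := congrArg Subtype.val hc
        have hg1 : (g : G) = 1 := eq_one_of_isConj_conj hKH hKH' hfpf hh h1 g.2 c.2 e
        have : g = 1 := Subtype.ext hg1
        rw [this])
  have h2 : Nat.card {C : ConjClasses K // C = ConjClasses.mk 1} = 1 := by
    haveI : Subsingleton {C : ConjClasses K // C = ConjClasses.mk 1} :=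
      ⟨fun x y => Subtype.ext (x.2.trans y.2.symm)⟩
    exact Nat.card_of_subsingleton ⟨ConjClasses.mk 1, rfl⟩
  rw [h2] at hcard
  obtain ⟨hsub, -⟩ := Nat.card_eq_one_iff_unique.1 hcard
  let triv : IrrCharacter K := ⟨fun _ => 1, Cfsg.Agent.Lib.CT.Ops.isIrrCharacter_one⟩
  have ht : f triv = triv := Subtype.ext rfl
  have hτf : f ⟨τ, hτ⟩ = ⟨τ, hτ⟩ := Subtype.ext hfix
  have h3 : (⟨⟨τ, hτ⟩, hτf⟩ : {χ : IrrCharacter K // f χ = χ}) = ⟨triv, ht⟩ := Subsingleton.elim _ _
  have h4 : τ = fun _ => 1 := congrArg (fun x => (x.1 : K → ℂ)) h3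
  exact hτ1 h4

theorem conjFun_of_mem {G : Type*} [Group G] (K : Subgroup G) [hN : K.Normal] (τ : K → ℂ)
    (hτ : Cfsg.IsClassFunction K τ) {k : G} (hk : k ∈ K) : conjFun K hN τ k = τ := by
  funext n
  rw [conjFun_apply]
  exact hτ n ⟨k, hk⟩

theorem conjFun_ne {G : Type*} [Group G] [Finite G] (K H : Subgroup G) [hN : K.Normal]
    (hKH : K ⊓ H = ⊥) (hKH' : K ⊔ H = ⊤)
    (hfpf : ∀ h ∈ H, h ≠ 1 → ∀ k ∈ K, h * k = k * h → k = 1) (τ : K → ℂ)
    (hτ : Cfsg.IsIrrCharacter K τ) (hτ1 : τ ≠ fun _ => 1) {x : G} (hx : x ∉ K) :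
    conjFun K hN τ x ≠ τ := by
  obtain ⟨k, hk, h, hh, rfl⟩ := exists_mul hKH' x
  have h1 : h ≠ 1 := by
    rintro rfl
    apply hx
    simpa using hk
  rw [← conjFun_conjFun, conjFun_of_mem K τ (IsIrrCharacter.isClassFunction hτ) hk]
  exact conjFun_ne_of_mem_H K H hKH hKH' hfpf τ hτ hτ1 hh h1

/-- Let G = K H with K normal, K ⊓ H trivial, and no non-identity element of H commuting with a non-identity element of K (a Frobenius group with kernel K and complement H). Then every non-principal irreducible character of K induces to an irreducible character of G. -/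
theorem result {G : Type*} [Group G] [Fintype G] (K H : Subgroup G) [K.Normal] (hKH : K ⊓ H = ⊥) (hKH' : K ⊔ H = ⊤) (hfpf : ∀ h ∈ H, h ≠ 1 → ∀ k ∈ K, h * k = k * h → k = 1) (τ : K → ℂ) (hτ : Cfsg.IsIrrCharacter K τ) (hτ1 : τ ≠ fun _ => 1) : Cfsg.IsIrrCharacter G (Cfsg.indFun K τ) := by
  classical
  have hN : K.Normal := inferInstance
  apply Cfsg.Agent.Lib.CT.NormOne.irr_of_inner_self_eq_one
    (Cfsg.Agent.Lib.CT.IndChar.isCharacter_indFun K τ (IsIrrCharacter.isCharacter hτ))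
  rw [frobenius_reciprocity K τ (indFun K τ) (indFun_isClassFunction K τ)]
  have hres : (fun k : K => indFun K τ k)
      = (Nat.card K : ℂ)⁻¹ • ∑ x : G, conjFun K hN τ x⁻¹ := by
    funext n
    rw [indFun_restrict K hN τ n, Pi.smul_apply, Finset.sum_apply, smul_eq_mul]
  rw [hres, ← Cfsg.Agent.Lib.Helper3.Irr.classInner_conj_symm,
    Cfsg.Agent.Lib.Helper3.Irr.classInner_smul_left,
    Cfsg.Agent.Lib.Helper3.Irr.classInner_sum_left]
  have hterm : ∀ x : G, classInner (conjFun K hN τ x⁻¹) τ = if x ∈ K then 1 else 0 := by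
    intro x
    by_cases hx : x ∈ K
    · rw [if_pos hx, conjFun_of_mem K τ (IsIrrCharacter.isClassFunction hτ) (K.inv_mem hx)]
      exact irr_inner_self ⟨τ, hτ⟩
    · rw [if_neg hx]
      have hx' : x⁻¹ ∉ K := fun h => hx (by simpa using K.inv_mem h)
      have hne := conjFun_ne K H hKH hKH' hfpf τ hτ hτ1 hx'
      have hne' : (⟨conjFun K hN τ x⁻¹, isIrrCharacter_conjFun K hN hτ x⁻¹⟩ : IrrCharacter K)
          ≠ ⟨τ, hτ⟩ := fun h => hne (congrArg Subtype.val h)
      exact irr_inner_ne hne'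
  simp only [hterm]
  rw [Finset.sum_boole]
  have hcard : (Finset.univ.filter (fun x : G => x ∈ K)).card = Nat.card K := by
    rw [Nat.card_eq_fintype_card, Fintype.card_subtype]
  rw [hcard]
  have hK : (Nat.card K : ℂ) ≠ 0 := by exact_mod_cast Nat.card_pos.ne'
  rw [inv_mul_cancel₀ hK, map_one]

end Cfsg.Agent.S0171
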