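import Cfsg.Statements.S0739
import Cfsg.Agent.Lib.Helper52.ZassFrob
import Cfsg.Agent.Lib.Helper52.ZInv
import Cfsg.Agent.Lib.Helper54.FpfCyclic

set_option autoImplicit false
open Cfsg

namespace Cfsg.Agent.S0739

open Cfsg.Agent.Lib.Helper52 Cfsg.Agent.Lib.Helper54
open scoped Pointwise

/-- In a finite subgroup, mapping into suffices for normalising. -/
theorem mem_normalizer_of_conj_mem {X : Type*} [Group X] (K : Subgroup X) [Finite K] (g : X)
    (h : ∀ z ∈ K, g * z * g⁻¹ ∈ K) : g ∈ Subgroup.normalizer (K : Set X) := by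
  rw [Subgroup.mem_normalizer_iff]
  intro z
  refine ⟨h z, fun hz => ?_⟩
  let φ : K → K := fun z => ⟨g * z * g⁻¹, h z z.2⟩
  have hinj : Function.Injective φ := by
    intro u v huv
    have h1 : g * u * g⁻¹ = g * v * g⁻¹ := congrArg Subtype.val huv
    have h2 : (u : X) = v := by simpa using h1
    exact Subtype.ext h2
  obtain ⟨u, hu⟩ := Finite.surjective_of_injective hinj ⟨g * z * g⁻¹, hz⟩
  have h1 : g * u * g⁻¹ = g * z * g⁻¹ := congrArg Subtype.val hu
  have h2 : (u : X) = z := by simpa using h1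
  rw [← h2]; exact u.2

section
variable {G Ω : Type*} [Group G] [MulAction G Ω]

/-- An element of odd order cannot swap two distinct points. -/
theorem no_odd_swap {a b : Ω} (hab : a ≠ b) {g : G} (hga : g • a = b) (hgb : g • b = a)
    (hodd : Odd (orderOf g)) : False := by
  have h : ∀ k : ℕ, g ^ (2 * k) • a = a ∧ g ^ (2 * k) • b = b := by
    intro k
    induction k with
    | zero => simp
    | succ k ih =>
      have e : g ^ (2 * (k + 1)) = g ^ (2 * k) * g * g := by
        rw [mul_add, mul_one, pow_add, pow_two, mul_assoc]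
      rw [e]
      refine ⟨?_, ?_⟩
      · rw [mul_smul, mul_smul, hga, hgb]; exact ih.1
      · rw [mul_smul, mul_smul, hgb, hga]; exact ih.2
  obtain ⟨k, hk⟩ := hodd
  have h1 : g ^ (2 * k + 1) • a = b := by
    rw [pow_succ, mul_smul, hga]; exact (h k).2
  rw [← hk, pow_orderOf_eq_one, one_smul] at h1
  exact hab h1

/-- An element conjugating a nontrivial element of the two-point stabiliser into it permutes the
two points. -/
theorem fix_or_swap (hZ : Cfsg.IsZassenhausGroup G Ω) {a b : Ω} (hab : a ≠ b) {x g : G}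
    (hx1 : x ≠ 1) (hxa : x • a = a) (hxb : x • b = b)
    (hga : (g * x * g⁻¹) • a = a) (hgb : (g * x * g⁻¹) • b = b) :
    (g • a = a ∧ g • b = b) ∨ (g • a = b ∧ g • b = a) := by
  have hx1' : g * x * g⁻¹ ≠ 1 := by
    intro h
    apply hx1
    have e : x = g⁻¹ * (g * x * g⁻¹) * g := by group
    rw [e, h]; group
  have key : ∀ c : Ω, (g * x * g⁻¹) • c = c → c = a ∨ c = b := by
    intro c hc
    by_contra hcon
    push Not at hcon
    exact hx1' (ZassFrob.three_fix hZ hab (Ne.symm hcon.2) (Ne.symm hcon.1) hga hgb hc)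
  have hA : g • a = a ∨ g • a = b := by
    apply key
    rw [mul_smul, mul_smul, inv_smul_smul, hxa]
  have hB : g • b = a ∨ g • b = b := by
    apply key
    rw [mul_smul, mul_smul, inv_smul_smul, hxb]
  rcases hA with hA | hA <;> rcases hB with hB | hB
  · exact absurd (smul_left_cancel g (hA.trans hB.symm)) hab
  · exact Or.inl ⟨hA, hB⟩
  · exact Or.inr ⟨hA, hB⟩
  · exact absurd (smul_left_cancel g (hA.trans hB.symm)) hab

end

section
variable {G Ω : Type*} [Group G] [Finite G] [MulAction G Ω] [Finite Ω]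

/-- The two-point stabiliser of odd order is a Z-group. -/
theorem isZGroup_H (hZ : Cfsg.IsZassenhausGroup G Ω) {a b : Ω} (hab : a ≠ b) (H : Subgroup G)
    (hH : ∀ x : G, x ∈ H ↔ x • a = a ∧ x • b = b) (hodd : Odd (Nat.card ↥H)) : IsZGroup ↥H := by
  classical
  obtain ⟨K, hK, hKtr⟩ := ZassFrob.exists_kernel hZ a
  obtain ⟨c, hca, hcb⟩ := ZassFrob.exists_third hZ a b
  have hKbot : K ≠ ⊥ := by
    intro h
    obtain ⟨k, hk, hkb⟩ := hKtr b c hab.symm hca
    rw [h, Subgroup.mem_bot] at hk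
    rw [hk, one_smul] at hkb
    exact hcb hkb.symm
  refine ⟨fun p hp P => ?_⟩
  have : Fact p.Prime := ⟨hp⟩
  by_cases hp2 : p = 2
  · subst hp2
    obtain ⟨n, hn⟩ := IsPGroup.iff_card.1 P.isPGroup'
    have hdvd : Nat.card ↥(P : Subgroup ↥H) ∣ Nat.card ↥H := Subgroup.card_subgroup_dvd_card _
    have hn0 : n = 0 := by
      by_contra h0
      have h2 : 2 ∣ Nat.card ↥(P : Subgroup ↥H) := by
        rw [hn]; exact dvd_pow_self 2 h0
      exact (Nat.not_even_iff_odd.2 hodd) (even_iff_two_dvd.2 (h2.trans hdvd))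
    rw [hn0, pow_zero] at hn
    have : Subsingleton ↥(P : Subgroup ↥H) := (Nat.card_eq_one_iff_unique.1 hn).1
    exact isCyclic_of_subsingleton
  · let f : ↥(P : Subgroup ↥H) →* G := (Subgroup.subtype H).comp (Subgroup.subtype _)
    have hUI : UniqueSubgroup.UI p ↥(P : Subgroup ↥H) := by
      apply FpfCyclic.ui_of_fpf' K hKbot P.isPGroup' f
      · intro s
        have hsa : (f s) • a = a := ((hH _).1 (s : ↥H).2).1
        exact mem_normalizer_of_conj_mem K (f s) (fun z hz => ZassFrob.conj_mem_ker hK hsa hz)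
      · intro s hs1 x hx hcomm
        have hsa : (f s) • a = a := ((hH _).1 (s : ↥H).2).1
        have hsb : (f s) • b = b := ((hH _).1 (s : ↥H).2).2
        have hfs1 : f s ≠ 1 := by
          intro h
          apply hs1
          apply Subtype.ext
          apply Subtype.ext
          exact h
        obtain ⟨hxa, hx'⟩ := (hK x).1 hx
        rcases hx' with hx' | hx'
        · exact hx'
        · exfalso
          have h1 : x • b ≠ b := hx' b hab.symm
          have h2 : x • b ≠ a := by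
            intro h
            exact hab (smul_left_cancel x (hxa.trans h.symm))
          have h3 : (f s) • (x • b) = x • b := by
            rw [← mul_smul, hcomm, mul_smul, hsb]
          exact hfs1 (ZassFrob.three_fix hZ hab (Ne.symm h1) (Ne.symm h2) hsa hsb h3)
    exact UniqueSubgroup.isCyclic_of_odd hp2 _ _ rfl P.isPGroup' hUI

omit [Finite Ω] in
/-- The key step: a Sylow subgroup of `H` central in its normaliser in `H` is inverted by a
suitable element swapping `a` and `b`. -/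
theorem star (hZ : Cfsg.IsZassenhausGroup G Ω) {a b : Ω} (hab : a ≠ b) (H : Subgroup G)
    (hH : ∀ x : G, x ∈ H ↔ x • a = a ∧ x • b = b) (hodd : Odd (Nat.card ↥H))
    (hnil : ∀ q : ℕ, q.Prime → q ∣ Nat.card ↥H →
      ¬ ∃ N : Subgroup G, N.Normal ∧ N.index = q ^ (Nat.card G).factorization q)
    (s : G) (hsa : s • a = b) (hsb : s • b = a)
    (τ : ↥H →* ↥H) (hτ : ∀ x : ↥H, ((τ x : ↥H) : G) = s * x * s⁻¹)
    (q : ℕ) [Fact q.Prime] (Q : Sylow q ↥H) [IsCyclic ↥(Q : Subgroup ↥H)]
    (hNC : Subgroup.normalizer (Q : Set ↥H) ≤ Subgroup.centralizer (Q : Set ↥H)) :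
    ∃ h : ↥H, ∀ y ∈ Q, h * τ y * h⁻¹ = y⁻¹ := by
  classical
  have hq : q.Prime := Fact.out
  by_cases hQ : (Q : Subgroup ↥H) = ⊥
  · refine ⟨1, fun y hy => ?_⟩
    have hy' : y ∈ (Q : Subgroup ↥H) := hy
    rw [hQ, Subgroup.mem_bot] at hy'
    rw [hy']; simp
  have hτinj : Function.Injective τ := by
    intro x y hxy
    have h1 : s * x * s⁻¹ = s * y * s⁻¹ := by rw [← hτ, ← hτ, hxy]
    have h2 : (x : G) = y := by simpa using h1
    exact Subtype.ext h2
  -- a nontrivial element of Q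
  obtain ⟨y0, hy0Q, hy01⟩ : ∃ y0 : ↥H, y0 ∈ (Q : Subgroup ↥H) ∧ y0 ≠ 1 := by
    by_contra hcon
    push Not at hcon
    apply hQ
    rw [eq_bot_iff]
    intro y hy
    rw [Subgroup.mem_bot]; exact hcon y hy
  have hqH : q ∣ Nat.card ↥H := by
    have h1 : orderOf y0 ∣ Nat.card ↥H := orderOf_dvd_natCard y0
    obtain ⟨k, hk⟩ := Q.isPGroup' ⟨y0, hy0Q⟩
    have h2 : y0 ^ q ^ k = 1 := by simpa using congrArg Subtype.val hk
    have h3 : orderOf y0 ∣ q ^ k := orderOf_dvd_of_pow_eq_one h2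
    obtain ⟨j, -, hj⟩ := (Nat.dvd_prime_pow hq).1 h3
    have hj0 : j ≠ 0 := by
      rintro rfl
      rw [pow_zero, orderOf_eq_one_iff] at hj
      exact hy01 hj
    have h4 : q ∣ orderOf y0 := by rw [hj]; exact dvd_pow_self q hj0
    exact h4.trans h1
  have hq2 : q ≠ 2 := by
    intro h
    rw [h] at hqH
    exact (Nat.not_even_iff_odd.2 hodd) (even_iff_two_dvd.2 hqH)
  have hqodd : Odd q := hq.odd_of_ne_two hq2
  -- Sylow conjugacy
  have hcard : Nat.card ↥((Q : Subgroup ↥H).map τ) = q ^ (Nat.card ↥H).factorization q := by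
    rw [Subgroup.card_map_of_injective hτinj]; exact Q.card_eq_multiplicity
  let Q' : Sylow q ↥H := Sylow.ofCard ((Q : Subgroup ↥H).map τ) hcard
  obtain ⟨h, hh⟩ := MulAction.exists_smul_eq ↥H Q' Q
  have hconj : ∀ y ∈ (Q : Subgroup ↥H), h * τ y * h⁻¹ ∈ (Q : Subgroup ↥H) := by
    intro y hy
    have h1 : τ y ∈ (Q' : Subgroup ↥H) := Subgroup.mem_map_of_mem τ hy
    have h2 : MulAut.conj h • τ y ∈ MulAut.conj h • (Q' : Subgroup ↥H) :=
      Subgroup.smul_mem_pointwise_smul _ _ _ h1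
    rw [← Sylow.coe_subgroup_smul, hh] at h2
    simpa [MulAut.smul_def] using h2
  have hha : (h : G) • a = a := ((hH _).1 h.2).1
  have hhb : (h : G) • b = b := ((hH _).1 h.2).2
  set s' : G := (h : G) * s with hs'
  have hs'a : s' • a = b := by rw [hs', mul_smul, hsa, hhb]
  have hs'b : s' • b = a := by rw [hs', mul_smul, hsb, hha]
  have hs'ia : s'⁻¹ • a = b := by rw [inv_smul_eq_iff, hs'b]
  have hs'ib : s'⁻¹ • b = a := by rw [inv_smul_eq_iff, hs'a]
  have hval : ∀ y : ↥H, ((h * τ y * h⁻¹ : ↥H) : G) = s' * y * s'⁻¹ := by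
    intro y
    simp only [Subgroup.coe_mul, Subgroup.coe_inv, hτ, hs']
    group
  let σ : ↥(Q : Subgroup ↥H) →* ↥(Q : Subgroup ↥H) :=
    { toFun := fun x => ⟨h * τ x * h⁻¹, hconj x x.2⟩
      map_one' := by ext; simp
      map_mul' := by intro x y; ext; simp }
  have hσval : ∀ x : ↥(Q : Subgroup ↥H), (((σ x : ↥(Q : Subgroup ↥H)) : ↥H) : G) =
      s' * ((x : ↥H) : G) * s'⁻¹ := fun x => hval x
  -- σ is an involution
  have hwH : s' * s' ∈ H := by
    rw [hH]
    exact ⟨by rw [mul_smul, hs'a, hs'b], by rw [mul_smul, hs'b, hs'a]⟩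
  have hσ2 : ∀ x : ↥(Q : Subgroup ↥H), σ (σ x) = x := by
    have hwN : (⟨s' * s', hwH⟩ : ↥H) ∈ Subgroup.normalizer (Q : Set ↥H) := by
      apply mem_normalizer_of_conj_mem (Q : Subgroup ↥H)
      intro z hz
      have e : (⟨s' * s', hwH⟩ : ↥H) * z * (⟨s' * s', hwH⟩ : ↥H)⁻¹ =
          ((σ (σ ⟨z, hz⟩) : ↥(Q : Subgroup ↥H)) : ↥H) := by
        apply Subtype.ext
        rw [hσval, hσval]
        simp only [Subgroup.coe_mul, Subgroup.coe_inv]
        group
      rw [e]
      exact (σ (σ ⟨z, hz⟩)).2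
    have hwC := hNC hwN
    rw [Subgroup.mem_centralizer_iff] at hwC
    intro x
    have h1 := hwC (x : ↥H) x.2
    have h2 : ((x : ↥H) : G) * (s' * s') = s' * s' * ((x : ↥H) : G) := congrArg Subtype.val h1
    apply Subtype.ext
    apply Subtype.ext
    rw [hσval, hσval]
    have e : s' * (s' * ((x : ↥H) : G) * s'⁻¹) * s'⁻¹ =
        (s' * s' * ((x : ↥H) : G)) * (s' * s')⁻¹ := by group
    rw [e, ← h2]; group
  -- σ is not the identity, by Burnside's transfer theorem
  have hne : ∃ x : ↥(Q : Subgroup ↥H), σ x ≠ x := by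
    by_contra hcon
    push Not at hcon
    have hs'c : ∀ z : ↥H, z ∈ (Q : Subgroup ↥H) → s' * (z : G) * s'⁻¹ = z := by
      intro z hz
      have h1 := hcon ⟨z, hz⟩
      have h2 := hσval ⟨z, hz⟩
      rw [h1] at h2
      exact h2.symm
    have hQGp : IsPGroup q ↥((Q : Subgroup ↥H).map H.subtype) := Q.isPGroup'.map _
    obtain ⟨P0, hP0⟩ := hQGp.exists_le_sylow
    have hQP : ∀ z : ↥H, z ∈ (Q : Subgroup ↥H) → (z : G) ∈ P0 := fun z hz =>
      hP0 (Subgroup.mem_map_of_mem H.subtype hz)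
    have hy0P : (y0 : G) ∈ P0 := hQP y0 hy0Q
    have hy0G1 : (y0 : G) ≠ 1 := fun h => hy01 (Subtype.ext h)
    have hy0a : (y0 : G) • a = a := ((hH _).1 y0.2).1
    have hy0b : (y0 : G) • b = b := ((hH _).1 y0.2).2
    have hoddP : ∀ g ∈ P0, Odd (orderOf g) := by
      intro g hg
      obtain ⟨k, hk⟩ := P0.isPGroup' ⟨g, hg⟩
      have h2 : g ^ q ^ k = 1 := by simpa using congrArg Subtype.val hk
      exact (hqodd.pow).of_dvd_nat (orderOf_dvd_of_pow_eq_one h2)
    have hntP : Nontrivial ↥(P0 : Subgroup G) :=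
      ⟨⟨⟨(y0 : G), hy0P⟩, 1, fun h => hy0G1 (congrArg Subtype.val h)⟩⟩
    have hntZ : Nontrivial (Subgroup.center ↥(P0 : Subgroup G)) := P0.isPGroup'.center_nontrivial
    obtain ⟨z, hz1⟩ := exists_ne (1 : Subgroup.center ↥(P0 : Subgroup G))
    have hzc : ∀ g ∈ P0, g * ((z : ↥(P0 : Subgroup G)) : G) = ((z : ↥(P0 : Subgroup G)) : G) * g := by
      intro g hg
      have h1 := Subgroup.mem_center_iff.1 z.2 ⟨g, hg⟩
      exact congrArg Subtype.val h1
    have hzG1 : ((z : ↥(P0 : Subgroup G)) : G) ≠ 1 := by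
      intro h
      apply hz1
      apply Subtype.ext
      apply Subtype.ext
      exact h
    have hzP : ((z : ↥(P0 : Subgroup G)) : G) ∈ P0 := (z : ↥(P0 : Subgroup G)).2
    generalize ((z : ↥(P0 : Subgroup G)) : G) = zG at hzc hzG1 hzP
    have hzH : zG ∈ H := by
      have e : zG * (y0 : G) * zG⁻¹ = y0 := by
        rw [← hzc _ hy0P]; group
      rcases fix_or_swap hZ hab hy0G1 hy0a hy0b (g := zG) (by rw [e]; exact hy0a)
        (by rw [e]; exact hy0b) with h1 | h1
      · exact (hH _).2 h1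
      · exact (no_odd_swap hab h1.1 h1.2 (hoddP zG hzP)).elim
    have hza : zG • a = a := ((hH _).1 hzH).1
    have hzb : zG • b = b := ((hH _).1 hzH).2
    have hP0H : ∀ g ∈ P0, g ∈ H := by
      intro g hg
      have e : g * zG * g⁻¹ = zG := by
        rw [hzc g hg]; group
      rcases fix_or_swap hZ hab hzG1 hza hzb (g := g) (by rw [e]; exact hza)
        (by rw [e]; exact hzb) with h1 | h1
      · exact (hH _).2 h1
      · exact (no_odd_swap hab h1.1 h1.2 (hoddP g hg)).elim
    have hP0Q : ∀ g (hg : g ∈ P0), (⟨g, hP0H g hg⟩ : ↥H) ∈ (Q : Subgroup ↥H) := by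
      have hle : (Q : Subgroup ↥H) ≤ (P0 : Subgroup G).subgroupOf H := by
        intro y hy
        rw [Subgroup.mem_subgroupOf]
        exact hQP y hy
      have hp : IsPGroup q ↥((P0 : Subgroup G).subgroupOf H) := P0.isPGroup'.comap_subtype
      have heq := Q.is_maximal' hp hle
      intro g hg
      rw [← heq, Subgroup.mem_subgroupOf]; exact hg
    have hP : Subgroup.normalizer (P0 : Set G) ≤ Subgroup.centralizer (P0 : Set G) := by
      intro g hg
      rw [Subgroup.mem_centralizer_iff]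
      intro p hp
      have hp' : p ∈ P0 := hp
      have hgn : ∀ z ∈ P0, g * z * g⁻¹ ∈ P0 := fun z hz =>
        (Subgroup.mem_set_normalizer_iff.1 hg z).1 hz
      have h1 := hgn _ hy0P
      have h1H := hP0H _ h1
      rcases fix_or_swap hZ hab hy0G1 hy0a hy0b ((hH _).1 h1H).1 ((hH _).1 h1H).2 with
        hfix | hswap
      · have hgH : g ∈ H := (hH g).2 hfix
        have hgN : (⟨g, hgH⟩ : ↥H) ∈ Subgroup.normalizer (Q : Set ↥H) := by
          apply mem_normalizer_of_conj_mem (Q : Subgroup ↥H)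
          intro z hz
          have h2 := hP0Q _ (hgn _ (hQP z hz))
          have e : (⟨g, hgH⟩ : ↥H) * z * (⟨g, hgH⟩ : ↥H)⁻¹ =
              ⟨g * (z : G) * g⁻¹, hP0H _ (hgn _ (hQP z hz))⟩ := Subtype.ext (by simp)
          rw [e]; exact h2
        have hgC := hNC hgN
        rw [Subgroup.mem_centralizer_iff] at hgC
        have h3 := hgC ⟨p, hP0H p hp'⟩ (hP0Q p hp')
        exact congrArg Subtype.val h3
      · have hg'H : s'⁻¹ * g ∈ H := by
          rw [hH]
          exact ⟨by rw [mul_smul, hswap.1, hs'ib], by rw [mul_smul, hswap.2, hs'ia]⟩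
        have hg'N : (⟨s'⁻¹ * g, hg'H⟩ : ↥H) ∈ Subgroup.normalizer (Q : Set ↥H) := by
          apply mem_normalizer_of_conj_mem (Q : Subgroup ↥H)
          intro z hz
          have h2 := hP0Q _ (hgn _ (hQP z hz))
          have h3 := hs'c _ h2
          have h4 : s' * (g * (z : G) * g⁻¹) * s'⁻¹ = g * (z : G) * g⁻¹ := h3
          have e : (⟨s'⁻¹ * g, hg'H⟩ : ↥H) * z * (⟨s'⁻¹ * g, hg'H⟩ : ↥H)⁻¹ =
              ⟨g * (z : G) * g⁻¹, hP0H _ (hgn _ (hQP z hz))⟩ := by
            apply Subtype.ext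
            simp only [Subgroup.coe_mul, Subgroup.coe_inv]
            have e2 : s'⁻¹ * g * (z : G) * (s'⁻¹ * g)⁻¹ =
                s'⁻¹ * (g * (z : G) * g⁻¹) * s' := by group
            rw [e2]
            nth_rewrite 1 [← h4]
            group
          rw [e]; exact h2
        have hg'C := hNC hg'N
        rw [Subgroup.mem_centralizer_iff] at hg'C
        have h3 := hg'C ⟨p, hP0H p hp'⟩ (hP0Q p hp')
        have h4 : p * (s'⁻¹ * g) = s'⁻¹ * g * p := congrArg Subtype.val h3
        have h5 : s' * p * s'⁻¹ = p := hs'c ⟨p, hP0H p hp'⟩ (hP0Q p hp')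
        have h6 : g * p = s' * (s'⁻¹ * g * p) := by group
        rw [h6, ← h4]
        nth_rewrite 1 [← h5]
        group
    have hcompl := MonoidHom.ker_transferSylow_isComplement' P0 hP
    apply hnil q hq hqH
    refine ⟨(MonoidHom.transferSylow P0 hP).ker, MonoidHom.normal_ker _, ?_⟩
    rw [hcompl.symm.index_eq_card]
    exact P0.card_eq_multiplicity
  have hσinv := ZInv.inv_of_involutive hq hq2 Q.isPGroup' σ hσ2 hne
  refine ⟨h, fun y hy => ?_⟩
  have h1 := hσinv ⟨y, hy⟩
  exact congrArg Subtype.val h1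

/-- For every element `s` swapping `a` and `b`: `H` is cyclic and inverted by `s`. -/
theorem main (hZ : Cfsg.IsZassenhausGroup G Ω) {a b : Ω} (hab : a ≠ b) (H : Subgroup G)
    (hH : ∀ x : G, x ∈ H ↔ x • a = a ∧ x • b = b) (hodd : Odd (Nat.card ↥H))
    (hnil : ∀ q : ℕ, q.Prime → q ∣ Nat.card ↥H →
      ¬ ∃ N : Subgroup G, N.Normal ∧ N.index = q ^ (Nat.card G).factorization q)
    (s : G) (hsa : s • a = b) (hsb : s • b = a) :
    IsCyclic ↥H ∧ ∀ h ∈ H, s * h * s⁻¹ = h⁻¹ := by
  classical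
  have hZG : IsZGroup ↥H := isZGroup_H hZ hab H hH hodd
  have hsia : s⁻¹ • a = b := by rw [inv_smul_eq_iff, hsb]
  have hsib : s⁻¹ • b = a := by rw [inv_smul_eq_iff, hsa]
  have hsH : ∀ x ∈ H, s * x * s⁻¹ ∈ H := by
    intro x hx
    obtain ⟨hxa, hxb⟩ := (hH x).1 hx
    rw [hH]
    refine ⟨?_, ?_⟩
    · rw [mul_smul, mul_smul, hsia, hxb, hsb]
    · rw [mul_smul, mul_smul, hsib, hxa, hsa]
  let τ : ↥H →* ↥H :=
    { toFun := fun x => ⟨s * x * s⁻¹, hsH x x.2⟩
      map_one' := by ext; simp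
      map_mul' := by intro x y; ext; simp }
  have hτval : ∀ x : ↥H, ((τ x : ↥H) : G) = s * x * s⁻¹ := fun x => rfl
  have hτ : Function.Injective τ := by
    intro x y hxy
    have h1 : s * x * s⁻¹ = s * y * s⁻¹ := congrArg Subtype.val hxy
    have h2 : (x : G) = y := by simpa using h1
    exact Subtype.ext h2
  have hstar : ∀ (q : ℕ) [Fact q.Prime] (Q : Sylow q ↥H),
      Subgroup.normalizer (Q : Set ↥H) ≤ Subgroup.centralizer (Q : Set ↥H) →
      ∃ h : ↥H, ∀ y ∈ Q, h * τ y * h⁻¹ = y⁻¹ := by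
    intro q hqf Q hNC
    have hcyc : IsCyclic ↥(Q : Subgroup ↥H) := hZG.isZGroup q hqf.out Q
    exact star hZ hab H hH hodd hnil s hsa hsb τ hτval q Q hNC
  obtain ⟨hc, hinv⟩ := ZInv.cyclic_inverted hodd τ hτ hstar
  refine ⟨hc, fun h hh => ?_⟩
  have h1 := congrArg Subtype.val (hinv ⟨h, hh⟩)
  rw [hτval] at h1
  exact h1

end

/-- In a finite Zassenhaus group whose two-point stabiliser `H = G_{a,b}` has odd order `d`, and which has no normal `q`-complement for any prime `q ∣ d`, `H` is cyclic, `C_G(H) = H`, and every element swapping `a` and `b` inverts each element of `H`. -/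
theorem result {G Ω : Type*} [Group G] [Finite G] [MulAction G Ω] [Fintype Ω] (hZ : Cfsg.IsZassenhausGroup G Ω) {a b : Ω} (hab : a ≠ b) (hodd : Odd (Nat.card ↥(MulAction.stabilizer G a ⊓ MulAction.stabilizer G b))) (hnil : ∀ q : ℕ, q.Prime → q ∣ Nat.card ↥(MulAction.stabilizer G a ⊓ MulAction.stabilizer G b) → ¬ ∃ N : Subgroup G, N.Normal ∧ N.index = q ^ (Nat.card G).factorization q) : IsCyclic ↥(MulAction.stabilizer G a ⊓ MulAction.stabilizer G b) ∧ Subgroup.centralizer ((MulAction.stabilizer G a ⊓ MulAction.stabilizer G b : Subgroup G) : Set G) = MulAction.stabilizer G a ⊓ MulAction.stabilizer G b ∧ ∀ s : G, s • a = b → s • b = a → ∀ h ∈ MulAction.stabilizer G a ⊓ MulAction.stabilizer G b, s * h * s⁻¹ = h⁻¹ := by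
  classical
  have hH : ∀ x : G, x ∈ MulAction.stabilizer G a ⊓ MulAction.stabilizer G b ↔
      x • a = a ∧ x • b = b := fun x => Iff.rfl
  have hmain := main hZ hab _ hH hodd hnil
  obtain ⟨s0, hs0a, hs0b⟩ := ZassFrob.two_trans hZ hab hab.symm
  obtain ⟨hcyc, hinv0⟩ := hmain s0 hs0a hs0b
  refine ⟨hcyc, ?_, fun s hsa hsb => (hmain s hsa hsb).2⟩
  ext g
  rw [Subgroup.mem_centralizer_iff]
  constructor
  · intro hg
    obtain ⟨x, hx1, hxa, hxb⟩ := ZassFrob.exists_fix_two hZ hab
    have hxH : x ∈ MulAction.stabilizer G a ⊓ MulAction.stabilizer G b := (hH x).2 ⟨hxa, hxb⟩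
    have e : g * x * g⁻¹ = x := by
      rw [← hg x hxH]; group
    rcases fix_or_swap hZ hab hx1 hxa hxb (g := g) (by rw [e]; exact hxa)
      (by rw [e]; exact hxb) with h1 | h1
    · exact (hH g).2 h1
    · exfalso
      have h2 := (hmain g h1.1 h1.2).2 x hxH
      rw [e] at h2
      have h3 : x * x = 1 := by
        nth_rewrite 1 [h2]
        exact inv_mul_cancel x
      have h4 : (⟨x, hxH⟩ : ↥(MulAction.stabilizer G a ⊓ MulAction.stabilizer G b)) ^ 2 = 1 := by
        apply Subtype.ext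
        rw [pow_two]
        exact h3
      have h5 := orderOf_dvd_of_pow_eq_one h4
      have h6 := orderOf_dvd_natCard
        (⟨x, hxH⟩ : ↥(MulAction.stabilizer G a ⊓ MulAction.stabilizer G b))
      rcases (Nat.dvd_prime Nat.prime_two).1 h5 with h7 | h7
      · rw [orderOf_eq_one_iff] at h7
        exact hx1 (congrArg Subtype.val h7)
      · rw [h7] at h6
        exact (Nat.not_even_iff_odd.2 hodd) (even_iff_two_dvd.2 h6)
  · intro hg x hx
    have hx' : x ∈ MulAction.stabilizer G a ⊓ MulAction.stabilizer G b := hx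
    have h1 := hinv0 x hx'
    have h2 := hinv0 g hg
    have h3 := hinv0 (g * x) (Subgroup.mul_mem _ hg hx')
    have h4 : s0 * (g * x) * s0⁻¹ = (s0 * g * s0⁻¹) * (s0 * x * s0⁻¹) := by group
    rw [h4, h1, h2, ← mul_inv_rev] at h3
    exact inv_injective h3

end Cfsg.Agent.S0739
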