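import Cfsg.Statements.S0683
import Mathlib
import Cfsg.Agent.S0680

set_option autoImplicit false
open Cfsg

namespace Cfsg.Agent.S0683

theorem apply_inv' {α : Type*} (f : Equiv.Perm α) (x : α) : f (f⁻¹ x) = x := by simp

theorem inv_apply' {α : Type*} (f : Equiv.Perm α) (x : α) : f⁻¹ (f x) = x := by simp

/-- A sharply doubly transitive permutation group `H` with a regular normal subgroup `N` is the
affine group of a near-field structure on the permuted set. -/
theorem nearfield_of {α : Type*} (H N : Subgroup (Equiv.Perm α))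
    (hNH : N ≤ H) (hnorm : ∀ h ∈ H, ∀ n ∈ N, h * n * h⁻¹ ∈ N)
    (htrans : ∀ a b : α, ∃ n ∈ N, n a = b) (hsemi : ∀ n ∈ N, ∀ a : α, n a = a → n = 1)
    (H1 : ∀ a b c d : α, a ≠ b → c ≠ d → ∃ g ∈ H, g a = c ∧ g b = d)
    (H2 : ∀ g ∈ H, ∀ a b : α, a ≠ b → g a = a → g b = b → g = 1)
    (o e : α) (hoe : o ≠ e) :
    ∃ _ : Cfsg.NearField α, ∀ σ : Equiv.Perm α,
      σ ∈ H ↔ ∃ a b : α, a ≠ 0 ∧ ∀ x : α, σ x = x * a + b := by
  classical
  choose τ hτN hτ using fun b => htrans o b
  have τ_uniq : ∀ n ∈ N, ∀ b, n o = b → n = τ b := by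
    intro n hn b hb
    have h1 : (τ b)⁻¹ * n = 1 := by
      refine hsemi _ (N.mul_mem (N.inv_mem (hτN b)) hn) o ?_
      rw [Equiv.Perm.mul_apply, hb, Equiv.Perm.inv_eq_iff_eq]
      exact (hτ b).symm
    exact (inv_mul_eq_one.mp h1).symm
  have hμ_ex : ∀ a, ∃ g ∈ H, g o = o ∧ (a ≠ o → g e = a) := by
    intro a
    by_cases ha : a = o
    · exact ⟨1, H.one_mem, rfl, fun h => absurd ha h⟩
    · obtain ⟨g, hg, h1, h2⟩ := H1 o e o a hoe (Ne.symm ha)
      exact ⟨g, hg, h1, fun _ => h2⟩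
  choose μ hμH hμo hμe using hμ_ex
  have μ_uniq : ∀ g ∈ H, ∀ a, a ≠ o → g o = o → g e = a → g = μ a := by
    intro g hg a ha h1 h2
    have h3 : (μ a)⁻¹ * g = 1 := by
      refine H2 _ (H.mul_mem (H.inv_mem (hμH a)) hg) o e hoe ?_ ?_
      · rw [Equiv.Perm.mul_apply, h1, Equiv.Perm.inv_eq_iff_eq]
        exact (hμo a).symm
      · rw [Equiv.Perm.mul_apply, h2, Equiv.Perm.inv_eq_iff_eq]
        exact (hμe a ha).symm
    exact (inv_mul_eq_one.mp h3).symm
  have hτo : τ o = 1 := (τ_uniq 1 N.one_mem o rfl).symm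
  have hμe1 : μ e = 1 := (μ_uniq 1 H.one_mem e (Ne.symm hoe) rfl rfl).symm
  have hτmul : ∀ b c, τ (τ c b) = τ c * τ b := by
    intro b c
    refine (τ_uniq _ (N.mul_mem (hτN c) (hτN b)) _ ?_).symm
    rw [Equiv.Perm.mul_apply, hτ]
  have hμne : ∀ a b, a ≠ o → μ b a ≠ o := by
    intro a b ha h
    apply ha
    apply (μ b).injective
    rw [h, hμo]
  have hμmul : ∀ a b, a ≠ o → b ≠ o → μ (μ b a) = μ b * μ a := by
    intro a b ha hb
    refine (μ_uniq _ (H.mul_mem (hμH b) (hμH a)) _ (hμne a b ha) ?_ ?_).symm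
    · rw [Equiv.Perm.mul_apply, hμo, hμo]
    · rw [Equiv.Perm.mul_apply, hμe a ha]
  have hconj : ∀ c y, τ (μ c y) = μ c * τ y * (μ c)⁻¹ := by
    intro c y
    refine (τ_uniq _ (hnorm _ (hμH c) _ (hτN y)) _ ?_).symm
    rw [Equiv.Perm.mul_apply, Equiv.Perm.mul_apply]
    have h1 : (μ c)⁻¹ o = o := by
      rw [Equiv.Perm.inv_eq_iff_eq]; exact (hμo c).symm
    rw [h1, hτ]
  have hμinv : ∀ a, a ≠ o → (μ a)⁻¹ e ≠ o ∧ μ ((μ a)⁻¹ e) = (μ a)⁻¹ := by
    intro a ha
    have h1 : (μ a)⁻¹ e ≠ o := by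
      intro h
      rw [Equiv.Perm.inv_eq_iff_eq, hμo] at h
      exact hoe h.symm
    refine ⟨h1, (μ_uniq _ (H.inv_mem (hμH a)) _ h1 ?_ rfl).symm⟩
    rw [Equiv.Perm.inv_eq_iff_eq]; exact (hμo a).symm
  have A1 : ∀ a b c : α, τ c (τ b a) = τ (τ c b) a := by
    intro a b c
    rw [hτmul, Equiv.Perm.mul_apply]
  have A2 : ∀ a : α, τ o a = a := by
    intro a
    rw [hτo]; rfl
  have A3 : ∀ a : α, τ a ((τ a)⁻¹ o) = o := fun a => apply_inv' _ _
  have M1 : ∀ a b c : α, (if c = o then o else μ c (if b = o then o else μ b a))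
      = if (if c = o then o else μ c b) = o then o else μ (if c = o then o else μ c b) a := by
    intro a b c
    by_cases hc : c = o
    · simp [hc]
    · by_cases hb : b = o
      · simp [hc, hb, hμo]
      · have h1 := hμne b c hb
        simp only [hc, hb, if_false, h1]
        rw [hμmul b c hb hc, Equiv.Perm.mul_apply]
  have M2 : ∀ a : α, (if a = o then o else μ a e) = a := by
    intro a
    by_cases ha : a = o
    · simp [ha]
    · simp [ha, hμe a ha]
  have M3 : ∀ a : α, (if e = o then o else μ e a) = a := by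
    intro a
    rw [if_neg (Ne.symm hoe), hμe1]; rfl
  have D1 : ∀ a b c : α, (if c = o then o else μ c (τ b a))
      = τ (if c = o then o else μ c b) (if c = o then o else μ c a) := by
    intro a b c
    by_cases hc : c = o
    · simp [hc, hτ]
    · simp only [hc, if_false]
      rw [hconj, Equiv.Perm.mul_apply, Equiv.Perm.mul_apply, inv_apply']
  have Z1 : ∀ a : α, (if o = o then o else μ o a) = o := by
    intro a
    simp
  have I1 : ∀ a : α, a ≠ o → ∃ b : α, (if b = o then o else μ b a) = e ∧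
      (if a = o then o else μ a b) = e := by
    intro a ha'
    obtain ⟨h1, h2⟩ := hμinv a ha'
    refine ⟨(μ a)⁻¹ e, ?_, ?_⟩
    · rw [if_neg h1, h2, Equiv.Perm.inv_eq_iff_eq]
      exact (hμe a ha').symm
    · rw [if_neg ha']
      exact apply_inv' _ _
  refine ⟨{ add := fun x b => τ b x
            add_assoc := A1
            zero := o
            zero_add := hτ
            add_zero := A2
            nsmul := @nsmulRec α ⟨o⟩ ⟨fun x b => τ b x⟩
            nsmul_zero := fun _ => rfl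
            nsmul_succ := fun _ _ => rfl
            neg := fun b => (τ b)⁻¹ o
            sub := fun a b => τ ((τ b)⁻¹ o) a
            sub_eq_add_neg := fun _ _ => rfl
            zsmul := @zsmulRec α ⟨o⟩ ⟨fun x b => τ b x⟩ ⟨fun b => (τ b)⁻¹ o⟩
              (@nsmulRec α ⟨o⟩ ⟨fun x b => τ b x⟩)
            zsmul_zero' := fun _ => rfl
            zsmul_succ' := fun _ _ => rfl
            zsmul_neg' := fun _ _ => rfl
            neg_add_cancel := A3
            mul := fun x a => if a = o then o else μ a x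
            mul_assoc := M1
            one := e
            one_mul := M2
            mul_one := M3
            right_distrib := D1
            mul_zero := Z1
            zero_ne_one := hoe
            exists_inv := I1 }, ?_⟩
  intro σ
  show σ ∈ H ↔ ∃ a b : α, a ≠ o ∧ ∀ x : α, σ x = τ b (if a = o then o else μ a x)
  constructor
  · intro hσ
    have hne : (τ (σ o))⁻¹ (σ e) ≠ o := by
      intro h
      rw [Equiv.Perm.inv_eq_iff_eq, hτ] at h
      exact hoe (σ.injective h.symm)
    have h1 : (τ (σ o))⁻¹ * σ = μ ((τ (σ o))⁻¹ (σ e)) := by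
      refine μ_uniq _ (H.mul_mem (H.inv_mem (hNH (hτN _))) hσ) _ hne ?_ rfl
      rw [Equiv.Perm.mul_apply, Equiv.Perm.inv_eq_iff_eq, hτ]
    refine ⟨(τ (σ o))⁻¹ (σ e), σ o, hne, fun x => ?_⟩
    rw [if_neg hne, ← h1, Equiv.Perm.mul_apply, apply_inv']
  · rintro ⟨a, b, ha, hσ⟩
    have h1 : σ = τ b * μ a := by
      ext x
      rw [hσ x, if_neg ha, Equiv.Perm.mul_apply]
    rw [h1]
    exact H.mul_mem (hNH (hτN b)) (hμH a)

/-- A finite sharply doubly transitive permutation group is the affine group of a near-field: the permuted set carries a near-field structure for which the group consists exactly of the maps `x ↦ x * a + b` with `a ≠ 0`. -/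
theorem result {α : Type*} [Fintype α] [DecidableEq α] (H : Subgroup (Equiv.Perm α)) [MulAction.IsMultiplyPretransitive H α 2] (hsharp : ∀ x : Fin 2 ↪ α, MulAction.stabilizer H x = ⊥) (h2 : 2 ≤ Fintype.card α) : ∃ _ : Cfsg.NearField α, ∀ σ : Equiv.Perm α, σ ∈ H ↔ ∃ a b : α, a ≠ 0 ∧ ∀ x : α, σ x = x * a + b := by
  have H1 : ∀ a b c d : α, a ≠ b → c ≠ d → ∃ g : H, g • a = c ∧ g • b = d := by
    intro a b c d hab hcd
    exact (MulAction.is_two_pretransitive_iff.mp inferInstance) hab hcd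
  have H2 : ∀ (g : H) (a b : α), a ≠ b → g • a = a → g • b = b → g = 1 := by
    intro g a b hab ha hb
    have hmem : g ∈ MulAction.stabilizer H (Function.Embedding.embFinTwo hab) := by
      rw [MulAction.mem_stabilizer_iff]
      ext i
      change g • (Function.Embedding.embFinTwo hab i) = Function.Embedding.embFinTwo hab i
      fin_cases i
      · exact ha
      · exact hb
    rw [hsharp] at hmem
    exact Subgroup.mem_bot.mp hmem
  obtain ⟨p, j, hp, -, -, hP⟩ := S0680.result H hsharp h2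
  have hpf : Fact p.Prime := ⟨hp⟩
  obtain ⟨P⟩ : Nonempty (Sylow p H) := inferInstance
  obtain ⟨hnormal, -, -, htr, hreg, -⟩ := hP hpf P
  obtain ⟨o, e, hoe⟩ := Fintype.one_lt_card_iff.mp (by omega : 1 < Fintype.card α)
  refine nearfield_of H ((P : Subgroup H).map H.subtype) ?_ ?_ ?_ ?_ ?_ ?_ o e hoe
  · exact Subgroup.map_subtype_le _
  · rintro h hh n ⟨n', hn', rfl⟩
    refine ⟨⟨h, hh⟩ * n' * ⟨h, hh⟩⁻¹, hnormal.conj_mem n' hn' ⟨h, hh⟩, rfl⟩
  · intro a b
    obtain ⟨g, hg⟩ := htr.exists_smul_eq a b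
    exact ⟨((g : H) : Equiv.Perm α), ⟨(g : H), g.2, rfl⟩, hg⟩
  · rintro n ⟨n', hn', rfl⟩ a ha
    have h1 : (⟨n', hn'⟩ : (P : Subgroup H)) ∈ MulAction.stabilizer (P : Subgroup H) a := by
      rw [MulAction.mem_stabilizer_iff]
      exact ha
    rw [hreg a, Subgroup.mem_bot] at h1
    have h3 : n' = 1 := congrArg Subtype.val h1
    rw [h3]; rfl
  · intro a b c d hab hcd
    obtain ⟨g, h1, h2⟩ := H1 a b c d hab hcd
    exact ⟨(g : Equiv.Perm α), g.2, h1, h2⟩
  · intro g hg a b hab ha hb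
    have h1 := H2 ⟨g, hg⟩ a b hab ha hb
    exact congrArg Subtype.val h1

end Cfsg.Agent.S0683
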