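import Cfsg.Statements.S0154
import Mathlib
import Cfsg.Agent.Lib.CT.LinChar

set_option autoImplicit false
open Cfsg

namespace Cfsg.Agent.S0154


open Cfsg.Agent.Lib.CT in
/-- Linear irreducible characters are in bijection with homomorphisms into `ℂˣ`. -/
theorem card_linear_eq_card_hom (G : Type*) [Group G] :
    Nat.card {χ : Cfsg.IrrCharacter G // (χ : G → ℂ) 1 = 1} = Nat.card (G →* ℂˣ) := by
  symm
  let φ : (G →* ℂˣ) → {χ : Cfsg.IrrCharacter G // (χ : G → ℂ) 1 = 1} := fun f =>
    ⟨⟨fun g => ((f g : ℂˣ) : ℂ), LinChar.isIrrCharacter_of_hom f⟩, by simp⟩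
  have hbij : Function.Bijective φ := by
    constructor
    · intro f f' h
      have h1 : (fun g => ((f g : ℂˣ) : ℂ)) = fun g => ((f' g : ℂˣ) : ℂ) :=
        congrArg (fun χ : {χ : Cfsg.IrrCharacter G // (χ : G → ℂ) 1 = 1} => (χ.1.1 : G → ℂ)) h
      ext g
      exact congrFun h1 g
    · rintro ⟨⟨χ, hχ⟩, h1⟩
      obtain ⟨f, hf⟩ := LinChar.exists_hom_of_isCharacter χ (Ops.IsIrrCharacter.isCharacter hχ) h1
      refine ⟨f, ?_⟩
      apply Subtype.ext
      apply Subtype.ext
      funext g
      exact (hf g).symm
  exact Nat.card_congr (Equiv.ofBijective φ hbij)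

/-- The number of homomorphisms of a finite group into `ℂˣ` is the index of the commutator. -/
theorem card_hom_eq_index (G : Type*) [Group G] [Finite G] :
    Nat.card (G →* ℂˣ) = (commutator G).index := by
  rw [Nat.card_congr (Abelianization.lift (G := G) (A := ℂˣ))]
  haveI : Finite (Abelianization G) := by
    unfold Abelianization
    infer_instance
  haveI : NeZero (Monoid.exponent (Abelianization G)) :=
    ⟨Monoid.exponent_ne_zero_of_finite⟩
  rw [CommGroup.card_monoidHom_of_hasEnoughRootsOfUnity (Abelianization G) ℂ,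
    Subgroup.index_eq_card]
  rfl

/-- A finite group has exactly as many irreducible complex characters of degree 1 as the index of its commutator subgroup. -/
theorem result {G : Type*} [Group G] [Finite G] : Nat.card {χ : Cfsg.IrrCharacter G // (χ : G → ℂ) 1 = 1} = (commutator G).index := by
  rw [card_linear_eq_card_hom G, card_hom_eq_index G]

end Cfsg.Agent.S0154
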