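import Mathlib
import Cfsg.Statements.S4035

set_option autoImplicit false

open Cfsg

namespace Cfsg.Agent.S4035

/-- Jordan: a transitive action of a finite group in which every element has a fixed point
is on a set with at most one element. -/
theorem jordan {G X : Type*} [Group G] [MulAction G X] [Finite G] [Finite X]
    [MulAction.IsPretransitive G X] (h : ∀ g : G, ∃ x : X, g • x = x) : Nat.card X ≤ 1 := by
  classical
  have := Fintype.ofFinite G
  have := Fintype.ofFinite X
  have : Fintype (Quotient (MulAction.orbitRel G X)) := Fintype.ofFinite _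
  have hB := MulAction.sum_card_fixedBy_eq_card_orbits_mul_card_group G X
  have horb : Fintype.card (Quotient (MulAction.orbitRel G X)) ≤ 1 := by
    rw [Fintype.card_le_one_iff]
    intro a b
    induction a using Quotient.inductionOn with
    | _ a =>
      induction b using Quotient.inductionOn with
      | _ b =>
        apply Quotient.sound
        obtain ⟨g, hg⟩ := MulAction.exists_smul_eq G b a
        exact ⟨g, hg⟩
  have h1 : ∀ g : G, 1 ≤ Fintype.card (MulAction.fixedBy X g) := by
    intro g
    obtain ⟨x, hx⟩ := h g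
    exact Fintype.card_pos_iff.mpr ⟨⟨x, hx⟩⟩
  have h2 : Fintype.card (MulAction.fixedBy X (1:G)) = Fintype.card X := by
    apply Fintype.card_congr
    exact (Equiv.subtypeUnivEquiv (fun x => by simp))
  have h3 : Fintype.card G - 1 + Fintype.card X ≤
      ∑ g : G, Fintype.card (MulAction.fixedBy X g) := by
    rw [← Finset.add_sum_erase _ _ (Finset.mem_univ (1:G)), h2, add_comm]
    apply Nat.add_le_add_left
    calc Fintype.card G - 1 = (Finset.univ.erase (1:G)).card := by
          simp [Finset.card_erase_of_mem, Finset.card_univ]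
      _ = ∑ g ∈ Finset.univ.erase (1:G), 1 := by simp
      _ ≤ _ := Finset.sum_le_sum (fun g _ => h1 g)
  rw [Nat.card_eq_fintype_card]
  have hpos : 0 < Fintype.card G := Fintype.card_pos
  have h4 : Fintype.card (Quotient (MulAction.orbitRel G X)) * Fintype.card G ≤
      Fintype.card G := by
    calc _ ≤ 1 * Fintype.card G := Nat.mul_le_mul_right _ horb
      _ = _ := one_mul _
  omega

theorem card_class_mul {G : Type*} [Group G] [Finite G] (g : G) :
    Nat.card (ConjClasses.mk g).carrier * Nat.card (Subgroup.centralizer ({g} : Set G)) =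
      Nat.card G := by
  rw [Subgroup.nat_card_centralizer_nat_card_stabilizer, ← ConjAct.orbit_eq_carrier_conjClasses]
  have h1 := Subgroup.card_mul_index (MulAction.stabilizer (ConjAct G) g)
  rw [MulAction.index_stabilizer, ← Nat.card_coe_set_eq] at h1
  rw [mul_comm]
  exact h1

theorem class_index {G : Type*} [Group G] [Finite G] (x : G) :
    (ConjClasses.mk x).carrier.ncard = (Subgroup.centralizer ({x} : Set G)).index := by
  have h1 := card_class_mul x
  have h2 := Subgroup.card_mul_index (Subgroup.centralizer ({x} : Set G))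
  rw [Nat.card_coe_set_eq] at h1
  have hpos : 0 < Nat.card (Subgroup.centralizer ({x} : Set G)) := Nat.card_pos
  rw [mul_comm] at h2
  exact Nat.eq_of_mul_eq_mul_right hpos (h1.trans h2.symm)

theorem result {G : Type*} [Group G] [Finite G] {p : ℕ} [Fact p.Prime]
    (h : ∀ x : G, (orderOf x).Coprime p → ¬ p ∣ (ConjClasses.mk x).carrier.ncard) (P : Sylow p G) :
    (P : Subgroup G).Normal ∧ ∃ H : Subgroup G, H.Normal ∧ ¬ p ∣ Nat.card H ∧
      (P : Subgroup G) ⊓ H = ⊥ ∧ (P : Subgroup G) ⊔ H = ⊤ := by
  have hp : p.Prime := Fact.out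
  have h' : ∀ x : G, (orderOf x).Coprime p →
      ¬ p ∣ (Subgroup.centralizer ({x} : Set G)).index := by
    intro x hx
    rw [← class_index]
    exact h x hx
  -- every g fixes a Sylow
  have hfix : ∀ g : G, ∃ R : Sylow p G, g • R = R := by
    intro g
    obtain ⟨a, n, hn, hgn⟩ :=
      Nat.exists_eq_pow_mul_and_not_dvd (orderOf_pos g).ne' p hp.ne_one
    have hvn : (g ^ (p ^ a)) ^ n = 1 := by
      rw [← pow_mul, ← hgn, pow_orderOf_eq_one]
    have hupa : (g ^ n) ^ (p ^ a) = 1 := by
      rw [← pow_mul, mul_comm, ← hgn, pow_orderOf_eq_one]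
    have hnp : n.Coprime p := ((Nat.Prime.coprime_iff_not_dvd hp).mpr hn).symm
    have hvcop : (orderOf (g ^ (p ^ a))).Coprime p :=
      Nat.Coprime.coprime_dvd_left (orderOf_dvd_of_pow_eq_one hvn) hnp
    have hC := h' _ hvcop
    have huC : g ^ n ∈ Subgroup.centralizer ({g ^ (p ^ a)} : Set G) := by
      rw [Subgroup.mem_centralizer_singleton_iff]
      rw [← pow_add, ← pow_add, add_comm]
    have hZ : IsPGroup p (Subgroup.zpowers
        (⟨g ^ n, huC⟩ : Subgroup.centralizer ({g ^ (p ^ a)} : Set G))) := by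
      have h1 : (⟨g ^ n, huC⟩ : Subgroup.centralizer ({g ^ (p ^ a)} : Set G)) ^ (p ^ a) = 1 :=
        Subtype.ext hupa
      generalize (⟨g ^ n, huC⟩ : Subgroup.centralizer ({g ^ (p ^ a)} : Set G)) = w at h1 ⊢
      rintro ⟨z, hz⟩
      obtain ⟨k, rfl⟩ := Subgroup.mem_zpowers_iff.mp hz
      refine ⟨a, ?_⟩
      apply Subtype.ext
      show ((w ^ k) ^ (p ^ a) : Subgroup.centralizer ({g ^ (p ^ a)} : Set G)) = 1
      have h2 : (w ^ k) ^ (p ^ a) = (w ^ (p ^ a)) ^ k := by
        rw [← zpow_natCast (w ^ k) (p ^ a), ← zpow_mul, mul_comm, zpow_mul, zpow_natCast]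
      rw [h2, h1, one_zpow]
    obtain ⟨P₀, hP₀⟩ := hZ.exists_le_sylow
    have hRp : IsPGroup p ((P₀ : Subgroup (Subgroup.centralizer ({g ^ (p ^ a)} : Set G))).map
        (Subgroup.centralizer ({g ^ (p ^ a)} : Set G)).subtype) := P₀.2.map _
    have hRi : ¬ p ∣ ((P₀ : Subgroup (Subgroup.centralizer ({g ^ (p ^ a)} : Set G))).map
        (Subgroup.centralizer ({g ^ (p ^ a)} : Set G)).subtype).index := by
      rw [Subgroup.index_map_subtype]
      exact Nat.Prime.not_dvd_mul hp P₀.not_dvd_index hC
    refine ⟨hRp.toSylow hRi, ?_⟩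
    rw [Sylow.smul_eq_iff_mem_normalizer]
    have hcop : IsCoprime ((p ^ a : ℕ) : ℤ) (n : ℤ) := by
      rw [Nat.isCoprime_iff_coprime]
      exact Nat.Coprime.pow_left a hnp.symm
    obtain ⟨s, t, hst⟩ := hcop
    have hg : g = (g ^ (p ^ a)) ^ s * (g ^ n) ^ t := by
      rw [← zpow_natCast, ← zpow_natCast, ← zpow_mul, ← zpow_mul, ← zpow_add,
        mul_comm _ s, mul_comm _ t, hst, zpow_one]
    have hmem : (g ^ (p ^ a)) ^ s * (g ^ n) ^ t ∈
        Subgroup.normalizer ((hRp.toSylow hRi : Subgroup G) : Set G) := by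
      apply Subgroup.mul_mem
      · apply Subgroup.centralizer_le_normalizer
        apply Subgroup.zpow_mem
        rw [Subgroup.mem_centralizer_iff]
        rintro r ⟨r0, -, rfl⟩
        have := r0.2
        rw [Subgroup.mem_centralizer_singleton_iff] at this
        exact this
      · apply Subgroup.le_normalizer
        apply Subgroup.zpow_mem
        exact ⟨⟨g ^ n, huC⟩, hP₀ (Subgroup.mem_zpowers _), rfl⟩
    rw [← hg] at hmem
    exact hmem
  have hcard : Nat.card (Sylow p G) ≤ 1 := jordan hfix
  have hsub : Subsingleton (Sylow p G) := (Finite.card_le_one_iff_subsingleton).mp hcard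
  have hPn : (P : Subgroup G).Normal := by
    rw [← Subgroup.normalizer_eq_top_iff]
    ext g
    simp only [Subgroup.mem_top, iff_true]
    exact Sylow.smul_eq_iff_mem_normalizer.mp (Subsingleton.elim _ _)
  refine ⟨hPn, ?_⟩
  have hcent : ∀ x : G, (orderOf x).Coprime p →
      x ∈ Subgroup.centralizer ((P : Subgroup G) : Set G) := by
    intro x hx
    obtain ⟨P₀⟩ := (inferInstance : Nonempty (Sylow p (Subgroup.centralizer ({x} : Set G))))
    have hP₁p : IsPGroup p ((P₀ : Subgroup (Subgroup.centralizer ({x} : Set G))).map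
        (Subgroup.centralizer ({x} : Set G)).subtype) := P₀.2.map _
    have hP₁i : ¬ p ∣ ((P₀ : Subgroup (Subgroup.centralizer ({x} : Set G))).map
        (Subgroup.centralizer ({x} : Set G)).subtype).index := by
      rw [Subgroup.index_map_subtype]
      exact Nat.Prime.not_dvd_mul hp P₀.not_dvd_index (h' x hx)
    have hQ : hP₁p.toSylow hP₁i = P := Subsingleton.elim _ _
    rw [Subgroup.mem_centralizer_iff]
    intro y hy
    have hy' : y ∈ (hP₁p.toSylow hP₁i : Subgroup G) := by rw [hQ]; exact hy
    obtain ⟨y0, -, rfl⟩ := hy'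
    have := y0.2
    rw [Subgroup.mem_centralizer_singleton_iff] at this
    exact this
  obtain ⟨H, hH⟩ := Subgroup.exists_right_complement'_of_coprime (N := (P : Subgroup G))
    P.card_coprime_index
  have hHcard : Nat.card H = (P : Subgroup G).index := hH.symm.index_eq_card.symm
  have hpH : ¬ p ∣ Nat.card H := by rw [hHcard]; exact P.not_dvd_index
  have hHc : ∀ x ∈ H, x ∈ Subgroup.centralizer ((P : Subgroup G) : Set G) := by
    intro x hx
    apply hcent
    have h1 : orderOf x ∣ Nat.card H := by
      have := orderOf_dvd_natCard (⟨x, hx⟩ : H)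
      rwa [Subgroup.orderOf_mk] at this
    exact Nat.Coprime.coprime_dvd_left h1 ((Nat.Prime.coprime_iff_not_dvd hp).mpr hpH).symm
  refine ⟨H, ?_, hpH, disjoint_iff.mp hH.disjoint, hH.sup_eq_top⟩
  rw [← Subgroup.normalizer_eq_top_iff, eq_top_iff, ← hH.sup_eq_top]
  apply sup_le
  · intro a ha
    apply Subgroup.centralizer_le_normalizer
    rw [Subgroup.mem_centralizer_iff]
    intro x hx
    have := hHc x hx
    rw [Subgroup.mem_centralizer_iff] at this
    exact (this a ha).symm
  · exact Subgroup.le_normalizer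

end Cfsg.Agent.S4035
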