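import Cfsg.Statements.S3993
import Cfsg.Agent.S4035

set_option autoImplicit false
open Cfsg

namespace Cfsg.Agent.S3993

universe u

lemma pow_one_of_dvd {G : Type*} [Group G] {x : G} {n k : ℕ} (h : x ^ n = 1) (hd : n ∣ k) :
    x ^ k = 1 := by
  obtain ⟨j, rfl⟩ := hd
  rw [pow_mul, h, one_pow]

lemma pow_self_of_modEq {G : Type*} [Group G] {x : G} {n k : ℕ} (h : x ^ n = 1)
    (hk : k ≡ 1 [MOD n]) : x ^ k = x := by
  have h1 : x ^ k = x ^ 1 := by
    rw [pow_eq_pow_iff_modEq]
    exact Nat.ModEq.of_dvd (orderOf_dvd_of_pow_eq_one h) hk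
  rw [h1, pow_one]

/-- number of generators of a cyclic subgroup -/
lemma card_gens {G : Type*} [Group G] [Finite G] (x₀ : G) :
    Nat.card {x : G // Subgroup.zpowers x = Subgroup.zpowers x₀} = Nat.totient (orderOf x₀) := by
  classical
  have e : {x : G // Subgroup.zpowers x = Subgroup.zpowers x₀} ≃
      {a : Subgroup.zpowers x₀ // orderOf a = orderOf x₀} :=
    { toFun := fun x => ⟨⟨x.1, (SetLike.ext_iff.mp x.2 x.1).mp (Subgroup.mem_zpowers x.1)⟩, by
        rw [Subgroup.orderOf_mk, ← Nat.card_zpowers, x.2, Nat.card_zpowers]⟩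
      invFun := fun a => ⟨a.1.1, by
        have h1 : orderOf (a.1 : G) = orderOf x₀ := by rw [Subgroup.orderOf_coe]; exact a.2
        apply Subgroup.eq_of_le_of_card_ge
        · rw [Subgroup.zpowers_le]; exact a.1.2
        · exact le_of_eq (by rw [Nat.card_zpowers, Nat.card_zpowers, h1])⟩
      left_inv := fun x => rfl
      right_inv := fun a => rfl }
  rw [Nat.card_congr e]
  letI := Fintype.ofFinite (Subgroup.zpowers x₀)
  rw [Nat.card_eq_fintype_card, Fintype.card_subtype]
  apply IsCyclic.card_orderOf_eq_totient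
  rw [← Nat.card_eq_fintype_card, Nat.card_zpowers]

lemma dvd_card_of_totient {G : Type*} [Group G] [Finite G] (S : Set G) (d : ℕ)
    (hS : ∀ x y : G, Subgroup.zpowers x = Subgroup.zpowers y → x ∈ S → y ∈ S)
    (hd : ∀ x ∈ S, d ∣ Nat.totient (orderOf x)) : d ∣ Nat.card S := by
  classical
  letI := Fintype.ofFinite G
  have h1 : ∀ C : Subgroup G, C ∈ S.toFinset.image Subgroup.zpowers →
      d ∣ (Finset.filter (fun a => Subgroup.zpowers a = C) S.toFinset).card := by
    intro C hC
    obtain ⟨x₀, hx₀, rfl⟩ := Finset.mem_image.mp hC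
    rw [Set.mem_toFinset] at hx₀
    have h2 : (Finset.filter (fun a => Subgroup.zpowers a = Subgroup.zpowers x₀) S.toFinset).card =
        Nat.card {x : G // Subgroup.zpowers x = Subgroup.zpowers x₀} := by
      rw [Nat.card_eq_fintype_card, Fintype.card_subtype]
      congr 1
      ext a
      simp only [Finset.mem_filter, Set.mem_toFinset, Finset.mem_univ, true_and,
        and_iff_right_iff_imp]
      intro h
      exact hS x₀ a h.symm hx₀
    rw [h2, card_gens]
    exact hd x₀ hx₀
  rw [Nat.card_coe_set_eq, Set.ncard_eq_toFinset_card' S,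
    Finset.card_eq_sum_card_fiberwise (f := Subgroup.zpowers)
      (t := S.toFinset.image Subgroup.zpowers)
      (fun x hx => Finset.mem_coe.mpr (Finset.mem_image_of_mem _ (Finset.mem_coe.mp hx)))]
  exact Finset.dvd_sum h1

lemma dvd_sum_of_invariant {G X : Type*} [Group G] [Fintype X] [MulAction G X] (f : X → ℕ)
    (s : ℕ) (hf : ∀ (g : G) (x : X), f (g • x) = f x)
    (hs : ∀ x, s ∣ (MulAction.stabilizer G x).index * f x) :
    s ∣ ∑ x, f x := by
  classical
  letI : Fintype (MulAction.orbitRel.Quotient G X) := Fintype.ofFinite _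
  rw [← Finset.sum_fiberwise Finset.univ
    (fun x : X => (Quotient.mk'' x : MulAction.orbitRel.Quotient G X)) f]
  apply Finset.dvd_sum
  intro ω _
  have hmem : ∀ x : X, (Quotient.mk'' x : MulAction.orbitRel.Quotient G X) = ω ↔
      x ∈ MulAction.orbit G ω.out := by
    intro x
    constructor
    · intro h
      have h' : (Quotient.mk'' x : MulAction.orbitRel.Quotient G X) = Quotient.mk'' ω.out :=
        h.trans (Quotient.out_eq' ω).symm
      exact (MulAction.orbitRel_apply).mp (Quotient.exact' h')
    · intro h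
      rw [← Quotient.out_eq' ω]
      exact Quotient.sound' ((MulAction.orbitRel_apply).mpr h)
  have h1 : ∀ x ∈ Finset.univ.filter
      (fun x : X => (Quotient.mk'' x : MulAction.orbitRel.Quotient G X) = ω), f x = f ω.out := by
    intro x hx
    rw [Finset.mem_filter] at hx
    obtain ⟨g, hg⟩ := (hmem x).mp hx.2
    rw [← hg]; exact hf g _
  rw [Finset.sum_congr rfl h1, Finset.sum_const, smul_eq_mul]
  have h2 : (Finset.univ.filter
      (fun x : X => (Quotient.mk'' x : MulAction.orbitRel.Quotient G X) = ω)).card =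
      (MulAction.stabilizer G ω.out).index := by
    rw [MulAction.index_stabilizer, Set.ncard_eq_toFinset_card']
    congr 1
    ext x
    simp only [Finset.mem_filter, Finset.mem_univ, true_and, Set.mem_toFinset]
    exact hmem x
  rw [h2]
  exact hs _

/-- roots of unity modulo a central subgroup of coprime order -/
lemma card_root_quot {C : Type*} [Group C] [Finite C] (Z : Subgroup C) [Z.Normal]
    (hZ : Z ≤ Subgroup.center C) (s : ℕ) (hcop : s.Coprime (Nat.card Z)) :
    Nat.card {c : C // c ^ s = 1} = Nat.card {w : C ⧸ Z // w ^ s = 1} := by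
  obtain ⟨k, hk1, hk0⟩ := Nat.chineseRemainder hcop 1 0
  have hmk : Nat.card Z ∣ k := (Nat.modEq_zero_iff_dvd).mp hk0
  have hZk : ∀ t ∈ Z, t ^ k = 1 := by
    intro t ht
    have h1 : (⟨t, ht⟩ : Z) ^ Nat.card Z = 1 := pow_card_eq_one'
    have h2 : t ^ Nat.card Z = 1 := congrArg Subtype.val h1
    exact pow_one_of_dvd h2 hmk
  apply Nat.card_eq_of_bijective
    (fun c => (⟨QuotientGroup.mk c.1, by rw [← QuotientGroup.mk_pow, c.2]; rfl⟩ :
      {w : C ⧸ Z // w ^ s = 1}))
  constructor
  · rintro ⟨c, hc⟩ ⟨c', hc'⟩ h
    have h1 : (QuotientGroup.mk c : C ⧸ Z) = QuotientGroup.mk c' := congrArg Subtype.val h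
    rw [QuotientGroup.eq] at h1
    have h2 : c' = c * (c⁻¹ * c') := by group
    have hcomm : Commute c (c⁻¹ * c') := Subgroup.mem_center_iff.mp (hZ h1) c
    have h3 : c' ^ k = c ^ k := by
      rw [h2, hcomm.mul_pow, hZk _ h1, mul_one]
    apply Subtype.ext
    show c = c'
    rw [← pow_self_of_modEq hc hk1, ← pow_self_of_modEq hc' hk1, h3]
  · rintro ⟨w, hw⟩
    obtain ⟨g, rfl⟩ := QuotientGroup.mk_surjective w
    have hgs : g ^ s ∈ Z := by
      rw [← QuotientGroup.eq_one_iff, QuotientGroup.mk_pow]; exact hw
    refine ⟨⟨g ^ k, ?_⟩, ?_⟩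
    · rw [← pow_mul, mul_comm, pow_mul]; exact hZk _ hgs
    · apply Subtype.ext
      show (QuotientGroup.mk (g ^ k) : C ⧸ Z) = QuotientGroup.mk g
      rw [QuotientGroup.mk_pow]; exact pow_self_of_modEq hw hk1

lemma card_B_eq {G : Type*} [Group G] [Finite G] (p a s : ℕ) [hp : Fact p.Prime]
    (hps : ¬ p ∣ s) :
    Nat.card {x : G // x ^ (p ^ (a + 1) * s) = 1 ∧ x ^ (p ^ a * s) ≠ 1} =
    Nat.card {yz : G × G // orderOf yz.1 = p ^ (a + 1) ∧ Commute yz.2 yz.1 ∧ yz.2 ^ s = 1} := by
  have hco : Nat.Coprime (p ^ (a + 1)) s :=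
    Nat.Coprime.pow_left _ ((Nat.Prime.coprime_iff_not_dvd hp.out).mpr hps)
  obtain ⟨u, hu1, hu0⟩ := Nat.chineseRemainder hco 1 0
  obtain ⟨v, hv0, hv1⟩ := Nat.chineseRemainder hco 0 1
  have hsu : s ∣ u := (Nat.modEq_zero_iff_dvd).mp hu0
  have hqv : p ^ (a + 1) ∣ v := (Nat.modEq_zero_iff_dvd).mp hv0
  have huv : u + v ≡ 1 [MOD p ^ (a + 1) * s] := by
    rw [← Nat.modEq_and_modEq_iff_modEq_mul hco]
    exact ⟨by simpa using hu1.add hv0, by simpa using hu0.add hv1⟩
  have F1 : ∀ x : G, x ^ (p ^ (a + 1) * s) = 1 → x ^ u * x ^ v = x := by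
    intro x hx
    rw [← pow_add]
    exact pow_self_of_modEq hx huv
  have F2 : ∀ x : G, x ^ (p ^ (a + 1) * s) = 1 → x ^ (p ^ a * s) ≠ 1 →
      orderOf (x ^ u) = p ^ (a + 1) := by
    intro x hx hx2
    apply orderOf_eq_prime_pow
    · intro h
      apply hx2
      have h1 : (x ^ u * x ^ v) ^ (p ^ a * s) = 1 := by
        rw [((Commute.refl x).pow_pow u v).mul_pow, pow_mul (x ^ u), h, one_pow, one_mul,
          ← pow_mul]
        apply pow_one_of_dvd hx
        exact mul_dvd_mul hqv (dvd_mul_left s _)
      rwa [F1 x hx] at h1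
    · rw [← pow_mul]
      apply pow_one_of_dvd hx
      rw [mul_comm u]
      exact mul_dvd_mul_left _ hsu
  have F3 : ∀ x : G, x ^ (p ^ (a + 1) * s) = 1 → (x ^ v) ^ s = 1 := by
    intro x hx
    rw [← pow_mul]
    exact pow_one_of_dvd hx (mul_dvd_mul_right hqv s)
  have G0 : ∀ y : G, orderOf y = p ^ (a + 1) → y ^ (p ^ (a + 1)) = 1 := by
    intro y hy
    rw [← hy]; exact pow_orderOf_eq_one y
  have G1 : ∀ y z : G, orderOf y = p ^ (a + 1) → Commute z y → z ^ s = 1 →
      (y * z) ^ (p ^ (a + 1) * s) = 1 := by
    intro y z hy hc hz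
    rw [hc.symm.mul_pow, pow_one_of_dvd (G0 y hy) (dvd_mul_right _ s),
      pow_one_of_dvd hz (dvd_mul_left s _), one_mul]
  have G2 : ∀ y z : G, orderOf y = p ^ (a + 1) → Commute z y → z ^ s = 1 →
      (y * z) ^ (p ^ a * s) ≠ 1 := by
    intro y z hy hc hz h
    rw [hc.symm.mul_pow, pow_one_of_dvd hz (dvd_mul_left s _), mul_one] at h
    have h1 : p ^ (a + 1) ∣ p ^ a * s := by
      rw [← hy]; exact orderOf_dvd_of_pow_eq_one h
    rw [pow_succ] at h1
    exact hps (Nat.dvd_of_mul_dvd_mul_left (pow_pos hp.out.pos a) h1)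
  have G3 : ∀ y z : G, orderOf y = p ^ (a + 1) → Commute z y → z ^ s = 1 →
      (y * z) ^ u = y := by
    intro y z hy hc hz
    rw [hc.symm.mul_pow, pow_one_of_dvd hz hsu, mul_one]
    exact pow_self_of_modEq (G0 y hy) hu1
  have G4 : ∀ y z : G, orderOf y = p ^ (a + 1) → Commute z y → z ^ s = 1 →
      (y * z) ^ v = z := by
    intro y z hy hc hz
    rw [hc.symm.mul_pow, pow_one_of_dvd (G0 y hy) hqv, one_mul]
    exact pow_self_of_modEq hz hv1
  apply Nat.card_congr
  exact
    { toFun := fun x => ⟨(x.1 ^ u, x.1 ^ v), F2 x.1 x.2.1 x.2.2,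
        (Commute.refl x.1).pow_pow v u, F3 x.1 x.2.1⟩
      invFun := fun yz => ⟨yz.1.1 * yz.1.2, G1 _ _ yz.2.1 yz.2.2.1 yz.2.2.2,
        G2 _ _ yz.2.1 yz.2.2.1 yz.2.2.2⟩
      left_inv := fun x => Subtype.ext (F1 x.1 x.2.1)
      right_inv := fun yz => Subtype.ext (Prod.ext (G3 _ _ yz.2.1 yz.2.2.1 yz.2.2.2)
        (G4 _ _ yz.2.1 yz.2.2.1 yz.2.2.2)) }

lemma card_B_sum {G : Type*} [Group G] [Fintype G] (p a s : ℕ) [hp : Fact p.Prime]
    (hps : ¬ p ∣ s) :
    Nat.card {x : G // x ^ (p ^ (a + 1) * s) = 1 ∧ x ^ (p ^ a * s) ≠ 1} =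
    ∑ y : G, Nat.card {z : G // orderOf y = p ^ (a + 1) ∧ Commute z y ∧ z ^ s = 1} := by
  rw [card_B_eq p a s hps,
    Nat.card_congr (Equiv.subtypeProdEquivSigmaSubtype
      (fun (y z : G) => orderOf y = p ^ (a + 1) ∧ Commute z y ∧ z ^ s = 1)),
    Nat.card_sigma]

lemma arith1 (p a s o : ℕ) (hp : p.Prime) (h1 : o ∣ p ^ (a + 1) * s) (h2 : ¬ o ∣ p ^ a * s) :
    p ^ (a + 1) ∣ o := by
  obtain ⟨e, he, hg⟩ := (Nat.dvd_prime_pow hp).mp (Nat.gcd_dvd_right o (p ^ (a + 1)))
  by_cases hea : e = a + 1
  · rw [hea] at hg; rw [← hg]; exact Nat.gcd_dvd_left _ _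
  · exfalso; apply h2
    have h3 : o ∣ Nat.gcd o (p ^ (a + 1)) * Nat.gcd o s :=
      Nat.dvd_gcd_mul_gcd_iff_dvd_mul.mpr h1
    rw [hg] at h3
    exact h3.trans (mul_dvd_mul (pow_dvd_pow p (by omega)) (Nat.gcd_dvd_right _ _))

theorem frob_aux : ∀ (N : ℕ) (G : Type u) [Group G] [Finite G], Nat.card G = N →
    ∀ m : ℕ, m ∣ N → m ∣ Nat.card {g : G // g ^ m = 1} := by
  intro N
  induction N using Nat.strong_induction_on with
  | _ N ihN =>
    intro G _ _ hGN
    have hNpos : 0 < N := hGN ▸ Nat.card_pos
    have ihgcd : ∀ (H : Type u) [Group H] [Finite H], Nat.card H < N → ∀ m : ℕ,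
        Nat.gcd m (Nat.card H) ∣ Nat.card {h : H // h ^ m = 1} := by
      intro H _ _ hlt m
      have h1 := ihN (Nat.card H) hlt H rfl (Nat.gcd m (Nat.card H)) (Nat.gcd_dvd_right _ _)
      have h2 : Nat.card {h : H // h ^ (Nat.gcd m (Nat.card H)) = 1} =
          Nat.card {h : H // h ^ m = 1} := by
        apply Nat.card_congr
        apply Equiv.subtypeEquivRight
        intro h
        rw [← orderOf_dvd_iff_pow_eq_one, ← orderOf_dvd_iff_pow_eq_one, Nat.dvd_gcd_iff]
        exact ⟨fun h' => h'.1, fun h' => ⟨h', orderOf_dvd_natCard h⟩⟩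
      rwa [h2] at h1
    have down : ∀ k : ℕ, ∀ m : ℕ, m ∣ N → N / m = k →
        m ∣ Nat.card {g : G // g ^ m = 1} := by
      intro k
      induction k using Nat.strong_induction_on with
      | _ k ihk =>
        intro m hmN hk
        have hmpos : 0 < m := Nat.pos_of_dvd_of_pos hmN hNpos
        by_cases hmeq : m = N
        · have h1 : Nat.card {g : G // g ^ m = 1} = N := by
            rw [← hGN]
            apply Nat.card_congr
            apply Equiv.subtypeUnivEquiv
            intro g
            rw [hmeq, ← hGN]; exact pow_card_eq_one'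
          rw [h1]; exact hmN
        · have hk2 : N / m ≠ 1 := by
            intro h1
            apply hmeq
            have := Nat.div_mul_cancel hmN
            rw [h1, one_mul] at this
            exact this
          set p := (N / m).minFac with hp_def
          have hp : p.Prime := Nat.minFac_prime hk2
          haveI : Fact p.Prime := ⟨hp⟩
          have hpd : p ∣ N / m := Nat.minFac_dvd _
          have hmpN : m * p ∣ N := Nat.mul_dvd_of_dvd_div hmN hpd
          have hlt : N / (m * p) < k := by
            rw [← hk, ← Nat.div_div_eq_div_mul]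
            apply Nat.div_lt_self _ hp.one_lt
            exact Nat.div_pos (Nat.le_of_dvd hNpos hmN) hmpos
          have ih1 := ihk (N / (m * p)) hlt (m * p) hmpN rfl
          obtain ⟨a, s, hps, hms⟩ := Nat.exists_eq_pow_mul_and_not_dvd hmpos.ne' p hp.ne_one
          have hmp : m * p = p ^ (a + 1) * s := by rw [hms, pow_succ]; ring
          have hqsN : p ^ (a + 1) * s ∣ N := hmp ▸ hmpN
          have hco' : Nat.Coprime (p ^ (a + 1)) s :=
            Nat.Coprime.pow_left _ ((Nat.Prime.coprime_iff_not_dvd hp).mpr hps)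
          have hco : Nat.Coprime (p ^ a) s :=
            Nat.Coprime.pow_left _ ((Nat.Prime.coprime_iff_not_dvd hp).mpr hps)
          have hsplit : Nat.card {g : G // g ^ (m * p) = 1} =
              Nat.card {g : G // g ^ m = 1} +
                Nat.card {g : G // g ^ (m * p) = 1 ∧ g ^ m ≠ 1} := by
            have hU : {g : G | g ^ (m * p) = 1} =
                {g : G | g ^ m = 1} ∪ {g : G | g ^ (m * p) = 1 ∧ g ^ m ≠ 1} := by
              ext g
              simp only [Set.mem_ofPred_eq, Set.mem_union]
              constructor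
              · intro h
                by_cases h' : g ^ m = 1
                · exact Or.inl h'
                · exact Or.inr ⟨h, h'⟩
              · rintro (h | h)
                · rw [pow_mul, h, one_pow]
                · exact h.1
            have hD : Disjoint {g : G | g ^ m = 1} {g : G | g ^ (m * p) = 1 ∧ g ^ m ≠ 1} := by
              rw [Set.disjoint_left]
              intro g h1 h2
              exact h2.2 h1
            have hun := Set.ncard_union_eq hD (Set.toFinite _) (Set.toFinite _)
            rw [← hU] at hun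
            rw [← Nat.card_coe_set_eq, ← Nat.card_coe_set_eq, ← Nat.card_coe_set_eq] at hun
            exact hun
          have hBa : p ^ a ∣ Nat.card
              {g : G // g ^ (p ^ (a + 1) * s) = 1 ∧ g ^ (p ^ a * s) ≠ 1} := by
            have := dvd_card_of_totient
              {g : G | g ^ (p ^ (a + 1) * s) = 1 ∧ g ^ (p ^ a * s) ≠ 1} (p ^ a) ?_ ?_
            · exact this
            · intro x y hxy hx
              have ho : orderOf x = orderOf y := by
                rw [← Nat.card_zpowers, ← Nat.card_zpowers, hxy]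
              simp only [Set.mem_ofPred_eq, ← orderOf_dvd_iff_pow_eq_one, ne_eq] at hx ⊢
              rw [← ho]; exact hx
            · intro x hx
              simp only [Set.mem_ofPred_eq, ← orderOf_dvd_iff_pow_eq_one, ne_eq] at hx
              have h1 : p ^ (a + 1) ∣ orderOf x := arith1 p a s (orderOf x) hp hx.1 hx.2
              have h2 := Nat.totient_dvd_of_dvd h1
              rw [Nat.totient_prime_pow_succ hp] at h2
              exact (dvd_mul_right _ _).trans h2
          have hBs : s ∣ Nat.card
              {g : G // g ^ (p ^ (a + 1) * s) = 1 ∧ g ^ (p ^ a * s) ≠ 1} := by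
            letI := Fintype.ofFinite G
            rw [card_B_sum p a s hps]
            refine dvd_sum_of_invariant (G := ConjAct G) (X := G)
              (fun y => Nat.card {z : G // orderOf y = p ^ (a + 1) ∧ Commute z y ∧ z ^ s = 1})
              s ?_ ?_
            · intro g y
              rw [ConjAct.smul_def]
              set c := ConjAct.ofConjAct g
              symm
              apply Nat.card_congr
              refine (MulAut.conj c).toEquiv.subtypeEquiv (fun z => ?_)
              have h1 : (MulAut.conj c).toEquiv z = c * z * c⁻¹ := rfl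
              have h2 : orderOf (c * y * c⁻¹) = orderOf y := (MulAut.conj c).orderOf_eq y
              rw [h1, h2, Commute.conj_iff, conj_pow, conj_eq_one_iff]
            · intro y
              by_cases hy : orderOf y = p ^ (a + 1)
              · have hidx : (MulAction.stabilizer (ConjAct G) y).index =
                    (Subgroup.centralizer ({y} : Set G)).index := by
                  rw [MulAction.index_stabilizer, ConjAct.orbit_eq_carrier_conjClasses,
                    Cfsg.Agent.S4035.class_index]
                rw [hidx]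
                set C := Subgroup.centralizer ({y} : Set G) with hC
                have hyC : y ∈ C := by rw [hC, Subgroup.mem_centralizer_singleton_iff]
                have hZc : Subgroup.zpowers (⟨y, hyC⟩ : C) ≤ Subgroup.center C := by
                  rw [Subgroup.zpowers_le, Subgroup.mem_center_iff]
                  intro c
                  apply Subtype.ext
                  exact Subgroup.mem_centralizer_singleton_iff.mp c.2
                haveI hZn : (Subgroup.zpowers (⟨y, hyC⟩ : C)).Normal := ⟨fun n hn g => by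
                  have h1 := Subgroup.mem_center_iff.mp (hZc hn) g
                  rw [h1, mul_inv_cancel_right]; exact hn⟩
                have hZcard : Nat.card (Subgroup.zpowers (⟨y, hyC⟩ : C)) = p ^ (a + 1) := by
                  rw [Nat.card_zpowers, Subgroup.orderOf_mk, hy]
                have hq2 : 1 < p ^ (a + 1) := Nat.one_lt_pow (by omega) hp.one_lt
                have hcardC : Nat.card C =
                    Nat.card (C ⧸ Subgroup.zpowers (⟨y, hyC⟩ : C)) * p ^ (a + 1) := by
                  rw [← hZcard]; exact Subgroup.card_eq_card_quotient_mul_card_subgroup _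
                have hCN : C.index * Nat.card C = N := by
                  rw [← hGN]; exact Subgroup.index_mul_card C
                have hCpos : 0 < Nat.card (C ⧸ Subgroup.zpowers (⟨y, hyC⟩ : C)) := Nat.card_pos
                have hlt' : Nat.card (C ⧸ Subgroup.zpowers (⟨y, hyC⟩ : C)) < N := by
                  have h1 : Nat.card C ≤ N := hGN ▸ Subgroup.card_le_card_group C
                  calc Nat.card (C ⧸ Subgroup.zpowers (⟨y, hyC⟩ : C))
                      < Nat.card (C ⧸ Subgroup.zpowers (⟨y, hyC⟩ : C)) * p ^ (a + 1) :=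
                        lt_mul_of_one_lt_right hCpos hq2
                    _ = Nat.card C := hcardC.symm
                    _ ≤ N := h1
                have hI := ihgcd (C ⧸ Subgroup.zpowers (⟨y, hyC⟩ : C)) hlt' s
                have hQ := card_root_quot (Subgroup.zpowers (⟨y, hyC⟩ : C)) hZc s
                  (by rw [hZcard]; exact hco'.symm)
                have hE : Nat.card {z : G // orderOf y = p ^ (a + 1) ∧ Commute z y ∧ z ^ s = 1} =
                    Nat.card {c : C // c ^ s = 1} := by
                  apply Nat.card_congr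
                  exact
                    { toFun := fun z => ⟨⟨z.1,
                        Subgroup.mem_centralizer_singleton_iff.mpr z.2.2.1.eq⟩,
                        Subtype.ext z.2.2.2⟩
                      invFun := fun c => ⟨c.1.1, hy,
                        Subgroup.mem_centralizer_singleton_iff.mp c.1.2, congrArg Subtype.val c.2⟩
                      left_inv := fun z => rfl
                      right_inv := fun c => rfl }
                rw [hE, hQ]
                have h5 : p ^ (a + 1) * s ∣ C.index *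
                    (Nat.card (C ⧸ Subgroup.zpowers (⟨y, hyC⟩ : C)) * p ^ (a + 1)) := by
                  rw [← hcardC, hCN]; exact hqsN
                have h6 : s ∣ C.index * Nat.card (C ⧸ Subgroup.zpowers (⟨y, hyC⟩ : C)) := by
                  apply Nat.dvd_of_mul_dvd_mul_right (pow_pos hp.pos (a + 1))
                  rw [mul_comm s, mul_assoc]; exact h5
                have h7 : s ∣ C.index *
                    Nat.gcd s (Nat.card (C ⧸ Subgroup.zpowers (⟨y, hyC⟩ : C))) := by
                  rw [← Nat.gcd_mul_left]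
                  exact Nat.dvd_gcd (dvd_mul_left s _) h6
                exact h7.trans (mul_dvd_mul_left _ hI)
              · have hempty : IsEmpty
                    {z : G // orderOf y = p ^ (a + 1) ∧ Commute z y ∧ z ^ s = 1} :=
                  ⟨fun z => hy z.2.1⟩
                rw [Nat.card_of_isEmpty, mul_zero]; exact dvd_zero s
          have hB : m ∣ Nat.card {g : G // g ^ (m * p) = 1 ∧ g ^ m ≠ 1} := by
            have h1 := Nat.Coprime.mul_dvd_of_dvd_of_dvd hco hBa hBs
            rw [← hms, ← hmp] at h1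
            exact h1
          have h3 : m ∣ Nat.card {g : G // g ^ (m * p) = 1} := (dvd_mul_right m p).trans ih1
          rw [hsplit] at h3
          simpa using Nat.dvd_sub h3 hB
    intro m hm
    exact down (N / m) m hm rfl

theorem result {G : Type*} [Group G] [Finite G] (m : ℕ) (hm : m ∣ Nat.card G) :
    m ∣ Nat.card {g : G // g ^ m = 1} :=
  frob_aux (Nat.card G) G rfl m hm

end Cfsg.Agent.S3993
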