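import Mathlib
import Cfsg.Statements.S4004
import Cfsg.Agent.S3995
import Cfsg.Agent.S3993
import Cfsg.Agent.S0041
import Cfsg.Agent.S0043
import Cfsg.Agent.S0144

set_option autoImplicit false
open Cfsg

namespace Cfsg.Agent.S4004

open Subgroup Cfsg.Agent.S3995

section arith

lemma zmod_two_ne (p : ℕ) [hp : Fact p.Prime] (hp2 : p ≠ 2) : (2 : ZMod p) ≠ 0 := by
  intro h
  have h1 : ((2 : ℕ) : ZMod p) = 0 := by exact_mod_cast h
  rw [ZMod.natCast_eq_zero_iff] at h1
  have h2 := Nat.le_of_dvd (by norm_num) h1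
  have h3 := hp.out.two_le
  omega

lemma zmod_one_ne_neg (p : ℕ) [hp : Fact p.Prime] (hp2 : p ≠ 2) : (1 : ZMod p) ≠ -1 := by
  intro h
  apply zmod_two_ne p hp2
  linear_combination h

lemma zmod_neg_one_ne_zero (p : ℕ) [hp : Fact p.Prime] : (-1 : ZMod p) ≠ 0 := by
  simp

end arith

section
variable {G : Type*} [Group G] [Finite G]

lemma odd_prime_ne_two (hodd : Odd (Nat.card G)) {p : ℕ} (hpG : p ∣ Nat.card G) : p ≠ 2 := by
  rintro rfl
  rw [Nat.odd_iff] at hodd
  omega

lemma cnt_prime_pos (p : ℕ) [hp : Fact p.Prime] (hpG : p ∣ Nat.card G) : 0 < cnt G p := by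
  obtain ⟨x, hx⟩ := exists_prime_orderOf_dvd_card' p hpG
  exact cnt_pos x hx

/-- `p ∣ 1 + c p` as a `ZMod` statement -/
lemma zcnt_prime (p : ℕ) [hp : Fact p.Prime] (hpG : p ∣ Nat.card G) :
    ((cnt G p : ℕ) : ZMod p) = -1 := by
  have h := dvd_one_add_cnt (G := G) p hpG
  have h2 : ((1 + cnt G p : ℕ) : ZMod p) = 0 := (ZMod.natCast_eq_zero_iff _ _).2 h
  push_cast at h2
  linear_combination h2

lemma card_pq (p q : ℕ) [hp : Fact p.Prime] [hq : Fact q.Prime] (hpq : p ≠ q) :
    Nat.card {g : G // g ^ (p * q) = 1} = 1 + cnt G p + cnt G q + cnt G (p * q) := by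
  have hp2 := hp.out.two_le
  have hq2 := hq.out.two_le
  have h2 := card_root_eq_sum (G := G) (p * q) [1, p, q, p * q]
    (nodup4 (by omega) (by omega) (by nlinarith) hpq (by nlinarith) (by nlinarith))
    (by
      intro m hm
      simp only [List.mem_cons, List.not_mem_nil, or_false] at hm
      rcases hm with rfl | rfl | rfl | rfl
      · exact one_dvd _
      · exact dvd_mul_right _ _
      · exact dvd_mul_left _ _
      · exact dvd_rfl)
    (fun m hm => dvd_mul_primes hp.out hq.out hm)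
  rw [h2]
  simp only [List.map_cons, List.map_nil, List.sum_cons, List.sum_nil, cnt_one]
  ring

/-- `d = p * q` -/
lemma zcnt_mul (p q : ℕ) [hp : Fact p.Prime] [hq : Fact q.Prime] (hpq : p ≠ q)
    (hpG : p ∣ Nat.card G) :
    (1 : ZMod p) + (cnt G p : ZMod p) + (cnt G q : ZMod p) + (cnt G (p * q) : ZMod p) = 0 := by
  have h1 := prime_dvd_card_root (G := G) p (p * q) hpG (dvd_mul_right p q)
  rw [card_pq p q hpq] at h1
  have h3 := (ZMod.natCast_eq_zero_iff _ _).2 h1
  push_cast at h3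
  exact h3

lemma card_psq (p : ℕ) [hp : Fact p.Prime] :
    Nat.card {g : G // g ^ (p ^ 2) = 1} = 1 + cnt G p + cnt G (p ^ 2) := by
  have hp2 := hp.out.two_le
  have h2 := card_root_eq_sum (G := G) (p ^ 2) [1, p, p ^ 2]
    (nodup3 (by omega) (by nlinarith) (by nlinarith))
    (by
      intro m hm
      simp only [List.mem_cons, List.not_mem_nil, or_false] at hm
      rcases hm with rfl | rfl | rfl
      · exact one_dvd _
      · exact dvd_pow_self _ two_ne_zero
      · exact dvd_rfl)
    (by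
      intro m hm
      obtain ⟨j, hj, rfl⟩ := (Nat.dvd_prime_pow hp.out).1 hm
      interval_cases j <;> simp)
  rw [h2]
  simp only [List.map_cons, List.map_nil, List.sum_cons, List.sum_nil, cnt_one]
  ring

lemma zcnt_sq (p : ℕ) [hp : Fact p.Prime] (hpG : p ∣ Nat.card G) :
    (1 : ZMod p) + (cnt G p : ZMod p) + (cnt G (p ^ 2) : ZMod p) = 0 := by
  have h1 := prime_dvd_card_root (G := G) p (p ^ 2) hpG (dvd_pow_self p two_ne_zero)
  rw [card_psq p] at h1
  have h3 := (ZMod.natCast_eq_zero_iff _ _).2 h1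
  push_cast at h3
  exact h3

lemma card_pow_root (p : ℕ) [hp : Fact p.Prime] (hno : cnt G (p ^ 2) = 0) (k : ℕ) (hk : 1 ≤ k) :
    Nat.card {g : G // g ^ (p ^ k) = 1} = 1 + cnt G p := by
  have hp2 := hp.out.two_le
  have h1 : Nat.card {g : G // g ^ (p ^ k) = 1} = Nat.card {g : G // g ^ p = 1} := by
    apply Nat.card_congr
    apply Equiv.subtypeEquivRight
    intro g
    constructor
    · intro hg
      by_cases hg1 : g = 1
      · rw [hg1, one_pow]
      · obtain ⟨j, _, hj⟩ := (Nat.dvd_prime_pow hp.out).1 (orderOf_dvd_of_pow_eq_one hg)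
        have := order_eq_prime hp.out hno g j hj hg1
        rw [← this]
        exact pow_orderOf_eq_one g
    · intro hg
      obtain ⟨k', rfl⟩ : ∃ k', k = k' + 1 := ⟨k - 1, by omega⟩
      rw [pow_succ', pow_mul, hg, one_pow]
  rw [h1]
  have h2 := card_root_eq_sum (G := G) p [1, p]
    (by simp; omega)
    (by
      intro m hm
      simp only [List.mem_cons, List.not_mem_nil, or_false] at hm
      rcases hm with rfl | rfl
      · exact one_dvd _
      · exact dvd_rfl)
    (by
      intro m hm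
      rcases (Nat.dvd_prime hp.out).1 hm with rfl | rfl <;> simp)
  rw [h2]
  simp only [List.map_cons, List.map_nil, List.sum_cons, List.sum_nil, cnt_one]
  ring

lemma prime_pow_dvd (p : ℕ) [hp : Fact p.Prime] (hpG : p ∣ Nat.card G) (hno : cnt G (p ^ 2) = 0) :
    p ^ (Nat.card G).factorization p ∣ 1 + cnt G p := by
  have hn0 : Nat.card G ≠ 0 := Nat.card_pos.ne'
  have hpos : 1 ≤ (Nat.card G).factorization p :=
    hp.out.factorization_pos_of_dvd hn0 hpG
  have h1 := Cfsg.Agent.S3993.result (G := G) (p ^ (Nat.card G).factorization p)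
    (Nat.ordProj_dvd _ _)
  rwa [card_pow_root p hno _ hpos] at h1

/-- conjugation action of a subgroup on the elements of order `m`. -/
def conjAct (R : Subgroup G) (m : ℕ) : MulAction R {g : G // orderOf g = m} where
  smul a g := ⟨(a : G) * g.1 * (a : G)⁻¹, by
    have h := (MulAut.conj (a : G)).orderOf_eq g.1
    rw [MulAut.conj_apply] at h
    rw [h, g.2]⟩
  one_smul g := Subtype.ext (by show ((1 : R) : G) * g.1 * ((1 : R) : G)⁻¹ = g.1; simp)
  mul_smul a b g := Subtype.ext (by
    show ((a * b : R) : G) * g.1 * ((a * b : R) : G)⁻¹ = (a : G) * ((b : G) * g.1 * (b : G)⁻¹) * (a : G)⁻¹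
    rw [Subgroup.coe_mul]; group)

lemma exists_fixed (r : ℕ) [hr : Fact r.Prime] (z : G) (hz : orderOf z = r) (m : ℕ)
    (hnd : ¬ r ∣ cnt G m) : ∃ w : G, orderOf w = m ∧ Commute z w := by
  have hzp : IsPGroup r (zpowers z) := by
    apply IsPGroup.of_card (n := 1)
    rw [Nat.card_zpowers, hz, pow_one]
  obtain ⟨R, hR⟩ := hzp.exists_le_sylow
  let _ := conjAct (R : Subgroup G) m
  have h1 := (R.isPGroup').card_modEq_card_fixedPoints {g : G // orderOf g = m}
  have h2 : Nonempty (MulAction.fixedPoints (R : Subgroup G) {g : G // orderOf g = m}) := by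
    by_contra hne
    rw [not_nonempty_iff] at hne
    have h0 : Nat.card (MulAction.fixedPoints (R : Subgroup G) {g : G // orderOf g = m}) = 0 :=
      Nat.card_of_isEmpty
    rw [h0] at h1
    exact hnd ((Nat.modEq_zero_iff_dvd).1 h1)
  obtain ⟨⟨w, hw⟩⟩ := h2
  refine ⟨w.1, w.2, ?_⟩
  have h3 := hw ⟨z, hR (mem_zpowers z)⟩
  have h4 : z * w.1 * z⁻¹ = w.1 := congrArg Subtype.val h3
  show z * w.1 = w.1 * z
  calc z * w.1 = z * w.1 * z⁻¹ * z := by group
    _ = w.1 * z := by rw [h4]

lemma fp_bound (p : ℕ) [hp : Fact p.Prime] (m : ℕ) (hm : 1 < m) (hodd : Odd m)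
    (hcop : Nat.Coprime m p) (hnd : ¬ p ∣ cnt G m) : 2 * cnt G p ≤ cnt G (m * p) := by
  classical
  have hex : ∀ z : {g : G // orderOf g = p}, ∃ w : G, orderOf w = m ∧ Commute z.1 w :=
    fun z => exists_fixed p z.1 z.2 m hnd
  choose w hw1 hw2 using hex
  have hk : ∀ i : Fin 2, Nat.Coprime m (i.1 + 1) := by
    intro i
    fin_cases i
    · simp
    · show Nat.Coprime m 2
      exact Nat.coprime_two_right.mpr hodd
  have hord : ∀ (z : {g : G // orderOf g = p}) (i : Fin 2), orderOf (w z ^ (i.1 + 1)) = m := by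
    intro z i
    rw [Nat.Coprime.orderOf_pow (by rw [hw1 z]; exact hk i), hw1 z]
  have hcomm : ∀ (z : {g : G // orderOf g = p}) (i : Fin 2), Commute (w z ^ (i.1 + 1)) z.1 :=
    fun z i => ((hw2 z).symm).pow_left _
  let f : {g : G // orderOf g = p} × Fin 2 → {g : G // orderOf g = m * p} := fun x =>
    ⟨w x.1 ^ (x.2.1 + 1) * x.1.1, by
      rw [(hcomm x.1 x.2).orderOf_mul_eq_mul_orderOf_of_coprime
        (by rw [hord x.1 x.2, x.1.2]; exact hcop), hord x.1 x.2, x.1.2]⟩
  have hp1 : 1 < p := hp.out.one_lt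
  obtain ⟨k, _, hk1⟩ := Nat.exists_mul_mod_eq_one_of_coprime hcop hp1
  have hrec : ∀ (z : {g : G // orderOf g = p}) (i : Fin 2),
      ((w z ^ (i.1 + 1) * z.1) ^ m) ^ k = z.1 := by
    intro z i
    rw [(hcomm z i).mul_pow]
    have h1 : (w z ^ (i.1 + 1)) ^ m = 1 := by
      rw [← hord z i]; exact pow_orderOf_eq_one _
    rw [h1, one_mul, ← pow_mul, ← pow_mod_orderOf, z.2, hk1, pow_one]
  have hf : Function.Injective f := by
    rintro ⟨z, i⟩ ⟨z', i'⟩ hzz
    have h1 : w z ^ (i.1 + 1) * z.1 = w z' ^ (i'.1 + 1) * z'.1 := congrArg Subtype.val hzz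
    have h2 : z.1 = z'.1 := by
      rw [← hrec z i, ← hrec z' i', h1]
    have h3 : z = z' := Subtype.ext h2
    subst h3
    have h4 : w z ^ (i.1 + 1) = w z ^ (i'.1 + 1) := mul_right_cancel h1
    have h5 : i = i' := by
      by_contra hne
      have hw1' : w z ≠ 1 := by
        intro h1'
        have := hw1 z
        rw [h1', orderOf_one] at this
        omega
      fin_cases i <;> fin_cases i'
      · exact hne rfl
      · apply hw1'
        have h6 : w z ^ 1 = w z ^ 2 := h4
        rw [pow_one, pow_two] at h6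
        exact (mul_eq_left.1 h6.symm)
      · apply hw1'
        have h6 : w z ^ 2 = w z ^ 1 := h4
        rw [pow_one, pow_two] at h6
        exact (mul_eq_left.1 h6)
      · exact hne rfl
    rw [h5]
  have h1 := Nat.card_le_card_of_injective f hf
  rw [Nat.card_prod, Nat.card_fin] at h1
  unfold cnt
  omega

lemma fp2 (p q : ℕ) [hp : Fact p.Prime] [hq : Fact q.Prime] (hpq : p ≠ q)
    (hqG : q ∣ Nat.card G) (h0 : cnt G (p * q) = 0) : q ∣ cnt G (p ^ 2) := by
  by_contra hnd
  obtain ⟨y, hy⟩ := exists_prime_orderOf_dvd_card' q hqG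
  obtain ⟨g, hg, hc⟩ := exists_fixed q y hy (p ^ 2) hnd
  have h1 : orderOf (g ^ p) = p := by
    rw [orderOf_pow_of_dvd hp.out.ne_zero (by rw [hg]; exact dvd_pow_self p two_ne_zero), hg,
      pow_two, Nat.mul_div_cancel _ hp.out.pos]
  have h2 : Commute (g ^ p) y := (hc.symm).pow_left p
  have h3 : orderOf (g ^ p * y) = p * q := by
    rw [h2.orderOf_mul_eq_mul_orderOf_of_coprime
      (by rw [h1, hy]; exact (Nat.coprime_primes hp.out hq.out).2 hpq), h1, hy]
  exact (cnt_pos _ h3).ne' h0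

/-- pigeonhole form of the three-values hypothesis. -/
def P3 (G : Type*) [Group G] : Prop :=
  ∀ m1 m2 m3 : ℕ, 1 < m1 → 1 < m2 → 1 < m3 → cnt G m1 ≠ 0 → cnt G m2 ≠ 0 → cnt G m3 ≠ 0 →
    cnt G m1 = cnt G m2 ∨ cnt G m1 = cnt G m3 ∨ cnt G m2 = cnt G m3

lemma three_vals (hodd : Odd (Nat.card G))
    (h : ((fun m : ℕ => Nat.card {g : G // orderOf g = m}) '' Set.range (orderOf : G → ℕ)).ncard = 3) :
    P3 G := by
  obtain ⟨x, y, z, hxy, hxz, hyz, hs⟩ := Set.ncard_eq_three.1 h
  have hmem : ∀ m : ℕ, 1 < m → cnt G m ≠ 0 →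
      (cnt G m = x ∨ cnt G m = y ∨ cnt G m = z) ∧ cnt G m ≠ 1 := by
    intro m hm hc
    have hex : ∃ g : G, orderOf g = m := by
      by_contra hne
      push Not at hne
      exact hc (cnt_eq_zero hne)
    obtain ⟨g, hg⟩ := hex
    have hoddm : Odd m := by
      rw [← hg]
      exact Odd.of_dvd_nat hodd (orderOf_dvd_natCard g)
    have hm3 : 3 ≤ m := by
      rcases hoddm with ⟨t, ht⟩
      omega
    have h1 : cnt G m ∈ ((fun m : ℕ => Nat.card {g : G // orderOf g = m}) ''
        Set.range (orderOf : G → ℕ)) := ⟨m, ⟨g, hg⟩, rfl⟩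
    rw [hs] at h1
    simp only [Set.mem_insert_iff, Set.mem_singleton_iff] at h1
    exact ⟨h1, cnt_ne_one hm3 g hg⟩
  have h1 : (1 : ℕ) ∈ ((fun m : ℕ => Nat.card {g : G // orderOf g = m}) ''
      Set.range (orderOf : G → ℕ)) := ⟨1, ⟨1, orderOf_one⟩, cnt_one⟩
  rw [hs] at h1
  simp only [Set.mem_insert_iff, Set.mem_singleton_iff] at h1
  intro m1 m2 m3 hm1 hm2 hm3 hc1 hc2 hc3
  obtain ⟨ha, ha1⟩ := hmem m1 hm1 hc1
  obtain ⟨hb, hb1⟩ := hmem m2 hm2 hc2
  obtain ⟨hc, hc1'⟩ := hmem m3 hm3 hc3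
  omega

lemma L1 (p q : ℕ) [hp : Fact p.Prime] [hq : Fact q.Prime] (hpq : p ≠ q)
    (hpG : p ∣ Nat.card G) (heq : cnt G p = cnt G q) : (cnt G (p * q) : ZMod p) = 1 := by
  have hu := zcnt_prime (G := G) p hpG
  have h1 := zcnt_mul (G := G) p q hpq hpG
  rw [← heq] at h1
  linear_combination h1 - 2 * hu

lemma T1 (hodd : Odd (Nat.card G)) (hP3 : P3 G) (p q r : ℕ) [hp : Fact p.Prime]
    [hq : Fact q.Prime] [hr : Fact r.Prime] (hpq : p ≠ q) (hpr : p ≠ r)
    (hpG : p ∣ Nat.card G) (hrG : r ∣ Nat.card G)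
    (heq : cnt G p = cnt G q) : cnt G r = cnt G p := by
  have hp2 := odd_prime_ne_two hodd hpG
  have hp1 := hp.out.one_lt
  have hq1 := hq.out.one_lt
  have hr1 := hr.out.one_lt
  have hu : (cnt G p : ZMod p) = -1 := zcnt_prime p hpG
  have hv : (cnt G (p * q) : ZMod p) = 1 := L1 p q hpq hpG heq
  have hv0 : cnt G (p * q) ≠ 0 := by
    intro h0
    rw [h0] at hv
    simp at hv
  have hvu : cnt G p ≠ cnt G (p * q) := by
    intro h
    rw [h] at hu
    rw [hu] at hv
    exact zmod_one_ne_neg p hp2 hv.symm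
  have hcp : cnt G p ≠ 0 := (cnt_prime_pos p hpG).ne'
  have hcr : cnt G r ≠ 0 := (cnt_prime_pos r hrG).ne'
  rcases hP3 p (p * q) r hp1 (by nlinarith) hr1 hcp hv0 hcr with h1 | h1 | h1
  · exact absurd h1 hvu
  · exact h1.symm
  · exfalso
    have hrv : (cnt G r : ZMod p) = 1 := by rw [← h1]; exact hv
    have hpr' := zcnt_mul (G := G) p r hpr hpG
    have hw : (cnt G (p * r) : ZMod p) = -1 := by linear_combination hpr' - hu - hrv
    have hw0 : cnt G (p * r) ≠ 0 := by
      intro h0
      rw [h0] at hw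
      simp at hw
    have hwv : cnt G (p * q) ≠ cnt G (p * r) := by
      intro h
      rw [h] at hv
      rw [hv] at hw
      exact zmod_one_ne_neg p hp2 hw
    rcases hP3 p (p * q) (p * r) hp1 (by nlinarith) (by nlinarith) hcp hv0 hw0 with h2 | h2 | h2
    · exact hvu h2
    · have hnd : ¬ p ∣ cnt G r := by
        intro hd
        have h0 : (cnt G r : ZMod p) = 0 := (ZMod.natCast_eq_zero_iff _ _).2 hd
        rw [h0] at hrv
        exact zero_ne_one hrv
      have hroddn : Odd r := Odd.of_dvd_nat hodd hrG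
      have hb := fp_bound (G := G) p r hr1 hroddn
        ((Nat.coprime_primes hr.out hp.out).2 (Ne.symm hpr)) hnd
      rw [mul_comm r p, ← h2] at hb
      omega
    · exact hwv h2

lemma T2 (hodd : Odd (Nat.card G)) (hP3 : P3 G) (p q r : ℕ) [hp : Fact p.Prime]
    [hq : Fact q.Prime] [hr : Fact r.Prime] (hpq : p ≠ q) (hpr : p ≠ r) (hqr : q ≠ r)
    (hpG : p ∣ Nat.card G) (hqG : q ∣ Nat.card G) (hrG : r ∣ Nat.card G) :
    cnt G p = cnt G q ∧ cnt G p = cnt G r := by
  have hcp : cnt G p ≠ 0 := (cnt_prime_pos p hpG).ne'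
  have hcq : cnt G q ≠ 0 := (cnt_prime_pos q hqG).ne'
  have hcr : cnt G r ≠ 0 := (cnt_prime_pos r hrG).ne'
  rcases hP3 p q r hp.out.one_lt hq.out.one_lt hr.out.one_lt hcp hcq hcr with h | h | h
  · exact ⟨h, (T1 hodd hP3 p q r hpq hpr hpG hrG h).symm⟩
  · exact ⟨(T1 hodd hP3 p r q hpr hpq hpG hqG h).symm, h⟩
  · have h1 := T1 hodd hP3 q r p hqr (Ne.symm hpq) hqG hpG h
    exact ⟨h1, h1.trans h⟩

lemma allEq_false (hodd : Odd (Nat.card G)) (hP3 : P3 G) (p q : ℕ) [hp : Fact p.Prime]
    [hq : Fact q.Prime] (hpq : p ≠ q) (hpG : p ∣ Nat.card G) (hqG : q ∣ Nat.card G)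
    (hall : ∀ s : ℕ, s.Prime → s ∣ Nat.card G → cnt G s = cnt G p) : False := by
  have key : ∀ s : ℕ, s.Prime → s ∣ Nat.card G →
      s ^ (Nat.card G).factorization s ∣ 1 + cnt G p := by
    intro s hs hsG
    haveI : Fact s.Prime := ⟨hs⟩
    obtain ⟨t, ht, hts, htG⟩ : ∃ t : ℕ, t.Prime ∧ s ≠ t ∧ t ∣ Nat.card G := by
      by_cases h : s = p
      · exact ⟨q, hq.out, by rw [h]; exact hpq, hqG⟩
      · exact ⟨p, hp.out, h, hpG⟩
    haveI : Fact t.Prime := ⟨ht⟩
    have heq : cnt G s = cnt G t := (hall s hs hsG).trans (hall t ht htG).symm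
    have hs2 := odd_prime_ne_two hodd hsG
    have hs1 := hs.one_lt
    have ht1 := ht.one_lt
    have hu := zcnt_prime (G := G) s hsG
    have hv := L1 (G := G) s t hts hsG heq
    have hsq := zcnt_sq (G := G) s hsG
    have hcs : cnt G s ≠ 0 := (cnt_prime_pos s hsG).ne'
    have hv0 : cnt G (s * t) ≠ 0 := by
      intro h0
      rw [h0] at hv
      simp at hv
    have h0 : cnt G (s ^ 2) = 0 := by
      by_contra hne
      have hz : (cnt G (s ^ 2) : ZMod s) = 0 := by linear_combination hsq - hu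
      rcases hP3 s (s * t) (s ^ 2) hs1 (by nlinarith) (by nlinarith) hcs hv0 hne with h1 | h1 | h1
      · rw [h1] at hu
        rw [hu] at hv
        exact zmod_one_ne_neg s hs2 hv.symm
      · rw [h1] at hu
        rw [hu] at hz
        exact zmod_neg_one_ne_zero s hz
      · rw [h1] at hv
        rw [hv] at hz
        exact one_ne_zero hz
    have h3 := prime_pow_dvd (G := G) s hsG h0
    rwa [hall s hs hsG] at h3
  have hn0 : Nat.card G ≠ 0 := Nat.card_pos.ne'
  have hdvd : Nat.card G ∣ 1 + cnt G p := by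
    rw [← Nat.factorization_le_iff_dvd hn0 (by omega)]
    rw [Finsupp.le_def]
    intro s
    by_cases hs : s.Prime ∧ s ∣ Nat.card G
    · exact (hs.1.pow_dvd_iff_le_factorization (by omega)).1 (key s hs.1 hs.2)
    · have h0 : (Nat.card G).factorization s = 0 := by
        rw [Nat.factorization_eq_zero_iff]
        tauto
      rw [h0]
      exact Nat.zero_le _
  have hle := Nat.le_of_dvd (by omega) hdvd
  have hcard : Nat.card {g : G // g ^ (p * q) = 1} ≤ Nat.card G :=
    Finite.card_subtype_le _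
  rw [card_pq p q hpq] at hcard
  have hcq : cnt G q = cnt G p := hall q hq.out hqG
  have hcp : 0 < cnt G p := cnt_prime_pos p hpG
  omega

lemma pq_zero (hodd : Odd (Nat.card G)) (hP3 : P3 G) (p q : ℕ) [hp : Fact p.Prime]
    [hq : Fact q.Prime] (hpq : p ≠ q) (hpG : p ∣ Nat.card G) (hqG : q ∣ Nat.card G)
    (hne : cnt G p ≠ cnt G q) : cnt G (p * q) = 0 := by
  by_contra h0
  have hp1 := hp.out.one_lt
  have hq1 := hq.out.one_lt
  have hu := zcnt_prime (G := G) p hpG
  have hv := zcnt_prime (G := G) q hqG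
  have h1 := zcnt_mul (G := G) p q hpq hpG
  have h2 := zcnt_mul (G := G) q p (Ne.symm hpq) hqG
  have hcp : 0 < cnt G p := cnt_prime_pos p hpG
  have hcq : 0 < cnt G q := cnt_prime_pos q hqG
  rcases hP3 p q (p * q) hp1 hq1 (by nlinarith) hcp.ne' hcq.ne' h0 with h | h | h
  · exact hne h
  · have hvp : (cnt G q : ZMod p) = 1 := by
      rw [← h] at h1
      linear_combination h1 - 2 * hu
    have hnd : ¬ p ∣ cnt G q := by
      intro hd
      have h0' : (cnt G q : ZMod p) = 0 := (ZMod.natCast_eq_zero_iff _ _).2 hd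
      rw [h0'] at hvp
      exact zero_ne_one hvp
    have hb := fp_bound (G := G) p q hq1 (Odd.of_dvd_nat hodd hqG)
      ((Nat.coprime_primes hq.out hp.out).2 (Ne.symm hpq)) hnd
    rw [mul_comm q p, ← h] at hb
    omega
  · have hup : (cnt G p : ZMod q) = 1 := by
      rw [mul_comm q p, ← h] at h2
      linear_combination h2 - 2 * hv
    have hnd : ¬ q ∣ cnt G p := by
      intro hd
      have h0' : (cnt G p : ZMod q) = 0 := (ZMod.natCast_eq_zero_iff _ _).2 hd
      rw [h0'] at hup
      exact zero_ne_one hup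
    have hb := fp_bound (G := G) q p hp1 (Odd.of_dvd_nat hodd hpG)
      ((Nat.coprime_primes hp.out hq.out).2 hpq) hnd
    rw [← h] at hb
    omega

lemma sq_zero (hP3 : P3 G) (p q : ℕ) [hp : Fact p.Prime]
    [hq : Fact q.Prime] (hpq : p ≠ q) (hpG : p ∣ Nat.card G) (hqG : q ∣ Nat.card G)
    (hne : cnt G p ≠ cnt G q) (h0 : cnt G (p * q) = 0) : cnt G (p ^ 2) = 0 := by
  by_contra hne2
  have hp1 := hp.out.one_lt
  have hq1 := hq.out.one_lt
  have hu := zcnt_prime (G := G) p hpG
  have hsq := zcnt_sq (G := G) p hpG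
  have hz : (cnt G (p ^ 2) : ZMod p) = 0 := by linear_combination hsq - hu
  have hcp : 0 < cnt G p := cnt_prime_pos p hpG
  have hcq : 0 < cnt G q := cnt_prime_pos q hqG
  rcases hP3 p q (p ^ 2) hp1 hq1 (by nlinarith) hcp.ne' hcq.ne' hne2 with h1 | h1 | h1
  · exact hne h1
  · rw [h1] at hu
    rw [hu] at hz
    exact zmod_neg_one_ne_zero p hz
  · have hd := fp2 (G := G) p q hpq hqG h0
    rw [← h1] at hd
    have hv := zcnt_prime (G := G) q hqG
    have h0' : (cnt G q : ZMod q) = 0 := (ZMod.natCast_eq_zero_iff _ _).2 hd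
    rw [h0'] at hv
    exact zmod_neg_one_ne_zero q hv.symm

lemma sylow_exp (p : ℕ) [hp : Fact p.Prime] (hpG : p ∣ Nat.card G) (hno : cnt G (p ^ 2) = 0)
    (P : Sylow p G) : Monoid.exponent ↥(P : Subgroup G) = p := by
  haveI : Nontrivial ↥(P : Subgroup G) := by
    rw [← Finite.one_lt_card_iff_nontrivial]
    have h1 := P.dvd_card_of_dvd_card hpG
    have h2 := Nat.le_of_dvd Nat.card_pos h1
    have h3 := hp.out.two_le
    omega
  rw [Monoid.exponent_eq_prime_iff hp.out]
  intro g hg
  obtain ⟨j, hj⟩ := (IsPGroup.iff_orderOf.1 P.isPGroup') g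
  have h1 : orderOf (g : G) = p ^ j := by rw [Subgroup.orderOf_coe]; exact hj
  have h2 := order_eq_prime hp.out hno (g : G) j h1 (by
    intro h
    apply hg
    exact Subtype.ext h)
  rw [← Subgroup.orderOf_coe]
  exact h2

end

section norm

/-- norm argument (adapted from the Frobenius-action lemma of helper24): `N` normalized by `x`,
the powers `x ^ i` (`0 < i < p`) acting freely on `N`, `C_W(N) = 1`, `gcd(|W|, |N|) = 1` and all
`⟨x⟩`-norms trivial force `W = 1`. -/
theorem norm_arg {F W : Type*} [Group F] [Finite F] [CommGroup W] [Finite W] (φ : F →* MulAut W)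
    (N : Subgroup F) (x : F) (p : ℕ) (hp : 0 < p)
    (hnorm : ∀ i : ℕ, ∀ n ∈ N, x ^ i * n * (x ^ i)⁻¹ ∈ N)
    (hfrob : ∀ i : ℕ, 0 < i → i < p → ∀ n ∈ N, n * x ^ i = x ^ i * n → n = 1)
    (hcop : (Nat.card W).Coprime (Nat.card N))
    (hCN : ∀ w : W, (∀ n ∈ N, φ n w = w) → w = 1)
    (hNm : ∀ w : W, ∏ i ∈ Finset.range p, φ (x ^ i) w = 1) (w : W) : w = 1 := by
  classical
  haveI : Fintype N := Fintype.ofFinite N
  have hN : ∀ w : W, ∏ n : N, φ (n : F) w = 1 := by
    intro w
    apply hCN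
    intro m hm
    rw [map_prod]
    have : ∀ n : N, φ m (φ (n : F) w) = φ ((⟨m, hm⟩ * n : N) : F) w := by
      intro n
      rw [Subgroup.coe_mul, map_mul, MulAut.mul_apply]
    simp_rw [this]
    exact Fintype.prod_equiv (Equiv.mulLeft (⟨m, hm⟩ : N)) _ _ (fun n => rfl)
  have h1 : ∏ n : N, ∏ i ∈ Finset.range p, φ ((n : F) * x ^ i * (n : F)⁻¹) w = 1 := by
    apply Finset.prod_eq_one
    intro n _
    have h2 : ∀ i : ℕ, φ ((n : F) * x ^ i * (n : F)⁻¹) w =
        φ (n : F) (φ (x ^ i) (φ (n : F)⁻¹ w)) := by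
      intro i
      rw [map_mul, map_mul, MulAut.mul_apply, MulAut.mul_apply]
    simp_rw [h2]
    rw [← map_prod, hNm, map_one]
  rw [Finset.prod_comm] at h1
  have h3 : ∀ i ∈ Finset.range p, i ≠ 0 → ∏ n : N, φ ((n : F) * x ^ i * (n : F)⁻¹) w = 1 := by
    intro i hi hi0
    have hip : i < p := Finset.mem_range.1 hi
    have hn' := hnorm i
    have hf' := hfrob i (Nat.pos_of_ne_zero hi0) hip
    generalize x ^ i = h at hn' hf' ⊢
    have hmem : ∀ n : N, (n : F) * h * (n : F)⁻¹ * h⁻¹ ∈ N := by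
      intro n
      have : h * (n : F)⁻¹ * h⁻¹ ∈ N := hn' _ (N.inv_mem n.2)
      have e : (n : F) * h * (n : F)⁻¹ * h⁻¹ = n * (h * (n : F)⁻¹ * h⁻¹) := by
        group
      rw [e]
      exact N.mul_mem n.2 this
    have hinj : Function.Injective (fun n : N => (⟨_, hmem n⟩ : N)) := by
      intro n n' hnn
      have h4 : (n : F) * h * (n : F)⁻¹ * h⁻¹ = (n' : F) * h * (n' : F)⁻¹ * h⁻¹ :=
        congrArg Subtype.val hnn
      have h5 : ((n' : F)⁻¹ * n) * h = h * ((n' : F)⁻¹ * n) := by
        have h6 : (n : F) * h * (n : F)⁻¹ = (n' : F) * h * (n' : F)⁻¹ := mul_right_cancel h4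
        calc ((n' : F)⁻¹ * n) * h = (n' : F)⁻¹ * ((n : F) * h * (n : F)⁻¹) * n := by group
          _ = (n' : F)⁻¹ * ((n' : F) * h * (n' : F)⁻¹) * n := by rw [h6]
          _ = h * ((n' : F)⁻¹ * n) := by group
      have h7 := hf' _ (N.mul_mem (N.inv_mem n'.2) n.2) h5
      apply Subtype.ext
      have : (n : F) = (n' : F) * ((n' : F)⁻¹ * n) := by group
      rw [this, h7, mul_one]
    have hbij : Function.Bijective (fun n : N => (⟨_, hmem n⟩ : N)) :=
      hinj.bijective_of_finite
    have h8 : ∀ n : N, φ ((n : F) * h * (n : F)⁻¹) w =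
        φ (((⟨_, hmem n⟩ : N) : F)) (φ h w) := by
      intro n
      rw [← MulAut.mul_apply, ← map_mul]
      congr 2
      group
    simp_rw [h8]
    rw [Fintype.prod_bijective (fun n : N => (⟨_, hmem n⟩ : N)) hbij
      (fun n => φ (((⟨_, hmem n⟩ : N) : F)) (φ h w)) (fun m => φ (m : F) (φ h w))
      (fun n => rfl)]
    exact hN _
  rw [Finset.prod_eq_single 0 h3 (fun h => absurd (Finset.mem_range.2 hp) h)] at h1
  have h9 : w ^ Nat.card N = 1 := by
    rw [← h1]
    simp [Finset.prod_const, Finset.card_univ, Nat.card_eq_fintype_card]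
  have h10 : orderOf w ∣ Nat.card N := orderOf_dvd_of_pow_eq_one h9
  have h11 : orderOf w ∣ Nat.card W := orderOf_dvd_natCard w
  have h12 : orderOf w = 1 := Nat.eq_one_of_dvd_coprimes hcop h11 h10
  exact orderOf_eq_one_iff.mp h12

lemma pow_formula {F W : Type*} [Group F] [CommGroup W] (ι : W →* F) (φ : F →* MulAut W)
    (hφ : ∀ f w, ι (φ f w) = f * ι w * f⁻¹) (w : W) (x : F) (k : ℕ) :
    (ι w * x) ^ k = ι (∏ i ∈ Finset.range k, φ (x ^ i) w) * x ^ k := by
  induction k with
  | zero => simp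
  | succ k ih =>
    rw [pow_succ, ih, Finset.prod_range_succ, map_mul, hφ, pow_succ]
    generalize x ^ k = h
    group

end norm

section
variable {G : Type*} [Group G] [Finite G]

lemma exists_min_normal [Nontrivial G] : ∃ M : Subgroup G, M.Normal ∧ M ≠ ⊥ ∧
    ∀ K : Subgroup G, K.Normal → K ≤ M → K = ⊥ ∨ K = M := by
  classical
  have hS : ∃ k, ∃ N : Subgroup G, N.Normal ∧ N ≠ ⊥ ∧ Nat.card N = k :=
    ⟨Nat.card (⊤ : Subgroup G), ⊤, inferInstance, top_ne_bot, rfl⟩
  obtain ⟨M, hMn, hM1, hMk⟩ := Nat.find_spec hS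
  refine ⟨M, hMn, hM1, fun K hK hKM => ?_⟩
  by_cases hK1 : K = ⊥
  · exact Or.inl hK1
  · right
    apply Subgroup.eq_of_le_of_card_ge hKM
    rw [hMk]
    exact Nat.find_min' hS ⟨K, hK, hK1, rfl⟩

lemma frob_compl (p q : ℕ) [hp : Fact p.Prime] [hq : Fact q.Prime] (hpq : p ≠ q)
    (hpG : p ∣ Nat.card G) (hqG : q ∣ Nat.card G)
    (hall : ∀ s : ℕ, s.Prime → s ∣ Nat.card G → s = p ∨ s = q)
    (hpq0 : cnt G (p * q) = 0) (hp2 : cnt G (p ^ 2) = 0) (hq2 : cnt G (q ^ 2) = 0)
    (M : Subgroup G) [hMn : M.Normal] (hMc : IsMulCommutative M) (hM1 : M ≠ ⊥)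
    (hMp : ∀ x ∈ M, x ^ p = 1) :
    ∃ C : Subgroup G, Cfsg.IsFrobeniusComplement C ∧ (Nat.card ↥C).Prime := by
  classical
  have hcop : Nat.Coprime p q := (Nat.coprime_primes hp.out hq.out).2 hpq
  have hMord : ∀ w ∈ M, w ≠ 1 → orderOf w = p :=
    fun w hw hw1 => orderOf_eq_prime (hMp w hw) hw1
  have hnc : ∀ a b : G, orderOf a = q → orderOf b = p → ¬ Commute a b := by
    intro a b ha hb hc
    have h3 : orderOf (b * a) = p * q := by
      rw [hc.symm.orderOf_mul_eq_mul_orderOf_of_coprime (by rw [ha, hb]; exact hcop), hb, ha]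
    exact (cnt_pos _ h3).ne' hpq0
  have hqord : ∀ a : G, a ≠ 1 → (∃ j, orderOf a = q ^ j) → orderOf a = q :=
    fun a ha ⟨j, hj⟩ => order_eq_prime hq.out hq2 a j hj ha
  -- `q ^ 2` does not divide the order
  have hq2n : ¬ q ^ 2 ∣ Nat.card G := by
    intro hd
    obtain ⟨A, hA⟩ := Sylow.exists_subgroup_card_pow_prime q hd
    haveI := hMc
    have hcyc : IsCyclic A := by
      refine Cfsg.Agent.S0041.result A M hM1
        (by rw [Subgroup.normalizer_eq_top]; exact le_top) ?_
        (Or.inr ⟨q, q, hq.out, hq.out, by rw [hA]; ring⟩)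
      intro a ha ha1
      have h1 : orderOf a = q := by
        apply hqord a ha1
        have h2 : orderOf a ∣ q ^ 2 := by
          rw [← hA]
          have := orderOf_dvd_natCard (⟨a, ha⟩ : A)
          rwa [Subgroup.orderOf_mk] at this
        obtain ⟨j, _, hj⟩ := (Nat.dvd_prime_pow hq.out).1 h2
        exact ⟨j, hj⟩
      rw [eq_bot_iff]
      intro w hw
      rw [Subgroup.mem_bot]
      by_contra hw1
      have hwc : w ∈ Subgroup.centralizer {a} := hw.2
      rw [Subgroup.mem_centralizer_singleton_iff] at hwc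
      exact hnc a w h1 (hMord w hw.1 hw1) hwc.symm
    obtain ⟨g, hg⟩ := IsCyclic.exists_generator (α := A)
    have h0 := orderOf_eq_card_of_forall_mem_zpowers hg
    have h1 : orderOf (g : G) = q ^ 2 := by rw [Subgroup.orderOf_coe, h0, hA]
    exact (cnt_pos _ h1).ne' hq2
  obtain ⟨y, hy⟩ := exists_prime_orderOf_dvd_card' q hqG
  obtain ⟨C, hCdef⟩ : ∃ C : Subgroup G, C = zpowers y := ⟨_, rfl⟩
  have hyC : y ∈ C := by rw [hCdef]; exact mem_zpowers y
  have hCcard : Nat.card C = q := by rw [hCdef, Nat.card_zpowers, hy]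
  have hCord : ∀ c ∈ C, c ≠ 1 → orderOf c = q := by
    intro c hc hc1
    have h1 : orderOf c ∣ q := by
      rw [← hCcard]
      have := orderOf_dvd_natCard (⟨c, hc⟩ : C)
      rwa [Subgroup.orderOf_mk] at this
    rcases (Nat.dvd_prime hq.out).1 h1 with h | h
    · exact absurd (orderOf_eq_one_iff.1 h) hc1
    · exact h
  have hCgen : ∀ c ∈ C, c ≠ 1 → ∀ c' ∈ C, c' ∈ zpowers c := by
    intro c hc hc1 c' hc'
    have h1 : zpowers c = C := by
      apply Subgroup.eq_of_le_of_card_ge ((Subgroup.zpowers_le).2 hc)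
      rw [Nat.card_zpowers, hCord c hc hc1, hCcard]
    rw [h1]
    exact hc'
  have hMpg : IsPGroup p M := fun g => ⟨1, by
    rw [pow_one]
    exact Subtype.ext (by simpa using hMp g g.2)⟩
  -- the normalizer of `C` is a `p'`-group
  have hNp : ¬ p ∣ Nat.card (normalizer (C : Set G)) := by
    intro hd
    obtain ⟨x, hx⟩ := exists_prime_orderOf_dvd_card' p hd
    have hxG : orderOf (x : G) = p := by rw [Subgroup.orderOf_coe]; exact hx
    let inst : CommGroup ↥M :=
      { (inferInstance : Group ↥M) with mul_comm := fun a b => isMulCommutative_iff.mp hMc a b }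
    have hxpow : ∀ i : ℕ, (x : G) ^ i ∈ normalizer (C : Set G) := fun i => pow_mem x.2 i
    have key := @norm_arg G ↥M _ _ inst _ (MulAut.conjNormal) C (x : G) p hp.out.pos ?_ ?_ ?_ ?_ ?_
    · apply hM1
      rw [eq_bot_iff]
      intro v hv
      exact Subgroup.mem_bot.2 (congrArg Subtype.val (key ⟨v, hv⟩))
    · intro i n hn
      exact (Subgroup.mem_normalizer_iff.1 (hxpow i) n).1 hn
    · intro i hi hip n hn hcomm
      by_contra hn1
      have ho : orderOf ((x : G) ^ i) = p := by
        rw [Nat.Coprime.orderOf_pow, hxG]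
        rw [hxG]
        exact (Nat.Prime.coprime_iff_not_dvd hp.out).2 (Nat.not_dvd_of_pos_of_lt hi hip)
      exact hnc n ((x : G) ^ i) (hCord n hn hn1) ho hcomm
    · obtain ⟨k, hk⟩ := IsPGroup.iff_card.1 hMpg
      rw [hk, hCcard]
      exact Nat.Coprime.pow_left k hcop
    · intro w hw
      have h1 := congrArg Subtype.val (hw y hyC)
      rw [MulAut.conjNormal_apply] at h1
      by_contra hw1
      have hw1' : (w : G) ≠ 1 := fun h => hw1 (Subtype.ext h)
      apply hnc y w hy (hMord w w.2 hw1')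
      show y * (w : G) = w * y
      calc y * (w : G) = y * w * y⁻¹ * y := by group
        _ = w * y := by rw [h1]
    · intro w
      have hf := @pow_formula G ↥M _ inst M.subtype MulAut.conjNormal
        (fun f w => MulAut.conjNormal_apply f w) w (x : G) p
      have hxp : (x : G) ^ p = 1 := by rw [← hxG]; exact pow_orderOf_eq_one _
      rw [hxp, mul_one] at hf
      have h1 : ((w : G) * x) ^ p ∈ M := by
        rw [show ((w : G) * x) ^ p = _ from hf]
        exact Subtype.property _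
      have h2 : ((w : G) * x) ^ (p ^ 2) = 1 := by
        rw [pow_two, pow_mul]
        exact hMp _ h1
      have h3 : ((w : G) * x) ^ p = 1 := by
        by_cases h4 : (w : G) * x = 1
        · rw [h4, one_pow]
        · obtain ⟨j, _, hj⟩ := (Nat.dvd_prime_pow hp.out).1 (orderOf_dvd_of_pow_eq_one h2)
          have := order_eq_prime hp.out hp2 _ j hj h4
          rw [← this]
          exact pow_orderOf_eq_one _
      apply Subtype.ext
      have h5 := hf.symm.trans h3
      exact h5
  have hNcard : Nat.card (normalizer (C : Set G)) = q := by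
    have hCN : C ≤ normalizer (C : Set G) := Subgroup.le_normalizer
    have h1 : q ∣ Nat.card (normalizer (C : Set G)) := by
      rw [← hCcard]
      exact Subgroup.card_dvd_of_le hCN
    obtain ⟨k, hk⟩ := h1
    have h2 : Nat.card (normalizer (C : Set G)) ∣ Nat.card G := Subgroup.card_subgroup_dvd_card _
    have hk1 : k = 1 := by
      by_contra hne
      obtain ⟨s, hs, hsk⟩ := Nat.exists_prime_and_dvd hne
      have hsN : s ∣ Nat.card (normalizer (C : Set G)) := by
        rw [hk]
        exact Dvd.dvd.mul_left hsk q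
      rcases hall s hs (hsN.trans h2) with rfl | rfl
      · exact hNp hsN
      · apply hq2n
        have h3 : s ^ 2 ∣ Nat.card (normalizer (C : Set G)) := by
          rw [hk, pow_two]
          exact Nat.mul_dvd_mul_left s hsk
        exact h3.trans h2
    rw [hk, hk1, mul_one]
  have hNC : ∀ g : G, g ∈ normalizer (C : Set G) → g ∈ C := by
    intro g hg
    have h1 : C = normalizer (C : Set G) := by
      apply Subgroup.eq_of_le_of_card_ge Subgroup.le_normalizer
      rw [hNcard, hCcard]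
    rw [h1]
    exact hg
  refine ⟨C, ⟨?_, ?_, ?_⟩, by rw [hCcard]; exact hq.out⟩
  · intro h
    rw [h, Subgroup.card_bot] at hCcard
    exact hq.out.one_lt.ne hCcard
  · intro h
    have h1 : Nat.card G = q := by rw [← hCcard, h, Subgroup.card_top]
    rw [h1] at hpG
    exact hpq ((Nat.prime_dvd_prime_iff_eq hp.out hq.out).1 hpG)
  · intro g hg
    by_contra hne
    obtain ⟨⟨a, ha⟩, ha1⟩ := (Subgroup.ne_bot_iff_exists_ne_one).1 hne
    have ha1' : a ≠ 1 := fun h => ha1 (Subtype.ext h)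
    have haC : a ∈ C := ha.1
    obtain ⟨c, hcC, hca⟩ := (Subgroup.mem_smul_pointwise_iff_exists _ _ _).1 ha.2
    have hca' : g * c * g⁻¹ = a := by
      rw [← hca, MulAut.smul_def, MulAut.conj_apply]
    have hc1 : c ≠ 1 := by
      intro h
      apply ha1'
      rw [← hca', h]
      group
    apply hg
    apply hNC
    rw [Subgroup.mem_normalizer_iff]
    intro c'
    constructor
    · intro hc'
      obtain ⟨k, hk⟩ := Subgroup.mem_zpowers_iff.1 (hCgen c hcC hc1 c' hc')
      rw [← hk, ← conj_zpow, hca']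
      exact C.zpow_mem haC k
    · intro hc'
      obtain ⟨k, hk⟩ := Subgroup.mem_zpowers_iff.1 (hCgen a haC ha1' _ hc')
      rw [← hca', conj_zpow] at hk
      have h2 : c ^ k = c' := by
        have h3 := mul_left_cancel (mul_right_cancel hk)
        exact h3
      rw [← h2]
      exact C.zpow_mem hcC k

end

/-- Let G be a finite group of odd order in which the numbers of elements of each order that occurs (the numbers #{g : o(g) = m}, m ranging over the element orders of G) take exactly three different values. Then the order of G has at most two prime divisors; and if it has exactly two, then every Sylow subgroup of G for a prime dividing its order has prime exponent, G is a Frobenius group, and some Frobenius complement of G has prime order. -/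
theorem result {G : Type*} [Group G] [Finite G] (hodd : Odd (Nat.card G)) (h : (((fun m : ℕ => Nat.card {g : G // orderOf g = m}) '' Set.range (orderOf : G → ℕ))).ncard = 3) :
    (Nat.card G).primeFactors.card ≤ 2 ∧
      ((Nat.card G).primeFactors.card = 2 →
        (∀ (p : ℕ) [Fact p.Prime] (P : Sylow p G), p ∣ Nat.card G → Monoid.exponent ↥(P : Subgroup G) = p) ∧
        ∃ C : Subgroup G, Cfsg.IsFrobeniusComplement C ∧ (Nat.card ↥C).Prime) := by
  classical
  have hP3 := three_vals hodd h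
  have hn0 : Nat.card G ≠ 0 := Nat.card_pos.ne'
  constructor
  · by_contra hc
    push Not at hc
    obtain ⟨a, b, c, ha, hb, hc', hab, hac, hbc⟩ := Finset.two_lt_card_iff.1 hc
    have hap := Nat.prime_of_mem_primeFactors ha
    have hbp := Nat.prime_of_mem_primeFactors hb
    have hcp := Nat.prime_of_mem_primeFactors hc'
    have haG := Nat.dvd_of_mem_primeFactors ha
    have hbG := Nat.dvd_of_mem_primeFactors hb
    have hcG := Nat.dvd_of_mem_primeFactors hc'
    haveI : Fact a.Prime := ⟨hap⟩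
    haveI : Fact b.Prime := ⟨hbp⟩
    haveI : Fact c.Prime := ⟨hcp⟩
    have hall : ∀ s : ℕ, s.Prime → s ∣ Nat.card G → cnt G s = cnt G a := by
      intro s hs hsG
      haveI : Fact s.Prime := ⟨hs⟩
      by_cases h1 : s = a
      · rw [h1]
      · by_cases h2 : s = b
        · rw [h2]
          exact ((T2 hodd hP3 a b c hab hac hbc haG hbG hcG).1).symm
        · exact ((T2 hodd hP3 a b s hab (Ne.symm h1) (Ne.symm h2) haG hbG hsG).2).symm
    exact allEq_false hodd hP3 a b hab haG hbG hall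
  · intro h2
    obtain ⟨p, q, hpq, hpf⟩ := Finset.card_eq_two.1 h2
    have hpm : p ∈ (Nat.card G).primeFactors := by rw [hpf]; simp
    have hqm : q ∈ (Nat.card G).primeFactors := by rw [hpf]; simp
    have hpp := Nat.prime_of_mem_primeFactors hpm
    have hqp := Nat.prime_of_mem_primeFactors hqm
    have hpG := Nat.dvd_of_mem_primeFactors hpm
    have hqG := Nat.dvd_of_mem_primeFactors hqm
    haveI : Fact p.Prime := ⟨hpp⟩
    haveI : Fact q.Prime := ⟨hqp⟩
    have hall : ∀ s : ℕ, s.Prime → s ∣ Nat.card G → s = p ∨ s = q := by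
      intro s hs hsG
      have h3 : s ∈ (Nat.card G).primeFactors := Nat.mem_primeFactors.2 ⟨hs, hsG, hn0⟩
      rw [hpf] at h3
      simpa using h3
    have hne : cnt G p ≠ cnt G q := by
      intro heq
      apply allEq_false hodd hP3 p q hpq hpG hqG
      intro s hs hsG
      rcases hall s hs hsG with rfl | rfl
      · rfl
      · exact heq.symm
    have hpq0 := pq_zero hodd hP3 p q hpq hpG hqG hne
    have hqp0 : cnt G (q * p) = 0 := by rw [mul_comm]; exact hpq0
    have hp2 := sq_zero hP3 p q hpq hpG hqG hne hpq0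
    have hq2 := sq_zero hP3 q p (Ne.symm hpq) hqG hpG (Ne.symm hne) hqp0
    constructor
    · intro p' hp' P hp'G
      rcases hall p' hp'.out hp'G with rfl | rfl
      · exact sylow_exp p' hp'G hp2 P
      · exact sylow_exp p' hp'G hq2 P
    · have hcard : Nat.card G =
          p ^ (Nat.card G).factorization p * q ^ (Nat.card G).factorization q := by
        conv_lhs => rw [← Nat.prod_factorization_pow_eq_self hn0]
        rw [Finsupp.prod, Nat.support_factorization, hpf, Finset.prod_pair hpq]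
      haveI : Group.IsSolvable G := Cfsg.Agent.S0144.result p q _ _ hpp hqp hcard
      haveI : Nontrivial G := by
        rw [← Finite.one_lt_card_iff_nontrivial]
        have := Nat.le_of_dvd Nat.card_pos hpG
        have := hpp.two_le
        omega
      obtain ⟨M, hMn, hM1, hmin⟩ := exists_min_normal (G := G)
      haveI := hMn
      obtain ⟨hMc, r, hr, hMr⟩ := Cfsg.Agent.S0043.result M hM1 hmin
      haveI : Fact r.Prime := ⟨hr⟩
      obtain ⟨⟨x, hxM⟩, hx1⟩ := (Subgroup.ne_bot_iff_exists_ne_one).1 hM1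
      have hx1' : x ≠ 1 := fun h => hx1 (Subtype.ext h)
      have hxr : orderOf x = r := orderOf_eq_prime (hMr x hxM) hx1'
      have hrG : r ∣ Nat.card G := by rw [← hxr]; exact orderOf_dvd_natCard x
      rcases hall r hr hrG with rfl | rfl
      · exact frob_compl r q hpq hpG hqG hall hpq0 hp2 hq2 M hMc hM1 hMr
      · exact frob_compl r p (Ne.symm hpq) hqG hpG (fun s hs hsG => (hall s hs hsG).symm)
          hqp0 hq2 hp2 M hMc hM1 hMr

end Cfsg.Agent.S4004
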