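import Mathlib
import Cfsg.Statements.S3996
import Cfsg.Agent.S4004

set_option autoImplicit false
open Cfsg

namespace Cfsg.Agent.S3996

open Subgroup Cfsg.Agent.S3995 Cfsg.Agent.S4004

section
variable {G : Type*} [Group G] [Finite G]

/-- the number of elements of order `m ≥ 3` is even. -/
lemma even_cnt {m : ℕ} (hm : 3 ≤ m) : 2 ∣ cnt G m := by
  classical
  unfold cnt
  haveI : Fintype {g : G // orderOf g = m} := Fintype.ofFinite _
  let f : Function.End {g : G // orderOf g = m} :=
    fun g => ⟨g.1⁻¹, by rw [orderOf_inv]; exact g.2⟩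
  have hf : f ^ 2 ^ 1 = 1 := by
    rw [pow_one, pow_two]
    funext g
    apply Subtype.ext
    show (g.1⁻¹)⁻¹ = g.1
    simp
  have h1 := Equiv.Perm.card_fixedPoints_modEq (p := 2) (n := 1) hf
  have h2 : IsEmpty (Function.fixedPoints f) := by
    constructor
    rintro ⟨g, hg⟩
    have h3 : g.1⁻¹ = g.1 := congrArg Subtype.val hg
    have h4 : g.1 ^ 2 = 1 := by
      rw [pow_two]; nth_rewrite 1 [← h3]; exact inv_mul_cancel g.1
    have h5 := orderOf_dvd_of_pow_eq_one h4
    rw [g.2] at h5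
    have := Nat.le_of_dvd (by norm_num) h5
    omega
  have h6 : Fintype.card (Function.fixedPoints f) = 0 := Fintype.card_eq_zero
  rw [h6] at h1
  rw [Nat.card_eq_fintype_card]
  exact (Nat.modEq_zero_iff_dvd).1 h1

/-- the order of `g * h` where `h ∈ zpowers z` commutes with `g`. -/
lemma order_mul_zp (p : ℕ) [hp : Fact p.Prime] (z : G) (hz : orderOf z = p) (m : ℕ) (hm : 0 < m)
    (hcop : Nat.Coprime m p) (h : zpowers z) (g : G) (hc : Commute g z)
    (hg : orderOf g = m ∨ orderOf g = m * p) :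
    orderOf (g * h) = m ∨ orderOf (g * h) = m * p := by
  have hh : (h : G) ^ p = 1 := by
    obtain ⟨k, hk⟩ := mem_zpowers_iff.1 h.2
    rw [← hk, ← zpow_natCast, ← zpow_mul, mul_comm, zpow_mul, zpow_natCast, ← hz,
      pow_orderOf_eq_one, one_zpow]
  have hgh : Commute g (h : G) := by
    obtain ⟨k, hk⟩ := mem_zpowers_iff.1 h.2
    rw [← hk]; exact hc.zpow_right k
  have hgm : g ^ (m * p) = 1 := by
    rcases hg with hg | hg
    · rw [pow_mul, ← hg, pow_orderOf_eq_one, one_pow]
    · rw [← hg, pow_orderOf_eq_one]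
  have h1 : orderOf (g * h) ∣ m * p := by
    apply orderOf_dvd_of_pow_eq_one
    rw [hgh.mul_pow, hgm, one_mul, mul_comm m p, pow_mul, hh, one_pow]
  have hmg : m ∣ orderOf g := by
    rcases hg with hg | hg
    · rw [hg]
    · rw [hg]; exact dvd_mul_right m p
  have h2 : m ∣ orderOf (g * h) := by
    have h3 : g ^ (orderOf (g * h) * p) = 1 := by
      have h4 : (g * h) ^ (orderOf (g * h) * p) = 1 := by
        rw [pow_mul, pow_orderOf_eq_one, one_pow]
      rw [hgh.mul_pow] at h4
      have h5 : (h : G) ^ (orderOf (g * h) * p) = 1 := by rw [mul_comm, pow_mul, hh, one_pow]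
      rw [h5, mul_one] at h4
      exact h4
    have h6 := orderOf_dvd_of_pow_eq_one h3
    exact hcop.dvd_of_dvd_mul_right (hmg.trans h6)
  obtain ⟨j, hj⟩ := h2
  rw [hj] at h1 ⊢
  have h7 : j ∣ p := (Nat.mul_dvd_mul_iff_left hm).1 h1
  rcases (Nat.dvd_prime hp.out).1 h7 with rfl | rfl
  · left; rw [mul_one]
  · right; rfl

/-- the action on the elements of order `m` or `m * p`. -/
noncomputable def actM (p : ℕ) [hp : Fact p.Prime] (z : G) (hz : orderOf z = p) (m : ℕ)
    (hm : 0 < m) (hcop : Nat.Coprime m p) :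
    MulAction (zpowers z) {g : G // orderOf g = m ∨ orderOf g = m * p} where
  smul h g := ⟨act z h g.1, by
    by_cases hc : Commute g.1 z
    · rw [act_pos z h hc]; exact order_mul_zp p z hz m hm hcop h g.1 hc g.2
    · rw [act_neg z h hc]
      have h1 := (MulAut.conj (h : G)).orderOf_eq g.1
      rw [MulAut.conj_apply] at h1
      rw [h1]; exact g.2⟩
  one_smul g := Subtype.ext (act_one z g.1)
  mul_smul h1 h2 g := Subtype.ext (act_mul z h1 h2 g.1)

/-- refined Frobenius congruence: `p ∣ c(m) + c(m p)` for `m` prime to `p`. -/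
lemma dvd_cnt_add (p : ℕ) [hp : Fact p.Prime] (hpG : p ∣ Nat.card G) (m : ℕ) (hm : 0 < m)
    (hcop : Nat.Coprime m p) : p ∣ cnt G m + cnt G (m * p) := by
  classical
  obtain ⟨z, hz⟩ := exists_prime_orderOf_dvd_card' p hpG
  letI := actM p z hz m hm hcop
  have hPG : IsPGroup p (zpowers z) :=
    IsPGroup.of_card (n := 1) (by rw [Nat.card_zpowers, hz, pow_one])
  have hmod := hPG.card_modEq_card_fixedPoints {g : G // orderOf g = m ∨ orderOf g = m * p}
  have hfix : MulAction.fixedPoints (zpowers z) {g : G // orderOf g = m ∨ orderOf g = m * p}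
      = ∅ := by
    ext g
    simp only [MulAction.mem_fixedPoints, Set.mem_empty_iff_false, iff_false]
    intro hfix
    have h1 := hfix ⟨z, mem_zpowers z⟩
    have h2 : act z ⟨z, mem_zpowers z⟩ g.1 = g.1 := congrArg Subtype.val h1
    have hz1 : z ≠ 1 := by
      intro h; rw [h, orderOf_one] at hz; exact hp.out.one_lt.ne hz
    by_cases hc : Commute g.1 z
    · rw [act_pos z _ hc] at h2
      exact hz1 (by simpa using h2)
    · rw [act_neg z _ hc] at h2
      apply hc
      show g.1 * z = z * g.1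
      have h3 := congrArg (· * z) h2
      simp at h3
      exact h3.symm
  rw [hfix] at hmod
  have h0 : Nat.card (∅ : Set {g : G // orderOf g = m ∨ orderOf g = m * p}) = 0 := by simp
  rw [h0] at hmod
  have h1 := (Nat.modEq_zero_iff_dvd).1 hmod
  have h2 : Nat.card {g : G // orderOf g = m ∨ orderOf g = m * p} = cnt G m + cnt G (m * p) := by
    haveI := Fintype.ofFinite G
    unfold cnt
    rw [natCard_subtype, natCard_subtype, natCard_subtype, Finset.filter_or,
      Finset.card_union_of_disjoint]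
    rw [Finset.disjoint_filter]
    intro g _ h3 h4
    rw [h3] at h4
    have := hp.out.two_le
    nlinarith
  rwa [h2] at h1

lemma zcnt_star (p : ℕ) [hp : Fact p.Prime] (hpG : p ∣ Nat.card G) (m : ℕ) (hm : 0 < m)
    (hcop : Nat.Coprime m p) : (cnt G m : ZMod p) + (cnt G (m * p) : ZMod p) = 0 := by
  have h1 := dvd_cnt_add (G := G) p hpG m hm hcop
  have h3 := (ZMod.natCast_eq_zero_iff _ _).2 h1
  push_cast at h3
  exact h3

lemma fp_bound' (p : ℕ) [hp : Fact p.Prime] (m : ℕ) (hm : 3 ≤ m)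
    (hcop : Nat.Coprime m p) (hnd : ¬ p ∣ cnt G m) : 2 * cnt G p ≤ cnt G (m * p) := by
  classical
  have hex : ∀ z : {g : G // orderOf g = p}, ∃ w : G, orderOf w = m ∧ Commute z.1 w :=
    fun z => exists_fixed p z.1 z.2 m hnd
  choose w hw1 hw2 using hex
  let e : Fin 2 → ℕ := fun i => if i = 0 then 1 else m - 1
  have he0 : e 0 = 1 := rfl
  have he1 : e 1 = m - 1 := rfl
  have hk : ∀ i : Fin 2, Nat.Coprime m (e i) := by
    intro i
    fin_cases i
    · show Nat.Coprime m (e 0)
      rw [he0]; exact Nat.coprime_one_right m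
    · show Nat.Coprime m (e 1)
      rw [he1]
      rw [Nat.coprime_self_sub_right (by omega)]
      exact Nat.coprime_one_right m
  have hord : ∀ (z : {g : G // orderOf g = p}) (i : Fin 2), orderOf (w z ^ (e i)) = m := by
    intro z i
    rw [Nat.Coprime.orderOf_pow (by rw [hw1 z]; exact hk i), hw1 z]
  have hcomm : ∀ (z : {g : G // orderOf g = p}) (i : Fin 2), Commute (w z ^ (e i)) z.1 :=
    fun z i => ((hw2 z).symm).pow_left _
  let f : {g : G // orderOf g = p} × Fin 2 → {g : G // orderOf g = m * p} := fun x =>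
    ⟨w x.1 ^ (e x.2) * x.1.1, by
      rw [(hcomm x.1 x.2).orderOf_mul_eq_mul_orderOf_of_coprime
        (by rw [hord x.1 x.2, x.1.2]; exact hcop), hord x.1 x.2, x.1.2]⟩
  have hp1 : 1 < p := hp.out.one_lt
  obtain ⟨k, _, hk1⟩ := Nat.exists_mul_mod_eq_one_of_coprime hcop hp1
  have hrec : ∀ (z : {g : G // orderOf g = p}) (i : Fin 2),
      ((w z ^ (e i) * z.1) ^ m) ^ k = z.1 := by
    intro z i
    rw [(hcomm z i).mul_pow]
    have h1 : (w z ^ (e i)) ^ m = 1 := by
      rw [← hord z i]; exact pow_orderOf_eq_one _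
    rw [h1, one_mul, ← pow_mul, ← pow_mod_orderOf, z.2, hk1, pow_one]
  have hf : Function.Injective f := by
    rintro ⟨z, i⟩ ⟨z', i'⟩ hzz
    have h1 : w z ^ (e i) * z.1 = w z' ^ (e i') * z'.1 := congrArg Subtype.val hzz
    have h2 : z.1 = z'.1 := by
      rw [← hrec z i, ← hrec z' i', h1]
    have h3 : z = z' := Subtype.ext h2
    subst h3
    have h4 : w z ^ (e i) = w z ^ (e i') := mul_right_cancel h1
    have hinj := pow_injOn_Iio_orderOf (x := w z)
    rw [hw1 z] at hinj
    have h5 : i = i' := by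
      by_contra hne
      fin_cases i <;> fin_cases i'
      · exact hne rfl
      · have h6 : w z ^ (e 0) = w z ^ (e 1) := h4
        rw [he0, he1] at h6
        have h7 := hinj (show (1 : ℕ) ∈ Set.Iio m by simp; omega)
          (show m - 1 ∈ Set.Iio m by simp; omega) h6
        omega
      · have h6 : w z ^ (e 1) = w z ^ (e 0) := h4
        rw [he0, he1] at h6
        have h7 := hinj (show m - 1 ∈ Set.Iio m by simp; omega)
          (show (1 : ℕ) ∈ Set.Iio m by simp; omega) h6
        omega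
      · exact hne rfl
    rw [h5]
  have h1 := Nat.card_le_card_of_injective f hf
  rw [Nat.card_prod, Nat.card_fin] at h1
  unfold cnt
  omega

lemma exists_order_four (h4 : 4 ∣ Nat.card G) (z : G)
    (huniq : ∀ x : G, orderOf x = 2 → x = z) : ∃ g : G, orderOf g = 4 := by
  by_contra hno
  push Not at hno
  obtain ⟨K, hK⟩ := Sylow.exists_subgroup_card_pow_prime 2 (n := 2) (G := G)
    (by norm_num; exact h4)
  have hsub : (K : Set G) ⊆ {1, z} := by
    intro k hk
    have h1 : orderOf k ∣ 4 := by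
      have h0 := orderOf_dvd_natCard (⟨k, hk⟩ : K)
      rw [hK, ← Subgroup.orderOf_coe] at h0
      exact h0
    have h2 : orderOf k ≤ 4 := Nat.le_of_dvd (by norm_num) h1
    have h3 : orderOf k ≠ 4 := hno k
    have h5 : orderOf k = 1 ∨ orderOf k = 2 := by
      obtain ⟨o, ho⟩ : ∃ o, o = orderOf k := ⟨_, rfl⟩
      rw [← ho] at h1 h2 h3 ⊢
      interval_cases o <;> omega
    rcases h5 with h5 | h5
    · left; exact orderOf_eq_one_iff.1 h5
    · right; exact huniq k h5
  have hle : Nat.card K ≤ 2 := by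
    have e1 : Nat.card K = (K : Set G).ncard := (Nat.card_coe_set_eq (K : Set G)).symm
    rw [e1]
    refine (Set.ncard_le_ncard hsub (Set.toFinite _)).trans ?_
    refine (Set.ncard_insert_le _ _).trans ?_
    rw [Set.ncard_singleton]
  rw [hK] at hle
  norm_num at hle

lemma solvable_of_two_primes (p q : ℕ) (hp : p.Prime) (hq : q.Prime)
    (hall : ∀ s : ℕ, s.Prime → s ∣ Nat.card G → s = p ∨ s = q) : Group.IsSolvable G := by
  have hn0 : Nat.card G ≠ 0 := Nat.card_pos.ne'
  have h1 : Nat.card G = p ^ (Nat.card G).factorization p *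
      (Nat.card G / p ^ (Nat.card G).factorization p) :=
    (Nat.ordProj_mul_ordCompl_eq_self _ _).symm
  have hc0 : Nat.card G / p ^ (Nat.card G).factorization p ≠ 0 := by
    intro h0
    rw [h0, mul_zero] at h1
    exact hn0 h1
  have h2 := Nat.eq_prime_pow_of_unique_prime_dvd (p := q) hc0 (fun {d} hd hdvd => by
    rcases hall d hd (hdvd.trans (Nat.ordCompl_dvd _ _)) with h | h
    · exfalso; subst h; exact Nat.not_dvd_ordCompl hp hn0 hdvd
    · exact h)
  rw [h2] at h1
  exact Cfsg.Agent.S0144.result p q _ _ hp hq h1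

lemma solvable_of_odd_unique
    (h : ∀ p q : ℕ, p.Prime → q.Prime → p ≠ 2 → q ≠ 2 → p ∣ Nat.card G → q ∣ Nat.card G → p = q) :
    Group.IsSolvable G := by
  by_cases hex : ∃ p : ℕ, p.Prime ∧ p ≠ 2 ∧ p ∣ Nat.card G
  · obtain ⟨p, hp, hp2, hpn⟩ := hex
    apply solvable_of_two_primes 2 p Nat.prime_two hp
    intro s hs hsn
    by_cases hs2 : s = 2
    · exact Or.inl hs2
    · exact Or.inr (h s p hs hp hs2 hp2 hsn hpn)
  · push Not at hex
    apply solvable_of_two_primes 2 2 Nat.prime_two Nat.prime_two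
    intro s hs hsn
    left
    by_contra hs2
    exact hex s hs hs2 hsn

lemma solvable_of_card_le_two (h : (Nat.card G).primeFactors.card ≤ 2) :
    Group.IsSolvable G := by
  classical
  have hn0 : Nat.card G ≠ 0 := Nat.card_pos.ne'
  by_cases hex : ∃ p q : ℕ, p ∈ (Nat.card G).primeFactors ∧ q ∈ (Nat.card G).primeFactors ∧ p ≠ q
  · obtain ⟨p, q, hp, hq, hpq⟩ := hex
    apply solvable_of_two_primes p q (Nat.prime_of_mem_primeFactors hp)
      (Nat.prime_of_mem_primeFactors hq)
    intro s hs hsn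
    by_contra hne
    push Not at hne
    have hsm : s ∈ (Nat.card G).primeFactors := Nat.mem_primeFactors.2 ⟨hs, hsn, hn0⟩
    have h3 : 2 < (Nat.card G).primeFactors.card :=
      Finset.two_lt_card_iff.2 ⟨p, q, s, hp, hq, hsm, hpq, Ne.symm hne.1, Ne.symm hne.2⟩
    omega
  · push Not at hex
    by_cases hex2 : ∃ p : ℕ, p ∈ (Nat.card G).primeFactors
    · obtain ⟨p, hp⟩ := hex2
      apply solvable_of_two_primes p p (Nat.prime_of_mem_primeFactors hp)
        (Nat.prime_of_mem_primeFactors hp)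
      intro s hs hsn
      have hsm : s ∈ (Nat.card G).primeFactors := Nat.mem_primeFactors.2 ⟨hs, hsn, hn0⟩
      left
      exact hex s p hsm hp
    · push Not at hex2
      apply solvable_of_two_primes 2 2 Nat.prime_two Nat.prime_two
      intro s hs hsn
      exact absurd (Nat.mem_primeFactors.2 ⟨hs, hsn, hn0⟩) (hex2 s)

/-- odd order and the pigeonhole property give at most two prime divisors. -/
lemma odd_P3_primes (hodd : Odd (Nat.card G)) (hP3 : P3 G) :
    (Nat.card G).primeFactors.card ≤ 2 := by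
  by_contra hc
  push Not at hc
  obtain ⟨a, b, c, ha, hb, hc', hab, hac, hbc⟩ := Finset.two_lt_card_iff.1 hc
  have hap := Nat.prime_of_mem_primeFactors ha
  have hbp := Nat.prime_of_mem_primeFactors hb
  have hcp := Nat.prime_of_mem_primeFactors hc'
  have haG := Nat.dvd_of_mem_primeFactors ha
  have hbG := Nat.dvd_of_mem_primeFactors hb
  have hcG := Nat.dvd_of_mem_primeFactors hc'
  haveI : Fact a.Prime := ⟨hap⟩
  haveI : Fact b.Prime := ⟨hbp⟩
  haveI : Fact c.Prime := ⟨hcp⟩
  have hall : ∀ s : ℕ, s.Prime → s ∣ Nat.card G → cnt G s = cnt G a := by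
    intro s hs hsG
    haveI : Fact s.Prime := ⟨hs⟩
    by_cases h1 : s = a
    · rw [h1]
    · by_cases h2 : s = b
      · rw [h2]
        exact ((T2 hodd hP3 a b c hab hac hbc haG hbG hcG).1).symm
      · exact ((T2 hodd hP3 a b s hab (Ne.symm h1) (Ne.symm h2) haG hbG hsG).2).symm
  exact allEq_false hodd hP3 a b hab haG hbG hall

lemma cop4 (p : ℕ) [hp : Fact p.Prime] (hp2 : p ≠ 2) : Nat.Coprime 4 p := by
  have h : Nat.Coprime (2 ^ 2) p :=
    Nat.Coprime.pow_left 2 ((Nat.coprime_primes Nat.prime_two hp.out).2 (Ne.symm hp2))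
  exact h

lemma alpha (a b : ℕ) (hV : ∀ m : ℕ, 3 ≤ m → cnt G m ≠ 0 → cnt G m = a ∨ cnt G m = b)
    (h4 : cnt G 4 = a) (p : ℕ) [hp : Fact p.Prime] (hp2 : p ≠ 2) (hpG : p ∣ Nat.card G)
    (hpa : cnt G p = a) :
    cnt G (4 * p) = b ∧ (a : ZMod p) = -1 ∧ (b : ZMod p) = 1 := by
  have hup := zcnt_prime (G := G) p hpG
  rw [hpa] at hup
  have hs := zcnt_star (G := G) p hpG 4 (by norm_num) (cop4 p hp2)
  rw [h4] at hs
  have h1 : (cnt G (4 * p) : ZMod p) = 1 := by linear_combination hs - hup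
  have h0 : cnt G (4 * p) ≠ 0 := by
    intro h
    rw [h] at h1
    simp at h1
  have hp3 := hp.out.two_le
  rcases hV (4 * p) (by omega) h0 with h | h
  · exfalso
    rw [h, hup] at h1
    exact zmod_one_ne_neg p hp2 h1.symm
  · refine ⟨h, hup, ?_⟩
    rw [← h]; exact h1

lemma beta (a b : ℕ) (hV : ∀ m : ℕ, 3 ≤ m → cnt G m ≠ 0 → cnt G m = a ∨ cnt G m = b)
    (h4 : cnt G 4 = a) (p : ℕ) [hp : Fact p.Prime] (hp2 : p ≠ 2) (hpG : p ∣ Nat.card G)
    (hpb : cnt G p = b) : (a : ZMod p) = 0 := by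
  have hup := zcnt_prime (G := G) p hpG
  rw [hpb] at hup
  have hs := zcnt_star (G := G) p hpG 4 (by norm_num) (cop4 p hp2)
  rw [h4] at hs
  have hp3 := hp.out.two_le
  by_cases h0 : cnt G (4 * p) = 0
  · rw [h0] at hs
    simpa using hs
  · rcases hV (4 * p) (by omega) h0 with h | h
    · rw [h] at hs
      have h2 : (2 : ZMod p) * (a : ZMod p) = 0 := by linear_combination hs
      rcases mul_eq_zero.1 h2 with h3 | h3
      · exact absurd h3 (zmod_two_ne p hp2)
      · exact h3
    · exfalso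
      rw [h] at hs
      have ha1 : (a : ZMod p) = 1 := by linear_combination hs - hup
      have hnd : ¬ p ∣ cnt G 4 := by
        rw [h4]
        intro hd
        have h5 : (a : ZMod p) = 0 := (ZMod.natCast_eq_zero_iff _ _).2 hd
        rw [h5] at ha1
        exact zero_ne_one ha1
      have hb := fp_bound' (G := G) p 4 (by norm_num) (cop4 p hp2) hnd
      rw [h, hpb] at hb
      have h6 := cnt_prime_pos (G := G) p hpG
      rw [hpb] at h6
      omega

lemma ab_false (a b : ℕ) (hV : ∀ m : ℕ, 3 ≤ m → cnt G m ≠ 0 → cnt G m = a ∨ cnt G m = b)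
    (h4 : cnt G 4 = a) (p q : ℕ) [hp : Fact p.Prime] [hq : Fact q.Prime] (hp2 : p ≠ 2)
    (hq2 : q ≠ 2) (hpG : p ∣ Nat.card G) (hpq : p ≠ q)
    (hpa : cnt G p = a) (hqb : cnt G q = b) : False := by
  have hp3 : 3 ≤ p := by have := hp.out.two_le; omega
  have hq3 : 3 ≤ q := by have := hq.out.two_le; omega
  have hcp : 0 < cnt G p := cnt_prime_pos p hpG
  obtain ⟨h4p, hap, hbp⟩ := alpha a b hV h4 p hp2 hpG hpa
  have hcopqp : Nat.Coprime q p := (Nat.coprime_primes hq.out hp.out).2 (Ne.symm hpq)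
  have hsq := zcnt_star (G := G) p hpG q hq.out.pos hcopqp
  rw [hqb] at hsq
  have h1 : (cnt G (q * p) : ZMod p) = -1 := by linear_combination hsq - hbp
  have h0 : cnt G (q * p) ≠ 0 := by
    intro h
    rw [h] at h1
    simp at h1
  have h5 : cnt G (q * p) = a := by
    rcases hV _ (by nlinarith) h0 with h | h
    · exact h
    · exfalso
      rw [h, hbp] at h1
      exact zmod_one_ne_neg p hp2 h1
  have hnd : ¬ p ∣ cnt G q := by
    rw [hqb]
    intro hd
    have h6 : (b : ZMod p) = 0 := (ZMod.natCast_eq_zero_iff _ _).2 hd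
    rw [h6] at hbp
    exact zero_ne_one hbp
  have hb := fp_bound' (G := G) p q hq3 hcopqp hnd
  rw [h5, hpa] at hb
  rw [hpa] at hcp
  omega

lemma case_c (a b : ℕ) (hV : ∀ m : ℕ, 3 ≤ m → cnt G m ≠ 0 → cnt G m = a ∨ cnt G m = b)
    (h4 : cnt G 4 = a)
    (p q : ℕ) [hp : Fact p.Prime] [hq : Fact q.Prime] (hp2 : p ≠ 2) (hq2 : q ≠ 2)
    (hpG : p ∣ Nat.card G) (hqG : q ∣ Nat.card G) (hpq : p ≠ q) : False := by
  have hp3 : 3 ≤ p := by have := hp.out.two_le; omega
  have hq3 : 3 ≤ q := by have := hq.out.two_le; omega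
  have hcp : 0 < cnt G p := cnt_prime_pos p hpG
  have hcq : 0 < cnt G q := cnt_prime_pos q hqG
  have hcopqp : Nat.Coprime q p := (Nat.coprime_primes hq.out hp.out).2 (Ne.symm hpq)
  by_cases hpa : cnt G p = a
  · by_cases hqa : cnt G q = a
    · obtain ⟨h4p, hap, hbp⟩ := alpha a b hV h4 p hp2 hpG hpa
      obtain ⟨h4q, haq, hbq⟩ := alpha a b hV h4 q hq2 hqG hqa
      have hcop1 : Nat.Coprime (4 * q) p := Nat.Coprime.mul_left (cop4 p hp2) hcopqp
      have hs := zcnt_star (G := G) p hpG (4 * q) (by omega) hcop1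
      rw [h4q] at hs
      have h1 : (cnt G (4 * q * p) : ZMod p) = -1 := by linear_combination hs - hbp
      have h0 : cnt G (4 * q * p) ≠ 0 := by
        intro h
        rw [h] at h1
        simp at h1
      have h5 : cnt G (4 * q * p) = a := by
        rcases hV _ (by nlinarith) h0 with h | h
        · exact h
        · exfalso
          rw [h, hbp] at h1
          exact zmod_one_ne_neg p hp2 h1
      have hnd : ¬ q ∣ cnt G (4 * p) := by
        rw [h4p]
        intro hd
        have h6 : (b : ZMod q) = 0 := (ZMod.natCast_eq_zero_iff _ _).2 hd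
        rw [h6] at hbq
        exact zero_ne_one hbq
      have hcop2 : Nat.Coprime (4 * p) q := Nat.Coprime.mul_left (cop4 q hq2) hcopqp.symm
      have hb := fp_bound' (G := G) q (4 * p) (by omega) hcop2 hnd
      have e : 4 * p * q = 4 * q * p := by ring
      rw [e, h5, hqa] at hb
      rw [hqa] at hcq
      omega
    · have hqb : cnt G q = b := by
        rcases hV q hq3 hcq.ne' with h | h
        · exact absurd h hqa
        · exact h
      exact ab_false a b hV h4 p q hp2 hq2 hpG hpq hpa hqb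
  · have hpb : cnt G p = b := by
      rcases hV p hp3 hcp.ne' with h | h
      · exact absurd h hpa
      · exact h
    by_cases hqa : cnt G q = a
    · exact ab_false a b hV h4 q p hq2 hp2 hqG (Ne.symm hpq) hqa hpb
    · have hqb : cnt G q = b := by
        rcases hV q hq3 hcq.ne' with h | h
        · exact absurd h hqa
        · exact h
      have ha0 := beta a b hV h4 p hp2 hpG hpb
      have hup := zcnt_prime (G := G) p hpG
      rw [hpb] at hup
      have hsq := zcnt_star (G := G) p hpG q hq.out.pos hcopqp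
      rw [hqb] at hsq
      have h1 : (cnt G (q * p) : ZMod p) = 1 := by linear_combination hsq - hup
      have h0 : cnt G (q * p) ≠ 0 := by
        intro h
        rw [h] at h1
        simp at h1
      rcases hV (q * p) (by nlinarith) h0 with h | h
      · rw [h, ha0] at h1
        exact zero_ne_one h1
      · rw [h, hup] at h1
        exact zmod_one_ne_neg p hp2 h1.symm

lemma case_a (hsame : ∀ m1 m2 : ℕ, 3 ≤ m1 → 3 ≤ m2 → cnt G m1 ≠ 0 → cnt G m2 ≠ 0 →
      cnt G m1 = cnt G m2)
    (p q : ℕ) [hp : Fact p.Prime] [hq : Fact q.Prime] (hp2 : p ≠ 2) (hq2 : q ≠ 2)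
    (hpG : p ∣ Nat.card G) (hqG : q ∣ Nat.card G) (hpq : p ≠ q) : False := by
  have hp3 : 3 ≤ p := by have := hp.out.two_le; omega
  have hq3 : 3 ≤ q := by have := hq.out.two_le; omega
  have hcp : 0 < cnt G p := cnt_prime_pos p hpG
  have hcq : 0 < cnt G q := cnt_prime_pos q hqG
  have heq : cnt G p = cnt G q := hsame p q hp3 hq3 hcp.ne' hcq.ne'
  have hv := L1 (G := G) p q hpq hpG heq
  have hu := zcnt_prime (G := G) p hpG
  have h0 : cnt G (p * q) ≠ 0 := by
    intro h
    rw [h] at hv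
    simp at hv
  have h1 := hsame p (p * q) hp3 (by nlinarith) hcp.ne' h0
  rw [h1] at hu
  rw [hu] at hv
  exact zmod_one_ne_neg p hp2 hv.symm

lemma case_b (a b : ℕ) (hV : ∀ m : ℕ, 3 ≤ m → cnt G m ≠ 0 → cnt G m = a ∨ cnt G m = b)
    (h2 : 2 ∣ Nat.card G) (h4 : ¬ 4 ∣ Nat.card G) (hc2 : cnt G 2 = 1) : Group.IsSolvable G := by
  haveI : Fact (Nat.Prime 2) := ⟨Nat.prime_two⟩
  obtain ⟨z, hz⟩ := exists_prime_orderOf_dvd_card' 2 h2
  have huniq : ∀ x : G, orderOf x = 2 → x = z := fun x hx => unique_of_cnt_one hc2 hz x hx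
  have hzc : ∀ g : G, g * z = z * g := central_of_unique hz huniq
  obtain ⟨P⟩ : Nonempty (Sylow 2 G) := inferInstance
  have hcardP : Nat.card (P : Subgroup G) = 2 := by
    obtain ⟨k, hk⟩ := IsPGroup.iff_card.1 P.isPGroup'
    have h1 : 2 ∣ Nat.card (P : Subgroup G) := P.dvd_card_of_dvd_card h2
    have h3 : Nat.card (P : Subgroup G) ∣ Nat.card G := Subgroup.card_subgroup_dvd_card _
    rw [hk] at h1 h3 ⊢
    rcases Nat.lt_or_ge k 2 with hlt | hge
    · interval_cases k
      · norm_num at h1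
      · norm_num
    · exfalso
      apply h4
      have h5 : (2 : ℕ) ^ 2 ∣ 2 ^ k := pow_dvd_pow 2 hge
      exact h5.trans h3
  have hPc : ∀ x ∈ (P : Subgroup G), ∀ g : G, g * x = x * g := by
    intro x hx g
    have h1 : orderOf x ∣ 2 := by
      have h0 := orderOf_dvd_natCard (⟨x, hx⟩ : (P : Subgroup G))
      rw [hcardP, ← Subgroup.orderOf_coe] at h0
      exact h0
    rcases (Nat.dvd_prime Nat.prime_two).1 h1 with h5 | h5
    · rw [orderOf_eq_one_iff.1 h5]; simp
    · rw [huniq x h5]; exact hzc g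
  have hP : Subgroup.normalizer (P : Set G) ≤ Subgroup.centralizer (P : Set G) := by
    intro g _
    rw [Subgroup.mem_centralizer_iff]
    intro x hx
    exact (hPc x hx g).symm
  have hKodd : ¬ 2 ∣ Nat.card (MonoidHom.transferSylow P hP).ker :=
    MonoidHom.not_dvd_card_ker_transferSylow P hP
  have hmemK : ∀ g : G, Odd (orderOf g) → g ∈ (MonoidHom.transferSylow P hP).ker := by
    intro g hg
    rw [MonoidHom.mem_ker]
    have h1 : orderOf (MonoidHom.transferSylow P hP g) ∣ orderOf g := orderOf_map_dvd _ g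
    have h2' : orderOf (MonoidHom.transferSylow P hP g) ∣ 2 := by
      have h0 := orderOf_dvd_natCard (MonoidHom.transferSylow P hP g)
      rwa [hcardP] at h0
    have h3 : orderOf (MonoidHom.transferSylow P hP g) = 1 := by
      rcases (Nat.dvd_prime Nat.prime_two).1 h2' with h5 | h5
      · exact h5
      · exfalso
        rw [h5] at h1
        exact (Nat.not_even_iff_odd.2 hg) (even_iff_two_dvd.2 h1)
    exact orderOf_eq_one_iff.1 h3
  have hcntK : ∀ m : ℕ, Odd m → cnt (MonoidHom.transferSylow P hP).ker m = cnt G m := by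
    intro m hm
    unfold cnt
    apply Nat.card_congr
    exact {
      toFun := fun k => ⟨(k.1 : G), by rw [Subgroup.orderOf_coe]; exact k.2⟩
      invFun := fun g => ⟨⟨g.1, hmemK g.1 (by rw [g.2]; exact hm)⟩, by
        rw [← Subgroup.orderOf_coe]; exact g.2⟩
      left_inv := fun k => rfl
      right_inv := fun g => rfl }
  have hKoddc : Odd (Nat.card (MonoidHom.transferSylow P hP).ker) :=
    Nat.not_even_iff_odd.1 (fun h => hKodd (even_iff_two_dvd.1 h))
  have hP3K : P3 (MonoidHom.transferSylow P hP).ker := by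
    intro m1 m2 m3 h1 h2' h3 c1 c2 c3
    have hoddm : ∀ m : ℕ, 1 < m → cnt (MonoidHom.transferSylow P hP).ker m ≠ 0 →
        3 ≤ m ∧ cnt (MonoidHom.transferSylow P hP).ker m = cnt G m := by
      intro m hm hc
      have hex : ∃ g : (MonoidHom.transferSylow P hP).ker, orderOf g = m := by
        by_contra hne
        push Not at hne
        exact hc (cnt_eq_zero hne)
      obtain ⟨g, hg⟩ := hex
      have hmo : Odd m := by
        rw [← hg]
        exact Odd.of_dvd_nat hKoddc (orderOf_dvd_natCard g)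
      refine ⟨?_, hcntK m hmo⟩
      rcases hmo with ⟨t, ht⟩
      omega
    obtain ⟨a1, e1⟩ := hoddm m1 h1 c1
    obtain ⟨a2, e2⟩ := hoddm m2 h2' c2
    obtain ⟨a3, e3⟩ := hoddm m3 h3 c3
    rw [e1] at c1 ⊢
    rw [e2] at c2 ⊢
    rw [e3] at c3 ⊢
    have v1 := hV m1 a1 c1
    have v2 := hV m2 a2 c2
    have v3 := hV m3 a3 c3
    omega
  haveI : Group.IsSolvable (MonoidHom.transferSylow P hP).ker :=
    solvable_of_card_le_two (odd_P3_primes hKoddc hP3K)
  haveI : Group.IsSolvable (P : Subgroup G) := by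
    apply solvable_of_two_primes 2 2 Nat.prime_two Nat.prime_two
    intro s hs hsn
    rw [hcardP] at hsn
    left
    exact (Nat.prime_dvd_prime_iff_eq hs Nat.prime_two).1 hsn
  exact solvable_of_ker_le_range (MonoidHom.transferSylow P hP).ker.subtype
    (MonoidHom.transferSylow P hP) (by rw [Subgroup.range_subtype])

end

/-- A finite group in which the numbers of elements of each order that occurs (the numbers #{g : o(g) = m}, m ranging over the element orders) take exactly three different values is solvable. -/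
theorem result {G : Type*} [Group G] [Finite G] (h : (((fun m : ℕ => Nat.card {g : G // orderOf g = m}) '' Set.range (orderOf : G → ℕ))).ncard = 3) : Group.IsSolvable G := by
  classical
  obtain ⟨x, y, z, hxy, hxz, hyz, hs⟩ := Set.ncard_eq_three.1 h
  have hexm : ∀ m : ℕ, cnt G m ≠ 0 → ∃ g : G, orderOf g = m := by
    intro m hc
    by_contra hne
    push Not at hne
    exact hc (cnt_eq_zero hne)
  have hmemV : ∀ m : ℕ, cnt G m ≠ 0 → cnt G m = x ∨ cnt G m = y ∨ cnt G m = z := by
    intro m hc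
    obtain ⟨g, hg⟩ := hexm m hc
    have h1 : cnt G m ∈ ((fun m : ℕ => Nat.card {g : G // orderOf g = m}) ''
        Set.range (orderOf : G → ℕ)) := ⟨m, ⟨g, hg⟩, rfl⟩
    rw [hs] at h1
    simpa using h1
  have h1 : (1 : ℕ) = x ∨ 1 = y ∨ 1 = z := by
    have h1 : (1 : ℕ) ∈ ((fun m : ℕ => Nat.card {g : G // orderOf g = m}) ''
        Set.range (orderOf : G → ℕ)) := ⟨1, ⟨1, orderOf_one⟩, cnt_one⟩
    rw [hs] at h1
    simpa using h1
  have hne1 : ∀ m : ℕ, 3 ≤ m → cnt G m ≠ 0 → cnt G m ≠ 1 := by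
    intro m hm hc
    obtain ⟨g, hg⟩ := hexm m hc
    exact cnt_ne_one hm g hg
  obtain ⟨a, b, hab, hV⟩ : ∃ a b : ℕ, a ≠ b ∧
      ∀ m : ℕ, cnt G m ≠ 0 → cnt G m = 1 ∨ cnt G m = a ∨ cnt G m = b := by
    rcases h1 with rfl | rfl | rfl
    · exact ⟨y, z, hyz, hmemV⟩
    · exact ⟨x, z, hxz, fun m hm => by have := hmemV m hm; tauto⟩
    · exact ⟨x, y, hxy, fun m hm => by have := hmemV m hm; tauto⟩
  have hV3 : ∀ m : ℕ, 3 ≤ m → cnt G m ≠ 0 → cnt G m = a ∨ cnt G m = b := by
    intro m hm hc
    have h5 := hV m hc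
    have h6 := hne1 m hm hc
    tauto
  by_cases hodd : Odd (Nat.card G)
  · exact solvable_of_card_le_two (Cfsg.Agent.S4004.result hodd h).1
  · have h2 : 2 ∣ Nat.card G := even_iff_two_dvd.1 (Nat.not_odd_iff_even.1 hodd)
    haveI : Fact (Nat.Prime 2) := ⟨Nat.prime_two⟩
    obtain ⟨z2, hz2⟩ := exists_prime_orderOf_dvd_card' 2 h2
    by_cases hc2 : cnt G 2 = 1
    · by_cases h4 : 4 ∣ Nat.card G
      · have huniq : ∀ x : G, orderOf x = 2 → x = z2 :=
          fun x hx => unique_of_cnt_one hc2 hz2 x hx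
        obtain ⟨g4, hg4⟩ := exists_order_four h4 z2 huniq
        have hc4 : cnt G 4 ≠ 0 := (cnt_pos g4 hg4).ne'
        apply solvable_of_odd_unique
        intro p q hp hq hp2 hq2 hpG hqG
        by_contra hpq
        haveI : Fact p.Prime := ⟨hp⟩
        haveI : Fact q.Prime := ⟨hq⟩
        rcases hV3 4 (by norm_num) hc4 with h4a | h4b
        · exact case_c a b hV3 h4a p q hp2 hq2 hpG hqG hpq
        · exact case_c b a (fun m hm hc => (hV3 m hm hc).symm) h4b p q hp2 hq2 hpG hqG hpq
      · exact case_b a b hV3 h2 h4 hc2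
    · have hc2' : cnt G 2 ≠ 0 := (cnt_pos z2 hz2).ne'
      have hodd2 : 2 ∣ 1 + cnt G 2 := dvd_one_add_cnt 2 h2
      have hsame : ∀ m1 m2 : ℕ, 3 ≤ m1 → 3 ≤ m2 → cnt G m1 ≠ 0 → cnt G m2 ≠ 0 →
          cnt G m1 = cnt G m2 := by
        intro m1 m2 hm1 hm2 c1 c2
        have e1 := even_cnt (G := G) hm1
        have e2 := even_cnt (G := G) hm2
        have v1 := hV3 m1 hm1 c1
        have v2 := hV3 m2 hm2 c2
        have v0 := hV 2 hc2'
        omega
      apply solvable_of_odd_unique
      intro p q hp hq hp2 hq2 hpG hqG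
      by_contra hpq
      haveI : Fact p.Prime := ⟨hp⟩
      haveI : Fact q.Prime := ⟨hq⟩
      exact case_a hsame p q hp2 hq2 hpG hqG hpq

end Cfsg.Agent.S3996
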