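import Cfsg.Statements.S2879
import Cfsg.Agent.S0017
import Cfsg.Agent.Lib.Helper2.SL23
import Cfsg.Agent.Lib.Helper47.Basic
import Cfsg.Agent.Lib.Helper54.Quaternion

set_option autoImplicit false
open Cfsg

namespace Cfsg.Agent.S2879

open Subgroup

/-- 2-groups with a cyclic subgroup of index 2 whose outside elements have order dividing 4 and
invert the elements of order dividing 4 inside. -/
def HT (S : Type*) [Group S] : Prop :=
  ∃ C : Subgroup S, IsCyclic C ∧ C.index = 2 ∧ 4 ≤ Nat.card C ∧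
    ∀ t, t ∉ C → t ^ 4 = 1 ∧ ∀ c ∈ C, c ^ 4 = 1 → t * c * t⁻¹ = c⁻¹

theorem HT_of_equiv {S S' : Type*} [Group S] [Group S'] (e : S ≃* S') (h : HT S') : HT S := by
  obtain ⟨C, hc, hi, h4, hP⟩ := h
  have hinj : Function.Injective (e.toMonoidHom.subgroupComap C) := by
    intro a b hab
    apply Subtype.ext
    apply e.injective
    exact congrArg Subtype.val hab
  have hsurj : Function.Surjective (e.toMonoidHom.subgroupComap C) :=
    MonoidHom.subgroupComap_surjective_of_surjective _ _ e.surjective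
  refine ⟨C.comap e.toMonoidHom, ?_, ?_, ?_, ?_⟩
  · exact isCyclic_of_injective (e.toMonoidHom.subgroupComap C) hinj
  · rw [Subgroup.index_comap_of_surjective _ e.surjective, hi]
  · rw [Nat.card_eq_of_bijective _ ⟨hinj, hsurj⟩]; exact h4
  · intro t ht
    have ht' : e t ∉ C := ht
    obtain ⟨h1, h2⟩ := hP _ ht'
    refine ⟨?_, ?_⟩
    · apply e.injective; rw [map_pow, h1, map_one]
    · intro c hc hc4
      have hc' : e c ∈ C := hc
      apply e.injective
      rw [map_mul, map_mul, map_inv, map_inv]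
      exact h2 _ hc' (by rw [← map_pow, hc4, map_one])

theorem HT_dihedral (n : ℕ) (hn : 4 ≤ n) : HT (DihedralGroup n) := by
  have : NeZero n := ⟨by omega⟩
  have hr : ∀ i : ZMod n, DihedralGroup.r i ∈ zpowers (DihedralGroup.r (1 : ZMod n)) := by
    intro i
    have h := DihedralGroup.r_one_pow (n := n) i.val
    rw [ZMod.natCast_zmod_val] at h
    rw [← h]
    exact pow_mem (mem_zpowers _) _
  have hsr : ∀ i : ZMod n, DihedralGroup.sr i ∉ zpowers (DihedralGroup.r (1 : ZMod n)) := by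
    intro i hi
    obtain ⟨k, hk⟩ := mem_zpowers_iff.1 hi
    rw [DihedralGroup.r_one_zpow] at hk
    exact absurd hk (by simp)
  have hcard : Nat.card (zpowers (DihedralGroup.r (1 : ZMod n))) = n := by
    rw [Nat.card_zpowers, DihedralGroup.orderOf_r_one]
  refine ⟨zpowers (DihedralGroup.r 1), inferInstance, ?_, ?_, ?_⟩
  · have h := Subgroup.card_mul_index (zpowers (DihedralGroup.r (1 : ZMod n)))
    rw [hcard, DihedralGroup.nat_card] at h
    have hn0 : 0 < n := by omega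
    nlinarith
  · rw [hcard]; exact hn
  · intro t ht
    rcases t with i | i
    · exact absurd (hr i) ht
    · refine ⟨?_, ?_⟩
      · have h2 : (DihedralGroup.sr i) ^ 2 = 1 := by
          rw [pow_two, DihedralGroup.sr_mul_self]
        calc (DihedralGroup.sr i) ^ 4 = ((DihedralGroup.sr i) ^ 2) ^ 2 := by rw [← pow_mul]
          _ = 1 := by rw [h2, one_pow]
      · intro c hc _
        rcases c with j | j
        · rw [DihedralGroup.sr_mul_r, DihedralGroup.inv_sr, DihedralGroup.sr_mul_sr,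
            DihedralGroup.inv_r]
          congr 1
          ring
        · exact absurd hc (hsr j)

theorem HT_qd {S : Type*} [Group S] (h : Cfsg.IsQuasiDihedral S) : HT S := by
  obtain ⟨n, hn, hcard, x, y, hx, hy, hyx⟩ := h
  obtain ⟨k, rfl⟩ : ∃ k, n = k + 3 := ⟨n - 3, by omega⟩
  have hk1 : k + 3 - 1 = k + 2 := by omega
  rw [hk1] at hyx
  set m := 2 ^ (k + 2) - 1 with hm
  have hm1 : m + 1 = 2 ^ (k + 2) := by
    have : 0 < 2 ^ (k + 2) := by positivity
    omega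
  have hcardC : Nat.card (zpowers x) = 2 ^ (k + 3) := by rw [Nat.card_zpowers, hx]
  have hidx : (zpowers x).index = 2 := by
    have h := Subgroup.card_mul_index (zpowers x)
    rw [hcardC, hcard, pow_succ] at h
    have h0 : 0 < 2 ^ (k + 3) := by positivity
    exact Nat.eq_of_mul_eq_mul_left h0 h
  have hy2 : y * y = 1 := by rw [← pow_two, ← hy, pow_orderOf_eq_one]
  have hyinv : y⁻¹ = y := inv_eq_of_mul_eq_one_left hy2
  have hxpow : x ^ 2 ^ (k + 3) = 1 := by rw [← hx, pow_orderOf_eq_one]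
  have hconj : ∀ c ∈ zpowers x, y * c * y⁻¹ = c ^ m := by
    intro c hc
    obtain ⟨i, rfl⟩ := mem_zpowers_iff.1 hc
    have h1 : y * x ^ i * y⁻¹ = (y * x * y⁻¹) ^ i := by
      rw [conj_zpow]
    rw [h1, hyx, ← zpow_natCast, ← zpow_natCast, ← zpow_mul, ← zpow_mul, mul_comm]
  have hCpow : ∀ c ∈ zpowers x, c ^ 2 ^ (k + 3) = 1 := by
    intro c hc
    obtain ⟨i, rfl⟩ := mem_zpowers_iff.1 hc
    rw [← zpow_natCast, ← zpow_mul, mul_comm, zpow_mul, zpow_natCast, hxpow, one_zpow]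
  have hcomm : ∀ c ∈ zpowers x, ∀ d ∈ zpowers x, c * d = d * c := by
    intro c hc d hd
    obtain ⟨i, rfl⟩ := mem_zpowers_iff.1 hc
    obtain ⟨j, rfl⟩ := mem_zpowers_iff.1 hd
    rw [← zpow_add, ← zpow_add, add_comm]
  have hyC : y ∉ zpowers x := by
    intro hyC
    have h1 : y * x * y⁻¹ = x := by
      rw [hcomm y hyC x (mem_zpowers x), mul_inv_cancel_right]
    rw [hyx] at h1
    have h2 : x ^ (m - 1) = 1 := by
      have h3 : x ^ (m - 1) * x = x := by
        rw [← pow_succ]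
        have : m - 1 + 1 = m := by
          have : 2 ≤ 2 ^ (k + 2) := by
            calc 2 = 2 ^ 1 := rfl
              _ ≤ 2 ^ (k + 2) := Nat.pow_le_pow_right (by norm_num) (by omega)
          omega
        rw [this, h1]
      exact mul_eq_right.1 h3
    have h4 := orderOf_dvd_of_pow_eq_one h2
    rw [hx] at h4
    have h5 : 4 ≤ 2 ^ (k + 2) := by
      calc 4 = 2 ^ 2 := rfl
        _ ≤ 2 ^ (k + 2) := Nat.pow_le_pow_right (by norm_num) (by omega)
    have h6 : 2 ^ (k + 3) = 2 * 2 ^ (k + 2) := by rw [pow_succ]; ring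
    have h7 := Nat.le_of_dvd (by omega) h4
    omega
  refine ⟨zpowers x, inferInstance, hidx, ?_, ?_⟩
  · rw [hcardC]
    calc 4 = 2 ^ 2 := rfl
      _ ≤ 2 ^ (k + 3) := Nat.pow_le_pow_right (by norm_num) (by omega)
  · intro t ht
    have hyt : y⁻¹ * t ∈ zpowers x := by
      rw [Subgroup.mul_mem_iff_of_index_two hidx]
      constructor
      · intro h; rw [inv_mem_iff] at h; exact absurd h hyC
      · intro h; exact absurd h ht
    set c := y⁻¹ * t with hc
    have htc : t = y * c := by rw [hc, mul_inv_cancel_left]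
    refine ⟨?_, ?_⟩
    · have h2 : t ^ 2 = c ^ 2 ^ (k + 2) := by
        rw [htc, pow_two, ← hm1, pow_succ, ← hconj c hyt, hyinv]
        group
      calc t ^ 4 = (t ^ 2) ^ 2 := by rw [← pow_mul]
        _ = c ^ 2 ^ (k + 3) := by rw [h2, ← pow_mul, ← pow_succ]
        _ = 1 := hCpow c hyt
    · intro d hd hd4
      have h1 : t * d * t⁻¹ = y * d * y⁻¹ := by
        rw [htc, mul_inv_rev, mul_assoc y c d, hcomm c hyt d hd]
        group
      rw [h1, hconj d hd]
      apply eq_inv_of_mul_eq_one_left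
      rw [← pow_succ, hm1]
      have : 2 ^ (k + 2) = 4 * 2 ^ k := by rw [pow_add]; ring
      rw [this, pow_mul, hd4, one_pow]


theorem exists_gen {G : Type*} [Group G] (C : Subgroup G) (h : IsCyclic C) :
    ∃ x ∈ C, C = zpowers x := by
  obtain ⟨⟨x, hx⟩, hgen⟩ := h.exists_generator
  refine ⟨x, hx, le_antisymm ?_ (zpowers_le.2 hx)⟩
  intro c hc
  obtain ⟨i, hi⟩ := mem_zpowers_iff.1 (hgen ⟨c, hc⟩)
  rw [mem_zpowers_iff]
  exact ⟨i, by simpa using congrArg Subtype.val hi⟩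

theorem conj_pow_mul {G : Type*} [Group G] {g c w : G} (h1 : g * c * g⁻¹ = c * w)
    (h2 : g * w * g⁻¹ = w) (k : ℕ) : g ^ k * c * (g ^ k)⁻¹ = c * w ^ k := by
  induction k with
  | zero => simp
  | succ k ih =>
    have h3 : g * w ^ k * g⁻¹ = w ^ k := by rw [← conj_pow, h2]
    calc g ^ (k + 1) * c * (g ^ (k + 1))⁻¹ = g * (g ^ k * c * (g ^ k)⁻¹) * g⁻¹ := by
          rw [pow_succ']; group
      _ = (g * c * g⁻¹) * (g * w ^ k * g⁻¹) := by rw [ih]; group
      _ = c * w ^ (k + 1) := by rw [h1, h3, pow_succ']; group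

theorem fix_of_odd {G : Type*} [Group G] {g c w : G} (h1 : g * c * g⁻¹ = c * w)
    (h2 : g * w * g⁻¹ = w) {r j : ℕ} (hr : g ^ r = 1) (hodd : ¬ 2 ∣ r) (hw : w ^ 2 ^ j = 1) :
    w = 1 := by
  have h3 := conj_pow_mul h1 h2 r
  rw [hr, one_mul, inv_one, mul_one] at h3
  have h4 : w ^ r = 1 := by
    have := mul_eq_left.1 h3.symm
    exact this
  have h5 : orderOf w ∣ r := orderOf_dvd_of_pow_eq_one h4
  have h6 : orderOf w ∣ 2 ^ j := orderOf_dvd_of_pow_eq_one hw
  have hcop : Nat.Coprime r (2 ^ j) := by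
    apply Nat.Coprime.pow_right
    exact ((Nat.Prime.coprime_iff_not_dvd Nat.prime_two).2 hodd).symm
  exact orderOf_eq_one_iff.1 (Nat.eq_one_of_dvd_coprimes hcop h5 h6)

theorem mem_of_index_two {G : Type*} [Group G] [Finite G] {C T : Subgroup G} (hCT : C ≤ T)
    (hcard : Nat.card T = 2 * Nat.card C) {a b : G} (ha : a ∈ T) (hb : b ∈ T) (haC : a ∉ C)
    (hbC : b ∉ C) : a⁻¹ * b ∈ C := by
  have hidx : (C.subgroupOf T).index = 2 := by
    have h := Subgroup.card_mul_index (C.subgroupOf T)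
    rw [Nat.card_congr (Subgroup.subgroupOfEquivOfLe hCT).toEquiv, hcard] at h
    have h0 : 0 < Nat.card C := Nat.card_pos
    nlinarith
  have h := Subgroup.mul_mem_iff_of_index_two hidx (a := (⟨a, ha⟩ : T)⁻¹) (b := ⟨b, hb⟩)
  have h' : (⟨a, ha⟩ : T)⁻¹ * ⟨b, hb⟩ ∈ C.subgroupOf T := by
    rw [h]
    constructor
    · intro h1; rw [inv_mem_iff, mem_subgroupOf] at h1; exact absurd h1 haC
    · intro h1; rw [mem_subgroupOf] at h1; exact absurd h1 hbC
  rw [mem_subgroupOf] at h'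
  exact h'


theorem card_pairs : (Finset.univ.filter (fun p : QuaternionGroup 2 × QuaternionGroup 2 =>
    p.1 ^ 2 ≠ 1 ∧ p.2 ^ 2 ≠ 1 ∧ p.2 ≠ p.1 ∧ p.2 ≠ p.1⁻¹)).card = 24 := by decide +kernel

theorem card_aut_le : Nat.card (MulAut (QuaternionGroup 2)) ≤ 24 := by
  classical
  have h1 : (QuaternionGroup.a 1 : QuaternionGroup 2) ^ 2 ≠ 1 := by decide
  have h2 : (QuaternionGroup.xa 0 : QuaternionGroup 2) ^ 2 ≠ 1 := by decide
  have h3 : (QuaternionGroup.xa 0 : QuaternionGroup 2) ≠ QuaternionGroup.a 1 := by decide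
  have h4 : (QuaternionGroup.xa 0 : QuaternionGroup 2) ≠ (QuaternionGroup.a 1)⁻¹ := by decide
  let f : MulAut (QuaternionGroup 2) → {p : QuaternionGroup 2 × QuaternionGroup 2 //
      p.1 ^ 2 ≠ 1 ∧ p.2 ^ 2 ≠ 1 ∧ p.2 ≠ p.1 ∧ p.2 ≠ p.1⁻¹} :=
    fun α => ⟨(α (QuaternionGroup.a 1), α (QuaternionGroup.xa 0)),
      by
        show α (QuaternionGroup.a 1) ^ 2 ≠ 1
        rw [← map_pow]; intro h; exact h1 (α.injective (by rw [h, map_one])),
      by
        show α (QuaternionGroup.xa 0) ^ 2 ≠ 1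
        rw [← map_pow]; intro h; exact h2 (α.injective (by rw [h, map_one])),
      by
        show α (QuaternionGroup.xa 0) ≠ α (QuaternionGroup.a 1)
        intro h; exact h3 (α.injective h),
      by
        show α (QuaternionGroup.xa 0) ≠ (α (QuaternionGroup.a 1))⁻¹
        rw [← map_inv]; intro h; exact h4 (α.injective h)⟩
  have hf : Function.Injective f := by
    intro α β h
    have h1 : α (QuaternionGroup.a 1) = β (QuaternionGroup.a 1) :=
      congrArg (fun p => p.1.1) h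
    have h2 : α (QuaternionGroup.xa 0) = β (QuaternionGroup.xa 0) :=
      congrArg (fun p => p.1.2) h
    ext q
    rw [Cfsg.Agent.Lib.Helper2.SL23.aut_eq_ev α q, Cfsg.Agent.Lib.Helper2.SL23.aut_eq_ev β q,
      h1, h2]
  calc Nat.card (MulAut (QuaternionGroup 2)) ≤ Nat.card {p : QuaternionGroup 2 × QuaternionGroup 2 //
      p.1 ^ 2 ≠ 1 ∧ p.2 ^ 2 ≠ 1 ∧ p.2 ≠ p.1 ∧ p.2 ≠ p.1⁻¹} := Nat.card_le_card_of_injective f hf
    _ = 24 := by rw [Nat.card_eq_fintype_card, Fintype.card_subtype]; exact card_pairs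

theorem main {G : Type*} [Group G] [Finite G] (hsol : Group.IsSolvable G) (hO : Cfsg.oddCore G = ⊥)
    (T : Sylow 2 G) (hne : (T : Subgroup G) ≠ ⊤)
    (hZ : ((T : Subgroup G) ⊓ Subgroup.centralizer ((T : Subgroup G) : Set G)).Normal)
    (C : Subgroup G) (hCT : C ≤ T) (hCc : IsCyclic C)
    (hcard : Nat.card (T : Subgroup G) = 2 * Nat.card C) (h4 : 4 ≤ Nat.card C)
    (hP : ∀ t ∈ (T : Subgroup G), t ∉ C → t ^ 4 = 1 ∧ ∀ c ∈ C, c ^ 4 = 1 → t * c * t⁻¹ = c⁻¹) :
    ∃ U : Subgroup G, U.Normal ∧ Nonempty (↥U ≃* Matrix.SpecialLinearGroup (Fin 2) (ZMod 3)) := by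
  classical
  have : Fact (Nat.Prime 2) := ⟨Nat.prime_two⟩
  have hT2 : IsPGroup 2 (T : Subgroup G) := T.isPGroup'
  have h2pow : ∀ t ∈ (T : Subgroup G), ∃ j : ℕ, t ^ 2 ^ j = 1 := by
    intro t ht
    obtain ⟨j, hj⟩ := hT2 ⟨t, ht⟩
    exact ⟨j, by simpa using congrArg Subtype.val hj⟩
  obtain ⟨x₀, hx₀C, hCeq⟩ := exists_gen C hCc
  have hcomm : ∀ c ∈ C, ∀ d ∈ C, c * d = d * c := by
    intro c hc d hd
    rw [hCeq] at hc hd
    obtain ⟨i, rfl⟩ := mem_zpowers_iff.1 hc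
    obtain ⟨j, rfl⟩ := mem_zpowers_iff.1 hd
    rw [← zpow_add, ← zpow_add, add_comm]
  have hcardC : Nat.card C = orderOf x₀ := by rw [hCeq, Nat.card_zpowers]
  obtain ⟨n, hn⟩ : ∃ n, orderOf x₀ = 2 ^ n := by
    obtain ⟨j, hj⟩ := h2pow x₀ (hCT hx₀C)
    obtain ⟨n, -, hn⟩ := (Nat.dvd_prime_pow Nat.prime_two).1 (orderOf_dvd_of_pow_eq_one hj)
    exact ⟨n, hn⟩
  have hn2 : 2 ≤ n := by
    by_contra hlt
    push Not at hlt
    rw [hcardC, hn] at h4
    interval_cases n <;> simp at h4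
  obtain ⟨j, rfl⟩ : ∃ j, n = j + 2 := ⟨n - 2, by omega⟩
  have hord : orderOf x₀ = 2 * (2 * 2 ^ j) := by rw [hn, pow_succ, pow_succ]; ring
  obtain ⟨c₄, hc₄⟩ : ∃ c, c = x₀ ^ (2 ^ j) := ⟨_, rfl⟩
  obtain ⟨z, hz⟩ : ∃ c, c = x₀ ^ (2 * 2 ^ j) := ⟨_, rfl⟩
  have hc₄C : c₄ ∈ C := by rw [hc₄]; exact pow_mem hx₀C _
  have hzC : z ∈ C := by rw [hz]; exact pow_mem hx₀C _
  have hc₄z : c₄ ^ 2 = z := by rw [hc₄, hz, ← pow_mul, mul_comm]
  have hz2 : z ^ 2 = 1 := by rw [hz, ← pow_mul, mul_comm, ← hord, pow_orderOf_eq_one]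
  have hz1 : z ≠ 1 := by
    rw [hz]
    apply pow_ne_one_of_lt_orderOf
    · positivity
    · rw [hord]
      have : 0 < 2 ^ j := by positivity
      omega
  have hc₄4 : c₄ ^ 4 = 1 := by
    calc c₄ ^ 4 = (c₄ ^ 2) ^ 2 := by rw [← pow_mul]
      _ = 1 := by rw [hc₄z, hz2]
  have hzinv : z⁻¹ = z := by
    rw [inv_eq_iff_mul_eq_one, ← pow_two, hz2]
  have huniq : ∀ w ∈ C, w ^ 2 = 1 → w ≠ 1 → w = z := by
    intro w hw hw2 hw1
    have ho : orderOf w = 2 := orderOf_eq_prime hw2 hw1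
    rw [hCeq] at hw
    rw [hz]
    exact Cfsg.Agent.Lib.Helper54.Quaternion.eq_pow_half_of_mem_zpowers hord ho hw
  -- z is central in T
  have hzT : ∀ t ∈ (T : Subgroup G), t * z = z * t := by
    intro t ht
    by_cases htC : t ∈ C
    · exact hcomm t htC z hzC
    · have h1 := (hP t ht htC).2 c₄ hc₄C hc₄4
      have h2 : t * z * t⁻¹ = z := by
        rw [← hc₄z, ← conj_pow, h1, inv_pow, hc₄z, hzinv]
      calc t * z = t * z * t⁻¹ * t := by group
        _ = z * t := by rw [h2]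
  set Z := (T : Subgroup G) ⊓ Subgroup.centralizer ((T : Subgroup G) : Set G) with hZdef
  have hzZ : z ∈ Z := by
    rw [hZdef, mem_inf, mem_centralizer_iff]
    exact ⟨hCT hzC, fun h hh => hzT h hh⟩
  have hZC : Z ≤ C := by
    intro t ht
    rw [hZdef, mem_inf, mem_centralizer_iff] at ht
    by_contra htC
    have h1 := (hP t ht.1 htC).2 c₄ hc₄C hc₄4
    have h2 : t * c₄ * t⁻¹ = c₄ := by
      rw [← ht.2 c₄ (hCT hc₄C)]; group
    rw [h2] at h1
    apply hz1
    rw [← hc₄z, pow_two]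
    nth_rewrite 1 [h1]
    group
  have hzG : ∀ g : G, g * z * g⁻¹ = z := by
    intro g
    apply huniq _ (hZC (hZ.conj_mem z hzZ g))
    · rw [conj_pow, hz2]; group
    · intro h
      apply hz1
      have : z = g⁻¹ * (g * z * g⁻¹) * g := by group
      rw [this, h]; group
  -- the 2-core
  have hQn : (Cfsg.pCore 2 G).Normal := Cfsg.Agent.Lib.Helper47.Basic.pCore_normal 2 G
  obtain ⟨Q, hQdef⟩ : ∃ Q, Q = Cfsg.pCore 2 G := ⟨_, rfl⟩
  rw [← hQdef] at hQn
  have hQT : Q ≤ T := by rw [hQdef]; exact Cfsg.Agent.Lib.Helper47.Basic.pCore_le_sylow T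
  have hCQ : Subgroup.centralizer (Q : Set G) ≤ Q := by
    rw [hQdef]
    have := hsol
    exact Cfsg.Agent.S0017.result 2 hO
  have hzQ : z ∈ Q := by
    have hN : (zpowers z).Normal := by
      constructor
      intro w hw g
      obtain ⟨i, rfl⟩ := mem_zpowers_iff.1 hw
      rw [← conj_zpow, hzG]
      exact zpow_mem (mem_zpowers z) i
    have hp : IsPGroup 2 (zpowers z) := by
      apply IsPGroup.of_card (n := 1)
      rw [Nat.card_zpowers, orderOf_eq_prime hz2 hz1]; rfl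
    rw [hQdef]
    exact Cfsg.Agent.Lib.Helper47.Basic.le_pCore hN hp (mem_zpowers z)
  -- an element of odd prime order
  obtain ⟨r, hr, g, hgr, hr2⟩ : ∃ r : ℕ, r.Prime ∧ ∃ g : G, orderOf g = r ∧ ¬ 2 ∣ r := by
    have hidx : (T : Subgroup G).index ≠ 1 := fun h => hne (Subgroup.index_eq_one.1 h)
    obtain ⟨r, hr, hrd⟩ := Nat.exists_prime_and_dvd hidx
    have hr2 : ¬ 2 ∣ r := by
      intro h2
      have : r = 2 := ((Nat.prime_dvd_prime_iff_eq Nat.prime_two hr).1 h2).symm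
      subst this
      exact T.not_dvd_index hrd
    have : Fact r.Prime := ⟨hr⟩
    obtain ⟨g, hg⟩ := exists_prime_orderOf_dvd_card' (G := G) r
      (hrd.trans (Subgroup.index_dvd_card _))
    exact ⟨r, hr, g, hg, hr2⟩
  have hgr' : g ^ r = 1 := by rw [← hgr, pow_orderOf_eq_one]
  have hgC : g ∉ Subgroup.centralizer (Q : Set G) := by
    intro h
    obtain ⟨k, hk⟩ := h2pow g (hQT (hCQ h))
    have h1 : r ∣ 2 ^ k := by rw [← hgr]; exact orderOf_dvd_of_pow_eq_one hk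
    have h2 := (Nat.prime_dvd_prime_iff_eq hr Nat.prime_two).1 (hr.dvd_of_dvd_pow h1)
    exact hr2 (by rw [h2])
  obtain ⟨Q₀, hQ₀⟩ : ∃ Q₀, Q₀ = Q ⊓ C := ⟨_, rfl⟩
  have hQ₀Q : Q₀ ≤ Q := by rw [hQ₀]; exact inf_le_left
  have hQ₀C : Q₀ ≤ C := by rw [hQ₀]; exact inf_le_right
  have hmemQ₀ : ∀ q, q ∈ Q → q ∈ C → q ∈ Q₀ := by intro q h1 h2; rw [hQ₀]; exact ⟨h1, h2⟩
  have hzQ₀ : z ∈ Q₀ := hmemQ₀ z hzQ hzC
  have hnorm : ¬ ∀ c ∈ Q₀, g * c * g⁻¹ ∈ Q₀ := by
    intro hnorm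
    have hE1 : ∀ k : ℕ, ∀ c ∈ Q₀, c ^ 2 ^ k = 1 → g * c * g⁻¹ = c := by
      intro k
      induction k with
      | zero => intro c _ hc; rw [pow_zero, pow_one] at hc; rw [hc]; group
      | succ k ih =>
        intro c hc hck
        have hc2 : g * c ^ 2 * g⁻¹ = c ^ 2 := by
          apply ih _ (pow_mem hc 2)
          rw [← pow_mul, ← pow_succ']; exact hck
        obtain ⟨w, hw⟩ : ∃ w, w = c⁻¹ * (g * c * g⁻¹) := ⟨_, rfl⟩
        have hwQ₀ : w ∈ Q₀ := by rw [hw]; exact mul_mem (inv_mem hc) (hnorm c hc)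
        have hw2 : w ^ 2 = 1 := by
          have hcm : c⁻¹ * (g * c * g⁻¹) = (g * c * g⁻¹) * c⁻¹ :=
            hcomm _ (hQ₀C (inv_mem hc)) _ (hQ₀C (hnorm c hc))
          calc w ^ 2 = c⁻¹ * (g * c * g⁻¹) * (c⁻¹ * (g * c * g⁻¹)) := by rw [hw, pow_two]
            _ = c⁻¹ * (g * c * g⁻¹) * ((g * c * g⁻¹) * c⁻¹) := by rw [← hcm]
            _ = c⁻¹ * (g * c ^ 2 * g⁻¹) * c⁻¹ := by rw [pow_two]; group
            _ = 1 := by rw [hc2]; group
        have hgw : g * w * g⁻¹ = w := by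
          by_cases hw1 : w = 1
          · rw [hw1]; group
          · rw [huniq w (hQ₀C hwQ₀) hw2 hw1]; exact hzG g
        have h1 : g * c * g⁻¹ = c * w := by rw [hw]; group
        have hw1 : w = 1 := fix_of_odd h1 hgw hgr' hr2 (j := 1) (by rw [pow_one]; exact hw2)
        rw [h1, hw1, mul_one]
    have hE1' : ∀ c ∈ Q₀, g * c * g⁻¹ = c := by
      intro c hc
      obtain ⟨k, hk⟩ := h2pow c (hCT (hQ₀C hc))
      exact hE1 k c hc hk
    apply hgC
    rw [mem_centralizer_iff]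
    intro q hq
    have hgoal : g * q * g⁻¹ = q := by
      by_cases hqQ₀ : q ∈ Q₀
      · exact hE1' q hqQ₀
      · have hqC : q ∉ C := fun h => hqQ₀ (hmemQ₀ q hq h)
        have hq'Q : g * q * g⁻¹ ∈ Q := hQn.conj_mem q hq g
        have hq'C : g * q * g⁻¹ ∉ C := by
          intro h
          have h1 := hE1' _ (hmemQ₀ _ hq'Q h)
          have h2 : g * q * g⁻¹ = q := by
            have : g * q * g⁻¹ = g⁻¹ * (g * (g * q * g⁻¹) * g⁻¹) * g := by group
            rw [this, h1]; group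
          rw [h2] at h
          exact hqC h
        obtain ⟨w, hw⟩ : ∃ w, w = q⁻¹ * (g * q * g⁻¹) := ⟨_, rfl⟩
        have hwC : w ∈ C := by
          rw [hw]
          exact mem_of_index_two hCT hcard (hQT hq) (hQT hq'Q) hqC hq'C
        have hwQ₀ : w ∈ Q₀ := hmemQ₀ w (by rw [hw]; exact mul_mem (inv_mem hq) hq'Q) hwC
        have h1 : g * q * g⁻¹ = q * w := by rw [hw]; group
        obtain ⟨k, hk⟩ := h2pow w (hCT hwC)
        have hw1 : w = 1 := fix_of_odd h1 (hE1' w hwQ₀) hgr' hr2 hk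
        rw [h1, hw1, mul_one]
    calc q * g = (g * q * g⁻¹) * g := by rw [hgoal]
      _ = g * q := by group
  -- the structure of Q
  have hQ₀c : IsCyclic Q₀ :=
    isCyclic_of_injective (Subgroup.inclusion hQ₀C) (Subgroup.inclusion_injective hQ₀C)
  obtain ⟨q₀, hq₀Q₀, hQ₀eq⟩ := exists_gen Q₀ hQ₀c
  obtain ⟨q₁, hq₁⟩ : ∃ q₁, q₁ = g * q₀ * g⁻¹ := ⟨_, rfl⟩
  have hq₁Q₀ : q₁ ∉ Q₀ := by
    intro h
    apply hnorm
    intro c hc
    rw [hQ₀eq] at hc
    obtain ⟨i, rfl⟩ := mem_zpowers_iff.1 hc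
    rw [← conj_zpow, ← hq₁]
    exact zpow_mem h i
  have hq₀Q : q₀ ∈ Q := hQ₀Q hq₀Q₀
  have hq₀C : q₀ ∈ C := hQ₀C hq₀Q₀
  have hq₁Q : q₁ ∈ Q := by rw [hq₁]; exact hQn.conj_mem q₀ hq₀Q g
  have hq₁C : q₁ ∉ C := fun h => hq₁Q₀ (hmemQ₀ q₁ hq₁Q h)
  have hq₁T : q₁ ∈ (T : Subgroup G) := hQT hq₁Q
  have hq₁4 : q₁ ^ 4 = 1 := (hP q₁ hq₁T hq₁C).1
  have hq₀4 : q₀ ^ 4 = 1 := by
    rw [hq₁, conj_pow] at hq₁4
    have : q₀ ^ 4 = g⁻¹ * (g * q₀ ^ 4 * g⁻¹) * g := by group
    rw [this, hq₁4]; group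
  have hq₀1 : q₀ ≠ 1 := by
    intro h
    rw [hQ₀eq, h, zpowers_one_eq_bot, mem_bot] at hzQ₀
    exact hz1 hzQ₀
  have hq₀2 : q₀ ^ 2 ≠ 1 := by
    intro h
    have h1 := huniq q₀ hq₀C h hq₀1
    apply hq₁Q₀
    rw [hq₁, h1, hzG g]
    exact hzQ₀
  have hq₀z : q₀ ^ 2 = z := by
    apply huniq _ (pow_mem hq₀C 2) _ hq₀2
    rw [← pow_mul]; exact hq₀4
  have hq₁z : q₁ * q₁ = z := by
    rw [← pow_two, hq₁, conj_pow, hq₀z, hzG g]
  have hinv : q₁ * q₀ * q₁⁻¹ = q₀⁻¹ := (hP q₁ hq₁T hq₁C).2 q₀ hq₀C hq₀4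
  have hoq₀ : orderOf q₀ = 2 * 2 := by
    have := orderOf_eq_prime_pow (p := 2) (n := 1) (x := q₀) (by simpa using hq₀2)
      (by simpa using hq₀4)
    simpa using this
  have hcardQ : Nat.card Q = 4 * 2 := by
    have hidx : (Q₀.subgroupOf Q).index = 2 := by
      rw [Subgroup.index_eq_two_iff]
      refine ⟨⟨q₁, hq₁Q⟩, ?_⟩
      intro b
      by_cases hb : (b : G) ∈ Q₀
      · right
        refine ⟨hb, ?_⟩
        intro h
        have h' : (b : G) * q₁ ∈ Q₀ := h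
        exact hq₁Q₀ ((Subgroup.mul_mem_cancel_left Q₀ hb).1 h')
      · left
        refine ⟨?_, hb⟩
        show (b : G) * q₁ ∈ Q₀
        have hbC : (b : G) ∉ C := fun h => hb (hmemQ₀ _ b.2 h)
        have := mem_of_index_two hCT hcard (a := (b : G)⁻¹) (b := q₁) (inv_mem (hQT b.2)) hq₁T
          (fun h => hbC (by simpa using h)) hq₁C
        rw [inv_inv] at this
        exact hmemQ₀ _ (mul_mem b.2 hq₁Q) this
    have h := Subgroup.card_mul_index (Q₀.subgroupOf Q)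
    rw [hidx, Nat.card_congr (Subgroup.subgroupOfEquivOfLe hQ₀Q).toEquiv, hQ₀eq,
      Nat.card_zpowers, hoq₀] at h
    omega
  obtain ⟨e⟩ : Nonempty (Q ≃* QuaternionGroup 2) := by
    apply Cfsg.Agent.Lib.Helper54.Quaternion.quaternion_iso (⟨q₀, hq₀Q⟩ : Q) ⟨q₁, hq₁Q⟩ 2
    · rw [Subgroup.orderOf_mk]; exact hoq₀
    · norm_num
    · exact hcardQ
    · apply Subtype.ext
      show q₁ * q₁ = q₀ ^ 2
      rw [hq₁z, hq₀z]
    · intro h
      obtain ⟨i, hi⟩ := mem_zpowers_iff.1 h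
      apply hq₁Q₀
      rw [hQ₀eq, mem_zpowers_iff]
      exact ⟨i, by simpa using congrArg Subtype.val hi⟩
    · apply Subtype.ext
      show q₁ * q₀ * q₁⁻¹ = q₀⁻¹
      exact hinv
  -- the odd prime is 3
  have hr3 : r = 3 := by
    by_contra hr3
    apply hgC
    obtain ⟨σ, hσ⟩ : ∃ σ : MulAut Q, σ = MulAut.conjNormal g := ⟨_, rfl⟩
    have hσr : σ ^ r = 1 := by rw [hσ, ← map_pow, hgr', map_one]
    obtain ⟨α, hα⟩ : ∃ α : MulAut (QuaternionGroup 2), α = MulAut.congr e σ := ⟨_, rfl⟩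
    have hαr : α ^ r = 1 := by rw [hα, ← map_pow, hσr, map_one]
    have hα12 := Cfsg.Agent.Lib.Helper2.SL23.aut_pow_twelve α
    have h1 : orderOf α ∣ r := orderOf_dvd_of_pow_eq_one hαr
    have h2 : orderOf α ∣ 12 := orderOf_dvd_of_pow_eq_one hα12
    have hcop : Nat.Coprime r 12 := by
      have h12 : (12 : ℕ) = 2 ^ 2 * 3 := by norm_num
      rw [h12]
      apply Nat.Coprime.mul_right
      · apply Nat.Coprime.pow_right
        exact ((Nat.Prime.coprime_iff_not_dvd Nat.prime_two).2 hr2).symm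
      · rw [Nat.coprime_primes hr Nat.prime_three]; exact hr3
    have hα1 : α = 1 := orderOf_eq_one_iff.1 (Nat.eq_one_of_dvd_coprimes hcop h1 h2)
    have hσ1 : σ = 1 := by
      apply (MulAut.congr e).injective
      rw [← hα, hα1, map_one]
    rw [mem_centralizer_iff]
    intro q hq
    have h3 : ((σ ⟨q, hq⟩ : Q) : G) = g * q * g⁻¹ := by
      rw [hσ]; exact MulAut.conjNormal_apply g ⟨q, hq⟩
    rw [hσ1] at h3
    have h4 : g * q * g⁻¹ = q := h3.symm
    calc q * g = (g * q * g⁻¹) * g := by rw [h4]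
      _ = g * q := by group
  subst hr3
  -- the subgroup U
  obtain ⟨U, hU⟩ : ∃ U, U = Q ⊔ zpowers g := ⟨_, rfl⟩
  have hQU : Q ≤ U := by rw [hU]; exact le_sup_left
  have hgU : g ∈ U := by rw [hU]; exact le_sup_right (a := Q) (mem_zpowers g)
  have hiso : Nonempty (U ≃* Matrix.SpecialLinearGroup (Fin 2) (ZMod 3)) := by
    apply Cfsg.Agent.Lib.Helper2.SL23.iso_sl23 (Q.subgroupOf U)
      ((Subgroup.subgroupOfEquivOfLe hQU).trans e) (⟨g, hgU⟩ : U)
    · apply Subtype.ext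
      show g ^ 3 = 1
      exact hgr'
    · have : (Q.subgroupOf U).Normal := inferInstance
      rw [Subgroup.normalizer_eq_top]; trivial
    · by_contra hcon
      push Not at hcon
      apply hgC
      rw [mem_centralizer_iff]
      intro q hq
      have := hcon ⟨q, hQU hq⟩ (by rw [mem_subgroupOf]; exact hq)
      have h' : g * q = q * g := congrArg Subtype.val this
      exact h'.symm
    · have h1 : (zpowers g).subgroupOf U = zpowers (⟨g, hgU⟩ : U) := by
        have : zpowers g = (zpowers (⟨g, hgU⟩ : U)).map U.subtype := by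
          rw [MonoidHom.map_zpowers]; rfl
        rw [this, Subgroup.subgroupOf,
          Subgroup.comap_map_eq_self_of_injective U.subtype_injective]
      rw [← h1, ← Subgroup.subgroupOf_sup hQU (zpowers_le.2 hgU), ← hU, Subgroup.subgroupOf_self]
  refine ⟨U, ?_, hiso⟩
  have hker : (MulAut.conjNormal (H := Q)).ker ≤ zpowers z := by
    intro c hc
    rw [MonoidHom.mem_ker] at hc
    have hcent : ∀ q (_ : q ∈ Q), c * q * c⁻¹ = q := by
      intro q hq
      have h3 : ((MulAut.conjNormal c ⟨q, hq⟩ : Q) : G) = c * q * c⁻¹ :=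
        MulAut.conjNormal_apply c ⟨q, hq⟩
      rw [hc] at h3
      exact h3.symm
    have hcQ : c ∈ Q := by
      apply hCQ
      rw [mem_centralizer_iff]
      intro q hq
      have := hcent q hq
      calc q * c = (c * q * c⁻¹) * c := by rw [this]
        _ = c * q := by group
    have hcC : c ∈ C := by
      by_contra hcC
      have h1 := (hP c (hQT hcQ) hcC).2 q₀ hq₀C hq₀4
      rw [hcent q₀ hq₀Q] at h1
      apply hq₀2
      rw [pow_two]; nth_rewrite 1 [h1]; group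
    have hc4 : c ^ 4 = 1 := by
      have hcQ₀ := hmemQ₀ c hcQ hcC
      rw [hQ₀eq] at hcQ₀
      obtain ⟨i, rfl⟩ := mem_zpowers_iff.1 hcQ₀
      rw [← zpow_natCast, ← zpow_mul, mul_comm, zpow_mul, zpow_natCast, hq₀4, one_zpow]
    have h2 := (hP q₁ hq₁T hq₁C).2 c hcC hc4
    have h3 := hcent q₁ hq₁Q
    have hc2 : c ^ 2 = 1 := by
      have h5 : q₁ * c * q₁⁻¹ = c := by
        calc q₁ * c * q₁⁻¹ = (c * q₁ * c⁻¹) * c * q₁⁻¹ := by rw [h3]
          _ = c := by group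
      rw [h5] at h2
      rw [pow_two]; nth_rewrite 1 [h2]; group
    by_cases hc1 : c = 1
    · rw [hc1]; exact one_mem _
    · rw [huniq c hcC hc2 hc1]; exact mem_zpowers z
  have hcardG : Nat.card G ≤ 48 := by
    have h1 := Subgroup.card_mul_index (MulAut.conjNormal (H := Q)).ker
    rw [Subgroup.index_ker] at h1
    have h2 : Nat.card (MulAut.conjNormal (H := Q)).ker ≤ 2 := by
      calc Nat.card (MulAut.conjNormal (H := Q)).ker ≤ Nat.card (zpowers z) :=
            Subgroup.card_le_of_le hker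
        _ = 2 := by rw [Nat.card_zpowers, orderOf_eq_prime hz2 hz1]
    have h3 : Nat.card (MulAut.conjNormal (H := Q)).range ≤ 24 := by
      calc Nat.card (MulAut.conjNormal (H := Q)).range ≤ Nat.card (MulAut Q) :=
            Nat.card_le_card_of_injective _ Subtype.val_injective
        _ = Nat.card (MulAut (QuaternionGroup 2)) := Nat.card_congr (MulAut.congr e).toEquiv
        _ ≤ 24 := card_aut_le
    calc Nat.card G = _ * _ := h1.symm
      _ ≤ 2 * 24 := Nat.mul_le_mul h2 h3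
  have h24 : 24 ∣ Nat.card U := by
    have h8 : 8 ∣ Nat.card U := by
      have := Subgroup.card_dvd_of_le hQU
      rwa [hcardQ] at this
    have h3 : 3 ∣ Nat.card U := by
      have := orderOf_dvd_natCard (⟨g, hgU⟩ : U)
      rwa [Subgroup.orderOf_mk, hgr] at this
    exact Nat.Coprime.mul_dvd_of_dvd_of_dvd (by norm_num) h8 h3
  have hidx : U.index = 1 ∨ U.index = 2 := by
    have h1 := Subgroup.card_mul_index U
    obtain ⟨k, hk⟩ := h24
    have hk0 : k ≠ 0 := by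
      rintro rfl
      have := Nat.card_pos (α := U)
      omega
    have hi0 : U.index ≠ 0 := Subgroup.index_ne_zero_of_finite
    rw [hk] at h1
    have h5 : 24 * k * U.index ≤ 48 := by rw [h1]; exact hcardG
    have hk1 : 1 ≤ k := Nat.one_le_iff_ne_zero.2 hk0
    have h6 : 24 * U.index ≤ 48 := by nlinarith
    omega
  rcases hidx with h | h
  · rw [Subgroup.index_eq_one] at h; rw [h]; infer_instance
  · exact Subgroup.normal_of_index_eq_two h

/-- Let G be a finite solvable group with O(G) = 1 whose Sylow 2-subgroup T is dihedral of order at least 8 or semidihedral, with G ≠ T and Z(T) normal in G. Then G has a normal subgroup isomorphic to SL₂(3). -/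
theorem result {G : Type*} [Group G] [Finite G] (hsol : IsSolvable G) (hO : Cfsg.oddCore G = ⊥) (T : Sylow 2 G) (hT : (∃ n : ℕ, 4 ≤ n ∧ Nonempty (↥(T : Subgroup G) ≃* DihedralGroup n)) ∨ Cfsg.IsQuasiDihedral ↥(T : Subgroup G)) (hne : (T : Subgroup G) ≠ ⊤) (hZ : ((T : Subgroup G) ⊓ Subgroup.centralizer ((T : Subgroup G) : Set G)).Normal) : ∃ U : Subgroup G, U.Normal ∧ Nonempty (↥U ≃* Matrix.SpecialLinearGroup (Fin 2) (ZMod 3)) := by
  have hHT : HT ↥(T : Subgroup G) := by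
    rcases hT with ⟨n, hn, ⟨e⟩⟩ | h
    · exact HT_of_equiv e (HT_dihedral n hn)
    · exact HT_qd h
  obtain ⟨C, hc, hi, h4, hP⟩ := hHT
  have hcardeq : Nat.card (C.map (T : Subgroup G).subtype) = Nat.card C :=
    (Nat.card_congr (Subgroup.equivMapOfInjective C _ (Subgroup.subtype_injective _)).toEquiv).symm
  apply main hsol hO T hne hZ (C.map (T : Subgroup G).subtype)
  · exact Subgroup.map_subtype_le C
  · exact (Subgroup.equivMapOfInjective C _ (Subgroup.subtype_injective _)).isCyclic.1 hc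
  · rw [hcardeq, ← Subgroup.card_mul_index C, hi, mul_comm]
  · rw [hcardeq]; exact h4
  · intro t ht htC
    have htC' : (⟨t, ht⟩ : (T : Subgroup G)) ∉ C := by
      intro h
      exact htC ⟨⟨t, ht⟩, h, rfl⟩
    obtain ⟨h1, h2⟩ := hP _ htC'
    refine ⟨?_, ?_⟩
    · have := congrArg Subtype.val h1
      exact this
    · rintro c ⟨c', hc', rfl⟩ hc4
      have h3 := h2 c' hc' (Subtype.ext hc4)
      have := congrArg Subtype.val h3
      exact this

end Cfsg.Agent.S2879
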