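import Mathlib
import Cfsg.Statements.S0607
import Cfsg.Agent.Lib.Helper10.Timmesfeld
import Cfsg.Agent.S0606

set_option autoImplicit false
open Cfsg

namespace Cfsg.Agent.S0607

open scoped commutatorElement
open Cfsg.Agent.Lib.Helper10.Thompson Cfsg.Agent.Lib.Helper10.Timmesfeld
open Pointwise

theorem result {G : Type*} [Group G] [Finite G] {p : ℕ} [Fact p.Prime] (V : Subgroup G) [V.Normal] (hV : Cfsg.IsElementaryAbelian p V) (A : Subgroup G) (hA : A ∈ Cfsg.maxElementaryAbelianSubgroups p G) : (⁅V, A⁆ ⊔ (A ⊓ Subgroup.centralizer ((⁅V, A⁆ : Subgroup G) : Set G))) ∈ Cfsg.maxElementaryAbelianSubgroups p G ∧ ⁅⁅V, ⁅V, A⁆ ⊔ (A ⊓ Subgroup.centralizer ((⁅V, A⁆ : Subgroup G) : Set G))⁆, ⁅V, A⁆ ⊔ (A ⊓ Subgroup.centralizer ((⁅V, A⁆ : Subgroup G) : Set G))⁆ = ⊥ ∧ (⁅V, A⁆ ≠ ⊥ → ⁅V, ⁅V, A⁆ ⊔ (A ⊓ Subgroup.centralizer ((⁅V, A⁆ : Subgroup G) : Set G))⁆ ≠ ⊥) := by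
  have hAV : A ≤ Subgroup.normalizer (V : Set G) := by
    rw [Subgroup.normalizer_eq_top]; exact le_top
  have hAc := ea_le_centralizer hA.1
  have hVcent := ea_le_centralizer hV
  have hVc := ea_comm hV
  have hab : ⁅A, A⁆ ≤ Subgroup.centralizer (V : Set G) := by
    rw [Subgroup.commutator_eq_bot_iff_le_centralizer.mpr hAc]; exact bot_le
  have hbest := Cfsg.Agent.S0606.result V hV A hA
  obtain ⟨r1, r2⟩ := core V A V hVc hAV hab le_rfl hbest.1
  have hMV : ⁅V, A⁆ ≤ V := Subgroup.commutator_le_left V A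
  have hVM : V ≤ Subgroup.centralizer ((⁅V, A⁆ : Subgroup G) : Set G) :=
    hVcent.trans (Subgroup.centralizer_le hMV)
  have hCA : V ⊓ Subgroup.centralizer (A : Set G) ≤ A := by
    have hea := ea_sup (ea_of_le hV (inf_le_left : V ⊓ Subgroup.centralizer (A : Set G) ≤ V)) hA.1
      inf_le_right
    have hcard := hA.2 _ hea
    have heq : A = (V ⊓ Subgroup.centralizer (A : Set G)) ⊔ A :=
      Subgroup.eq_of_le_of_card_ge le_sup_right hcard
    intro x hx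
    rw [heq]; exact Subgroup.mem_sup_left hx
  have hCA0 : V ⊓ Subgroup.centralizer (A : Set G) ≤
      A ⊓ Subgroup.centralizer ((⁅V, A⁆ : Subgroup G) : Set G) :=
    le_inf hCA (inf_le_left.trans hVM)
  have hstar : ⁅V, A⁆ ⊔ (A ⊓ Subgroup.centralizer ((⁅V, A⁆ : Subgroup G) : Set G)) =
      (A ⊓ Subgroup.centralizer ((⁅V, A⁆ : Subgroup G) : Set G)) ⊔
        (V ⊓ Subgroup.centralizer
          ((A ⊓ Subgroup.centralizer ((⁅V, A⁆ : Subgroup G) : Set G) : Subgroup G) : Set G)) := by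
    rw [r2]
    apply le_antisymm
    · exact sup_le (le_sup_left.trans le_sup_right) le_sup_left
    · exact sup_le le_sup_right (sup_le le_sup_left (hCA0.trans le_sup_right))
  have hea : Cfsg.IsElementaryAbelian p
      ((A ⊓ Subgroup.centralizer ((⁅V, A⁆ : Subgroup G) : Set G)) ⊔
        (V ⊓ Subgroup.centralizer
          ((A ⊓ Subgroup.centralizer ((⁅V, A⁆ : Subgroup G) : Set G) : Subgroup G) : Set G))) := by
    apply ea_sup (ea_of_le hA.1 inf_le_left) (ea_of_le hV inf_le_left)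
    rw [Subgroup.le_centralizer_iff]; exact inf_le_right
  have hcard : Nat.card A ≤ Nat.card
      ↥((A ⊓ Subgroup.centralizer ((⁅V, A⁆ : Subgroup G) : Set G)) ⊔
        (V ⊓ Subgroup.centralizer
          ((A ⊓ Subgroup.centralizer ((⁅V, A⁆ : Subgroup G) : Set G) : Subgroup G) : Set G))) := by
    have h1 := card_mul_card_le (A ⊓ Subgroup.centralizer ((⁅V, A⁆ : Subgroup G) : Set G))
      (V ⊓ Subgroup.centralizer
          ((A ⊓ Subgroup.centralizer ((⁅V, A⁆ : Subgroup G) : Set G) : Subgroup G) : Set G))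
    have h2 : (A ⊓ Subgroup.centralizer ((⁅V, A⁆ : Subgroup G) : Set G)) ⊓
        (V ⊓ Subgroup.centralizer
          ((A ⊓ Subgroup.centralizer ((⁅V, A⁆ : Subgroup G) : Set G) : Subgroup G) : Set G)) ≤
        V ⊓ Subgroup.centralizer (A : Set G) := fun x hx => ⟨hx.2.1, hAc hx.1.1⟩
    have h3 := Subgroup.card_le_of_le h2
    have hpos : 0 < Nat.card ↥(V ⊓ Subgroup.centralizer (A : Set G)) := Nat.card_pos
    have : Nat.card A * Nat.card ↥(V ⊓ Subgroup.centralizer (A : Set G)) ≤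
        Nat.card ↥((A ⊓ Subgroup.centralizer ((⁅V, A⁆ : Subgroup G) : Set G)) ⊔
        (V ⊓ Subgroup.centralizer
          ((A ⊓ Subgroup.centralizer ((⁅V, A⁆ : Subgroup G) : Set G) : Subgroup G) : Set G))) *
          Nat.card ↥(V ⊓ Subgroup.centralizer (A : Set G)) := by
      rw [← r1]; exact h1.trans (Nat.mul_le_mul_left _ h3)
    exact Nat.le_of_mul_le_mul_right this hpos
  have hA0N : A ⊓ Subgroup.centralizer ((⁅V, A⁆ : Subgroup G) : Set G) ≤
      Subgroup.normalizer ((⁅V, A⁆ : Subgroup G) : Set G) :=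
    inf_le_right.trans (Subgroup.centralizer_le_normalizer _)
  have hsub : ⁅V, ⁅V, A⁆ ⊔ (A ⊓ Subgroup.centralizer ((⁅V, A⁆ : Subgroup G) : Set G))⁆ ≤ ⁅V, A⁆ := by
    rw [Subgroup.commutator_le]
    intro v hv x hx
    have hx' : x ∈ ((⁅V, A⁆ ⊔ (A ⊓ Subgroup.centralizer ((⁅V, A⁆ : Subgroup G) : Set G)) :
        Subgroup G) : Set G) := hx
    rw [Subgroup.coe_mul_of_right_le_normalizer_left _ _ hA0N] at hx'
    obtain ⟨m, hm, a, ha, rfl⟩ := Set.mem_mul.mp hx'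
    have e : ⁅v, m * a⁆ = ⁅v, m⁆ * (m * ⁅v, a⁆ * m⁻¹) := by
      simp only [commutatorElement_def]; group
    have h1 : ⁅v, m⁆ = 1 := commutatorElement_eq_one_iff_mul_comm.mpr (hVc v hv m (hMV hm))
    have hva : ⁅v, a⁆ ∈ ⁅V, A⁆ := Subgroup.commutator_mem_commutator hv ha.1
    have h2 : m * ⁅v, a⁆ = ⁅v, a⁆ * m := hVc m (hMV hm) _ (hMV hva)
    rw [e, h1, h2]
    have : 1 * (⁅v, a⁆ * m * m⁻¹) = ⁅v, a⁆ := by group
    rw [this]
    exact hva
  refine ⟨?_, ?_, ?_⟩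
  · rw [hstar]
    exact ⟨hea, fun B hB => (hA.2 B hB).trans hcard⟩
  · have h0 : ⁅(⁅V, A⁆ : Subgroup G),
        ⁅V, A⁆ ⊔ (A ⊓ Subgroup.centralizer ((⁅V, A⁆ : Subgroup G) : Set G))⁆ = ⊥ := by
      rw [Subgroup.commutator_eq_bot_iff_le_centralizer, Subgroup.le_centralizer_iff]
      exact sup_le (hMV.trans hVM) inf_le_right
    rw [eq_bot_iff, ← h0]
    exact Subgroup.commutator_mono hsub le_rfl
  · intro hne hbot
    apply hne
    have hVc0 : V ≤ Subgroup.centralizer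
        ((A ⊓ Subgroup.centralizer ((⁅V, A⁆ : Subgroup G) : Set G) : Subgroup G) : Set G) :=
      (Subgroup.commutator_eq_bot_iff_le_centralizer.mp hbot).trans
        (Subgroup.centralizer_le (show A ⊓ Subgroup.centralizer ((⁅V, A⁆ : Subgroup G) : Set G) ≤
          ⁅V, A⁆ ⊔ (A ⊓ Subgroup.centralizer ((⁅V, A⁆ : Subgroup G) : Set G)) from le_sup_right))
    have hVeq : V ≤ ⁅V, A⁆ ⊔ (V ⊓ Subgroup.centralizer (A : Set G)) := by
      rw [← r2]; exact le_inf le_rfl hVc0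
    exact comm_eq_bot_of_eq V A A V hVc (ea_isPGroup hV) hAV le_rfl (ea_isPGroup hA.1) le_rfl
      (fun a ha => ⟨a, ha, 1, Subgroup.one_mem _, (mul_one a).symm⟩) hVeq

end Cfsg.Agent.S0607
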