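import Cfsg.Statements.S0684
import Mathlib

set_option autoImplicit false
open Cfsg

namespace Cfsg.Agent.S0684

section cyc

open scoped IsMulCommutative

variable {K : Type*} [Field K] {V : Type*} [AddCommGroup V] [Module K V]
  {G : Type*} [Group G] [Finite G]

/-- A finite commutative group acting faithfully and irreducibly on a nonzero subspace is cyclic. -/
theorem cyclic_of_irreducible (ρ : G →* Module.End K V) (W : Submodule K V) (hW : W ≠ ⊥)
    (hinv : ∀ g : G, ∀ v ∈ W, ρ g v ∈ W)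
    (hmin : ∀ W' : Submodule K V, W' ≤ W → (∀ g : G, ∀ v ∈ W', ρ g v ∈ W') → W' = ⊥ ∨ W' = W)
    (hcomm : ∀ g h : G, g * h = h * g)
    (hfaith : ∀ g : G, (∀ v ∈ W, ρ g v = v) → g = 1) : IsCyclic G := by
  classical
  let r : G → Module.End K W := fun g => (ρ g).restrict (hinv g)
  have hr_apply : ∀ (g : G) (w : W), ((r g w : W) : V) = ρ g (w : V) := fun g w => rfl
  have hr_mul : ∀ g h : G, r (g * h) = r g * r h := by
    intro g h
    apply LinearMap.ext
    intro w
    apply Subtype.ext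
    rw [hr_apply, map_mul]
    rfl
  have hr_one : r 1 = 1 := by
    apply LinearMap.ext
    intro w
    apply Subtype.ext
    rw [hr_apply, map_one]
    rfl
  have hScomm : ∀ a ∈ Set.range r, ∀ b ∈ Set.range r, a * b = b * a := by
    rintro _ ⟨g, rfl⟩ _ ⟨h, rfl⟩
    rw [← hr_mul, ← hr_mul, hcomm]
  haveI := Algebra.isMulCommutative_adjoin K hScomm
  let R := Algebra.adjoin K (Set.range r)
  let f : G →* R :=
    { toFun := fun g => ⟨r g, Algebra.subset_adjoin ⟨g, rfl⟩⟩
      map_one' := Subtype.ext hr_one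
      map_mul' := fun g h => Subtype.ext (hr_mul g h) }
  have hf : Function.Injective f := by
    intro g h hgh
    have h1 : r g = r h := congrArg Subtype.val hgh
    have h2 : h⁻¹ * g = 1 := by
      apply hfaith
      intro v hv
      have h3 := congrArg (fun e : Module.End K W => ((e ⟨v, hv⟩ : W) : V)) h1
      simp only [hr_apply] at h3
      rw [map_mul, Module.End.mul_apply, h3, ← Module.End.mul_apply, ← map_mul, inv_mul_cancel,
        map_one]
      rfl
    exact (inv_mul_eq_one.mp h2).symm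
  have hWnt : Nontrivial W := by
    rw [Submodule.nontrivial_iff_ne_bot]; exact hW
  have hRnt : Nontrivial R := by
    refine ⟨⟨0, 1, ?_⟩⟩
    intro h01
    have h1 : (0 : Module.End K W) = 1 := congrArg Subtype.val h01
    obtain ⟨w, hw⟩ := exists_ne (0 : W)
    have := congrArg (fun e : Module.End K W => e w) h1
    simp at this
    exact hw this.symm
  have hinj : ∀ x : R, x ≠ 0 → Function.Injective (x : Module.End K W) := by
    intro x hx
    rw [← LinearMap.ker_eq_bot]
    set N := LinearMap.ker (x : Module.End K W) with hN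
    have hNinv : ∀ g : G, ∀ v ∈ N.map W.subtype, ρ g v ∈ N.map W.subtype := by
      rintro g _ ⟨n, hn, rfl⟩
      refine ⟨r g n, ?_, rfl⟩
      rw [SetLike.mem_coe, LinearMap.mem_ker] at hn ⊢
      have hc : x * f g = f g * x := mul_comm _ _
      have hc' : (x : Module.End K W) * r g = r g * (x : Module.End K W) :=
        congrArg Subtype.val hc
      have := congrArg (fun e : Module.End K W => e n) hc'
      simp only [Module.End.mul_apply] at this
      rw [this, hn, map_zero]
    have hNle : N.map W.subtype ≤ W := by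
      rintro _ ⟨n, _, rfl⟩
      exact n.2
    rcases hmin _ hNle hNinv with h | h
    · apply Submodule.map_injective_of_injective W.injective_subtype
      rw [h, Submodule.map_bot]
    · exfalso
      apply hx
      apply Subtype.ext
      apply LinearMap.ext
      intro w
      have : (w : V) ∈ N.map W.subtype := by rw [h]; exact w.2
      obtain ⟨n, hn, hnw⟩ := this
      have : n = w := Subtype.ext hnw
      rw [← this]
      exact hn
  have hnzd : ∀ x y : R, (x : Module.End K W) * (y : Module.End K W) = 0 → x = 0 ∨ y = 0 := by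
    intro x y h1
    by_cases hx : x = 0
    · exact Or.inl hx
    · right
      apply Subtype.ext
      apply LinearMap.ext
      intro w
      have h2 := congrArg (fun e : Module.End K W => e w) h1
      simp only [Module.End.mul_apply, LinearMap.zero_apply] at h2
      have := hinj x hx (h2.trans (map_zero _).symm)
      exact this
  refine @isCyclic_of_injective_ringHom R G inferInstance ?_ _ _ f hf
  exact @NoZeroDivisors.to_isDomain R _ hRnt
    ⟨fun {x y} hxy => hnzd x y (congrArg Subtype.val hxy)⟩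

end cyc

section aux
variable {p : ℕ} [Fact p.Prime] {V : Type*} [AddCommGroup V] [Module (ZMod p) V] [Finite V]

theorem exists_min_inv (P : Submodule (ZMod p) V → Prop) (W₁ : Submodule (ZMod p) V)
    (h1 : W₁ ≠ ⊥) (hP : P W₁) :
    ∃ W : Submodule (ZMod p) V, W ≤ W₁ ∧ W ≠ ⊥ ∧ P W ∧
      ∀ W' : Submodule (ZMod p) V, W' ≤ W → P W' → W' = ⊥ ∨ W' = W := by
  have hwf : WellFounded ((· < ·) : Submodule (ZMod p) V → Submodule (ZMod p) V → Prop) :=
    wellFounded_lt
  obtain ⟨W, ⟨hW1, hW2, hW3⟩, hmin⟩ :=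
    hwf.has_min {W | W ≤ W₁ ∧ W ≠ ⊥ ∧ P W} ⟨W₁, le_rfl, h1, hP⟩
  refine ⟨W, hW1, hW2, hW3, ?_⟩
  intro W' hW' hPW'
  by_cases hbot : W' = ⊥
  · exact Or.inl hbot
  · right
    by_contra hne
    exact hmin W' ⟨hW'.trans hW1, hbot, hPW'⟩ (lt_of_le_of_ne hW' hne)

theorem finite_linearEquiv : Finite (V ≃ₗ[ZMod p] V) :=
  Finite.of_injective (fun e : V ≃ₗ[ZMod p] V => (e : V → V)) DFunLike.coe_injective

/-- A group acting freely on the nonzero vectors of an invariant subspace has order
dividing the number of these vectors. -/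
theorem card_dvd_of_free (H : Subgroup (V ≃ₗ[ZMod p] V)) (A : Subgroup H)
    (W : Submodule (ZMod p) V)
    (hinv : ∀ a ∈ A, ∀ v ∈ W, ((a : H) : V ≃ₗ[ZMod p] V) v ∈ W)
    (hfree : ∀ a ∈ A, ∀ v ∈ W, v ≠ 0 → ((a : H) : V ≃ₗ[ZMod p] V) v = v → a = 1) :
    Nat.card A ∣ p ^ Module.finrank (ZMod p) W - 1 := by
  classical
  haveI : Finite (V ≃ₗ[ZMod p] V) := finite_linearEquiv
  let X := {v : V // v ∈ W ∧ v ≠ 0}
  letI : MulAction A X :=
    { smul := fun a x => ⟨((a : H) : V ≃ₗ[ZMod p] V) x.1, hinv a a.2 x.1 x.2.1, by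
        intro h0
        exact x.2.2 ((LinearEquiv.map_eq_zero_iff _).mp h0)⟩
      one_smul := fun x => Subtype.ext rfl
      mul_smul := fun a b x => Subtype.ext rfl }
  have hsmul : ∀ (a : A) (x : X), ((a • x : X) : V) = ((a : H) : V ≃ₗ[ZMod p] V) x.1 :=
    fun a x => rfl
  have hstab : ∀ (x : X) (a : MulAction.stabilizer A x), a = 1 := by
    intro x a
    have ha := a.2
    rw [MulAction.mem_stabilizer_iff] at ha
    have h1 : (((a : A) : H) : V ≃ₗ[ZMod p] V) x.1 = x.1 := by
      rw [← hsmul, ha]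
    have := hfree (a : A) (a : A).2 x.1 x.2.1 x.2.2 h1
    exact Subtype.ext (Subtype.ext this)
  have hXcard : Nat.card X = p ^ Module.finrank (ZMod p) W - 1 := by
    let e : X ≃ {w : W // w ≠ 0} :=
      { toFun := fun x => ⟨⟨x.1, x.2.1⟩, fun h => x.2.2 (congrArg Subtype.val h)⟩
        invFun := fun w => ⟨w.1.1, w.1.2, fun h => w.2 (Subtype.ext h)⟩
        left_inv := fun x => rfl
        right_inv := fun w => rfl }
    rw [Nat.card_congr e]
    haveI : Fintype W := Fintype.ofFinite W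
    rw [Nat.card_eq_fintype_card, Fintype.card_subtype_compl, ← Nat.card_eq_fintype_card,
      Module.natCard_eq_pow_finrank (K := ZMod p) (V := W), Nat.card_zmod]
    simp
  haveI : Fintype A := Fintype.ofFinite A
  haveI : Fintype X := Fintype.ofFinite X
  have hcl := MulAction.card_eq_sum_card_group_div_card_stabilizer A X
  have h1 : ∀ x : X, Fintype.card (MulAction.stabilizer A x) = 1 := by
    intro x
    rw [Fintype.card_eq_one_iff]
    exact ⟨1, fun y => hstab x y⟩
  simp only [h1, Nat.div_one, Finset.sum_const, smul_eq_mul] at hcl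
  rw [← hXcard, Nat.card_eq_fintype_card, Nat.card_eq_fintype_card, hcl]
  exact Dvd.intro_left _ rfl

end aux

/-- Point stabiliser of a sharply doubly transitive group not of semilinear type: a maximal normal abelian subgroup `A` of a linear group `H` that is regular on non-zero vectors and has no irreducible cyclic normal subgroup is cyclic and reducible, and the order of `A` divides `p ^ k - 1` for `k` the dimension of a minimal `A`-invariant subspace. -/
theorem result {p : ℕ} [Fact p.Prime] {V : Type*} [AddCommGroup V] [Module (ZMod p) V] [Finite V] (H : Subgroup (V ≃ₗ[ZMod p] V)) (hreg : ∀ v w : V, v ≠ 0 → w ≠ 0 → ∃! h : H, (h : V ≃ₗ[ZMod p] V) v = w) (hI : ∀ A : Subgroup H, A.Normal → IsCyclic A → ∃ W : Submodule (ZMod p) V, W ≠ ⊥ ∧ W ≠ ⊤ ∧ ∀ a ∈ A, ∀ v ∈ W, ((a : H) : V ≃ₗ[ZMod p] V) v ∈ W) (A : Subgroup H) (hAn : A.Normal) (hAc : IsMulCommutative A) (hAmax : ∀ B : Subgroup H, B.Normal → IsMulCommutative B → A ≤ B → B = A) : IsCyclic A ∧ ∃ W : Submodule (ZMod p)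 V, W ≠ ⊥ ∧ W ≠ ⊤ ∧ (∀ a ∈ A, ∀ v ∈ W, ((a : H) : V ≃ₗ[ZMod p] V) v ∈ W) ∧ (∀ W' : Submodule (ZMod p) V, W' ≤ W → (∀ a ∈ A, ∀ v ∈ W', ((a : H) : V ≃ₗ[ZMod p] V) v ∈ W') → W' = ⊥ ∨ W' = W) ∧ Nat.card A ∣ p ^ Module.finrank (ZMod p) W - 1 := by
  classical
  haveI : Finite (V ≃ₗ[ZMod p] V) := finite_linearEquiv
  let ρ : A →* Module.End (ZMod p) V :=
    { toFun := fun a => (((a : H) : V ≃ₗ[ZMod p] V) : V →ₗ[ZMod p] V)
      map_one' := rfl
      map_mul' := fun a b => rfl }
  have hsemi : ∀ (h : H) (v : V), v ≠ 0 → (h : V ≃ₗ[ZMod p] V) v = v → h = 1 := by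
    intro h v hv hhv
    obtain ⟨h₀, _, huniq⟩ := hreg v v hv hv
    rw [huniq h hhv, huniq 1 rfl]
  have hcommA : ∀ a b : A, a * b = b * a := fun a b => hAc.is_comm.comm a b
  let P : Submodule (ZMod p) V → Prop :=
    fun W => ∀ a ∈ A, ∀ v ∈ W, ((a : H) : V ≃ₗ[ZMod p] V) v ∈ W
  have hVnt : (⊤ : Submodule (ZMod p) V) ≠ ⊥ := by
    obtain ⟨W, hW1, hW2, _⟩ := hI ⊥ inferInstance inferInstance
    intro h
    exact hW1 (eq_bot_iff.mpr (h ▸ le_top))
  obtain ⟨W₀, -, hW₀ne, hW₀inv, hW₀min⟩ :=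
    exists_min_inv P ⊤ hVnt (fun a _ v _ => Submodule.mem_top)
  have hcyc : IsCyclic A := by
    apply cyclic_of_irreducible ρ W₀ hW₀ne
    · intro g v hv; exact hW₀inv g g.2 v hv
    · intro W' hW' hinv
      exact hW₀min W' hW' (fun a ha v hv => hinv ⟨a, ha⟩ v hv)
    · exact hcommA
    · intro g hg
      obtain ⟨w, hw, hw0⟩ := (Submodule.ne_bot_iff _).mp hW₀ne
      have := hsemi (g : H) w hw0 (hg w hw)
      exact Subtype.ext this
  refine ⟨hcyc, ?_⟩
  obtain ⟨W₁, hW₁ne, hW₁top, hW₁inv⟩ := hI A hAn hcyc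
  obtain ⟨W, hWle, hWne, hWinv, hWmin⟩ := exists_min_inv P W₁ hW₁ne hW₁inv
  refine ⟨W, hWne, ?_, hWinv, hWmin, ?_⟩
  · intro h; apply hW₁top; rw [eq_top_iff, ← h]; exact hWle
  · exact card_dvd_of_free H A W hWinv (fun a _ v _ hv0 hav => hsemi a v hv0 hav)

end Cfsg.Agent.S0684
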