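import Cfsg.Statements.S0494

set_option autoImplicit false
open Cfsg

namespace Cfsg.Agent.S0494

/-- A simple group acts faithfully on the cosets of a proper subgroup. -/
theorem toPermHom_injective {G : Type*} [Group G] [IsSimpleGroup G] (H : Subgroup G)
    (hH : H ≠ ⊤) : Function.Injective (MulAction.toPermHom G (G ⧸ H)) := by
  rw [← MonoidHom.ker_eq_bot_iff]
  rcases (MulAction.toPermHom G (G ⧸ H)).normal_ker.eq_bot_or_eq_top with h | h
  · exact h
  · exfalso
    apply hH
    rw [← Subgroup.normalCore_eq_ker] at h
    exact top_le_iff.mp (h ▸ Subgroup.normalCore_le H)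

/-- A simple group of order `n` with a proper subgroup of index `k` has `n ∣ k!`. -/
theorem card_dvd_factorial_index {G : Type*} [Group G] [Finite G] [IsSimpleGroup G]
    (H : Subgroup G) (hH : H ≠ ⊤) : Nat.card G ∣ (H.index).factorial := by
  classical
  have hinj := toPermHom_injective H hH
  have h1 : Nat.card G = Nat.card (MulAction.toPermHom G (G ⧸ H)).range :=
    Nat.card_congr (MonoidHom.ofInjective hinj).toEquiv
  have h2 : Nat.card (MulAction.toPermHom G (G ⧸ H)).range ∣ Nat.card (Equiv.Perm (G ⧸ H)) :=
    Subgroup.card_subgroup_dvd_card _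
  have h3 : Nat.card (Equiv.Perm (G ⧸ H)) = (H.index).factorial := by
    rw [Nat.card_perm]
    rfl
  rw [h1, ← h3]
  exact h2

/-- A simple group of order 60 with a subgroup of index 5 is isomorphic to `A₅`. -/
theorem iso_of_index_five {G : Type*} [Group G] [Finite G] [IsSimpleGroup G]
    (h : Nat.card G = 60) (H : Subgroup G) (hH : H.index = 5) :
    Nonempty (G ≃* alternatingGroup (Fin 5)) := by
  classical
  have hne : H ≠ ⊤ := by
    rintro rfl
    rw [Subgroup.index_top] at hH
    omega
  have hinj := toPermHom_injective H hne
  have e : (G ⧸ H) ≃ Fin 5 := Finite.equivFinOfCardEq hH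
  let f : G →* Equiv.Perm (Fin 5) :=
    (e.permCongrHom).toMonoidHom.comp (MulAction.toPermHom G (G ⧸ H))
  have hf : Function.Injective f := (e.permCongrHom).injective.comp hinj
  have hcard : Nat.card f.range = 60 := by
    rw [← h]
    exact (Nat.card_congr (MonoidHom.ofInjective hf).toEquiv).symm
  have hidx : f.range.index = 2 := by
    have h1 := f.range.index_mul_card
    rw [hcard, Nat.card_perm, Nat.card_fin] at h1
    have : (5 : ℕ).factorial = 120 := by decide
    rw [this] at h1
    omega
  have hr : f.range = alternatingGroup (Fin 5) :=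
    Equiv.Perm.eq_alternatingGroup_of_index_eq_two hidx
  exact ⟨(MonoidHom.ofInjective hf).trans (MulEquiv.subgroupCongr hr)⟩

/-- A simple group of order 60 is isomorphic to the alternating group of degree 5. -/
theorem result {G : Type*} [Group G] [Finite G] [IsSimpleGroup G]
    (h : Nat.card G = 60) : Nonempty (G ≃* alternatingGroup (Fin 5)) := by
  classical
  have : Fact (Nat.Prime 2) := ⟨Nat.prime_two⟩
  let P : Sylow 2 G := default
  have hfac : (60 : ℕ).factorization 2 = 2 := by
    have : (60 : ℕ) = 2 ^ 2 * 15 := by norm_num
    rw [this, Nat.factorization_mul (by norm_num) (by norm_num), Nat.Prime.factorization_pow Nat.prime_two]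
    have h15 : (15 : ℕ).factorization 2 = 0 := Nat.factorization_eq_zero_of_not_dvd (by norm_num)
    simp [h15]
  have hP : Nat.card P = 4 := by
    rw [Sylow.card_eq_multiplicity, h, hfac]
    norm_num
  have hPidx : (P : Subgroup G).index = 15 := by
    have := (P : Subgroup G).index_mul_card
    rw [h] at this
    have hP' : Nat.card (P : Subgroup G) = 4 := hP
    rw [hP'] at this
    omega
  set N : Subgroup G := Subgroup.normalizer (P : Set G) with hN
  have hidx : N.index ∣ 15 := by
    have h1 := Sylow.card_dvd_index P
    rw [Sylow.card_eq_index_normalizer P, hPidx] at h1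
    exact h1
  have hPN : (P : Subgroup G) ≤ N := Subgroup.le_normalizer
  have hcases : N.index = 1 ∨ N.index = 3 ∨ N.index = 5 ∨ N.index = 15 := by
    have hle := Nat.le_of_dvd (by norm_num) hidx
    have hpos : N.index ≠ 0 := fun h0 => by rw [h0] at hidx; omega
    interval_cases hk : N.index <;> simp_all
  rcases hcases with h1 | h3 | h5 | h15
  · -- P normal
    exfalso
    have hNtop : N = ⊤ := Subgroup.index_eq_one.mp h1
    have hnorm : (P : Subgroup G).Normal := Subgroup.normalizer_eq_top_iff.mp hNtop
    rcases hnorm.eq_bot_or_eq_top with hb | ht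
    · have hP' : Nat.card (P : Subgroup G) = 4 := hP
      rw [hb, Subgroup.card_bot] at hP'
      omega
    · have hP' : Nat.card (P : Subgroup G) = 4 := hP
      rw [ht, Subgroup.card_top, h] at hP'
      omega
  · exfalso
    have hne : N ≠ ⊤ := by
      intro ht
      rw [ht, Subgroup.index_top] at h3
      omega
    have := card_dvd_factorial_index N hne
    rw [h, h3] at this
    revert this
    decide
  · exact iso_of_index_five h N h5
  · exfalso
    have hNcard : Nat.card N = 4 := by
      have := N.index_mul_card
      rw [h, h15] at this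
      omega
    have hNP : N = (P : Subgroup G) := by
      symm
      apply Subgroup.eq_of_le_of_card_ge hPN
      rw [hNcard]
      exact hP.ge
    have hcomm : ∀ a b : P, a * b = b * a := by
      have hc : IsMulCommutative P :=
        IsPGroup.isMulCommutative_of_card_eq_prime_sq (p := 2) (hP.trans (by norm_num))
      exact fun a b => hc.is_comm.comm a b
    have hcent : Subgroup.normalizer (P : Set G) ≤ Subgroup.centralizer (P : Set G) := by
      intro g hg
      have hg' : g ∈ (P : Subgroup G) := by
        rw [← hNP]; exact hg
      rw [Subgroup.mem_centralizer_iff]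
      intro x hx
      have := hcomm ⟨x, hx⟩ ⟨g, hg'⟩
      exact congrArg Subtype.val this
    have hcompl := MonoidHom.ker_transferSylow_isComplement' P hcent
    have hmul := hcompl.card_mul_card
    have hP' : Nat.card (P : Subgroup G) = 4 := hP
    rw [h, hP'] at hmul
    have hK : Nat.card (MonoidHom.transferSylow P hcent).ker = 15 := by omega
    rcases (MonoidHom.transferSylow P hcent).normal_ker.eq_bot_or_eq_top with hb | ht
    · rw [hb, Subgroup.card_bot] at hK
      omega
    · rw [ht, Subgroup.card_top, h] at hK
      omega

end Cfsg.Agent.S0494
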