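import Cfsg.Statements.S3378
import Cfsg.Agent.Lib.Helper56.SL25Pres
import Cfsg.Agent.Lib.Helper56.SmallSolvable
import Cfsg.Agent.S3377
import Cfsg.Agent.S0494

set_option autoImplicit false
open Cfsg

namespace Cfsg.Agent.S3378

open Cfsg.Agent.Lib.Helper56

abbrev Q8 := QuaternionGroup 2

theorem q8_key : ∀ q : Q8, q ≠ 1 → q = QuaternionGroup.a 2 ∨ q ^ 2 = QuaternionGroup.a 2 := by
  decide

theorem q8_invol : ∀ q : Q8, q ^ 2 = 1 → q = 1 ∨ q = QuaternionGroup.a 2 := by decide

theorem q8_a2_sq : (QuaternionGroup.a 2 : Q8) ^ 2 = 1 := by decide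

theorem q8_a2_ne : (QuaternionGroup.a 2 : Q8) ≠ 1 := by decide

section
variable {G : Type*} [Group G] (P : Sylow 2 G) (f : (P : Subgroup G) ≃* Q8)

/-- The involution of a quaternion Sylow 2-subgroup. -/
noncomputable def zOf : G := ((f.symm (QuaternionGroup.a 2) : (P : Subgroup G)) : G)

theorem zOf_mem : zOf P f ∈ (P : Subgroup G) := (f.symm (QuaternionGroup.a 2)).2

theorem zOf_sq : zOf P f ^ 2 = 1 := by
  have h : (f.symm (QuaternionGroup.a 2)) ^ 2 = 1 := by
    rw [← map_pow, q8_a2_sq, map_one]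
  have := congrArg (Subtype.val) h
  simpa [zOf] using this

theorem zOf_ne : zOf P f ≠ 1 := by
  intro h
  have h1 : f.symm (QuaternionGroup.a 2) = 1 := Subtype.ext h
  have h2 : f (f.symm (QuaternionGroup.a 2)) = f 1 := by rw [h1]
  rw [MulEquiv.apply_symm_apply, map_one] at h2
  exact q8_a2_ne h2

theorem zOf_key (s : G) (hs : s ∈ (P : Subgroup G)) (hs1 : s ≠ 1) :
    s = zOf P f ∨ s ^ 2 = zOf P f := by
  have hne : f ⟨s, hs⟩ ≠ 1 := by
    intro h
    apply hs1
    have : (⟨s, hs⟩ : (P : Subgroup G)) = 1 := by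
      apply f.injective
      rw [h, map_one]
    exact congrArg Subtype.val this
  rcases q8_key (f ⟨s, hs⟩) hne with h | h
  · left
    have : f.symm (f ⟨s, hs⟩) = f.symm (QuaternionGroup.a 2) := by rw [h]
    rw [MulEquiv.symm_apply_apply] at this
    exact congrArg Subtype.val this
  · right
    have : f.symm (f ⟨s, hs⟩ ^ 2) = f.symm (QuaternionGroup.a 2) := by rw [h]
    rw [map_pow, MulEquiv.symm_apply_apply] at this
    exact congrArg Subtype.val this

theorem zOf_invol (s : G) (hs : s ∈ (P : Subgroup G)) (hs2 : s ^ 2 = 1) :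
    s = 1 ∨ s = zOf P f := by
  have h2 : f ⟨s, hs⟩ ^ 2 = 1 := by
    rw [← map_pow]
    have : (⟨s, hs⟩ : (P : Subgroup G)) ^ 2 = 1 := Subtype.ext hs2
    rw [this, map_one]
  rcases q8_invol (f ⟨s, hs⟩) h2 with h | h
  · left
    have : (⟨s, hs⟩ : (P : Subgroup G)) = 1 := by
      apply f.injective
      rw [h, map_one]
    exact congrArg Subtype.val this
  · right
    have : f.symm (f ⟨s, hs⟩) = f.symm (QuaternionGroup.a 2) := by rw [h]
    rw [MulEquiv.symm_apply_apply] at this
    exact congrArg Subtype.val this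

/-- The involution of a quaternion Sylow 2-subgroup acts trivially on the cosets of any
subgroup of index less than 8. -/
theorem zOf_mem_normalCore [Finite G] (N : Subgroup G) (hN : N.index < 8) :
    zOf P f ∈ N.normalCore := by
  rw [Subgroup.normalCore_eq_ker, MonoidHom.mem_ker]
  ext x
  show zOf P f • x = x
  have hcardP : Nat.card (P : Subgroup G) = 8 := by
    rw [Nat.card_congr f.toEquiv, Nat.card_eq_fintype_card, QuaternionGroup.card]
  have hnotinj : ¬ Function.Injective (fun p : (P : Subgroup G) => (p : G) • x) := by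
    intro hinj
    have := Nat.card_le_card_of_injective _ hinj
    rw [hcardP, ← Subgroup.index_eq_card] at this
    omega
  simp only [Function.Injective] at hnotinj
  push Not at hnotinj
  obtain ⟨p1, p2, heq, hne⟩ := hnotinj
  have hsP : (p1 : G)⁻¹ * p2 ∈ (P : Subgroup G) := mul_mem (inv_mem p1.2) p2.2
  have hs1 : (p1 : G)⁻¹ * p2 ≠ 1 := by
    intro h
    apply hne
    exact Subtype.ext (inv_mul_eq_one.mp h)
  have hsx : ((p1 : G)⁻¹ * p2) • x = x := by
    rw [mul_smul, ← heq, inv_smul_smul]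
  rcases zOf_key P f _ hsP hs1 with h | h
  · rw [← h]; exact hsx
  · rw [← h, pow_two, mul_smul, hsx, hsx]

end

/-- `A₅` is generated by the images `ga`, `gb` of the generators of its presentation. -/
theorem A5_gen (H : Subgroup (alternatingGroup (Fin 5))) (ha : Cfsg.Agent.S3377.ga ∈ H)
    (hb : Cfsg.Agent.S3377.gb ∈ H) : H = ⊤ := by
  rw [eq_top_iff]
  intro g _
  obtain ⟨p, rfl⟩ := Cfsg.Agent.S3377.φ_surj g
  have : p ∈ H.comap Cfsg.Agent.S3377.φ := by
    apply PresentedGroup.generated_by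
    intro j
    fin_cases j
    · show Cfsg.Agent.S3377.φ (PresentedGroup.of 0) ∈ H
      have : Cfsg.Agent.S3377.φ (PresentedGroup.of 0) = Cfsg.Agent.S3377.ga := by
        simp [Cfsg.Agent.S3377.φ]
      rw [this]; exact ha
    · show Cfsg.Agent.S3377.φ (PresentedGroup.of 1) ∈ H
      have : Cfsg.Agent.S3377.φ (PresentedGroup.of 1) = Cfsg.Agent.S3377.gb := by
        simp [Cfsg.Agent.S3377.φ]
      rw [this]; exact hb
  exact this

theorem A5_rel : Cfsg.Agent.S3377.ga ^ 3 = 1 ∧ Cfsg.Agent.S3377.gb ^ 5 = 1 ∧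
    (Cfsg.Agent.S3377.ga * Cfsg.Agent.S3377.gb) ^ 2 = 1 ∧
    Cfsg.Agent.S3377.ga * Cfsg.Agent.S3377.gb ≠ 1 := by
  decide

theorem part1 {G : Type*} [Group G] [Finite G] (h : Nat.card G = 120)
    (hns : ¬ Group.IsSolvable G)
    (hQ : ∀ P : Sylow 2 G, Nonempty ((P : Subgroup G) ≃* QuaternionGroup 2)) :
    Nonempty (G ≃* Matrix.SpecialLinearGroup (Fin 2) (ZMod 5)) := by
  classical
  have h2 : Fact (Nat.Prime 2) := ⟨by norm_num⟩
  have h5 : Fact (Nat.Prime 5) := ⟨by norm_num⟩
  have hc : Nat.card G = 5 ^ 1 * 24 := by rw [h]; norm_num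
  obtain ⟨hd, hmod⟩ := SmallSolvable.sylow_count (p := 5) 1 24 hc (by norm_num)
  let P5 : Sylow 5 G := default
  have hP5c : Nat.card (P5 : Subgroup G) = 5 := by
    have := SmallSolvable.sylow_card P5 1 24 hc (by norm_num)
    simpa using this
  have hP5s : Group.IsSolvable (P5 : Subgroup G) :=
    SmallSolvable.solvable_of_card_prime_pow 5 1 (by rw [hP5c]; norm_num)
  have hn : Nat.card (Sylow 5 G) = 1 ∨ Nat.card (Sylow 5 G) = 6 := by
    have hle := Nat.le_of_dvd (by norm_num) hd
    interval_cases hk : Nat.card (Sylow 5 G) <;> simp_all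
  rcases hn with hn | hn
  · exfalso
    apply hns
    have hPn : (P5 : Subgroup G).Normal := SmallSolvable.sylow_normal_of_card_one P5 hn
    have hQs : Group.IsSolvable (G ⧸ (P5 : Subgroup G)) :=
      SmallSolvable.solvable_of_card_24 (SmallSolvable.card_quotient_sylow P5 1 24 hc (by norm_num))
    exact SmallSolvable.solvable_of_normal (P5 : Subgroup G) hP5s hQs
  -- now six Sylow 5-subgroups
  set N : Subgroup G := Subgroup.normalizer (P5 : Set G) with hNdef
  have hNidx : N.index = 6 := by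
    rw [hNdef, ← Sylow.card_eq_index_normalizer P5]; exact hn
  have hNcard : Nat.card N = 20 := by
    have := N.index_mul_card
    rw [h, hNidx] at this
    omega
  have hNs : Group.IsSolvable N :=
    SmallSolvable.solvable_of_card_dvd_120 (by rw [hNcard]; norm_num) (by rw [hNcard]; norm_num)
  set K : Subgroup G := N.normalCore with hKdef
  have hKN : K ≤ N := Subgroup.normalCore_le N
  have hKn : K.Normal := Subgroup.normalCore_normal N
  have hKs : Group.IsSolvable K := SmallSolvable.solvable_of_le hKN hNs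
  have hQns : ¬ Group.IsSolvable (G ⧸ K) := fun hq =>
    hns (SmallSolvable.solvable_of_normal K hKs hq)
  -- the involution
  let P : Sylow 2 G := default
  obtain ⟨f⟩ := hQ P
  set z : G := zOf P f with hzdef
  have hzK : z ∈ K := zOf_mem_normalCore P f N (by rw [hNidx]; norm_num)
  have hz2 : z ^ 2 = 1 := zOf_sq P f
  have hz1 : z ≠ 1 := zOf_ne P f
  have hKcard : Nat.card K = 2 := by
    have hdvd : Nat.card K ∣ 20 := hNcard ▸ Subgroup.card_dvd_of_le hKN
    have hne1 : Nat.card K ≠ 1 := by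
      intro h1
      have := Subgroup.card_eq_one.mp h1
      rw [this, Subgroup.mem_bot] at hzK
      exact hz1 hzK
    have hmul := K.card_mul_index
    rw [h] at hmul
    have hq : ¬ (K.index ∣ 120 ∧ K.index < 60) := by
      rintro ⟨hd1, hd2⟩
      apply hQns
      apply SmallSolvable.solvable_of_card_dvd_120
      · rw [← Subgroup.index_eq_card]; exact hd1
      · rw [← Subgroup.index_eq_card]; exact hd2
    have hidvd : K.index ∣ 120 := Dvd.intro_left _ hmul
    have hle := Nat.le_of_dvd (by norm_num) hdvd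
    have hpos : 0 < Nat.card K := Nat.card_pos
    have hige : 60 ≤ K.index := by
      by_contra hlt
      exact hq ⟨hidvd, by omega⟩
    have hle2 : Nat.card K ≤ 2 := by nlinarith
    omega
  have hKmem : ∀ k ∈ K, k = 1 ∨ k = z := by
    intro k hk
    by_contra hcon
    rw [not_or] at hcon
    obtain ⟨y0, -, huniq⟩ := (Nat.card_eq_two_iff' (1 : K)).mp hKcard
    have e1 := huniq ⟨k, hk⟩ (fun h1 => hcon.1 (congrArg Subtype.val h1))
    have e2 := huniq ⟨z, hzK⟩ (fun h1 => hz1 (congrArg Subtype.val h1))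
    exact hcon.2 (congrArg Subtype.val (e1.trans e2.symm))
  have hzc : ∀ g : G, g * z = z * g := by
    intro g
    have hmem : g * z * g⁻¹ ∈ K := hKn.conj_mem z hzK g
    rcases hKmem _ hmem with h1 | h1
    · exfalso
      apply hz1
      have : z = g⁻¹ * (g * z * g⁻¹) * g := by group
      rw [this, h1]; group
    · calc g * z = (g * z * g⁻¹) * g := by group
        _ = z * g := by rw [h1]
  have hinv : ∀ t : G, t ^ 2 = 1 → t = 1 ∨ t = z := by
    intro t ht
    by_cases ht1 : t = 1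
    · exact Or.inl ht1
    right
    have hcard : Nat.card (Subgroup.zpowers t) = 2 ^ 1 := by
      rw [Nat.card_zpowers, orderOf_eq_prime ht ht1]; norm_num
    obtain ⟨P', hP'⟩ := (IsPGroup.of_card hcard).exists_le_sylow
    have htP' : t ∈ (P' : Subgroup G) := hP' (Subgroup.mem_zpowers t)
    obtain ⟨f'⟩ := hQ P'
    have hz' : zOf P' f' ∈ K := zOf_mem_normalCore P' f' N (by rw [hNidx]; norm_num)
    rcases zOf_invol P' f' t htP' ht with h1 | h1
    · exact absurd h1 ht1
    · rcases hKmem _ hz' with h3 | h3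
      · exact absurd h3 (zOf_ne P' f')
      · rw [h1, h3]
  -- the quotient
  have hQcard : Nat.card (G ⧸ K) = 60 := by
    rw [← Subgroup.index_eq_card]
    have hmul := K.card_mul_index
    rw [h, hKcard] at hmul
    omega
  have hsimple : IsSimpleGroup (G ⧸ K) := SmallSolvable.isSimpleGroup_of_card_60 hQcard hQns
  obtain ⟨e⟩ := Cfsg.Agent.S0494.result hQcard
  obtain ⟨r3, r5, r2, rne⟩ := A5_rel
  obtain ⟨x0, hx0⟩ := QuotientGroup.mk'_surjective K (e.symm Cfsg.Agent.S3377.ga)
  obtain ⟨y0, hy0⟩ := QuotientGroup.mk'_surjective K (e.symm Cfsg.Agent.S3377.gb)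
  have hπz : QuotientGroup.mk' K z = 1 := (QuotientGroup.eq_one_iff z).mpr hzK
  have hz3 : z ^ 3 = z := by
    calc z ^ 3 = z ^ 2 * z := by rw [pow_succ]
      _ = z := by rw [hz2, one_mul]
  have hz5 : z ^ 5 = z := by
    calc z ^ 5 = z ^ 2 * z ^ 2 * z := by group
      _ = z := by rw [hz2, one_mul, one_mul]
  have hzz : z * z = 1 := by rw [← pow_two]; exact hz2
  obtain ⟨x, hx, hx3⟩ : ∃ x : G, QuotientGroup.mk' K x = e.symm Cfsg.Agent.S3377.ga ∧ x ^ 3 = 1 := by
    have hmem : x0 ^ 3 ∈ K := by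
      rw [← QuotientGroup.eq_one_iff, ← QuotientGroup.mk'_apply, map_pow, hx0, ← map_pow, r3, map_one]
    rcases hKmem _ hmem with h1 | h1
    · exact ⟨x0, hx0, h1⟩
    · refine ⟨x0 * z, by rw [map_mul, hπz, mul_one, hx0], ?_⟩
      rw [(show Commute x0 z from hzc x0).mul_pow, h1, hz3, hzz]
  obtain ⟨y, hy, hy5⟩ : ∃ y : G, QuotientGroup.mk' K y = e.symm Cfsg.Agent.S3377.gb ∧ y ^ 5 = 1 := by
    have hmem : y0 ^ 5 ∈ K := by
      rw [← QuotientGroup.eq_one_iff, ← QuotientGroup.mk'_apply, map_pow, hy0, ← map_pow, r5, map_one]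
    rcases hKmem _ hmem with h1 | h1
    · exact ⟨y0, hy0, h1⟩
    · refine ⟨y0 * z, by rw [map_mul, hπz, mul_one, hy0], ?_⟩
      rw [(show Commute y0 z from hzc y0).mul_pow, h1, hz5, hzz]
  have hxy : (x * y) ^ 2 = z := by
    have hmem : (x * y) ^ 2 ∈ K := by
      rw [← QuotientGroup.eq_one_iff, ← QuotientGroup.mk'_apply, map_pow, map_mul, hx, hy,
        ← map_mul, ← map_pow, r2, map_one]
    rcases hKmem _ hmem with h1 | h1
    · exfalso
      have hxyK : x * y ∈ K := by
        rcases hinv _ h1 with h3 | h3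
        · rw [h3]; exact K.one_mem
        · rw [h3]; exact hzK
      have : QuotientGroup.mk' K (x * y) = 1 := (QuotientGroup.eq_one_iff _).mpr hxyK
      rw [map_mul, hx, hy, ← map_mul] at this
      have h4 : Cfsg.Agent.S3377.ga * Cfsg.Agent.S3377.gb = 1 := by
        apply e.symm.injective
        rw [this, map_one]
      exact rne h4
    · exact h1
  -- the homomorphism from the presented group
  have hrel : ∀ r ∈ SL25Pres.rels, FreeGroup.lift ![x, y, z] r = 1 := by
    intro r hr
    simp only [SL25Pres.rels, Set.mem_insert_iff, Set.mem_singleton_iff] at hr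
    rcases hr with rfl | rfl | rfl | rfl | rfl | rfl
    · simp only [map_pow, FreeGroup.lift_apply_of]
      exact hx3
    · simp only [map_pow, FreeGroup.lift_apply_of]
      exact hy5
    · simp only [map_pow, FreeGroup.lift_apply_of]
      exact hz2
    · simp only [map_mul, map_inv, FreeGroup.lift_apply_of]
      show z⁻¹ * x * z * x⁻¹ = 1
      rw [mul_assoc z⁻¹, hzc x]
      group
    · simp only [map_mul, map_inv, FreeGroup.lift_apply_of]
      show z⁻¹ * y * z * y⁻¹ = 1
      rw [mul_assoc z⁻¹, hzc y]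
      group
    · simp only [map_pow, map_mul, map_inv, FreeGroup.lift_apply_of]
      show (x * y) ^ 2 * z⁻¹ = 1
      rw [hxy, mul_inv_cancel]
  let ψ : SL25Pres.P →* G := PresentedGroup.toGroup hrel
  have hψx : x ∈ ψ.range := ⟨PresentedGroup.of 0, by simp [ψ]⟩
  have hψy : y ∈ ψ.range := ⟨PresentedGroup.of 1, by simp [ψ]⟩
  have hψz : z ∈ ψ.range := ⟨PresentedGroup.of 2, by simp [ψ]⟩
  have hKR : K ≤ ψ.range := by
    intro k hk
    rcases hKmem k hk with h1 | h1
    · rw [h1]; exact one_mem _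
    · rw [h1]; exact hψz
  have hmap : (ψ.range.map (QuotientGroup.mk' K)).map e.toMonoidHom = ⊤ := by
    apply A5_gen
    · refine ⟨QuotientGroup.mk' K x, ⟨x, hψx, rfl⟩, ?_⟩
      rw [hx]; simp
    · refine ⟨QuotientGroup.mk' K y, ⟨y, hψy, rfl⟩, ?_⟩
      rw [hy]; simp
  have hsurj : Function.Surjective ψ := by
    rw [← MonoidHom.range_eq_top, eq_top_iff]
    intro g _
    have hg : e (QuotientGroup.mk' K g) ∈ (ψ.range.map (QuotientGroup.mk' K)).map e.toMonoidHom := by
      rw [hmap]; trivial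
    obtain ⟨q, ⟨r, hr, rfl⟩, hq⟩ := hg
    have hq' : QuotientGroup.mk' K r = QuotientGroup.mk' K g := e.injective hq
    have hk : r⁻¹ * g ∈ K := by
      rw [← QuotientGroup.eq]; exact hq'
    have : g = r * (r⁻¹ * g) := by group
    rw [this]
    exact mul_mem hr (hKR hk)
  have hfin : Finite SL25Pres.P := SL25Pres.finite_P
  have hbij : Function.Bijective ψ :=
    (Nat.bijective_iff_surjective_and_card ψ).mpr ⟨hsurj, by rw [SL25Pres.card_P, h]⟩
  exact ⟨(MulEquiv.ofBijective ψ hbij).symm.trans SL25Pres.presEquiv⟩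

/-- Every non-solvable group of order 120 whose Sylow 2-subgroups are quaternion of order 8 is isomorphic to SL(2,5), and SL(2,5) has the presentation ⟨x, y, z | x³ = y⁵ = z² = 1, z⁻¹xz = x, z⁻¹yz = y, (xy)² = z⟩. -/
theorem result :
    (∀ (G : Type*) [Group G] [Finite G], Nat.card G = 120 → ¬ Group.IsSolvable G →
      (∀ P : Sylow 2 G, Nonempty ((P : Subgroup G) ≃* QuaternionGroup 2)) →
      Nonempty (G ≃* Matrix.SpecialLinearGroup (Fin 2) (ZMod 5))) ∧
    Nonempty (PresentedGroup ({FreeGroup.of (0 : Fin 3) ^ 3, FreeGroup.of (1 : Fin 3) ^ 5, FreeGroup.of (2 : Fin 3) ^ 2,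
        (FreeGroup.of (2 : Fin 3))⁻¹ * FreeGroup.of 0 * FreeGroup.of 2 * (FreeGroup.of (0 : Fin 3))⁻¹,
        (FreeGroup.of (2 : Fin 3))⁻¹ * FreeGroup.of 1 * FreeGroup.of 2 * (FreeGroup.of (1 : Fin 3))⁻¹,
        (FreeGroup.of (0 : Fin 3) * FreeGroup.of 1) ^ 2 * (FreeGroup.of (2 : Fin 3))⁻¹} : Set (FreeGroup (Fin 3)))
      ≃* Matrix.SpecialLinearGroup (Fin 2) (ZMod 5)) := by
  exact ⟨fun G _ _ h hns hQ => part1 h hns hQ, ⟨SL25Pres.presEquiv⟩⟩

end Cfsg.Agent.S3378
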