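import Cfsg.Statements.S1477
-- import your own Cfsg.Agent.* helpers here
import Cfsg.Agent.Lib.Helper65.NilCoprime
import Mathlib

set_option autoImplicit false
open Cfsg

namespace Cfsg.Agent.S1477

open Cfsg.Agent.Lib.Helper65.NilCoprime

variable {G : Type*} [Group G]

/-- An element lies in a subgroup as soon as two coprime powers of it do. -/
theorem mem_of_pow_mem_of_coprime (C : Subgroup G) (h : G) {a b : ℕ} (hab : Nat.Coprime a b)
    (ha : h ^ a ∈ C) (hb : h ^ b ∈ C) : h ∈ C := by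
  have h1 := Nat.gcd_eq_gcd_ab a b
  rw [hab] at h1
  have h2 : h = (h ^ a) ^ (Nat.gcdA a b) * (h ^ b) ^ (Nat.gcdB a b) := by
    rw [← zpow_natCast h a, ← zpow_natCast h b, ← zpow_mul, ← zpow_mul, ← zpow_add, ← h1]
    simp
  rw [h2]
  exact C.mul_mem (C.zpow_mem ha _) (C.zpow_mem hb _)

/-- Splitting of the order of an element into its `p`-part and `p'`-part. -/
theorem exists_order_split (p : ℕ) [Fact p.Prime] [Finite G] (g : G) :
    ∃ k m : ℕ, ¬ p ∣ m ∧ orderOf g = p ^ k * m ∧ orderOf (g ^ p ^ k) = m ∧ orderOf (g ^ m) = p ^ k := by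
  have hp : p.Prime := Fact.out
  have hpos : orderOf g ≠ 0 := (orderOf_pos g).ne'
  obtain ⟨k, m, hm, hkm⟩ := Nat.exists_eq_pow_mul_and_not_dvd hpos p hp.ne_one
  have hm0 : m ≠ 0 := by
    rintro rfl
    exact hm (dvd_zero p)
  refine ⟨k, m, hm, hkm, ?_, ?_⟩
  · rw [orderOf_pow' g (pow_ne_zero k hp.ne_zero), hkm]
    have h2 : Nat.gcd (p ^ k * m) (p ^ k) = p ^ k := Nat.gcd_eq_right (Dvd.intro _ rfl)
    rw [h2, Nat.mul_div_cancel_left _ (pow_pos hp.pos k)]
  · rw [orderOf_pow' g hm0, hkm]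
    have h2 : Nat.gcd (p ^ k * m) m = m := Nat.gcd_eq_right (Dvd.intro_left _ rfl)
    rw [h2, Nat.mul_div_cancel _ (Nat.pos_of_ne_zero hm0)]

/-- Elements of coprime orders of a nilpotent subgroup commute. -/
theorem commute_in_nilpotent [Finite G] (K : Subgroup G) (hK : Group.IsNilpotent K) {a b : G}
    (ha : a ∈ K) (hb : b ∈ K) (hab : Nat.Coprime (orderOf a) (orderOf b)) : a * b = b * a := by
  have := commute_of_coprime ↥K ⟨a, ha⟩ ⟨b, hb⟩ (isOfFinOrder_of_finite _) (isOfFinOrder_of_finite _)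
    (by rw [Subgroup.orderOf_mk, Subgroup.orderOf_mk]; exact hab)
  exact congrArg Subtype.val this

theorem conj_pow_inv (g x : G) (n : ℕ) : (g⁻¹ * x * g) ^ n = g⁻¹ * x ^ n * g := by
  have := conj_pow (i := n) (a := g⁻¹) (b := x)
  rwa [inv_inv] at this

theorem isPGroup_zpowers_of_pow (p : ℕ) (y : G) (k : ℕ) (hy : y ^ p ^ k = 1) :
    IsPGroup p (Subgroup.zpowers y) := by
  rintro ⟨z, hz⟩
  obtain ⟨j, rfl⟩ := Subgroup.mem_zpowers_iff.mp hz
  refine ⟨k, Subtype.ext ?_⟩
  show (y ^ j) ^ p ^ k = 1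
  rw [← zpow_natCast, ← zpow_mul, mul_comm, zpow_mul, zpow_natCast, hy, one_zpow]

/-- In a nilpotent subgroup the `q`-elements lie in a common `q`-subgroup. -/
theorem exists_sylow_of_nilpotent [Finite G] (K : Subgroup G) (hK : Group.IsNilpotent K) (q : ℕ)
    [Fact q.Prime] :
    ∃ R : Subgroup G, IsPGroup q R ∧ R ≤ K ∧ ∀ y ∈ K, (∃ k : ℕ, y ^ q ^ k = 1) → y ∈ R := by
  obtain ⟨P⟩ : Nonempty (Sylow q ↥K) := inferInstance
  have hPn : (P : Subgroup ↥K).Normal := inferInstance
  refine ⟨(P : Subgroup ↥K).map K.subtype, ?_, Subgroup.map_subtype_le _, ?_⟩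
  · exact P.2.map K.subtype
  · rintro y hy ⟨k, hk⟩
    have hz : IsPGroup q (Subgroup.zpowers (⟨y, hy⟩ : ↥K)) :=
      isPGroup_zpowers_of_pow q _ k (Subtype.ext (by simpa using hk))
    obtain ⟨Q, hQ⟩ := hz.exists_le_sylow
    have hQP : Q = P := by
      have := Sylow.unique_of_normal P hPn
      exact Subsingleton.elim Q P
    rw [hQP] at hQ
    exact ⟨⟨y, hy⟩, hQ (Subgroup.mem_zpowers _), rfl⟩

/-- In a CN-group, a maximal nilpotent subgroup is the centralizer of each of its nontrivial central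
elements. -/
theorem cent_eq (hCN : Cfsg.IsCNGroup G) (H : Subgroup G)
    (hmax : ∀ L : Subgroup G, Group.IsNilpotent L → H ≤ L → L = H) (u : G) (hu1 : u ≠ 1)
    (hu : ∀ h ∈ H, h * u = u * h) : Subgroup.centralizer ({u} : Set G) = H := by
  apply hmax _ (hCN u hu1)
  intro h hh
  rw [Subgroup.mem_centralizer_iff]
  intro x hx
  rw [Set.mem_singleton_iff] at hx
  subst hx
  exact (hu h hh).symm

/-- A `p`-element of a nilpotent subgroup commuting with all its `p`-elements is central in it. -/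
theorem central_of_commute_pElements [Finite G] (H : Subgroup G) (hH : Group.IsNilpotent H)
    (p : ℕ) [Fact p.Prime] (w : G) (hwH : w ∈ H) (hwp : ∃ k : ℕ, w ^ p ^ k = 1)
    (hw : ∀ y ∈ H, (∃ k : ℕ, y ^ p ^ k = 1) → y * w = w * y) : ∀ h ∈ H, h * w = w * h := by
  have hp : p.Prime := Fact.out
  intro h hh
  obtain ⟨k, m, hm, hkm, hk1, hk2⟩ := exists_order_split p h
  have hcop : Nat.Coprime m p := ((Nat.Prime.coprime_iff_not_dvd hp).mpr hm).symm
  have hmem : h ∈ Subgroup.centralizer ({w} : Set G) := by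
    apply mem_of_pow_mem_of_coprime _ h (a := m) (b := p ^ k) (Nat.Coprime.pow_right k hcop)
    · rw [Subgroup.mem_centralizer_iff]
      intro x hx
      rw [Set.mem_singleton_iff] at hx
      subst hx
      exact (hw (h ^ m) (H.pow_mem hh m) ⟨k, by rw [← hk2]; exact pow_orderOf_eq_one _⟩).symm
    · rw [Subgroup.mem_centralizer_iff]
      intro x hx
      rw [Set.mem_singleton_iff] at hx
      subst hx
      obtain ⟨j, hj⟩ := hwp
      apply commute_in_nilpotent H hH hwH (H.pow_mem hh _)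
      rw [hk1]
      exact Nat.Coprime.coprime_dvd_left (orderOf_dvd_of_pow_eq_one hj)
        (Nat.Coprime.pow_left j hcop.symm)
  exact (Subgroup.mem_centralizer_iff.mp hmem w rfl).symm

/-- A nilpotent subgroup of order divisible by `p` has a nontrivial central `p`-element. -/
theorem exists_central_pElement [Finite G] (H : Subgroup G) (hH : Group.IsNilpotent H) (p : ℕ)
    [Fact p.Prime] (hpH : p ∣ Nat.card H) :
    ∃ z ∈ H, z ≠ 1 ∧ (∃ k : ℕ, z ^ p ^ k = 1) ∧ ∀ h ∈ H, h * z = z * h := by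
  obtain ⟨R, hRp, hRH, hR⟩ := exists_sylow_of_nilpotent H hH p
  obtain ⟨y, hy⟩ := exists_prime_orderOf_dvd_card' (G := ↥H) p hpH
  have hyp : (y : G) ^ p ^ 1 = 1 := by
    have := pow_orderOf_eq_one y
    rw [hy] at this
    rw [pow_one]
    exact_mod_cast congrArg Subtype.val this
  have hyR : (y : G) ∈ R := hR y y.2 ⟨1, hyp⟩
  have hy1 : (y : G) ≠ 1 := by
    intro h
    have h1 : y = 1 := Subtype.ext h
    rw [h1, orderOf_one] at hy
    exact (Fact.out : p.Prime).one_lt.ne hy
  have hnt : Nontrivial ↥R := ⟨⟨⟨y, hyR⟩, 1, fun h => hy1 (congrArg Subtype.val h)⟩⟩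
  have hcnt := hRp.center_nontrivial
  obtain ⟨w, hw1⟩ := exists_ne (1 : Subgroup.center ↥R)
  have hwcomm : ∀ r ∈ R, r * ((w : ↥R) : G) = ((w : ↥R) : G) * r := by
    intro r hr
    have := Subgroup.mem_center_iff.mp w.2 ⟨r, hr⟩
    exact congrArg Subtype.val this
  have hwq : ∃ k : ℕ, ((w : ↥R) : G) ^ p ^ k = 1 := by
    obtain ⟨k, hk⟩ := hRp (w : ↥R)
    exact ⟨k, by have := congrArg Subtype.val hk; simpa using this⟩
  refine ⟨((w : ↥R) : G), hRH (w : ↥R).2, ?_, hwq, ?_⟩
  · intro h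
    apply hw1
    apply Subtype.ext
    apply Subtype.ext
    simpa using h
  · exact central_of_commute_pElements H hH p _ (hRH (w : ↥R).2) hwq
      (fun y hy hyq => hwcomm y (hR y hy hyq))

/-- Key lemma: a `q`-subgroup containing all `q`-elements of the maximal nilpotent subgroup `H`
lies in `H`. -/
theorem le_of_contains_pElements [Finite G] (hCN : Cfsg.IsCNGroup G) (H : Subgroup G)
    (hH : Group.IsNilpotent H) (hmax : ∀ L : Subgroup G, Group.IsNilpotent L → H ≤ L → L = H)
    (q : ℕ) [Fact q.Prime] (hq : q ∣ Nat.card H) (R : Subgroup G) (hRq : IsPGroup q R)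
    (hR : ∀ y ∈ H, (∃ k : ℕ, y ^ q ^ k = 1) → y ∈ R) : R ≤ H := by
  obtain ⟨z, hzH, hz1, hzq, hzc⟩ := exists_central_pElement H hH q hq
  have hzR : z ∈ R := hR z hzH hzq
  have hCz := cent_eq hCN H hmax z hz1 hzc
  have hnt : Nontrivial ↥R := ⟨⟨⟨z, hzR⟩, 1, fun h => hz1 (congrArg Subtype.val h)⟩⟩
  have hcnt := hRq.center_nontrivial
  obtain ⟨w, hw1⟩ := exists_ne (1 : Subgroup.center ↥R)
  have hwcomm : ∀ r ∈ R, r * ((w : ↥R) : G) = ((w : ↥R) : G) * r := by
    intro r hr
    have := Subgroup.mem_center_iff.mp w.2 ⟨r, hr⟩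
    exact congrArg Subtype.val this
  have hwH : ((w : ↥R) : G) ∈ H := by
    rw [← hCz, Subgroup.mem_centralizer_iff]
    intro x hx
    rw [Set.mem_singleton_iff] at hx
    subst hx
    exact hwcomm x hzR
  have hwq : ∃ k : ℕ, ((w : ↥R) : G) ^ q ^ k = 1 := by
    obtain ⟨k, hk⟩ := hRq (w : ↥R)
    exact ⟨k, by have := congrArg Subtype.val hk; simpa using this⟩
  have hw1' : ((w : ↥R) : G) ≠ 1 := by
    intro h
    apply hw1
    apply Subtype.ext
    apply Subtype.ext
    simpa using h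
  have hwc : ∀ h ∈ H, h * ((w : ↥R) : G) = ((w : ↥R) : G) * h :=
    central_of_commute_pElements H hH q _ hwH hwq (fun y hy hyq => hwcomm y (hR y hy hyq))
  have hCw := cent_eq hCN H hmax _ hw1' hwc
  intro r hr
  rw [← hCw, Subgroup.mem_centralizer_iff]
  intro x hx
  rw [Set.mem_singleton_iff] at hx
  subst hx
  exact (hwcomm r hr).symm

/-- Part (a): `H` contains a Sylow `p`-subgroup of `G` for each prime `p` dividing its order. -/
theorem not_dvd_index [Finite G] (hCN : Cfsg.IsCNGroup G) (H : Subgroup G)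
    (hH : Group.IsNilpotent H) (hmax : ∀ L : Subgroup G, Group.IsNilpotent L → H ≤ L → L = H)
    (p : ℕ) [Fact p.Prime] (hp : p ∣ Nat.card H) : ¬ p ∣ H.index := by
  obtain ⟨R, hRp, hRH, hR⟩ := exists_sylow_of_nilpotent H hH p
  obtain ⟨S, hS⟩ := hRp.exists_le_sylow
  have hSH : (S : Subgroup G) ≤ H :=
    le_of_contains_pElements hCN H hH hmax p hp S S.2 (fun y hy hyp => hS (hR y hy hyp))
  intro hdvd
  exact S.not_dvd_index (dvd_trans hdvd (Subgroup.index_dvd_of_le hSH))

/-- Conjugates of `q`-elements stay in `H` when `H ∩ gHg⁻¹` contains a nontrivial `p`-element,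
`p ≠ q`. -/
theorem conj_pElement_mem [Finite G] (hCN : Cfsg.IsCNGroup G) (H : Subgroup G)
    (hH : Group.IsNilpotent H) (hmax : ∀ L : Subgroup G, Group.IsNilpotent L → H ≤ L → L = H)
    (p q : ℕ) [Fact p.Prime] [Fact q.Prime] (hpq : p ≠ q) (hq : q ∣ Nat.card H)
    (x : G) (hxH : x ∈ H) (hx1 : x ≠ 1) (hxp : x ^ p = 1) (g : G) (hgx : g⁻¹ * x * g ∈ H)
    (y : G) (hy : y ∈ H) (hyq : ∃ k : ℕ, y ^ q ^ k = 1) : g * y * g⁻¹ ∈ H := by
  have hp : p.Prime := Fact.out
  have hqp : q.Prime := Fact.out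
  have hD := hCN x hx1
  obtain ⟨R, hRq, hRD, hR⟩ := exists_sylow_of_nilpotent (Subgroup.centralizer ({x} : Set G)) hD q
  have hcopq : ∀ (t u : G), t ^ p = 1 → (∃ k : ℕ, u ^ q ^ k = 1) →
      Nat.Coprime (orderOf t) (orderOf u) := by
    rintro t u ht ⟨k, hk⟩
    have h1 : orderOf t ∣ p := orderOf_dvd_of_pow_eq_one ht
    have h2 : orderOf u ∣ q ^ k := orderOf_dvd_of_pow_eq_one hk
    exact Nat.Coprime.coprime_dvd_left h1 (Nat.Coprime.coprime_dvd_right h2
      (Nat.Coprime.pow_right k ((Nat.coprime_primes hp hqp).mpr hpq)))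
  -- all q-elements of H lie in R
  have hall : ∀ t ∈ H, (∃ k : ℕ, t ^ q ^ k = 1) → t ∈ R := by
    intro t ht htq
    apply hR t _ htq
    rw [Subgroup.mem_centralizer_iff]
    intro u hu
    rw [Set.mem_singleton_iff] at hu
    subst hu
    exact commute_in_nilpotent H hH hxH ht (hcopq _ t hxp htq)
  have hRH : R ≤ H := le_of_contains_pElements hCN H hH hmax q hq R hRq hall
  apply hRH
  apply hR
  · rw [Subgroup.mem_centralizer_iff]
    intro u hu
    rw [Set.mem_singleton_iff] at hu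
    subst hu
    have hxp' : (g⁻¹ * u * g) ^ p = 1 := by rw [conj_pow_inv, hxp]; group
    have h1 := commute_in_nilpotent H hH hgx hy (hcopq _ y hxp' hyq)
    calc u * (g * y * g⁻¹) = g * ((g⁻¹ * u * g) * y) * g⁻¹ := by group
      _ = g * (y * (g⁻¹ * u * g)) * g⁻¹ := by rw [h1]
      _ = g * y * g⁻¹ * u := by group
  · obtain ⟨k, hk⟩ := hyq
    exact ⟨k, by rw [conj_pow, hk]; group⟩

/-- Let G be a finite group in which every non-identity element has nilpotent centralizer, and H a nilpotent subgroup not properly contained in any nilpotent subgroup. Then the order of H is coprime to its index; if the order of H is not a prime power then H ∩ gHg⁻¹ = 1 whenever gHg⁻¹ ≠ H; and if H ∩ gHg⁻¹ = 1 whenever gHg⁻¹ ≠ H, then C_G(x) ≤ H for every non-identity x ∈ H. -/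
theorem result {G : Type*} [Group G] [Finite G] (hCN : Cfsg.IsCNGroup G) (H : Subgroup G) (hH : Group.IsNilpotent H)
    (hmax : ∀ L : Subgroup G, Group.IsNilpotent L → H ≤ L → L = H) :
    (Nat.card H).Coprime H.index ∧
      (¬ IsPrimePow (Nat.card H) → Nat.card H ≠ 1 → ∀ g : G, H.map (MulAut.conj g).toMonoidHom ≠ H → H ⊓ H.map (MulAut.conj g).toMonoidHom = ⊥) ∧
      ((∀ g : G, H.map (MulAut.conj g).toMonoidHom ≠ H → H ⊓ H.map (MulAut.conj g).toMonoidHom = ⊥) → ∀ x ∈ H, x ≠ 1 → Subgroup.centralizer ({x} : Set G) ≤ H) := by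
  refine ⟨?_, ?_, ?_⟩
  · by_contra hne
    obtain ⟨p, hp, hpd⟩ := Nat.exists_prime_and_dvd hne
    have : Fact p.Prime := ⟨hp⟩
    exact not_dvd_index hCN H hH hmax p (dvd_trans hpd (Nat.gcd_dvd_left _ _))
      (dvd_trans hpd (Nat.gcd_dvd_right _ _))
  · intro hnpp hne1 g hg
    by_contra hbot
    obtain ⟨⟨x0, hx0⟩, hx01⟩ := (Subgroup.ne_bot_iff_exists_ne_one).mp hbot
    have hx0ne : x0 ≠ 1 := fun h => hx01 (Subtype.ext h)
    have hx0H : x0 ∈ H := hx0.1
    have hx0g : x0 ∈ H.map (MulAut.conj g).toMonoidHom := hx0.2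
    -- pass to an element of prime order
    have ho1 : orderOf x0 ≠ 1 := fun h => hx0ne (orderOf_eq_one_iff.mp h)
    set p := (orderOf x0).minFac with hpdef
    have hp : p.Prime := Nat.minFac_prime ho1
    have : Fact p.Prime := ⟨hp⟩
    set x := x0 ^ (orderOf x0 / p) with hxdef
    have hxo : orderOf x = p :=
      orderOf_pow_orderOf_div (orderOf_pos x0).ne' (Nat.minFac_dvd _)
    have hxH : x ∈ H := H.pow_mem hx0H _
    have hxg : x ∈ H.map (MulAut.conj g).toMonoidHom := Subgroup.pow_mem _ hx0g _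
    have hxg' : g⁻¹ * x * g ∈ H := by
      rwa [Subgroup.mem_map_equiv, MulAut.conj_symm_apply] at hxg
    have hx1 : x ≠ 1 := by
      intro h
      rw [h, orderOf_one] at hxo
      exact hp.one_lt.ne hxo
    have hxp : x ^ p = 1 := by rw [← hxo]; exact pow_orderOf_eq_one x
    have hpH : p ∣ Nat.card H := by
      have h1 : orderOf (⟨x, hxH⟩ : ↥H) ∣ Nat.card H := orderOf_dvd_natCard _
      rwa [Subgroup.orderOf_mk, hxo] at h1
    -- another prime q dividing |H|
    obtain ⟨q, hq, hqH, hqp⟩ : ∃ q : ℕ, q.Prime ∧ q ∣ Nat.card H ∧ q ≠ p := by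
      by_contra hcon
      push Not at hcon
      apply hnpp
      have h0 : Nat.card H ≠ 0 := Nat.card_pos.ne'
      have h1 := Nat.eq_prime_pow_of_unique_prime_dvd h0 (fun {d} hd hdH => hcon d hd hdH)
      rw [h1]
      apply IsPrimePow.pow hp.isPrimePow
      intro hzero
      rw [hzero, pow_zero] at h1
      exact hne1 h1
    have : Fact q.Prime := ⟨hq⟩
    have hpq : p ≠ q := fun h => hqp h.symm
    -- conjugation by g and g⁻¹ preserves the q-elements of H
    have hc1 : ∀ y ∈ H, (∃ k : ℕ, y ^ q ^ k = 1) → g * y * g⁻¹ ∈ H :=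
      fun y hy hyq => conj_pElement_mem hCN H hH hmax p q hpq hqH x hxH hx1 hxp g hxg' y hy hyq
    have hc2 : ∀ y ∈ H, (∃ k : ℕ, y ^ q ^ k = 1) → g⁻¹ * y * g ∈ H := by
      intro y hy hyq
      have hx1' : g⁻¹ * x * g ≠ 1 := by
        intro h
        apply hx1
        have : x = g * (g⁻¹ * x * g) * g⁻¹ := by group
        rw [this, h]; group
      have hxp' : (g⁻¹ * x * g) ^ p = 1 := by rw [conj_pow_inv, hxp]; group
      have hmem : g⁻¹⁻¹ * (g⁻¹ * x * g) * g⁻¹ ∈ H := by
        have : g⁻¹⁻¹ * (g⁻¹ * x * g) * g⁻¹ = x := by group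
        rw [this]; exact hxH
      have := conj_pElement_mem hCN H hH hmax p q hpq hqH (g⁻¹ * x * g) hxg' hx1' hxp' g⁻¹ hmem
        y hy hyq
      rwa [inv_inv] at this
    obtain ⟨z, hzH, hz1, hzq, hzc⟩ := exists_central_pElement H hH q hqH
    have hCz := cent_eq hCN H hmax z hz1 hzc
    have huH : g * z * g⁻¹ ∈ H := hc1 z hzH hzq
    have hu1 : g * z * g⁻¹ ≠ 1 := by
      intro h
      apply hz1
      have : z = g⁻¹ * (g * z * g⁻¹) * g := by group
      rw [this, h]; group
    have huq : ∃ k : ℕ, (g * z * g⁻¹) ^ q ^ k = 1 := by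
      obtain ⟨k, hk⟩ := hzq
      exact ⟨k, by rw [conj_pow, hk]; group⟩
    have huc : ∀ h ∈ H, h * (g * z * g⁻¹) = (g * z * g⁻¹) * h := by
      apply central_of_commute_pElements H hH q _ huH huq
      intro y hy hyq
      have h1 := hzc _ (hc2 y hy hyq)
      calc y * (g * z * g⁻¹) = g * ((g⁻¹ * y * g) * z) * g⁻¹ := by group
        _ = g * (z * (g⁻¹ * y * g)) * g⁻¹ := by rw [h1]
        _ = g * z * g⁻¹ * y := by group
    have hCu := cent_eq hCN H hmax _ hu1 huc
    apply hg
    ext t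
    rw [Subgroup.mem_map_equiv, MulAut.conj_symm_apply]
    constructor
    · intro ht
      rw [← hCu, Subgroup.mem_centralizer_iff]
      intro u hu
      rw [Set.mem_singleton_iff] at hu
      subst hu
      have h1 := hzc _ ht
      calc g * z * g⁻¹ * t = g * (z * (g⁻¹ * t * g)) * g⁻¹ := by group
        _ = g * ((g⁻¹ * t * g) * z) * g⁻¹ := by rw [h1]
        _ = t * (g * z * g⁻¹) := by group
    · intro ht
      rw [← hCz, Subgroup.mem_centralizer_iff]
      intro u hu
      rw [Set.mem_singleton_iff] at hu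
      subst hu
      have h1 := huc _ ht
      calc u * (g⁻¹ * t * g) = g⁻¹ * ((g * u * g⁻¹) * t) * g := by group
        _ = g⁻¹ * (t * (g * u * g⁻¹)) * g := by rw [h1]
        _ = g⁻¹ * t * g * u := by group
  · intro hTI x0 hx0H hx01 c hc
    have hcx : x0 * c = c * x0 := Subgroup.mem_centralizer_iff.mp hc x0 rfl
    have hmap : H.map (MulAut.conj c).toMonoidHom = H := by
      by_contra hne
      have hbot := hTI c hne
      have hxm : x0 ∈ H ⊓ H.map (MulAut.conj c).toMonoidHom := by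
        refine ⟨hx0H, ?_⟩
        show x0 ∈ H.map (MulAut.conj c).toMonoidHom
        rw [Subgroup.mem_map_equiv, MulAut.conj_symm_apply]
        have : c⁻¹ * x0 * c = x0 := by rw [mul_assoc, hcx, inv_mul_cancel_left]
        rw [this]; exact hx0H
      rw [hbot] at hxm
      exact hx01 (Subgroup.mem_bot.mp hxm)
    have hcn : ∀ y ∈ H, c * y * c⁻¹ ∈ H := by
      intro y hy
      have : c * y * c⁻¹ ∈ H.map (MulAut.conj c).toMonoidHom := ⟨y, hy, rfl⟩
      rwa [hmap] at this
    have hcn' : ∀ y ∈ H, c⁻¹ * y * c ∈ H := by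
      intro y hy
      have : y ∈ H.map (MulAut.conj c).toMonoidHom := by rw [hmap]; exact hy
      rwa [Subgroup.mem_map_equiv, MulAut.conj_symm_apply] at this
    have hcN : c ∈ Subgroup.normalizer (H : Set G) := by
      rw [Subgroup.mem_normalizer_iff]
      intro h
      refine ⟨hcn h, fun h' => ?_⟩
      have := hcn' _ h'
      have e : c⁻¹ * (c * h * c⁻¹) * c = h := by group
      rwa [e] at this
    have ho1 : orderOf x0 ≠ 1 := fun h => hx01 (orderOf_eq_one_iff.mp h)
    set p := (orderOf x0).minFac with hpdef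
    have hp : p.Prime := Nat.minFac_prime ho1
    have : Fact p.Prime := ⟨hp⟩
    have hpH : p ∣ Nat.card H := by
      have h1 : orderOf (⟨x0, hx0H⟩ : ↥H) ∣ Nat.card H := orderOf_dvd_natCard _
      rw [Subgroup.orderOf_mk] at h1
      exact dvd_trans (Nat.minFac_dvd _) h1
    obtain ⟨z, hzH, hz1, hzp, hzc⟩ := exists_central_pElement H hH p hpH
    have hCz := cent_eq hCN H hmax z hz1 hzc
    have hD := hCN x0 hx01
    obtain ⟨k, m, hm, hkm, hk1, hk2⟩ := exists_order_split p c
    have hcop : Nat.Coprime m p := ((Nat.Prime.coprime_iff_not_dvd hp).mpr hm).symm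
    apply mem_of_pow_mem_of_coprime H c (a := m) (b := p ^ k) (Nat.Coprime.pow_right k hcop)
    · -- the p-part
      obtain ⟨R0, hR0p, hR0H, hR0⟩ := exists_sylow_of_nilpotent H hH p
      have htN : c ^ m ∈ Subgroup.normalizer (H : Set G) := Subgroup.pow_mem _ hcN m
      have htp : (c ^ m) ^ p ^ k = 1 := by rw [← hk2]; exact pow_orderOf_eq_one _
      have hnorm : Subgroup.zpowers (c ^ m) ≤ Subgroup.normalizer (R0 : Set G) := by
        rw [Subgroup.zpowers_le, Subgroup.mem_normalizer_iff]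
        intro y
        constructor
        · intro hy
          apply hR0 _ ((Subgroup.mem_normalizer_iff.mp htN y).mp (hR0H hy))
          obtain ⟨j, hj⟩ := hR0p ⟨y, hy⟩
          have hj' : y ^ p ^ j = 1 := by have := congrArg Subtype.val hj; simpa using this
          exact ⟨j, by rw [conj_pow, hj']; group⟩
        · intro hy
          apply hR0 _ ((Subgroup.mem_normalizer_iff.mp htN y).mpr (hR0H hy))
          obtain ⟨j, hj⟩ := hR0p ⟨_, hy⟩
          have hj' : (c ^ m * y * (c ^ m)⁻¹) ^ p ^ j = 1 := by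
            have := congrArg Subtype.val hj; simpa using this
          rw [conj_pow] at hj'
          refine ⟨j, ?_⟩
          have : y ^ p ^ j = (c ^ m)⁻¹ * (c ^ m * y ^ p ^ j * (c ^ m)⁻¹) * (c ^ m) := by group
          rw [this, hj']; group
      have hRp : IsPGroup p (Subgroup.zpowers (c ^ m) ⊔ R0 : Subgroup G) :=
        IsPGroup.to_sup_of_normal_right' (isPGroup_zpowers_of_pow p _ k htp) hR0p hnorm
      have hle := le_of_contains_pElements hCN H hH hmax p hpH _ hRp
        (fun y hy hyp => le_sup_right (α := Subgroup G) (hR0 y hy hyp))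
      exact hle (le_sup_left (α := Subgroup G) (Subgroup.mem_zpowers _))
    · -- the p'-part
      rw [← hCz, Subgroup.mem_centralizer_iff]
      intro t ht
      rw [Set.mem_singleton_iff] at ht
      subst ht
      have htD : t ∈ Subgroup.centralizer ({x0} : Set G) := by
        rw [Subgroup.mem_centralizer_iff]
        intro u hu
        rw [Set.mem_singleton_iff] at hu
        subst hu
        exact hzc u hx0H
      obtain ⟨j, hj⟩ := hzp
      apply commute_in_nilpotent _ hD htD (Subgroup.pow_mem _ hc _)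
      rw [hk1]
      exact Nat.Coprime.coprime_dvd_left (orderOf_dvd_of_pow_eq_one hj)
        (Nat.Coprime.pow_left j hcop.symm)

end Cfsg.Agent.S1477
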