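import Cfsg.Statements.S0658
import Cfsg.Agent.S0667
import Cfsg.Agent.Lib.Helper11.ZJQuot

set_option autoImplicit false
open Cfsg

namespace Cfsg.Agent.S0658

open Cfsg.Agent.Lib.Helper11.ZJ Cfsg.Agent.Lib.Helper11.ZJFam Cfsg.Agent.Lib.Helper11.ZJQuot
open Cfsg.Agent.Lib.Helper11.PConstr

section aux

set_option linter.unusedSectionVars false

variable {G : Type*} [Group G] [Finite G] {p : ℕ} [Fact p.Prime]

/-- Normalizer condition inside a `p`-subgroup. -/
theorem exists_normalizing_not_mem {R T : Subgroup G} (hT : IsPGroup p T) (hRT : R < T) :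
    ∃ x ∈ T, x ∈ Subgroup.normalizer (R : Set G) ∧ x ∉ R := by
  have hnil : Group.IsNilpotent T := hT.isNilpotent
  have hnc : NormalizerCondition T := Group.normalizerCondition_of_isNilpotent
  have hlt : R.subgroupOf T < ⊤ := by
    rw [lt_top_iff_ne_top]
    intro h
    rw [Subgroup.subgroupOf_eq_top] at h
    exact (not_le_of_gt hRT) h
  obtain ⟨x, hxN, hxR⟩ := SetLike.exists_of_lt (hnc _ hlt)
  refine ⟨x, x.2, ?_, fun h => hxR (Subgroup.mem_subgroupOf.mpr h)⟩
  apply mem_normalizer_of_conj_mem'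
  intro h hh
  rw [Subgroup.mem_normalizer_iff] at hxN
  have := (hxN ⟨h, hRT.le hh⟩).mp (Subgroup.mem_subgroupOf.mpr hh)
  exact Subgroup.mem_subgroupOf.mp this

theorem card_lt_card_inf_normalizer {R T : Subgroup G} (hT : IsPGroup p T) (hRT : R < T) :
    Nat.card R < Nat.card ↥(T ⊓ Subgroup.normalizer (R : Set G)) := by
  obtain ⟨x, hxT, hxN, hxR⟩ := exists_normalizing_not_mem hT hRT
  have hle : R ≤ T ⊓ Subgroup.normalizer (R : Set G) := le_inf hRT.le Subgroup.le_normalizer
  by_contra hcon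
  push Not at hcon
  have h := Subgroup.eq_of_le_of_card_ge hle hcon
  apply hxR
  rw [h]
  exact ⟨hxT, hxN⟩

theorem isMulCommutative_sup_zpowers (A : Subgroup G) (hA : IsMulCommutative A) (z : G)
    (hz : ∀ a ∈ A, a * z = z * a) : IsMulCommutative ↥(A ⊔ Subgroup.zpowers z) := by
  have hAA : A ≤ Subgroup.centralizer (A : Set G) := fun a ha =>
    Subgroup.mem_centralizer_iff.mpr (fun b hb => setLike_mul_comm hb ha)
  have hzA : Subgroup.zpowers z ≤ Subgroup.centralizer (A : Set G) := by
    rw [Subgroup.zpowers_le]; exact Subgroup.mem_centralizer_iff.mpr (fun a ha => hz a ha)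
  have hAz : A ≤ Subgroup.centralizer (Subgroup.zpowers z : Set G) :=
    Subgroup.le_centralizer_iff.mp hzA
  have hzz : Subgroup.zpowers z ≤ Subgroup.centralizer (Subgroup.zpowers z : Set G) := by
    rw [Subgroup.zpowers_le, Subgroup.mem_centralizer_iff]
    intro y hy
    obtain ⟨k, rfl⟩ := Subgroup.mem_zpowers_iff.mp hy
    exact (Commute.zpow_left (Commute.refl z) k).eq
  have h1 : A ⊔ Subgroup.zpowers z ≤
      Subgroup.centralizer ((A ⊔ Subgroup.zpowers z : Subgroup G) : Set G) := by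
    apply sup_le
    · exact Subgroup.le_centralizer_iff.mp (sup_le hAA hzA)
    · exact Subgroup.le_centralizer_iff.mp (sup_le hAz hzz)
  exact ⟨⟨fun x y => Subtype.ext (Subgroup.mem_centralizer_iff.mp (h1 y.2) x x.2)⟩⟩

theorem mem_sInf_famA_of_central (R : Subgroup G) (z : G) (hz : z ∈ R)
    (hc : ∀ r ∈ R, r * z = z * r) : z ∈ sInf (famA R) := by
  rw [Subgroup.mem_sInf]
  intro A hA
  rw [mem_famA_iff] at hA
  obtain ⟨hAR, hAc, hmax⟩ := hA
  have hY : IsMulCommutative ↥(A ⊔ Subgroup.zpowers z) :=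
    isMulCommutative_sup_zpowers A hAc z (fun a ha => hc a (hAR ha))
  have hle : A ⊔ Subgroup.zpowers z ≤ R :=
    sup_le hAR (by rw [Subgroup.zpowers_le]; exact hz)
  have hcard := hmax _ hle hY
  have h : A = A ⊔ Subgroup.zpowers z := Subgroup.eq_of_le_of_card_ge le_sup_left hcard
  rw [h]
  exact Subgroup.mem_sup_right (Subgroup.mem_zpowers z)

theorem sInf_famA_ne_bot {R : Subgroup G} (hR : IsPGroup p R) (hR1 : R ≠ ⊥) :
    sInf (famA R) ≠ ⊥ := by
  have hnt : Nontrivial R := (Subgroup.nontrivial_iff_ne_bot R).mpr hR1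
  have hc : Nontrivial (Subgroup.center R) := hR.center_nontrivial
  obtain ⟨z, hz1⟩ := exists_ne (1 : Subgroup.center R)
  intro hbot
  have hmem : ((z : R) : G) ∈ sInf (famA R) :=
    mem_sInf_famA_of_central R _ (z : R).2 (fun r hr => by
      have := Subgroup.mem_center_iff.mp z.2 ⟨r, hr⟩
      exact congrArg Subtype.val this)
  rw [hbot, Subgroup.mem_bot] at hmem
  apply hz1
  apply Subtype.ext
  apply Subtype.ext
  exact hmem

theorem exists_conj_le_sylow (P : Sylow p G) (M : Subgroup G) (hPM : (P : Subgroup G) ≤ M)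
    (U : Subgroup G) (hU : IsPGroup p U) (hUM : U ≤ M) :
    ∃ m ∈ M, ∀ u ∈ U, m * u * m⁻¹ ∈ (P : Subgroup G) := by
  have hU' : IsPGroup p (U.subgroupOf M) := hU.comap_subtype
  obtain ⟨S', hS'⟩ := hU'.exists_le_sylow
  obtain ⟨m, hm⟩ := MulAction.exists_smul_eq M S' (P.subtype hPM)
  refine ⟨m, m.2, fun u hu => ?_⟩
  have h1 : (⟨u, hUM hu⟩ : M) ∈ (S' : Subgroup M) := hS' (Subgroup.mem_subgroupOf.mpr hu)
  have h2 : m * ⟨u, hUM hu⟩ * m⁻¹ ∈ ((m • S' : Sylow p M) : Subgroup M) := by
    rw [Sylow.coe_subgroup_smul]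
    have := Subgroup.smul_mem_pointwise_smul _ (MulAut.conj m) (S' : Subgroup M) h1
    simpa [MulAut.smul_def] using this
  rw [hm, Sylow.coe_subtype] at h2
  exact Subgroup.mem_subgroupOf.mp h2

/-- If `T` is a Sylow `p`-subgroup of the local subgroup `N`, then `N` normalizes `Z(J(T))`. -/
theorem normalizer_le_of_sylow (hp : p ≠ 2) (N : Subgroup G)
    (hO : Cfsg.pPrimeCore p ↥N = ⊥) (hc : Cfsg.IsPConstrained p ↥N) (hs : Cfsg.IsPStable p ↥N)
    (T : Sylow p ↥N) :
    N ≤ Subgroup.normalizer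
      ((sInf (famA ((T : Subgroup ↥N).map N.subtype)) : Subgroup G) : Set G) := by
  have hn : (Cfsg.centerThompsonAOf (T : Subgroup ↥N)).Normal :=
    (Cfsg.Agent.S0667.result hp hc hs T).2 hO
  rw [centerThompsonAOf_eq] at hn
  have hmap : (sInf (famA (T : Subgroup ↥N))).map N.subtype =
      sInf (famA ((T : Subgroup ↥N).map N.subtype)) :=
    sInf_famA_map N.subtype _ (by rw [Subgroup.ker_subtype, inf_bot_eq])
  rw [← hmap]
  intro g hg
  apply mem_normalizer_of_conj_mem'
  rintro _ ⟨y, hy, rfl⟩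
  exact ⟨⟨g, hg⟩ * y * ⟨g, hg⟩⁻¹, hn.conj_mem y hy ⟨g, hg⟩, rfl⟩

theorem main (hp : p ≠ 2)
    (hloc : ∀ Q : Subgroup G, IsPGroup p Q → Q ≠ ⊥ →
      Cfsg.pPrimeCore p ↥(Subgroup.normalizer (Q : Set G)) = ⊥ ∧
      Cfsg.IsPConstrained p ↥(Subgroup.normalizer (Q : Set G)) ∧
      Cfsg.IsPStable p ↥(Subgroup.normalizer (Q : Set G)))
    (P : Sylow p G) : ∀ (n : ℕ) (Q : Subgroup G), Q ≤ (P : Subgroup G) → Q ≠ ⊥ →
      Nat.card (P : Subgroup G) -
        Nat.card ↥((P : Subgroup G) ⊓ Subgroup.normalizer (Q : Set G)) = n →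
      Subgroup.normalizer (Q : Set G) ≤
        Subgroup.normalizer ((sInf (famA (P : Subgroup G)) : Subgroup G) : Set G) := by
  intro n
  induction n using Nat.strong_induction_on with
  | _ n ih =>
  intro Q hQP hQ1 hn
  have hQp : IsPGroup p Q := P.isPGroup'.to_le hQP
  obtain ⟨hO, hc, hs⟩ := hloc Q hQp hQ1
  have hQR : Q ≤ (P : Subgroup G) ⊓ Subgroup.normalizer (Q : Set G) :=
    le_inf hQP Subgroup.le_normalizer
  by_cases hRP : (P : Subgroup G) ≤ Subgroup.normalizer (Q : Set G)
  · have h := normalizer_le_of_sylow hp (Subgroup.normalizer (Q : Set G)) hO hc hs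
      (P.subtype hRP)
    rw [Sylow.coe_subtype, Subgroup.subgroupOf_map_subtype, inf_eq_left.mpr hRP] at h
    exact h
  · have hRlt : (P : Subgroup G) ⊓ Subgroup.normalizer (Q : Set G) < (P : Subgroup G) :=
      lt_of_le_of_ne inf_le_left (fun h => hRP (inf_eq_left.mp h))
    have hRp : IsPGroup p ↥((P : Subgroup G) ⊓ Subgroup.normalizer (Q : Set G)) :=
      P.isPGroup'.to_le inf_le_left
    have hR1 : (P : Subgroup G) ⊓ Subgroup.normalizer (Q : Set G) ≠ ⊥ :=
      fun h => hQ1 (le_bot_iff.mp (h ▸ hQR))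
    have hcardlt := card_lt_card_inf_normalizer (p := p) P.isPGroup' hRlt
    have hi : ∀ C : Subgroup G, C ≤ (P : Subgroup G) → C ≠ ⊥ →
        Subgroup.normalizer
          (((P : Subgroup G) ⊓ Subgroup.normalizer (Q : Set G) : Subgroup G) : Set G) ≤
          Subgroup.normalizer (C : Set G) →
        Subgroup.normalizer (C : Set G) ≤
          Subgroup.normalizer ((sInf (famA (P : Subgroup G)) : Subgroup G) : Set G) := by
      intro C hCP hC1 hRC
      have h1 : Nat.card ↥((P : Subgroup G) ⊓ Subgroup.normalizer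
          (((P : Subgroup G) ⊓ Subgroup.normalizer (Q : Set G) : Subgroup G) : Set G)) ≤
          Nat.card ↥((P : Subgroup G) ⊓ Subgroup.normalizer (C : Set G)) :=
        Subgroup.card_le_of_le (inf_le_inf_left _ hRC)
      have h2 : Nat.card ↥((P : Subgroup G) ⊓ Subgroup.normalizer (C : Set G)) ≤
          Nat.card (P : Subgroup G) := Subgroup.card_le_of_le inf_le_left
      exact ih (Nat.card (P : Subgroup G) -
        Nat.card ↥((P : Subgroup G) ⊓ Subgroup.normalizer (C : Set G))) (by omega) C hCP hC1 rfl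
    have hPM : (P : Subgroup G) ≤
        Subgroup.normalizer ((sInf (famA (P : Subgroup G)) : Subgroup G) : Set G) :=
      Subgroup.le_normalizer.trans (normalizer_le (isFam_famA hp) _)
    -- a Sylow subgroup of the local subgroup containing `R`
    obtain ⟨T', hT'⟩ := (hRp.comap_subtype
      (K := Subgroup.normalizer (Q : Set G))).exists_le_sylow
    have hRT : (P : Subgroup G) ⊓ Subgroup.normalizer (Q : Set G) ≤
        (T' : Subgroup ↥(Subgroup.normalizer (Q : Set G))).map
          (Subgroup.normalizer (Q : Set G)).subtype := by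
      intro r hr
      exact ⟨⟨r, hr.2⟩, hT' (Subgroup.mem_subgroupOf.mpr hr), rfl⟩
    have hTN : (T' : Subgroup ↥(Subgroup.normalizer (Q : Set G))).map
        (Subgroup.normalizer (Q : Set G)).subtype ≤ Subgroup.normalizer (Q : Set G) := by
      rintro _ ⟨y, -, rfl⟩
      exact y.2
    have hTp : IsPGroup p ↥((T' : Subgroup ↥(Subgroup.normalizer (Q : Set G))).map
        (Subgroup.normalizer (Q : Set G)).subtype) := T'.isPGroup'.map _
    by_cases hTR : (T' : Subgroup ↥(Subgroup.normalizer (Q : Set G))).map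
        (Subgroup.normalizer (Q : Set G)).subtype ≤
        (P : Subgroup G) ⊓ Subgroup.normalizer (Q : Set G)
    · have hTeq := le_antisymm hTR hRT
      have h := normalizer_le_of_sylow hp (Subgroup.normalizer (Q : Set G)) hO hc hs T'
      rw [hTeq] at h
      refine h.trans (hi _ ((sInf_le_self (isFam_famA hp) _).trans inf_le_left)
        (sInf_famA_ne_bot hRp hR1) (normalizer_le (isFam_famA hp) _))
    · have hRTlt : (P : Subgroup G) ⊓ Subgroup.normalizer (Q : Set G) <
          (T' : Subgroup ↥(Subgroup.normalizer (Q : Set G))).map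
            (Subgroup.normalizer (Q : Set G)).subtype := lt_of_le_not_ge hRT hTR
      have hUcard := card_lt_card_inf_normalizer (p := p) hTp hRTlt
      have hUp : IsPGroup p ↥((T' : Subgroup ↥(Subgroup.normalizer (Q : Set G))).map
          (Subgroup.normalizer (Q : Set G)).subtype ⊓ Subgroup.normalizer
          (((P : Subgroup G) ⊓ Subgroup.normalizer (Q : Set G) : Subgroup G) : Set G)) :=
        hTp.to_le inf_le_left
      have hUM := (inf_le_right (a := (T' : Subgroup ↥(Subgroup.normalizer (Q : Set G))).map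
          (Subgroup.normalizer (Q : Set G)).subtype)).trans (hi _ inf_le_left hR1 le_rfl)
      obtain ⟨m, hmM, hm⟩ := exists_conj_le_sylow P _ hPM _ hUp hUM
      -- the conjugate `Q' = m Q m⁻¹`
      have hQ'P : Q.map (MulAut.conj m).toMonoidHom ≤ (P : Subgroup G) := by
        rintro _ ⟨q, hq, rfl⟩
        exact hm q ⟨hRT (hQR hq), Subgroup.le_normalizer (hQR hq)⟩
      have hQ'1 : Q.map (MulAut.conj m).toMonoidHom ≠ ⊥ := by
        intro h
        rw [Subgroup.map_eq_bot_iff_of_injective _ (MulAut.conj m).injective] at h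
        exact hQ1 h
      have hnorm : Subgroup.normalizer ((Q.map (MulAut.conj m).toMonoidHom : Subgroup G) : Set G)
          = (Subgroup.normalizer (Q : Set G)).map (MulAut.conj m).toMonoidHom :=
        (Subgroup.map_equiv_normalizer_eq Q (MulAut.conj m)).symm
      have hUle : ((T' : Subgroup ↥(Subgroup.normalizer (Q : Set G))).map
          (Subgroup.normalizer (Q : Set G)).subtype ⊓ Subgroup.normalizer
          (((P : Subgroup G) ⊓ Subgroup.normalizer (Q : Set G) : Subgroup G) : Set G)).map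
          (MulAut.conj m).toMonoidHom ≤ (P : Subgroup G) ⊓
          Subgroup.normalizer ((Q.map (MulAut.conj m).toMonoidHom : Subgroup G) : Set G) := by
        rintro _ ⟨u, hu, rfl⟩
        refine ⟨hm u hu, ?_⟩
        rw [hnorm]
        exact ⟨u, hTN hu.1, rfl⟩
      have hc1 := Subgroup.card_le_of_le hUle
      rw [Subgroup.card_map_of_injective (MulAut.conj m).injective] at hc1
      have hc2 : Nat.card ↥((P : Subgroup G) ⊓
          Subgroup.normalizer ((Q.map (MulAut.conj m).toMonoidHom : Subgroup G) : Set G)) ≤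
          Nat.card (P : Subgroup G) := Subgroup.card_le_of_le inf_le_left
      have hIH := ih (Nat.card (P : Subgroup G) - Nat.card ↥((P : Subgroup G) ⊓
          Subgroup.normalizer ((Q.map (MulAut.conj m).toMonoidHom : Subgroup G) : Set G)))
        (by omega) _ hQ'P hQ'1 rfl
      intro g hg
      have h1 : m * g * m⁻¹ ∈ Subgroup.normalizer
          ((sInf (famA (P : Subgroup G)) : Subgroup G) : Set G) := by
        apply hIH
        rw [hnorm]
        exact ⟨g, hg, rfl⟩
      have h2 : g = m⁻¹ * (m * g * m⁻¹) * m := by group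
      rw [h2]
      exact Subgroup.mul_mem _ (Subgroup.mul_mem _ (Subgroup.inv_mem _ hmM) h1) hmM

end aux

/-- In a group of characteristic p type all of whose p-locals are p-stable (p odd), the normalizer of Z(J(P)) contains the normalizer of every nontrivial subgroup of the Sylow p-subgroup P. -/
theorem result {G : Type*} [Group G] [Finite G] {p : ℕ} [Fact p.Prime] (hp : p ≠ 2) (hloc : ∀ Q : Subgroup G, IsPGroup p Q → Q ≠ ⊥ → Cfsg.pPrimeCore p ↥(Subgroup.normalizer (Q : Set G)) = ⊥ ∧ Cfsg.IsPConstrained p ↥(Subgroup.normalizer (Q : Set G)) ∧ Cfsg.IsPStable p ↥(Subgroup.normalizer (Q : Set G))) (P : Sylow p G) (Q : Subgroup G) (hQP : Q ≤ (P : Subgroup G)) (hQ1 : Q ≠ ⊥) : Subgroup.normalizer (Q : Set G) ≤ Subgroup.normalizer (Cfsg.centerThompsonAOf ((P : Subgroup G)) : Set G) := by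
  rw [centerThompsonAOf_eq]
  exact main hp hloc P _ Q hQP hQ1 rfl

end Cfsg.Agent.S0658
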