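import Cfsg.Statements.S1225
import Mathlib

set_option autoImplicit false
open Cfsg

namespace Cfsg.Agent.S1225

variable {G : Type*} [Group G]

theorem sq_one_of_order_two {x : G} (hx : orderOf x = 2) : x * x = 1 := by
  rw [← pow_two, ← hx, pow_orderOf_eq_one]

theorem inv_of_order_two {x : G} (hx : orderOf x = 2) : x⁻¹ = x := by
  rw [inv_eq_iff_mul_eq_one]; exact sq_one_of_order_two hx

/-- the basic property of a strongly embedded subgroup -/
theorem p1 [Finite G] (H : Subgroup G) (hH : Cfsg.IsStronglyEmbedded H) (x g : G)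
    (hx : orderOf x = 2) (hxH : x ∈ H) (hg : g⁻¹ * x * g ∈ H) : g ∈ H := by
  by_contra hgH
  have hodd := hH.2.2 g hgH
  have hmem : x ∈ H ⊓ H.map (MulAut.conj g).toMonoidHom := by
    refine ⟨hxH, g⁻¹ * x * g, hg, ?_⟩
    simp only [MulEquiv.coe_toMonoidHom, MulAut.conj_apply]
    group
  have hdvd : orderOf x ∣ Nat.card ↥(H ⊓ H.map (MulAut.conj g).toMonoidHom) := by
    have := Subgroup.orderOf_dvd_natCard _ hmem
    exact this
  rw [hx] at hdvd
  exact (Nat.not_even_iff_odd.2 hodd) (even_iff_two_dvd.2 hdvd)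

theorem cent_le [Finite G] (H : Subgroup G) (hH : Cfsg.IsStronglyEmbedded H) (x c : G)
    (hx : orderOf x = 2) (hxH : x ∈ H) (hc : c * x = x * c) : c ∈ H := by
  apply p1 H hH x c hx hxH
  have : c⁻¹ * x * c = x := by
    rw [mul_assoc, ← hc, ← mul_assoc, inv_mul_cancel, one_mul]
  rw [this]; exact hxH

theorem conj_mem [Finite G] (H : Subgroup G) (hH : Cfsg.IsStronglyEmbedded H) (x g : G)
    (hx : orderOf x = 2) (hxH : x ∈ H) (hg : g * x * g⁻¹ ∈ H) : g ∈ H := by
  have := p1 H hH x g⁻¹ hx hxH (by simpa using hg)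
  simpa using H.inv_mem this

/-- dihedral lemma, odd case -/
theorem dihedral_odd {a b : G} (ha : orderOf a = 2) (hb : orderOf b = 2)
    (hodd : Odd (orderOf (a * b))) : ∃ w : G, w * w = 1 ∧ w * a * w = b := by
  obtain ⟨k, hk⟩ := hodd
  have ha2 := sq_one_of_order_two ha
  have hb2 := sq_one_of_order_two hb
  have hinv : a * (a * b) * a = (a * b)⁻¹ := by
    rw [eq_inv_iff_mul_eq_one]
    calc a * (a * b) * a * (a * b) = (a * a) * b * (a * a) * b := by group
      _ = 1 := by rw [ha2]; simp [hb2]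
  have hpow : ∀ j : ℕ, a * (a * b) ^ j * a = ((a * b) ^ j)⁻¹ := by
    intro j
    induction j with
    | zero => simp [ha2]
    | succ j ih =>
      calc a * (a * b) ^ (j + 1) * a = (a * (a * b) ^ j * a) * (a * (a * b) * a) := by
            rw [pow_succ]
            calc a * ((a * b) ^ j * (a * b)) * a = a * (a * b) ^ j * (1 : G) * (a * b) * a := by group
              _ = a * (a * b) ^ j * (a * a) * (a * b) * a := by rw [ha2]
              _ = (a * (a * b) ^ j * a) * (a * (a * b) * a) := by group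
        _ = ((a * b) ^ j)⁻¹ * (a * b)⁻¹ := by rw [ih, hinv]
        _ = ((a * b) ^ (j + 1))⁻¹ := by rw [← mul_inv_rev, ← pow_succ']
  refine ⟨a * (a * b) ^ (k + 1), ?_, ?_⟩
  · calc a * (a * b) ^ (k + 1) * (a * (a * b) ^ (k + 1))
        = (a * (a * b) ^ (k + 1) * a) * (a * b) ^ (k + 1) := by group
      _ = 1 := by rw [hpow]; simp
  · have h1 : (a * b) ^ (k + 1) * (a * b) ^ (k + 1) = a * b := by
      rw [← pow_add]
      have : k + 1 + (k + 1) = orderOf (a * b) + 1 := by omega
      rw [this, pow_succ, pow_orderOf_eq_one, one_mul]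
    calc a * (a * b) ^ (k + 1) * a * (a * (a * b) ^ (k + 1))
        = a * (a * b) ^ (k + 1) * (a * a) * (a * b) ^ (k + 1) := by group
      _ = a * ((a * b) ^ (k + 1) * (a * b) ^ (k + 1)) := by rw [ha2]; group
      _ = a * (a * b) := by rw [h1]
      _ = b := by rw [← mul_assoc, ha2, one_mul]

/-- dihedral lemma, even case -/
theorem dihedral_even [Finite G] {a b : G} (ha : orderOf a = 2) (hb : orderOf b = 2)
    (heven : Even (orderOf (a * b))) :
    ∃ z : G, orderOf z = 2 ∧ z * a = a * z ∧ z * b = b * z := by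
  obtain ⟨j, hj⟩ := heven
  have ha2 := sq_one_of_order_two ha
  have hb2 := sq_one_of_order_two hb
  have hpos : 0 < orderOf (a * b) := orderOf_pos (a * b)
  have hj0 : 0 < j := by omega
  have hz2 : (a * b) ^ j * (a * b) ^ j = 1 := by
    rw [← pow_add, ← hj, pow_orderOf_eq_one]
  have hzne : (a * b) ^ j ≠ 1 := by
    intro h
    have := orderOf_dvd_of_pow_eq_one h
    have := Nat.le_of_dvd hj0 this
    omega
  have hinva : a * (a * b) * a = (a * b)⁻¹ := by
    rw [eq_inv_iff_mul_eq_one]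
    calc a * (a * b) * a * (a * b) = (a * a) * b * (a * a) * b := by group
      _ = 1 := by rw [ha2]; simp [hb2]
  have hinvb : b * (a * b) * b = (a * b)⁻¹ := by
    rw [eq_inv_iff_mul_eq_one]
    calc b * (a * b) * b * (a * b) = b * a * (b * b) * a * b := by group
      _ = b * (a * a) * b := by rw [hb2]; group
      _ = 1 := by rw [ha2]; simp [hb2]
  have hconj : ∀ (c : G), c * c = 1 → c * (a * b) * c = (a * b)⁻¹ →
      ∀ j : ℕ, c * (a * b) ^ j * c = ((a * b) ^ j)⁻¹ := by
    intro c hc2 hc j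
    have hcinv : c⁻¹ = c := by rw [inv_eq_iff_mul_eq_one]; exact hc2
    have := map_pow (MulAut.conj c) (a * b) j
    simp only [MulAut.conj_apply, hcinv] at this
    rw [this, hc, inv_pow]
  have hzinv : ((a * b) ^ j)⁻¹ = (a * b) ^ j := by
    rw [inv_eq_iff_mul_eq_one]; exact hz2
  refine ⟨(a * b) ^ j, ?_, ?_, ?_⟩
  · exact orderOf_eq_prime (by rw [pow_two]; exact hz2) hzne
  · have h := hconj a ha2 hinva j
    rw [hzinv] at h
    calc (a * b) ^ j * a = (a * a) * (a * b) ^ j * a := by rw [ha2, one_mul]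
      _ = a * (a * (a * b) ^ j * a) := by group
      _ = a * (a * b) ^ j := by rw [h]
  · have h := hconj b hb2 hinvb j
    rw [hzinv] at h
    calc (a * b) ^ j * b = (b * b) * (a * b) ^ j * b := by rw [hb2, one_mul]
      _ = b * (b * (a * b) ^ j * b) := by group
      _ = b * (a * b) ^ j := by rw [h]

theorem odd_order_mul [Finite G] (H : Subgroup G) (hH : Cfsg.IsStronglyEmbedded H) (s x : G)
    (hs : orderOf s = 2) (hsH : s ∈ H) (hx : orderOf x = 2) (hxH : x ∉ H) :
    Odd (orderOf (s * x)) := by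
  by_contra hodd
  rw [Nat.not_odd_iff_even] at hodd
  obtain ⟨z, hz, hzs, hzx⟩ := dihedral_even hs hx hodd
  have hzH : z ∈ H := cent_le H hH s z hs hsH hzs
  exact hxH (cent_le H hH z x hz hzH hzx.symm)

theorem conj_in_D [Finite G] (H : Subgroup G) (hH : Cfsg.IsStronglyEmbedded H) (u : G)
    (hu : orderOf u = 2) (huH : u ∉ H) (s t : G) (hs : orderOf s = 2) (hsH : s ∈ H)
    (ht : orderOf t = 2) (htH : t ∈ H) :
    ∃ d ∈ (H ⊓ H.map (MulAut.conj u).toMonoidHom), d * s * d⁻¹ = t := by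
  have hu2 := sq_one_of_order_two hu
  have huinv := inv_of_order_two hu
  have ht'ord : orderOf (u * t * u⁻¹) = 2 := by
    have := MulEquiv.orderOf_eq (MulAut.conj u) t
    rw [MulAut.conj_apply] at this
    rw [this, ht]
  have ht'H : u * t * u⁻¹ ∉ H := fun h => huH (conj_mem H hH t u ht htH h)
  have hodd := odd_order_mul H hH s (u * t * u⁻¹) hs hsH ht'ord ht'H
  obtain ⟨w, hw2, hw⟩ := dihedral_odd hs ht'ord hodd
  have hwinv : w⁻¹ = w := by rw [inv_eq_iff_mul_eq_one]; exact hw2
  have hd : (u * w) * s * (u * w)⁻¹ = t := by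
    calc (u * w) * s * (u * w)⁻¹ = u * (w * s * w⁻¹) * u⁻¹ := by group
      _ = u * (u * t * u⁻¹) * u⁻¹ := by rw [hwinv, hw]
      _ = (u * u) * t * (u * u)⁻¹ := by group
      _ = t := by rw [hu2]; simp
  have hdH : u * w ∈ H := conj_mem H hH s (u * w) hs hsH (by rw [hd]; exact htH)
  refine ⟨u * w, ⟨hdH, ?_⟩, hd⟩
  refine ⟨(u * w)⁻¹, H.inv_mem hdH, ?_⟩
  simp only [MulEquiv.coe_toMonoidHom, MulAut.conj_apply]
  calc u * (u * w)⁻¹ * u⁻¹ = u * w⁻¹ * (u⁻¹ * u⁻¹) := by group
    _ = u * w := by rw [hwinv, huinv, hu2, mul_one]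

/-- Let H be a strongly embedded subgroup of the finite group G, u an involution outside H and D = H ∩ uHu⁻¹. Then any two involutions of H are conjugate by an element of D, and any two involutions of G are conjugate in G. -/
theorem result {G : Type*} [Group G] [Finite G] (H : Subgroup G) (hH : Cfsg.IsStronglyEmbedded H) (u : G) (hu : orderOf u = 2) (huH : u ∉ H) (s t : G) (hs : orderOf s = 2) (hsH : s ∈ H) (ht : orderOf t = 2) (htH : t ∈ H) : (∃ d ∈ (H ⊓ H.map (MulAut.conj u).toMonoidHom), d * s * d⁻¹ = t) ∧ ∀ a b : G, orderOf a = 2 → orderOf b = 2 → IsConj a b := by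
  refine ⟨conj_in_D H hH u hu huH s t hs hsH ht htH, ?_⟩
  have key : ∀ a : G, orderOf a = 2 → IsConj s a := by
    intro a ha
    rw [isConj_iff]
    by_cases haH : a ∈ H
    · obtain ⟨d, _, hd⟩ := conj_in_D H hH u hu huH s a hs hsH ha haH
      exact ⟨d, hd⟩
    · have hodd := odd_order_mul H hH s a hs hsH ha haH
      obtain ⟨w, hw2, hw⟩ := dihedral_odd hs ha hodd
      have hwinv : w⁻¹ = w := by rw [inv_eq_iff_mul_eq_one]; exact hw2
      exact ⟨w, by rw [hwinv, hw]⟩
  intro a b ha hb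
  exact (key a ha).symm.trans (key b hb)

end Cfsg.Agent.S1225
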