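import Mathlib
import Cfsg.Statements.S1230
import Cfsg.Agent.Lib.Helper52.EAC
import Cfsg.Agent.Lib.Helper52.S3TField
import Cfsg.Agent.Lib.Helper52.PGLChar2

set_option autoImplicit false
open Cfsg

namespace Cfsg.Agent.S1230

open Cfsg.Agent.Lib.Helper52 Cfsg.Agent.Lib.Helper52.EAC

/-- Let G be a finite group with a Sylow 2-subgroup T that is neither cyclic nor normal, such that the centralizer of every involution is an elementary abelian 2-group. Then G ≅ PSL(2,F) for a finite field F with |F| = |T|. -/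
theorem result {G : Type*} [Group G] [Finite G] (T : Sylow 2 G) (hnc : ¬ IsCyclic (T : Subgroup G)) (hnn : ¬ (T : Subgroup G).Normal) (hC : ∀ t : G, orderOf t = 2 → IsMulCommutative (Subgroup.centralizer ({t} : Set G)) ∧ ∀ c ∈ Subgroup.centralizer ({t} : Set G), c ^ 2 = 1) : ∃ (F : Type) (_ : Field F) (_ : Fintype F), Fintype.card F = Nat.card T ∧ Nonempty (G ≃* Matrix.ProjectiveSpecialLinearGroup (Fin 2) F) := by
  have hG : Setup G := setup_of T hnc hnn hC
  -- a second point
  obtain ⟨S', hS'⟩ : ∃ S' : Sylow 2 G, S' ≠ T := by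
    obtain ⟨S₁, S₂, h12⟩ := hG.nn
    by_cases h : S₁ = T
    · exact ⟨S₂, fun h' => h12 (h.trans h'.symm)⟩
    · exact ⟨S₁, h⟩
  -- a third point
  obtain ⟨s, _, hs, _, hs1, _, _⟩ := hG.two T
  have hsT : s • T = T := fix_of_mem T s hs
  have hc1 : s • S' ≠ S' := fun h => hs1 (D_sq hG T S' (Ne.symm hS') s hsT h (hG.sq T s hs))
  have hc2 : s • S' ≠ T := by
    intro h
    have h' : s • S' = s • T := by rw [hsT]; exact h
    exact hS' (smul_left_cancel _ h')
  let C : S3TField.Config G (Sylow 2 G) :=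
    { a := T
      b := S'
      c := s • S'
      hab := Ne.symm hS'
      hac := Ne.symm hc2
      hbc := Ne.symm hc1
      U := (T : Subgroup G)
      h3 := three_trans hG
      hfix := fun g x y z hxy hxz hyz hx hy hz => three_fix hG x y z hxy hxz hyz g hx hy hz
      hUa := fun u hu => fix_of_mem T u hu
      hUtr := fun x y hx hy => S_trans hG T x y hx hy
      hUfree := fun u hu x hx hux =>
        D_sq hG T x (Ne.symm hx) u (fix_of_mem T u hu) hux (hG.sq T u hu)
      hU2 := hG.sq T }
  obtain ⟨F, hF1, hF2, hcard, -, hiso⟩ := S3TField.exists_field_type0 C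
  have hcard' : Nat.card F = Nat.card T := hcard
  obtain ⟨k, hk⟩ := (IsPGroup.iff_card (p := 2) (G := (T : Subgroup G))).1 T.isPGroup'
  have hk' : Nat.card F = 2 ^ k := hcard'.trans hk
  have h2 : (2 : F) = 0 := PGLChar2.two_eq_zero_of_card hk'
  refine ⟨F, hF1, hF2, ?_, PGLChar2.nonempty_equiv_psl_of_pgl h2 hiso⟩
  rw [← Nat.card_eq_fintype_card]
  exact hcard'

end Cfsg.Agent.S1230
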