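import Cfsg.Statements.S0111
import Mathlib

set_option autoImplicit false
open Cfsg

namespace Cfsg.Agent.S0111

/-- The Thompson transfer lemma states that an involution of a Sylow 2-subgroup P lying outside a subgroup Q of index 2 in P either lies outside some normal subgroup of index 2 in G or is conjugate to an element of Q. -/
theorem result {G : Type*} [Group G] [Finite G] (P : Sylow 2 G) (Q : Subgroup G) (hQP : Q ≤ (P : Subgroup G)) (hQi : Q.relIndex (P : Subgroup G) = 2) (u : G) (hu : orderOf u = 2) (huP : u ∈ (P : Subgroup G)) (huQ : u ∉ Q) : (∃ M : Subgroup G, M.Normal ∧ M.index = 2 ∧ u ∉ M) ∨ ∃ g : G, g * u * g⁻¹ ∈ Q := by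
  classical
  by_cases h : ∃ g : G, g * u * g⁻¹ ∈ Q
  · exact Or.inr h
  left
  push Not at h
  have hu2 : u ^ 2 = 1 := by rw [← hu]; exact pow_orderOf_eq_one u
  have huinv : u⁻¹ = u := by
    rw [inv_eq_iff_mul_eq_one, ← sq]; exact hu2
  haveI : Fintype (G ⧸ Q) := Fintype.ofFinite _
  let φ : G →* Equiv.Perm (G ⧸ Q) := MulAction.toPermHom G (G ⧸ Q)
  let ε : G →* ℤˣ := Equiv.Perm.sign.comp φ
  set σ : Equiv.Perm (G ⧸ Q) := φ u with hσ
  -- no fixed points
  have hfix : ∀ x : G ⧸ Q, σ x ≠ x := by
    intro x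
    induction x using QuotientGroup.induction_on with
    | H g =>
      intro hx
      have hx' : ((u * g : G) : G ⧸ Q) = (g : G ⧸ Q) := hx
      rw [QuotientGroup.eq] at hx'
      have := h g⁻¹
      apply this
      have e : (u * g)⁻¹ * g = g⁻¹ * u * g⁻¹⁻¹ := by
        rw [mul_inv_rev, huinv, inv_inv]
      rw [← e]; exact hx'
  have hσ2 : σ ^ 2 = 1 := by
    rw [hσ, ← map_pow, hu2, map_one]
  have hσ1 : σ ≠ 1 := by
    intro h1
    apply hfix ((1 : G) : G ⧸ Q)
    rw [h1]; rfl
  have hord : orderOf σ = 2 := orderOf_eq_prime hσ2 hσ1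
  obtain ⟨k, hk⟩ := Equiv.Perm.cycleType_prime_order (σ := σ) (by rw [hord]; exact Nat.prime_two)
  rw [hord] at hk
  have hsupp : σ.support = Finset.univ := by
    ext x
    simp only [Equiv.Perm.mem_support, Finset.mem_univ, iff_true]
    exact hfix x
  have hsum : σ.cycleType.sum = Q.index := by
    rw [Equiv.Perm.sum_cycleType, hsupp, Finset.card_univ, Subgroup.index_eq_card,
      Nat.card_eq_fintype_card]
  have hindex : Q.index = 2 * (P : Subgroup G).index := by
    rw [← Subgroup.relIndex_mul_index hQP, hQi]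
  have hodd : ¬ 2 ∣ (P : Subgroup G).index := P.not_dvd_index
  have hk1 : k + 1 = (P : Subgroup G).index := by
    have h3 : σ.cycleType.sum = (k + 1) * 2 := by
      rw [hk, Multiset.sum_replicate, smul_eq_mul]
    omega
  have hsign : Equiv.Perm.sign σ = -1 := by
    rw [Equiv.Perm.sign_of_cycleType, hk, Multiset.sum_replicate, Multiset.card_replicate,
      smul_eq_mul]
    have hodd' : Odd ((k + 1) * 2 + (k + 1)) := by
      rw [hk1]
      have : Odd (P : Subgroup G).index := Nat.odd_iff.mpr (by omega)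
      exact (Even.mul_left even_two _).add_odd this
    exact hodd'.neg_one_pow
  have hεu : ε u = -1 := hsign
  refine ⟨ε.ker, MonoidHom.normal_ker ε, ?_, ?_⟩
  · rw [Subgroup.index_ker]
    have hrange : ε.range = ⊤ := by
      rw [eq_top_iff]
      intro z _
      rcases Int.units_eq_one_or z with rfl | rfl
      · exact ⟨1, map_one ε⟩
      · exact ⟨u, hεu⟩
    rw [hrange, Subgroup.card_top, Nat.card_eq_fintype_card, Fintype.card_units_int]
  · intro hmem
    rw [MonoidHom.mem_ker, hεu] at hmem
    exact absurd hmem (by decide)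

end Cfsg.Agent.S0111
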