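import Cfsg.Statements.S0255
import Cfsg.Agent.Lib.Helper43.SLCard
import Cfsg.Agent.Lib.Helper5.SL2Card

set_option autoImplicit false
open Cfsg

namespace Cfsg.Agent.S0255

/-! The bridge: the group `P = ⟨x, y | x², y³, (xy)⁷, (xyxy²)⁴⟩` has 168 elements (verified coset
enumeration) and maps injectively into both `PSL(2,7)` and `PSL(3,2)`. -/

abbrev rels : Set (FreeGroup (Fin 2)) :=
  {FreeGroup.of (0 : Fin 2) ^ 2, FreeGroup.of (1 : Fin 2) ^ 3,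
    (FreeGroup.of (0 : Fin 2) * FreeGroup.of 1) ^ 7,
    (FreeGroup.of (0 : Fin 2) * FreeGroup.of 1 * FreeGroup.of 0 * FreeGroup.of 1 * FreeGroup.of 1) ^ 4}

abbrev P := PresentedGroup rels

noncomputable def x : P := PresentedGroup.of 0
noncomputable def y : P := PresentedGroup.of 1

theorem hx2 : x ^ 2 = 1 := by
  have h : PresentedGroup.mk rels (FreeGroup.of 0 ^ 2) = 1 :=
    PresentedGroup.one_of_mem (by simp [rels])
  rw [map_pow] at h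
  exact h

theorem hy3 : y ^ 3 = 1 := by
  have h : PresentedGroup.mk rels (FreeGroup.of 1 ^ 3) = 1 :=
    PresentedGroup.one_of_mem (by simp [rels])
  rw [map_pow] at h
  exact h

theorem hxy7 : (x * y) ^ 7 = 1 := by
  have h : PresentedGroup.mk rels ((FreeGroup.of 0 * FreeGroup.of 1) ^ 7) = 1 :=
    PresentedGroup.one_of_mem (by simp [rels])
  rw [map_pow, map_mul] at h
  exact h

theorem hc4 : (x * y * x * y * y) ^ 4 = 1 := by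
  have h : PresentedGroup.mk rels
      ((FreeGroup.of 0 * FreeGroup.of 1 * FreeGroup.of 0 * FreeGroup.of 1 * FreeGroup.of 1) ^ 4) = 1 :=
    PresentedGroup.one_of_mem (by simp [rels])
  rw [map_pow, map_mul, map_mul, map_mul, map_mul] at h
  exact h

theorem relA (a : P) : a * x * x = a := by
  calc a * x * x = a * x ^ 2 := by simp only [pow_succ, pow_zero, one_mul, mul_assoc]
    _ = a := by rw [hx2, mul_one]

theorem relB (a : P) : a * y * y * y = a := by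
  calc a * y * y * y = a * y ^ 3 := by simp only [pow_succ, pow_zero, one_mul, mul_assoc]
    _ = a := by rw [hy3, mul_one]

theorem relC (a : P) : a * x * y * x * y * x * y * x * y * x * y * x * y * x * y = a := by
  calc a * x * y * x * y * x * y * x * y * x * y * x * y * x * y = a * (x * y) ^ 7 := by
        simp only [pow_succ, pow_zero, one_mul, mul_assoc]
    _ = a := by rw [hxy7, mul_one]

theorem relD (a : P) : a * x * y * x * y * y * x * y * x * y * y * x * y * x * y * y * x * y * x * y * y = a := by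
  calc a * x * y * x * y * y * x * y * x * y * y * x * y * x * y * y * x * y * x * y * y = a * (x * y * x * y * y) ^ 4 := by
        simp only [pow_succ, pow_zero, one_mul, mul_assoc]
    _ = a := by rw [hc4, mul_one]

noncomputable def r0 : P := 1
noncomputable def r1 : P := r0 * x
noncomputable def r2 : P := r0 * y
noncomputable def r3 : P := r1 * y
noncomputable def r4 : P := r2 * x
noncomputable def r5 : P := r2 * y
noncomputable def r6 : P := r3 * x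
noncomputable def r7 : P := r3 * y
noncomputable def r8 : P := r4 * y
noncomputable def r9 : P := r5 * x
noncomputable def r10 : P := r6 * y
noncomputable def r11 : P := r7 * x
noncomputable def r12 : P := r8 * x
noncomputable def r13 : P := r8 * y
noncomputable def r14 : P := r9 * y
noncomputable def r15 : P := r10 * x
noncomputable def r16 : P := r10 * y
noncomputable def r17 : P := r11 * y
noncomputable def r18 : P := r12 * y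
noncomputable def r19 : P := r13 * x
noncomputable def r20 : P := r14 * x
noncomputable def r21 : P := r14 * y
noncomputable def r22 : P := r15 * y
noncomputable def r23 : P := r16 * x
noncomputable def r24 : P := r17 * x
noncomputable def r25 : P := r17 * y
noncomputable def r26 : P := r18 * x
noncomputable def r27 : P := r18 * y
noncomputable def r28 : P := r19 * y
noncomputable def r29 : P := r20 * y
noncomputable def r30 : P := r21 * x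
noncomputable def r31 : P := r22 * x
noncomputable def r32 : P := r22 * y
noncomputable def r33 : P := r23 * y
noncomputable def r34 : P := r24 * y
noncomputable def r35 : P := r25 * x
noncomputable def r36 : P := r26 * y
noncomputable def r37 : P := r27 * x
noncomputable def r38 : P := r28 * x
noncomputable def r39 : P := r28 * y
noncomputable def r40 : P := r29 * x
noncomputable def r41 : P := r29 * y
noncomputable def r42 : P := r30 * y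
noncomputable def r43 : P := r31 * y
noncomputable def r44 : P := r32 * x
noncomputable def r45 : P := r33 * x
noncomputable def r46 : P := r33 * y
noncomputable def r47 : P := r34 * x
noncomputable def r48 : P := r34 * y
noncomputable def r49 : P := r35 * y
noncomputable def r50 : P := r36 * x
noncomputable def r51 : P := r36 * y
noncomputable def r52 : P := r37 * y
noncomputable def r53 : P := r38 * y
noncomputable def r54 : P := r39 * x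
noncomputable def r55 : P := r40 * y
noncomputable def r56 : P := r41 * x
noncomputable def r57 : P := r42 * x
noncomputable def r58 : P := r42 * y
noncomputable def r59 : P := r43 * y
noncomputable def r60 : P := r44 * y
noncomputable def r61 : P := r45 * y
noncomputable def r62 : P := r46 * x
noncomputable def r63 : P := r47 * y
noncomputable def r64 : P := r48 * x
noncomputable def r65 : P := r49 * x
noncomputable def r66 : P := r51 * x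
noncomputable def r67 : P := r52 * x
noncomputable def r68 : P := r52 * y
noncomputable def r69 : P := r53 * x
noncomputable def r70 : P := r53 * y
noncomputable def r71 : P := r54 * y
noncomputable def r72 : P := r55 * x
noncomputable def r73 : P := r55 * y
noncomputable def r74 : P := r56 * y
noncomputable def r75 : P := r57 * y
noncomputable def r76 : P := r59 * x
noncomputable def r77 : P := r60 * x
noncomputable def r78 : P := r60 * y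
noncomputable def r79 : P := r61 * x
noncomputable def r80 : P := r61 * y
noncomputable def r81 : P := r62 * y
noncomputable def r82 : P := r63 * x
noncomputable def r83 : P := r63 * y
noncomputable def r84 : P := r64 * y
noncomputable def r85 : P := r65 * y
noncomputable def r86 : P := r66 * y
noncomputable def r87 : P := r67 * y
noncomputable def r88 : P := r68 * x
noncomputable def r89 : P := r69 * y
noncomputable def r90 : P := r71 * x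
noncomputable def r91 : P := r73 * x
noncomputable def r92 : P := r74 * y
noncomputable def r93 : P := r75 * x
noncomputable def r94 : P := r75 * y
noncomputable def r95 : P := r76 * y
noncomputable def r96 : P := r77 * y
noncomputable def r97 : P := r78 * x
noncomputable def r98 : P := r79 * y
noncomputable def r99 : P := r81 * x
noncomputable def r100 : P := r83 * x
noncomputable def r101 : P := r84 * y
noncomputable def r102 : P := r85 * x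
noncomputable def r103 : P := r85 * y
noncomputable def r104 : P := r86 * x
noncomputable def r105 : P := r86 * y
noncomputable def r106 : P := r87 * x
noncomputable def r107 : P := r87 * y
noncomputable def r108 : P := r88 * y
noncomputable def r109 : P := r89 * x
noncomputable def r110 : P := r89 * y
noncomputable def r111 : P := r90 * y
noncomputable def r112 : P := r91 * y
noncomputable def r113 : P := r92 * x
noncomputable def r114 : P := r93 * y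
noncomputable def r115 : P := r95 * x
noncomputable def r116 : P := r95 * y
noncomputable def r117 : P := r96 * x
noncomputable def r118 : P := r96 * y
noncomputable def r119 : P := r97 * y
noncomputable def r120 : P := r98 * x
noncomputable def r121 : P := r98 * y
noncomputable def r122 : P := r99 * y
noncomputable def r123 : P := r100 * y
noncomputable def r124 : P := r101 * x
noncomputable def r125 : P := r102 * y
noncomputable def r126 : P := r104 * y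
noncomputable def r127 : P := r105 * x
noncomputable def r128 : P := r106 * y
noncomputable def r129 : P := r108 * x
noncomputable def r130 : P := r110 * x
noncomputable def r131 : P := r111 * x
noncomputable def r132 : P := r111 * y
noncomputable def r133 : P := r112 * x
noncomputable def r134 : P := r112 * y
noncomputable def r135 : P := r113 * y
noncomputable def r136 : P := r114 * x
noncomputable def r137 : P := r114 * y
noncomputable def r138 : P := r115 * y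
noncomputable def r139 : P := r116 * x
noncomputable def r140 : P := r117 * y
noncomputable def r141 : P := r119 * x
noncomputable def r142 : P := r121 * x
noncomputable def r143 : P := r122 * x
noncomputable def r144 : P := r122 * y
noncomputable def r145 : P := r123 * x
noncomputable def r146 : P := r123 * y
noncomputable def r147 : P := r124 * y
noncomputable def r148 : P := r125 * x
noncomputable def r149 : P := r125 * y
noncomputable def r150 : P := r126 * x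
noncomputable def r151 : P := r126 * y
noncomputable def r152 : P := r128 * x
noncomputable def r153 : P := r128 * y
noncomputable def r154 : P := r129 * y
noncomputable def r155 : P := r130 * y
noncomputable def r156 : P := r133 * y
noncomputable def r157 : P := r134 * x
noncomputable def r158 : P := r135 * x
noncomputable def r159 : P := r137 * x
noncomputable def r160 : P := r138 * y
noncomputable def r161 : P := r141 * y
noncomputable def r162 : P := r142 * y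
noncomputable def r163 : P := r146 * x
noncomputable def r164 : P := r147 * x
noncomputable def r165 : P := r149 * x
noncomputable def r166 : P := r155 * x
noncomputable def r167 : P := r162 * x
theorem e_0_x : r0 * x = r1 := rfl
theorem e_0_y : r0 * y = r2 := rfl
theorem e_1_y : r1 * y = r3 := rfl
theorem e_2_x : r2 * x = r4 := rfl
theorem e_2_y : r2 * y = r5 := rfl
theorem e_3_x : r3 * x = r6 := rfl
theorem e_3_y : r3 * y = r7 := rfl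
theorem e_4_y : r4 * y = r8 := rfl
theorem e_5_x : r5 * x = r9 := rfl
theorem e_6_y : r6 * y = r10 := rfl
theorem e_7_x : r7 * x = r11 := rfl
theorem e_8_x : r8 * x = r12 := rfl
theorem e_8_y : r8 * y = r13 := rfl
theorem e_9_y : r9 * y = r14 := rfl
theorem e_10_x : r10 * x = r15 := rfl
theorem e_10_y : r10 * y = r16 := rfl
theorem e_11_y : r11 * y = r17 := rfl
theorem e_12_y : r12 * y = r18 := rfl
theorem e_13_x : r13 * x = r19 := rfl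
theorem e_14_x : r14 * x = r20 := rfl
theorem e_14_y : r14 * y = r21 := rfl
theorem e_15_y : r15 * y = r22 := rfl
theorem e_16_x : r16 * x = r23 := rfl
theorem e_17_x : r17 * x = r24 := rfl
theorem e_17_y : r17 * y = r25 := rfl
theorem e_18_x : r18 * x = r26 := rfl
theorem e_18_y : r18 * y = r27 := rfl
theorem e_19_y : r19 * y = r28 := rfl
theorem e_20_y : r20 * y = r29 := rfl
theorem e_21_x : r21 * x = r30 := rfl
theorem e_22_x : r22 * x = r31 := rfl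
theorem e_22_y : r22 * y = r32 := rfl
theorem e_23_y : r23 * y = r33 := rfl
theorem e_24_y : r24 * y = r34 := rfl
theorem e_25_x : r25 * x = r35 := rfl
theorem e_26_y : r26 * y = r36 := rfl
theorem e_27_x : r27 * x = r37 := rfl
theorem e_28_x : r28 * x = r38 := rfl
theorem e_28_y : r28 * y = r39 := rfl
theorem e_29_x : r29 * x = r40 := rfl
theorem e_29_y : r29 * y = r41 := rfl
theorem e_30_y : r30 * y = r42 := rfl
theorem e_31_y : r31 * y = r43 := rfl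
theorem e_32_x : r32 * x = r44 := rfl
theorem e_33_x : r33 * x = r45 := rfl
theorem e_33_y : r33 * y = r46 := rfl
theorem e_34_x : r34 * x = r47 := rfl
theorem e_34_y : r34 * y = r48 := rfl
theorem e_35_y : r35 * y = r49 := rfl
theorem e_36_x : r36 * x = r50 := rfl
theorem e_36_y : r36 * y = r51 := rfl
theorem e_37_y : r37 * y = r52 := rfl
theorem e_38_y : r38 * y = r53 := rfl
theorem e_39_x : r39 * x = r54 := rfl
theorem e_40_y : r40 * y = r55 := rfl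
theorem e_41_x : r41 * x = r56 := rfl
theorem e_42_x : r42 * x = r57 := rfl
theorem e_42_y : r42 * y = r58 := rfl
theorem e_43_y : r43 * y = r59 := rfl
theorem e_44_y : r44 * y = r60 := rfl
theorem e_45_y : r45 * y = r61 := rfl
theorem e_46_x : r46 * x = r62 := rfl
theorem e_47_y : r47 * y = r63 := rfl
theorem e_48_x : r48 * x = r64 := rfl
theorem e_49_x : r49 * x = r65 := rfl
theorem e_51_x : r51 * x = r66 := rfl
theorem e_52_x : r52 * x = r67 := rfl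
theorem e_52_y : r52 * y = r68 := rfl
theorem e_53_x : r53 * x = r69 := rfl
theorem e_53_y : r53 * y = r70 := rfl
theorem e_54_y : r54 * y = r71 := rfl
theorem e_55_x : r55 * x = r72 := rfl
theorem e_55_y : r55 * y = r73 := rfl
theorem e_56_y : r56 * y = r74 := rfl
theorem e_57_y : r57 * y = r75 := rfl
theorem e_59_x : r59 * x = r76 := rfl
theorem e_60_x : r60 * x = r77 := rfl
theorem e_60_y : r60 * y = r78 := rfl
theorem e_61_x : r61 * x = r79 := rfl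
theorem e_61_y : r61 * y = r80 := rfl
theorem e_62_y : r62 * y = r81 := rfl
theorem e_63_x : r63 * x = r82 := rfl
theorem e_63_y : r63 * y = r83 := rfl
theorem e_64_y : r64 * y = r84 := rfl
theorem e_65_y : r65 * y = r85 := rfl
theorem e_66_y : r66 * y = r86 := rfl
theorem e_67_y : r67 * y = r87 := rfl
theorem e_68_x : r68 * x = r88 := rfl
theorem e_69_y : r69 * y = r89 := rfl
theorem e_71_x : r71 * x = r90 := rfl
theorem e_73_x : r73 * x = r91 := rfl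
theorem e_74_y : r74 * y = r92 := rfl
theorem e_75_x : r75 * x = r93 := rfl
theorem e_75_y : r75 * y = r94 := rfl
theorem e_76_y : r76 * y = r95 := rfl
theorem e_77_y : r77 * y = r96 := rfl
theorem e_78_x : r78 * x = r97 := rfl
theorem e_79_y : r79 * y = r98 := rfl
theorem e_81_x : r81 * x = r99 := rfl
theorem e_83_x : r83 * x = r100 := rfl
theorem e_84_y : r84 * y = r101 := rfl
theorem e_85_x : r85 * x = r102 := rfl
theorem e_85_y : r85 * y = r103 := rfl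
theorem e_86_x : r86 * x = r104 := rfl
theorem e_86_y : r86 * y = r105 := rfl
theorem e_87_x : r87 * x = r106 := rfl
theorem e_87_y : r87 * y = r107 := rfl
theorem e_88_y : r88 * y = r108 := rfl
theorem e_89_x : r89 * x = r109 := rfl
theorem e_89_y : r89 * y = r110 := rfl
theorem e_90_y : r90 * y = r111 := rfl
theorem e_91_y : r91 * y = r112 := rfl
theorem e_92_x : r92 * x = r113 := rfl
theorem e_93_y : r93 * y = r114 := rfl
theorem e_95_x : r95 * x = r115 := rfl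
theorem e_95_y : r95 * y = r116 := rfl
theorem e_96_x : r96 * x = r117 := rfl
theorem e_96_y : r96 * y = r118 := rfl
theorem e_97_y : r97 * y = r119 := rfl
theorem e_98_x : r98 * x = r120 := rfl
theorem e_98_y : r98 * y = r121 := rfl
theorem e_99_y : r99 * y = r122 := rfl
theorem e_100_y : r100 * y = r123 := rfl
theorem e_101_x : r101 * x = r124 := rfl
theorem e_102_y : r102 * y = r125 := rfl
theorem e_104_y : r104 * y = r126 := rfl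
theorem e_105_x : r105 * x = r127 := rfl
theorem e_106_y : r106 * y = r128 := rfl
theorem e_108_x : r108 * x = r129 := rfl
theorem e_110_x : r110 * x = r130 := rfl
theorem e_111_x : r111 * x = r131 := rfl
theorem e_111_y : r111 * y = r132 := rfl
theorem e_112_x : r112 * x = r133 := rfl
theorem e_112_y : r112 * y = r134 := rfl
theorem e_113_y : r113 * y = r135 := rfl
theorem e_114_x : r114 * x = r136 := rfl
theorem e_114_y : r114 * y = r137 := rfl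
theorem e_115_y : r115 * y = r138 := rfl
theorem e_116_x : r116 * x = r139 := rfl
theorem e_117_y : r117 * y = r140 := rfl
theorem e_119_x : r119 * x = r141 := rfl
theorem e_121_x : r121 * x = r142 := rfl
theorem e_122_x : r122 * x = r143 := rfl
theorem e_122_y : r122 * y = r144 := rfl
theorem e_123_x : r123 * x = r145 := rfl
theorem e_123_y : r123 * y = r146 := rfl
theorem e_124_y : r124 * y = r147 := rfl
theorem e_125_x : r125 * x = r148 := rfl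
theorem e_125_y : r125 * y = r149 := rfl
theorem e_126_x : r126 * x = r150 := rfl
theorem e_126_y : r126 * y = r151 := rfl
theorem e_128_x : r128 * x = r152 := rfl
theorem e_128_y : r128 * y = r153 := rfl
theorem e_129_y : r129 * y = r154 := rfl
theorem e_130_y : r130 * y = r155 := rfl
theorem e_133_y : r133 * y = r156 := rfl
theorem e_134_x : r134 * x = r157 := rfl
theorem e_135_x : r135 * x = r158 := rfl
theorem e_137_x : r137 * x = r159 := rfl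
theorem e_138_y : r138 * y = r160 := rfl
theorem e_141_y : r141 * y = r161 := rfl
theorem e_142_y : r142 * y = r162 := rfl
theorem e_146_x : r146 * x = r163 := rfl
theorem e_147_x : r147 * x = r164 := rfl
theorem e_149_x : r149 * x = r165 := rfl
theorem e_155_x : r155 * x = r166 := rfl
theorem e_162_x : r162 * x = r167 := rfl
theorem e_1_x : r1 * x = r0 := by
  have h := relA r0
  simp only [e_0_x] at h
  exact h
theorem e_4_x : r4 * x = r2 := by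
  have h := relA r2
  simp only [e_2_x] at h
  exact h
theorem e_6_x : r6 * x = r3 := by
  have h := relA r3
  simp only [e_3_x] at h
  exact h
theorem e_9_x : r9 * x = r5 := by
  have h := relA r5
  simp only [e_5_x] at h
  exact h
theorem e_11_x : r11 * x = r7 := by
  have h := relA r7
  simp only [e_7_x] at h
  exact h
theorem e_12_x : r12 * x = r8 := by
  have h := relA r8
  simp only [e_8_x] at h
  exact h
theorem e_15_x : r15 * x = r10 := by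
  have h := relA r10
  simp only [e_10_x] at h
  exact h
theorem e_19_x : r19 * x = r13 := by
  have h := relA r13
  simp only [e_13_x] at h
  exact h
theorem e_20_x : r20 * x = r14 := by
  have h := relA r14
  simp only [e_14_x] at h
  exact h
theorem e_23_x : r23 * x = r16 := by
  have h := relA r16
  simp only [e_16_x] at h
  exact h
theorem e_24_x : r24 * x = r17 := by
  have h := relA r17
  simp only [e_17_x] at h
  exact h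
theorem e_26_x : r26 * x = r18 := by
  have h := relA r18
  simp only [e_18_x] at h
  exact h
theorem e_30_x : r30 * x = r21 := by
  have h := relA r21
  simp only [e_21_x] at h
  exact h
theorem e_31_x : r31 * x = r22 := by
  have h := relA r22
  simp only [e_22_x] at h
  exact h
theorem e_35_x : r35 * x = r25 := by
  have h := relA r25
  simp only [e_25_x] at h
  exact h
theorem e_37_x : r37 * x = r27 := by
  have h := relA r27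
  simp only [e_27_x] at h
  exact h
theorem e_38_x : r38 * x = r28 := by
  have h := relA r28
  simp only [e_28_x] at h
  exact h
theorem e_40_x : r40 * x = r29 := by
  have h := relA r29
  simp only [e_29_x] at h
  exact h
theorem e_44_x : r44 * x = r32 := by
  have h := relA r32
  simp only [e_32_x] at h
  exact h
theorem e_45_x : r45 * x = r33 := by
  have h := relA r33
  simp only [e_33_x] at h
  exact h
theorem e_47_x : r47 * x = r34 := by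
  have h := relA r34
  simp only [e_34_x] at h
  exact h
theorem e_50_x : r50 * x = r36 := by
  have h := relA r36
  simp only [e_36_x] at h
  exact h
theorem e_54_x : r54 * x = r39 := by
  have h := relA r39
  simp only [e_39_x] at h
  exact h
theorem e_56_x : r56 * x = r41 := by
  have h := relA r41
  simp only [e_41_x] at h
  exact h
theorem e_57_x : r57 * x = r42 := by
  have h := relA r42
  simp only [e_42_x] at h
  exact h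
theorem e_62_x : r62 * x = r46 := by
  have h := relA r46
  simp only [e_46_x] at h
  exact h
theorem e_64_x : r64 * x = r48 := by
  have h := relA r48
  simp only [e_48_x] at h
  exact h
theorem e_65_x : r65 * x = r49 := by
  have h := relA r49
  simp only [e_49_x] at h
  exact h
theorem e_66_x : r66 * x = r51 := by
  have h := relA r51
  simp only [e_51_x] at h
  exact h
theorem e_67_x : r67 * x = r52 := by
  have h := relA r52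
  simp only [e_52_x] at h
  exact h
theorem e_69_x : r69 * x = r53 := by
  have h := relA r53
  simp only [e_53_x] at h
  exact h
theorem e_72_x : r72 * x = r55 := by
  have h := relA r55
  simp only [e_55_x] at h
  exact h
theorem e_76_x : r76 * x = r59 := by
  have h := relA r59
  simp only [e_59_x] at h
  exact h
theorem e_77_x : r77 * x = r60 := by
  have h := relA r60
  simp only [e_60_x] at h
  exact h
theorem e_79_x : r79 * x = r61 := by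
  have h := relA r61
  simp only [e_61_x] at h
  exact h
theorem e_82_x : r82 * x = r63 := by
  have h := relA r63
  simp only [e_63_x] at h
  exact h
theorem e_88_x : r88 * x = r68 := by
  have h := relA r68
  simp only [e_68_x] at h
  exact h
theorem e_90_x : r90 * x = r71 := by
  have h := relA r71
  simp only [e_71_x] at h
  exact h
theorem e_91_x : r91 * x = r73 := by
  have h := relA r73
  simp only [e_73_x] at h
  exact h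
theorem e_93_x : r93 * x = r75 := by
  have h := relA r75
  simp only [e_75_x] at h
  exact h
theorem e_97_x : r97 * x = r78 := by
  have h := relA r78
  simp only [e_78_x] at h
  exact h
theorem e_99_x : r99 * x = r81 := by
  have h := relA r81
  simp only [e_81_x] at h
  exact h
theorem e_100_x : r100 * x = r83 := by
  have h := relA r83
  simp only [e_83_x] at h
  exact h
theorem e_102_x : r102 * x = r85 := by
  have h := relA r85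
  simp only [e_85_x] at h
  exact h
theorem e_104_x : r104 * x = r86 := by
  have h := relA r86
  simp only [e_86_x] at h
  exact h
theorem e_106_x : r106 * x = r87 := by
  have h := relA r87
  simp only [e_87_x] at h
  exact h
theorem e_109_x : r109 * x = r89 := by
  have h := relA r89
  simp only [e_89_x] at h
  exact h
theorem e_113_x : r113 * x = r92 := by
  have h := relA r92
  simp only [e_92_x] at h
  exact h
theorem e_115_x : r115 * x = r95 := by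
  have h := relA r95
  simp only [e_95_x] at h
  exact h
theorem e_117_x : r117 * x = r96 := by
  have h := relA r96
  simp only [e_96_x] at h
  exact h
theorem e_120_x : r120 * x = r98 := by
  have h := relA r98
  simp only [e_98_x] at h
  exact h
theorem e_124_x : r124 * x = r101 := by
  have h := relA r101
  simp only [e_101_x] at h
  exact h
theorem e_127_x : r127 * x = r105 := by
  have h := relA r105
  simp only [e_105_x] at h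
  exact h
theorem e_129_x : r129 * x = r108 := by
  have h := relA r108
  simp only [e_108_x] at h
  exact h
theorem e_130_x : r130 * x = r110 := by
  have h := relA r110
  simp only [e_110_x] at h
  exact h
theorem e_131_x : r131 * x = r111 := by
  have h := relA r111
  simp only [e_111_x] at h
  exact h
theorem e_133_x : r133 * x = r112 := by
  have h := relA r112
  simp only [e_112_x] at h
  exact h
theorem e_136_x : r136 * x = r114 := by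
  have h := relA r114
  simp only [e_114_x] at h
  exact h
theorem e_139_x : r139 * x = r116 := by
  have h := relA r116
  simp only [e_116_x] at h
  exact h
theorem e_141_x : r141 * x = r119 := by
  have h := relA r119
  simp only [e_119_x] at h
  exact h
theorem e_142_x : r142 * x = r121 := by
  have h := relA r121
  simp only [e_121_x] at h
  exact h
theorem e_143_x : r143 * x = r122 := by
  have h := relA r122
  simp only [e_122_x] at h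
  exact h
theorem e_145_x : r145 * x = r123 := by
  have h := relA r123
  simp only [e_123_x] at h
  exact h
theorem e_148_x : r148 * x = r125 := by
  have h := relA r125
  simp only [e_125_x] at h
  exact h
theorem e_150_x : r150 * x = r126 := by
  have h := relA r126
  simp only [e_126_x] at h
  exact h
theorem e_152_x : r152 * x = r128 := by
  have h := relA r128
  simp only [e_128_x] at h
  exact h
theorem e_157_x : r157 * x = r134 := by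
  have h := relA r134
  simp only [e_134_x] at h
  exact h
theorem e_158_x : r158 * x = r135 := by
  have h := relA r135
  simp only [e_135_x] at h
  exact h
theorem e_159_x : r159 * x = r137 := by
  have h := relA r137
  simp only [e_137_x] at h
  exact h
theorem e_163_x : r163 * x = r146 := by
  have h := relA r146
  simp only [e_146_x] at h
  exact h
theorem e_164_x : r164 * x = r147 := by
  have h := relA r147
  simp only [e_147_x] at h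
  exact h
theorem e_165_x : r165 * x = r149 := by
  have h := relA r149
  simp only [e_149_x] at h
  exact h
theorem e_166_x : r166 * x = r155 := by
  have h := relA r155
  simp only [e_155_x] at h
  exact h
theorem e_167_x : r167 * x = r162 := by
  have h := relA r162
  simp only [e_162_x] at h
  exact h
theorem e_5_y : r5 * y = r0 := by
  have h := relB r0
  simp only [e_0_y, e_2_y] at h
  exact h
theorem e_7_y : r7 * y = r1 := by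
  have h := relB r1
  simp only [e_1_y, e_3_y] at h
  exact h
theorem e_13_y : r13 * y = r4 := by
  have h := relB r4
  simp only [e_4_y, e_8_y] at h
  exact h
theorem e_16_y : r16 * y = r6 := by
  have h := relB r6
  simp only [e_6_y, e_10_y] at h
  exact h
theorem e_21_y : r21 * y = r9 := by
  have h := relB r9
  simp only [e_9_y, e_14_y] at h
  exact h
theorem e_25_y : r25 * y = r11 := by
  have h := relB r11
  simp only [e_11_y, e_17_y] at h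
  exact h
theorem e_27_y : r27 * y = r12 := by
  have h := relB r12
  simp only [e_12_y, e_18_y] at h
  exact h
theorem e_32_y : r32 * y = r15 := by
  have h := relB r15
  simp only [e_15_y, e_22_y] at h
  exact h
theorem e_39_y : r39 * y = r19 := by
  have h := relB r19
  simp only [e_19_y, e_28_y] at h
  exact h
theorem e_41_y : r41 * y = r20 := by
  have h := relB r20
  simp only [e_20_y, e_29_y] at h
  exact h
theorem e_46_y : r46 * y = r23 := by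
  have h := relB r23
  simp only [e_23_y, e_33_y] at h
  exact h
theorem e_48_y : r48 * y = r24 := by
  have h := relB r24
  simp only [e_24_y, e_34_y] at h
  exact h
theorem e_51_y : r51 * y = r26 := by
  have h := relB r26
  simp only [e_26_y, e_36_y] at h
  exact h
theorem e_58_y : r58 * y = r30 := by
  have h := relB r30
  simp only [e_30_y, e_42_y] at h
  exact h
theorem e_59_y : r59 * y = r31 := by
  have h := relB r31
  simp only [e_31_y, e_43_y] at h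
  exact h
theorem e_68_y : r68 * y = r37 := by
  have h := relB r37
  simp only [e_37_y, e_52_y] at h
  exact h
theorem e_70_y : r70 * y = r38 := by
  have h := relB r38
  simp only [e_38_y, e_53_y] at h
  exact h
theorem e_73_y : r73 * y = r40 := by
  have h := relB r40
  simp only [e_40_y, e_55_y] at h
  exact h
theorem e_78_y : r78 * y = r44 := by
  have h := relB r44
  simp only [e_44_y, e_60_y] at h
  exact h
theorem e_80_y : r80 * y = r45 := by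
  have h := relB r45
  simp only [e_45_y, e_61_y] at h
  exact h
theorem e_83_y : r83 * y = r47 := by
  have h := relB r47
  simp only [e_47_y, e_63_y] at h
  exact h
theorem e_92_y : r92 * y = r56 := by
  have h := relB r56
  simp only [e_56_y, e_74_y] at h
  exact h
theorem e_94_y : r94 * y = r57 := by
  have h := relB r57
  simp only [e_57_y, e_75_y] at h
  exact h
theorem e_101_y : r101 * y = r64 := by
  have h := relB r64
  simp only [e_64_y, e_84_y] at h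
  exact h
theorem e_103_y : r103 * y = r65 := by
  have h := relB r65
  simp only [e_65_y, e_85_y] at h
  exact h
theorem e_105_y : r105 * y = r66 := by
  have h := relB r66
  simp only [e_66_y, e_86_y] at h
  exact h
theorem e_107_y : r107 * y = r67 := by
  have h := relB r67
  simp only [e_67_y, e_87_y] at h
  exact h
theorem e_110_y : r110 * y = r69 := by
  have h := relB r69
  simp only [e_69_y, e_89_y] at h
  exact h
theorem e_116_y : r116 * y = r76 := by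
  have h := relB r76
  simp only [e_76_y, e_95_y] at h
  exact h
theorem e_118_y : r118 * y = r77 := by
  have h := relB r77
  simp only [e_77_y, e_96_y] at h
  exact h
theorem e_121_y : r121 * y = r79 := by
  have h := relB r79
  simp only [e_79_y, e_98_y] at h
  exact h
theorem e_132_y : r132 * y = r90 := by
  have h := relB r90
  simp only [e_90_y, e_111_y] at h
  exact h
theorem e_134_y : r134 * y = r91 := by
  have h := relB r91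
  simp only [e_91_y, e_112_y] at h
  exact h
theorem e_137_y : r137 * y = r93 := by
  have h := relB r93
  simp only [e_93_y, e_114_y] at h
  exact h
theorem e_144_y : r144 * y = r99 := by
  have h := relB r99
  simp only [e_99_y, e_122_y] at h
  exact h
theorem e_146_y : r146 * y = r100 := by
  have h := relB r100
  simp only [e_100_y, e_123_y] at h
  exact h
theorem e_149_y : r149 * y = r102 := by
  have h := relB r102
  simp only [e_102_y, e_125_y] at h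
  exact h
theorem e_151_y : r151 * y = r104 := by
  have h := relB r104
  simp only [e_104_y, e_126_y] at h
  exact h
theorem e_153_y : r153 * y = r106 := by
  have h := relB r106
  simp only [e_106_y, e_128_y] at h
  exact h
theorem e_160_y : r160 * y = r115 := by
  have h := relB r115
  simp only [e_115_y, e_138_y] at h
  exact h
theorem e_43_x : r43 * x = r58 := by
  have h := relC r0
  simp only [e_0_x, e_1_y, e_3_x, e_6_y, e_10_x, e_15_y, e_22_x, e_31_y] at h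
  have h2 : r58 * y * x * y * x * y = r0 := by simp only [e_58_y, e_30_x, e_21_y, e_9_x, e_5_y]
  exact (mul_right_cancel (mul_right_cancel (mul_right_cancel (mul_right_cancel (mul_right_cancel (h.trans h2.symm))))))
theorem e_50_y : r50 * y = r35 := by
  have h := relC r1
  simp only [e_1_x, e_0_y, e_2_x, e_4_y, e_8_x, e_12_y, e_18_x, e_26_y, e_36_x] at h
  have h2 : r35 * x * y * x * y = r1 := by simp only [e_35_x, e_25_y, e_11_x, e_7_y]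
  exact (mul_right_cancel (mul_right_cancel (mul_right_cancel (mul_right_cancel (h.trans h2.symm)))))
theorem e_72_y : r72 * y = r54 := by
  have h := relC r4
  simp only [e_4_x, e_2_y, e_5_x, e_9_y, e_14_x, e_20_y, e_29_x, e_40_y, e_55_x] at h
  have h2 : r54 * x * y * x * y = r4 := by simp only [e_54_x, e_39_y, e_19_x, e_13_y]
  exact (mul_right_cancel (mul_right_cancel (mul_right_cancel (mul_right_cancel (h.trans h2.symm)))))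
theorem e_82_y : r82 * y = r62 := by
  have h := relC r6
  simp only [e_6_x, e_3_y, e_7_x, e_11_y, e_17_x, e_24_y, e_34_x, e_47_y, e_63_x] at h
  have h2 : r62 * x * y * x * y = r6 := by simp only [e_62_x, e_46_y, e_23_x, e_16_y]
  exact (mul_right_cancel (mul_right_cancel (mul_right_cancel (mul_right_cancel (h.trans h2.symm)))))
theorem e_109_y : r109 * y = r88 := by
  have h := relC r12
  simp only [e_12_x, e_8_y, e_13_x, e_19_y, e_28_x, e_38_y, e_53_x, e_69_y, e_89_x] at h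
  have h2 : r88 * x * y * x * y = r12 := by simp only [e_88_x, e_68_y, e_37_x, e_27_y]
  exact (mul_right_cancel (mul_right_cancel (mul_right_cancel (mul_right_cancel (h.trans h2.symm)))))
theorem e_120_y : r120 * y = r97 := by
  have h := relC r15
  simp only [e_15_x, e_10_y, e_16_x, e_23_y, e_33_x, e_45_y, e_61_x, e_79_y, e_98_x] at h
  have h2 : r97 * x * y * x * y = r15 := by simp only [e_97_x, e_78_y, e_44_x, e_32_y]
  exact (mul_right_cancel (mul_right_cancel (mul_right_cancel (mul_right_cancel (h.trans h2.symm)))))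
theorem e_136_y : r136 * y = r113 := by
  have h := relC r20
  simp only [e_20_x, e_14_y, e_21_x, e_30_y, e_42_x, e_57_y, e_75_x, e_93_y, e_114_x] at h
  have h2 : r113 * x * y * x * y = r20 := by simp only [e_113_x, e_92_y, e_56_x, e_41_y]
  exact (mul_right_cancel (mul_right_cancel (mul_right_cancel (mul_right_cancel (h.trans h2.symm)))))
theorem e_148_y : r148 * y = r124 := by
  have h := relC r24
  simp only [e_24_x, e_17_y, e_25_x, e_35_y, e_49_x, e_65_y, e_85_x, e_102_y, e_125_x] at h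
  have h2 : r124 * x * y * x * y = r24 := by simp only [e_124_x, e_101_y, e_64_x, e_48_y]
  exact (mul_right_cancel (mul_right_cancel (mul_right_cancel (mul_right_cancel (h.trans h2.symm)))))
theorem e_152_y : r152 * y = r127 := by
  have h := relC r26
  simp only [e_26_x, e_18_y, e_27_x, e_37_y, e_52_x, e_67_y, e_87_x, e_106_y, e_128_x] at h
  have h2 : r127 * x * y * x * y = r26 := by simp only [e_127_x, e_105_y, e_66_x, e_51_y]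
  exact (mul_right_cancel (mul_right_cancel (mul_right_cancel (mul_right_cancel (h.trans h2.symm)))))
theorem e_80_x : r80 * x = r70 := by
  have h := relD r0
  simp only [e_0_x, e_1_y, e_3_x, e_6_y, e_10_y, e_16_x, e_23_y, e_33_x, e_45_y, e_61_y] at h
  have h2 : r70 * y * x * y * y * x * y * x * y * y = r0 := by simp only [e_70_y, e_38_x, e_28_y, e_39_y, e_19_x, e_13_y, e_4_x, e_2_y, e_5_y]
  exact (mul_right_cancel (mul_right_cancel (mul_right_cancel (mul_right_cancel (mul_right_cancel (mul_right_cancel (mul_right_cancel (mul_right_cancel (mul_right_cancel (h.trans h2.symm))))))))))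
theorem e_70_x : r70 * x = r80 := by
  have h := relD r1
  simp only [e_1_x, e_0_y, e_2_x, e_4_y, e_8_y, e_13_x, e_19_y, e_28_x, e_38_y, e_53_y] at h
  have h2 : r80 * y * x * y * y * x * y * x * y * y = r1 := by simp only [e_80_y, e_45_x, e_33_y, e_46_y, e_23_x, e_16_y, e_6_x, e_3_y, e_7_y]
  exact (mul_right_cancel (mul_right_cancel (mul_right_cancel (mul_right_cancel (mul_right_cancel (mul_right_cancel (mul_right_cancel (mul_right_cancel (mul_right_cancel (h.trans h2.symm))))))))))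
theorem e_107_x : r107 * x = r94 := by
  have h := relD r2
  simp only [e_2_x, e_4_y, e_8_x, e_12_y, e_18_y, e_27_x, e_37_y, e_52_x, e_67_y, e_87_y] at h
  have h2 : r94 * y * x * y * y * x * y * x * y * y = r2 := by simp only [e_94_y, e_57_x, e_42_y, e_58_y, e_30_x, e_21_y, e_9_x, e_5_y, e_0_y]
  exact (mul_right_cancel (mul_right_cancel (mul_right_cancel (mul_right_cancel (mul_right_cancel (mul_right_cancel (mul_right_cancel (mul_right_cancel (mul_right_cancel (h.trans h2.symm))))))))))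
theorem e_94_x : r94 * x = r107 := by
  have h := relD r4
  simp only [e_4_x, e_2_y, e_5_x, e_9_y, e_14_y, e_21_x, e_30_y, e_42_x, e_57_y, e_75_y] at h
  have h2 : r107 * y * x * y * y * x * y * x * y * y = r4 := by simp only [e_107_y, e_67_x, e_52_y, e_68_y, e_37_x, e_27_y, e_12_x, e_8_y, e_13_y]
  exact (mul_right_cancel (mul_right_cancel (mul_right_cancel (mul_right_cancel (mul_right_cancel (mul_right_cancel (mul_right_cancel (mul_right_cancel (mul_right_cancel (h.trans h2.symm))))))))))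
theorem e_74_x : r74 * x = r84 := by
  have h := relD r5
  simp only [e_5_x, e_9_y, e_14_x, e_20_y, e_29_y, e_41_x, e_56_y] at h
  have h2 : r84 * y * y * x * y * x * y * y * x * y * x * y * y = r5 := by simp only [e_84_y, e_101_y, e_64_x, e_48_y, e_24_x, e_17_y, e_25_y, e_11_x, e_7_y, e_1_x, e_0_y, e_2_y]
  exact (mul_right_cancel (mul_right_cancel (mul_right_cancel (mul_right_cancel (mul_right_cancel (mul_right_cancel (mul_right_cancel (mul_right_cancel (mul_right_cancel (mul_right_cancel (mul_right_cancel (mul_right_cancel (h.trans h2.symm)))))))))))))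
theorem e_103_x : r103 * x = r118 := by
  have h := relD r6
  simp only [e_6_x, e_3_y, e_7_x, e_11_y, e_17_y, e_25_x, e_35_y, e_49_x, e_65_y, e_85_y] at h
  have h2 : r118 * y * x * y * y * x * y * x * y * y = r6 := by simp only [e_118_y, e_77_x, e_60_y, e_78_y, e_44_x, e_32_y, e_15_x, e_10_y, e_16_y]
  exact (mul_right_cancel (mul_right_cancel (mul_right_cancel (mul_right_cancel (mul_right_cancel (mul_right_cancel (mul_right_cancel (mul_right_cancel (mul_right_cancel (h.trans h2.symm))))))))))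
theorem e_84_x : r84 * x = r74 := by
  have h := relD r7
  simp only [e_7_x, e_11_y, e_17_x, e_24_y, e_34_y, e_48_x, e_64_y] at h
  have h2 : r74 * y * y * x * y * x * y * y * x * y * x * y * y = r7 := by simp only [e_74_y, e_92_y, e_56_x, e_41_y, e_20_x, e_14_y, e_21_y, e_9_x, e_5_y, e_0_x, e_1_y, e_3_y]
  exact (mul_right_cancel (mul_right_cancel (mul_right_cancel (mul_right_cancel (mul_right_cancel (mul_right_cancel (mul_right_cancel (mul_right_cancel (mul_right_cancel (mul_right_cancel (mul_right_cancel (mul_right_cancel (h.trans h2.symm)))))))))))))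
theorem e_132_x : r132 * x = r151 := by
  have h := relD r12
  simp only [e_12_x, e_8_y, e_13_x, e_19_y, e_28_y, e_39_x, e_54_y, e_71_x, e_90_y, e_111_y] at h
  have h2 : r151 * y * x * y * y * x * y * x * y * y = r12 := by simp only [e_151_y, e_104_x, e_86_y, e_105_y, e_66_x, e_51_y, e_26_x, e_18_y, e_27_y]
  exact (mul_right_cancel (mul_right_cancel (mul_right_cancel (mul_right_cancel (mul_right_cancel (mul_right_cancel (mul_right_cancel (mul_right_cancel (mul_right_cancel (h.trans h2.symm))))))))))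
theorem e_156_y : r156 * y = r139 := by
  have h := relD r14
  simp only [e_14_x, e_20_y, e_29_x, e_40_y, e_55_y, e_73_x, e_91_y, e_112_x, e_133_y] at h
  have h2 : r139 * x * y * x * y * y * x * y * x * y * y = r14 := by simp only [e_139_x, e_116_y, e_76_x, e_59_y, e_31_y, e_43_x, e_58_y, e_30_x, e_21_y, e_9_y]
  exact (mul_right_cancel (mul_right_cancel (mul_right_cancel (mul_right_cancel (mul_right_cancel (mul_right_cancel (mul_right_cancel (mul_right_cancel (mul_right_cancel (mul_right_cancel (h.trans h2.symm)))))))))))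
theorem e_144_x : r144 * x = r160 := by
  have h := relD r15
  simp only [e_15_x, e_10_y, e_16_x, e_23_y, e_33_y, e_46_x, e_62_y, e_81_x, e_99_y, e_122_y] at h
  have h2 : r160 * y * x * y * y * x * y * x * y * y = r15 := by simp only [e_160_y, e_115_x, e_95_y, e_116_y, e_76_x, e_59_y, e_31_x, e_22_y, e_32_y]
  exact (mul_right_cancel (mul_right_cancel (mul_right_cancel (mul_right_cancel (mul_right_cancel (mul_right_cancel (mul_right_cancel (mul_right_cancel (mul_right_cancel (h.trans h2.symm))))))))))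
theorem e_145_y : r145 * y = r152 := by
  have h := relD r17
  simp only [e_17_x, e_24_y, e_34_x, e_47_y, e_63_y, e_83_x, e_100_y, e_123_x] at h
  have h2 : r152 * y * x * y * x * y * y * x * y * x * y * y = r17 := by simp only [e_152_y, e_127_x, e_105_y, e_66_x, e_51_y, e_26_y, e_36_x, e_50_y, e_35_x, e_25_y, e_11_y]
  exact (mul_right_cancel (mul_right_cancel (mul_right_cancel (mul_right_cancel (mul_right_cancel (mul_right_cancel (mul_right_cancel (mul_right_cancel (mul_right_cancel (mul_right_cancel (mul_right_cancel (h.trans h2.symm))))))))))))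
theorem e_158_y : r158 * y = r163 := by
  have h := relD r75
  simp only [e_75_x, e_93_y, e_114_x, e_136_y, e_113_y, e_135_x] at h
  have h2 : r163 * x * y * y * x * y * x * y * y * x * y * x * y * y = r75 := by simp only [e_163_x, e_146_y, e_100_y, e_123_x, e_145_y, e_152_x, e_128_y, e_153_y, e_106_x, e_87_y, e_107_x, e_94_y, e_57_y]
  exact (mul_right_cancel (mul_right_cancel (mul_right_cancel (mul_right_cancel (mul_right_cancel (mul_right_cancel (mul_right_cancel (mul_right_cancel (mul_right_cancel (mul_right_cancel (mul_right_cancel (mul_right_cancel (mul_right_cancel (h.trans h2.symm))))))))))))))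
theorem e_167_y : r167 * y = r158 := by
  have h := relD r121
  simp only [e_121_x, e_142_y, e_162_x] at h
  have h2 : r158 * y * x * y * x * y * y * x * y * x * y * y * x * y * x * y * y = r121 := by simp only [e_158_y, e_163_x, e_146_y, e_100_x, e_83_y, e_47_y, e_63_x, e_82_y, e_62_x, e_46_y, e_23_y, e_33_x, e_45_y, e_61_x, e_79_y, e_98_y]
  exact (mul_right_cancel (mul_right_cancel (mul_right_cancel (mul_right_cancel (mul_right_cancel (mul_right_cancel (mul_right_cancel (mul_right_cancel (mul_right_cancel (mul_right_cancel (mul_right_cancel (mul_right_cancel (mul_right_cancel (mul_right_cancel (mul_right_cancel (mul_right_cancel (h.trans h2.symm)))))))))))))))))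
theorem e_58_x : r58 * x = r43 := by
  have h := relA r43
  simp only [e_43_x] at h
  exact h
theorem e_118_x : r118 * x = r103 := by
  have h := relA r103
  simp only [e_103_x] at h
  exact h
theorem e_151_x : r151 * x = r132 := by
  have h := relA r132
  simp only [e_132_x] at h
  exact h
theorem e_160_x : r160 * x = r144 := by
  have h := relA r144
  simp only [e_144_x] at h
  exact h
theorem e_49_y : r49 * y = r50 := by
  have h := relB r35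
  simp only [e_35_y] at h
  have h2 : r50 * y = r35 := by simp only [e_50_y]
  exact (mul_right_cancel (h.trans h2.symm))
theorem e_71_y : r71 * y = r72 := by
  have h := relB r54
  simp only [e_54_y] at h
  have h2 : r72 * y = r54 := by simp only [e_72_y]
  exact (mul_right_cancel (h.trans h2.symm))
theorem e_81_y : r81 * y = r82 := by
  have h := relB r62
  simp only [e_62_y] at h
  have h2 : r82 * y = r62 := by simp only [e_82_y]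
  exact (mul_right_cancel (h.trans h2.symm))
theorem e_108_y : r108 * y = r109 := by
  have h := relB r88
  simp only [e_88_y] at h
  have h2 : r109 * y = r88 := by simp only [e_109_y]
  exact (mul_right_cancel (h.trans h2.symm))
theorem e_119_y : r119 * y = r120 := by
  have h := relB r97
  simp only [e_97_y] at h
  have h2 : r120 * y = r97 := by simp only [e_120_y]
  exact (mul_right_cancel (h.trans h2.symm))
theorem e_135_y : r135 * y = r136 := by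
  have h := relB r113
  simp only [e_113_y] at h
  have h2 : r136 * y = r113 := by simp only [e_136_y]
  exact (mul_right_cancel (h.trans h2.symm))
theorem e_147_y : r147 * y = r148 := by
  have h := relB r124
  simp only [e_124_y] at h
  have h2 : r148 * y = r124 := by simp only [e_148_y]
  exact (mul_right_cancel (h.trans h2.symm))
theorem e_127_y : r127 * y = r145 := by
  have h := relB r127
  have h2 : r145 * y * y = r127 := by simp only [e_145_y, e_152_y]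
  exact (mul_right_cancel (mul_right_cancel (h.trans h2.symm)))
theorem e_139_y : r139 * y = r133 := by
  have h := relB r133
  simp only [e_133_y, e_156_y] at h
  exact h
theorem e_163_y : r163 * y = r167 := by
  have h := relB r158
  simp only [e_158_y] at h
  have h2 : r167 * y = r158 := by simp only [e_167_y]
  exact (mul_right_cancel (h.trans h2.symm))
theorem e_140_x : r140 * x = r156 := by
  have h := relC r31
  simp only [e_31_x, e_22_y, e_32_x, e_44_y, e_60_x, e_77_y, e_96_x, e_117_y] at h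
  have h2 : r156 * y * x * y * x * y = r31 := by simp only [e_156_y, e_139_x, e_116_y, e_76_x, e_59_y]
  exact (mul_right_cancel (mul_right_cancel (mul_right_cancel (mul_right_cancel (mul_right_cancel (h.trans h2.symm))))))
theorem e_131_y : r131 * y = r142 := by
  have h := relC r38
  simp only [e_38_x, e_28_y, e_39_x, e_54_y, e_71_x, e_90_y, e_111_x] at h
  have h2 : r142 * x * y * x * y * x * y = r38 := by simp only [e_142_x, e_121_y, e_79_x, e_61_y, e_80_x, e_70_y]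
  exact (mul_right_cancel (mul_right_cancel (mul_right_cancel (mul_right_cancel (mul_right_cancel (mul_right_cancel (h.trans h2.symm)))))))
theorem e_164_y : r164 * y = r157 := by
  have h := relC r40
  simp only [e_40_x, e_29_y, e_41_x, e_56_y, e_74_x, e_84_y, e_101_x, e_124_y, e_147_x] at h
  have h2 : r157 * x * y * x * y = r40 := by simp only [e_157_x, e_134_y, e_91_x, e_73_y]
  exact (mul_right_cancel (mul_right_cancel (mul_right_cancel (mul_right_cancel (h.trans h2.symm)))))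
theorem e_143_y : r143 * y = r130 := by
  have h := relC r45
  simp only [e_45_x, e_33_y, e_46_x, e_62_y, e_81_x, e_99_y, e_122_x] at h
  have h2 : r130 * x * y * x * y * x * y = r45 := by simp only [e_130_x, e_110_y, e_69_x, e_53_y, e_70_x, e_80_y]
  exact (mul_right_cancel (mul_right_cancel (mul_right_cancel (mul_right_cancel (mul_right_cancel (mul_right_cancel (h.trans h2.symm)))))))
theorem e_150_y : r150 * y = r117 := by
  have h := relC r50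
  simp only [e_50_x, e_36_y, e_51_x, e_66_y, e_86_x, e_104_y, e_126_x] at h
  have h2 : r117 * x * y * x * y * x * y = r50 := by simp only [e_117_x, e_96_y, e_118_x, e_103_y, e_65_x, e_49_y]
  exact (mul_right_cancel (mul_right_cancel (mul_right_cancel (mul_right_cancel (mul_right_cancel (mul_right_cancel (h.trans h2.symm)))))))
theorem e_138_x : r138 * x = r153 := by
  have h := relC r57
  simp only [e_57_x, e_42_y, e_58_x, e_43_y, e_59_x, e_76_y, e_95_x, e_115_y] at h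
  have h2 : r153 * y * x * y * x * y = r57 := by simp only [e_153_y, e_106_x, e_87_y, e_107_x, e_94_y]
  exact (mul_right_cancel (mul_right_cancel (mul_right_cancel (mul_right_cancel (mul_right_cancel (h.trans h2.symm))))))
theorem e_153_x : r153 * x = r138 := by
  have h := relC r82
  simp only [e_82_x, e_63_y, e_83_x, e_100_y, e_123_x, e_145_y, e_152_x, e_128_y] at h
  have h2 : r138 * y * x * y * x * y = r82 := by simp only [e_138_y, e_160_x, e_144_y, e_99_x, e_81_y]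
  exact (mul_right_cancel (mul_right_cancel (mul_right_cancel (mul_right_cancel (mul_right_cancel (h.trans h2.symm))))))
theorem e_162_y : r162 * y = r131 := by
  have h := relC r104
  simp only [e_104_x, e_86_y, e_105_x, e_127_y, e_145_x, e_123_y, e_146_x, e_163_y, e_167_x] at h
  have h2 : r131 * x * y * x * y = r104 := by simp only [e_131_x, e_111_y, e_132_x, e_151_y]
  exact (mul_right_cancel (mul_right_cancel (mul_right_cancel (mul_right_cancel (h.trans h2.symm)))))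
theorem e_159_y : r159 * y = r141 := by
  have h := relC r120
  simp only [e_120_x, e_98_y, e_121_x, e_142_y, e_162_x, e_167_y, e_158_x, e_135_y, e_136_x, e_114_y, e_137_x] at h
  have h2 : r141 * x * y = r120 := by simp only [e_141_x, e_119_y]
  exact (mul_right_cancel (mul_right_cancel (h.trans h2.symm)))
theorem e_165_y : r165 * y = r129 := by
  have h := relD r18
  simp only [e_18_x, e_26_y, e_36_x, e_50_y, e_35_y, e_49_x, e_65_y, e_85_x, e_102_y, e_125_y, e_149_x] at h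
  have h2 : r129 * x * y * y * x * y * x * y * y = r18 := by simp only [e_129_x, e_108_y, e_109_y, e_88_x, e_68_y, e_37_x, e_27_y, e_12_y]
  exact (mul_right_cancel (mul_right_cancel (mul_right_cancel (mul_right_cancel (mul_right_cancel (mul_right_cancel (mul_right_cancel (mul_right_cancel (h.trans h2.symm)))))))))
theorem e_154_y : r154 * y = r165 := by
  have h := relD r26
  simp only [e_26_x, e_18_y, e_27_x, e_37_y, e_52_y, e_68_x, e_88_y, e_108_x, e_129_y] at h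
  have h2 : r165 * x * y * x * y * y * x * y * x * y * y = r26 := by simp only [e_165_x, e_149_y, e_102_x, e_85_y, e_103_y, e_65_x, e_49_y, e_50_x, e_36_y, e_51_y]
  exact (mul_right_cancel (mul_right_cancel (mul_right_cancel (mul_right_cancel (mul_right_cancel (mul_right_cancel (mul_right_cancel (mul_right_cancel (mul_right_cancel (mul_right_cancel (h.trans h2.symm)))))))))))
theorem e_166_y : r166 * y = r164 := by
  have h := relD r28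
  simp only [e_28_x, e_38_y, e_53_x, e_69_y, e_89_y, e_110_x, e_130_y, e_155_x] at h
  have h2 : r164 * y * x * y * x * y * y * x * y * x * y * y = r28 := by simp only [e_164_y, e_157_x, e_134_y, e_91_x, e_73_y, e_40_y, e_55_x, e_72_y, e_54_x, e_39_y, e_19_y]
  exact (mul_right_cancel (mul_right_cancel (mul_right_cancel (mul_right_cancel (mul_right_cancel (mul_right_cancel (mul_right_cancel (mul_right_cancel (mul_right_cancel (mul_right_cancel (mul_right_cancel (h.trans h2.symm))))))))))))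
theorem e_161_y : r161 * y = r159 := by
  have h := relD r31
  simp only [e_31_x, e_22_y, e_32_x, e_44_y, e_60_y, e_78_x, e_97_y, e_119_x, e_141_y] at h
  have h2 : r159 * x * y * x * y * y * x * y * x * y * y = r31 := by simp only [e_159_x, e_137_y, e_93_x, e_75_y, e_94_y, e_57_x, e_42_y, e_58_x, e_43_y, e_59_y]
  exact (mul_right_cancel (mul_right_cancel (mul_right_cancel (mul_right_cancel (mul_right_cancel (mul_right_cancel (mul_right_cancel (mul_right_cancel (mul_right_cancel (mul_right_cancel (h.trans h2.symm)))))))))))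
theorem e_154_x : r154 * x = r161 := by
  have h := relD r53
  simp only [e_53_x, e_69_y, e_89_x, e_109_y, e_88_y, e_108_x, e_129_y] at h
  have h2 : r161 * y * y * x * y * x * y * y * x * y * x * y * y = r53 := by simp only [e_161_y, e_159_y, e_141_x, e_119_y, e_120_x, e_98_y, e_121_y, e_79_x, e_61_y, e_80_x, e_70_y, e_38_y]
  exact (mul_right_cancel (mul_right_cancel (mul_right_cancel (mul_right_cancel (mul_right_cancel (mul_right_cancel (mul_right_cancel (mul_right_cancel (mul_right_cancel (mul_right_cancel (mul_right_cancel (mul_right_cancel (h.trans h2.symm)))))))))))))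
theorem e_140_y : r140 * y = r150 := by
  have h := relD r60
  simp only [e_60_x, e_77_y, e_96_x, e_117_y] at h
  have h2 : r150 * x * y * x * y * y * x * y * x * y * y * x * y * x * y * y = r60 := by simp only [e_150_x, e_126_y, e_151_x, e_132_y, e_90_y, e_111_x, e_131_y, e_142_x, e_121_y, e_79_y, e_98_x, e_120_y, e_97_x, e_78_y, e_44_y]
  exact (mul_right_cancel (mul_right_cancel (mul_right_cancel (mul_right_cancel (mul_right_cancel (mul_right_cancel (mul_right_cancel (mul_right_cancel (mul_right_cancel (mul_right_cancel (mul_right_cancel (mul_right_cancel (mul_right_cancel (mul_right_cancel (mul_right_cancel (h.trans h2.symm))))))))))))))))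
theorem e_161_x : r161 * x = r154 := by
  have h := relD r61
  simp only [e_61_x, e_79_y, e_98_x, e_120_y, e_97_y, e_119_x, e_141_y] at h
  have h2 : r154 * y * y * x * y * x * y * y * x * y * x * y * y = r61 := by simp only [e_154_y, e_165_y, e_129_x, e_108_y, e_109_x, e_89_y, e_110_y, e_69_x, e_53_y, e_70_x, e_80_y, e_45_y]
  exact (mul_right_cancel (mul_right_cancel (mul_right_cancel (mul_right_cancel (mul_right_cancel (mul_right_cancel (mul_right_cancel (mul_right_cancel (mul_right_cancel (mul_right_cancel (mul_right_cancel (mul_right_cancel (h.trans h2.symm)))))))))))))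
theorem e_155_y : r155 * y = r143 := by
  have h := relD r67
  simp only [e_67_x, e_52_y, e_68_x, e_88_y, e_108_y, e_109_x, e_89_y, e_110_x, e_130_y] at h
  have h2 : r143 * x * y * x * y * y * x * y * x * y * y = r67 := by simp only [e_143_x, e_122_y, e_144_x, e_160_y, e_115_y, e_138_x, e_153_y, e_106_x, e_87_y, e_107_y]
  exact (mul_right_cancel (mul_right_cancel (mul_right_cancel (mul_right_cancel (mul_right_cancel (mul_right_cancel (mul_right_cancel (mul_right_cancel (mul_right_cancel (mul_right_cancel (h.trans h2.symm)))))))))))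
theorem e_157_y : r157 * y = r166 := by
  have h := relD r72
  simp only [e_72_x, e_55_y, e_73_x, e_91_y, e_112_y, e_134_x] at h
  have h2 : r166 * x * y * y * x * y * x * y * y * x * y * x * y * y = r72 := by simp only [e_166_x, e_155_y, e_143_y, e_130_x, e_110_y, e_69_x, e_53_y, e_70_y, e_38_x, e_28_y, e_39_x, e_54_y, e_71_y]
  exact (mul_right_cancel (mul_right_cancel (mul_right_cancel (mul_right_cancel (mul_right_cancel (mul_right_cancel (mul_right_cancel (mul_right_cancel (mul_right_cancel (mul_right_cancel (mul_right_cancel (mul_right_cancel (mul_right_cancel (h.trans h2.symm))))))))))))))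
theorem e_156_x : r156 * x = r140 := by
  have h := relD r85
  simp only [e_85_x, e_102_y, e_125_x, e_148_y, e_124_y, e_147_x, e_164_y, e_157_x, e_134_y, e_91_y, e_112_x, e_133_y] at h
  have h2 : r140 * y * y * x * y * x * y * y = r85 := by simp only [e_140_y, e_150_y, e_117_x, e_96_y, e_118_x, e_103_y, e_65_y]
  exact (mul_right_cancel (mul_right_cancel (mul_right_cancel (mul_right_cancel (mul_right_cancel (mul_right_cancel (mul_right_cancel (h.trans h2.symm))))))))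
noncomputable def rep : Fin 168 → P
  | ⟨0, _⟩ => r0
  | ⟨1, _⟩ => r1
  | ⟨2, _⟩ => r2
  | ⟨3, _⟩ => r3
  | ⟨4, _⟩ => r4
  | ⟨5, _⟩ => r5
  | ⟨6, _⟩ => r6
  | ⟨7, _⟩ => r7
  | ⟨8, _⟩ => r8
  | ⟨9, _⟩ => r9
  | ⟨10, _⟩ => r10
  | ⟨11, _⟩ => r11
  | ⟨12, _⟩ => r12
  | ⟨13, _⟩ => r13
  | ⟨14, _⟩ => r14
  | ⟨15, _⟩ => r15
  | ⟨16, _⟩ => r16
  | ⟨17, _⟩ => r17
  | ⟨18, _⟩ => r18
  | ⟨19, _⟩ => r19
  | ⟨20, _⟩ => r20
  | ⟨21, _⟩ => r21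
  | ⟨22, _⟩ => r22
  | ⟨23, _⟩ => r23
  | ⟨24, _⟩ => r24
  | ⟨25, _⟩ => r25
  | ⟨26, _⟩ => r26
  | ⟨27, _⟩ => r27
  | ⟨28, _⟩ => r28
  | ⟨29, _⟩ => r29
  | ⟨30, _⟩ => r30
  | ⟨31, _⟩ => r31
  | ⟨32, _⟩ => r32
  | ⟨33, _⟩ => r33
  | ⟨34, _⟩ => r34
  | ⟨35, _⟩ => r35
  | ⟨36, _⟩ => r36
  | ⟨37, _⟩ => r37
  | ⟨38, _⟩ => r38
  | ⟨39, _⟩ => r39
  | ⟨40, _⟩ => r40
  | ⟨41, _⟩ => r41
  | ⟨42, _⟩ => r42
  | ⟨43, _⟩ => r43
  | ⟨44, _⟩ => r44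
  | ⟨45, _⟩ => r45
  | ⟨46, _⟩ => r46
  | ⟨47, _⟩ => r47
  | ⟨48, _⟩ => r48
  | ⟨49, _⟩ => r49
  | ⟨50, _⟩ => r50
  | ⟨51, _⟩ => r51
  | ⟨52, _⟩ => r52
  | ⟨53, _⟩ => r53
  | ⟨54, _⟩ => r54
  | ⟨55, _⟩ => r55
  | ⟨56, _⟩ => r56
  | ⟨57, _⟩ => r57
  | ⟨58, _⟩ => r58
  | ⟨59, _⟩ => r59
  | ⟨60, _⟩ => r60
  | ⟨61, _⟩ => r61
  | ⟨62, _⟩ => r62
  | ⟨63, _⟩ => r63
  | ⟨64, _⟩ => r64
  | ⟨65, _⟩ => r65
  | ⟨66, _⟩ => r66
  | ⟨67, _⟩ => r67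
  | ⟨68, _⟩ => r68
  | ⟨69, _⟩ => r69
  | ⟨70, _⟩ => r70
  | ⟨71, _⟩ => r71
  | ⟨72, _⟩ => r72
  | ⟨73, _⟩ => r73
  | ⟨74, _⟩ => r74
  | ⟨75, _⟩ => r75
  | ⟨76, _⟩ => r76
  | ⟨77, _⟩ => r77
  | ⟨78, _⟩ => r78
  | ⟨79, _⟩ => r79
  | ⟨80, _⟩ => r80
  | ⟨81, _⟩ => r81
  | ⟨82, _⟩ => r82
  | ⟨83, _⟩ => r83
  | ⟨84, _⟩ => r84
  | ⟨85, _⟩ => r85
  | ⟨86, _⟩ => r86
  | ⟨87, _⟩ => r87
  | ⟨88, _⟩ => r88
  | ⟨89, _⟩ => r89
  | ⟨90, _⟩ => r90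
  | ⟨91, _⟩ => r91
  | ⟨92, _⟩ => r92
  | ⟨93, _⟩ => r93
  | ⟨94, _⟩ => r94
  | ⟨95, _⟩ => r95
  | ⟨96, _⟩ => r96
  | ⟨97, _⟩ => r97
  | ⟨98, _⟩ => r98
  | ⟨99, _⟩ => r99
  | ⟨100, _⟩ => r100
  | ⟨101, _⟩ => r101
  | ⟨102, _⟩ => r102
  | ⟨103, _⟩ => r103
  | ⟨104, _⟩ => r104
  | ⟨105, _⟩ => r105
  | ⟨106, _⟩ => r106
  | ⟨107, _⟩ => r107
  | ⟨108, _⟩ => r108
  | ⟨109, _⟩ => r109
  | ⟨110, _⟩ => r110
  | ⟨111, _⟩ => r111
  | ⟨112, _⟩ => r112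
  | ⟨113, _⟩ => r113
  | ⟨114, _⟩ => r114
  | ⟨115, _⟩ => r115
  | ⟨116, _⟩ => r116
  | ⟨117, _⟩ => r117
  | ⟨118, _⟩ => r118
  | ⟨119, _⟩ => r119
  | ⟨120, _⟩ => r120
  | ⟨121, _⟩ => r121
  | ⟨122, _⟩ => r122
  | ⟨123, _⟩ => r123
  | ⟨124, _⟩ => r124
  | ⟨125, _⟩ => r125
  | ⟨126, _⟩ => r126
  | ⟨127, _⟩ => r127
  | ⟨128, _⟩ => r128
  | ⟨129, _⟩ => r129
  | ⟨130, _⟩ => r130
  | ⟨131, _⟩ => r131
  | ⟨132, _⟩ => r132
  | ⟨133, _⟩ => r133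
  | ⟨134, _⟩ => r134
  | ⟨135, _⟩ => r135
  | ⟨136, _⟩ => r136
  | ⟨137, _⟩ => r137
  | ⟨138, _⟩ => r138
  | ⟨139, _⟩ => r139
  | ⟨140, _⟩ => r140
  | ⟨141, _⟩ => r141
  | ⟨142, _⟩ => r142
  | ⟨143, _⟩ => r143
  | ⟨144, _⟩ => r144
  | ⟨145, _⟩ => r145
  | ⟨146, _⟩ => r146
  | ⟨147, _⟩ => r147
  | ⟨148, _⟩ => r148
  | ⟨149, _⟩ => r149
  | ⟨150, _⟩ => r150
  | ⟨151, _⟩ => r151
  | ⟨152, _⟩ => r152
  | ⟨153, _⟩ => r153
  | ⟨154, _⟩ => r154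
  | ⟨155, _⟩ => r155
  | ⟨156, _⟩ => r156
  | ⟨157, _⟩ => r157
  | ⟨158, _⟩ => r158
  | ⟨159, _⟩ => r159
  | ⟨160, _⟩ => r160
  | ⟨161, _⟩ => r161
  | ⟨162, _⟩ => r162
  | ⟨163, _⟩ => r163
  | ⟨164, _⟩ => r164
  | ⟨165, _⟩ => r165
  | ⟨166, _⟩ => r166
  | ⟨167, _⟩ => r167
  | ⟨n+168, h⟩ => absurd h (by omega)
def nx_x : Fin 168 → Fin 168
  | ⟨0, _⟩ => 1
  | ⟨1, _⟩ => 0
  | ⟨2, _⟩ => 4
  | ⟨3, _⟩ => 6
  | ⟨4, _⟩ => 2
  | ⟨5, _⟩ => 9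
  | ⟨6, _⟩ => 3
  | ⟨7, _⟩ => 11
  | ⟨8, _⟩ => 12
  | ⟨9, _⟩ => 5
  | ⟨10, _⟩ => 15
  | ⟨11, _⟩ => 7
  | ⟨12, _⟩ => 8
  | ⟨13, _⟩ => 19
  | ⟨14, _⟩ => 20
  | ⟨15, _⟩ => 10
  | ⟨16, _⟩ => 23
  | ⟨17, _⟩ => 24
  | ⟨18, _⟩ => 26
  | ⟨19, _⟩ => 13
  | ⟨20, _⟩ => 14
  | ⟨21, _⟩ => 30
  | ⟨22, _⟩ => 31
  | ⟨23, _⟩ => 16
  | ⟨24, _⟩ => 17
  | ⟨25, _⟩ => 35
  | ⟨26, _⟩ => 18
  | ⟨27, _⟩ => 37
  | ⟨28, _⟩ => 38
  | ⟨29, _⟩ => 40
  | ⟨30, _⟩ => 21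
  | ⟨31, _⟩ => 22
  | ⟨32, _⟩ => 44
  | ⟨33, _⟩ => 45
  | ⟨34, _⟩ => 47
  | ⟨35, _⟩ => 25
  | ⟨36, _⟩ => 50
  | ⟨37, _⟩ => 27
  | ⟨38, _⟩ => 28
  | ⟨39, _⟩ => 54
  | ⟨40, _⟩ => 29
  | ⟨41, _⟩ => 56
  | ⟨42, _⟩ => 57
  | ⟨43, _⟩ => 58
  | ⟨44, _⟩ => 32
  | ⟨45, _⟩ => 33
  | ⟨46, _⟩ => 62
  | ⟨47, _⟩ => 34
  | ⟨48, _⟩ => 64
  | ⟨49, _⟩ => 65
  | ⟨50, _⟩ => 36
  | ⟨51, _⟩ => 66
  | ⟨52, _⟩ => 67
  | ⟨53, _⟩ => 69
  | ⟨54, _⟩ => 39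
  | ⟨55, _⟩ => 72
  | ⟨56, _⟩ => 41
  | ⟨57, _⟩ => 42
  | ⟨58, _⟩ => 43
  | ⟨59, _⟩ => 76
  | ⟨60, _⟩ => 77
  | ⟨61, _⟩ => 79
  | ⟨62, _⟩ => 46
  | ⟨63, _⟩ => 82
  | ⟨64, _⟩ => 48
  | ⟨65, _⟩ => 49
  | ⟨66, _⟩ => 51
  | ⟨67, _⟩ => 52
  | ⟨68, _⟩ => 88
  | ⟨69, _⟩ => 53
  | ⟨70, _⟩ => 80
  | ⟨71, _⟩ => 90
  | ⟨72, _⟩ => 55
  | ⟨73, _⟩ => 91
  | ⟨74, _⟩ => 84
  | ⟨75, _⟩ => 93
  | ⟨76, _⟩ => 59
  | ⟨77, _⟩ => 60
  | ⟨78, _⟩ => 97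
  | ⟨79, _⟩ => 61
  | ⟨80, _⟩ => 70
  | ⟨81, _⟩ => 99
  | ⟨82, _⟩ => 63
  | ⟨83, _⟩ => 100
  | ⟨84, _⟩ => 74
  | ⟨85, _⟩ => 102
  | ⟨86, _⟩ => 104
  | ⟨87, _⟩ => 106
  | ⟨88, _⟩ => 68
  | ⟨89, _⟩ => 109
  | ⟨90, _⟩ => 71
  | ⟨91, _⟩ => 73
  | ⟨92, _⟩ => 113
  | ⟨93, _⟩ => 75
  | ⟨94, _⟩ => 107
  | ⟨95, _⟩ => 115
  | ⟨96, _⟩ => 117
  | ⟨97, _⟩ => 78
  | ⟨98, _⟩ => 120
  | ⟨99, _⟩ => 81
  | ⟨100, _⟩ => 83
  | ⟨101, _⟩ => 124
  | ⟨102, _⟩ => 85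
  | ⟨103, _⟩ => 118
  | ⟨104, _⟩ => 86
  | ⟨105, _⟩ => 127
  | ⟨106, _⟩ => 87
  | ⟨107, _⟩ => 94
  | ⟨108, _⟩ => 129
  | ⟨109, _⟩ => 89
  | ⟨110, _⟩ => 130
  | ⟨111, _⟩ => 131
  | ⟨112, _⟩ => 133
  | ⟨113, _⟩ => 92
  | ⟨114, _⟩ => 136
  | ⟨115, _⟩ => 95
  | ⟨116, _⟩ => 139
  | ⟨117, _⟩ => 96
  | ⟨118, _⟩ => 103
  | ⟨119, _⟩ => 141
  | ⟨120, _⟩ => 98
  | ⟨121, _⟩ => 142
  | ⟨122, _⟩ => 143
  | ⟨123, _⟩ => 145
  | ⟨124, _⟩ => 101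
  | ⟨125, _⟩ => 148
  | ⟨126, _⟩ => 150
  | ⟨127, _⟩ => 105
  | ⟨128, _⟩ => 152
  | ⟨129, _⟩ => 108
  | ⟨130, _⟩ => 110
  | ⟨131, _⟩ => 111
  | ⟨132, _⟩ => 151
  | ⟨133, _⟩ => 112
  | ⟨134, _⟩ => 157
  | ⟨135, _⟩ => 158
  | ⟨136, _⟩ => 114
  | ⟨137, _⟩ => 159
  | ⟨138, _⟩ => 153
  | ⟨139, _⟩ => 116
  | ⟨140, _⟩ => 156
  | ⟨141, _⟩ => 119
  | ⟨142, _⟩ => 121
  | ⟨143, _⟩ => 122
  | ⟨144, _⟩ => 160
  | ⟨145, _⟩ => 123
  | ⟨146, _⟩ => 163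
  | ⟨147, _⟩ => 164
  | ⟨148, _⟩ => 125
  | ⟨149, _⟩ => 165
  | ⟨150, _⟩ => 126
  | ⟨151, _⟩ => 132
  | ⟨152, _⟩ => 128
  | ⟨153, _⟩ => 138
  | ⟨154, _⟩ => 161
  | ⟨155, _⟩ => 166
  | ⟨156, _⟩ => 140
  | ⟨157, _⟩ => 134
  | ⟨158, _⟩ => 135
  | ⟨159, _⟩ => 137
  | ⟨160, _⟩ => 144
  | ⟨161, _⟩ => 154
  | ⟨162, _⟩ => 167
  | ⟨163, _⟩ => 146
  | ⟨164, _⟩ => 147
  | ⟨165, _⟩ => 149
  | ⟨166, _⟩ => 155
  | ⟨167, _⟩ => 162
  | ⟨n+168, h⟩ => absurd h (by omega)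
def px_x : Fin 168 → Fin 168
  | ⟨0, _⟩ => 1
  | ⟨1, _⟩ => 0
  | ⟨2, _⟩ => 4
  | ⟨3, _⟩ => 6
  | ⟨4, _⟩ => 2
  | ⟨5, _⟩ => 9
  | ⟨6, _⟩ => 3
  | ⟨7, _⟩ => 11
  | ⟨8, _⟩ => 12
  | ⟨9, _⟩ => 5
  | ⟨10, _⟩ => 15
  | ⟨11, _⟩ => 7
  | ⟨12, _⟩ => 8
  | ⟨13, _⟩ => 19
  | ⟨14, _⟩ => 20
  | ⟨15, _⟩ => 10
  | ⟨16, _⟩ => 23
  | ⟨17, _⟩ => 24
  | ⟨18, _⟩ => 26
  | ⟨19, _⟩ => 13
  | ⟨20, _⟩ => 14
  | ⟨21, _⟩ => 30
  | ⟨22, _⟩ => 31
  | ⟨23, _⟩ => 16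
  | ⟨24, _⟩ => 17
  | ⟨25, _⟩ => 35
  | ⟨26, _⟩ => 18
  | ⟨27, _⟩ => 37
  | ⟨28, _⟩ => 38
  | ⟨29, _⟩ => 40
  | ⟨30, _⟩ => 21
  | ⟨31, _⟩ => 22
  | ⟨32, _⟩ => 44
  | ⟨33, _⟩ => 45
  | ⟨34, _⟩ => 47
  | ⟨35, _⟩ => 25
  | ⟨36, _⟩ => 50
  | ⟨37, _⟩ => 27
  | ⟨38, _⟩ => 28
  | ⟨39, _⟩ => 54
  | ⟨40, _⟩ => 29
  | ⟨41, _⟩ => 56
  | ⟨42, _⟩ => 57
  | ⟨43, _⟩ => 58
  | ⟨44, _⟩ => 32
  | ⟨45, _⟩ => 33
  | ⟨46, _⟩ => 62
  | ⟨47, _⟩ => 34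
  | ⟨48, _⟩ => 64
  | ⟨49, _⟩ => 65
  | ⟨50, _⟩ => 36
  | ⟨51, _⟩ => 66
  | ⟨52, _⟩ => 67
  | ⟨53, _⟩ => 69
  | ⟨54, _⟩ => 39
  | ⟨55, _⟩ => 72
  | ⟨56, _⟩ => 41
  | ⟨57, _⟩ => 42
  | ⟨58, _⟩ => 43
  | ⟨59, _⟩ => 76
  | ⟨60, _⟩ => 77
  | ⟨61, _⟩ => 79
  | ⟨62, _⟩ => 46
  | ⟨63, _⟩ => 82
  | ⟨64, _⟩ => 48
  | ⟨65, _⟩ => 49
  | ⟨66, _⟩ => 51
  | ⟨67, _⟩ => 52
  | ⟨68, _⟩ => 88
  | ⟨69, _⟩ => 53
  | ⟨70, _⟩ => 80
  | ⟨71, _⟩ => 90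
  | ⟨72, _⟩ => 55
  | ⟨73, _⟩ => 91
  | ⟨74, _⟩ => 84
  | ⟨75, _⟩ => 93
  | ⟨76, _⟩ => 59
  | ⟨77, _⟩ => 60
  | ⟨78, _⟩ => 97
  | ⟨79, _⟩ => 61
  | ⟨80, _⟩ => 70
  | ⟨81, _⟩ => 99
  | ⟨82, _⟩ => 63
  | ⟨83, _⟩ => 100
  | ⟨84, _⟩ => 74
  | ⟨85, _⟩ => 102
  | ⟨86, _⟩ => 104
  | ⟨87, _⟩ => 106
  | ⟨88, _⟩ => 68
  | ⟨89, _⟩ => 109
  | ⟨90, _⟩ => 71
  | ⟨91, _⟩ => 73
  | ⟨92, _⟩ => 113
  | ⟨93, _⟩ => 75
  | ⟨94, _⟩ => 107
  | ⟨95, _⟩ => 115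
  | ⟨96, _⟩ => 117
  | ⟨97, _⟩ => 78
  | ⟨98, _⟩ => 120
  | ⟨99, _⟩ => 81
  | ⟨100, _⟩ => 83
  | ⟨101, _⟩ => 124
  | ⟨102, _⟩ => 85
  | ⟨103, _⟩ => 118
  | ⟨104, _⟩ => 86
  | ⟨105, _⟩ => 127
  | ⟨106, _⟩ => 87
  | ⟨107, _⟩ => 94
  | ⟨108, _⟩ => 129
  | ⟨109, _⟩ => 89
  | ⟨110, _⟩ => 130
  | ⟨111, _⟩ => 131
  | ⟨112, _⟩ => 133
  | ⟨113, _⟩ => 92
  | ⟨114, _⟩ => 136
  | ⟨115, _⟩ => 95
  | ⟨116, _⟩ => 139
  | ⟨117, _⟩ => 96
  | ⟨118, _⟩ => 103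
  | ⟨119, _⟩ => 141
  | ⟨120, _⟩ => 98
  | ⟨121, _⟩ => 142
  | ⟨122, _⟩ => 143
  | ⟨123, _⟩ => 145
  | ⟨124, _⟩ => 101
  | ⟨125, _⟩ => 148
  | ⟨126, _⟩ => 150
  | ⟨127, _⟩ => 105
  | ⟨128, _⟩ => 152
  | ⟨129, _⟩ => 108
  | ⟨130, _⟩ => 110
  | ⟨131, _⟩ => 111
  | ⟨132, _⟩ => 151
  | ⟨133, _⟩ => 112
  | ⟨134, _⟩ => 157
  | ⟨135, _⟩ => 158
  | ⟨136, _⟩ => 114
  | ⟨137, _⟩ => 159
  | ⟨138, _⟩ => 153
  | ⟨139, _⟩ => 116
  | ⟨140, _⟩ => 156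
  | ⟨141, _⟩ => 119
  | ⟨142, _⟩ => 121
  | ⟨143, _⟩ => 122
  | ⟨144, _⟩ => 160
  | ⟨145, _⟩ => 123
  | ⟨146, _⟩ => 163
  | ⟨147, _⟩ => 164
  | ⟨148, _⟩ => 125
  | ⟨149, _⟩ => 165
  | ⟨150, _⟩ => 126
  | ⟨151, _⟩ => 132
  | ⟨152, _⟩ => 128
  | ⟨153, _⟩ => 138
  | ⟨154, _⟩ => 161
  | ⟨155, _⟩ => 166
  | ⟨156, _⟩ => 140
  | ⟨157, _⟩ => 134
  | ⟨158, _⟩ => 135
  | ⟨159, _⟩ => 137
  | ⟨160, _⟩ => 144
  | ⟨161, _⟩ => 154
  | ⟨162, _⟩ => 167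
  | ⟨163, _⟩ => 146
  | ⟨164, _⟩ => 147
  | ⟨165, _⟩ => 149
  | ⟨166, _⟩ => 155
  | ⟨167, _⟩ => 162
  | ⟨n+168, h⟩ => absurd h (by omega)
theorem closed_x : ∀ i : Fin 168, rep i * x = rep (nx_x i)
  | ⟨0, _⟩ => e_0_x
  | ⟨1, _⟩ => e_1_x
  | ⟨2, _⟩ => e_2_x
  | ⟨3, _⟩ => e_3_x
  | ⟨4, _⟩ => e_4_x
  | ⟨5, _⟩ => e_5_x
  | ⟨6, _⟩ => e_6_x
  | ⟨7, _⟩ => e_7_x
  | ⟨8, _⟩ => e_8_x
  | ⟨9, _⟩ => e_9_x
  | ⟨10, _⟩ => e_10_x
  | ⟨11, _⟩ => e_11_x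
  | ⟨12, _⟩ => e_12_x
  | ⟨13, _⟩ => e_13_x
  | ⟨14, _⟩ => e_14_x
  | ⟨15, _⟩ => e_15_x
  | ⟨16, _⟩ => e_16_x
  | ⟨17, _⟩ => e_17_x
  | ⟨18, _⟩ => e_18_x
  | ⟨19, _⟩ => e_19_x
  | ⟨20, _⟩ => e_20_x
  | ⟨21, _⟩ => e_21_x
  | ⟨22, _⟩ => e_22_x
  | ⟨23, _⟩ => e_23_x
  | ⟨24, _⟩ => e_24_x
  | ⟨25, _⟩ => e_25_x
  | ⟨26, _⟩ => e_26_x
  | ⟨27, _⟩ => e_27_x
  | ⟨28, _⟩ => e_28_x
  | ⟨29, _⟩ => e_29_x
  | ⟨30, _⟩ => e_30_x
  | ⟨31, _⟩ => e_31_x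
  | ⟨32, _⟩ => e_32_x
  | ⟨33, _⟩ => e_33_x
  | ⟨34, _⟩ => e_34_x
  | ⟨35, _⟩ => e_35_x
  | ⟨36, _⟩ => e_36_x
  | ⟨37, _⟩ => e_37_x
  | ⟨38, _⟩ => e_38_x
  | ⟨39, _⟩ => e_39_x
  | ⟨40, _⟩ => e_40_x
  | ⟨41, _⟩ => e_41_x
  | ⟨42, _⟩ => e_42_x
  | ⟨43, _⟩ => e_43_x
  | ⟨44, _⟩ => e_44_x
  | ⟨45, _⟩ => e_45_x
  | ⟨46, _⟩ => e_46_x
  | ⟨47, _⟩ => e_47_x
  | ⟨48, _⟩ => e_48_x
  | ⟨49, _⟩ => e_49_x
  | ⟨50, _⟩ => e_50_x
  | ⟨51, _⟩ => e_51_x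
  | ⟨52, _⟩ => e_52_x
  | ⟨53, _⟩ => e_53_x
  | ⟨54, _⟩ => e_54_x
  | ⟨55, _⟩ => e_55_x
  | ⟨56, _⟩ => e_56_x
  | ⟨57, _⟩ => e_57_x
  | ⟨58, _⟩ => e_58_x
  | ⟨59, _⟩ => e_59_x
  | ⟨60, _⟩ => e_60_x
  | ⟨61, _⟩ => e_61_x
  | ⟨62, _⟩ => e_62_x
  | ⟨63, _⟩ => e_63_x
  | ⟨64, _⟩ => e_64_x
  | ⟨65, _⟩ => e_65_x
  | ⟨66, _⟩ => e_66_x
  | ⟨67, _⟩ => e_67_x
  | ⟨68, _⟩ => e_68_x
  | ⟨69, _⟩ => e_69_x
  | ⟨70, _⟩ => e_70_x
  | ⟨71, _⟩ => e_71_x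
  | ⟨72, _⟩ => e_72_x
  | ⟨73, _⟩ => e_73_x
  | ⟨74, _⟩ => e_74_x
  | ⟨75, _⟩ => e_75_x
  | ⟨76, _⟩ => e_76_x
  | ⟨77, _⟩ => e_77_x
  | ⟨78, _⟩ => e_78_x
  | ⟨79, _⟩ => e_79_x
  | ⟨80, _⟩ => e_80_x
  | ⟨81, _⟩ => e_81_x
  | ⟨82, _⟩ => e_82_x
  | ⟨83, _⟩ => e_83_x
  | ⟨84, _⟩ => e_84_x
  | ⟨85, _⟩ => e_85_x
  | ⟨86, _⟩ => e_86_x
  | ⟨87, _⟩ => e_87_x
  | ⟨88, _⟩ => e_88_x
  | ⟨89, _⟩ => e_89_x
  | ⟨90, _⟩ => e_90_x
  | ⟨91, _⟩ => e_91_x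
  | ⟨92, _⟩ => e_92_x
  | ⟨93, _⟩ => e_93_x
  | ⟨94, _⟩ => e_94_x
  | ⟨95, _⟩ => e_95_x
  | ⟨96, _⟩ => e_96_x
  | ⟨97, _⟩ => e_97_x
  | ⟨98, _⟩ => e_98_x
  | ⟨99, _⟩ => e_99_x
  | ⟨100, _⟩ => e_100_x
  | ⟨101, _⟩ => e_101_x
  | ⟨102, _⟩ => e_102_x
  | ⟨103, _⟩ => e_103_x
  | ⟨104, _⟩ => e_104_x
  | ⟨105, _⟩ => e_105_x
  | ⟨106, _⟩ => e_106_x
  | ⟨107, _⟩ => e_107_x
  | ⟨108, _⟩ => e_108_x
  | ⟨109, _⟩ => e_109_x
  | ⟨110, _⟩ => e_110_x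
  | ⟨111, _⟩ => e_111_x
  | ⟨112, _⟩ => e_112_x
  | ⟨113, _⟩ => e_113_x
  | ⟨114, _⟩ => e_114_x
  | ⟨115, _⟩ => e_115_x
  | ⟨116, _⟩ => e_116_x
  | ⟨117, _⟩ => e_117_x
  | ⟨118, _⟩ => e_118_x
  | ⟨119, _⟩ => e_119_x
  | ⟨120, _⟩ => e_120_x
  | ⟨121, _⟩ => e_121_x
  | ⟨122, _⟩ => e_122_x
  | ⟨123, _⟩ => e_123_x
  | ⟨124, _⟩ => e_124_x
  | ⟨125, _⟩ => e_125_x
  | ⟨126, _⟩ => e_126_x
  | ⟨127, _⟩ => e_127_x
  | ⟨128, _⟩ => e_128_x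
  | ⟨129, _⟩ => e_129_x
  | ⟨130, _⟩ => e_130_x
  | ⟨131, _⟩ => e_131_x
  | ⟨132, _⟩ => e_132_x
  | ⟨133, _⟩ => e_133_x
  | ⟨134, _⟩ => e_134_x
  | ⟨135, _⟩ => e_135_x
  | ⟨136, _⟩ => e_136_x
  | ⟨137, _⟩ => e_137_x
  | ⟨138, _⟩ => e_138_x
  | ⟨139, _⟩ => e_139_x
  | ⟨140, _⟩ => e_140_x
  | ⟨141, _⟩ => e_141_x
  | ⟨142, _⟩ => e_142_x
  | ⟨143, _⟩ => e_143_x
  | ⟨144, _⟩ => e_144_x
  | ⟨145, _⟩ => e_145_x
  | ⟨146, _⟩ => e_146_x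
  | ⟨147, _⟩ => e_147_x
  | ⟨148, _⟩ => e_148_x
  | ⟨149, _⟩ => e_149_x
  | ⟨150, _⟩ => e_150_x
  | ⟨151, _⟩ => e_151_x
  | ⟨152, _⟩ => e_152_x
  | ⟨153, _⟩ => e_153_x
  | ⟨154, _⟩ => e_154_x
  | ⟨155, _⟩ => e_155_x
  | ⟨156, _⟩ => e_156_x
  | ⟨157, _⟩ => e_157_x
  | ⟨158, _⟩ => e_158_x
  | ⟨159, _⟩ => e_159_x
  | ⟨160, _⟩ => e_160_x
  | ⟨161, _⟩ => e_161_x
  | ⟨162, _⟩ => e_162_x
  | ⟨163, _⟩ => e_163_x
  | ⟨164, _⟩ => e_164_x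
  | ⟨165, _⟩ => e_165_x
  | ⟨166, _⟩ => e_166_x
  | ⟨167, _⟩ => e_167_x
  | ⟨n+168, h⟩ => absurd h (by omega)
theorem pre_x : ∀ i : Fin 168, rep (px_x i) * x = rep i
  | ⟨0, _⟩ => e_1_x
  | ⟨1, _⟩ => e_0_x
  | ⟨2, _⟩ => e_4_x
  | ⟨3, _⟩ => e_6_x
  | ⟨4, _⟩ => e_2_x
  | ⟨5, _⟩ => e_9_x
  | ⟨6, _⟩ => e_3_x
  | ⟨7, _⟩ => e_11_x
  | ⟨8, _⟩ => e_12_x
  | ⟨9, _⟩ => e_5_x
  | ⟨10, _⟩ => e_15_x
  | ⟨11, _⟩ => e_7_x
  | ⟨12, _⟩ => e_8_x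
  | ⟨13, _⟩ => e_19_x
  | ⟨14, _⟩ => e_20_x
  | ⟨15, _⟩ => e_10_x
  | ⟨16, _⟩ => e_23_x
  | ⟨17, _⟩ => e_24_x
  | ⟨18, _⟩ => e_26_x
  | ⟨19, _⟩ => e_13_x
  | ⟨20, _⟩ => e_14_x
  | ⟨21, _⟩ => e_30_x
  | ⟨22, _⟩ => e_31_x
  | ⟨23, _⟩ => e_16_x
  | ⟨24, _⟩ => e_17_x
  | ⟨25, _⟩ => e_35_x
  | ⟨26, _⟩ => e_18_x
  | ⟨27, _⟩ => e_37_x
  | ⟨28, _⟩ => e_38_x
  | ⟨29, _⟩ => e_40_x
  | ⟨30, _⟩ => e_21_x
  | ⟨31, _⟩ => e_22_x
  | ⟨32, _⟩ => e_44_x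
  | ⟨33, _⟩ => e_45_x
  | ⟨34, _⟩ => e_47_x
  | ⟨35, _⟩ => e_25_x
  | ⟨36, _⟩ => e_50_x
  | ⟨37, _⟩ => e_27_x
  | ⟨38, _⟩ => e_28_x
  | ⟨39, _⟩ => e_54_x
  | ⟨40, _⟩ => e_29_x
  | ⟨41, _⟩ => e_56_x
  | ⟨42, _⟩ => e_57_x
  | ⟨43, _⟩ => e_58_x
  | ⟨44, _⟩ => e_32_x
  | ⟨45, _⟩ => e_33_x
  | ⟨46, _⟩ => e_62_x
  | ⟨47, _⟩ => e_34_x
  | ⟨48, _⟩ => e_64_x
  | ⟨49, _⟩ => e_65_x
  | ⟨50, _⟩ => e_36_x
  | ⟨51, _⟩ => e_66_x
  | ⟨52, _⟩ => e_67_x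
  | ⟨53, _⟩ => e_69_x
  | ⟨54, _⟩ => e_39_x
  | ⟨55, _⟩ => e_72_x
  | ⟨56, _⟩ => e_41_x
  | ⟨57, _⟩ => e_42_x
  | ⟨58, _⟩ => e_43_x
  | ⟨59, _⟩ => e_76_x
  | ⟨60, _⟩ => e_77_x
  | ⟨61, _⟩ => e_79_x
  | ⟨62, _⟩ => e_46_x
  | ⟨63, _⟩ => e_82_x
  | ⟨64, _⟩ => e_48_x
  | ⟨65, _⟩ => e_49_x
  | ⟨66, _⟩ => e_51_x
  | ⟨67, _⟩ => e_52_x
  | ⟨68, _⟩ => e_88_x
  | ⟨69, _⟩ => e_53_x
  | ⟨70, _⟩ => e_80_x
  | ⟨71, _⟩ => e_90_x
  | ⟨72, _⟩ => e_55_x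
  | ⟨73, _⟩ => e_91_x
  | ⟨74, _⟩ => e_84_x
  | ⟨75, _⟩ => e_93_x
  | ⟨76, _⟩ => e_59_x
  | ⟨77, _⟩ => e_60_x
  | ⟨78, _⟩ => e_97_x
  | ⟨79, _⟩ => e_61_x
  | ⟨80, _⟩ => e_70_x
  | ⟨81, _⟩ => e_99_x
  | ⟨82, _⟩ => e_63_x
  | ⟨83, _⟩ => e_100_x
  | ⟨84, _⟩ => e_74_x
  | ⟨85, _⟩ => e_102_x
  | ⟨86, _⟩ => e_104_x
  | ⟨87, _⟩ => e_106_x
  | ⟨88, _⟩ => e_68_x
  | ⟨89, _⟩ => e_109_x
  | ⟨90, _⟩ => e_71_x
  | ⟨91, _⟩ => e_73_x
  | ⟨92, _⟩ => e_113_x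
  | ⟨93, _⟩ => e_75_x
  | ⟨94, _⟩ => e_107_x
  | ⟨95, _⟩ => e_115_x
  | ⟨96, _⟩ => e_117_x
  | ⟨97, _⟩ => e_78_x
  | ⟨98, _⟩ => e_120_x
  | ⟨99, _⟩ => e_81_x
  | ⟨100, _⟩ => e_83_x
  | ⟨101, _⟩ => e_124_x
  | ⟨102, _⟩ => e_85_x
  | ⟨103, _⟩ => e_118_x
  | ⟨104, _⟩ => e_86_x
  | ⟨105, _⟩ => e_127_x
  | ⟨106, _⟩ => e_87_x
  | ⟨107, _⟩ => e_94_x
  | ⟨108, _⟩ => e_129_x
  | ⟨109, _⟩ => e_89_x
  | ⟨110, _⟩ => e_130_x
  | ⟨111, _⟩ => e_131_x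
  | ⟨112, _⟩ => e_133_x
  | ⟨113, _⟩ => e_92_x
  | ⟨114, _⟩ => e_136_x
  | ⟨115, _⟩ => e_95_x
  | ⟨116, _⟩ => e_139_x
  | ⟨117, _⟩ => e_96_x
  | ⟨118, _⟩ => e_103_x
  | ⟨119, _⟩ => e_141_x
  | ⟨120, _⟩ => e_98_x
  | ⟨121, _⟩ => e_142_x
  | ⟨122, _⟩ => e_143_x
  | ⟨123, _⟩ => e_145_x
  | ⟨124, _⟩ => e_101_x
  | ⟨125, _⟩ => e_148_x
  | ⟨126, _⟩ => e_150_x
  | ⟨127, _⟩ => e_105_x
  | ⟨128, _⟩ => e_152_x
  | ⟨129, _⟩ => e_108_x
  | ⟨130, _⟩ => e_110_x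
  | ⟨131, _⟩ => e_111_x
  | ⟨132, _⟩ => e_151_x
  | ⟨133, _⟩ => e_112_x
  | ⟨134, _⟩ => e_157_x
  | ⟨135, _⟩ => e_158_x
  | ⟨136, _⟩ => e_114_x
  | ⟨137, _⟩ => e_159_x
  | ⟨138, _⟩ => e_153_x
  | ⟨139, _⟩ => e_116_x
  | ⟨140, _⟩ => e_156_x
  | ⟨141, _⟩ => e_119_x
  | ⟨142, _⟩ => e_121_x
  | ⟨143, _⟩ => e_122_x
  | ⟨144, _⟩ => e_160_x
  | ⟨145, _⟩ => e_123_x
  | ⟨146, _⟩ => e_163_x
  | ⟨147, _⟩ => e_164_x
  | ⟨148, _⟩ => e_125_x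
  | ⟨149, _⟩ => e_165_x
  | ⟨150, _⟩ => e_126_x
  | ⟨151, _⟩ => e_132_x
  | ⟨152, _⟩ => e_128_x
  | ⟨153, _⟩ => e_138_x
  | ⟨154, _⟩ => e_161_x
  | ⟨155, _⟩ => e_166_x
  | ⟨156, _⟩ => e_140_x
  | ⟨157, _⟩ => e_134_x
  | ⟨158, _⟩ => e_135_x
  | ⟨159, _⟩ => e_137_x
  | ⟨160, _⟩ => e_144_x
  | ⟨161, _⟩ => e_154_x
  | ⟨162, _⟩ => e_167_x
  | ⟨163, _⟩ => e_146_x
  | ⟨164, _⟩ => e_147_x
  | ⟨165, _⟩ => e_149_x
  | ⟨166, _⟩ => e_155_x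
  | ⟨167, _⟩ => e_162_x
  | ⟨n+168, h⟩ => absurd h (by omega)
def nx_y : Fin 168 → Fin 168
  | ⟨0, _⟩ => 2
  | ⟨1, _⟩ => 3
  | ⟨2, _⟩ => 5
  | ⟨3, _⟩ => 7
  | ⟨4, _⟩ => 8
  | ⟨5, _⟩ => 0
  | ⟨6, _⟩ => 10
  | ⟨7, _⟩ => 1
  | ⟨8, _⟩ => 13
  | ⟨9, _⟩ => 14
  | ⟨10, _⟩ => 16
  | ⟨11, _⟩ => 17
  | ⟨12, _⟩ => 18
  | ⟨13, _⟩ => 4
  | ⟨14, _⟩ => 21
  | ⟨15, _⟩ => 22
  | ⟨16, _⟩ => 6
  | ⟨17, _⟩ => 25
  | ⟨18, _⟩ => 27
  | ⟨19, _⟩ => 28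
  | ⟨20, _⟩ => 29
  | ⟨21, _⟩ => 9
  | ⟨22, _⟩ => 32
  | ⟨23, _⟩ => 33
  | ⟨24, _⟩ => 34
  | ⟨25, _⟩ => 11
  | ⟨26, _⟩ => 36
  | ⟨27, _⟩ => 12
  | ⟨28, _⟩ => 39
  | ⟨29, _⟩ => 41
  | ⟨30, _⟩ => 42
  | ⟨31, _⟩ => 43
  | ⟨32, _⟩ => 15
  | ⟨33, _⟩ => 46
  | ⟨34, _⟩ => 48
  | ⟨35, _⟩ => 49
  | ⟨36, _⟩ => 51
  | ⟨37, _⟩ => 52
  | ⟨38, _⟩ => 53
  | ⟨39, _⟩ => 19
  | ⟨40, _⟩ => 55
  | ⟨41, _⟩ => 20
  | ⟨42, _⟩ => 58
  | ⟨43, _⟩ => 59
  | ⟨44, _⟩ => 60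
  | ⟨45, _⟩ => 61
  | ⟨46, _⟩ => 23
  | ⟨47, _⟩ => 63
  | ⟨48, _⟩ => 24
  | ⟨49, _⟩ => 50
  | ⟨50, _⟩ => 35
  | ⟨51, _⟩ => 26
  | ⟨52, _⟩ => 68
  | ⟨53, _⟩ => 70
  | ⟨54, _⟩ => 71
  | ⟨55, _⟩ => 73
  | ⟨56, _⟩ => 74
  | ⟨57, _⟩ => 75
  | ⟨58, _⟩ => 30
  | ⟨59, _⟩ => 31
  | ⟨60, _⟩ => 78
  | ⟨61, _⟩ => 80
  | ⟨62, _⟩ => 81
  | ⟨63, _⟩ => 83
  | ⟨64, _⟩ => 84
  | ⟨65, _⟩ => 85
  | ⟨66, _⟩ => 86
  | ⟨67, _⟩ => 87
  | ⟨68, _⟩ => 37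
  | ⟨69, _⟩ => 89
  | ⟨70, _⟩ => 38
  | ⟨71, _⟩ => 72
  | ⟨72, _⟩ => 54
  | ⟨73, _⟩ => 40
  | ⟨74, _⟩ => 92
  | ⟨75, _⟩ => 94
  | ⟨76, _⟩ => 95
  | ⟨77, _⟩ => 96
  | ⟨78, _⟩ => 44
  | ⟨79, _⟩ => 98
  | ⟨80, _⟩ => 45
  | ⟨81, _⟩ => 82
  | ⟨82, _⟩ => 62
  | ⟨83, _⟩ => 47
  | ⟨84, _⟩ => 101
  | ⟨85, _⟩ => 103
  | ⟨86, _⟩ => 105
  | ⟨87, _⟩ => 107
  | ⟨88, _⟩ => 108
  | ⟨89, _⟩ => 110
  | ⟨90, _⟩ => 111
  | ⟨91, _⟩ => 112
  | ⟨92, _⟩ => 56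
  | ⟨93, _⟩ => 114
  | ⟨94, _⟩ => 57
  | ⟨95, _⟩ => 116
  | ⟨96, _⟩ => 118
  | ⟨97, _⟩ => 119
  | ⟨98, _⟩ => 121
  | ⟨99, _⟩ => 122
  | ⟨100, _⟩ => 123
  | ⟨101, _⟩ => 64
  | ⟨102, _⟩ => 125
  | ⟨103, _⟩ => 65
  | ⟨104, _⟩ => 126
  | ⟨105, _⟩ => 66
  | ⟨106, _⟩ => 128
  | ⟨107, _⟩ => 67
  | ⟨108, _⟩ => 109
  | ⟨109, _⟩ => 88
  | ⟨110, _⟩ => 69
  | ⟨111, _⟩ => 132
  | ⟨112, _⟩ => 134
  | ⟨113, _⟩ => 135
  | ⟨114, _⟩ => 137
  | ⟨115, _⟩ => 138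
  | ⟨116, _⟩ => 76
  | ⟨117, _⟩ => 140
  | ⟨118, _⟩ => 77
  | ⟨119, _⟩ => 120
  | ⟨120, _⟩ => 97
  | ⟨121, _⟩ => 79
  | ⟨122, _⟩ => 144
  | ⟨123, _⟩ => 146
  | ⟨124, _⟩ => 147
  | ⟨125, _⟩ => 149
  | ⟨126, _⟩ => 151
  | ⟨127, _⟩ => 145
  | ⟨128, _⟩ => 153
  | ⟨129, _⟩ => 154
  | ⟨130, _⟩ => 155
  | ⟨131, _⟩ => 142
  | ⟨132, _⟩ => 90
  | ⟨133, _⟩ => 156
  | ⟨134, _⟩ => 91
  | ⟨135, _⟩ => 136
  | ⟨136, _⟩ => 113
  | ⟨137, _⟩ => 93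
  | ⟨138, _⟩ => 160
  | ⟨139, _⟩ => 133
  | ⟨140, _⟩ => 150
  | ⟨141, _⟩ => 161
  | ⟨142, _⟩ => 162
  | ⟨143, _⟩ => 130
  | ⟨144, _⟩ => 99
  | ⟨145, _⟩ => 152
  | ⟨146, _⟩ => 100
  | ⟨147, _⟩ => 148
  | ⟨148, _⟩ => 124
  | ⟨149, _⟩ => 102
  | ⟨150, _⟩ => 117
  | ⟨151, _⟩ => 104
  | ⟨152, _⟩ => 127
  | ⟨153, _⟩ => 106
  | ⟨154, _⟩ => 165
  | ⟨155, _⟩ => 143
  | ⟨156, _⟩ => 139
  | ⟨157, _⟩ => 166
  | ⟨158, _⟩ => 163
  | ⟨159, _⟩ => 141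
  | ⟨160, _⟩ => 115
  | ⟨161, _⟩ => 159
  | ⟨162, _⟩ => 131
  | ⟨163, _⟩ => 167
  | ⟨164, _⟩ => 157
  | ⟨165, _⟩ => 129
  | ⟨166, _⟩ => 164
  | ⟨167, _⟩ => 158
  | ⟨n+168, h⟩ => absurd h (by omega)
def px_y : Fin 168 → Fin 168
  | ⟨0, _⟩ => 5
  | ⟨1, _⟩ => 7
  | ⟨2, _⟩ => 0
  | ⟨3, _⟩ => 1
  | ⟨4, _⟩ => 13
  | ⟨5, _⟩ => 2
  | ⟨6, _⟩ => 16
  | ⟨7, _⟩ => 3
  | ⟨8, _⟩ => 4
  | ⟨9, _⟩ => 21
  | ⟨10, _⟩ => 6
  | ⟨11, _⟩ => 25
  | ⟨12, _⟩ => 27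
  | ⟨13, _⟩ => 8
  | ⟨14, _⟩ => 9
  | ⟨15, _⟩ => 32
  | ⟨16, _⟩ => 10
  | ⟨17, _⟩ => 11
  | ⟨18, _⟩ => 12
  | ⟨19, _⟩ => 39
  | ⟨20, _⟩ => 41
  | ⟨21, _⟩ => 14
  | ⟨22, _⟩ => 15
  | ⟨23, _⟩ => 46
  | ⟨24, _⟩ => 48
  | ⟨25, _⟩ => 17
  | ⟨26, _⟩ => 51
  | ⟨27, _⟩ => 18
  | ⟨28, _⟩ => 19
  | ⟨29, _⟩ => 20
  | ⟨30, _⟩ => 58
  | ⟨31, _⟩ => 59
  | ⟨32, _⟩ => 22
  | ⟨33, _⟩ => 23
  | ⟨34, _⟩ => 24
  | ⟨35, _⟩ => 50
  | ⟨36, _⟩ => 26
  | ⟨37, _⟩ => 68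
  | ⟨38, _⟩ => 70
  | ⟨39, _⟩ => 28
  | ⟨40, _⟩ => 73
  | ⟨41, _⟩ => 29
  | ⟨42, _⟩ => 30
  | ⟨43, _⟩ => 31
  | ⟨44, _⟩ => 78
  | ⟨45, _⟩ => 80
  | ⟨46, _⟩ => 33
  | ⟨47, _⟩ => 83
  | ⟨48, _⟩ => 34
  | ⟨49, _⟩ => 35
  | ⟨50, _⟩ => 49
  | ⟨51, _⟩ => 36
  | ⟨52, _⟩ => 37
  | ⟨53, _⟩ => 38
  | ⟨54, _⟩ => 72
  | ⟨55, _⟩ => 40
  | ⟨56, _⟩ => 92
  | ⟨57, _⟩ => 94
  | ⟨58, _⟩ => 42
  | ⟨59, _⟩ => 43
  | ⟨60, _⟩ => 44
  | ⟨61, _⟩ => 45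
  | ⟨62, _⟩ => 82
  | ⟨63, _⟩ => 47
  | ⟨64, _⟩ => 101
  | ⟨65, _⟩ => 103
  | ⟨66, _⟩ => 105
  | ⟨67, _⟩ => 107
  | ⟨68, _⟩ => 52
  | ⟨69, _⟩ => 110
  | ⟨70, _⟩ => 53
  | ⟨71, _⟩ => 54
  | ⟨72, _⟩ => 71
  | ⟨73, _⟩ => 55
  | ⟨74, _⟩ => 56
  | ⟨75, _⟩ => 57
  | ⟨76, _⟩ => 116
  | ⟨77, _⟩ => 118
  | ⟨78, _⟩ => 60
  | ⟨79, _⟩ => 121
  | ⟨80, _⟩ => 61
  | ⟨81, _⟩ => 62
  | ⟨82, _⟩ => 81
  | ⟨83, _⟩ => 63
  | ⟨84, _⟩ => 64
  | ⟨85, _⟩ => 65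
  | ⟨86, _⟩ => 66
  | ⟨87, _⟩ => 67
  | ⟨88, _⟩ => 109
  | ⟨89, _⟩ => 69
  | ⟨90, _⟩ => 132
  | ⟨91, _⟩ => 134
  | ⟨92, _⟩ => 74
  | ⟨93, _⟩ => 137
  | ⟨94, _⟩ => 75
  | ⟨95, _⟩ => 76
  | ⟨96, _⟩ => 77
  | ⟨97, _⟩ => 120
  | ⟨98, _⟩ => 79
  | ⟨99, _⟩ => 144
  | ⟨100, _⟩ => 146
  | ⟨101, _⟩ => 84
  | ⟨102, _⟩ => 149
  | ⟨103, _⟩ => 85
  | ⟨104, _⟩ => 151
  | ⟨105, _⟩ => 86
  | ⟨106, _⟩ => 153
  | ⟨107, _⟩ => 87
  | ⟨108, _⟩ => 88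
  | ⟨109, _⟩ => 108
  | ⟨110, _⟩ => 89
  | ⟨111, _⟩ => 90
  | ⟨112, _⟩ => 91
  | ⟨113, _⟩ => 136
  | ⟨114, _⟩ => 93
  | ⟨115, _⟩ => 160
  | ⟨116, _⟩ => 95
  | ⟨117, _⟩ => 150
  | ⟨118, _⟩ => 96
  | ⟨119, _⟩ => 97
  | ⟨120, _⟩ => 119
  | ⟨121, _⟩ => 98
  | ⟨122, _⟩ => 99
  | ⟨123, _⟩ => 100
  | ⟨124, _⟩ => 148
  | ⟨125, _⟩ => 102
  | ⟨126, _⟩ => 104
  | ⟨127, _⟩ => 152
  | ⟨128, _⟩ => 106
  | ⟨129, _⟩ => 165
  | ⟨130, _⟩ => 143
  | ⟨131, _⟩ => 162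
  | ⟨132, _⟩ => 111
  | ⟨133, _⟩ => 139
  | ⟨134, _⟩ => 112
  | ⟨135, _⟩ => 113
  | ⟨136, _⟩ => 135
  | ⟨137, _⟩ => 114
  | ⟨138, _⟩ => 115
  | ⟨139, _⟩ => 156
  | ⟨140, _⟩ => 117
  | ⟨141, _⟩ => 159
  | ⟨142, _⟩ => 131
  | ⟨143, _⟩ => 155
  | ⟨144, _⟩ => 122
  | ⟨145, _⟩ => 127
  | ⟨146, _⟩ => 123
  | ⟨147, _⟩ => 124
  | ⟨148, _⟩ => 147
  | ⟨149, _⟩ => 125
  | ⟨150, _⟩ => 140
  | ⟨151, _⟩ => 126
  | ⟨152, _⟩ => 145
  | ⟨153, _⟩ => 128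
  | ⟨154, _⟩ => 129
  | ⟨155, _⟩ => 130
  | ⟨156, _⟩ => 133
  | ⟨157, _⟩ => 164
  | ⟨158, _⟩ => 167
  | ⟨159, _⟩ => 161
  | ⟨160, _⟩ => 138
  | ⟨161, _⟩ => 141
  | ⟨162, _⟩ => 142
  | ⟨163, _⟩ => 158
  | ⟨164, _⟩ => 166
  | ⟨165, _⟩ => 154
  | ⟨166, _⟩ => 157
  | ⟨167, _⟩ => 163
  | ⟨n+168, h⟩ => absurd h (by omega)
theorem closed_y : ∀ i : Fin 168, rep i * y = rep (nx_y i)
  | ⟨0, _⟩ => e_0_y
  | ⟨1, _⟩ => e_1_y
  | ⟨2, _⟩ => e_2_y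
  | ⟨3, _⟩ => e_3_y
  | ⟨4, _⟩ => e_4_y
  | ⟨5, _⟩ => e_5_y
  | ⟨6, _⟩ => e_6_y
  | ⟨7, _⟩ => e_7_y
  | ⟨8, _⟩ => e_8_y
  | ⟨9, _⟩ => e_9_y
  | ⟨10, _⟩ => e_10_y
  | ⟨11, _⟩ => e_11_y
  | ⟨12, _⟩ => e_12_y
  | ⟨13, _⟩ => e_13_y
  | ⟨14, _⟩ => e_14_y
  | ⟨15, _⟩ => e_15_y
  | ⟨16, _⟩ => e_16_y
  | ⟨17, _⟩ => e_17_y
  | ⟨18, _⟩ => e_18_y
  | ⟨19, _⟩ => e_19_y
  | ⟨20, _⟩ => e_20_y
  | ⟨21, _⟩ => e_21_y
  | ⟨22, _⟩ => e_22_y
  | ⟨23, _⟩ => e_23_y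
  | ⟨24, _⟩ => e_24_y
  | ⟨25, _⟩ => e_25_y
  | ⟨26, _⟩ => e_26_y
  | ⟨27, _⟩ => e_27_y
  | ⟨28, _⟩ => e_28_y
  | ⟨29, _⟩ => e_29_y
  | ⟨30, _⟩ => e_30_y
  | ⟨31, _⟩ => e_31_y
  | ⟨32, _⟩ => e_32_y
  | ⟨33, _⟩ => e_33_y
  | ⟨34, _⟩ => e_34_y
  | ⟨35, _⟩ => e_35_y
  | ⟨36, _⟩ => e_36_y
  | ⟨37, _⟩ => e_37_y
  | ⟨38, _⟩ => e_38_y
  | ⟨39, _⟩ => e_39_y
  | ⟨40, _⟩ => e_40_y
  | ⟨41, _⟩ => e_41_y
  | ⟨42, _⟩ => e_42_y
  | ⟨43, _⟩ => e_43_y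
  | ⟨44, _⟩ => e_44_y
  | ⟨45, _⟩ => e_45_y
  | ⟨46, _⟩ => e_46_y
  | ⟨47, _⟩ => e_47_y
  | ⟨48, _⟩ => e_48_y
  | ⟨49, _⟩ => e_49_y
  | ⟨50, _⟩ => e_50_y
  | ⟨51, _⟩ => e_51_y
  | ⟨52, _⟩ => e_52_y
  | ⟨53, _⟩ => e_53_y
  | ⟨54, _⟩ => e_54_y
  | ⟨55, _⟩ => e_55_y
  | ⟨56, _⟩ => e_56_y
  | ⟨57, _⟩ => e_57_y
  | ⟨58, _⟩ => e_58_y
  | ⟨59, _⟩ => e_59_y
  | ⟨60, _⟩ => e_60_y
  | ⟨61, _⟩ => e_61_y
  | ⟨62, _⟩ => e_62_y
  | ⟨63, _⟩ => e_63_y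
  | ⟨64, _⟩ => e_64_y
  | ⟨65, _⟩ => e_65_y
  | ⟨66, _⟩ => e_66_y
  | ⟨67, _⟩ => e_67_y
  | ⟨68, _⟩ => e_68_y
  | ⟨69, _⟩ => e_69_y
  | ⟨70, _⟩ => e_70_y
  | ⟨71, _⟩ => e_71_y
  | ⟨72, _⟩ => e_72_y
  | ⟨73, _⟩ => e_73_y
  | ⟨74, _⟩ => e_74_y
  | ⟨75, _⟩ => e_75_y
  | ⟨76, _⟩ => e_76_y
  | ⟨77, _⟩ => e_77_y
  | ⟨78, _⟩ => e_78_y
  | ⟨79, _⟩ => e_79_y
  | ⟨80, _⟩ => e_80_y
  | ⟨81, _⟩ => e_81_y
  | ⟨82, _⟩ => e_82_y
  | ⟨83, _⟩ => e_83_y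
  | ⟨84, _⟩ => e_84_y
  | ⟨85, _⟩ => e_85_y
  | ⟨86, _⟩ => e_86_y
  | ⟨87, _⟩ => e_87_y
  | ⟨88, _⟩ => e_88_y
  | ⟨89, _⟩ => e_89_y
  | ⟨90, _⟩ => e_90_y
  | ⟨91, _⟩ => e_91_y
  | ⟨92, _⟩ => e_92_y
  | ⟨93, _⟩ => e_93_y
  | ⟨94, _⟩ => e_94_y
  | ⟨95, _⟩ => e_95_y
  | ⟨96, _⟩ => e_96_y
  | ⟨97, _⟩ => e_97_y
  | ⟨98, _⟩ => e_98_y
  | ⟨99, _⟩ => e_99_y
  | ⟨100, _⟩ => e_100_y
  | ⟨101, _⟩ => e_101_y
  | ⟨102, _⟩ => e_102_y
  | ⟨103, _⟩ => e_103_y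
  | ⟨104, _⟩ => e_104_y
  | ⟨105, _⟩ => e_105_y
  | ⟨106, _⟩ => e_106_y
  | ⟨107, _⟩ => e_107_y
  | ⟨108, _⟩ => e_108_y
  | ⟨109, _⟩ => e_109_y
  | ⟨110, _⟩ => e_110_y
  | ⟨111, _⟩ => e_111_y
  | ⟨112, _⟩ => e_112_y
  | ⟨113, _⟩ => e_113_y
  | ⟨114, _⟩ => e_114_y
  | ⟨115, _⟩ => e_115_y
  | ⟨116, _⟩ => e_116_y
  | ⟨117, _⟩ => e_117_y
  | ⟨118, _⟩ => e_118_y
  | ⟨119, _⟩ => e_119_y
  | ⟨120, _⟩ => e_120_y
  | ⟨121, _⟩ => e_121_y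
  | ⟨122, _⟩ => e_122_y
  | ⟨123, _⟩ => e_123_y
  | ⟨124, _⟩ => e_124_y
  | ⟨125, _⟩ => e_125_y
  | ⟨126, _⟩ => e_126_y
  | ⟨127, _⟩ => e_127_y
  | ⟨128, _⟩ => e_128_y
  | ⟨129, _⟩ => e_129_y
  | ⟨130, _⟩ => e_130_y
  | ⟨131, _⟩ => e_131_y
  | ⟨132, _⟩ => e_132_y
  | ⟨133, _⟩ => e_133_y
  | ⟨134, _⟩ => e_134_y
  | ⟨135, _⟩ => e_135_y
  | ⟨136, _⟩ => e_136_y
  | ⟨137, _⟩ => e_137_y
  | ⟨138, _⟩ => e_138_y
  | ⟨139, _⟩ => e_139_y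
  | ⟨140, _⟩ => e_140_y
  | ⟨141, _⟩ => e_141_y
  | ⟨142, _⟩ => e_142_y
  | ⟨143, _⟩ => e_143_y
  | ⟨144, _⟩ => e_144_y
  | ⟨145, _⟩ => e_145_y
  | ⟨146, _⟩ => e_146_y
  | ⟨147, _⟩ => e_147_y
  | ⟨148, _⟩ => e_148_y
  | ⟨149, _⟩ => e_149_y
  | ⟨150, _⟩ => e_150_y
  | ⟨151, _⟩ => e_151_y
  | ⟨152, _⟩ => e_152_y
  | ⟨153, _⟩ => e_153_y
  | ⟨154, _⟩ => e_154_y
  | ⟨155, _⟩ => e_155_y
  | ⟨156, _⟩ => e_156_y
  | ⟨157, _⟩ => e_157_y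
  | ⟨158, _⟩ => e_158_y
  | ⟨159, _⟩ => e_159_y
  | ⟨160, _⟩ => e_160_y
  | ⟨161, _⟩ => e_161_y
  | ⟨162, _⟩ => e_162_y
  | ⟨163, _⟩ => e_163_y
  | ⟨164, _⟩ => e_164_y
  | ⟨165, _⟩ => e_165_y
  | ⟨166, _⟩ => e_166_y
  | ⟨167, _⟩ => e_167_y
  | ⟨n+168, h⟩ => absurd h (by omega)
theorem pre_y : ∀ i : Fin 168, rep (px_y i) * y = rep i
  | ⟨0, _⟩ => e_5_y
  | ⟨1, _⟩ => e_7_y
  | ⟨2, _⟩ => e_0_y
  | ⟨3, _⟩ => e_1_y
  | ⟨4, _⟩ => e_13_y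
  | ⟨5, _⟩ => e_2_y
  | ⟨6, _⟩ => e_16_y
  | ⟨7, _⟩ => e_3_y
  | ⟨8, _⟩ => e_4_y
  | ⟨9, _⟩ => e_21_y
  | ⟨10, _⟩ => e_6_y
  | ⟨11, _⟩ => e_25_y
  | ⟨12, _⟩ => e_27_y
  | ⟨13, _⟩ => e_8_y
  | ⟨14, _⟩ => e_9_y
  | ⟨15, _⟩ => e_32_y
  | ⟨16, _⟩ => e_10_y
  | ⟨17, _⟩ => e_11_y
  | ⟨18, _⟩ => e_12_y
  | ⟨19, _⟩ => e_39_y
  | ⟨20, _⟩ => e_41_y
  | ⟨21, _⟩ => e_14_y
  | ⟨22, _⟩ => e_15_y
  | ⟨23, _⟩ => e_46_y
  | ⟨24, _⟩ => e_48_y
  | ⟨25, _⟩ => e_17_y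
  | ⟨26, _⟩ => e_51_y
  | ⟨27, _⟩ => e_18_y
  | ⟨28, _⟩ => e_19_y
  | ⟨29, _⟩ => e_20_y
  | ⟨30, _⟩ => e_58_y
  | ⟨31, _⟩ => e_59_y
  | ⟨32, _⟩ => e_22_y
  | ⟨33, _⟩ => e_23_y
  | ⟨34, _⟩ => e_24_y
  | ⟨35, _⟩ => e_50_y
  | ⟨36, _⟩ => e_26_y
  | ⟨37, _⟩ => e_68_y
  | ⟨38, _⟩ => e_70_y
  | ⟨39, _⟩ => e_28_y
  | ⟨40, _⟩ => e_73_y
  | ⟨41, _⟩ => e_29_y
  | ⟨42, _⟩ => e_30_y
  | ⟨43, _⟩ => e_31_y
  | ⟨44, _⟩ => e_78_y
  | ⟨45, _⟩ => e_80_y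
  | ⟨46, _⟩ => e_33_y
  | ⟨47, _⟩ => e_83_y
  | ⟨48, _⟩ => e_34_y
  | ⟨49, _⟩ => e_35_y
  | ⟨50, _⟩ => e_49_y
  | ⟨51, _⟩ => e_36_y
  | ⟨52, _⟩ => e_37_y
  | ⟨53, _⟩ => e_38_y
  | ⟨54, _⟩ => e_72_y
  | ⟨55, _⟩ => e_40_y
  | ⟨56, _⟩ => e_92_y
  | ⟨57, _⟩ => e_94_y
  | ⟨58, _⟩ => e_42_y
  | ⟨59, _⟩ => e_43_y
  | ⟨60, _⟩ => e_44_y
  | ⟨61, _⟩ => e_45_y
  | ⟨62, _⟩ => e_82_y
  | ⟨63, _⟩ => e_47_y
  | ⟨64, _⟩ => e_101_y
  | ⟨65, _⟩ => e_103_y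
  | ⟨66, _⟩ => e_105_y
  | ⟨67, _⟩ => e_107_y
  | ⟨68, _⟩ => e_52_y
  | ⟨69, _⟩ => e_110_y
  | ⟨70, _⟩ => e_53_y
  | ⟨71, _⟩ => e_54_y
  | ⟨72, _⟩ => e_71_y
  | ⟨73, _⟩ => e_55_y
  | ⟨74, _⟩ => e_56_y
  | ⟨75, _⟩ => e_57_y
  | ⟨76, _⟩ => e_116_y
  | ⟨77, _⟩ => e_118_y
  | ⟨78, _⟩ => e_60_y
  | ⟨79, _⟩ => e_121_y
  | ⟨80, _⟩ => e_61_y
  | ⟨81, _⟩ => e_62_y
  | ⟨82, _⟩ => e_81_y
  | ⟨83, _⟩ => e_63_y
  | ⟨84, _⟩ => e_64_y
  | ⟨85, _⟩ => e_65_y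
  | ⟨86, _⟩ => e_66_y
  | ⟨87, _⟩ => e_67_y
  | ⟨88, _⟩ => e_109_y
  | ⟨89, _⟩ => e_69_y
  | ⟨90, _⟩ => e_132_y
  | ⟨91, _⟩ => e_134_y
  | ⟨92, _⟩ => e_74_y
  | ⟨93, _⟩ => e_137_y
  | ⟨94, _⟩ => e_75_y
  | ⟨95, _⟩ => e_76_y
  | ⟨96, _⟩ => e_77_y
  | ⟨97, _⟩ => e_120_y
  | ⟨98, _⟩ => e_79_y
  | ⟨99, _⟩ => e_144_y
  | ⟨100, _⟩ => e_146_y
  | ⟨101, _⟩ => e_84_y
  | ⟨102, _⟩ => e_149_y
  | ⟨103, _⟩ => e_85_y
  | ⟨104, _⟩ => e_151_y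
  | ⟨105, _⟩ => e_86_y
  | ⟨106, _⟩ => e_153_y
  | ⟨107, _⟩ => e_87_y
  | ⟨108, _⟩ => e_88_y
  | ⟨109, _⟩ => e_108_y
  | ⟨110, _⟩ => e_89_y
  | ⟨111, _⟩ => e_90_y
  | ⟨112, _⟩ => e_91_y
  | ⟨113, _⟩ => e_136_y
  | ⟨114, _⟩ => e_93_y
  | ⟨115, _⟩ => e_160_y
  | ⟨116, _⟩ => e_95_y
  | ⟨117, _⟩ => e_150_y
  | ⟨118, _⟩ => e_96_y
  | ⟨119, _⟩ => e_97_y
  | ⟨120, _⟩ => e_119_y
  | ⟨121, _⟩ => e_98_y
  | ⟨122, _⟩ => e_99_y
  | ⟨123, _⟩ => e_100_y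
  | ⟨124, _⟩ => e_148_y
  | ⟨125, _⟩ => e_102_y
  | ⟨126, _⟩ => e_104_y
  | ⟨127, _⟩ => e_152_y
  | ⟨128, _⟩ => e_106_y
  | ⟨129, _⟩ => e_165_y
  | ⟨130, _⟩ => e_143_y
  | ⟨131, _⟩ => e_162_y
  | ⟨132, _⟩ => e_111_y
  | ⟨133, _⟩ => e_139_y
  | ⟨134, _⟩ => e_112_y
  | ⟨135, _⟩ => e_113_y
  | ⟨136, _⟩ => e_135_y
  | ⟨137, _⟩ => e_114_y
  | ⟨138, _⟩ => e_115_y
  | ⟨139, _⟩ => e_156_y
  | ⟨140, _⟩ => e_117_y
  | ⟨141, _⟩ => e_159_y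
  | ⟨142, _⟩ => e_131_y
  | ⟨143, _⟩ => e_155_y
  | ⟨144, _⟩ => e_122_y
  | ⟨145, _⟩ => e_127_y
  | ⟨146, _⟩ => e_123_y
  | ⟨147, _⟩ => e_124_y
  | ⟨148, _⟩ => e_147_y
  | ⟨149, _⟩ => e_125_y
  | ⟨150, _⟩ => e_140_y
  | ⟨151, _⟩ => e_126_y
  | ⟨152, _⟩ => e_145_y
  | ⟨153, _⟩ => e_128_y
  | ⟨154, _⟩ => e_129_y
  | ⟨155, _⟩ => e_130_y
  | ⟨156, _⟩ => e_133_y
  | ⟨157, _⟩ => e_164_y
  | ⟨158, _⟩ => e_167_y
  | ⟨159, _⟩ => e_161_y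
  | ⟨160, _⟩ => e_138_y
  | ⟨161, _⟩ => e_141_y
  | ⟨162, _⟩ => e_142_y
  | ⟨163, _⟩ => e_158_y
  | ⟨164, _⟩ => e_166_y
  | ⟨165, _⟩ => e_154_y
  | ⟨166, _⟩ => e_157_y
  | ⟨167, _⟩ => e_163_y
  | ⟨n+168, h⟩ => absurd h (by omega)

theorem rep_surj : Function.Surjective rep := by
  let H : Subgroup P :=
    { carrier := {p | ∀ s : P, s ∈ Set.range rep ↔ s * p ∈ Set.range rep}
      mul_mem' := by
        intro a b ha hb s
        rw [ha s, hb (s * a), mul_assoc]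
      one_mem' := by intro s; rw [mul_one]
      inv_mem' := by
        intro a ha s
        rw [ha (s * a⁻¹), inv_mul_cancel_right] }
  have hgen : ∀ j : Fin 2, (PresentedGroup.of j : P) ∈ H := by
    intro j
    fin_cases j
    · intro s
      constructor
      · rintro ⟨i, rfl⟩
        exact ⟨nx_x i, (closed_x i).symm⟩
      · rintro ⟨i, hi⟩
        refine ⟨px_x i, ?_⟩
        have := pre_x i
        rw [hi] at this
        exact mul_right_cancel this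
    · intro s
      constructor
      · rintro ⟨i, rfl⟩
        exact ⟨nx_y i, (closed_y i).symm⟩
      · rintro ⟨i, hi⟩
        refine ⟨px_y i, ?_⟩
        have := pre_y i
        rw [hi] at this
        exact mul_right_cancel this
  intro p
  have hp : p ∈ H := PresentedGroup.generated_by rels H hgen p
  have h1 : (1 : P) * p ∈ Set.range rep := (hp 1).mp ⟨0, rfl⟩
  rw [one_mul] at h1
  exact h1

/-! ### Target 1: `SL(3, ZMod 2)` -/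

abbrev SL3 := Matrix.SpecialLinearGroup (Fin 3) (ZMod 2)

def gX : SL3 := ⟨!![0, 0, 1; 0, 1, 0; 1, 0, 0], by rw [Matrix.det_fin_three]; decide⟩
def gY : SL3 := ⟨!![0, 1, 0; 1, 0, 1; 1, 1, 0], by rw [Matrix.det_fin_three]; decide⟩

theorem lift_rel3 : ∀ r ∈ rels, FreeGroup.lift ![gX, gY] r = 1 := by
  intro r hr
  simp only [rels, Set.mem_insert_iff, Set.mem_singleton_iff] at hr
  rcases hr with rfl | rfl | rfl | rfl
  all_goals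
    simp only [map_pow, map_mul, FreeGroup.lift_apply_of]
    decide

noncomputable def ψ0 : P →* SL3 := PresentedGroup.toGroup lift_rel3

theorem ψ0_x : ψ0 x = gX := by simp [ψ0, x]
theorem ψ0_y : ψ0 y = gY := by simp [ψ0, y]

def m3_0 : SL3 := ⟨!![1, 0, 0; 0, 1, 0; 0, 0, 1], by rw [Matrix.det_fin_three]; decide⟩
def m3_1 : SL3 := ⟨!![0, 0, 1; 0, 1, 0; 1, 0, 0], by rw [Matrix.det_fin_three]; decide⟩
def m3_2 : SL3 := ⟨!![0, 1, 0; 1, 0, 1; 1, 1, 0], by rw [Matrix.det_fin_three]; decide⟩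
def m3_3 : SL3 := ⟨!![1, 1, 0; 1, 0, 1; 0, 1, 0], by rw [Matrix.det_fin_three]; decide⟩
def m3_4 : SL3 := ⟨!![0, 1, 0; 1, 0, 1; 0, 1, 1], by rw [Matrix.det_fin_three]; decide⟩
def m3_5 : SL3 := ⟨!![1, 0, 1; 1, 0, 0; 1, 1, 1], by rw [Matrix.det_fin_three]; decide⟩
def m3_6 : SL3 := ⟨!![0, 1, 1; 1, 0, 1; 0, 1, 0], by rw [Matrix.det_fin_three]; decide⟩
def m3_7 : SL3 := ⟨!![1, 1, 1; 1, 0, 0; 1, 0, 1], by rw [Matrix.det_fin_three]; decide⟩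
def m3_8 : SL3 := ⟨!![1, 0, 1; 1, 0, 0; 0, 1, 1], by rw [Matrix.det_fin_three]; decide⟩
def m3_9 : SL3 := ⟨!![1, 0, 1; 0, 0, 1; 1, 1, 1], by rw [Matrix.det_fin_three]; decide⟩
def m3_10 : SL3 := ⟨!![0, 1, 1; 1, 0, 0; 1, 0, 1], by rw [Matrix.det_fin_three]; decide⟩
def m3_11 : SL3 := ⟨!![1, 1, 1; 0, 0, 1; 1, 0, 1], by rw [Matrix.det_fin_three]; decide⟩
def m3_12 : SL3 := ⟨!![1, 0, 1; 0, 0, 1; 1, 1, 0], by rw [Matrix.det_fin_three]; decide⟩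
def m3_13 : SL3 := ⟨!![1, 0, 0; 0, 1, 0; 0, 1, 1], by rw [Matrix.det_fin_three]; decide⟩
def m3_14 : SL3 := ⟨!![1, 0, 0; 1, 1, 0; 0, 0, 1], by rw [Matrix.det_fin_three]; decide⟩
def m3_15 : SL3 := ⟨!![1, 1, 0; 0, 0, 1; 1, 0, 1], by rw [Matrix.det_fin_three]; decide⟩
def m3_16 : SL3 := ⟨!![0, 1, 1; 0, 1, 0; 1, 0, 0], by rw [Matrix.det_fin_three]; decide⟩
def m3_17 : SL3 := ⟨!![0, 0, 1; 1, 1, 0; 1, 0, 0], by rw [Matrix.det_fin_three]; decide⟩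
def m3_18 : SL3 := ⟨!![1, 0, 0; 1, 1, 0; 1, 1, 1], by rw [Matrix.det_fin_three]; decide⟩
def m3_19 : SL3 := ⟨!![0, 0, 1; 0, 1, 0; 1, 1, 0], by rw [Matrix.det_fin_three]; decide⟩
def m3_20 : SL3 := ⟨!![0, 0, 1; 0, 1, 1; 1, 0, 0], by rw [Matrix.det_fin_three]; decide⟩
def m3_21 : SL3 := ⟨!![0, 1, 0; 1, 1, 1; 1, 1, 0], by rw [Matrix.det_fin_three]; decide⟩
def m3_22 : SL3 := ⟨!![1, 1, 1; 1, 1, 0; 1, 0, 0], by rw [Matrix.det_fin_three]; decide⟩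
def m3_23 : SL3 := ⟨!![1, 1, 0; 0, 1, 0; 0, 0, 1], by rw [Matrix.det_fin_three]; decide⟩
def m3_24 : SL3 := ⟨!![1, 0, 0; 0, 1, 1; 0, 0, 1], by rw [Matrix.det_fin_three]; decide⟩
def m3_25 : SL3 := ⟨!![1, 1, 0; 1, 1, 1; 0, 1, 0], by rw [Matrix.det_fin_three]; decide⟩
def m3_26 : SL3 := ⟨!![0, 0, 1; 0, 1, 1; 1, 1, 1], by rw [Matrix.det_fin_three]; decide⟩
def m3_27 : SL3 := ⟨!![0, 1, 0; 1, 1, 1; 0, 0, 1], by rw [Matrix.det_fin_three]; decide⟩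
def m3_28 : SL3 := ⟨!![1, 1, 0; 1, 0, 1; 1, 1, 1], by rw [Matrix.det_fin_three]; decide⟩
def m3_29 : SL3 := ⟨!![1, 1, 0; 0, 1, 1; 0, 1, 0], by rw [Matrix.det_fin_three]; decide⟩
def m3_30 : SL3 := ⟨!![0, 1, 0; 1, 1, 1; 0, 1, 1], by rw [Matrix.det_fin_three]; decide⟩
def m3_31 : SL3 := ⟨!![1, 1, 1; 0, 1, 1; 0, 0, 1], by rw [Matrix.det_fin_three]; decide⟩
def m3_32 : SL3 := ⟨!![0, 0, 1; 1, 1, 1; 0, 1, 0], by rw [Matrix.det_fin_three]; decide⟩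
def m3_33 : SL3 := ⟨!![1, 1, 1; 1, 0, 1; 1, 1, 0], by rw [Matrix.det_fin_three]; decide⟩
def m3_34 : SL3 := ⟨!![0, 1, 0; 0, 1, 1; 1, 1, 0], by rw [Matrix.det_fin_three]; decide⟩
def m3_35 : SL3 := ⟨!![0, 1, 1; 1, 1, 1; 0, 1, 0], by rw [Matrix.det_fin_three]; decide⟩
def m3_36 : SL3 := ⟨!![1, 1, 0; 0, 1, 1; 0, 0, 1], by rw [Matrix.det_fin_three]; decide⟩
def m3_37 : SL3 := ⟨!![0, 1, 0; 1, 1, 1; 1, 0, 0], by rw [Matrix.det_fin_three]; decide⟩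
def m3_38 : SL3 := ⟨!![0, 1, 1; 1, 0, 1; 1, 1, 1], by rw [Matrix.det_fin_three]; decide⟩
def m3_39 : SL3 := ⟨!![1, 1, 1; 1, 0, 0; 0, 0, 1], by rw [Matrix.det_fin_three]; decide⟩
def m3_40 : SL3 := ⟨!![0, 1, 1; 1, 1, 0; 0, 1, 0], by rw [Matrix.det_fin_three]; decide⟩
def m3_41 : SL3 := ⟨!![1, 1, 1; 0, 1, 1; 1, 0, 1], by rw [Matrix.det_fin_three]; decide⟩
def m3_42 : SL3 := ⟨!![1, 0, 1; 0, 0, 1; 0, 1, 1], by rw [Matrix.det_fin_three]; decide⟩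
def m3_43 : SL3 := ⟨!![0, 0, 1; 0, 1, 1; 1, 1, 0], by rw [Matrix.det_fin_three]; decide⟩
def m3_44 : SL3 := ⟨!![1, 0, 0; 1, 1, 1; 0, 1, 0], by rw [Matrix.det_fin_three]; decide⟩
def m3_45 : SL3 := ⟨!![1, 1, 1; 1, 0, 1; 0, 1, 1], by rw [Matrix.det_fin_three]; decide⟩
def m3_46 : SL3 := ⟨!![0, 0, 1; 1, 0, 0; 1, 1, 1], by rw [Matrix.det_fin_three]; decide⟩
def m3_47 : SL3 := ⟨!![0, 1, 0; 1, 1, 0; 0, 1, 1], by rw [Matrix.det_fin_three]; decide⟩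
def m3_48 : SL3 := ⟨!![1, 0, 1; 0, 1, 1; 1, 1, 1], by rw [Matrix.det_fin_three]; decide⟩
def m3_49 : SL3 := ⟨!![0, 1, 1; 0, 0, 1; 1, 0, 1], by rw [Matrix.det_fin_three]; decide⟩
def m3_50 : SL3 := ⟨!![0, 1, 1; 1, 1, 0; 1, 0, 0], by rw [Matrix.det_fin_three]; decide⟩
def m3_51 : SL3 := ⟨!![1, 1, 1; 0, 1, 1; 1, 1, 0], by rw [Matrix.det_fin_three]; decide⟩
def m3_52 : SL3 := ⟨!![1, 0, 1; 0, 0, 1; 0, 1, 0], by rw [Matrix.det_fin_three]; decide⟩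
def m3_53 : SL3 := ⟨!![0, 1, 1; 1, 0, 0; 0, 0, 1], by rw [Matrix.det_fin_three]; decide⟩
def m3_54 : SL3 := ⟨!![1, 1, 1; 0, 0, 1; 1, 0, 0], by rw [Matrix.det_fin_three]; decide⟩
def m3_55 : SL3 := ⟨!![0, 1, 1; 1, 1, 1; 1, 0, 1], by rw [Matrix.det_fin_three]; decide⟩
def m3_56 : SL3 := ⟨!![1, 1, 1; 1, 1, 0; 1, 0, 1], by rw [Matrix.det_fin_three]; decide⟩
def m3_57 : SL3 := ⟨!![1, 0, 1; 1, 0, 0; 1, 1, 0], by rw [Matrix.det_fin_three]; decide⟩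
def m3_58 : SL3 := ⟨!![1, 0, 0; 1, 1, 0; 0, 1, 1], by rw [Matrix.det_fin_three]; decide⟩
def m3_59 : SL3 := ⟨!![1, 1, 0; 0, 1, 1; 1, 1, 1], by rw [Matrix.det_fin_three]; decide⟩
def m3_60 : SL3 := ⟨!![0, 1, 0; 0, 0, 1; 1, 0, 1], by rw [Matrix.det_fin_three]; decide⟩
def m3_61 : SL3 := ⟨!![0, 0, 1; 1, 0, 0; 0, 1, 1], by rw [Matrix.det_fin_three]; decide⟩
def m3_62 : SL3 := ⟨!![1, 0, 0; 0, 0, 1; 1, 1, 1], by rw [Matrix.det_fin_three]; decide⟩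
def m3_63 : SL3 := ⟨!![1, 0, 1; 1, 1, 1; 0, 1, 1], by rw [Matrix.det_fin_three]; decide⟩
def m3_64 : SL3 := ⟨!![1, 0, 1; 1, 1, 0; 1, 1, 1], by rw [Matrix.det_fin_three]; decide⟩
def m3_65 : SL3 := ⟨!![1, 1, 0; 1, 0, 0; 1, 0, 1], by rw [Matrix.det_fin_three]; decide⟩
def m3_66 : SL3 := ⟨!![1, 1, 1; 1, 1, 0; 0, 1, 1], by rw [Matrix.det_fin_three]; decide⟩
def m3_67 : SL3 := ⟨!![1, 0, 1; 1, 0, 0; 0, 1, 0], by rw [Matrix.det_fin_three]; decide⟩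
def m3_68 : SL3 := ⟨!![1, 0, 0; 1, 1, 0; 1, 0, 1], by rw [Matrix.det_fin_three]; decide⟩
def m3_69 : SL3 := ⟨!![1, 1, 0; 0, 0, 1; 1, 0, 0], by rw [Matrix.det_fin_three]; decide⟩
def m3_70 : SL3 := ⟨!![0, 1, 1; 0, 1, 0; 1, 1, 0], by rw [Matrix.det_fin_three]; decide⟩
def m3_71 : SL3 := ⟨!![0, 0, 1; 1, 1, 0; 0, 1, 0], by rw [Matrix.det_fin_three]; decide⟩
def m3_72 : SL3 := ⟨!![1, 1, 0; 1, 1, 1; 1, 0, 1], by rw [Matrix.det_fin_three]; decide⟩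
def m3_73 : SL3 := ⟨!![0, 1, 1; 0, 0, 1; 1, 0, 0], by rw [Matrix.det_fin_three]; decide⟩
def m3_74 : SL3 := ⟨!![0, 0, 1; 1, 1, 1; 1, 0, 0], by rw [Matrix.det_fin_three]; decide⟩
def m3_75 : SL3 := ⟨!![1, 0, 0; 0, 1, 0; 1, 1, 1], by rw [Matrix.det_fin_three]; decide⟩
def m3_76 : SL3 := ⟨!![0, 1, 1; 1, 1, 0; 1, 1, 1], by rw [Matrix.det_fin_three]; decide⟩
def m3_77 : SL3 := ⟨!![0, 1, 0; 1, 0, 0; 1, 0, 1], by rw [Matrix.det_fin_three]; decide⟩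
def m3_78 : SL3 := ⟨!![1, 0, 1; 1, 1, 0; 1, 0, 0], by rw [Matrix.det_fin_three]; decide⟩
def m3_79 : SL3 := ⟨!![1, 0, 0; 0, 0, 1; 1, 1, 0], by rw [Matrix.det_fin_three]; decide⟩
def m3_80 : SL3 := ⟨!![1, 1, 0; 0, 1, 0; 0, 1, 1], by rw [Matrix.det_fin_three]; decide⟩
def m3_81 : SL3 := ⟨!![0, 1, 0; 1, 1, 0; 0, 0, 1], by rw [Matrix.det_fin_three]; decide⟩
def m3_82 : SL3 := ⟨!![1, 0, 1; 1, 1, 1; 1, 1, 0], by rw [Matrix.det_fin_three]; decide⟩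
def m3_83 : SL3 := ⟨!![1, 0, 0; 0, 0, 1; 0, 1, 1], by rw [Matrix.det_fin_three]; decide⟩
def m3_84 : SL3 := ⟨!![1, 0, 0; 1, 1, 1; 0, 0, 1], by rw [Matrix.det_fin_three]; decide⟩
def m3_85 : SL3 := ⟨!![1, 1, 1; 0, 1, 0; 1, 0, 0], by rw [Matrix.det_fin_three]; decide⟩
def m3_86 : SL3 := ⟨!![0, 0, 1; 1, 1, 1; 0, 1, 1], by rw [Matrix.det_fin_three]; decide⟩
def m3_87 : SL3 := ⟨!![1, 0, 0; 0, 1, 0; 1, 0, 1], by rw [Matrix.det_fin_three]; decide⟩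
def m3_88 : SL3 := ⟨!![0, 0, 1; 0, 1, 1; 1, 0, 1], by rw [Matrix.det_fin_three]; decide⟩
def m3_89 : SL3 := ⟨!![1, 1, 1; 1, 1, 0; 0, 1, 0], by rw [Matrix.det_fin_three]; decide⟩
def m3_90 : SL3 := ⟨!![1, 0, 0; 0, 1, 1; 0, 1, 0], by rw [Matrix.det_fin_three]; decide⟩
def m3_91 : SL3 := ⟨!![1, 1, 0; 1, 0, 0; 0, 0, 1], by rw [Matrix.det_fin_three]; decide⟩
def m3_92 : SL3 := ⟨!![1, 1, 0; 0, 0, 1; 0, 1, 0], by rw [Matrix.det_fin_three]; decide⟩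
def m3_93 : SL3 := ⟨!![0, 0, 1; 0, 1, 0; 1, 1, 1], by rw [Matrix.det_fin_three]; decide⟩
def m3_94 : SL3 := ⟨!![0, 1, 0; 1, 0, 1; 0, 0, 1], by rw [Matrix.det_fin_three]; decide⟩
def m3_95 : SL3 := ⟨!![0, 1, 1; 1, 1, 1; 0, 0, 1], by rw [Matrix.det_fin_three]; decide⟩
def m3_96 : SL3 := ⟨!![1, 0, 1; 0, 1, 0; 1, 0, 0], by rw [Matrix.det_fin_three]; decide⟩
def m3_97 : SL3 := ⟨!![1, 0, 1; 0, 1, 1; 0, 0, 1], by rw [Matrix.det_fin_three]; decide⟩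
def m3_98 : SL3 := ⟨!![0, 1, 0; 1, 1, 0; 1, 1, 1], by rw [Matrix.det_fin_three]; decide⟩
def m3_99 : SL3 := ⟨!![0, 1, 0; 0, 1, 1; 1, 0, 0], by rw [Matrix.det_fin_three]; decide⟩
def m3_100 : SL3 := ⟨!![0, 0, 1; 1, 0, 0; 1, 1, 0], by rw [Matrix.det_fin_three]; decide⟩
def m3_101 : SL3 := ⟨!![0, 1, 0; 0, 0, 1; 1, 1, 0], by rw [Matrix.det_fin_three]; decide⟩
def m3_102 : SL3 := ⟨!![1, 1, 1; 0, 1, 0; 0, 0, 1], by rw [Matrix.det_fin_three]; decide⟩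
def m3_103 : SL3 := ⟨!![0, 0, 1; 1, 0, 1; 0, 1, 0], by rw [Matrix.det_fin_three]; decide⟩
def m3_104 : SL3 := ⟨!![1, 0, 0; 1, 1, 1; 1, 1, 0], by rw [Matrix.det_fin_three]; decide⟩
def m3_105 : SL3 := ⟨!![1, 1, 0; 0, 0, 1; 0, 1, 1], by rw [Matrix.det_fin_three]; decide⟩
def m3_106 : SL3 := ⟨!![0, 0, 1; 0, 1, 0; 1, 0, 1], by rw [Matrix.det_fin_three]; decide⟩
def m3_107 : SL3 := ⟨!![0, 1, 0; 1, 0, 1; 1, 0, 0], by rw [Matrix.det_fin_three]; decide⟩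
def m3_108 : SL3 := ⟨!![1, 1, 0; 0, 1, 1; 1, 0, 0], by rw [Matrix.det_fin_three]; decide⟩
def m3_109 : SL3 := ⟨!![1, 1, 1; 0, 1, 1; 0, 1, 0], by rw [Matrix.det_fin_three]; decide⟩
def m3_110 : SL3 := ⟨!![0, 0, 1; 1, 1, 1; 1, 0, 1], by rw [Matrix.det_fin_three]; decide⟩
def m3_111 : SL3 := ⟨!![0, 1, 0; 0, 1, 1; 1, 0, 1], by rw [Matrix.det_fin_three]; decide⟩
def m3_112 : SL3 := ⟨!![1, 1, 1; 0, 1, 0; 1, 1, 0], by rw [Matrix.det_fin_three]; decide⟩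
def m3_113 : SL3 := ⟨!![0, 1, 1; 1, 0, 0; 0, 1, 0], by rw [Matrix.det_fin_three]; decide⟩
def m3_114 : SL3 := ⟨!![1, 1, 0; 1, 0, 1; 0, 0, 1], by rw [Matrix.det_fin_three]; decide⟩
def m3_115 : SL3 := ⟨!![1, 1, 0; 1, 1, 1; 1, 0, 0], by rw [Matrix.det_fin_three]; decide⟩
def m3_116 : SL3 := ⟨!![0, 1, 1; 0, 0, 1; 1, 1, 0], by rw [Matrix.det_fin_three]; decide⟩
def m3_117 : SL3 := ⟨!![1, 0, 1; 0, 1, 0; 0, 0, 1], by rw [Matrix.det_fin_three]; decide⟩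
def m3_118 : SL3 := ⟨!![1, 0, 0; 1, 0, 1; 0, 1, 0], by rw [Matrix.det_fin_three]; decide⟩
def m3_119 : SL3 := ⟨!![1, 0, 0; 0, 1, 1; 1, 1, 0], by rw [Matrix.det_fin_three]; decide⟩
def m3_120 : SL3 := ⟨!![0, 1, 0; 0, 1, 1; 1, 1, 1], by rw [Matrix.det_fin_three]; decide⟩
def m3_121 : SL3 := ⟨!![1, 0, 1; 1, 1, 1; 0, 0, 1], by rw [Matrix.det_fin_three]; decide⟩
def m3_122 : SL3 := ⟨!![1, 0, 1; 0, 1, 1; 0, 1, 0], by rw [Matrix.det_fin_three]; decide⟩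
def m3_123 : SL3 := ⟨!![1, 1, 0; 0, 1, 0; 1, 1, 1], by rw [Matrix.det_fin_three]; decide⟩
def m3_124 : SL3 := ⟨!![0, 1, 0; 1, 0, 0; 0, 1, 1], by rw [Matrix.det_fin_three]; decide⟩
def m3_125 : SL3 := ⟨!![0, 0, 1; 1, 0, 1; 1, 1, 0], by rw [Matrix.det_fin_three]; decide⟩
def m3_126 : SL3 := ⟨!![0, 1, 0; 0, 0, 1; 1, 1, 1], by rw [Matrix.det_fin_three]; decide⟩
def m3_127 : SL3 := ⟨!![0, 1, 1; 1, 0, 0; 1, 1, 0], by rw [Matrix.det_fin_three]; decide⟩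
def m3_128 : SL3 := ⟨!![1, 1, 0; 1, 0, 1; 1, 0, 0], by rw [Matrix.det_fin_three]; decide⟩
def m3_129 : SL3 := ⟨!![0, 1, 1; 1, 1, 0; 0, 0, 1], by rw [Matrix.det_fin_three]; decide⟩
def m3_130 : SL3 := ⟨!![1, 0, 0; 1, 1, 1; 1, 0, 1], by rw [Matrix.det_fin_three]; decide⟩
def m3_131 : SL3 := ⟨!![0, 1, 0; 1, 1, 0; 1, 0, 1], by rw [Matrix.det_fin_three]; decide⟩
def m3_132 : SL3 := ⟨!![1, 0, 1; 0, 1, 1; 1, 0, 0], by rw [Matrix.det_fin_three]; decide⟩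
def m3_133 : SL3 := ⟨!![1, 1, 1; 0, 1, 0; 0, 1, 1], by rw [Matrix.det_fin_three]; decide⟩
def m3_134 : SL3 := ⟨!![0, 0, 1; 1, 0, 1; 1, 1, 1], by rw [Matrix.det_fin_three]; decide⟩
def m3_135 : SL3 := ⟨!![0, 1, 1; 0, 1, 0; 1, 0, 1], by rw [Matrix.det_fin_three]; decide⟩
def m3_136 : SL3 := ⟨!![0, 1, 1; 1, 0, 1; 1, 0, 0], by rw [Matrix.det_fin_three]; decide⟩
def m3_137 : SL3 := ⟨!![1, 1, 1; 1, 0, 0; 1, 1, 0], by rw [Matrix.det_fin_three]; decide⟩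
def m3_138 : SL3 := ⟨!![1, 1, 1; 0, 0, 1; 0, 1, 0], by rw [Matrix.det_fin_three]; decide⟩
def m3_139 : SL3 := ⟨!![1, 1, 0; 1, 0, 0; 0, 1, 1], by rw [Matrix.det_fin_three]; decide⟩
def m3_140 : SL3 := ⟨!![1, 0, 0; 1, 0, 1; 1, 1, 0], by rw [Matrix.det_fin_three]; decide⟩
def m3_141 : SL3 := ⟨!![0, 0, 1; 1, 1, 0; 0, 1, 1], by rw [Matrix.det_fin_three]; decide⟩
def m3_142 : SL3 := ⟨!![1, 0, 1; 1, 1, 1; 1, 0, 0], by rw [Matrix.det_fin_three]; decide⟩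
def m3_143 : SL3 := ⟨!![1, 0, 1; 1, 1, 0; 0, 1, 0], by rw [Matrix.det_fin_three]; decide⟩
def m3_144 : SL3 := ⟨!![1, 0, 0; 0, 1, 1; 1, 0, 1], by rw [Matrix.det_fin_three]; decide⟩
def m3_145 : SL3 := ⟨!![0, 1, 1; 0, 1, 0; 1, 1, 1], by rw [Matrix.det_fin_three]; decide⟩
def m3_146 : SL3 := ⟨!![1, 1, 1; 1, 0, 1; 0, 0, 1], by rw [Matrix.det_fin_three]; decide⟩
def m3_147 : SL3 := ⟨!![1, 0, 1; 0, 1, 0; 0, 1, 1], by rw [Matrix.det_fin_three]; decide⟩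
def m3_148 : SL3 := ⟨!![1, 0, 0; 1, 0, 1; 0, 1, 1], by rw [Matrix.det_fin_three]; decide⟩
def m3_149 : SL3 := ⟨!![1, 1, 0; 1, 0, 0; 1, 1, 1], by rw [Matrix.det_fin_three]; decide⟩
def m3_150 : SL3 := ⟨!![0, 1, 0; 1, 0, 0; 1, 1, 1], by rw [Matrix.det_fin_three]; decide⟩
def m3_151 : SL3 := ⟨!![1, 0, 1; 1, 1, 0; 0, 0, 1], by rw [Matrix.det_fin_three]; decide⟩
def m3_152 : SL3 := ⟨!![0, 1, 1; 1, 0, 1; 0, 0, 1], by rw [Matrix.det_fin_three]; decide⟩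
def m3_153 : SL3 := ⟨!![1, 1, 1; 1, 0, 0; 0, 1, 0], by rw [Matrix.det_fin_three]; decide⟩
def m3_154 : SL3 := ⟨!![0, 1, 1; 1, 1, 1; 1, 1, 0], by rw [Matrix.det_fin_three]; decide⟩
def m3_155 : SL3 := ⟨!![0, 1, 0; 0, 0, 1; 1, 0, 0], by rw [Matrix.det_fin_three]; decide⟩
def m3_156 : SL3 := ⟨!![0, 0, 1; 1, 0, 1; 0, 1, 1], by rw [Matrix.det_fin_three]; decide⟩
def m3_157 : SL3 := ⟨!![1, 0, 0; 1, 0, 1; 1, 1, 1], by rw [Matrix.det_fin_three]; decide⟩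
def m3_158 : SL3 := ⟨!![1, 1, 0; 0, 1, 0; 1, 0, 1], by rw [Matrix.det_fin_three]; decide⟩
def m3_159 : SL3 := ⟨!![1, 1, 1; 0, 0, 1; 0, 1, 1], by rw [Matrix.det_fin_three]; decide⟩
def m3_160 : SL3 := ⟨!![0, 0, 1; 1, 1, 0; 1, 0, 1], by rw [Matrix.det_fin_three]; decide⟩
def m3_161 : SL3 := ⟨!![1, 1, 0; 1, 1, 1; 0, 1, 1], by rw [Matrix.det_fin_three]; decide⟩
def m3_162 : SL3 := ⟨!![1, 0, 0; 0, 0, 1; 0, 1, 0], by rw [Matrix.det_fin_three]; decide⟩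
def m3_163 : SL3 := ⟨!![1, 1, 1; 1, 0, 1; 1, 0, 0], by rw [Matrix.det_fin_three]; decide⟩
def m3_164 : SL3 := ⟨!![1, 0, 1; 0, 1, 0; 1, 1, 0], by rw [Matrix.det_fin_three]; decide⟩
def m3_165 : SL3 := ⟨!![0, 1, 1; 0, 0, 1; 1, 1, 1], by rw [Matrix.det_fin_three]; decide⟩
def m3_166 : SL3 := ⟨!![0, 1, 0; 1, 0, 0; 0, 0, 1], by rw [Matrix.det_fin_three]; decide⟩
def m3_167 : SL3 := ⟨!![0, 0, 1; 1, 0, 0; 0, 1, 0], by rw [Matrix.det_fin_three]; decide⟩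
theorem t3_0 : ψ0 r0 = m3_0 := by
  show ψ0 1 = m3_0
  rw [map_one]; decide
theorem t3_1 : ψ0 r1 = m3_1 := by
  show ψ0 (r0 * x) = m3_1
  rw [map_mul, t3_0, ψ0_x]; decide
theorem t3_2 : ψ0 r2 = m3_2 := by
  show ψ0 (r0 * y) = m3_2
  rw [map_mul, t3_0, ψ0_y]; decide
theorem t3_3 : ψ0 r3 = m3_3 := by
  show ψ0 (r1 * y) = m3_3
  rw [map_mul, t3_1, ψ0_y]; decide
theorem t3_4 : ψ0 r4 = m3_4 := by
  show ψ0 (r2 * x) = m3_4
  rw [map_mul, t3_2, ψ0_x]; decide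
theorem t3_5 : ψ0 r5 = m3_5 := by
  show ψ0 (r2 * y) = m3_5
  rw [map_mul, t3_2, ψ0_y]; decide
theorem t3_6 : ψ0 r6 = m3_6 := by
  show ψ0 (r3 * x) = m3_6
  rw [map_mul, t3_3, ψ0_x]; decide
theorem t3_7 : ψ0 r7 = m3_7 := by
  show ψ0 (r3 * y) = m3_7
  rw [map_mul, t3_3, ψ0_y]; decide
theorem t3_8 : ψ0 r8 = m3_8 := by
  show ψ0 (r4 * y) = m3_8
  rw [map_mul, t3_4, ψ0_y]; decide
theorem t3_9 : ψ0 r9 = m3_9 := by
  show ψ0 (r5 * x) = m3_9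
  rw [map_mul, t3_5, ψ0_x]; decide
theorem t3_10 : ψ0 r10 = m3_10 := by
  show ψ0 (r6 * y) = m3_10
  rw [map_mul, t3_6, ψ0_y]; decide
theorem t3_11 : ψ0 r11 = m3_11 := by
  show ψ0 (r7 * x) = m3_11
  rw [map_mul, t3_7, ψ0_x]; decide
theorem t3_12 : ψ0 r12 = m3_12 := by
  show ψ0 (r8 * x) = m3_12
  rw [map_mul, t3_8, ψ0_x]; decide
theorem t3_13 : ψ0 r13 = m3_13 := by
  show ψ0 (r8 * y) = m3_13
  rw [map_mul, t3_8, ψ0_y]; decide
theorem t3_14 : ψ0 r14 = m3_14 := by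
  show ψ0 (r9 * y) = m3_14
  rw [map_mul, t3_9, ψ0_y]; decide
theorem t3_15 : ψ0 r15 = m3_15 := by
  show ψ0 (r10 * x) = m3_15
  rw [map_mul, t3_10, ψ0_x]; decide
theorem t3_16 : ψ0 r16 = m3_16 := by
  show ψ0 (r10 * y) = m3_16
  rw [map_mul, t3_10, ψ0_y]; decide
theorem t3_17 : ψ0 r17 = m3_17 := by
  show ψ0 (r11 * y) = m3_17
  rw [map_mul, t3_11, ψ0_y]; decide
theorem t3_18 : ψ0 r18 = m3_18 := by
  show ψ0 (r12 * y) = m3_18
  rw [map_mul, t3_12, ψ0_y]; decide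
theorem t3_19 : ψ0 r19 = m3_19 := by
  show ψ0 (r13 * x) = m3_19
  rw [map_mul, t3_13, ψ0_x]; decide
theorem t3_20 : ψ0 r20 = m3_20 := by
  show ψ0 (r14 * x) = m3_20
  rw [map_mul, t3_14, ψ0_x]; decide
theorem t3_21 : ψ0 r21 = m3_21 := by
  show ψ0 (r14 * y) = m3_21
  rw [map_mul, t3_14, ψ0_y]; decide
theorem t3_22 : ψ0 r22 = m3_22 := by
  show ψ0 (r15 * y) = m3_22
  rw [map_mul, t3_15, ψ0_y]; decide
theorem t3_23 : ψ0 r23 = m3_23 := by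
  show ψ0 (r16 * x) = m3_23
  rw [map_mul, t3_16, ψ0_x]; decide
theorem t3_24 : ψ0 r24 = m3_24 := by
  show ψ0 (r17 * x) = m3_24
  rw [map_mul, t3_17, ψ0_x]; decide
theorem t3_25 : ψ0 r25 = m3_25 := by
  show ψ0 (r17 * y) = m3_25
  rw [map_mul, t3_17, ψ0_y]; decide
theorem t3_26 : ψ0 r26 = m3_26 := by
  show ψ0 (r18 * x) = m3_26
  rw [map_mul, t3_18, ψ0_x]; decide
theorem t3_27 : ψ0 r27 = m3_27 := by
  show ψ0 (r18 * y) = m3_27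
  rw [map_mul, t3_18, ψ0_y]; decide
theorem t3_28 : ψ0 r28 = m3_28 := by
  show ψ0 (r19 * y) = m3_28
  rw [map_mul, t3_19, ψ0_y]; decide
theorem t3_29 : ψ0 r29 = m3_29 := by
  show ψ0 (r20 * y) = m3_29
  rw [map_mul, t3_20, ψ0_y]; decide
theorem t3_30 : ψ0 r30 = m3_30 := by
  show ψ0 (r21 * x) = m3_30
  rw [map_mul, t3_21, ψ0_x]; decide
theorem t3_31 : ψ0 r31 = m3_31 := by
  show ψ0 (r22 * x) = m3_31
  rw [map_mul, t3_22, ψ0_x]; decide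
theorem t3_32 : ψ0 r32 = m3_32 := by
  show ψ0 (r22 * y) = m3_32
  rw [map_mul, t3_22, ψ0_y]; decide
theorem t3_33 : ψ0 r33 = m3_33 := by
  show ψ0 (r23 * y) = m3_33
  rw [map_mul, t3_23, ψ0_y]; decide
theorem t3_34 : ψ0 r34 = m3_34 := by
  show ψ0 (r24 * y) = m3_34
  rw [map_mul, t3_24, ψ0_y]; decide
theorem t3_35 : ψ0 r35 = m3_35 := by
  show ψ0 (r25 * x) = m3_35
  rw [map_mul, t3_25, ψ0_x]; decide
theorem t3_36 : ψ0 r36 = m3_36 := by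
  show ψ0 (r26 * y) = m3_36
  rw [map_mul, t3_26, ψ0_y]; decide
theorem t3_37 : ψ0 r37 = m3_37 := by
  show ψ0 (r27 * x) = m3_37
  rw [map_mul, t3_27, ψ0_x]; decide
theorem t3_38 : ψ0 r38 = m3_38 := by
  show ψ0 (r28 * x) = m3_38
  rw [map_mul, t3_28, ψ0_x]; decide
theorem t3_39 : ψ0 r39 = m3_39 := by
  show ψ0 (r28 * y) = m3_39
  rw [map_mul, t3_28, ψ0_y]; decide
theorem t3_40 : ψ0 r40 = m3_40 := by
  show ψ0 (r29 * x) = m3_40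
  rw [map_mul, t3_29, ψ0_x]; decide
theorem t3_41 : ψ0 r41 = m3_41 := by
  show ψ0 (r29 * y) = m3_41
  rw [map_mul, t3_29, ψ0_y]; decide
theorem t3_42 : ψ0 r42 = m3_42 := by
  show ψ0 (r30 * y) = m3_42
  rw [map_mul, t3_30, ψ0_y]; decide
theorem t3_43 : ψ0 r43 = m3_43 := by
  show ψ0 (r31 * y) = m3_43
  rw [map_mul, t3_31, ψ0_y]; decide
theorem t3_44 : ψ0 r44 = m3_44 := by
  show ψ0 (r32 * x) = m3_44
  rw [map_mul, t3_32, ψ0_x]; decide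
theorem t3_45 : ψ0 r45 = m3_45 := by
  show ψ0 (r33 * x) = m3_45
  rw [map_mul, t3_33, ψ0_x]; decide
theorem t3_46 : ψ0 r46 = m3_46 := by
  show ψ0 (r33 * y) = m3_46
  rw [map_mul, t3_33, ψ0_y]; decide
theorem t3_47 : ψ0 r47 = m3_47 := by
  show ψ0 (r34 * x) = m3_47
  rw [map_mul, t3_34, ψ0_x]; decide
theorem t3_48 : ψ0 r48 = m3_48 := by
  show ψ0 (r34 * y) = m3_48
  rw [map_mul, t3_34, ψ0_y]; decide
theorem t3_49 : ψ0 r49 = m3_49 := by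
  show ψ0 (r35 * y) = m3_49
  rw [map_mul, t3_35, ψ0_y]; decide
theorem t3_50 : ψ0 r50 = m3_50 := by
  show ψ0 (r36 * x) = m3_50
  rw [map_mul, t3_36, ψ0_x]; decide
theorem t3_51 : ψ0 r51 = m3_51 := by
  show ψ0 (r36 * y) = m3_51
  rw [map_mul, t3_36, ψ0_y]; decide
theorem t3_52 : ψ0 r52 = m3_52 := by
  show ψ0 (r37 * y) = m3_52
  rw [map_mul, t3_37, ψ0_y]; decide
theorem t3_53 : ψ0 r53 = m3_53 := by
  show ψ0 (r38 * y) = m3_53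
  rw [map_mul, t3_38, ψ0_y]; decide
theorem t3_54 : ψ0 r54 = m3_54 := by
  show ψ0 (r39 * x) = m3_54
  rw [map_mul, t3_39, ψ0_x]; decide
theorem t3_55 : ψ0 r55 = m3_55 := by
  show ψ0 (r40 * y) = m3_55
  rw [map_mul, t3_40, ψ0_y]; decide
theorem t3_56 : ψ0 r56 = m3_56 := by
  show ψ0 (r41 * x) = m3_56
  rw [map_mul, t3_41, ψ0_x]; decide
theorem t3_57 : ψ0 r57 = m3_57 := by
  show ψ0 (r42 * x) = m3_57
  rw [map_mul, t3_42, ψ0_x]; decide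
theorem t3_58 : ψ0 r58 = m3_58 := by
  show ψ0 (r42 * y) = m3_58
  rw [map_mul, t3_42, ψ0_y]; decide
theorem t3_59 : ψ0 r59 = m3_59 := by
  show ψ0 (r43 * y) = m3_59
  rw [map_mul, t3_43, ψ0_y]; decide
theorem t3_60 : ψ0 r60 = m3_60 := by
  show ψ0 (r44 * y) = m3_60
  rw [map_mul, t3_44, ψ0_y]; decide
theorem t3_61 : ψ0 r61 = m3_61 := by
  show ψ0 (r45 * y) = m3_61
  rw [map_mul, t3_45, ψ0_y]; decide
theorem t3_62 : ψ0 r62 = m3_62 := by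
  show ψ0 (r46 * x) = m3_62
  rw [map_mul, t3_46, ψ0_x]; decide
theorem t3_63 : ψ0 r63 = m3_63 := by
  show ψ0 (r47 * y) = m3_63
  rw [map_mul, t3_47, ψ0_y]; decide
theorem t3_64 : ψ0 r64 = m3_64 := by
  show ψ0 (r48 * x) = m3_64
  rw [map_mul, t3_48, ψ0_x]; decide
theorem t3_65 : ψ0 r65 = m3_65 := by
  show ψ0 (r49 * x) = m3_65
  rw [map_mul, t3_49, ψ0_x]; decide
theorem t3_66 : ψ0 r66 = m3_66 := by
  show ψ0 (r51 * x) = m3_66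
  rw [map_mul, t3_51, ψ0_x]; decide
theorem t3_67 : ψ0 r67 = m3_67 := by
  show ψ0 (r52 * x) = m3_67
  rw [map_mul, t3_52, ψ0_x]; decide
theorem t3_68 : ψ0 r68 = m3_68 := by
  show ψ0 (r52 * y) = m3_68
  rw [map_mul, t3_52, ψ0_y]; decide
theorem t3_69 : ψ0 r69 = m3_69 := by
  show ψ0 (r53 * x) = m3_69
  rw [map_mul, t3_53, ψ0_x]; decide
theorem t3_70 : ψ0 r70 = m3_70 := by
  show ψ0 (r53 * y) = m3_70
  rw [map_mul, t3_53, ψ0_y]; decide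
theorem t3_71 : ψ0 r71 = m3_71 := by
  show ψ0 (r54 * y) = m3_71
  rw [map_mul, t3_54, ψ0_y]; decide
theorem t3_72 : ψ0 r72 = m3_72 := by
  show ψ0 (r55 * x) = m3_72
  rw [map_mul, t3_55, ψ0_x]; decide
theorem t3_73 : ψ0 r73 = m3_73 := by
  show ψ0 (r55 * y) = m3_73
  rw [map_mul, t3_55, ψ0_y]; decide
theorem t3_74 : ψ0 r74 = m3_74 := by
  show ψ0 (r56 * y) = m3_74
  rw [map_mul, t3_56, ψ0_y]; decide
theorem t3_75 : ψ0 r75 = m3_75 := by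
  show ψ0 (r57 * y) = m3_75
  rw [map_mul, t3_57, ψ0_y]; decide
theorem t3_76 : ψ0 r76 = m3_76 := by
  show ψ0 (r59 * x) = m3_76
  rw [map_mul, t3_59, ψ0_x]; decide
theorem t3_77 : ψ0 r77 = m3_77 := by
  show ψ0 (r60 * x) = m3_77
  rw [map_mul, t3_60, ψ0_x]; decide
theorem t3_78 : ψ0 r78 = m3_78 := by
  show ψ0 (r60 * y) = m3_78
  rw [map_mul, t3_60, ψ0_y]; decide
theorem t3_79 : ψ0 r79 = m3_79 := by
  show ψ0 (r61 * x) = m3_79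
  rw [map_mul, t3_61, ψ0_x]; decide
theorem t3_80 : ψ0 r80 = m3_80 := by
  show ψ0 (r61 * y) = m3_80
  rw [map_mul, t3_61, ψ0_y]; decide
theorem t3_81 : ψ0 r81 = m3_81 := by
  show ψ0 (r62 * y) = m3_81
  rw [map_mul, t3_62, ψ0_y]; decide
theorem t3_82 : ψ0 r82 = m3_82 := by
  show ψ0 (r63 * x) = m3_82
  rw [map_mul, t3_63, ψ0_x]; decide
theorem t3_83 : ψ0 r83 = m3_83 := by
  show ψ0 (r63 * y) = m3_83
  rw [map_mul, t3_63, ψ0_y]; decide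
theorem t3_84 : ψ0 r84 = m3_84 := by
  show ψ0 (r64 * y) = m3_84
  rw [map_mul, t3_64, ψ0_y]; decide
theorem t3_85 : ψ0 r85 = m3_85 := by
  show ψ0 (r65 * y) = m3_85
  rw [map_mul, t3_65, ψ0_y]; decide
theorem t3_86 : ψ0 r86 = m3_86 := by
  show ψ0 (r66 * y) = m3_86
  rw [map_mul, t3_66, ψ0_y]; decide
theorem t3_87 : ψ0 r87 = m3_87 := by
  show ψ0 (r67 * y) = m3_87
  rw [map_mul, t3_67, ψ0_y]; decide
theorem t3_88 : ψ0 r88 = m3_88 := by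
  show ψ0 (r68 * x) = m3_88
  rw [map_mul, t3_68, ψ0_x]; decide
theorem t3_89 : ψ0 r89 = m3_89 := by
  show ψ0 (r69 * y) = m3_89
  rw [map_mul, t3_69, ψ0_y]; decide
theorem t3_90 : ψ0 r90 = m3_90 := by
  show ψ0 (r71 * x) = m3_90
  rw [map_mul, t3_71, ψ0_x]; decide
theorem t3_91 : ψ0 r91 = m3_91 := by
  show ψ0 (r73 * x) = m3_91
  rw [map_mul, t3_73, ψ0_x]; decide
theorem t3_92 : ψ0 r92 = m3_92 := by
  show ψ0 (r74 * y) = m3_92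
  rw [map_mul, t3_74, ψ0_y]; decide
theorem t3_93 : ψ0 r93 = m3_93 := by
  show ψ0 (r75 * x) = m3_93
  rw [map_mul, t3_75, ψ0_x]; decide
theorem t3_94 : ψ0 r94 = m3_94 := by
  show ψ0 (r75 * y) = m3_94
  rw [map_mul, t3_75, ψ0_y]; decide
theorem t3_95 : ψ0 r95 = m3_95 := by
  show ψ0 (r76 * y) = m3_95
  rw [map_mul, t3_76, ψ0_y]; decide
theorem t3_96 : ψ0 r96 = m3_96 := by
  show ψ0 (r77 * y) = m3_96
  rw [map_mul, t3_77, ψ0_y]; decide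
theorem t3_97 : ψ0 r97 = m3_97 := by
  show ψ0 (r78 * x) = m3_97
  rw [map_mul, t3_78, ψ0_x]; decide
theorem t3_98 : ψ0 r98 = m3_98 := by
  show ψ0 (r79 * y) = m3_98
  rw [map_mul, t3_79, ψ0_y]; decide
theorem t3_99 : ψ0 r99 = m3_99 := by
  show ψ0 (r81 * x) = m3_99
  rw [map_mul, t3_81, ψ0_x]; decide
theorem t3_100 : ψ0 r100 = m3_100 := by
  show ψ0 (r83 * x) = m3_100
  rw [map_mul, t3_83, ψ0_x]; decide
theorem t3_101 : ψ0 r101 = m3_101 := by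
  show ψ0 (r84 * y) = m3_101
  rw [map_mul, t3_84, ψ0_y]; decide
theorem t3_102 : ψ0 r102 = m3_102 := by
  show ψ0 (r85 * x) = m3_102
  rw [map_mul, t3_85, ψ0_x]; decide
theorem t3_103 : ψ0 r103 = m3_103 := by
  show ψ0 (r85 * y) = m3_103
  rw [map_mul, t3_85, ψ0_y]; decide
theorem t3_104 : ψ0 r104 = m3_104 := by
  show ψ0 (r86 * x) = m3_104
  rw [map_mul, t3_86, ψ0_x]; decide
theorem t3_105 : ψ0 r105 = m3_105 := by
  show ψ0 (r86 * y) = m3_105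
  rw [map_mul, t3_86, ψ0_y]; decide
theorem t3_106 : ψ0 r106 = m3_106 := by
  show ψ0 (r87 * x) = m3_106
  rw [map_mul, t3_87, ψ0_x]; decide
theorem t3_107 : ψ0 r107 = m3_107 := by
  show ψ0 (r87 * y) = m3_107
  rw [map_mul, t3_87, ψ0_y]; decide
theorem t3_108 : ψ0 r108 = m3_108 := by
  show ψ0 (r88 * y) = m3_108
  rw [map_mul, t3_88, ψ0_y]; decide
theorem t3_109 : ψ0 r109 = m3_109 := by
  show ψ0 (r89 * x) = m3_109
  rw [map_mul, t3_89, ψ0_x]; decide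
theorem t3_110 : ψ0 r110 = m3_110 := by
  show ψ0 (r89 * y) = m3_110
  rw [map_mul, t3_89, ψ0_y]; decide
theorem t3_111 : ψ0 r111 = m3_111 := by
  show ψ0 (r90 * y) = m3_111
  rw [map_mul, t3_90, ψ0_y]; decide
theorem t3_112 : ψ0 r112 = m3_112 := by
  show ψ0 (r91 * y) = m3_112
  rw [map_mul, t3_91, ψ0_y]; decide
theorem t3_113 : ψ0 r113 = m3_113 := by
  show ψ0 (r92 * x) = m3_113
  rw [map_mul, t3_92, ψ0_x]; decide
theorem t3_114 : ψ0 r114 = m3_114 := by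
  show ψ0 (r93 * y) = m3_114
  rw [map_mul, t3_93, ψ0_y]; decide
theorem t3_115 : ψ0 r115 = m3_115 := by
  show ψ0 (r95 * x) = m3_115
  rw [map_mul, t3_95, ψ0_x]; decide
theorem t3_116 : ψ0 r116 = m3_116 := by
  show ψ0 (r95 * y) = m3_116
  rw [map_mul, t3_95, ψ0_y]; decide
theorem t3_117 : ψ0 r117 = m3_117 := by
  show ψ0 (r96 * x) = m3_117
  rw [map_mul, t3_96, ψ0_x]; decide
theorem t3_118 : ψ0 r118 = m3_118 := by
  show ψ0 (r96 * y) = m3_118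
  rw [map_mul, t3_96, ψ0_y]; decide
theorem t3_119 : ψ0 r119 = m3_119 := by
  show ψ0 (r97 * y) = m3_119
  rw [map_mul, t3_97, ψ0_y]; decide
theorem t3_120 : ψ0 r120 = m3_120 := by
  show ψ0 (r98 * x) = m3_120
  rw [map_mul, t3_98, ψ0_x]; decide
theorem t3_121 : ψ0 r121 = m3_121 := by
  show ψ0 (r98 * y) = m3_121
  rw [map_mul, t3_98, ψ0_y]; decide
theorem t3_122 : ψ0 r122 = m3_122 := by
  show ψ0 (r99 * y) = m3_122
  rw [map_mul, t3_99, ψ0_y]; decide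
theorem t3_123 : ψ0 r123 = m3_123 := by
  show ψ0 (r100 * y) = m3_123
  rw [map_mul, t3_100, ψ0_y]; decide
theorem t3_124 : ψ0 r124 = m3_124 := by
  show ψ0 (r101 * x) = m3_124
  rw [map_mul, t3_101, ψ0_x]; decide
theorem t3_125 : ψ0 r125 = m3_125 := by
  show ψ0 (r102 * y) = m3_125
  rw [map_mul, t3_102, ψ0_y]; decide
theorem t3_126 : ψ0 r126 = m3_126 := by
  show ψ0 (r104 * y) = m3_126
  rw [map_mul, t3_104, ψ0_y]; decide
theorem t3_127 : ψ0 r127 = m3_127 := by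
  show ψ0 (r105 * x) = m3_127
  rw [map_mul, t3_105, ψ0_x]; decide
theorem t3_128 : ψ0 r128 = m3_128 := by
  show ψ0 (r106 * y) = m3_128
  rw [map_mul, t3_106, ψ0_y]; decide
theorem t3_129 : ψ0 r129 = m3_129 := by
  show ψ0 (r108 * x) = m3_129
  rw [map_mul, t3_108, ψ0_x]; decide
theorem t3_130 : ψ0 r130 = m3_130 := by
  show ψ0 (r110 * x) = m3_130
  rw [map_mul, t3_110, ψ0_x]; decide
theorem t3_131 : ψ0 r131 = m3_131 := by
  show ψ0 (r111 * x) = m3_131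
  rw [map_mul, t3_111, ψ0_x]; decide
theorem t3_132 : ψ0 r132 = m3_132 := by
  show ψ0 (r111 * y) = m3_132
  rw [map_mul, t3_111, ψ0_y]; decide
theorem t3_133 : ψ0 r133 = m3_133 := by
  show ψ0 (r112 * x) = m3_133
  rw [map_mul, t3_112, ψ0_x]; decide
theorem t3_134 : ψ0 r134 = m3_134 := by
  show ψ0 (r112 * y) = m3_134
  rw [map_mul, t3_112, ψ0_y]; decide
theorem t3_135 : ψ0 r135 = m3_135 := by
  show ψ0 (r113 * y) = m3_135
  rw [map_mul, t3_113, ψ0_y]; decide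
theorem t3_136 : ψ0 r136 = m3_136 := by
  show ψ0 (r114 * x) = m3_136
  rw [map_mul, t3_114, ψ0_x]; decide
theorem t3_137 : ψ0 r137 = m3_137 := by
  show ψ0 (r114 * y) = m3_137
  rw [map_mul, t3_114, ψ0_y]; decide
theorem t3_138 : ψ0 r138 = m3_138 := by
  show ψ0 (r115 * y) = m3_138
  rw [map_mul, t3_115, ψ0_y]; decide
theorem t3_139 : ψ0 r139 = m3_139 := by
  show ψ0 (r116 * x) = m3_139
  rw [map_mul, t3_116, ψ0_x]; decide
theorem t3_140 : ψ0 r140 = m3_140 := by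
  show ψ0 (r117 * y) = m3_140
  rw [map_mul, t3_117, ψ0_y]; decide
theorem t3_141 : ψ0 r141 = m3_141 := by
  show ψ0 (r119 * x) = m3_141
  rw [map_mul, t3_119, ψ0_x]; decide
theorem t3_142 : ψ0 r142 = m3_142 := by
  show ψ0 (r121 * x) = m3_142
  rw [map_mul, t3_121, ψ0_x]; decide
theorem t3_143 : ψ0 r143 = m3_143 := by
  show ψ0 (r122 * x) = m3_143
  rw [map_mul, t3_122, ψ0_x]; decide
theorem t3_144 : ψ0 r144 = m3_144 := by
  show ψ0 (r122 * y) = m3_144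
  rw [map_mul, t3_122, ψ0_y]; decide
theorem t3_145 : ψ0 r145 = m3_145 := by
  show ψ0 (r123 * x) = m3_145
  rw [map_mul, t3_123, ψ0_x]; decide
theorem t3_146 : ψ0 r146 = m3_146 := by
  show ψ0 (r123 * y) = m3_146
  rw [map_mul, t3_123, ψ0_y]; decide
theorem t3_147 : ψ0 r147 = m3_147 := by
  show ψ0 (r124 * y) = m3_147
  rw [map_mul, t3_124, ψ0_y]; decide
theorem t3_148 : ψ0 r148 = m3_148 := by
  show ψ0 (r125 * x) = m3_148
  rw [map_mul, t3_125, ψ0_x]; decide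
theorem t3_149 : ψ0 r149 = m3_149 := by
  show ψ0 (r125 * y) = m3_149
  rw [map_mul, t3_125, ψ0_y]; decide
theorem t3_150 : ψ0 r150 = m3_150 := by
  show ψ0 (r126 * x) = m3_150
  rw [map_mul, t3_126, ψ0_x]; decide
theorem t3_151 : ψ0 r151 = m3_151 := by
  show ψ0 (r126 * y) = m3_151
  rw [map_mul, t3_126, ψ0_y]; decide
theorem t3_152 : ψ0 r152 = m3_152 := by
  show ψ0 (r128 * x) = m3_152
  rw [map_mul, t3_128, ψ0_x]; decide
theorem t3_153 : ψ0 r153 = m3_153 := by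
  show ψ0 (r128 * y) = m3_153
  rw [map_mul, t3_128, ψ0_y]; decide
theorem t3_154 : ψ0 r154 = m3_154 := by
  show ψ0 (r129 * y) = m3_154
  rw [map_mul, t3_129, ψ0_y]; decide
theorem t3_155 : ψ0 r155 = m3_155 := by
  show ψ0 (r130 * y) = m3_155
  rw [map_mul, t3_130, ψ0_y]; decide
theorem t3_156 : ψ0 r156 = m3_156 := by
  show ψ0 (r133 * y) = m3_156
  rw [map_mul, t3_133, ψ0_y]; decide
theorem t3_157 : ψ0 r157 = m3_157 := by
  show ψ0 (r134 * x) = m3_157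
  rw [map_mul, t3_134, ψ0_x]; decide
theorem t3_158 : ψ0 r158 = m3_158 := by
  show ψ0 (r135 * x) = m3_158
  rw [map_mul, t3_135, ψ0_x]; decide
theorem t3_159 : ψ0 r159 = m3_159 := by
  show ψ0 (r137 * x) = m3_159
  rw [map_mul, t3_137, ψ0_x]; decide
theorem t3_160 : ψ0 r160 = m3_160 := by
  show ψ0 (r138 * y) = m3_160
  rw [map_mul, t3_138, ψ0_y]; decide
theorem t3_161 : ψ0 r161 = m3_161 := by
  show ψ0 (r141 * y) = m3_161
  rw [map_mul, t3_141, ψ0_y]; decide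
theorem t3_162 : ψ0 r162 = m3_162 := by
  show ψ0 (r142 * y) = m3_162
  rw [map_mul, t3_142, ψ0_y]; decide
theorem t3_163 : ψ0 r163 = m3_163 := by
  show ψ0 (r146 * x) = m3_163
  rw [map_mul, t3_146, ψ0_x]; decide
theorem t3_164 : ψ0 r164 = m3_164 := by
  show ψ0 (r147 * x) = m3_164
  rw [map_mul, t3_147, ψ0_x]; decide
theorem t3_165 : ψ0 r165 = m3_165 := by
  show ψ0 (r149 * x) = m3_165
  rw [map_mul, t3_149, ψ0_x]; decide
theorem t3_166 : ψ0 r166 = m3_166 := by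
  show ψ0 (r155 * x) = m3_166
  rw [map_mul, t3_155, ψ0_x]; decide
theorem t3_167 : ψ0 r167 = m3_167 := by
  show ψ0 (r162 * x) = m3_167
  rw [map_mul, t3_162, ψ0_x]; decide
def M3 : Fin 168 → SL3
  | ⟨0, _⟩ => m3_0
  | ⟨1, _⟩ => m3_1
  | ⟨2, _⟩ => m3_2
  | ⟨3, _⟩ => m3_3
  | ⟨4, _⟩ => m3_4
  | ⟨5, _⟩ => m3_5
  | ⟨6, _⟩ => m3_6
  | ⟨7, _⟩ => m3_7
  | ⟨8, _⟩ => m3_8
  | ⟨9, _⟩ => m3_9
  | ⟨10, _⟩ => m3_10
  | ⟨11, _⟩ => m3_11
  | ⟨12, _⟩ => m3_12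
  | ⟨13, _⟩ => m3_13
  | ⟨14, _⟩ => m3_14
  | ⟨15, _⟩ => m3_15
  | ⟨16, _⟩ => m3_16
  | ⟨17, _⟩ => m3_17
  | ⟨18, _⟩ => m3_18
  | ⟨19, _⟩ => m3_19
  | ⟨20, _⟩ => m3_20
  | ⟨21, _⟩ => m3_21
  | ⟨22, _⟩ => m3_22
  | ⟨23, _⟩ => m3_23
  | ⟨24, _⟩ => m3_24
  | ⟨25, _⟩ => m3_25
  | ⟨26, _⟩ => m3_26
  | ⟨27, _⟩ => m3_27
  | ⟨28, _⟩ => m3_28
  | ⟨29, _⟩ => m3_29
  | ⟨30, _⟩ => m3_30
  | ⟨31, _⟩ => m3_31
  | ⟨32, _⟩ => m3_32
  | ⟨33, _⟩ => m3_33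
  | ⟨34, _⟩ => m3_34
  | ⟨35, _⟩ => m3_35
  | ⟨36, _⟩ => m3_36
  | ⟨37, _⟩ => m3_37
  | ⟨38, _⟩ => m3_38
  | ⟨39, _⟩ => m3_39
  | ⟨40, _⟩ => m3_40
  | ⟨41, _⟩ => m3_41
  | ⟨42, _⟩ => m3_42
  | ⟨43, _⟩ => m3_43
  | ⟨44, _⟩ => m3_44
  | ⟨45, _⟩ => m3_45
  | ⟨46, _⟩ => m3_46
  | ⟨47, _⟩ => m3_47
  | ⟨48, _⟩ => m3_48
  | ⟨49, _⟩ => m3_49
  | ⟨50, _⟩ => m3_50
  | ⟨51, _⟩ => m3_51
  | ⟨52, _⟩ => m3_52
  | ⟨53, _⟩ => m3_53
  | ⟨54, _⟩ => m3_54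
  | ⟨55, _⟩ => m3_55
  | ⟨56, _⟩ => m3_56
  | ⟨57, _⟩ => m3_57
  | ⟨58, _⟩ => m3_58
  | ⟨59, _⟩ => m3_59
  | ⟨60, _⟩ => m3_60
  | ⟨61, _⟩ => m3_61
  | ⟨62, _⟩ => m3_62
  | ⟨63, _⟩ => m3_63
  | ⟨64, _⟩ => m3_64
  | ⟨65, _⟩ => m3_65
  | ⟨66, _⟩ => m3_66
  | ⟨67, _⟩ => m3_67
  | ⟨68, _⟩ => m3_68
  | ⟨69, _⟩ => m3_69
  | ⟨70, _⟩ => m3_70
  | ⟨71, _⟩ => m3_71
  | ⟨72, _⟩ => m3_72
  | ⟨73, _⟩ => m3_73
  | ⟨74, _⟩ => m3_74
  | ⟨75, _⟩ => m3_75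
  | ⟨76, _⟩ => m3_76
  | ⟨77, _⟩ => m3_77
  | ⟨78, _⟩ => m3_78
  | ⟨79, _⟩ => m3_79
  | ⟨80, _⟩ => m3_80
  | ⟨81, _⟩ => m3_81
  | ⟨82, _⟩ => m3_82
  | ⟨83, _⟩ => m3_83
  | ⟨84, _⟩ => m3_84
  | ⟨85, _⟩ => m3_85
  | ⟨86, _⟩ => m3_86
  | ⟨87, _⟩ => m3_87
  | ⟨88, _⟩ => m3_88
  | ⟨89, _⟩ => m3_89
  | ⟨90, _⟩ => m3_90
  | ⟨91, _⟩ => m3_91
  | ⟨92, _⟩ => m3_92
  | ⟨93, _⟩ => m3_93
  | ⟨94, _⟩ => m3_94
  | ⟨95, _⟩ => m3_95
  | ⟨96, _⟩ => m3_96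
  | ⟨97, _⟩ => m3_97
  | ⟨98, _⟩ => m3_98
  | ⟨99, _⟩ => m3_99
  | ⟨100, _⟩ => m3_100
  | ⟨101, _⟩ => m3_101
  | ⟨102, _⟩ => m3_102
  | ⟨103, _⟩ => m3_103
  | ⟨104, _⟩ => m3_104
  | ⟨105, _⟩ => m3_105
  | ⟨106, _⟩ => m3_106
  | ⟨107, _⟩ => m3_107
  | ⟨108, _⟩ => m3_108
  | ⟨109, _⟩ => m3_109
  | ⟨110, _⟩ => m3_110
  | ⟨111, _⟩ => m3_111
  | ⟨112, _⟩ => m3_112
  | ⟨113, _⟩ => m3_113
  | ⟨114, _⟩ => m3_114
  | ⟨115, _⟩ => m3_115
  | ⟨116, _⟩ => m3_116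
  | ⟨117, _⟩ => m3_117
  | ⟨118, _⟩ => m3_118
  | ⟨119, _⟩ => m3_119
  | ⟨120, _⟩ => m3_120
  | ⟨121, _⟩ => m3_121
  | ⟨122, _⟩ => m3_122
  | ⟨123, _⟩ => m3_123
  | ⟨124, _⟩ => m3_124
  | ⟨125, _⟩ => m3_125
  | ⟨126, _⟩ => m3_126
  | ⟨127, _⟩ => m3_127
  | ⟨128, _⟩ => m3_128
  | ⟨129, _⟩ => m3_129
  | ⟨130, _⟩ => m3_130
  | ⟨131, _⟩ => m3_131
  | ⟨132, _⟩ => m3_132
  | ⟨133, _⟩ => m3_133
  | ⟨134, _⟩ => m3_134
  | ⟨135, _⟩ => m3_135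
  | ⟨136, _⟩ => m3_136
  | ⟨137, _⟩ => m3_137
  | ⟨138, _⟩ => m3_138
  | ⟨139, _⟩ => m3_139
  | ⟨140, _⟩ => m3_140
  | ⟨141, _⟩ => m3_141
  | ⟨142, _⟩ => m3_142
  | ⟨143, _⟩ => m3_143
  | ⟨144, _⟩ => m3_144
  | ⟨145, _⟩ => m3_145
  | ⟨146, _⟩ => m3_146
  | ⟨147, _⟩ => m3_147
  | ⟨148, _⟩ => m3_148
  | ⟨149, _⟩ => m3_149
  | ⟨150, _⟩ => m3_150
  | ⟨151, _⟩ => m3_151
  | ⟨152, _⟩ => m3_152
  | ⟨153, _⟩ => m3_153
  | ⟨154, _⟩ => m3_154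
  | ⟨155, _⟩ => m3_155
  | ⟨156, _⟩ => m3_156
  | ⟨157, _⟩ => m3_157
  | ⟨158, _⟩ => m3_158
  | ⟨159, _⟩ => m3_159
  | ⟨160, _⟩ => m3_160
  | ⟨161, _⟩ => m3_161
  | ⟨162, _⟩ => m3_162
  | ⟨163, _⟩ => m3_163
  | ⟨164, _⟩ => m3_164
  | ⟨165, _⟩ => m3_165
  | ⟨166, _⟩ => m3_166
  | ⟨167, _⟩ => m3_167
  | ⟨n+168, h⟩ => absurd h (by omega)
theorem ψ0_rep : ∀ i : Fin 168, ψ0 (rep i) = M3 i
  | ⟨0, _⟩ => t3_0
  | ⟨1, _⟩ => t3_1
  | ⟨2, _⟩ => t3_2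
  | ⟨3, _⟩ => t3_3
  | ⟨4, _⟩ => t3_4
  | ⟨5, _⟩ => t3_5
  | ⟨6, _⟩ => t3_6
  | ⟨7, _⟩ => t3_7
  | ⟨8, _⟩ => t3_8
  | ⟨9, _⟩ => t3_9
  | ⟨10, _⟩ => t3_10
  | ⟨11, _⟩ => t3_11
  | ⟨12, _⟩ => t3_12
  | ⟨13, _⟩ => t3_13
  | ⟨14, _⟩ => t3_14
  | ⟨15, _⟩ => t3_15
  | ⟨16, _⟩ => t3_16
  | ⟨17, _⟩ => t3_17
  | ⟨18, _⟩ => t3_18
  | ⟨19, _⟩ => t3_19
  | ⟨20, _⟩ => t3_20
  | ⟨21, _⟩ => t3_21
  | ⟨22, _⟩ => t3_22
  | ⟨23, _⟩ => t3_23
  | ⟨24, _⟩ => t3_24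
  | ⟨25, _⟩ => t3_25
  | ⟨26, _⟩ => t3_26
  | ⟨27, _⟩ => t3_27
  | ⟨28, _⟩ => t3_28
  | ⟨29, _⟩ => t3_29
  | ⟨30, _⟩ => t3_30
  | ⟨31, _⟩ => t3_31
  | ⟨32, _⟩ => t3_32
  | ⟨33, _⟩ => t3_33
  | ⟨34, _⟩ => t3_34
  | ⟨35, _⟩ => t3_35
  | ⟨36, _⟩ => t3_36
  | ⟨37, _⟩ => t3_37
  | ⟨38, _⟩ => t3_38
  | ⟨39, _⟩ => t3_39
  | ⟨40, _⟩ => t3_40
  | ⟨41, _⟩ => t3_41
  | ⟨42, _⟩ => t3_42
  | ⟨43, _⟩ => t3_43
  | ⟨44, _⟩ => t3_44
  | ⟨45, _⟩ => t3_45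
  | ⟨46, _⟩ => t3_46
  | ⟨47, _⟩ => t3_47
  | ⟨48, _⟩ => t3_48
  | ⟨49, _⟩ => t3_49
  | ⟨50, _⟩ => t3_50
  | ⟨51, _⟩ => t3_51
  | ⟨52, _⟩ => t3_52
  | ⟨53, _⟩ => t3_53
  | ⟨54, _⟩ => t3_54
  | ⟨55, _⟩ => t3_55
  | ⟨56, _⟩ => t3_56
  | ⟨57, _⟩ => t3_57
  | ⟨58, _⟩ => t3_58
  | ⟨59, _⟩ => t3_59
  | ⟨60, _⟩ => t3_60
  | ⟨61, _⟩ => t3_61
  | ⟨62, _⟩ => t3_62
  | ⟨63, _⟩ => t3_63
  | ⟨64, _⟩ => t3_64
  | ⟨65, _⟩ => t3_65
  | ⟨66, _⟩ => t3_66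
  | ⟨67, _⟩ => t3_67
  | ⟨68, _⟩ => t3_68
  | ⟨69, _⟩ => t3_69
  | ⟨70, _⟩ => t3_70
  | ⟨71, _⟩ => t3_71
  | ⟨72, _⟩ => t3_72
  | ⟨73, _⟩ => t3_73
  | ⟨74, _⟩ => t3_74
  | ⟨75, _⟩ => t3_75
  | ⟨76, _⟩ => t3_76
  | ⟨77, _⟩ => t3_77
  | ⟨78, _⟩ => t3_78
  | ⟨79, _⟩ => t3_79
  | ⟨80, _⟩ => t3_80
  | ⟨81, _⟩ => t3_81
  | ⟨82, _⟩ => t3_82
  | ⟨83, _⟩ => t3_83
  | ⟨84, _⟩ => t3_84
  | ⟨85, _⟩ => t3_85
  | ⟨86, _⟩ => t3_86
  | ⟨87, _⟩ => t3_87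
  | ⟨88, _⟩ => t3_88
  | ⟨89, _⟩ => t3_89
  | ⟨90, _⟩ => t3_90
  | ⟨91, _⟩ => t3_91
  | ⟨92, _⟩ => t3_92
  | ⟨93, _⟩ => t3_93
  | ⟨94, _⟩ => t3_94
  | ⟨95, _⟩ => t3_95
  | ⟨96, _⟩ => t3_96
  | ⟨97, _⟩ => t3_97
  | ⟨98, _⟩ => t3_98
  | ⟨99, _⟩ => t3_99
  | ⟨100, _⟩ => t3_100
  | ⟨101, _⟩ => t3_101
  | ⟨102, _⟩ => t3_102
  | ⟨103, _⟩ => t3_103
  | ⟨104, _⟩ => t3_104
  | ⟨105, _⟩ => t3_105
  | ⟨106, _⟩ => t3_106
  | ⟨107, _⟩ => t3_107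
  | ⟨108, _⟩ => t3_108
  | ⟨109, _⟩ => t3_109
  | ⟨110, _⟩ => t3_110
  | ⟨111, _⟩ => t3_111
  | ⟨112, _⟩ => t3_112
  | ⟨113, _⟩ => t3_113
  | ⟨114, _⟩ => t3_114
  | ⟨115, _⟩ => t3_115
  | ⟨116, _⟩ => t3_116
  | ⟨117, _⟩ => t3_117
  | ⟨118, _⟩ => t3_118
  | ⟨119, _⟩ => t3_119
  | ⟨120, _⟩ => t3_120
  | ⟨121, _⟩ => t3_121
  | ⟨122, _⟩ => t3_122
  | ⟨123, _⟩ => t3_123
  | ⟨124, _⟩ => t3_124
  | ⟨125, _⟩ => t3_125
  | ⟨126, _⟩ => t3_126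
  | ⟨127, _⟩ => t3_127
  | ⟨128, _⟩ => t3_128
  | ⟨129, _⟩ => t3_129
  | ⟨130, _⟩ => t3_130
  | ⟨131, _⟩ => t3_131
  | ⟨132, _⟩ => t3_132
  | ⟨133, _⟩ => t3_133
  | ⟨134, _⟩ => t3_134
  | ⟨135, _⟩ => t3_135
  | ⟨136, _⟩ => t3_136
  | ⟨137, _⟩ => t3_137
  | ⟨138, _⟩ => t3_138
  | ⟨139, _⟩ => t3_139
  | ⟨140, _⟩ => t3_140
  | ⟨141, _⟩ => t3_141
  | ⟨142, _⟩ => t3_142
  | ⟨143, _⟩ => t3_143
  | ⟨144, _⟩ => t3_144
  | ⟨145, _⟩ => t3_145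
  | ⟨146, _⟩ => t3_146
  | ⟨147, _⟩ => t3_147
  | ⟨148, _⟩ => t3_148
  | ⟨149, _⟩ => t3_149
  | ⟨150, _⟩ => t3_150
  | ⟨151, _⟩ => t3_151
  | ⟨152, _⟩ => t3_152
  | ⟨153, _⟩ => t3_153
  | ⟨154, _⟩ => t3_154
  | ⟨155, _⟩ => t3_155
  | ⟨156, _⟩ => t3_156
  | ⟨157, _⟩ => t3_157
  | ⟨158, _⟩ => t3_158
  | ⟨159, _⟩ => t3_159
  | ⟨160, _⟩ => t3_160
  | ⟨161, _⟩ => t3_161
  | ⟨162, _⟩ => t3_162
  | ⟨163, _⟩ => t3_163
  | ⟨164, _⟩ => t3_164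
  | ⟨165, _⟩ => t3_165
  | ⟨166, _⟩ => t3_166
  | ⟨167, _⟩ => t3_167
  | ⟨n+168, h⟩ => absurd h (by omega)
def codes3 : List ℕ := [273, 84, 234, 171, 426, 461, 174, 335, 397, 485, 334, 359, 229, 401, 281, 355, 86, 92, 473, 212, 116, 250, 95, 275, 305, 187, 500, 314, 491, 179, 442, 311, 188, 239, 242, 190, 307, 122, 494, 271, 158, 375, 421, 244, 185, 431, 460, 410, 501, 358, 94, 247, 165, 270, 103, 382, 351, 205, 409, 499, 354, 396, 481, 445, 477, 331, 415, 141, 345, 99, 214, 156, 379, 102, 124, 465, 478, 330, 93, 225, 403, 282, 253, 417, 313, 87, 444, 337, 372, 159, 177, 267, 163, 468, 298, 318, 85, 309, 474, 114, 204, 226, 279, 172, 249, 419, 340, 106, 115, 183, 380, 370, 215, 142, 299, 123, 230, 277, 169, 241, 498, 317, 181, 467, 394, 236, 482, 206, 107, 286, 377, 346, 117, 407, 492, 342, 110, 207, 167, 395, 233, 412, 125, 157, 369, 470, 303, 405, 425,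 459, 458, 285, 302, 143, 254, 98, 428, 489, 339, 423, 348, 443, 161, 111, 213, 486, 266, 140]

def enc3 (A : SL3) : ℕ :=
  (A.1 0 0).val + 2 * (A.1 0 1).val + 4 * (A.1 0 2).val + 8 * (A.1 1 0).val + 16 * (A.1 1 1).val
    + 32 * (A.1 1 2).val + 64 * (A.1 2 0).val + 128 * (A.1 2 1).val + 256 * (A.1 2 2).val

set_option maxRecDepth 100000 in
theorem dec3_M3 : ∀ i : Fin 168, codes3.idxOf (enc3 (M3 i)) = i.val := by decide

theorem ψ0_rep_inj : ∀ i j : Fin 168, ψ0 (rep i) = ψ0 (rep j) → i = j := by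
  intro i j h
  rw [ψ0_rep, ψ0_rep] at h
  have h1 := dec3_M3 i
  rw [h, dec3_M3 j] at h1
  exact Fin.ext h1.symm

theorem rep_inj : Function.Injective rep := by
  intro i j h
  exact ψ0_rep_inj i j (by rw [h])

theorem card_P : Nat.card P = 168 := by
  rw [← Nat.card_congr (Equiv.ofBijective rep ⟨rep_inj, rep_surj⟩), Nat.card_fin]

instance finite_P : Finite P := Finite.of_surjective rep rep_surj

theorem ψ0_inj : Function.Injective ψ0 := by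
  intro p p' h
  obtain ⟨i, rfl⟩ := rep_surj p
  obtain ⟨j, rfl⟩ := rep_surj p'
  rw [ψ0_rep_inj i j h]

/-! ### Target 2: `PSL(2, F)` for a field `F` receiving `ZMod 7` -/

abbrev S7 := Matrix.SpecialLinearGroup (Fin 2) (ZMod 7)

def gA : S7 := ⟨!![0, 6; 1, 0], by rw [Matrix.det_fin_two]; decide⟩
def gB : S7 := ⟨!![0, 1; 6, 6], by rw [Matrix.det_fin_two]; decide⟩
def negOne : S7 := ⟨!![6, 0; 0, 6], by rw [Matrix.det_fin_two]; decide⟩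

section target7

variable {F : Type*} [Field F] (f : ZMod 7 →+* F)

/-- `SL(2, ZMod 7) → PSL(2, F)`. -/
noncomputable def q : S7 →* Matrix.ProjectiveSpecialLinearGroup (Fin 2) F :=
  (QuotientGroup.mk' (Subgroup.center (Matrix.SpecialLinearGroup (Fin 2) F))).comp
    (Matrix.SpecialLinearGroup.map f)

theorem q_eq_one_iff (m : S7) :
    q f m = 1 ↔ Matrix.SpecialLinearGroup.map f m ∈
      Subgroup.center (Matrix.SpecialLinearGroup (Fin 2) F) := by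
  unfold q
  rw [MonoidHom.comp_apply, QuotientGroup.mk'_apply, QuotientGroup.eq_one_iff]

theorem q_negOne : q f negOne = 1 := by
  rw [q_eq_one_iff, Matrix.SpecialLinearGroup.mem_center_iff]
  refine ⟨f 6, ?_, ?_⟩
  · rw [Fintype.card_fin, ← map_pow]
    have : (6 : ZMod 7) ^ 2 = 1 := by decide
    rw [this, map_one]
  · have e : ∀ i j, (Matrix.SpecialLinearGroup.map f negOne).1 i j = f (negOne.1 i j) :=
      fun i j => rfl
    ext i j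
    rw [e]
    fin_cases i <;> fin_cases j <;> simp [negOne, Matrix.scalar_apply]

theorem q_scalar (m : S7) (h : q f m = 1) :
    m.1 0 1 = 0 ∧ m.1 1 0 = 0 ∧ m.1 0 0 = m.1 1 1 := by
  rw [q_eq_one_iff, Matrix.SpecialLinearGroup.mem_center_iff] at h
  obtain ⟨r, -, hr⟩ := h
  haveI : Fact (Nat.Prime 7) := ⟨by norm_num⟩
  have hinj : Function.Injective f := RingHom.injective f
  have e : ∀ i j, Matrix.scalar (Fin 2) r i j = f (m.1 i j) := by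
    intro i j
    rw [hr]
    rfl
  refine ⟨?_, ?_, ?_⟩
  · apply hinj
    rw [← e 0 1, map_zero]
    simp [Matrix.scalar_apply]
  · apply hinj
    rw [← e 1 0, map_zero]
    simp [Matrix.scalar_apply]
  · apply hinj
    rw [← e 0 0, ← e 1 1]
    simp [Matrix.scalar_apply]

theorem hA2 : gA ^ 2 = negOne := by decide
theorem hB3 : gB ^ 3 = 1 := by decide
theorem hAB7 : (gA * gB) ^ 7 = 1 := by decide
theorem hC4 : (gA * gB * gA * gB * gB) ^ 4 = negOne := by decide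

theorem lift_rel7 : ∀ r ∈ rels, FreeGroup.lift ![q f gA, q f gB] r = 1 := by
  intro r hr
  simp only [rels, Set.mem_insert_iff, Set.mem_singleton_iff] at hr
  rcases hr with rfl | rfl | rfl | rfl
  · simp only [map_pow, map_mul, FreeGroup.lift_apply_of]
    show q f gA ^ 2 = 1
    rw [← map_pow, hA2, q_negOne]
  · simp only [map_pow, map_mul, FreeGroup.lift_apply_of]
    show q f gB ^ 3 = 1
    rw [← map_pow, hB3, map_one]
  · simp only [map_pow, map_mul, FreeGroup.lift_apply_of]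
    show (q f gA * q f gB) ^ 7 = 1
    rw [← map_mul, ← map_pow, hAB7, map_one]
  · simp only [map_pow, map_mul, FreeGroup.lift_apply_of]
    show (q f gA * q f gB * q f gA * q f gB * q f gB) ^ 4 = 1
    rw [← map_mul, ← map_mul, ← map_mul, ← map_mul, ← map_pow, hC4, q_negOne]

noncomputable def Φ : P →* Matrix.ProjectiveSpecialLinearGroup (Fin 2) F :=
  PresentedGroup.toGroup (lift_rel7 f)

theorem Φ_x : Φ f x = q f gA := by simp [Φ, x]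
theorem Φ_y : Φ f y = q f gB := by simp [Φ, y]

def m7_0 : S7 := ⟨!![1, 0; 0, 1], by rw [Matrix.det_fin_two]; decide⟩
def m7_1 : S7 := ⟨!![0, 6; 1, 0], by rw [Matrix.det_fin_two]; decide⟩
def m7_2 : S7 := ⟨!![0, 1; 6, 6], by rw [Matrix.det_fin_two]; decide⟩
def m7_3 : S7 := ⟨!![1, 1; 0, 1], by rw [Matrix.det_fin_two]; decide⟩
def m7_4 : S7 := ⟨!![1, 0; 6, 1], by rw [Matrix.det_fin_two]; decide⟩
def m7_5 : S7 := ⟨!![6, 6; 1, 0], by rw [Matrix.det_fin_two]; decide⟩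
def m7_6 : S7 := ⟨!![1, 6; 1, 0], by rw [Matrix.det_fin_two]; decide⟩
def m7_7 : S7 := ⟨!![6, 0; 6, 6], by rw [Matrix.det_fin_two]; decide⟩
def m7_8 : S7 := ⟨!![0, 1; 6, 5], by rw [Matrix.det_fin_two]; decide⟩
def m7_9 : S7 := ⟨!![6, 1; 0, 6], by rw [Matrix.det_fin_two]; decide⟩
def m7_10 : S7 := ⟨!![1, 2; 0, 1], by rw [Matrix.det_fin_two]; decide⟩
def m7_11 : S7 := ⟨!![0, 1; 6, 1], by rw [Matrix.det_fin_two]; decide⟩
def m7_12 : S7 := ⟨!![1, 0; 5, 1], by rw [Matrix.det_fin_two]; decide⟩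
def m7_13 : S7 := ⟨!![6, 6; 2, 1], by rw [Matrix.det_fin_two]; decide⟩
def m7_14 : S7 := ⟨!![6, 5; 1, 1], by rw [Matrix.det_fin_two]; decide⟩
def m7_15 : S7 := ⟨!![2, 6; 1, 0], by rw [Matrix.det_fin_two]; decide⟩
def m7_16 : S7 := ⟨!![5, 6; 6, 6], by rw [Matrix.det_fin_two]; decide⟩
def m7_17 : S7 := ⟨!![6, 6; 6, 5], by rw [Matrix.det_fin_two]; decide⟩
def m7_18 : S7 := ⟨!![0, 1; 6, 4], by rw [Matrix.det_fin_two]; decide⟩
def m7_19 : S7 := ⟨!![6, 1; 1, 5], by rw [Matrix.det_fin_two]; decide⟩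
def m7_20 : S7 := ⟨!![5, 1; 1, 6], by rw [Matrix.det_fin_two]; decide⟩
def m7_21 : S7 := ⟨!![2, 1; 6, 0], by rw [Matrix.det_fin_two]; decide⟩
def m7_22 : S7 := ⟨!![1, 3; 0, 1], by rw [Matrix.det_fin_two]; decide⟩
def m7_23 : S7 := ⟨!![6, 2; 6, 1], by rw [Matrix.det_fin_two]; decide⟩
def m7_24 : S7 := ⟨!![6, 1; 5, 1], by rw [Matrix.det_fin_two]; decide⟩
def m7_25 : S7 := ⟨!![1, 0; 2, 1], by rw [Matrix.det_fin_two]; decide⟩
def m7_26 : S7 := ⟨!![1, 0; 4, 1], by rw [Matrix.det_fin_two]; decide⟩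
def m7_27 : S7 := ⟨!![6, 6; 3, 2], by rw [Matrix.det_fin_two]; decide⟩
def m7_28 : S7 := ⟨!![6, 5; 2, 3], by rw [Matrix.det_fin_two]; decide⟩
def m7_29 : S7 := ⟨!![6, 4; 1, 2], by rw [Matrix.det_fin_two]; decide⟩
def m7_30 : S7 := ⟨!![1, 5; 0, 1], by rw [Matrix.det_fin_two]; decide⟩
def m7_31 : S7 := ⟨!![3, 6; 1, 0], by rw [Matrix.det_fin_two]; decide⟩
def m7_32 : S7 := ⟨!![4, 5; 6, 6], by rw [Matrix.det_fin_two]; decide⟩
def m7_33 : S7 := ⟨!![5, 4; 6, 5], by rw [Matrix.det_fin_two]; decide⟩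
def m7_34 : S7 := ⟨!![6, 5; 6, 4], by rw [Matrix.det_fin_two]; decide⟩
def m7_35 : S7 := ⟨!![0, 6; 1, 5], by rw [Matrix.det_fin_two]; decide⟩
def m7_36 : S7 := ⟨!![0, 1; 6, 3], by rw [Matrix.det_fin_two]; decide⟩
def m7_37 : S7 := ⟨!![6, 1; 2, 4], by rw [Matrix.det_fin_two]; decide⟩
def m7_38 : S7 := ⟨!![5, 1; 3, 5], by rw [Matrix.det_fin_two]; decide⟩
def m7_39 : S7 := ⟨!![2, 1; 4, 6], by rw [Matrix.det_fin_two]; decide⟩
def m7_40 : S7 := ⟨!![4, 1; 2, 6], by rw [Matrix.det_fin_two]; decide⟩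
def m7_41 : S7 := ⟨!![3, 2; 5, 6], by rw [Matrix.det_fin_two]; decide⟩
def m7_42 : S7 := ⟨!![2, 3; 6, 6], by rw [Matrix.det_fin_two]; decide⟩
def m7_43 : S7 := ⟨!![1, 4; 0, 1], by rw [Matrix.det_fin_two]; decide⟩
def m7_44 : S7 := ⟨!![5, 3; 6, 1], by rw [Matrix.det_fin_two]; decide⟩
def m7_45 : S7 := ⟨!![4, 2; 5, 1], by rw [Matrix.det_fin_two]; decide⟩
def m7_46 : S7 := ⟨!![3, 1; 2, 1], by rw [Matrix.det_fin_two]; decide⟩
def m7_47 : S7 := ⟨!![5, 1; 4, 1], by rw [Matrix.det_fin_two]; decide⟩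
def m7_48 : S7 := ⟨!![2, 1; 3, 2], by rw [Matrix.det_fin_two]; decide⟩
def m7_49 : S7 := ⟨!![1, 1; 2, 3], by rw [Matrix.det_fin_two]; decide⟩
def m7_50 : S7 := ⟨!![1, 0; 3, 1], by rw [Matrix.det_fin_two]; decide⟩
def m7_51 : S7 := ⟨!![6, 6; 4, 3], by rw [Matrix.det_fin_two]; decide⟩
def m7_52 : S7 := ⟨!![6, 5; 3, 5], by rw [Matrix.det_fin_two]; decide⟩
def m7_53 : S7 := ⟨!![6, 4; 2, 5], by rw [Matrix.det_fin_two]; decide⟩
def m7_54 : S7 := ⟨!![1, 5; 6, 3], by rw [Matrix.det_fin_two]; decide⟩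
def m7_55 : S7 := ⟨!![6, 3; 1, 3], by rw [Matrix.det_fin_two]; decide⟩
def m7_56 : S7 := ⟨!![2, 4; 6, 2], by rw [Matrix.det_fin_two]; decide⟩
def m7_57 : S7 := ⟨!![3, 5; 6, 1], by rw [Matrix.det_fin_two]; decide⟩
def m7_58 : S7 := ⟨!![4, 6; 1, 0], by rw [Matrix.det_fin_two]; decide⟩
def m7_59 : S7 := ⟨!![3, 4; 6, 6], by rw [Matrix.det_fin_two]; decide⟩
def m7_60 : S7 := ⟨!![4, 2; 6, 5], by rw [Matrix.det_fin_two]; decide⟩
def m7_61 : S7 := ⟨!![5, 2; 6, 4], by rw [Matrix.det_fin_two]; decide⟩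
def m7_62 : S7 := ⟨!![1, 4; 1, 5], by rw [Matrix.det_fin_two]; decide⟩
def m7_63 : S7 := ⟨!![6, 4; 6, 3], by rw [Matrix.det_fin_two]; decide⟩
def m7_64 : S7 := ⟨!![1, 5; 2, 4], by rw [Matrix.det_fin_two]; decide⟩
def m7_65 : S7 := ⟨!![1, 6; 3, 5], by rw [Matrix.det_fin_two]; decide⟩
def m7_66 : S7 := ⟨!![6, 1; 3, 3], by rw [Matrix.det_fin_two]; decide⟩
def m7_67 : S7 := ⟨!![5, 1; 5, 4], by rw [Matrix.det_fin_two]; decide⟩
def m7_68 : S7 := ⟨!![2, 1; 2, 5], by rw [Matrix.det_fin_two]; decide⟩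
def m7_69 : S7 := ⟨!![4, 1; 5, 5], by rw [Matrix.det_fin_two]; decide⟩
def m7_70 : S7 := ⟨!![3, 2; 2, 4], by rw [Matrix.det_fin_two]; decide⟩
def m7_71 : S7 := ⟨!![2, 3; 4, 3], by rw [Matrix.det_fin_two]; decide⟩
def m7_72 : S7 := ⟨!![3, 1; 3, 6], by rw [Matrix.det_fin_two]; decide⟩
def m7_73 : S7 := ⟨!![4, 3; 4, 5], by rw [Matrix.det_fin_two]; decide⟩
def m7_74 : S7 := ⟨!![3, 5; 5, 4], by rw [Matrix.det_fin_two]; decide⟩
def m7_75 : S7 := ⟨!![2, 5; 6, 5], by rw [Matrix.det_fin_two]; decide⟩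
def m7_76 : S7 := ⟨!![4, 4; 6, 1], by rw [Matrix.det_fin_two]; decide⟩
def m7_77 : S7 := ⟨!![2, 3; 5, 1], by rw [Matrix.det_fin_two]; decide⟩
def m7_78 : S7 := ⟨!![5, 2; 2, 1], by rw [Matrix.det_fin_two]; decide⟩
def m7_79 : S7 := ⟨!![2, 2; 4, 1], by rw [Matrix.det_fin_two]; decide⟩
def m7_80 : S7 := ⟨!![5, 3; 3, 2], by rw [Matrix.det_fin_two]; decide⟩
def m7_81 : S7 := ⟨!![3, 4; 2, 3], by rw [Matrix.det_fin_two]; decide⟩
def m7_82 : S7 := ⟨!![4, 1; 3, 1], by rw [Matrix.det_fin_two]; decide⟩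
def m7_83 : S7 := ⟨!![3, 2; 4, 3], by rw [Matrix.det_fin_two]; decide⟩
def m7_84 : S7 := ⟨!![2, 3; 3, 5], by rw [Matrix.det_fin_two]; decide⟩
def m7_85 : S7 := ⟨!![1, 2; 2, 5], by rw [Matrix.det_fin_two]; decide⟩
def m7_86 : S7 := ⟨!![6, 5; 4, 0], by rw [Matrix.det_fin_two]; decide⟩
def m7_87 : S7 := ⟨!![6, 4; 3, 1], by rw [Matrix.det_fin_two]; decide⟩
def m7_88 : S7 := ⟨!![1, 5; 5, 5], by rw [Matrix.det_fin_two]; decide⟩
def m7_89 : S7 := ⟨!![6, 3; 2, 0], by rw [Matrix.det_fin_two]; decide⟩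
def m7_90 : S7 := ⟨!![3, 5; 3, 3], by rw [Matrix.det_fin_two]; decide⟩
def m7_91 : S7 := ⟨!![3, 3; 5, 3], by rw [Matrix.det_fin_two]; decide⟩
def m7_92 : S7 := ⟨!![2, 5; 3, 1], by rw [Matrix.det_fin_two]; decide⟩
def m7_93 : S7 := ⟨!![5, 5; 5, 1], by rw [Matrix.det_fin_two]; decide⟩
def m7_94 : S7 := ⟨!![2, 4; 2, 1], by rw [Matrix.det_fin_two]; decide⟩
def m7_95 : S7 := ⟨!![3, 0; 6, 5], by rw [Matrix.det_fin_two]; decide⟩
def m7_96 : S7 := ⟨!![4, 6; 6, 4], by rw [Matrix.det_fin_two]; decide⟩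
def m7_97 : S7 := ⟨!![2, 2; 1, 5], by rw [Matrix.det_fin_two]; decide⟩
def m7_98 : S7 := ⟨!![5, 0; 6, 3], by rw [Matrix.det_fin_two]; decide⟩
def m7_99 : S7 := ⟨!![4, 4; 3, 5], by rw [Matrix.det_fin_two]; decide⟩
def m7_100 : S7 := ⟨!![2, 4; 3, 3], by rw [Matrix.det_fin_two]; decide⟩
def m7_101 : S7 := ⟨!![4, 6; 2, 5], by rw [Matrix.det_fin_two]; decide⟩
def m7_102 : S7 := ⟨!![2, 6; 5, 5], by rw [Matrix.det_fin_two]; decide⟩
def m7_103 : S7 := ⟨!![5, 6; 2, 4], by rw [Matrix.det_fin_two]; decide⟩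
def m7_104 : S7 := ⟨!![5, 1; 0, 3], by rw [Matrix.det_fin_two]; decide⟩
def m7_105 : S7 := ⟨!![2, 1; 0, 4], by rw [Matrix.det_fin_two]; decide⟩
def m7_106 : S7 := ⟨!![4, 1; 1, 4], by rw [Matrix.det_fin_two]; decide⟩
def m7_107 : S7 := ⟨!![3, 2; 6, 2], by rw [Matrix.det_fin_two]; decide⟩
def m7_108 : S7 := ⟨!![2, 3; 2, 0], by rw [Matrix.det_fin_two]; decide⟩
def m7_109 : S7 := ⟨!![3, 1; 0, 5], by rw [Matrix.det_fin_two]; decide⟩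
def m7_110 : S7 := ⟨!![4, 3; 0, 2], by rw [Matrix.det_fin_two]; decide⟩
def m7_111 : S7 := ⟨!![2, 5; 4, 0], by rw [Matrix.det_fin_two]; decide⟩
def m7_112 : S7 := ⟨!![4, 0; 4, 2], by rw [Matrix.det_fin_two]; decide⟩
def m7_113 : S7 := ⟨!![5, 5; 1, 4], by rw [Matrix.det_fin_two]; decide⟩
def m7_114 : S7 := ⟨!![2, 0; 6, 4], by rw [Matrix.det_fin_two]; decide⟩
def m7_115 : S7 := ⟨!![0, 4; 5, 1], by rw [Matrix.det_fin_two]; decide⟩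
def m7_116 : S7 := ⟨!![0, 3; 2, 1], by rw [Matrix.det_fin_two]; decide⟩
def m7_117 : S7 := ⟨!![6, 3; 4, 1], by rw [Matrix.det_fin_two]; decide⟩
def m7_118 : S7 := ⟨!![1, 5; 3, 2], by rw [Matrix.det_fin_two]; decide⟩
def m7_119 : S7 := ⟨!![5, 0; 2, 3], by rw [Matrix.det_fin_two]; decide⟩
def m7_120 : S7 := ⟨!![0, 2; 3, 1], by rw [Matrix.det_fin_two]; decide⟩
def m7_121 : S7 := ⟨!![0, 5; 4, 3], by rw [Matrix.det_fin_two]; decide⟩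
def m7_122 : S7 := ⟨!![3, 0; 2, 5], by rw [Matrix.det_fin_two]; decide⟩
def m7_123 : S7 := ⟨!![3, 5; 4, 0], by rw [Matrix.det_fin_two]; decide⟩
def m7_124 : S7 := ⟨!![6, 3; 5, 5], by rw [Matrix.det_fin_two]; decide⟩
def m7_125 : S7 := ⟨!![1, 3; 2, 0], by rw [Matrix.det_fin_two]; decide⟩
def m7_126 : S7 := ⟨!![6, 4; 4, 4], by rw [Matrix.det_fin_two]; decide⟩
def m7_127 : S7 := ⟨!![1, 5; 4, 0], by rw [Matrix.det_fin_two]; decide⟩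
def m7_128 : S7 := ⟨!![6, 3; 3, 4], by rw [Matrix.det_fin_two]; decide⟩
def m7_129 : S7 := ⟨!![3, 5; 0, 5], by rw [Matrix.det_fin_two]; decide⟩
def m7_130 : S7 := ⟨!![3, 3; 2, 0], by rw [Matrix.det_fin_two]; decide⟩
def m7_131 : S7 := ⟨!![5, 5; 0, 3], by rw [Matrix.det_fin_two]; decide⟩
def m7_132 : S7 := ⟨!![2, 4; 0, 4], by rw [Matrix.det_fin_two]; decide⟩
def m7_133 : S7 := ⟨!![0, 3; 2, 3], by rw [Matrix.det_fin_two]; decide⟩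
def m7_134 : S7 := ⟨!![0, 4; 5, 2], by rw [Matrix.det_fin_two]; decide⟩
def m7_135 : S7 := ⟨!![2, 0; 3, 4], by rw [Matrix.det_fin_two]; decide⟩
def m7_136 : S7 := ⟨!![0, 5; 4, 1], by rw [Matrix.det_fin_two]; decide⟩
def m7_137 : S7 := ⟨!![0, 2; 3, 2], by rw [Matrix.det_fin_two]; decide⟩
def m7_138 : S7 := ⟨!![3, 3; 6, 4], by rw [Matrix.det_fin_two]; decide⟩
def m7_139 : S7 := ⟨!![3, 0; 1, 5], by rw [Matrix.det_fin_two]; decide⟩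
def m7_140 : S7 := ⟨!![4, 3; 6, 3], by rw [Matrix.det_fin_two]; decide⟩
def m7_141 : S7 := ⟨!![0, 2; 3, 5], by rw [Matrix.det_fin_two]; decide⟩
def m7_142 : S7 := ⟨!![5, 0; 3, 3], by rw [Matrix.det_fin_two]; decide⟩
def m7_143 : S7 := ⟨!![0, 4; 5, 5], by rw [Matrix.det_fin_two]; decide⟩
def m7_144 : S7 := ⟨!![0, 3; 2, 4], by rw [Matrix.det_fin_two]; decide⟩
def m7_145 : S7 := ⟨!![5, 4; 0, 3], by rw [Matrix.det_fin_two]; decide⟩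
def m7_146 : S7 := ⟨!![2, 5; 0, 4], by rw [Matrix.det_fin_two]; decide⟩
def m7_147 : S7 := ⟨!![4, 3; 2, 0], by rw [Matrix.det_fin_two]; decide⟩
def m7_148 : S7 := ⟨!![3, 6; 0, 5], by rw [Matrix.det_fin_two]; decide⟩
def m7_149 : S7 := ⟨!![4, 5; 0, 2], by rw [Matrix.det_fin_two]; decide⟩
def m7_150 : S7 := ⟨!![4, 1; 4, 3], by rw [Matrix.det_fin_two]; decide⟩
def m7_151 : S7 := ⟨!![3, 2; 3, 0], by rw [Matrix.det_fin_two]; decide⟩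
def m7_152 : S7 := ⟨!![3, 1; 4, 4], by rw [Matrix.det_fin_two]; decide⟩
def m7_153 : S7 := ⟨!![4, 3; 3, 6], by rw [Matrix.det_fin_two]; decide⟩
def m7_154 : S7 := ⟨!![2, 5; 2, 2], by rw [Matrix.det_fin_two]; decide⟩
def m7_155 : S7 := ⟨!![4, 0; 0, 2], by rw [Matrix.det_fin_two]; decide⟩
def m7_156 : S7 := ⟨!![4, 4; 4, 6], by rw [Matrix.det_fin_two]; decide⟩
def m7_157 : S7 := ⟨!![4, 0; 2, 2], by rw [Matrix.det_fin_two]; decide⟩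
def m7_158 : S7 := ⟨!![0, 5; 4, 4], by rw [Matrix.det_fin_two]; decide⟩
def m7_159 : S7 := ⟨!![2, 0; 2, 4], by rw [Matrix.det_fin_two]; decide⟩
def m7_160 : S7 := ⟨!![4, 0; 3, 2], by rw [Matrix.det_fin_two]; decide⟩
def m7_161 : S7 := ⟨!![5, 5; 2, 5], by rw [Matrix.det_fin_two]; decide⟩
def m7_162 : S7 := ⟨!![0, 5; 4, 0], by rw [Matrix.det_fin_two]; decide⟩
def m7_163 : S7 := ⟨!![5, 5; 4, 0], by rw [Matrix.det_fin_two]; decide⟩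
def m7_164 : S7 := ⟨!![3, 3; 0, 5], by rw [Matrix.det_fin_two]; decide⟩
def m7_165 : S7 := ⟨!![5, 3; 2, 0], by rw [Matrix.det_fin_two]; decide⟩
def m7_166 : S7 := ⟨!![0, 3; 2, 0], by rw [Matrix.det_fin_two]; decide⟩
def m7_167 : S7 := ⟨!![5, 0; 0, 3], by rw [Matrix.det_fin_two]; decide⟩
theorem m7_0_eq : m7_0 = 1 := by decide
theorem t7_0 : Φ f r0 = q f m7_0 := by
  show Φ f 1 = q f m7_0
  rw [map_one, m7_0_eq, map_one]
theorem t7_1 : Φ f r1 = q f m7_1 := by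
  show Φ f (r0 * x) = q f m7_1
  rw [map_mul, t7_0, Φ_x, ← map_mul]
  exact congrArg (q f) (by decide)
theorem t7_2 : Φ f r2 = q f m7_2 := by
  show Φ f (r0 * y) = q f m7_2
  rw [map_mul, t7_0, Φ_y, ← map_mul]
  exact congrArg (q f) (by decide)
theorem t7_3 : Φ f r3 = q f m7_3 := by
  show Φ f (r1 * y) = q f m7_3
  rw [map_mul, t7_1, Φ_y, ← map_mul]
  exact congrArg (q f) (by decide)
theorem t7_4 : Φ f r4 = q f m7_4 := by
  show Φ f (r2 * x) = q f m7_4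
  rw [map_mul, t7_2, Φ_x, ← map_mul]
  exact congrArg (q f) (by decide)
theorem t7_5 : Φ f r5 = q f m7_5 := by
  show Φ f (r2 * y) = q f m7_5
  rw [map_mul, t7_2, Φ_y, ← map_mul]
  exact congrArg (q f) (by decide)
theorem t7_6 : Φ f r6 = q f m7_6 := by
  show Φ f (r3 * x) = q f m7_6
  rw [map_mul, t7_3, Φ_x, ← map_mul]
  exact congrArg (q f) (by decide)
theorem t7_7 : Φ f r7 = q f m7_7 := by
  show Φ f (r3 * y) = q f m7_7
  rw [map_mul, t7_3, Φ_y, ← map_mul]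
  exact congrArg (q f) (by decide)
theorem t7_8 : Φ f r8 = q f m7_8 := by
  show Φ f (r4 * y) = q f m7_8
  rw [map_mul, t7_4, Φ_y, ← map_mul]
  exact congrArg (q f) (by decide)
theorem t7_9 : Φ f r9 = q f m7_9 := by
  show Φ f (r5 * x) = q f m7_9
  rw [map_mul, t7_5, Φ_x, ← map_mul]
  exact congrArg (q f) (by decide)
theorem t7_10 : Φ f r10 = q f m7_10 := by
  show Φ f (r6 * y) = q f m7_10
  rw [map_mul, t7_6, Φ_y, ← map_mul]
  exact congrArg (q f) (by decide)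
theorem t7_11 : Φ f r11 = q f m7_11 := by
  show Φ f (r7 * x) = q f m7_11
  rw [map_mul, t7_7, Φ_x, ← map_mul]
  exact congrArg (q f) (by decide)
theorem t7_12 : Φ f r12 = q f m7_12 := by
  show Φ f (r8 * x) = q f m7_12
  rw [map_mul, t7_8, Φ_x, ← map_mul]
  exact congrArg (q f) (by decide)
theorem t7_13 : Φ f r13 = q f m7_13 := by
  show Φ f (r8 * y) = q f m7_13
  rw [map_mul, t7_8, Φ_y, ← map_mul]
  exact congrArg (q f) (by decide)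
theorem t7_14 : Φ f r14 = q f m7_14 := by
  show Φ f (r9 * y) = q f m7_14
  rw [map_mul, t7_9, Φ_y, ← map_mul]
  exact congrArg (q f) (by decide)
theorem t7_15 : Φ f r15 = q f m7_15 := by
  show Φ f (r10 * x) = q f m7_15
  rw [map_mul, t7_10, Φ_x, ← map_mul]
  exact congrArg (q f) (by decide)
theorem t7_16 : Φ f r16 = q f m7_16 := by
  show Φ f (r10 * y) = q f m7_16
  rw [map_mul, t7_10, Φ_y, ← map_mul]
  exact congrArg (q f) (by decide)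
theorem t7_17 : Φ f r17 = q f m7_17 := by
  show Φ f (r11 * y) = q f m7_17
  rw [map_mul, t7_11, Φ_y, ← map_mul]
  exact congrArg (q f) (by decide)
theorem t7_18 : Φ f r18 = q f m7_18 := by
  show Φ f (r12 * y) = q f m7_18
  rw [map_mul, t7_12, Φ_y, ← map_mul]
  exact congrArg (q f) (by decide)
theorem t7_19 : Φ f r19 = q f m7_19 := by
  show Φ f (r13 * x) = q f m7_19
  rw [map_mul, t7_13, Φ_x, ← map_mul]
  exact congrArg (q f) (by decide)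
theorem t7_20 : Φ f r20 = q f m7_20 := by
  show Φ f (r14 * x) = q f m7_20
  rw [map_mul, t7_14, Φ_x, ← map_mul]
  exact congrArg (q f) (by decide)
theorem t7_21 : Φ f r21 = q f m7_21 := by
  show Φ f (r14 * y) = q f m7_21
  rw [map_mul, t7_14, Φ_y, ← map_mul]
  exact congrArg (q f) (by decide)
theorem t7_22 : Φ f r22 = q f m7_22 := by
  show Φ f (r15 * y) = q f m7_22
  rw [map_mul, t7_15, Φ_y, ← map_mul]
  exact congrArg (q f) (by decide)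
theorem t7_23 : Φ f r23 = q f m7_23 := by
  show Φ f (r16 * x) = q f m7_23
  rw [map_mul, t7_16, Φ_x, ← map_mul]
  exact congrArg (q f) (by decide)
theorem t7_24 : Φ f r24 = q f m7_24 := by
  show Φ f (r17 * x) = q f m7_24
  rw [map_mul, t7_17, Φ_x, ← map_mul]
  exact congrArg (q f) (by decide)
theorem t7_25 : Φ f r25 = q f m7_25 := by
  show Φ f (r17 * y) = q f m7_25
  rw [map_mul, t7_17, Φ_y, ← map_mul]
  exact congrArg (q f) (by decide)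
theorem t7_26 : Φ f r26 = q f m7_26 := by
  show Φ f (r18 * x) = q f m7_26
  rw [map_mul, t7_18, Φ_x, ← map_mul]
  exact congrArg (q f) (by decide)
theorem t7_27 : Φ f r27 = q f m7_27 := by
  show Φ f (r18 * y) = q f m7_27
  rw [map_mul, t7_18, Φ_y, ← map_mul]
  exact congrArg (q f) (by decide)
theorem t7_28 : Φ f r28 = q f m7_28 := by
  show Φ f (r19 * y) = q f m7_28
  rw [map_mul, t7_19, Φ_y, ← map_mul]
  exact congrArg (q f) (by decide)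
theorem t7_29 : Φ f r29 = q f m7_29 := by
  show Φ f (r20 * y) = q f m7_29
  rw [map_mul, t7_20, Φ_y, ← map_mul]
  exact congrArg (q f) (by decide)
theorem t7_30 : Φ f r30 = q f m7_30 := by
  show Φ f (r21 * x) = q f m7_30
  rw [map_mul, t7_21, Φ_x, ← map_mul]
  exact congrArg (q f) (by decide)
theorem t7_31 : Φ f r31 = q f m7_31 := by
  show Φ f (r22 * x) = q f m7_31
  rw [map_mul, t7_22, Φ_x, ← map_mul]
  exact congrArg (q f) (by decide)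
theorem t7_32 : Φ f r32 = q f m7_32 := by
  show Φ f (r22 * y) = q f m7_32
  rw [map_mul, t7_22, Φ_y, ← map_mul]
  exact congrArg (q f) (by decide)
theorem t7_33 : Φ f r33 = q f m7_33 := by
  show Φ f (r23 * y) = q f m7_33
  rw [map_mul, t7_23, Φ_y, ← map_mul]
  exact congrArg (q f) (by decide)
theorem t7_34 : Φ f r34 = q f m7_34 := by
  show Φ f (r24 * y) = q f m7_34
  rw [map_mul, t7_24, Φ_y, ← map_mul]
  exact congrArg (q f) (by decide)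
theorem t7_35 : Φ f r35 = q f m7_35 := by
  show Φ f (r25 * x) = q f m7_35
  rw [map_mul, t7_25, Φ_x, ← map_mul]
  exact congrArg (q f) (by decide)
theorem t7_36 : Φ f r36 = q f m7_36 := by
  show Φ f (r26 * y) = q f m7_36
  rw [map_mul, t7_26, Φ_y, ← map_mul]
  exact congrArg (q f) (by decide)
theorem t7_37 : Φ f r37 = q f m7_37 := by
  show Φ f (r27 * x) = q f m7_37
  rw [map_mul, t7_27, Φ_x, ← map_mul]
  exact congrArg (q f) (by decide)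
theorem t7_38 : Φ f r38 = q f m7_38 := by
  show Φ f (r28 * x) = q f m7_38
  rw [map_mul, t7_28, Φ_x, ← map_mul]
  exact congrArg (q f) (by decide)
theorem t7_39 : Φ f r39 = q f m7_39 := by
  show Φ f (r28 * y) = q f m7_39
  rw [map_mul, t7_28, Φ_y, ← map_mul]
  exact congrArg (q f) (by decide)
theorem t7_40 : Φ f r40 = q f m7_40 := by
  show Φ f (r29 * x) = q f m7_40
  rw [map_mul, t7_29, Φ_x, ← map_mul]
  exact congrArg (q f) (by decide)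
theorem t7_41 : Φ f r41 = q f m7_41 := by
  show Φ f (r29 * y) = q f m7_41
  rw [map_mul, t7_29, Φ_y, ← map_mul]
  exact congrArg (q f) (by decide)
theorem t7_42 : Φ f r42 = q f m7_42 := by
  show Φ f (r30 * y) = q f m7_42
  rw [map_mul, t7_30, Φ_y, ← map_mul]
  exact congrArg (q f) (by decide)
theorem t7_43 : Φ f r43 = q f m7_43 := by
  show Φ f (r31 * y) = q f m7_43
  rw [map_mul, t7_31, Φ_y, ← map_mul]
  exact congrArg (q f) (by decide)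
theorem t7_44 : Φ f r44 = q f m7_44 := by
  show Φ f (r32 * x) = q f m7_44
  rw [map_mul, t7_32, Φ_x, ← map_mul]
  exact congrArg (q f) (by decide)
theorem t7_45 : Φ f r45 = q f m7_45 := by
  show Φ f (r33 * x) = q f m7_45
  rw [map_mul, t7_33, Φ_x, ← map_mul]
  exact congrArg (q f) (by decide)
theorem t7_46 : Φ f r46 = q f m7_46 := by
  show Φ f (r33 * y) = q f m7_46
  rw [map_mul, t7_33, Φ_y, ← map_mul]
  exact congrArg (q f) (by decide)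
theorem t7_47 : Φ f r47 = q f m7_47 := by
  show Φ f (r34 * x) = q f m7_47
  rw [map_mul, t7_34, Φ_x, ← map_mul]
  exact congrArg (q f) (by decide)
theorem t7_48 : Φ f r48 = q f m7_48 := by
  show Φ f (r34 * y) = q f m7_48
  rw [map_mul, t7_34, Φ_y, ← map_mul]
  exact congrArg (q f) (by decide)
theorem t7_49 : Φ f r49 = q f m7_49 := by
  show Φ f (r35 * y) = q f m7_49
  rw [map_mul, t7_35, Φ_y, ← map_mul]
  exact congrArg (q f) (by decide)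
theorem t7_50 : Φ f r50 = q f m7_50 := by
  show Φ f (r36 * x) = q f m7_50
  rw [map_mul, t7_36, Φ_x, ← map_mul]
  exact congrArg (q f) (by decide)
theorem t7_51 : Φ f r51 = q f m7_51 := by
  show Φ f (r36 * y) = q f m7_51
  rw [map_mul, t7_36, Φ_y, ← map_mul]
  exact congrArg (q f) (by decide)
theorem t7_52 : Φ f r52 = q f m7_52 := by
  show Φ f (r37 * y) = q f m7_52
  rw [map_mul, t7_37, Φ_y, ← map_mul]
  exact congrArg (q f) (by decide)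
theorem t7_53 : Φ f r53 = q f m7_53 := by
  show Φ f (r38 * y) = q f m7_53
  rw [map_mul, t7_38, Φ_y, ← map_mul]
  exact congrArg (q f) (by decide)
theorem t7_54 : Φ f r54 = q f m7_54 := by
  show Φ f (r39 * x) = q f m7_54
  rw [map_mul, t7_39, Φ_x, ← map_mul]
  exact congrArg (q f) (by decide)
theorem t7_55 : Φ f r55 = q f m7_55 := by
  show Φ f (r40 * y) = q f m7_55
  rw [map_mul, t7_40, Φ_y, ← map_mul]
  exact congrArg (q f) (by decide)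
theorem t7_56 : Φ f r56 = q f m7_56 := by
  show Φ f (r41 * x) = q f m7_56
  rw [map_mul, t7_41, Φ_x, ← map_mul]
  exact congrArg (q f) (by decide)
theorem t7_57 : Φ f r57 = q f m7_57 := by
  show Φ f (r42 * x) = q f m7_57
  rw [map_mul, t7_42, Φ_x, ← map_mul]
  exact congrArg (q f) (by decide)
theorem t7_58 : Φ f r58 = q f m7_58 := by
  show Φ f (r42 * y) = q f m7_58
  rw [map_mul, t7_42, Φ_y, ← map_mul]
  exact congrArg (q f) (by decide)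
theorem t7_59 : Φ f r59 = q f m7_59 := by
  show Φ f (r43 * y) = q f m7_59
  rw [map_mul, t7_43, Φ_y, ← map_mul]
  exact congrArg (q f) (by decide)
theorem t7_60 : Φ f r60 = q f m7_60 := by
  show Φ f (r44 * y) = q f m7_60
  rw [map_mul, t7_44, Φ_y, ← map_mul]
  exact congrArg (q f) (by decide)
theorem t7_61 : Φ f r61 = q f m7_61 := by
  show Φ f (r45 * y) = q f m7_61
  rw [map_mul, t7_45, Φ_y, ← map_mul]
  exact congrArg (q f) (by decide)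
theorem t7_62 : Φ f r62 = q f m7_62 := by
  show Φ f (r46 * x) = q f m7_62
  rw [map_mul, t7_46, Φ_x, ← map_mul]
  exact congrArg (q f) (by decide)
theorem t7_63 : Φ f r63 = q f m7_63 := by
  show Φ f (r47 * y) = q f m7_63
  rw [map_mul, t7_47, Φ_y, ← map_mul]
  exact congrArg (q f) (by decide)
theorem t7_64 : Φ f r64 = q f m7_64 := by
  show Φ f (r48 * x) = q f m7_64
  rw [map_mul, t7_48, Φ_x, ← map_mul]
  exact congrArg (q f) (by decide)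
theorem t7_65 : Φ f r65 = q f m7_65 := by
  show Φ f (r49 * x) = q f m7_65
  rw [map_mul, t7_49, Φ_x, ← map_mul]
  exact congrArg (q f) (by decide)
theorem t7_66 : Φ f r66 = q f m7_66 := by
  show Φ f (r51 * x) = q f m7_66
  rw [map_mul, t7_51, Φ_x, ← map_mul]
  exact congrArg (q f) (by decide)
theorem t7_67 : Φ f r67 = q f m7_67 := by
  show Φ f (r52 * x) = q f m7_67
  rw [map_mul, t7_52, Φ_x, ← map_mul]
  exact congrArg (q f) (by decide)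
theorem t7_68 : Φ f r68 = q f m7_68 := by
  show Φ f (r52 * y) = q f m7_68
  rw [map_mul, t7_52, Φ_y, ← map_mul]
  exact congrArg (q f) (by decide)
theorem t7_69 : Φ f r69 = q f m7_69 := by
  show Φ f (r53 * x) = q f m7_69
  rw [map_mul, t7_53, Φ_x, ← map_mul]
  exact congrArg (q f) (by decide)
theorem t7_70 : Φ f r70 = q f m7_70 := by
  show Φ f (r53 * y) = q f m7_70
  rw [map_mul, t7_53, Φ_y, ← map_mul]
  exact congrArg (q f) (by decide)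
theorem t7_71 : Φ f r71 = q f m7_71 := by
  show Φ f (r54 * y) = q f m7_71
  rw [map_mul, t7_54, Φ_y, ← map_mul]
  exact congrArg (q f) (by decide)
theorem t7_72 : Φ f r72 = q f m7_72 := by
  show Φ f (r55 * x) = q f m7_72
  rw [map_mul, t7_55, Φ_x, ← map_mul]
  exact congrArg (q f) (by decide)
theorem t7_73 : Φ f r73 = q f m7_73 := by
  show Φ f (r55 * y) = q f m7_73
  rw [map_mul, t7_55, Φ_y, ← map_mul]
  exact congrArg (q f) (by decide)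
theorem t7_74 : Φ f r74 = q f m7_74 := by
  show Φ f (r56 * y) = q f m7_74
  rw [map_mul, t7_56, Φ_y, ← map_mul]
  exact congrArg (q f) (by decide)
theorem t7_75 : Φ f r75 = q f m7_75 := by
  show Φ f (r57 * y) = q f m7_75
  rw [map_mul, t7_57, Φ_y, ← map_mul]
  exact congrArg (q f) (by decide)
theorem t7_76 : Φ f r76 = q f m7_76 := by
  show Φ f (r59 * x) = q f m7_76
  rw [map_mul, t7_59, Φ_x, ← map_mul]
  exact congrArg (q f) (by decide)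
theorem t7_77 : Φ f r77 = q f m7_77 := by
  show Φ f (r60 * x) = q f m7_77
  rw [map_mul, t7_60, Φ_x, ← map_mul]
  exact congrArg (q f) (by decide)
theorem t7_78 : Φ f r78 = q f m7_78 := by
  show Φ f (r60 * y) = q f m7_78
  rw [map_mul, t7_60, Φ_y, ← map_mul]
  exact congrArg (q f) (by decide)
theorem t7_79 : Φ f r79 = q f m7_79 := by
  show Φ f (r61 * x) = q f m7_79
  rw [map_mul, t7_61, Φ_x, ← map_mul]
  exact congrArg (q f) (by decide)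
theorem t7_80 : Φ f r80 = q f m7_80 := by
  show Φ f (r61 * y) = q f m7_80
  rw [map_mul, t7_61, Φ_y, ← map_mul]
  exact congrArg (q f) (by decide)
theorem t7_81 : Φ f r81 = q f m7_81 := by
  show Φ f (r62 * y) = q f m7_81
  rw [map_mul, t7_62, Φ_y, ← map_mul]
  exact congrArg (q f) (by decide)
theorem t7_82 : Φ f r82 = q f m7_82 := by
  show Φ f (r63 * x) = q f m7_82
  rw [map_mul, t7_63, Φ_x, ← map_mul]
  exact congrArg (q f) (by decide)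
theorem t7_83 : Φ f r83 = q f m7_83 := by
  show Φ f (r63 * y) = q f m7_83
  rw [map_mul, t7_63, Φ_y, ← map_mul]
  exact congrArg (q f) (by decide)
theorem t7_84 : Φ f r84 = q f m7_84 := by
  show Φ f (r64 * y) = q f m7_84
  rw [map_mul, t7_64, Φ_y, ← map_mul]
  exact congrArg (q f) (by decide)
theorem t7_85 : Φ f r85 = q f m7_85 := by
  show Φ f (r65 * y) = q f m7_85
  rw [map_mul, t7_65, Φ_y, ← map_mul]
  exact congrArg (q f) (by decide)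
theorem t7_86 : Φ f r86 = q f m7_86 := by
  show Φ f (r66 * y) = q f m7_86
  rw [map_mul, t7_66, Φ_y, ← map_mul]
  exact congrArg (q f) (by decide)
theorem t7_87 : Φ f r87 = q f m7_87 := by
  show Φ f (r67 * y) = q f m7_87
  rw [map_mul, t7_67, Φ_y, ← map_mul]
  exact congrArg (q f) (by decide)
theorem t7_88 : Φ f r88 = q f m7_88 := by
  show Φ f (r68 * x) = q f m7_88
  rw [map_mul, t7_68, Φ_x, ← map_mul]
  exact congrArg (q f) (by decide)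
theorem t7_89 : Φ f r89 = q f m7_89 := by
  show Φ f (r69 * y) = q f m7_89
  rw [map_mul, t7_69, Φ_y, ← map_mul]
  exact congrArg (q f) (by decide)
theorem t7_90 : Φ f r90 = q f m7_90 := by
  show Φ f (r71 * x) = q f m7_90
  rw [map_mul, t7_71, Φ_x, ← map_mul]
  exact congrArg (q f) (by decide)
theorem t7_91 : Φ f r91 = q f m7_91 := by
  show Φ f (r73 * x) = q f m7_91
  rw [map_mul, t7_73, Φ_x, ← map_mul]
  exact congrArg (q f) (by decide)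
theorem t7_92 : Φ f r92 = q f m7_92 := by
  show Φ f (r74 * y) = q f m7_92
  rw [map_mul, t7_74, Φ_y, ← map_mul]
  exact congrArg (q f) (by decide)
theorem t7_93 : Φ f r93 = q f m7_93 := by
  show Φ f (r75 * x) = q f m7_93
  rw [map_mul, t7_75, Φ_x, ← map_mul]
  exact congrArg (q f) (by decide)
theorem t7_94 : Φ f r94 = q f m7_94 := by
  show Φ f (r75 * y) = q f m7_94
  rw [map_mul, t7_75, Φ_y, ← map_mul]
  exact congrArg (q f) (by decide)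
theorem t7_95 : Φ f r95 = q f m7_95 := by
  show Φ f (r76 * y) = q f m7_95
  rw [map_mul, t7_76, Φ_y, ← map_mul]
  exact congrArg (q f) (by decide)
theorem t7_96 : Φ f r96 = q f m7_96 := by
  show Φ f (r77 * y) = q f m7_96
  rw [map_mul, t7_77, Φ_y, ← map_mul]
  exact congrArg (q f) (by decide)
theorem t7_97 : Φ f r97 = q f m7_97 := by
  show Φ f (r78 * x) = q f m7_97
  rw [map_mul, t7_78, Φ_x, ← map_mul]
  exact congrArg (q f) (by decide)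
theorem t7_98 : Φ f r98 = q f m7_98 := by
  show Φ f (r79 * y) = q f m7_98
  rw [map_mul, t7_79, Φ_y, ← map_mul]
  exact congrArg (q f) (by decide)
theorem t7_99 : Φ f r99 = q f m7_99 := by
  show Φ f (r81 * x) = q f m7_99
  rw [map_mul, t7_81, Φ_x, ← map_mul]
  exact congrArg (q f) (by decide)
theorem t7_100 : Φ f r100 = q f m7_100 := by
  show Φ f (r83 * x) = q f m7_100
  rw [map_mul, t7_83, Φ_x, ← map_mul]
  exact congrArg (q f) (by decide)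
theorem t7_101 : Φ f r101 = q f m7_101 := by
  show Φ f (r84 * y) = q f m7_101
  rw [map_mul, t7_84, Φ_y, ← map_mul]
  exact congrArg (q f) (by decide)
theorem t7_102 : Φ f r102 = q f m7_102 := by
  show Φ f (r85 * x) = q f m7_102
  rw [map_mul, t7_85, Φ_x, ← map_mul]
  exact congrArg (q f) (by decide)
theorem t7_103 : Φ f r103 = q f m7_103 := by
  show Φ f (r85 * y) = q f m7_103
  rw [map_mul, t7_85, Φ_y, ← map_mul]
  exact congrArg (q f) (by decide)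
theorem t7_104 : Φ f r104 = q f m7_104 := by
  show Φ f (r86 * x) = q f m7_104
  rw [map_mul, t7_86, Φ_x, ← map_mul]
  exact congrArg (q f) (by decide)
theorem t7_105 : Φ f r105 = q f m7_105 := by
  show Φ f (r86 * y) = q f m7_105
  rw [map_mul, t7_86, Φ_y, ← map_mul]
  exact congrArg (q f) (by decide)
theorem t7_106 : Φ f r106 = q f m7_106 := by
  show Φ f (r87 * x) = q f m7_106
  rw [map_mul, t7_87, Φ_x, ← map_mul]
  exact congrArg (q f) (by decide)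
theorem t7_107 : Φ f r107 = q f m7_107 := by
  show Φ f (r87 * y) = q f m7_107
  rw [map_mul, t7_87, Φ_y, ← map_mul]
  exact congrArg (q f) (by decide)
theorem t7_108 : Φ f r108 = q f m7_108 := by
  show Φ f (r88 * y) = q f m7_108
  rw [map_mul, t7_88, Φ_y, ← map_mul]
  exact congrArg (q f) (by decide)
theorem t7_109 : Φ f r109 = q f m7_109 := by
  show Φ f (r89 * x) = q f m7_109
  rw [map_mul, t7_89, Φ_x, ← map_mul]
  exact congrArg (q f) (by decide)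
theorem t7_110 : Φ f r110 = q f m7_110 := by
  show Φ f (r89 * y) = q f m7_110
  rw [map_mul, t7_89, Φ_y, ← map_mul]
  exact congrArg (q f) (by decide)
theorem t7_111 : Φ f r111 = q f m7_111 := by
  show Φ f (r90 * y) = q f m7_111
  rw [map_mul, t7_90, Φ_y, ← map_mul]
  exact congrArg (q f) (by decide)
theorem t7_112 : Φ f r112 = q f m7_112 := by
  show Φ f (r91 * y) = q f m7_112
  rw [map_mul, t7_91, Φ_y, ← map_mul]
  exact congrArg (q f) (by decide)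
theorem t7_113 : Φ f r113 = q f m7_113 := by
  show Φ f (r92 * x) = q f m7_113
  rw [map_mul, t7_92, Φ_x, ← map_mul]
  exact congrArg (q f) (by decide)
theorem t7_114 : Φ f r114 = q f m7_114 := by
  show Φ f (r93 * y) = q f m7_114
  rw [map_mul, t7_93, Φ_y, ← map_mul]
  exact congrArg (q f) (by decide)
theorem t7_115 : Φ f r115 = q f m7_115 := by
  show Φ f (r95 * x) = q f m7_115
  rw [map_mul, t7_95, Φ_x, ← map_mul]
  exact congrArg (q f) (by decide)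
theorem t7_116 : Φ f r116 = q f m7_116 := by
  show Φ f (r95 * y) = q f m7_116
  rw [map_mul, t7_95, Φ_y, ← map_mul]
  exact congrArg (q f) (by decide)
theorem t7_117 : Φ f r117 = q f m7_117 := by
  show Φ f (r96 * x) = q f m7_117
  rw [map_mul, t7_96, Φ_x, ← map_mul]
  exact congrArg (q f) (by decide)
theorem t7_118 : Φ f r118 = q f m7_118 := by
  show Φ f (r96 * y) = q f m7_118
  rw [map_mul, t7_96, Φ_y, ← map_mul]
  exact congrArg (q f) (by decide)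
theorem t7_119 : Φ f r119 = q f m7_119 := by
  show Φ f (r97 * y) = q f m7_119
  rw [map_mul, t7_97, Φ_y, ← map_mul]
  exact congrArg (q f) (by decide)
theorem t7_120 : Φ f r120 = q f m7_120 := by
  show Φ f (r98 * x) = q f m7_120
  rw [map_mul, t7_98, Φ_x, ← map_mul]
  exact congrArg (q f) (by decide)
theorem t7_121 : Φ f r121 = q f m7_121 := by
  show Φ f (r98 * y) = q f m7_121
  rw [map_mul, t7_98, Φ_y, ← map_mul]
  exact congrArg (q f) (by decide)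
theorem t7_122 : Φ f r122 = q f m7_122 := by
  show Φ f (r99 * y) = q f m7_122
  rw [map_mul, t7_99, Φ_y, ← map_mul]
  exact congrArg (q f) (by decide)
theorem t7_123 : Φ f r123 = q f m7_123 := by
  show Φ f (r100 * y) = q f m7_123
  rw [map_mul, t7_100, Φ_y, ← map_mul]
  exact congrArg (q f) (by decide)
theorem t7_124 : Φ f r124 = q f m7_124 := by
  show Φ f (r101 * x) = q f m7_124
  rw [map_mul, t7_101, Φ_x, ← map_mul]
  exact congrArg (q f) (by decide)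
theorem t7_125 : Φ f r125 = q f m7_125 := by
  show Φ f (r102 * y) = q f m7_125
  rw [map_mul, t7_102, Φ_y, ← map_mul]
  exact congrArg (q f) (by decide)
theorem t7_126 : Φ f r126 = q f m7_126 := by
  show Φ f (r104 * y) = q f m7_126
  rw [map_mul, t7_104, Φ_y, ← map_mul]
  exact congrArg (q f) (by decide)
theorem t7_127 : Φ f r127 = q f m7_127 := by
  show Φ f (r105 * x) = q f m7_127
  rw [map_mul, t7_105, Φ_x, ← map_mul]
  exact congrArg (q f) (by decide)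
theorem t7_128 : Φ f r128 = q f m7_128 := by
  show Φ f (r106 * y) = q f m7_128
  rw [map_mul, t7_106, Φ_y, ← map_mul]
  exact congrArg (q f) (by decide)
theorem t7_129 : Φ f r129 = q f m7_129 := by
  show Φ f (r108 * x) = q f m7_129
  rw [map_mul, t7_108, Φ_x, ← map_mul]
  exact congrArg (q f) (by decide)
theorem t7_130 : Φ f r130 = q f m7_130 := by
  show Φ f (r110 * x) = q f m7_130
  rw [map_mul, t7_110, Φ_x, ← map_mul]
  exact congrArg (q f) (by decide)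
theorem t7_131 : Φ f r131 = q f m7_131 := by
  show Φ f (r111 * x) = q f m7_131
  rw [map_mul, t7_111, Φ_x, ← map_mul]
  exact congrArg (q f) (by decide)
theorem t7_132 : Φ f r132 = q f m7_132 := by
  show Φ f (r111 * y) = q f m7_132
  rw [map_mul, t7_111, Φ_y, ← map_mul]
  exact congrArg (q f) (by decide)
theorem t7_133 : Φ f r133 = q f m7_133 := by
  show Φ f (r112 * x) = q f m7_133
  rw [map_mul, t7_112, Φ_x, ← map_mul]
  exact congrArg (q f) (by decide)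
theorem t7_134 : Φ f r134 = q f m7_134 := by
  show Φ f (r112 * y) = q f m7_134
  rw [map_mul, t7_112, Φ_y, ← map_mul]
  exact congrArg (q f) (by decide)
theorem t7_135 : Φ f r135 = q f m7_135 := by
  show Φ f (r113 * y) = q f m7_135
  rw [map_mul, t7_113, Φ_y, ← map_mul]
  exact congrArg (q f) (by decide)
theorem t7_136 : Φ f r136 = q f m7_136 := by
  show Φ f (r114 * x) = q f m7_136
  rw [map_mul, t7_114, Φ_x, ← map_mul]
  exact congrArg (q f) (by decide)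
theorem t7_137 : Φ f r137 = q f m7_137 := by
  show Φ f (r114 * y) = q f m7_137
  rw [map_mul, t7_114, Φ_y, ← map_mul]
  exact congrArg (q f) (by decide)
theorem t7_138 : Φ f r138 = q f m7_138 := by
  show Φ f (r115 * y) = q f m7_138
  rw [map_mul, t7_115, Φ_y, ← map_mul]
  exact congrArg (q f) (by decide)
theorem t7_139 : Φ f r139 = q f m7_139 := by
  show Φ f (r116 * x) = q f m7_139
  rw [map_mul, t7_116, Φ_x, ← map_mul]
  exact congrArg (q f) (by decide)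
theorem t7_140 : Φ f r140 = q f m7_140 := by
  show Φ f (r117 * y) = q f m7_140
  rw [map_mul, t7_117, Φ_y, ← map_mul]
  exact congrArg (q f) (by decide)
theorem t7_141 : Φ f r141 = q f m7_141 := by
  show Φ f (r119 * x) = q f m7_141
  rw [map_mul, t7_119, Φ_x, ← map_mul]
  exact congrArg (q f) (by decide)
theorem t7_142 : Φ f r142 = q f m7_142 := by
  show Φ f (r121 * x) = q f m7_142
  rw [map_mul, t7_121, Φ_x, ← map_mul]
  exact congrArg (q f) (by decide)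
theorem t7_143 : Φ f r143 = q f m7_143 := by
  show Φ f (r122 * x) = q f m7_143
  rw [map_mul, t7_122, Φ_x, ← map_mul]
  exact congrArg (q f) (by decide)
theorem t7_144 : Φ f r144 = q f m7_144 := by
  show Φ f (r122 * y) = q f m7_144
  rw [map_mul, t7_122, Φ_y, ← map_mul]
  exact congrArg (q f) (by decide)
theorem t7_145 : Φ f r145 = q f m7_145 := by
  show Φ f (r123 * x) = q f m7_145
  rw [map_mul, t7_123, Φ_x, ← map_mul]
  exact congrArg (q f) (by decide)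
theorem t7_146 : Φ f r146 = q f m7_146 := by
  show Φ f (r123 * y) = q f m7_146
  rw [map_mul, t7_123, Φ_y, ← map_mul]
  exact congrArg (q f) (by decide)
theorem t7_147 : Φ f r147 = q f m7_147 := by
  show Φ f (r124 * y) = q f m7_147
  rw [map_mul, t7_124, Φ_y, ← map_mul]
  exact congrArg (q f) (by decide)
theorem t7_148 : Φ f r148 = q f m7_148 := by
  show Φ f (r125 * x) = q f m7_148
  rw [map_mul, t7_125, Φ_x, ← map_mul]
  exact congrArg (q f) (by decide)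
theorem t7_149 : Φ f r149 = q f m7_149 := by
  show Φ f (r125 * y) = q f m7_149
  rw [map_mul, t7_125, Φ_y, ← map_mul]
  exact congrArg (q f) (by decide)
theorem t7_150 : Φ f r150 = q f m7_150 := by
  show Φ f (r126 * x) = q f m7_150
  rw [map_mul, t7_126, Φ_x, ← map_mul]
  exact congrArg (q f) (by decide)
theorem t7_151 : Φ f r151 = q f m7_151 := by
  show Φ f (r126 * y) = q f m7_151
  rw [map_mul, t7_126, Φ_y, ← map_mul]
  exact congrArg (q f) (by decide)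
theorem t7_152 : Φ f r152 = q f m7_152 := by
  show Φ f (r128 * x) = q f m7_152
  rw [map_mul, t7_128, Φ_x, ← map_mul]
  exact congrArg (q f) (by decide)
theorem t7_153 : Φ f r153 = q f m7_153 := by
  show Φ f (r128 * y) = q f m7_153
  rw [map_mul, t7_128, Φ_y, ← map_mul]
  exact congrArg (q f) (by decide)
theorem t7_154 : Φ f r154 = q f m7_154 := by
  show Φ f (r129 * y) = q f m7_154
  rw [map_mul, t7_129, Φ_y, ← map_mul]
  exact congrArg (q f) (by decide)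
theorem t7_155 : Φ f r155 = q f m7_155 := by
  show Φ f (r130 * y) = q f m7_155
  rw [map_mul, t7_130, Φ_y, ← map_mul]
  exact congrArg (q f) (by decide)
theorem t7_156 : Φ f r156 = q f m7_156 := by
  show Φ f (r133 * y) = q f m7_156
  rw [map_mul, t7_133, Φ_y, ← map_mul]
  exact congrArg (q f) (by decide)
theorem t7_157 : Φ f r157 = q f m7_157 := by
  show Φ f (r134 * x) = q f m7_157
  rw [map_mul, t7_134, Φ_x, ← map_mul]
  exact congrArg (q f) (by decide)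
theorem t7_158 : Φ f r158 = q f m7_158 := by
  show Φ f (r135 * x) = q f m7_158
  rw [map_mul, t7_135, Φ_x, ← map_mul]
  exact congrArg (q f) (by decide)
theorem t7_159 : Φ f r159 = q f m7_159 := by
  show Φ f (r137 * x) = q f m7_159
  rw [map_mul, t7_137, Φ_x, ← map_mul]
  exact congrArg (q f) (by decide)
theorem t7_160 : Φ f r160 = q f m7_160 := by
  show Φ f (r138 * y) = q f m7_160
  rw [map_mul, t7_138, Φ_y, ← map_mul]
  exact congrArg (q f) (by decide)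
theorem t7_161 : Φ f r161 = q f m7_161 := by
  show Φ f (r141 * y) = q f m7_161
  rw [map_mul, t7_141, Φ_y, ← map_mul]
  exact congrArg (q f) (by decide)
theorem t7_162 : Φ f r162 = q f m7_162 := by
  show Φ f (r142 * y) = q f m7_162
  rw [map_mul, t7_142, Φ_y, ← map_mul]
  exact congrArg (q f) (by decide)
theorem t7_163 : Φ f r163 = q f m7_163 := by
  show Φ f (r146 * x) = q f m7_163
  rw [map_mul, t7_146, Φ_x, ← map_mul]
  exact congrArg (q f) (by decide)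
theorem t7_164 : Φ f r164 = q f m7_164 := by
  show Φ f (r147 * x) = q f m7_164
  rw [map_mul, t7_147, Φ_x, ← map_mul]
  exact congrArg (q f) (by decide)
theorem t7_165 : Φ f r165 = q f m7_165 := by
  show Φ f (r149 * x) = q f m7_165
  rw [map_mul, t7_149, Φ_x, ← map_mul]
  exact congrArg (q f) (by decide)
theorem t7_166 : Φ f r166 = q f m7_166 := by
  show Φ f (r155 * x) = q f m7_166
  rw [map_mul, t7_155, Φ_x, ← map_mul]
  exact congrArg (q f) (by decide)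
theorem t7_167 : Φ f r167 = q f m7_167 := by
  show Φ f (r162 * x) = q f m7_167
  rw [map_mul, t7_162, Φ_x, ← map_mul]
  exact congrArg (q f) (by decide)
def M7 : Fin 168 → S7
  | ⟨0, _⟩ => m7_0
  | ⟨1, _⟩ => m7_1
  | ⟨2, _⟩ => m7_2
  | ⟨3, _⟩ => m7_3
  | ⟨4, _⟩ => m7_4
  | ⟨5, _⟩ => m7_5
  | ⟨6, _⟩ => m7_6
  | ⟨7, _⟩ => m7_7
  | ⟨8, _⟩ => m7_8
  | ⟨9, _⟩ => m7_9
  | ⟨10, _⟩ => m7_10
  | ⟨11, _⟩ => m7_11
  | ⟨12, _⟩ => m7_12
  | ⟨13, _⟩ => m7_13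
  | ⟨14, _⟩ => m7_14
  | ⟨15, _⟩ => m7_15
  | ⟨16, _⟩ => m7_16
  | ⟨17, _⟩ => m7_17
  | ⟨18, _⟩ => m7_18
  | ⟨19, _⟩ => m7_19
  | ⟨20, _⟩ => m7_20
  | ⟨21, _⟩ => m7_21
  | ⟨22, _⟩ => m7_22
  | ⟨23, _⟩ => m7_23
  | ⟨24, _⟩ => m7_24
  | ⟨25, _⟩ => m7_25
  | ⟨26, _⟩ => m7_26
  | ⟨27, _⟩ => m7_27
  | ⟨28, _⟩ => m7_28
  | ⟨29, _⟩ => m7_29
  | ⟨30, _⟩ => m7_30
  | ⟨31, _⟩ => m7_31
  | ⟨32, _⟩ => m7_32
  | ⟨33, _⟩ => m7_33
  | ⟨34, _⟩ => m7_34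
  | ⟨35, _⟩ => m7_35
  | ⟨36, _⟩ => m7_36
  | ⟨37, _⟩ => m7_37
  | ⟨38, _⟩ => m7_38
  | ⟨39, _⟩ => m7_39
  | ⟨40, _⟩ => m7_40
  | ⟨41, _⟩ => m7_41
  | ⟨42, _⟩ => m7_42
  | ⟨43, _⟩ => m7_43
  | ⟨44, _⟩ => m7_44
  | ⟨45, _⟩ => m7_45
  | ⟨46, _⟩ => m7_46
  | ⟨47, _⟩ => m7_47
  | ⟨48, _⟩ => m7_48
  | ⟨49, _⟩ => m7_49
  | ⟨50, _⟩ => m7_50
  | ⟨51, _⟩ => m7_51
  | ⟨52, _⟩ => m7_52
  | ⟨53, _⟩ => m7_53
  | ⟨54, _⟩ => m7_54
  | ⟨55, _⟩ => m7_55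
  | ⟨56, _⟩ => m7_56
  | ⟨57, _⟩ => m7_57
  | ⟨58, _⟩ => m7_58
  | ⟨59, _⟩ => m7_59
  | ⟨60, _⟩ => m7_60
  | ⟨61, _⟩ => m7_61
  | ⟨62, _⟩ => m7_62
  | ⟨63, _⟩ => m7_63
  | ⟨64, _⟩ => m7_64
  | ⟨65, _⟩ => m7_65
  | ⟨66, _⟩ => m7_66
  | ⟨67, _⟩ => m7_67
  | ⟨68, _⟩ => m7_68
  | ⟨69, _⟩ => m7_69
  | ⟨70, _⟩ => m7_70
  | ⟨71, _⟩ => m7_71
  | ⟨72, _⟩ => m7_72
  | ⟨73, _⟩ => m7_73
  | ⟨74, _⟩ => m7_74
  | ⟨75, _⟩ => m7_75
  | ⟨76, _⟩ => m7_76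
  | ⟨77, _⟩ => m7_77
  | ⟨78, _⟩ => m7_78
  | ⟨79, _⟩ => m7_79
  | ⟨80, _⟩ => m7_80
  | ⟨81, _⟩ => m7_81
  | ⟨82, _⟩ => m7_82
  | ⟨83, _⟩ => m7_83
  | ⟨84, _⟩ => m7_84
  | ⟨85, _⟩ => m7_85
  | ⟨86, _⟩ => m7_86
  | ⟨87, _⟩ => m7_87
  | ⟨88, _⟩ => m7_88
  | ⟨89, _⟩ => m7_89
  | ⟨90, _⟩ => m7_90
  | ⟨91, _⟩ => m7_91
  | ⟨92, _⟩ => m7_92
  | ⟨93, _⟩ => m7_93
  | ⟨94, _⟩ => m7_94
  | ⟨95, _⟩ => m7_95
  | ⟨96, _⟩ => m7_96
  | ⟨97, _⟩ => m7_97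
  | ⟨98, _⟩ => m7_98
  | ⟨99, _⟩ => m7_99
  | ⟨100, _⟩ => m7_100
  | ⟨101, _⟩ => m7_101
  | ⟨102, _⟩ => m7_102
  | ⟨103, _⟩ => m7_103
  | ⟨104, _⟩ => m7_104
  | ⟨105, _⟩ => m7_105
  | ⟨106, _⟩ => m7_106
  | ⟨107, _⟩ => m7_107
  | ⟨108, _⟩ => m7_108
  | ⟨109, _⟩ => m7_109
  | ⟨110, _⟩ => m7_110
  | ⟨111, _⟩ => m7_111
  | ⟨112, _⟩ => m7_112
  | ⟨113, _⟩ => m7_113
  | ⟨114, _⟩ => m7_114
  | ⟨115, _⟩ => m7_115
  | ⟨116, _⟩ => m7_116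
  | ⟨117, _⟩ => m7_117
  | ⟨118, _⟩ => m7_118
  | ⟨119, _⟩ => m7_119
  | ⟨120, _⟩ => m7_120
  | ⟨121, _⟩ => m7_121
  | ⟨122, _⟩ => m7_122
  | ⟨123, _⟩ => m7_123
  | ⟨124, _⟩ => m7_124
  | ⟨125, _⟩ => m7_125
  | ⟨126, _⟩ => m7_126
  | ⟨127, _⟩ => m7_127
  | ⟨128, _⟩ => m7_128
  | ⟨129, _⟩ => m7_129
  | ⟨130, _⟩ => m7_130
  | ⟨131, _⟩ => m7_131
  | ⟨132, _⟩ => m7_132
  | ⟨133, _⟩ => m7_133
  | ⟨134, _⟩ => m7_134
  | ⟨135, _⟩ => m7_135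
  | ⟨136, _⟩ => m7_136
  | ⟨137, _⟩ => m7_137
  | ⟨138, _⟩ => m7_138
  | ⟨139, _⟩ => m7_139
  | ⟨140, _⟩ => m7_140
  | ⟨141, _⟩ => m7_141
  | ⟨142, _⟩ => m7_142
  | ⟨143, _⟩ => m7_143
  | ⟨144, _⟩ => m7_144
  | ⟨145, _⟩ => m7_145
  | ⟨146, _⟩ => m7_146
  | ⟨147, _⟩ => m7_147
  | ⟨148, _⟩ => m7_148
  | ⟨149, _⟩ => m7_149
  | ⟨150, _⟩ => m7_150
  | ⟨151, _⟩ => m7_151
  | ⟨152, _⟩ => m7_152
  | ⟨153, _⟩ => m7_153
  | ⟨154, _⟩ => m7_154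
  | ⟨155, _⟩ => m7_155
  | ⟨156, _⟩ => m7_156
  | ⟨157, _⟩ => m7_157
  | ⟨158, _⟩ => m7_158
  | ⟨159, _⟩ => m7_159
  | ⟨160, _⟩ => m7_160
  | ⟨161, _⟩ => m7_161
  | ⟨162, _⟩ => m7_162
  | ⟨163, _⟩ => m7_163
  | ⟨164, _⟩ => m7_164
  | ⟨165, _⟩ => m7_165
  | ⟨166, _⟩ => m7_166
  | ⟨167, _⟩ => m7_167
  | ⟨n+168, h⟩ => absurd h (by omega)
theorem Φ_rep : ∀ i : Fin 168, Φ f (rep i) = q f (M7 i)
  | ⟨0, _⟩ => t7_0 f
  | ⟨1, _⟩ => t7_1 f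
  | ⟨2, _⟩ => t7_2 f
  | ⟨3, _⟩ => t7_3 f
  | ⟨4, _⟩ => t7_4 f
  | ⟨5, _⟩ => t7_5 f
  | ⟨6, _⟩ => t7_6 f
  | ⟨7, _⟩ => t7_7 f
  | ⟨8, _⟩ => t7_8 f
  | ⟨9, _⟩ => t7_9 f
  | ⟨10, _⟩ => t7_10 f
  | ⟨11, _⟩ => t7_11 f
  | ⟨12, _⟩ => t7_12 f
  | ⟨13, _⟩ => t7_13 f
  | ⟨14, _⟩ => t7_14 f
  | ⟨15, _⟩ => t7_15 f
  | ⟨16, _⟩ => t7_16 f
  | ⟨17, _⟩ => t7_17 f
  | ⟨18, _⟩ => t7_18 f
  | ⟨19, _⟩ => t7_19 f
  | ⟨20, _⟩ => t7_20 f
  | ⟨21, _⟩ => t7_21 f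
  | ⟨22, _⟩ => t7_22 f
  | ⟨23, _⟩ => t7_23 f
  | ⟨24, _⟩ => t7_24 f
  | ⟨25, _⟩ => t7_25 f
  | ⟨26, _⟩ => t7_26 f
  | ⟨27, _⟩ => t7_27 f
  | ⟨28, _⟩ => t7_28 f
  | ⟨29, _⟩ => t7_29 f
  | ⟨30, _⟩ => t7_30 f
  | ⟨31, _⟩ => t7_31 f
  | ⟨32, _⟩ => t7_32 f
  | ⟨33, _⟩ => t7_33 f
  | ⟨34, _⟩ => t7_34 f
  | ⟨35, _⟩ => t7_35 f
  | ⟨36, _⟩ => t7_36 f
  | ⟨37, _⟩ => t7_37 f
  | ⟨38, _⟩ => t7_38 f
  | ⟨39, _⟩ => t7_39 f
  | ⟨40, _⟩ => t7_40 f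
  | ⟨41, _⟩ => t7_41 f
  | ⟨42, _⟩ => t7_42 f
  | ⟨43, _⟩ => t7_43 f
  | ⟨44, _⟩ => t7_44 f
  | ⟨45, _⟩ => t7_45 f
  | ⟨46, _⟩ => t7_46 f
  | ⟨47, _⟩ => t7_47 f
  | ⟨48, _⟩ => t7_48 f
  | ⟨49, _⟩ => t7_49 f
  | ⟨50, _⟩ => t7_50 f
  | ⟨51, _⟩ => t7_51 f
  | ⟨52, _⟩ => t7_52 f
  | ⟨53, _⟩ => t7_53 f
  | ⟨54, _⟩ => t7_54 f
  | ⟨55, _⟩ => t7_55 f
  | ⟨56, _⟩ => t7_56 f
  | ⟨57, _⟩ => t7_57 f
  | ⟨58, _⟩ => t7_58 f
  | ⟨59, _⟩ => t7_59 f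
  | ⟨60, _⟩ => t7_60 f
  | ⟨61, _⟩ => t7_61 f
  | ⟨62, _⟩ => t7_62 f
  | ⟨63, _⟩ => t7_63 f
  | ⟨64, _⟩ => t7_64 f
  | ⟨65, _⟩ => t7_65 f
  | ⟨66, _⟩ => t7_66 f
  | ⟨67, _⟩ => t7_67 f
  | ⟨68, _⟩ => t7_68 f
  | ⟨69, _⟩ => t7_69 f
  | ⟨70, _⟩ => t7_70 f
  | ⟨71, _⟩ => t7_71 f
  | ⟨72, _⟩ => t7_72 f
  | ⟨73, _⟩ => t7_73 f
  | ⟨74, _⟩ => t7_74 f
  | ⟨75, _⟩ => t7_75 f
  | ⟨76, _⟩ => t7_76 f
  | ⟨77, _⟩ => t7_77 f
  | ⟨78, _⟩ => t7_78 f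
  | ⟨79, _⟩ => t7_79 f
  | ⟨80, _⟩ => t7_80 f
  | ⟨81, _⟩ => t7_81 f
  | ⟨82, _⟩ => t7_82 f
  | ⟨83, _⟩ => t7_83 f
  | ⟨84, _⟩ => t7_84 f
  | ⟨85, _⟩ => t7_85 f
  | ⟨86, _⟩ => t7_86 f
  | ⟨87, _⟩ => t7_87 f
  | ⟨88, _⟩ => t7_88 f
  | ⟨89, _⟩ => t7_89 f
  | ⟨90, _⟩ => t7_90 f
  | ⟨91, _⟩ => t7_91 f
  | ⟨92, _⟩ => t7_92 f
  | ⟨93, _⟩ => t7_93 f
  | ⟨94, _⟩ => t7_94 f
  | ⟨95, _⟩ => t7_95 f
  | ⟨96, _⟩ => t7_96 f
  | ⟨97, _⟩ => t7_97 f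
  | ⟨98, _⟩ => t7_98 f
  | ⟨99, _⟩ => t7_99 f
  | ⟨100, _⟩ => t7_100 f
  | ⟨101, _⟩ => t7_101 f
  | ⟨102, _⟩ => t7_102 f
  | ⟨103, _⟩ => t7_103 f
  | ⟨104, _⟩ => t7_104 f
  | ⟨105, _⟩ => t7_105 f
  | ⟨106, _⟩ => t7_106 f
  | ⟨107, _⟩ => t7_107 f
  | ⟨108, _⟩ => t7_108 f
  | ⟨109, _⟩ => t7_109 f
  | ⟨110, _⟩ => t7_110 f
  | ⟨111, _⟩ => t7_111 f
  | ⟨112, _⟩ => t7_112 f
  | ⟨113, _⟩ => t7_113 f
  | ⟨114, _⟩ => t7_114 f
  | ⟨115, _⟩ => t7_115 f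
  | ⟨116, _⟩ => t7_116 f
  | ⟨117, _⟩ => t7_117 f
  | ⟨118, _⟩ => t7_118 f
  | ⟨119, _⟩ => t7_119 f
  | ⟨120, _⟩ => t7_120 f
  | ⟨121, _⟩ => t7_121 f
  | ⟨122, _⟩ => t7_122 f
  | ⟨123, _⟩ => t7_123 f
  | ⟨124, _⟩ => t7_124 f
  | ⟨125, _⟩ => t7_125 f
  | ⟨126, _⟩ => t7_126 f
  | ⟨127, _⟩ => t7_127 f
  | ⟨128, _⟩ => t7_128 f
  | ⟨129, _⟩ => t7_129 f
  | ⟨130, _⟩ => t7_130 f
  | ⟨131, _⟩ => t7_131 f
  | ⟨132, _⟩ => t7_132 f
  | ⟨133, _⟩ => t7_133 f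
  | ⟨134, _⟩ => t7_134 f
  | ⟨135, _⟩ => t7_135 f
  | ⟨136, _⟩ => t7_136 f
  | ⟨137, _⟩ => t7_137 f
  | ⟨138, _⟩ => t7_138 f
  | ⟨139, _⟩ => t7_139 f
  | ⟨140, _⟩ => t7_140 f
  | ⟨141, _⟩ => t7_141 f
  | ⟨142, _⟩ => t7_142 f
  | ⟨143, _⟩ => t7_143 f
  | ⟨144, _⟩ => t7_144 f
  | ⟨145, _⟩ => t7_145 f
  | ⟨146, _⟩ => t7_146 f
  | ⟨147, _⟩ => t7_147 f
  | ⟨148, _⟩ => t7_148 f
  | ⟨149, _⟩ => t7_149 f
  | ⟨150, _⟩ => t7_150 f
  | ⟨151, _⟩ => t7_151 f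
  | ⟨152, _⟩ => t7_152 f
  | ⟨153, _⟩ => t7_153 f
  | ⟨154, _⟩ => t7_154 f
  | ⟨155, _⟩ => t7_155 f
  | ⟨156, _⟩ => t7_156 f
  | ⟨157, _⟩ => t7_157 f
  | ⟨158, _⟩ => t7_158 f
  | ⟨159, _⟩ => t7_159 f
  | ⟨160, _⟩ => t7_160 f
  | ⟨161, _⟩ => t7_161 f
  | ⟨162, _⟩ => t7_162 f
  | ⟨163, _⟩ => t7_163 f
  | ⟨164, _⟩ => t7_164 f
  | ⟨165, _⟩ => t7_165 f
  | ⟨166, _⟩ => t7_166 f
  | ⟨167, _⟩ => t7_167 f
  | ⟨n+168, h⟩ => absurd h (by omega)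

set_option maxRecDepth 100000 in
theorem ker7 : ∀ i : Fin 168, (M7 i).1 0 1 = 0 → (M7 i).1 1 0 = 0 →
    (M7 i).1 0 0 = (M7 i).1 1 1 → i = 0 := by decide

theorem Φ_inj : Function.Injective (Φ f) := by
  rw [injective_iff_map_eq_one]
  intro p hp
  obtain ⟨i, rfl⟩ := rep_surj p
  rw [Φ_rep] at hp
  obtain ⟨h1, h2, h3⟩ := q_scalar f _ hp
  rw [ker7 i h1 h2 h3]
  rfl

end target7

/-! ### Cardinalities and the isomorphism -/

theorem card_PSL27 {F : Type*} [Field F] [Fintype F] (hF : Fintype.card F = 7) :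
    Nat.card (Matrix.ProjectiveSpecialLinearGroup (Fin 2) F) = 168 := by
  have h := Cfsg.Agent.Lib.Helper5.SL2Card.card_PSL_two hF
  norm_num at h
  omega

theorem card_PSL32 {K : Type*} [Field K] [Fintype K] (hK : Fintype.card K = 2) :
    Nat.card (Matrix.ProjectiveSpecialLinearGroup (Fin 3) K) = 168 := by
  have h1 := Cfsg.Agent.Lib.Helper43.SLCard.card_SL (F := K) 3 (by norm_num)
  rw [Matrix.card_GL_field, hK] at h1
  have h2 := Subgroup.card_eq_card_quotient_mul_card_subgroup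
    (Subgroup.center (Matrix.SpecialLinearGroup (Fin 3) K))
  have hc : Nat.card (Subgroup.center (Matrix.SpecialLinearGroup (Fin 3) K)) = 1 := by
    rw [Cfsg.Agent.Lib.Helper43.SLCard.center_SL_eq_bot_of_card_two hK]
    exact Subgroup.card_bot
  rw [hc] at h2
  show Nat.card (Matrix.SpecialLinearGroup (Fin 3) K ⧸
    Subgroup.center (Matrix.SpecialLinearGroup (Fin 3) K)) = 168
  simp [Fin.prod_univ_three] at h1
  omega

theorem map3_inj {K : Type*} [Field K] (f : ZMod 2 →+* K) :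
    Function.Injective (Matrix.SpecialLinearGroup.map (n := Fin 3) f) := by
  intro A B h
  apply Subtype.ext
  ext i j
  have h1 := congrArg (fun X : Matrix.SpecialLinearGroup (Fin 3) K => X.1 i j) h
  simp only [Matrix.SpecialLinearGroup.map_apply_coe, RingHom.mapMatrix_apply, Matrix.map_apply] at h1
  exact RingHom.injective f h1

/-- PSL_2(7) is isomorphic to PSL_3(2). -/
theorem result {F K : Type*} [Field F] [Fintype F] [Field K] [Fintype K] (hF : Fintype.card F = 7) (hK : Fintype.card K = 2) : Nonempty (Matrix.ProjectiveSpecialLinearGroup (Fin 2) F ≃* Matrix.ProjectiveSpecialLinearGroup (Fin 3) K) := by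
  classical
  let f7 : ZMod 7 →+* F := (ZMod.ringEquivOfPrime F (by norm_num) hF).toRingHom
  let f2 : ZMod 2 →+* K := (ZMod.ringEquivOfPrime K Nat.prime_two hK).toRingHom
  -- P ≃ PSL(2, F)
  have hfinF : Finite (Matrix.ProjectiveSpecialLinearGroup (Fin 2) F) :=
    Nat.finite_of_card_ne_zero (by rw [card_PSL27 hF]; norm_num)
  have hb1 : Function.Bijective (Φ f7) :=
    (Φ_inj f7).bijective_of_nat_card_le (by rw [card_PSL27 hF, card_P])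
  -- P ≃ PSL(3, K)
  have hc := Cfsg.Agent.Lib.Helper43.SLCard.center_SL_eq_bot_of_card_two hK 3
  let Ψ : P →* Matrix.ProjectiveSpecialLinearGroup (Fin 3) K :=
    ((QuotientGroup.mk' (Subgroup.center (Matrix.SpecialLinearGroup (Fin 3) K))).comp
      (Matrix.SpecialLinearGroup.map f2)).comp ψ0
  have hΨ : Function.Injective Ψ := by
    have hq : Function.Injective
        (QuotientGroup.mk' (Subgroup.center (Matrix.SpecialLinearGroup (Fin 3) K))) := by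
      rw [← MonoidHom.ker_eq_bot_iff, QuotientGroup.ker_mk', hc]
    exact (hq.comp (map3_inj f2)).comp ψ0_inj
  have hfinK : Finite (Matrix.ProjectiveSpecialLinearGroup (Fin 3) K) :=
    Nat.finite_of_card_ne_zero (by rw [card_PSL32 hK]; norm_num)
  have hb2 : Function.Bijective Ψ :=
    hΨ.bijective_of_nat_card_le (by rw [card_PSL32 hK, card_P])
  exact ⟨(MulEquiv.ofBijective (Φ f7) hb1).symm.trans (MulEquiv.ofBijective Ψ hb2)⟩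

end Cfsg.Agent.S0255
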