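import Cfsg.Statements.S4231
import Mathlib
import Cfsg.Agent.S2119

set_option autoImplicit false
open Cfsg

namespace Cfsg.Agent.S4231

open Equiv Equiv.Perm

/-- Conjugation `S_n → Aut(A_n)` is injective for `n ≥ 4`. -/
theorem conjNormal_injective (n : ℕ) (hn : 4 ≤ n) :
    Function.Injective (MulAut.conjNormal : Equiv.Perm (Fin n) →* MulAut ↥(alternatingGroup (Fin n))) := by
  classical
  have exists_not_mem : ∀ s : Finset (Fin n), s.card < n → ∃ k, k ∉ s := by
    intro s h
    by_contra hcon
    push Not at hcon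
    have : s = Finset.univ := Finset.eq_univ_iff_forall.mpr hcon
    rw [this, Finset.card_univ, Fintype.card_fin] at h
    omega
  rw [injective_iff_map_eq_one]
  intro σ hσ
  apply Perm.ext
  intro x
  by_contra hx
  have hx' : σ x ≠ x := hx
  obtain ⟨k, hk⟩ := exists_not_mem {x, σ x} (lt_of_le_of_lt Finset.card_le_two (by omega))
  obtain ⟨l, hl⟩ := exists_not_mem {x, σ x, k} (lt_of_le_of_lt Finset.card_le_three (by omega))
  simp only [Finset.mem_insert, Finset.mem_singleton, not_or] at hk hl
  have hsk : σ x ≠ k := Ne.symm hk.2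
  have hkl : k ≠ l := Ne.symm hl.2.2
  have hsl : σ x ≠ l := Ne.symm hl.2.1
  have hmem := Cfsg.Agent.S2119.c3_mem hsk hkl hsl
  have h1 := congrArg (fun f : MulAut (alternatingGroup (Fin n)) =>
    ((f ⟨Cfsg.Agent.S2119.c3 (σ x) k l, hmem⟩ : alternatingGroup (Fin n)) : Perm (Fin n))) hσ
  simp only [MulAut.conjNormal_apply, MulAut.one_apply] at h1
  have h2 := congrArg (fun f : Perm (Fin n) => f (σ x)) h1
  simp only [Perm.mul_apply] at h2
  have e : σ⁻¹ (σ x) = x := by simp
  rw [e, Cfsg.Agent.S2119.c3_apply hsk hkl hsl, Cfsg.Agent.S2119.c3_apply hsk hkl hsl] at h2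
  simp only [if_true] at h2
  rw [if_neg (Ne.symm hx'), if_neg (Ne.symm hk.1), if_neg (Ne.symm hl.1)] at h2
  exact hsk h2

/-- A group of order `1` or a prime is commutative. -/
theorem comm_of_card {H : Type*} [Group H] (q : ℕ) [Fact q.Prime]
    (h : Nat.card H = 1 ∨ Nat.card H = q) (a b : H) : a * b = b * a := by
  rcases h with h | h
  · have : Subsingleton H := (Nat.card_eq_one_iff_unique.mp h).1
    exact Subsingleton.elim _ _
  · have : IsCyclic H := isCyclic_of_prime_card h
    obtain ⟨g, hg⟩ := IsCyclic.exists_generator (α := H)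
    obtain ⟨i, rfl⟩ := Subgroup.mem_zpowers_iff.mp (hg a)
    obtain ⟨j, rfl⟩ := Subgroup.mem_zpowers_iff.mp (hg b)
    rw [← zpow_add, ← zpow_add, add_comm]

/-- A `q`-subgroup of the symmetric group of degree `< q²` is commutative. -/
theorem comm_of_small {α : Type*} [Fintype α] [DecidableEq α] (q : ℕ) [Fact q.Prime]
    (P : Subgroup (Perm α)) (hP : IsPGroup q P) (hn : Fintype.card α < q ^ 2)
    (x : Perm α) (hx : x ∈ P) (y : Perm α) (hy : y ∈ P) : x * y = y * x := by
  have hq : q.Prime := Fact.out
  ext a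
  obtain ⟨k, hk⟩ := hP.card_orbit a
  have hle : Nat.card (MulAction.orbit P a) ≤ Fintype.card α := by
    rw [← Nat.card_eq_fintype_card]
    exact Nat.card_le_card_of_injective _ Subtype.val_injective
  have hk1 : k ≤ 1 := by
    by_contra hcon
    have h2 : 2 ≤ k := by omega
    have : q ^ 2 ≤ q ^ k := Nat.pow_le_pow_right hq.pos h2
    omega
  let ψ : P →* Perm (MulAction.orbit P a) := MulAction.toPermHom P (MulAction.orbit P a)
  have hR : IsPGroup q ψ.range := hP.of_surjective ψ.rangeRestrict ψ.rangeRestrict_surjective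
  obtain ⟨j, hj⟩ := IsPGroup.iff_card.mp hR
  have hdvd : Nat.card ψ.range ∣ (Nat.card (MulAction.orbit P a)).factorial := by
    rw [← Nat.card_perm]
    exact Subgroup.card_subgroup_dvd_card _
  have hcard : Nat.card ψ.range = 1 ∨ Nat.card ψ.range = q := by
    rw [hj] at hdvd ⊢
    rw [hk] at hdvd
    interval_cases k
    · simp only [pow_zero, Nat.factorial_one, Nat.dvd_one] at hdvd
      left; exact hdvd
    · rw [pow_one] at hdvd
      rcases Nat.lt_or_ge j 2 with hj2 | hj2
      · interval_cases j
        · left; simp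
        · right; simp
      · exfalso
        have h1 : q ^ 2 ∣ q.factorial := dvd_trans (pow_dvd_pow q hj2) hdvd
        have h2 : q.factorial = q * (q - 1).factorial := by
          conv_lhs => rw [← Nat.sub_add_cancel hq.pos]
          rw [Nat.factorial_succ, Nat.sub_add_cancel hq.pos]
        rw [h2, pow_two] at h1
        have h3 : q ∣ (q - 1).factorial := Nat.dvd_of_mul_dvd_mul_left hq.pos h1
        have h4 := (hq.dvd_factorial).mp h3
        have := hq.pos
        omega
  have hc := comm_of_card q hcard (⟨ψ ⟨x, hx⟩, ⟨_, rfl⟩⟩ : ψ.range) ⟨ψ ⟨y, hy⟩, ⟨_, rfl⟩⟩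
  have hc' : ψ ⟨x, hx⟩ * ψ ⟨y, hy⟩ = ψ ⟨y, hy⟩ * ψ ⟨x, hx⟩ := congrArg Subtype.val hc
  have h3 := congrArg (fun f : Perm (MulAction.orbit P a) =>
    ((f ⟨a, MulAction.mem_orbit_self a⟩ : MulAction.orbit P a) : α)) hc'
  simpa [ψ] using h3

/-- Elements of order 3 in `S_6` have cycle type `{3}` or `{3, 3}`. -/
theorem cycleType_of_order_three (s : Perm (Fin 6)) (hs : orderOf s = 3) :
    s.cycleType = {3} ∨ s.cycleType = {3, 3} := by
  obtain ⟨k, hk⟩ := cycleType_prime_order (σ := s) (by rw [hs]; exact Nat.prime_three)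
  rw [hs] at hk
  have hsum := sum_cycleType s
  rw [hk, Multiset.sum_replicate, smul_eq_mul] at hsum
  have h2 := Finset.card_le_univ s.support
  rw [Fintype.card_fin] at h2
  have hk1 : k = 0 ∨ k = 1 := by omega
  rcases hk1 with rfl | rfl
  · left; rw [hk]; rfl
  · right; rw [hk]; rfl

theorem card_c1 : (Finset.univ.filter fun s : Perm (Fin 6) => s.cycleType = {3}).card = 40 := by
  have c3 := card_of_cycleType_mul_eq (Fin 6) ({3} : Multiset ℕ)
  rw [if_pos (by
    refine ⟨?_, ?_⟩
    · rw [Multiset.sum_singleton, Fintype.card_fin]; omega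
    · intro a ha; rw [Multiset.mem_singleton.mp ha]; norm_num)] at c3
  rw [Multiset.sum_singleton, Multiset.prod_singleton, Multiset.toFinset_singleton,
    Finset.prod_singleton, Multiset.count_singleton_self, Fintype.card_fin] at c3
  have e1 : (6 - 3).factorial * 3 * Nat.factorial 1 = 18 := by norm_num [Nat.factorial]
  have e2 : (6 : ℕ).factorial = 720 := by norm_num [Nat.factorial]
  rw [e1, e2] at c3
  omega

theorem card_c2 : (Finset.univ.filter fun s : Perm (Fin 6) => s.cycleType = {3, 3}).card = 40 := by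
  have c3 := card_of_cycleType_mul_eq (Fin 6) ({3, 3} : Multiset ℕ)
  rw [if_pos (by
    refine ⟨?_, ?_⟩
    · rw [Fintype.card_fin]; decide
    · intro a ha
      have : a = 3 := by
        simp only [Multiset.insert_eq_cons, Multiset.mem_cons, Multiset.mem_singleton] at ha
        omega
      omega)] at c3
  have e0 : ({3, 3} : Multiset ℕ).sum = 6 := by decide
  have e3 : ({3, 3} : Multiset ℕ).prod = 9 := by decide
  have e4 : ({3, 3} : Multiset ℕ).toFinset = {3} := by decide
  have e5 : ({3, 3} : Multiset ℕ).count 3 = 2 := by decide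
  rw [e0, e3, e4, Finset.prod_singleton, e5, Fintype.card_fin] at c3
  have e1 : (6 - 6).factorial * 9 * Nat.factorial 2 = 18 := by norm_num [Nat.factorial]
  have e2 : (6 : ℕ).factorial = 720 := by norm_num [Nat.factorial]
  rw [e1, e2] at c3
  omega

/-- In `A_6`, the square of every automorphism preserves 3-cycles. -/
theorem sq_preserves (φ : MulAut (alternatingGroup (Fin 6))) (g : alternatingGroup (Fin 6))
    (hg : IsThreeCycle (g : Perm (Fin 6))) :
    IsThreeCycle ((φ (φ g) : alternatingGroup (Fin 6)) : Perm (Fin 6)) := by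
  classical
  have hord : ∀ a : alternatingGroup (Fin 6), orderOf (a : Perm (Fin 6)) = 3 →
      orderOf ((φ a : alternatingGroup (Fin 6)) : Perm (Fin 6)) = 3 := by
    intro a ha
    rw [Subgroup.orderOf_coe, MulEquiv.orderOf_eq, ← Subgroup.orderOf_coe]
    exact ha
  by_cases hall : ∀ c : alternatingGroup (Fin 6), IsThreeCycle (c : Perm (Fin 6)) →
      IsThreeCycle ((φ c : alternatingGroup (Fin 6)) : Perm (Fin 6))
  · exact hall _ (hall g hg)
  push Not at hall
  obtain ⟨c₀, hc₀, hc₀'⟩ := hall
  have h33 : ∀ c : alternatingGroup (Fin 6), IsThreeCycle (c : Perm (Fin 6)) →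
      ((φ c : alternatingGroup (Fin 6)) : Perm (Fin 6)).cycleType = {3, 3} := by
    intro c hc
    have hconj : IsConj c c₀ :=
      alternatingGroup.isThreeCycle_isConj (by rw [Nat.card_eq_fintype_card, Fintype.card_fin]; omega) hc hc₀
    obtain ⟨b, hb⟩ := isConj_iff.mp hconj
    have h1 : φ b * φ c * (φ b)⁻¹ = φ c₀ := by rw [← map_inv, ← map_mul, ← map_mul, hb]
    have h2 : ((φ c₀ : alternatingGroup (Fin 6)) : Perm (Fin 6)).cycleType =
        ((φ c : alternatingGroup (Fin 6)) : Perm (Fin 6)).cycleType := by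
      rw [← h1]
      simp only [Subgroup.coe_mul, Subgroup.coe_inv]
      exact cycleType_conj
    rw [← h2]
    rcases cycleType_of_order_three _ (hord c₀ hc₀.orderOf) with h | h
    · exact absurd h hc₀'
    · exact h
  set C1 := Finset.univ.filter fun s : Perm (Fin 6) => s.cycleType = {3} with hC1
  set C2 := Finset.univ.filter fun s : Perm (Fin 6) => s.cycleType = {3, 3} with hC2
  let f : Perm (Fin 6) → Perm (Fin 6) := fun s =>
    if h : s ∈ alternatingGroup (Fin 6) then ((φ ⟨s, h⟩ : alternatingGroup (Fin 6)) : Perm (Fin 6)) else s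
  have hmemA : ∀ s ∈ C1, s ∈ alternatingGroup (Fin 6) := by
    intro s hs
    exact IsThreeCycle.mem_alternatingGroup (Finset.mem_filter.mp hs).2
  have hf : ∀ s (hs : s ∈ C1), f s = ((φ ⟨s, hmemA s hs⟩ : alternatingGroup (Fin 6)) : Perm (Fin 6)) := by
    intro s hs
    simp only [f, dif_pos (hmemA s hs)]
  have himg : C1.image f ⊆ C2 := by
    intro t ht
    obtain ⟨s, hs, rfl⟩ := Finset.mem_image.mp ht
    rw [hf s hs]
    exact Finset.mem_filter.mpr ⟨Finset.mem_univ _, h33 _ (Finset.mem_filter.mp hs).2⟩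
  have hinj : Set.InjOn f C1 := by
    intro s hs t ht hst
    rw [Finset.mem_coe] at hs ht
    rw [hf s hs, hf t ht] at hst
    have := φ.injective (Subtype.ext hst)
    exact congrArg Subtype.val this
  have hcard : (C1.image f).card = C1.card := Finset.card_image_of_injOn hinj
  have heq : C1.image f = C2 :=
    Finset.eq_of_subset_of_card_le himg (by rw [hcard, hC1, hC2, card_c1, card_c2])
  -- now φ (φ g)
  have hd : ((φ g : alternatingGroup (Fin 6)) : Perm (Fin 6)).cycleType = {3, 3} := h33 g hg
  have hd3 : orderOf ((φ g : alternatingGroup (Fin 6)) : Perm (Fin 6)) = 3 := hord g hg.orderOf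
  rcases cycleType_of_order_three _ (hord (φ g) hd3) with h | h
  · exact h
  · exfalso
    have hmem : ((φ (φ g) : alternatingGroup (Fin 6)) : Perm (Fin 6)) ∈ C2 :=
      Finset.mem_filter.mpr ⟨Finset.mem_univ _, h⟩
    rw [← heq] at hmem
    obtain ⟨s, hs, hse⟩ := Finset.mem_image.mp hmem
    rw [hf s hs] at hse
    have h1 := φ.injective (Subtype.ext hse)
    have h2 : (s : Perm (Fin 6)) = ((φ g : alternatingGroup (Fin 6)) : Perm (Fin 6)) :=
      congrArg Subtype.val h1
    have h3 : s.cycleType = {3} := (Finset.mem_filter.mp hs).2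
    rw [h2, hd] at h3
    revert h3
    decide

/-- In `A_6`, automorphisms of odd order preserve 3-cycles. -/
theorem odd_preserves (φ : MulAut (alternatingGroup (Fin 6))) (hodd : Odd (orderOf φ))
    (g : alternatingGroup (Fin 6)) (hg : IsThreeCycle (g : Perm (Fin 6))) :
    IsThreeCycle ((φ g : alternatingGroup (Fin 6)) : Perm (Fin 6)) := by
  obtain ⟨m, hm⟩ := hodd
  have h1 : (φ ^ 2) ^ (m + 1) = φ := by
    rw [← pow_mul]
    have : 2 * (m + 1) = orderOf φ + 1 := by omega
    rw [this, pow_succ, pow_orderOf_eq_one, one_mul]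
  have key : ∀ j : ℕ, ∀ g : alternatingGroup (Fin 6), IsThreeCycle (g : Perm (Fin 6)) →
      IsThreeCycle ((((φ ^ 2) ^ j) g : alternatingGroup (Fin 6)) : Perm (Fin 6)) := by
    intro j
    induction j with
    | zero => intro g hg; simpa using hg
    | succ j ih =>
      intro g hg
      rw [pow_succ, MulAut.mul_apply, pow_two, MulAut.mul_apply]
      exact ih _ (sq_preserves φ g hg)
  have := key (m + 1) g hg
  rw [h1] at this
  exact this

/-- Automorphisms of `A_n` (`n ≥ 5`) of odd order are induced by permutations. -/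
theorem exists_perm (n : ℕ) (hn : 5 ≤ n) (φ : MulAut (alternatingGroup (Fin n)))
    (hodd : Odd (orderOf φ)) : ∃ σ : Perm (Fin n), MulAut.conjNormal σ = φ := by
  by_cases h6 : n = 6
  · subst h6
    have he : (⟨0, by omega⟩ : Fin 6) ≠ ⟨1, by omega⟩ := by simp
    obtain ⟨σ, hσ⟩ := Cfsg.Agent.S2119.exists_conj (e0 := (⟨0, by omega⟩ : Fin 6))
      (e1 := ⟨1, by omega⟩)
      (p2 := ⟨2, by omega⟩) (p3 := ⟨3, by omega⟩) he (by simp [Fin.ext_iff])
      (by simp [Fin.ext_iff]) (by simp [Fin.ext_iff]) (by simp [Fin.ext_iff])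
      (by simp [Fin.ext_iff])
      ((alternatingGroup (Fin 6)).subtype.comp φ.toMonoidHom)
      (fun a b hab => φ.injective (Subtype.ext hab))
      (fun g hg => odd_preserves φ hodd g hg)
    refine ⟨σ, ?_⟩
    ext g : 2
    rw [MulAut.conjNormal_apply]
    exact (hσ g).symm
  · exact (Cfsg.Agent.S2119.result n (by omega) h6).2 φ

/-- Let n ≥ 5 and let G be a group of automorphisms of the alternating group of degree n containing all inner automorphisms. If p ≠ q are primes and G has no element of order pq, then every Sylow p-subgroup of G is abelian or every Sylow q-subgroup of G is abelian. -/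
theorem result (n : ℕ) (hn : 5 ≤ n) (G : Subgroup (MulAut (alternatingGroup (Fin n))))
    (hG : (MulAut.conj : alternatingGroup (Fin n) →* MulAut (alternatingGroup (Fin n))).range ≤ G)
    (p q : ℕ) [Fact p.Prime] [Fact q.Prime] (hpq : p ≠ q) (h : ∀ g : G, orderOf g ≠ p * q) :
    (∀ P : Sylow p G, IsMulCommutative (P : Subgroup G)) ∨ (∀ Q : Sylow q G, IsMulCommutative (Q : Subgroup G)) := by
  wlog hlt : p < q generalizing p q
  · have hlt' : q < p := lt_of_le_of_ne (not_lt.mp hlt) hpq.symm
    exact (this q p hpq.symm (fun g => by rw [mul_comm]; exact h g) hlt').symm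
  right
  have hp : p.Prime := Fact.out
  have hq : q.Prime := Fact.out
  have hq3 : 3 ≤ q := by have := hp.two_le; omega
  have hqodd : Odd q := hq.odd_of_ne_two (by omega)
  have hinj := conjNormal_injective n (by omega)
  -- the degree is less than q²
  have hnq : n < q ^ 2 := by
    by_contra hcon
    push Not at hcon
    have hq2 : q + 6 ≤ q ^ 2 := by nlinarith
    have hq2' : 2 * q ≤ q ^ 2 := by nlinarith
    obtain ⟨g, hg⟩ : ∃ g : Perm (Fin n),
        g.cycleType = (if p = 2 then {2, 2, q} else {p, q} : Multiset ℕ) := by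
      rw [Equiv.Perm.exists_with_cycleType_iff, Fintype.card_fin]
      split_ifs with hp2
      · refine ⟨?_, ?_⟩
        · simp only [Multiset.insert_eq_cons, Multiset.sum_cons, Multiset.sum_singleton]
          omega
        · intro a ha
          simp only [Multiset.insert_eq_cons, Multiset.mem_cons, Multiset.mem_singleton] at ha
          omega
      · refine ⟨?_, ?_⟩
        · simp only [Multiset.insert_eq_cons, Multiset.sum_cons, Multiset.sum_singleton]
          omega
        · intro a ha
          simp only [Multiset.insert_eq_cons, Multiset.mem_cons, Multiset.mem_singleton] at ha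
          have := hp.two_le
          omega
    have hsign : sign g = 1 := by
      rw [sign_of_cycleType, hg]
      apply Even.neg_one_pow
      obtain ⟨m, hm⟩ := hqodd
      split_ifs with hp2
      · simp only [Multiset.insert_eq_cons, Multiset.sum_cons, Multiset.sum_singleton,
          Multiset.card_cons, Multiset.card_singleton]
        exact ⟨m + 4, by omega⟩
      · obtain ⟨m', hm'⟩ := hp.odd_of_ne_two hp2
        simp only [Multiset.insert_eq_cons, Multiset.sum_cons, Multiset.sum_singleton,
          Multiset.card_cons, Multiset.card_singleton]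
        exact ⟨m + m' + 2, by omega⟩
    have hord : orderOf g = p * q := by
      rw [← lcm_cycleType, hg]
      split_ifs with hp2
      · subst hp2
        simp only [Multiset.insert_eq_cons, Multiset.lcm_cons, Multiset.lcm_singleton,
          normalize_eq]
        have hc : Nat.Coprime 2 q := (Nat.coprime_primes Nat.prime_two hq).mpr hpq
        have h1 : lcm 2 q = 2 * q := by
          rw [lcm_eq_nat_lcm]; exact hc.lcm_eq_mul
        rw [h1, lcm_eq_nat_lcm]
        exact Nat.lcm_eq_right (Dvd.intro _ rfl)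
      · simp only [Multiset.insert_eq_cons, Multiset.lcm_cons, Multiset.lcm_singleton,
          normalize_eq]
        rw [lcm_eq_nat_lcm]
        exact ((Nat.coprime_primes hp hq).mpr hpq).lcm_eq_mul
    let a : alternatingGroup (Fin n) := ⟨g, mem_alternatingGroup.mpr hsign⟩
    have hmem : MulAut.conj a ∈ G := hG ⟨a, rfl⟩
    apply h ⟨MulAut.conj a, hmem⟩
    rw [Subgroup.orderOf_mk, ← MulAut.conjNormal_val, orderOf_injective _ hinj]
    exact hord
  intro Q
  let P' : Subgroup (Perm (Fin n)) :=
    ((Q : Subgroup G).map G.subtype).comap MulAut.conjNormal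
  have hP' : IsPGroup q P' := (Q.2.map G.subtype).comap_of_injective _ hinj
  have hcomm := comm_of_small q P' hP' (by rw [Fintype.card_fin]; exact hnq)
  have hoddQ : ∀ a : (Q : Subgroup G), Odd (orderOf ((a : G) : MulAut (alternatingGroup (Fin n)))) := by
    intro a
    obtain ⟨k, hk⟩ := (IsPGroup.iff_orderOf.mp Q.2) a
    rw [Subgroup.orderOf_coe, Subgroup.orderOf_coe, hk]
    exact hqodd.pow
  have hex : ∀ a : (Q : Subgroup G), ∃ σ ∈ P', MulAut.conjNormal σ = ((a : G) : MulAut (alternatingGroup (Fin n))) := by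
    intro a
    obtain ⟨σ, hσ⟩ := exists_perm n hn _ (hoddQ a)
    refine ⟨σ, ?_, hσ⟩
    show MulAut.conjNormal σ ∈ (Q : Subgroup G).map G.subtype
    rw [hσ]
    exact ⟨a, a.2, rfl⟩
  refine ⟨⟨fun a b => ?_⟩⟩
  obtain ⟨σ, hσP, hσ⟩ := hex a
  obtain ⟨τ, hτP, hτ⟩ := hex b
  have h1 := hcomm σ hσP τ hτP
  apply Subtype.ext
  apply Subtype.ext
  show ((a : G) : MulAut (alternatingGroup (Fin n))) * ((b : G) : MulAut (alternatingGroup (Fin n))) =
    ((b : G) : MulAut (alternatingGroup (Fin n))) * ((a : G) : MulAut (alternatingGroup (Fin n)))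
  rw [← hσ, ← hτ, ← map_mul, h1, map_mul]

end Cfsg.Agent.S4231
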