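import Mathlib
import Cfsg.Statements.S0549

set_option autoImplicit false
open Cfsg

namespace Cfsg.Agent.S0549

theorem sup_eq_top_of_normal {G : Type*} [Group G] (U : Subgroup G) (hU : IsCoatom U)
    (hcore : U.normalCore = ⊥) (K : Subgroup G) [K.Normal] (hK : K ≠ ⊥) : K ⊔ U = ⊤ := by
  have hKU : ¬ K ≤ U := by
    intro hle
    have : K ≤ U.normalCore := Subgroup.normal_le_normalCore.mpr hle
    rw [hcore] at this
    exact hK (le_bot_iff.mp this)
  apply hU.2
  exact lt_of_le_of_ne le_sup_right (fun h => hKU (h ▸ le_sup_left))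

theorem cent_inf_eq_bot {G : Type*} [Group G] (U : Subgroup G) (hU : IsCoatom U)
    (hcore : U.normalCore = ⊥) (N : Subgroup G) [N.Normal] (hN : N ≠ ⊥) :
    Subgroup.centralizer (N : Set G) ⊓ U = ⊥ := by
  have hNU := sup_eq_top_of_normal U hU hcore N hN
  have hnorm : (Subgroup.centralizer (N : Set G) ⊓ U).Normal := by
    constructor
    intro x hx g
    have hg : g ∈ N ⊔ U := by rw [hNU]; trivial
    obtain ⟨n, hn, u, hu, rfl⟩ := Subgroup.mem_sup_of_normal_left.mp hg
    have hux : u * x * u⁻¹ ∈ Subgroup.centralizer (N : Set G) ⊓ U :=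
      ⟨(inferInstance : (Subgroup.centralizer (N : Set G)).Normal).conj_mem x hx.1 u,
        U.mul_mem (U.mul_mem hu hx.2) (U.inv_mem hu)⟩
    have hcomm : n * (u * x * u⁻¹) = (u * x * u⁻¹) * n :=
      (Subgroup.mem_centralizer_iff.mp hux.1 n hn)
    have : n * u * x * (n * u)⁻¹ = u * x * u⁻¹ := by
      have : n * u * x * (n * u)⁻¹ = n * (u * x * u⁻¹) * n⁻¹ := by group
      rw [this, hcomm]; group
    rw [this]
    exact hux
  have : Subgroup.centralizer (N : Set G) ⊓ U ≤ U.normalCore :=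
    Subgroup.normal_le_normalCore.mpr inf_le_right
  rw [hcore] at this
  exact le_bot_iff.mp this

theorem result {G : Type*} [Group G] [Finite G] (U : Subgroup G) (hU : IsCoatom U) (hcore : U.normalCore = ⊥) (N : Subgroup G) [N.Normal] (hN : N ≠ ⊥) : Subgroup.centralizer (N : Set G) ⊓ U = ⊥ ∧ (Subgroup.centralizer (N : Set G) = ⊥ ∨ (Subgroup.centralizer (N : Set G) ≠ ⊥ ∧ ∀ K : Subgroup G, K.Normal → K ≤ Subgroup.centralizer (N : Set G) → K = ⊥ ∨ K = Subgroup.centralizer (N : Set G))) := by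
  have h1 := cent_inf_eq_bot U hU hcore N hN
  refine ⟨h1, ?_⟩
  by_cases hC : Subgroup.centralizer (N : Set G) = ⊥
  · exact Or.inl hC
  · refine Or.inr ⟨hC, ?_⟩
    intro K hKn hKC
    by_cases hK : K = ⊥
    · exact Or.inl hK
    · refine Or.inr (le_antisymm hKC ?_)
      haveI := hKn
      have hKU := sup_eq_top_of_normal U hU hcore K hK
      intro c hc
      have hg : c ∈ K ⊔ U := by rw [hKU]; trivial
      obtain ⟨k, hk, u, hu, rfl⟩ := Subgroup.mem_sup_of_normal_left.mp hg
      have hu' : u ∈ Subgroup.centralizer (N : Set G) ⊓ U := by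
        refine ⟨?_, hu⟩
        have : u = k⁻¹ * (k * u) := by group
        rw [this]
        exact Subgroup.mul_mem _ (Subgroup.inv_mem _ (hKC hk)) hc
      rw [h1, Subgroup.mem_bot] at hu'
      rw [hu', mul_one]
      exact hk

end Cfsg.Agent.S0549
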