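import Cfsg.Statements.S0587
import Cfsg.Agent.S0549
import Cfsg.Agent.Lib.Helper10.Timmesfeld
import Mathlib

set_option autoImplicit false
open Cfsg

namespace Cfsg.Agent.S0587

theorem pCore_normal {G : Type*} [Group G] (p : ℕ) : (Cfsg.pCore p G).Normal := by
  unfold Cfsg.pCore
  exact Subgroup.sSup_normal _ (fun N hN => hN.1)

theorem pCore_isPGroup {G : Type*} [Group G] [Finite G] (p : ℕ) [Fact p.Prime] :
    IsPGroup p (Cfsg.pCore p G) := by
  obtain ⟨P⟩ : Nonempty (Sylow p G) := inferInstance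
  apply P.isPGroup'.to_le
  unfold Cfsg.pCore
  apply sSup_le
  rintro N ⟨hNn, hNp⟩
  have := hNn
  exact hNp.le_sylow_of_normal P

theorem le_pCore {G : Type*} [Group G] (p : ℕ) (N : Subgroup G) (hN : N.Normal)
    (hNp : IsPGroup p N) : N ≤ Cfsg.pCore p G := by
  unfold Cfsg.pCore
  exact le_sSup ⟨hN, hNp⟩

theorem le_normalizer_of_conj_mem {G : Type*} [Group G] (X K : Subgroup G)
    (h : ∀ x ∈ X, ∀ k ∈ K, x * k * x⁻¹ ∈ K) : X ≤ Subgroup.normalizer (K : Set G) := by
  intro x hx
  rw [Subgroup.mem_normalizer_iff]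
  intro k
  constructor
  · exact h x hx k
  · intro hk
    have h1 := h x⁻¹ (X.inv_mem hx) _ hk
    have e : x⁻¹ * (x * k * x⁻¹) * x⁻¹⁻¹ = k := by group
    rwa [e] at h1

theorem normal_of_sup_top {G : Type*} [Group G] (A B K : Subgroup G) (hAB : A ⊔ B = ⊤)
    (hA : ∀ x ∈ A, ∀ k ∈ K, x * k * x⁻¹ ∈ K) (hB : ∀ x ∈ B, ∀ k ∈ K, x * k * x⁻¹ ∈ K) :
    K.Normal := by
  rw [← Subgroup.normalizer_eq_top_iff, eq_top_iff, ← hAB]
  exact sup_le (le_normalizer_of_conj_mem A K hA) (le_normalizer_of_conj_mem B K hB)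

/-- Let G be a finite group whose largest normal p-subgroup L is nontrivial, and M a maximal subgroup of G with trivial normal core. Then L is elementary abelian, M is a complement to L, L is a minimal normal subgroup of G, the centralizer of L is L, and for every prime q such that the largest normal q-subgroup of M is nontrivial, the order of L is congruent to 1 modulo q and q ≠ p. -/
theorem result {G : Type*} [Group G] [Finite G] (p : ℕ) [Fact p.Prime] (hL : Cfsg.pCore p G ≠ ⊥) (M : Subgroup G) (hM : IsCoatom M) (hcore : M.normalCore = ⊥) : Cfsg.IsElementaryAbelian p (Cfsg.pCore p G) ∧ Subgroup.IsComplement' (Cfsg.pCore p G) M ∧ (∀ K : Subgroup G, K.Normal → K ≤ Cfsg.pCore p G → K = ⊥ ∨ K = Cfsg.pCore p G) ∧ Subgroup.centralizer ((Cfsg.pCore p G : Subgroup G) : Set G) = Cfsg.pCore p G ∧ ∀ (q : ℕ) [Fact q.Prime], Cfsg.pCore q ↥M ≠ ⊥ → Nat.card (Cfsg.pCore p G) % q = 1 % q ∧ q ≠ p := by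
  have hpp := (Fact.out : p.Prime)
  have hLmax : ∀ N : Subgroup G, N.Normal → IsPGroup p N → N ≤ Cfsg.pCore p G :=
    fun N hN hNp => le_pCore p N hN hNp
  obtain ⟨L, hLdef⟩ : ∃ L : Subgroup G, L = Cfsg.pCore p G := ⟨_, rfl⟩
  rw [← hLdef] at hL hLmax ⊢
  have hLn : L.Normal := by rw [hLdef]; exact pCore_normal p
  have hLp : IsPGroup p L := by rw [hLdef]; exact pCore_isPGroup p
  obtain ⟨N, ⟨hNn, hNne, hNL⟩, hNmin'⟩ := exists_minimal_of_wellFoundedLT
    (fun K : Subgroup G => K.Normal ∧ K ≠ ⊥ ∧ K ≤ L) ⟨L, hLn, hL, le_rfl⟩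
  have hNmin : ∀ K : Subgroup G, K.Normal → K ≤ N → K = ⊥ ∨ K = N := by
    intro K hK hKN
    by_cases h : K = ⊥
    · exact Or.inl h
    · exact Or.inr (le_antisymm hKN (hNmin' ⟨hK, h, hKN.trans hNL⟩ hKN))
  have hcomm : ⁅N, L⁆ = ⊥ := by
    rcases hNmin ⁅N, L⁆ inferInstance (Subgroup.commutator_le_left N L) with h | h
    · exact h
    · exfalso
      have hLnorm : L ≤ Subgroup.normalizer (N : Set G) := by
        rw [Subgroup.normalizer_eq_top_iff.mpr hNn]; exact le_top
      exact hNne (Cfsg.Agent.Lib.Helper10.Timmesfeld.nilp N L N (hLp.to_le hNL) hLp hLnorm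
        le_rfl h.ge)
  have hLC : L ≤ Subgroup.centralizer (N : Set G) := by
    rw [Subgroup.commutator_comm] at hcomm
    exact Subgroup.commutator_eq_bot_iff_le_centralizer.mp hcomm
  have hCM : Subgroup.centralizer (N : Set G) ⊓ M = ⊥ :=
    Cfsg.Agent.S0549.cent_inf_eq_bot M hM hcore N hNne
  have hNM : N ⊔ M = ⊤ := Cfsg.Agent.S0549.sup_eq_top_of_normal M hM hcore N hNne
  have hLM : L ⊓ M = ⊥ := by
    apply le_bot_iff.mp
    rw [← hCM]
    exact inf_le_inf_right M hLC
  have hLN : N = L := by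
    apply le_antisymm hNL
    intro l hl
    have h1 : l ∈ N ⊔ M := by rw [hNM]; trivial
    obtain ⟨n, hn, m, hm, rfl⟩ := Subgroup.mem_sup_of_normal_left.mp h1
    have hmL : m ∈ L ⊓ M := by
      refine ⟨?_, hm⟩
      have e : m = n⁻¹ * (n * m) := by group
      rw [e]; exact L.mul_mem (L.inv_mem (hNL hn)) hl
    rw [hLM, Subgroup.mem_bot] at hmL
    rw [hmL, mul_one]; exact hn
  subst hLN
  -- now N is L
  have hCL : Subgroup.centralizer (N : Set G) = N := by
    apply le_antisymm _ hLC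
    intro c hc
    have h1 : c ∈ N ⊔ M := by rw [hNM]; trivial
    obtain ⟨n, hn, m, hm, rfl⟩ := Subgroup.mem_sup_of_normal_left.mp h1
    have hmC : m ∈ Subgroup.centralizer (N : Set G) ⊓ M := by
      refine ⟨?_, hm⟩
      have e : m = n⁻¹ * (n * m) := by group
      rw [e]; exact Subgroup.mul_mem _ (Subgroup.inv_mem _ (hLC hn)) hc
    rw [hCM, Subgroup.mem_bot] at hmC
    rw [hmC, mul_one]; exact hn
  have hcompl : Subgroup.IsComplement' N M := by
    apply Subgroup.isComplement'_of_disjoint_and_mul_eq_univ (disjoint_iff.mpr hLM)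
    rw [← Subgroup.normal_mul, hNM]; rfl
  have hNcomm : ∀ a ∈ N, ∀ b ∈ N, a * b = b * a := by
    intro a ha b hb
    exact (Subgroup.mem_centralizer_iff.mp (hLC hb) a ha)
  have hea : Cfsg.IsElementaryAbelian p N := by
    refine ⟨Subgroup.le_centralizer_iff_isMulCommutative.mp hLC, ?_⟩
    let K : Subgroup G :=
      { carrier := {m | m ∈ N ∧ m ^ p = 1}
        mul_mem' := by
          rintro a b ⟨ha, ha'⟩ ⟨hb, hb'⟩
          refine ⟨N.mul_mem ha hb, ?_⟩
          have hc : Commute a b := hNcomm a ha b hb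
          rw [hc.mul_pow, ha', hb', mul_one]
        one_mem' := ⟨N.one_mem, one_pow p⟩
        inv_mem' := by
          rintro a ⟨ha, ha'⟩
          exact ⟨N.inv_mem ha, by rw [inv_pow, ha', inv_one]⟩ }
    have hKn : K.Normal := by
      constructor
      rintro n ⟨hn, hn'⟩ g
      refine ⟨hNn.conj_mem n hn g, ?_⟩
      rw [conj_pow, hn', mul_one, mul_inv_cancel]
    have hKN : K ≤ N := fun x hx => hx.1
    have hcard : Nat.card N ≠ 1 := fun h => hNne (Subgroup.card_eq_one.mp h)
    obtain ⟨k, hk⟩ := IsPGroup.iff_card.mp hLp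
    have hdvd : p ∣ Nat.card N := by
      rw [hk]
      rcases Nat.eq_zero_or_pos k with h0 | h0
      · rw [h0, pow_zero] at hk; exact absurd hk hcard
      · exact dvd_pow_self p h0.ne'
    obtain ⟨x, hx⟩ := exists_prime_orderOf_dvd_card' (G := N) p hdvd
    have hxK : (x : G) ∈ K := by
      refine ⟨x.2, ?_⟩
      have : x ^ p = 1 := by rw [← hx]; exact pow_orderOf_eq_one x
      exact_mod_cast congrArg Subtype.val this
    have hKne : K ≠ ⊥ := by
      intro h
      rw [h, Subgroup.mem_bot] at hxK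
      have hx1 : x = 1 := Subtype.ext hxK
      rw [hx1, orderOf_one] at hx
      exact hpp.one_lt.ne hx
    have hKeq : K = N := (hNmin K hKn hKN).resolve_left hKne
    intro a ha
    have haK : a ∈ K := by rw [hKeq]; exact ha
    exact haK.2
  refine ⟨hea, hcompl, hNmin, hCL, ?_⟩
  intro q hq hQ
  have hqq := (Fact.out : q.Prime)
  have hQ₀n : (Cfsg.pCore q ↥M).Normal := pCore_normal q
  have hQ₀q : IsPGroup q (Cfsg.pCore q ↥M) := pCore_isPGroup q
  obtain ⟨Q, hQdef⟩ : ∃ Q : Subgroup G, Q = (Cfsg.pCore q ↥M).map M.subtype := ⟨_, rfl⟩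
  have hQne : Q ≠ ⊥ := by
    rw [hQdef]
    intro h
    exact hQ ((Subgroup.map_eq_bot_iff_of_injective _ (Subgroup.subtype_injective M)).mp h)
  have hQM : Q ≤ M := by rw [hQdef]; exact Subgroup.map_subtype_le _
  have hQq : IsPGroup q Q := by rw [hQdef]; exact hQ₀q.map _
  have hMQ : ∀ m ∈ M, ∀ y ∈ Q, m * y * m⁻¹ ∈ Q := by
    intro m hm y hy
    rw [hQdef] at hy ⊢
    obtain ⟨y', hy', rfl⟩ := Subgroup.mem_map.mp hy
    exact Subgroup.mem_map.mpr ⟨⟨m, hm⟩ * y' * ⟨m, hm⟩⁻¹, hQ₀n.conj_mem y' hy' ⟨m, hm⟩, rfl⟩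
  have hLQM : ∀ A : Subgroup G, A ≤ N ⊓ M → A = ⊥ := by
    intro A hA
    rw [hLM] at hA
    exact le_bot_iff.mp hA
  have hQL : ¬ Q ≤ N := fun h => hQne (hLQM Q (le_inf h hQM))
  -- the centralizer of Q in L is trivial
  have hCLQ : N ⊓ Subgroup.centralizer (Q : Set G) = ⊥ := by
    have hn : (N ⊓ Subgroup.centralizer (Q : Set G)).Normal := by
      apply normal_of_sup_top N M _ hNM
      · intro x hx k hk
        have : x * k * x⁻¹ = k := by
          rw [hNcomm x hx k hk.1, mul_assoc, mul_inv_cancel, mul_one]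
        rw [this]; exact hk
      · intro m hm k hk
        refine Subgroup.mem_inf.mpr ⟨hNn.conj_mem k hk.1 m, ?_⟩
        rw [Subgroup.mem_centralizer_iff]
        intro y hy
        have hy' : m⁻¹ * y * m⁻¹⁻¹ ∈ Q := hMQ m⁻¹ (M.inv_mem hm) y hy
        have h1 := Subgroup.mem_centralizer_iff.mp hk.2 _ hy'
        calc y * (m * k * m⁻¹) = m * ((m⁻¹ * y * m⁻¹⁻¹) * k) * m⁻¹ := by group
          _ = m * (k * (m⁻¹ * y * m⁻¹⁻¹)) * m⁻¹ := by rw [h1]
          _ = m * k * m⁻¹ * y := by group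
    rcases hNmin _ hn inf_le_left with h | h
    · exact h
    · exfalso
      apply hQL
      rw [← hCL]
      intro y hy
      rw [Subgroup.mem_centralizer_iff]
      intro l hl
      have hl' : l ∈ N ⊓ Subgroup.centralizer (Q : Set G) := by rw [h]; exact hl
      exact (Subgroup.mem_centralizer_iff.mp hl'.2 y hy).symm
  refine ⟨?_, ?_⟩
  · -- fixed point count
    let act : MulAction Q N := MulAction.compHom N ((MulAut.conjNormal (H := N)).comp Q.subtype)
    have hmod := hQq.card_modEq_card_fixedPoints N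
    have hfix : Nat.card (MulAction.fixedPoints Q N) = 1 := by
      rw [Nat.card_eq_one_iff_unique]
      refine ⟨?_, ⟨⟨1, ?_⟩⟩⟩
      · constructor
        rintro ⟨x, hx⟩ ⟨y, hy⟩
        have key : ∀ z : N, z ∈ MulAction.fixedPoints Q N → z = 1 := by
          intro z hz
          have hzc : (z : G) ∈ N ⊓ Subgroup.centralizer (Q : Set G) := by
            refine Subgroup.mem_inf.mpr ⟨z.2, ?_⟩
            rw [Subgroup.mem_centralizer_iff]
            intro g hg
            have h1 : (⟨g, hg⟩ : Q) • z = z := hz ⟨g, hg⟩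
            have h2 : ((MulAut.conjNormal (H := N) g) z : G) = (z : G) := congrArg Subtype.val h1
            rw [MulAut.conjNormal_apply] at h2
            calc g * (z : G) = g * z * g⁻¹ * g := by group
              _ = z * g := by rw [h2]
          rw [hCLQ, Subgroup.mem_bot] at hzc
          exact Subtype.ext hzc
        exact Subtype.ext ((key x hx).trans (key y hy).symm)
      · intro g
        have h1 : g • (1 : N) = (MulAut.conjNormal (H := N) (g : G)) 1 := rfl
        rw [h1, map_one]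
    rw [hfix] at hmod
    exact hmod
  · intro hqp
    subst hqp
    have hsupp : IsPGroup q (N ⊔ Q : Subgroup G) := hLp.to_sup_of_normal_left hQq
    have hsupn : (N ⊔ Q : Subgroup G).Normal := by
      apply normal_of_sup_top N M _ hNM
      · intro x hx k hk
        exact Subgroup.mul_mem _ (Subgroup.mul_mem _ (Subgroup.mem_sup_left hx) hk)
          (Subgroup.inv_mem _ (Subgroup.mem_sup_left hx))
      · intro m hm k hk
        obtain ⟨n, hn, y, hy, rfl⟩ := Subgroup.mem_sup_of_normal_left.mp hk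
        have e : m * (n * y) * m⁻¹ = (m * n * m⁻¹) * (m * y * m⁻¹) := by group
        rw [e]
        exact Subgroup.mul_mem _ (Subgroup.mem_sup_left (hNn.conj_mem n hn m))
          (Subgroup.mem_sup_right (hMQ m hm y hy))
    have := hLmax _ hsupn hsupp
    exact hQL (le_sup_right.trans this)

end Cfsg.Agent.S0587
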