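import Cfsg.Statements.S0601
import Cfsg.Agent.S0587
import Cfsg.Agent.Lib.Helper10.Thompson
import Mathlib

set_option autoImplicit false
open Cfsg

namespace Cfsg.Agent.S0601

open scoped Pointwise

theorem conj_omegaOne_mem {G : Type*} [Group G] (p : ℕ) (g : G) (X Y : Subgroup G)
    (h : ∀ x ∈ X, g * x * g⁻¹ ∈ Y) :
    ∀ x ∈ Cfsg.omegaOne p X, g * x * g⁻¹ ∈ Cfsg.omegaOne p Y := by
  intro x hx
  unfold Cfsg.omegaOne at hx ⊢
  induction hx using Subgroup.closure_induction with
  | mem z hz =>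
    exact Subgroup.subset_closure ⟨h z hz.1, by rw [conj_pow, hz.2, mul_one, mul_inv_cancel]⟩
  | one => simp
  | mul a b _ _ iha ihb =>
    have e : g * (a * b) * g⁻¹ = (g * a * g⁻¹) * (g * b * g⁻¹) := by group
    rw [e]; exact Subgroup.mul_mem _ iha ihb
  | inv a _ iha =>
    have e : g * a⁻¹ * g⁻¹ = (g * a * g⁻¹)⁻¹ := by group
    rw [e]; exact Subgroup.inv_mem _ iha

theorem omegaOne_le {G : Type*} [Group G] (p : ℕ) (X : Subgroup G) : Cfsg.omegaOne p X ≤ X := by
  unfold Cfsg.omegaOne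
  rw [Subgroup.closure_le]
  intro x hx
  exact hx.1

/-- The subgroup generated by the `Ω₁(Z(S))` is normal. -/
theorem W_normal {G : Type*} [Group G] {p : ℕ} :
    (⨆ S : Sylow p G, Cfsg.omegaOne p (((S : Subgroup G)) ⊓
      Subgroup.centralizer ((S : Subgroup G) : Set G))).Normal := by
  constructor
  intro n hn g
  refine Subgroup.iSup_induction (C := fun x => g * x * g⁻¹ ∈ (⨆ S : Sylow p G,
    Cfsg.omegaOne p (((S : Subgroup G)) ⊓ Subgroup.centralizer ((S : Subgroup G) : Set G))))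
    _ hn ?_ ?_ ?_
  · intro S x hx
    apply Subgroup.mem_iSup_of_mem (g • S)
    refine conj_omegaOne_mem p g _ _ ?_ x hx
    intro y hy
    have hgS : ((g • S : Sylow p G) : Subgroup G) = MulAut.conj g • (S : Subgroup G) :=
      Sylow.coe_subgroup_smul
    rw [hgS]
    refine Subgroup.mem_inf.mpr ⟨?_, ?_⟩
    · have := Subgroup.smul_mem_pointwise_smul y (MulAut.conj g) (S : Subgroup G) hy.1
      simpa [MulAut.smul_def] using this
    · rw [Subgroup.mem_centralizer_iff]
      intro z hz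
      obtain ⟨s, hs, rfl⟩ := (Subgroup.mem_smul_pointwise_iff_exists z (MulAut.conj g) _).mp hz
      have h1 := Subgroup.mem_centralizer_iff.mp hy.2 s hs
      rw [MulAut.smul_def, MulAut.conj_apply]
      calc g * s * g⁻¹ * (g * y * g⁻¹) = g * (s * y) * g⁻¹ := by group
        _ = g * (y * s) * g⁻¹ := by rw [h1]
        _ = g * y * g⁻¹ * (g * s * g⁻¹) := by group
  · simp
  · intro a b iha ihb
    have e : g * (a * b) * g⁻¹ = (g * a * g⁻¹) * (g * b * g⁻¹) := by group
    rw [e]; exact Subgroup.mul_mem _ iha ihb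

/-- For a normal subgroup `D`, the index of `S ⊓ D` in `D` is the index of `S` in `S ⊔ D`. -/
theorem relIndex_eq_of_normal {G : Type*} [Group G] [Finite G] (S D : Subgroup G) [D.Normal] :
    S.relIndex D = S.relIndex (S ⊔ D) := by
  have a := Cfsg.Agent.Lib.Helper10.Thompson.card_mul_relIndex (le_sup_right : D ≤ S ⊔ D)
  have b : Nat.card (D ⊓ S : Subgroup G) * D.relIndex S = Nat.card S := by
    rw [← Subgroup.inf_relIndex_right]
    exact Cfsg.Agent.Lib.Helper10.Thompson.card_mul_relIndex inf_le_right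
  have c := Cfsg.Agent.Lib.Helper10.Thompson.card_mul_relIndex (le_sup_left : S ≤ S ⊔ D)
  have d : Nat.card (S ⊓ D : Subgroup G) * S.relIndex D = Nat.card D := by
    rw [← Subgroup.inf_relIndex_right]
    exact Cfsg.Agent.Lib.Helper10.Thompson.card_mul_relIndex inf_le_right
  rw [Subgroup.relIndex_sup_right] at a
  rw [inf_comm] at b
  have hpos1 : 0 < D.relIndex S := by
    apply Nat.pos_of_ne_zero
    intro h0
    rw [h0, mul_zero] at b
    exact (Nat.card_pos (α := S)).ne b
  have hpos2 : 0 < Nat.card (S ⊓ D : Subgroup G) := Nat.card_pos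
  have key : Nat.card (S ⊓ D : Subgroup G) * S.relIndex (S ⊔ D) = Nat.card D := by
    have e1 : (Nat.card (S ⊓ D : Subgroup G) * S.relIndex (S ⊔ D)) * D.relIndex S =
        Nat.card D * D.relIndex S := by
      calc (Nat.card (S ⊓ D : Subgroup G) * S.relIndex (S ⊔ D)) * D.relIndex S
          = (Nat.card (S ⊓ D : Subgroup G) * D.relIndex S) * S.relIndex (S ⊔ D) := by ring
        _ = Nat.card S * S.relIndex (S ⊔ D) := by rw [b]
        _ = Nat.card (S ⊔ D : Subgroup G) := c
        _ = Nat.card D * D.relIndex S := a.symm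
    exact Nat.eq_of_mul_eq_mul_right hpos1 e1
  exact Nat.eq_of_mul_eq_mul_left hpos2 (d.trans key.symm)

theorem W_ea {G : Type*} [Group G] [Finite G] {p : ℕ} [Fact p.Prime]
    (hc : Subgroup.centralizer (Cfsg.pCore p G : Set G) ≤ Cfsg.pCore p G) :
    Cfsg.IsElementaryAbelian p (⨆ S : Sylow p G, Cfsg.omegaOne p (((S : Subgroup G)) ⊓
      Subgroup.centralizer ((S : Subgroup G) : Set G))) := by
  have hQn : (Cfsg.pCore p G).Normal := Cfsg.Agent.S0587.pCore_normal p
  have hQp : IsPGroup p (Cfsg.pCore p G) := Cfsg.Agent.S0587.pCore_isPGroup p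
  let E : Subgroup G :=
    { carrier := {x | x ∈ Cfsg.pCore p G ∧ x ∈ Subgroup.centralizer (Cfsg.pCore p G : Set G) ∧
        x ^ p = 1}
      mul_mem' := by
        rintro a b ⟨ha, ha', ha''⟩ ⟨hb, hb', hb''⟩
        refine ⟨Subgroup.mul_mem _ ha hb, Subgroup.mul_mem _ ha' hb', ?_⟩
        have hcm : Commute a b := Subgroup.mem_centralizer_iff.mp hb' a ha
        rw [hcm.mul_pow, ha'', hb'', mul_one]
      one_mem' := ⟨Subgroup.one_mem _, Subgroup.one_mem _, one_pow p⟩
      inv_mem' := by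
        rintro a ⟨ha, ha', ha''⟩
        exact ⟨Subgroup.inv_mem _ ha, Subgroup.inv_mem _ ha', by rw [inv_pow, ha'', inv_one]⟩ }
  have hE : Cfsg.IsElementaryAbelian p E := by
    refine ⟨?_, fun a ha => ha.2.2⟩
    apply Subgroup.le_centralizer_iff_isMulCommutative.mp
    intro x hx
    rw [Subgroup.mem_centralizer_iff]
    intro y hy
    exact Subgroup.mem_centralizer_iff.mp hx.2.1 y hy.1
  apply Cfsg.Agent.Lib.Helper10.Thompson.ea_of_le hE
  apply iSup_le
  intro S
  unfold Cfsg.omegaOne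
  rw [Subgroup.closure_le]
  rintro x ⟨hx, hxp⟩
  have hQS : Cfsg.pCore p G ≤ (S : Subgroup G) := hQp.le_sylow_of_normal S
  have hxC : x ∈ Subgroup.centralizer (Cfsg.pCore p G : Set G) :=
    Subgroup.centralizer_le (show ((Cfsg.pCore p G : Subgroup G) : Set G) ⊆ ((S : Subgroup G) : Set G) from hQS) hx.2
  exact ⟨hc hxC, hxC, hxp⟩

theorem result {G : Type*} [Group G] [Finite G] {p : ℕ} [Fact p.Prime] (hc : Subgroup.centralizer (Cfsg.pCore p G : Set G) ≤ Cfsg.pCore p G) : (⨆ S : Sylow p G, Cfsg.omegaOne p (((S : Subgroup G)) ⊓ Subgroup.centralizer ((S : Subgroup G) : Set G))).Normal ∧ Cfsg.IsElementaryAbelian p (⨆ S : Sylow p G, Cfsg.omegaOne p (((S : Subgroup G)) ⊓ Subgroup.centralizer ((S : Subgroup G) : Set G))) ∧ ∀ D : Subgroup G, D.Normal → Subgroup.centralizer ((⨆ S : Sylow p G, Cfsg.omegaOne p (((S : Subgroup G)) ⊓ Subgroup.centralizer ((S : Subgroup G) : Set G)) : Subgroup G) : Set G) ≤ D → (∃ k : ℕ, (Subgroup.centralizer ((⨆ S : Sylow p G, Cfsg.omegaOne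 p (((S : Subgroup G)) ⊓ Subgroup.centralizer ((S : Subgroup G) : Set G)) : Subgroup G) : Set G)).relIndex D = p ^ k) → D = Subgroup.centralizer ((⨆ S : Sylow p G, Cfsg.omegaOne p (((S : Subgroup G)) ⊓ Subgroup.centralizer ((S : Subgroup G) : Set G)) : Subgroup G) : Set G) := by
  have hp := (Fact.out : p.Prime)
  refine ⟨W_normal, W_ea hc, ?_⟩
  obtain ⟨W, hW⟩ : ∃ W : Subgroup G, W = ⨆ S : Sylow p G, Cfsg.omegaOne p (((S : Subgroup G)) ⊓
      Subgroup.centralizer ((S : Subgroup G) : Set G)) := ⟨_, rfl⟩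
  rw [← hW]
  intro D hDn hCD ⟨k, hk⟩
  apply le_antisymm _ hCD
  rw [Subgroup.le_centralizer_iff, hW]
  apply iSup_le
  intro S
  rw [← Subgroup.le_centralizer_iff]
  -- D ≤ C ⊔ (S ⊓ D)
  have h1 : (Subgroup.centralizer (W : Set G) ⊔ ((S : Subgroup G) ⊓ D)).relIndex D ∣ p ^ k := by
    rw [← hk]; exact Subgroup.relIndex_dvd_of_le_left D le_sup_left
  have h2 : (Subgroup.centralizer (W : Set G) ⊔ ((S : Subgroup G) ⊓ D)).relIndex D ∣
      (S : Subgroup G).relIndex D := by
    rw [← Subgroup.inf_relIndex_right (S : Subgroup G) D]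
    exact Subgroup.relIndex_dvd_of_le_left D le_sup_right
  have h3 : ¬ p ∣ (S : Subgroup G).relIndex D := by
    intro hdvd
    apply S.not_dvd_index
    have := hDn
    rw [relIndex_eq_of_normal (S : Subgroup G) D] at hdvd
    exact hdvd.trans (Subgroup.relIndex_dvd_index_of_le le_sup_left)
  have h5 : (Subgroup.centralizer (W : Set G) ⊔ ((S : Subgroup G) ⊓ D)).relIndex D = 1 := by
    obtain ⟨j, -, hj⟩ := (Nat.dvd_prime_pow hp).mp h1
    rcases Nat.eq_zero_or_pos j with h0 | h0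
    · rw [hj, h0, pow_zero]
    · exfalso
      apply h3
      refine dvd_trans ?_ h2
      rw [hj]
      exact dvd_pow_self p h0.ne'
  have h6 : D ≤ Subgroup.centralizer (W : Set G) ⊔ ((S : Subgroup G) ⊓ D) :=
    Subgroup.relIndex_eq_one.mp h5
  refine h6.trans (sup_le ?_ ?_)
  · apply Subgroup.centralizer_le
    rw [hW]
    exact le_iSup (fun S : Sylow p G => Cfsg.omegaOne p (((S : Subgroup G)) ⊓
      Subgroup.centralizer ((S : Subgroup G) : Set G))) S
  · refine inf_le_left.trans ?_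
    rw [Subgroup.le_centralizer_iff]
    exact (omegaOne_le p _).trans inf_le_right

end Cfsg.Agent.S0601
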