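import Cfsg.Statements.S2298
import Cfsg.Agent.Lib.Helper38.GL2Irr

set_option autoImplicit false
open Cfsg

namespace Cfsg.Agent.S2298

open Cfsg.Agent.Lib.CT Cfsg.Agent.Lib.Helper38

/-- Over a finite field F with q elements, every irreducible complex character of GL₂ has degree 1, q − 1, q or q + 1; and when q ≥ 3 (so that these four numbers are distinct) there are exactly q − 1 irreducible characters of degree 1, exactly q − 1 of degree q, exactly (q − 1)(q − 2)/2 of degree q + 1 and exactly q(q − 1)/2 of degree q − 1. -/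
theorem result {F : Type*} [Field F] [Fintype F] :
    (∀ χ : Matrix.GeneralLinearGroup (Fin 2) F → ℂ, Cfsg.IsIrrCharacter (Matrix.GeneralLinearGroup (Fin 2) F) χ →
      χ 1 = 1 ∨ χ 1 = (Fintype.card F : ℂ) - 1 ∨ χ 1 = (Fintype.card F : ℂ) ∨ χ 1 = (Fintype.card F : ℂ) + 1) ∧
    (3 ≤ Fintype.card F →
      Nat.card {χ : Cfsg.IrrCharacter (Matrix.GeneralLinearGroup (Fin 2) F) // (χ : Matrix.GeneralLinearGroup (Fin 2) F → ℂ) 1 = 1} = Fintype.card F - 1 ∧
      Nat.card {χ : Cfsg.IrrCharacter (Matrix.GeneralLinearGroup (Fin 2) F) // (χ : Matrix.GeneralLinearGroup (Fin 2) F → ℂ) 1 = (Fintype.card F : ℂ)} = Fintype.card F - 1 ∧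
      Nat.card {χ : Cfsg.IrrCharacter (Matrix.GeneralLinearGroup (Fin 2) F) // (χ : Matrix.GeneralLinearGroup (Fin 2) F → ℂ) 1 = (Fintype.card F : ℂ) + 1} = (Fintype.card F - 1) * (Fintype.card F - 2) / 2 ∧
      Nat.card {χ : Cfsg.IrrCharacter (Matrix.GeneralLinearGroup (Fin 2) F) // (χ : Matrix.GeneralLinearGroup (Fin 2) F → ℂ) 1 = (Fintype.card F : ℂ) - 1} = Fintype.card F * (Fintype.card F - 1) / 2) := by
  classical
  obtain ⟨K₁, K₂, K₃, R, hcov, hd₁, hd₂, hd₃, hdR, hc₁, hc₂, hc₃, hcR⟩ :=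
    GL2Irr.deg_classification (F := F)
  have hq : 2 ≤ Fintype.card F := Fintype.one_lt_card
  have hval : ∀ χ : IrrCharacter (Matrix.GeneralLinearGroup (Fin 2) F),
      (χ : Matrix.GeneralLinearGroup (Fin 2) F → ℂ) 1 =
        (charDegree (χ : Matrix.GeneralLinearGroup (Fin 2) F → ℂ) : ℂ) :=
    fun χ => (Wedderburn.char_natCast_charDegree (Wedderburn.isCharacter_of_irr χ.2)).symm
  constructor
  · intro χ hχ
    have h1 := hval ⟨χ, hχ⟩
    simp only at h1
    rcases hcov ⟨χ, hχ⟩ with h | h | h | h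
    · left
      rw [h1, hd₁ _ h]
      simp
    · right; right; left
      rw [h1, hd₂ _ h]
    · right; right; right
      rw [h1, hd₃ _ h]
      push_cast
      rfl
    · right; left
      rw [h1, hdR _ h, Nat.cast_sub (by omega)]
      simp
  · intro h3
    have := Wedderburn.finite_irrCharacter (Matrix.GeneralLinearGroup (Fin 2) F)
    let _ : Fintype (IrrCharacter (Matrix.GeneralLinearGroup (Fin 2) F)) := Fintype.ofFinite _
    have key : ∀ (a : ℕ) (z : ℂ) (_ : z = (a : ℂ))
        (K : Finset (IrrCharacter (Matrix.GeneralLinearGroup (Fin 2) F)))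
        (_ : ∀ χ ∈ K, charDegree (χ : Matrix.GeneralLinearGroup (Fin 2) F → ℂ) = a)
        (_ : ∀ χ, χ ∉ K → charDegree (χ : Matrix.GeneralLinearGroup (Fin 2) F → ℂ) ≠ a),
        Nat.card {χ : IrrCharacter (Matrix.GeneralLinearGroup (Fin 2) F) //
          (χ : Matrix.GeneralLinearGroup (Fin 2) F → ℂ) 1 = z} = K.card := by
      intro a z hz K hK hK'
      rw [Nat.card_eq_fintype_card, Fintype.card_subtype]
      congr 1
      ext χ
      simp only [Finset.mem_filter, Finset.mem_univ, true_and]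
      rw [hz, hval χ, Nat.cast_inj]
      constructor
      · intro h
        by_contra hn
        exact hK' χ hn h
      · exact hK χ
    refine ⟨?_, ?_, ?_, ?_⟩
    · rw [key 1 1 (by simp) K₁ hd₁ ?_, hc₁]
      intro χ hχ
      rcases hcov χ with h | h | h | h
      · exact absurd h hχ
      · rw [hd₂ χ h]; omega
      · rw [hd₃ χ h]; omega
      · rw [hdR χ h]; omega
    · rw [key (Fintype.card F) _ rfl K₂ hd₂ ?_, hc₂]
      intro χ hχ
      rcases hcov χ with h | h | h | h
      · rw [hd₁ χ h]; omega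
      · exact absurd h hχ
      · rw [hd₃ χ h]; omega
      · rw [hdR χ h]; omega
    · rw [key (Fintype.card F + 1) _ (by push_cast; rfl) K₃ hd₃ ?_, ← hc₃,
        Nat.mul_div_cancel_left _ (by norm_num)]
      intro χ hχ
      rcases hcov χ with h | h | h | h
      · rw [hd₁ χ h]; omega
      · rw [hd₂ χ h]; omega
      · exact absurd h hχ
      · rw [hdR χ h]; omega
    · rw [key (Fintype.card F - 1) _ (by rw [Nat.cast_sub (by omega)]; simp) R hdR ?_, ← hcR,
        Nat.mul_div_cancel_left _ (by norm_num)]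
      intro χ hχ
      rcases hcov χ with h | h | h | h
      · rw [hd₁ χ h]; omega
      · rw [hd₂ χ h]; omega
      · rw [hd₃ χ h]; omega
      · exact absurd h hχ

end Cfsg.Agent.S2298
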