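import Cfsg.Statements.S2300
import Cfsg.Agent.S2298
import Cfsg.Agent.S0187
import Cfsg.Agent.Lib.CT.Product
import Cfsg.Agent.Lib.Helper38.SLCard

set_option autoImplicit false
open Cfsg

namespace Cfsg.Agent.S2300

open Cfsg.Agent.Lib.CT

section Transport

universe u

variable {G H : Type u} [Group G] [Group H]

/-- Irreducible characters correspond along a group isomorphism. -/
noncomputable def irrCongr (e : H ≃* G) : IrrCharacter G ≃ IrrCharacter H where
  toFun χ := ⟨fun x => χ.1 (e x), Ops.isIrrCharacter_comp_mulEquiv e χ.2⟩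
  invFun ψ := ⟨fun g => ψ.1 (e.symm g), Ops.isIrrCharacter_comp_mulEquiv e.symm ψ.2⟩
  left_inv χ := by
    apply Subtype.ext
    funext g
    simp
  right_inv ψ := by
    apply Subtype.ext
    funext g
    simp

theorem irrCongr_apply_one (e : H ≃* G) (χ : IrrCharacter G) :
    (irrCongr e χ : H → ℂ) 1 = (χ : G → ℂ) 1 := by
  show χ.1 (e 1) = χ.1 1
  rw [map_one]

end Transport

variable {F : Type*} [Field F]

/-- The homomorphism `SL₂ × Fˣ → GL₂`, `(s, a) ↦ a • s`. -/
noncomputable def prodHom :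
    Matrix.SpecialLinearGroup (Fin 2) F × Fˣ →* Matrix.GeneralLinearGroup (Fin 2) F :=
  MonoidHom.noncommCoprod Matrix.SpecialLinearGroup.toGL
    (Matrix.GeneralLinearGroup.scalar (Fin 2))
    (fun _ a => (Matrix.GeneralLinearGroup.scalar_commute a _).symm)

theorem prodHom_apply (p : Matrix.SpecialLinearGroup (Fin 2) F × Fˣ) :
    prodHom p = Matrix.SpecialLinearGroup.toGL p.1 * Matrix.GeneralLinearGroup.scalar (Fin 2) p.2 :=
  rfl

theorem prodHom_injective [CharP F 2] : Function.Injective (prodHom (F := F)) := by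
  rw [injective_iff_map_eq_one]
  rintro ⟨s, a⟩ h
  rw [prodHom_apply] at h
  have h1 := congrArg (fun g : Matrix.GeneralLinearGroup (Fin 2) F => g.1.det) h
  simp only [Units.val_mul, Matrix.det_mul, Matrix.GeneralLinearGroup.coe_scalar,
    Matrix.scalar_apply, Matrix.det_diagonal, Fin.prod_univ_two, Units.val_one,
    Matrix.det_one] at h1
  have h2 : (Matrix.SpecialLinearGroup.toGL s : Matrix.GeneralLinearGroup (Fin 2) F).1.det = 1 :=
    s.det_coe
  rw [h2, one_mul] at h1
  have h3 : ((a : F) - 1) ^ 2 = 0 := by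
    have h4 : (2 : F) = 0 := CharTwo.two_eq_zero
    linear_combination h1 - (a : F) * h4 + h4
  have h5 : (a : F) = 1 := by
    have := pow_eq_zero_iff (n := 2) (by norm_num) |>.mp h3
    linear_combination this
  have ha : a = 1 := Units.ext h5
  subst ha
  rw [map_one, mul_one] at h
  have hs : s = 1 := Matrix.SpecialLinearGroup.toGL_injective (by rw [h, map_one])
  rw [hs]
  rfl

theorem prodHom_bijective [Fintype F] [CharP F 2] : Function.Bijective (prodHom (F := F)) := by
  apply Function.Injective.bijective_of_nat_card_le prodHom_injective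
  rw [Nat.card_prod, Nat.card_units, Nat.card_eq_fintype_card (α := F),
    Cfsg.Agent.Lib.Helper38.SLCard.card_SL_mul 2 (by norm_num)]

/-- `SL₂(F) × Fˣ ≃* GL₂(F)` in characteristic two. -/
noncomputable def prodEquiv [Fintype F] [CharP F 2] :
    Matrix.SpecialLinearGroup (Fin 2) F × Fˣ ≃* Matrix.GeneralLinearGroup (Fin 2) F :=
  MulEquiv.ofBijective prodHom prodHom_bijective

/-- The correspondence between pairs of irreducible characters and those of `GL₂`. -/
noncomputable def irrEquiv [Fintype F] [CharP F 2] :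
    IrrCharacter (Matrix.SpecialLinearGroup (Fin 2) F) × IrrCharacter Fˣ ≃
      IrrCharacter (Matrix.GeneralLinearGroup (Fin 2) F) :=
  Product.prodIrrEquiv.trans (irrCongr (prodEquiv (F := F))).symm

theorem irr_units_one [Finite F] (μ : IrrCharacter Fˣ) : (μ : Fˣ → ℂ) 1 = 1 :=
  (Cfsg.Agent.S0187.result (G := Fˣ)).mp (fun a b => mul_comm a b) μ

theorem card_irr_units [Fintype F] : Nat.card (IrrCharacter Fˣ) = Fintype.card F - 1 := by
  rw [(Cfsg.Agent.S0187.all_linear_iff_card (G := Fˣ)).mp irr_units_one, Nat.card_units,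
    Nat.card_eq_fintype_card]

theorem irrEquiv_apply_one [Fintype F] [CharP F 2]
    (p : IrrCharacter (Matrix.SpecialLinearGroup (Fin 2) F) × IrrCharacter Fˣ) :
    (irrEquiv p : Matrix.GeneralLinearGroup (Fin 2) F → ℂ) 1 =
      (p.1 : Matrix.SpecialLinearGroup (Fin 2) F → ℂ) 1 := by
  have h1 : irrCongr (prodEquiv (F := F)) (irrEquiv p) = Product.prodIrrEquiv p := by
    unfold irrEquiv
    simp
  have h2 := irrCongr_apply_one (prodEquiv (F := F)) (irrEquiv p)
  rw [h1] at h2
  rw [← h2]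
  show (p.1 : Matrix.SpecialLinearGroup (Fin 2) F → ℂ) 1 * (p.2 : Fˣ → ℂ) 1 = _
  rw [irr_units_one, mul_one]

theorem card_deg [Fintype F] [CharP F 2] (z : ℂ) :
    Nat.card {χ : IrrCharacter (Matrix.GeneralLinearGroup (Fin 2) F) //
        (χ : Matrix.GeneralLinearGroup (Fin 2) F → ℂ) 1 = z} =
      Nat.card {φ : IrrCharacter (Matrix.SpecialLinearGroup (Fin 2) F) //
        (φ : Matrix.SpecialLinearGroup (Fin 2) F → ℂ) 1 = z} * (Fintype.card F - 1) := by
  rw [← card_irr_units, ← Nat.card_prod]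
  apply Nat.card_congr
  refine (Equiv.subtypeEquiv irrEquiv.symm ?_).trans
    (Equiv.prodSubtypeFstEquivSubtypeProd
      (p := fun φ : IrrCharacter (Matrix.SpecialLinearGroup (Fin 2) F) =>
        (φ : Matrix.SpecialLinearGroup (Fin 2) F → ℂ) 1 = z))
  intro χ
  have h := irrEquiv_apply_one (irrEquiv.symm χ)
  rw [Equiv.apply_symm_apply] at h
  rw [h]

/-- Over a finite field F with q elements, q even, every irreducible complex character of SL₂ has degree 1, q − 1, q or q + 1; and when q ≥ 4 (so that these four numbers are distinct) there are exactly one irreducible character of degree 1, one of degree q, (q − 2)/2 of degree q + 1 and q/2 of degree q − 1. -/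
theorem result {F : Type*} [Field F] [Fintype F] [CharP F 2] :
    (∀ χ : Matrix.SpecialLinearGroup (Fin 2) F → ℂ, Cfsg.IsIrrCharacter (Matrix.SpecialLinearGroup (Fin 2) F) χ →
      χ 1 = 1 ∨ χ 1 = (Fintype.card F : ℂ) - 1 ∨ χ 1 = (Fintype.card F : ℂ) ∨ χ 1 = (Fintype.card F : ℂ) + 1) ∧
    (4 ≤ Fintype.card F →
      Nat.card {χ : Cfsg.IrrCharacter (Matrix.SpecialLinearGroup (Fin 2) F) // (χ : Matrix.SpecialLinearGroup (Fin 2) F → ℂ) 1 = 1} = 1 ∧
      Nat.card {χ : Cfsg.IrrCharacter (Matrix.SpecialLinearGroup (Fin 2) F) // (χ : Matrix.SpecialLinearGroup (Fin 2) F → ℂ) 1 = (Fintype.card F : ℂ)} = 1 ∧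
      Nat.card {χ : Cfsg.IrrCharacter (Matrix.SpecialLinearGroup (Fin 2) F) // (χ : Matrix.SpecialLinearGroup (Fin 2) F → ℂ) 1 = (Fintype.card F : ℂ) + 1} = (Fintype.card F - 2) / 2 ∧
      Nat.card {χ : Cfsg.IrrCharacter (Matrix.SpecialLinearGroup (Fin 2) F) // (χ : Matrix.SpecialLinearGroup (Fin 2) F → ℂ) 1 = (Fintype.card F : ℂ) - 1} = Fintype.card F / 2) := by
  classical
  obtain ⟨hdeg, hcount⟩ := Cfsg.Agent.S2298.result (F := F)
  constructor
  · intro φ hφ
    have h := irrEquiv_apply_one ((⟨φ, hφ⟩ : IrrCharacter (Matrix.SpecialLinearGroup (Fin 2) F)),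
      (⟨fun _ => 1, Ops.isIrrCharacter_one⟩ : IrrCharacter Fˣ))
    simp only at h
    rw [← h]
    exact hdeg _ (irrEquiv _).2
  · intro h4
    obtain ⟨h1, h2, h3, h5⟩ := hcount (by omega)
    obtain ⟨n, -, hn⟩ := FiniteField.card F 2
    obtain ⟨m, hm⟩ : ∃ m, Fintype.card F = 2 * m := by
      obtain ⟨j, hj⟩ : ∃ j, (n : ℕ) = j + 1 := ⟨(n : ℕ) - 1, by have := n.pos; omega⟩
      exact ⟨2 ^ j, by rw [hn, hj, pow_succ]; ring⟩
    have hm2 : 2 ≤ m := by omega
    rw [card_deg] at h1 h2 h3 h5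
    have hpos : 0 < Fintype.card F - 1 := by omega
    refine ⟨?_, ?_, ?_, ?_⟩
    · exact Nat.eq_of_mul_eq_mul_right hpos (by rw [h1, one_mul])
    · exact Nat.eq_of_mul_eq_mul_right hpos (by rw [h2, one_mul])
    · apply Nat.eq_of_mul_eq_mul_right hpos
      rw [h3, hm]
      have e1 : 2 * m - 2 = 2 * (m - 1) := by omega
      rw [e1, Nat.mul_div_cancel_left _ (by norm_num : 0 < 2), ← mul_assoc,
        mul_comm (2 * m - 1) 2, mul_assoc, Nat.mul_div_cancel_left _ (by norm_num : 0 < 2)]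
      ring
    · apply Nat.eq_of_mul_eq_mul_right hpos
      rw [h5, hm, Nat.mul_div_cancel_left _ (by norm_num : 0 < 2), mul_assoc,
        Nat.mul_div_cancel_left _ (by norm_num : 0 < 2)]

end Cfsg.Agent.S2300
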