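import Cfsg.Statements.S4996
import Cfsg.Agent.Lib.Helper81.CosetAvg
import Cfsg.Agent.Lib.CT.NormOne
import Cfsg.Agent.Lib.CT.LinChar

set_option autoImplicit false
open Cfsg

namespace Cfsg.Agent.S4996

open Cfsg.Agent.Lib.Helper81.Irr Cfsg.Agent.Lib.Helper81.Basic Cfsg.Agent.Lib.Helper81.Expand
  Cfsg.Agent.Lib.Helper81.Mult Cfsg.Agent.Lib.Helper81.Cliff Cfsg.Agent.Lib.Helper81.CliffCorr
  Cfsg.Agent.Lib.Helper81.CosetAvg

open scoped ComplexConjugate

/-- Let N be a normal subgroup of the finite group G and χ an irreducible complex character of G. Then the restriction of χ to N is not irreducible if and only if χ vanishes on some whole coset Nx of N in G. -/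
theorem result {G : Type*} [Group G] [Finite G] (N : Subgroup G) [N.Normal] (χ : Cfsg.IrrCharacter G) : ¬ Cfsg.IsIrrCharacter ↥N (fun n : ↥N => (χ : G → ℂ) n) ↔ ∃ x : G, ∀ n : ↥N, (χ : G → ℂ) ((n : G) * x) = 0 := by
  classical
  have : Fintype G := Fintype.ofFinite G
  have : Fintype ↥N := Fintype.ofFinite _
  have : NeZero (Nat.card G) := ⟨Nat.card_pos.ne'⟩
  have hχc : IsCharacter G χ.1 := irr_isCharacter χ
  have hNR : (Nat.card ↥N : ℝ) ≠ 0 := by exact_mod_cast (Nat.card_pos (α := ↥N)).ne'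
  have hNpos : (0 : ℝ) < (Nat.card ↥N : ℝ) := by exact_mod_cast (Nat.card_pos (α := ↥N))
  let ψ : G → ℂ := fun g => χ.1 g * χ.1 g⁻¹
  have hψ : IsCharacter G ψ :=
    Cfsg.Agent.Lib.CT.Ops.isCharacter_mul hχc (Cfsg.Agent.Lib.CT.Ops.isCharacter_inv_arg hχc)
  have hψv : ∀ g, ψ g = ((‖χ.1 g‖ ^ 2 : ℝ) : ℂ) := by
    intro g
    show χ.1 g * χ.1 g⁻¹ = _
    rw [Cfsg.Agent.Lib.CT.Wedderburn.char_apply_inv hχc, Complex.mul_conj']
    push_cast
    rfl
  let Ψ : G → ℂ := fun x => (Nat.card ↥N : ℂ)⁻¹ * ∑ n : ↥N, ψ (x * n)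
  have hΨ : IsCharacter G Ψ := isCharacter_cosetAvg N hψ
  let A : G → ℝ := fun x => (Nat.card ↥N : ℝ)⁻¹ * ∑ n : ↥N, ‖χ.1 (x * n)‖ ^ 2
  have hΨA : ∀ x, Ψ x = (A x : ℂ) := by
    intro x
    show (Nat.card ↥N : ℂ)⁻¹ * ∑ n : ↥N, ψ (x * n) =
      (((Nat.card ↥N : ℝ)⁻¹ * ∑ n : ↥N, ‖χ.1 (x * n)‖ ^ 2 : ℝ) : ℂ)
    simp only [hψv]
    push_cast
    rfl
  have hA0 : ∀ x, 0 ≤ A x := fun x =>
    mul_nonneg (inv_nonneg.2 (Nat.cast_nonneg _)) (Finset.sum_nonneg (fun n _ => sq_nonneg _))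
  have hinner : classInner (fun n : ↥N => χ.1 n) (fun n : ↥N => χ.1 n) = (A 1 : ℂ) := by
    unfold classInner
    show _ = (((Nat.card ↥N : ℝ)⁻¹ * ∑ n : ↥N, ‖χ.1 (1 * n)‖ ^ 2 : ℝ) : ℂ)
    push_cast
    congr 1
    apply Finset.sum_congr rfl
    intro n _
    rw [one_mul, Complex.mul_conj']
  constructor
  · -- reducible restriction gives a vanishing coset
    intro hnot
    by_contra hcon
    push Not at hcon
    apply hnot
    have hAne : ∀ x, A x ≠ 0 := by
      intro x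
      obtain ⟨n, hn⟩ := hcon x
      -- n * x = x * (x⁻¹ n x)
      have hmem : x⁻¹ * (n : G) * x ∈ N := by
        have := (inferInstance : N.Normal).conj_mem n n.2 x⁻¹
        simpa using this
      have hpos : 0 < ∑ m : ↥N, ‖χ.1 (x * m)‖ ^ 2 := by
        apply Finset.sum_pos' (fun m _ => sq_nonneg _)
        refine ⟨⟨x⁻¹ * (n : G) * x, hmem⟩, Finset.mem_univ _, ?_⟩
        have h1 : x * (x⁻¹ * (n : G) * x) = (n : G) * x := by group
        show 0 < ‖χ.1 (x * (x⁻¹ * (n : G) * x))‖ ^ 2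
        rw [h1]
        positivity
      exact (mul_pos (inv_pos.2 hNpos) hpos).ne'
    have hT : ∀ x, (Nat.totient (Nat.card G) : ℝ) ≤
        ∑ k : (ZMod (Nat.card G))ˣ, A (x ^ (k : ZMod (Nat.card G)).val) :=
      fun x => totient_le_sum_re hΨ A hΨA hA0 x (hAne x)
    -- total of A
    have horth : ∑ g : G, ‖χ.1 g‖ ^ 2 = (Nat.card G : ℝ) := by
      have h1 := irr_orth χ χ
      rw [if_pos rfl] at h1
      have h3 : ((∑ g : G, ‖χ.1 g‖ ^ 2 : ℝ) : ℂ) = ((Nat.card G : ℝ) : ℂ) := by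
        push_cast
        rw [← h1]
        apply Finset.sum_congr rfl
        intro g _
        rw [Cfsg.Agent.Lib.CT.Wedderburn.char_apply_inv hχc, Complex.mul_conj']
      exact_mod_cast h3
    have hAtot : ∑ x : G, A x = (Nat.card G : ℝ) := by
      show ∑ x : G, (Nat.card ↥N : ℝ)⁻¹ * ∑ n : ↥N, ‖χ.1 (x * n)‖ ^ 2 = _
      rw [← Finset.mul_sum, Finset.sum_comm]
      have h1 : ∀ n : ↥N, ∑ x : G, ‖χ.1 (x * n)‖ ^ 2 = (Nat.card G : ℝ) := by
        intro n
        rw [← horth]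
        exact Equiv.sum_comp (Equiv.mulRight (n : G)) (fun g => ‖χ.1 g‖ ^ 2)
      rw [Finset.sum_congr rfl (fun n _ => h1 n), Finset.sum_const, Finset.card_univ,
        nsmul_eq_mul, ← Nat.card_eq_fintype_card, ← mul_assoc, inv_mul_cancel₀ hNR, one_mul]
    have hsum : ∑ x : G, ∑ k : (ZMod (Nat.card G))ˣ, A (x ^ (k : ZMod (Nat.card G)).val) =
        (Nat.totient (Nat.card G) : ℝ) * (Nat.card G : ℝ) := by
      rw [Finset.sum_comm]
      have hk : ∀ k : (ZMod (Nat.card G))ˣ,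
          ∑ x : G, A (x ^ (k : ZMod (Nat.card G)).val) = (Nat.card G : ℝ) := by
        intro k
        have hcop : (Nat.card G).Coprime (k : ZMod (Nat.card G)).val :=
          (ZMod.val_coe_unit_coprime k).symm
        rw [← hAtot]
        exact Equiv.sum_comp (powCoprime hcop) A
      rw [Finset.sum_congr rfl (fun k _ => hk k), Finset.sum_const, Finset.card_univ,
        ZMod.card_units_eq_totient, nsmul_eq_mul]
    have hzero : ∑ x : G, (∑ k : (ZMod (Nat.card G))ˣ, A (x ^ (k : ZMod (Nat.card G)).val) -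
        (Nat.totient (Nat.card G) : ℝ)) = 0 := by
      rw [Finset.sum_sub_distrib, hsum, Finset.sum_const, Finset.card_univ, nsmul_eq_mul,
        ← Nat.card_eq_fintype_card]
      ring
    have hall := (Finset.sum_eq_zero_iff_of_nonneg
      (fun x _ => sub_nonneg.2 (hT x))).1 hzero 1 (Finset.mem_univ _)
    simp only [one_pow] at hall
    rw [Finset.sum_const, Finset.card_univ, ZMod.card_units_eq_totient, nsmul_eq_mul] at hall
    have hφpos : (0 : ℝ) < (Nat.totient (Nat.card G) : ℝ) := by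
      exact_mod_cast Nat.totient_pos.mpr Nat.card_pos
    have hA1 : A 1 = 1 := by
      have h5 : (Nat.totient (Nat.card G) : ℝ) * (A 1 - 1) = 0 := by linarith
      rcases mul_eq_zero.1 h5 with h | h
      · exact absurd h hφpos.ne'
      · linarith
    apply Cfsg.Agent.Lib.CT.NormOne.irr_of_inner_self_eq_one
      (Cfsg.Agent.Lib.CT.Ops.isCharacter_restrict N hχc)
    rw [hinner, hA1]
    simp
  · -- irreducible restriction: no coset vanishes
    rintro ⟨x, hx⟩ hirr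
    have h1 := Cfsg.Agent.Lib.CT.NormOne.inner_self_eq_one_of_irr hirr
    rw [hinner] at h1
    have hΨ1 : Ψ 1 = 1 := by rw [hΨA, h1]
    have hne := Cfsg.Agent.Lib.CT.LinChar.linear_ne_zero hΨ hΨ1 x
    apply hne
    rw [hΨA]
    have hz : A x = 0 := by
      show (Nat.card ↥N : ℝ)⁻¹ * ∑ n : ↥N, ‖χ.1 (x * n)‖ ^ 2 = 0
      have h2 : ∀ n : ↥N, ‖χ.1 (x * n)‖ ^ 2 = 0 := by
        intro n
        have hmem : x * (n : G) * x⁻¹ ∈ N := (inferInstance : N.Normal).conj_mem n n.2 x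
        have h3 := hx ⟨x * (n : G) * x⁻¹, hmem⟩
        have h4 : x * (n : G) * x⁻¹ * x = x * n := by group
        simp only [h4] at h3
        rw [h3]
        simp
      rw [Finset.sum_congr rfl (fun n _ => h2 n)]
      simp
    rw [hz]
    simp

end Cfsg.Agent.S4996
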