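import Cfsg.Statements.S1505
import Cfsg.Agent.S1504
import Cfsg.Agent.Lib.CT.FrobRec
import Mathlib

set_option autoImplicit false
open Cfsg

namespace Cfsg.Agent.S1505

open Cfsg.Agent.Lib.CT.FrobRec
open scoped ComplexConjugate

/-- In a finite cyclic group, an element killed by the order of a subgroup lies in it. -/
theorem mem_of_pow_card {W : Type*} [Group W] [Fintype W] [IsCyclic W] (K : Subgroup W) (u : W)
    (hu : u ^ Nat.card K = 1) : u ∈ K := by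
  classical
  have hn : 0 < Nat.card K := Nat.card_pos
  have h1 := IsCyclic.card_pow_eq_one_le (α := W) hn
  have hsub : (Finset.univ.filter (fun a : W => a ∈ K)) ⊆
      Finset.univ.filter (fun a : W => a ^ Nat.card K = 1) := by
    intro a ha
    simp only [Finset.mem_filter, Finset.mem_univ, true_and] at ha ⊢
    have h2 : (⟨a, ha⟩ : K) ^ Nat.card K = 1 := pow_card_eq_one'
    have h3 := congrArg (fun k : K => (k : W)) h2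
    exact h3
  have hcard : (Finset.univ.filter (fun a : W => a ∈ K)).card = Nat.card K := by
    rw [Nat.card_eq_fintype_card, Fintype.card_subtype]
  have heq := Finset.eq_of_subset_of_card_le hsub (by rw [hcard]; exact h1)
  have hmem : u ∈ Finset.univ.filter (fun a : W => a ∈ K) := by
    rw [heq]
    exact Finset.mem_filter.mpr ⟨Finset.mem_univ _, hu⟩
  exact (Finset.mem_filter.mp hmem).2

/-- a sub-subgroup of a cyclic subgroup is stable under conjugations preserving the big one -/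
theorem conj_mem_sub {G : Type*} [Group G] [Fintype G] (W K : Subgroup G) (hK : K ≤ W)
    [IsCyclic ↥W] (y : G) (hy : ∀ u ∈ W, y * u * y⁻¹ ∈ W) (u : G) (hu : u ∈ K) :
    y * u * y⁻¹ ∈ K := by
  classical
  have h1 := mem_of_pow_card (K.subgroupOf W) ⟨y * u * y⁻¹, hy u (hK hu)⟩ (by
    apply Subtype.ext
    have hc : Nat.card (K.subgroupOf W) = Nat.card K :=
      Nat.card_congr (Subgroup.subgroupOfEquivOfLe hK).toEquiv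
    rw [hc]
    have h2 : (⟨u, hu⟩ : K) ^ Nat.card K = 1 := pow_card_eq_one'
    have h3 : u ^ Nat.card K = 1 := by
      exact congrArg (fun k : K => (k : G)) h2
    simp only [Subgroup.coe_pow, Subgroup.coe_one]
    rw [conj_pow, h3]; simp)
  simpa [Subgroup.mem_subgroupOf] using h1

theorem ti {G : Type*} [Group G] [Fintype G] (W₁ W₂ : Subgroup G)
    (hW : Cfsg.IsSelfNormalizingCyclic W₁ W₂) (w x : G) (hw : w ∈ W₁ ⊔ W₂) (hw1 : w ∉ W₁)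
    (hw2 : w ∉ W₂) (hx : x⁻¹ * w * x ∈ W₁ ⊔ W₂) (hx1 : x⁻¹ * w * x ∉ W₁)
    (hx2 : x⁻¹ * w * x ∉ W₂) : x ∈ W₁ ⊔ W₂ := by
  classical
  obtain ⟨-, -, -, -, hcyc, hN⟩ := hW
  haveI := hcyc
  have hNw : Subgroup.normalizer ({w} : Set G) = W₁ ⊔ W₂ := by
    apply hN
    · intro z hz
      rw [Set.mem_singleton_iff] at hz
      subst hz
      exact ⟨hw, fun h => h.elim hw1 hw2⟩
    · exact Set.singleton_nonempty _
  have hNw' : Subgroup.normalizer ({x⁻¹ * w * x} : Set G) = W₁ ⊔ W₂ := by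
    apply hN
    · intro z hz
      rw [Set.mem_singleton_iff] at hz
      subst hz
      exact ⟨hx, fun h => h.elim hx1 hx2⟩
    · exact Set.singleton_nonempty _
  have hcomm1 : ∀ u ∈ W₁ ⊔ W₂, u * w * u⁻¹ = w := by
    intro u hu
    rw [← hNw] at hu
    have := (Subgroup.mem_set_normalizer_iff.mp hu w).mp rfl
    simpa using this
  have hcomm2 : ∀ u ∈ W₁ ⊔ W₂, u * (x⁻¹ * w * x) * u⁻¹ = x⁻¹ * w * x := by
    intro u hu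
    rw [← hNw'] at hu
    have := (Subgroup.mem_set_normalizer_iff.mp hu (x⁻¹ * w * x)).mp rfl
    simpa using this
  have hmemN : ∀ (z : G) (u : G), u * z * u⁻¹ = z → u ∈ Subgroup.normalizer ({z} : Set G) := by
    intro z u hu
    rw [Subgroup.mem_set_normalizer_iff]
    intro h
    simp only [Set.mem_singleton_iff]
    constructor
    · rintro rfl; exact hu
    · intro h2
      have : u * h * u⁻¹ = u * z * u⁻¹ := by rw [h2, hu]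
      simpa using this
  -- x normalizes W
  have hn1 : ∀ u ∈ W₁ ⊔ W₂, x⁻¹ * u * x⁻¹⁻¹ ∈ W₁ ⊔ W₂ := by
    intro u hu
    rw [← hNw']
    apply hmemN
    have := hcomm1 u hu
    calc x⁻¹ * u * x⁻¹⁻¹ * (x⁻¹ * w * x) * (x⁻¹ * u * x⁻¹⁻¹)⁻¹
        = x⁻¹ * (u * w * u⁻¹) * x := by group
      _ = x⁻¹ * w * x := by rw [this]
  have hn2 : ∀ u ∈ W₁ ⊔ W₂, x * u * x⁻¹ ∈ W₁ ⊔ W₂ := by
    intro u hu
    rw [← hNw]
    apply hmemN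
    have := hcomm2 u hu
    calc x * u * x⁻¹ * w * (x * u * x⁻¹)⁻¹
        = x * (u * (x⁻¹ * w * x) * u⁻¹) * x⁻¹ := by group
      _ = x * (x⁻¹ * w * x) * x⁻¹ := by rw [this]
      _ = w := by group
  have c1 := conj_mem_sub (W₁ ⊔ W₂) W₁ le_sup_left x hn2
  have c2 := conj_mem_sub (W₁ ⊔ W₂) W₂ le_sup_right x hn2
  have c1' := conj_mem_sub (W₁ ⊔ W₂) W₁ le_sup_left x⁻¹ hn1
  have c2' := conj_mem_sub (W₁ ⊔ W₂) W₂ le_sup_right x⁻¹ hn1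
  have hV : Subgroup.normalizer ((↑(W₁ ⊔ W₂) : Set G) \ (↑W₁ ∪ ↑W₂)) = W₁ ⊔ W₂ := by
    apply hN _ subset_rfl
    exact ⟨w, hw, fun h => h.elim hw1 hw2⟩
  rw [← hV, Subgroup.mem_set_normalizer_iff]
  intro n
  have e : x⁻¹ * (x * n * x⁻¹) * x⁻¹⁻¹ = n := by group
  constructor
  · rintro ⟨hnW, hn12⟩
    refine ⟨hn2 n hnW, ?_⟩
    rintro (h | h)
    · apply hn12; left
      have := c1' _ h
      rwa [e] at this
    · apply hn12; right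
      have := c2' _ h
      rwa [e] at this
  · rintro ⟨hnW, hn12⟩
    refine ⟨?_, ?_⟩
    · have := hn1 _ hnW
      rwa [e] at this
    · rintro (h | h)
      · exact hn12 (Or.inl (c1 n h))
      · exact hn12 (Or.inr (c2 n h))

/-- value of the induced function on `W \ (W₁ ∪ W₂)` -/
theorem ind_on_V {G : Type*} [Group G] [Fintype G] (W₁ W₂ : Subgroup G)
    (hW : Cfsg.IsSelfNormalizingCyclic W₁ W₂) (α : ↥(W₁ ⊔ W₂) → ℂ)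
    (hα : ∀ w : ↥(W₁ ⊔ W₂), ((w : G) ∈ W₁ ∨ (w : G) ∈ W₂) → α w = 0)
    (w : ↥(W₁ ⊔ W₂)) (hw1 : (w : G) ∉ W₁) (hw2 : (w : G) ∉ W₂) :
    indFun (W₁ ⊔ W₂) α (w : G) = α w := by
  classical
  rw [indFun_apply]
  have hNw : Subgroup.normalizer ({(w : G)} : Set G) = W₁ ⊔ W₂ := by
    apply hW.2.2.2.2.2
    · intro z hz
      rw [Set.mem_singleton_iff] at hz
      subst hz
      exact ⟨w.2, fun h => h.elim hw1 hw2⟩
    · exact Set.singleton_nonempty _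
  have hterm : ∀ x : G, extendByZero (W₁ ⊔ W₂) α (x⁻¹ * w * x) =
      if x ∈ W₁ ⊔ W₂ then α w else 0 := by
    intro x
    by_cases hx : x ∈ W₁ ⊔ W₂
    · rw [if_pos hx]
      have hc : x⁻¹ * w * x = w := by
        have hx' := hx
        rw [← hNw] at hx'
        have := (Subgroup.mem_set_normalizer_iff''.mp hx' (w : G)).mp rfl
        simpa using this
      rw [hc, extendByZero_apply_coe]
    · rw [if_neg hx]
      by_cases hm : x⁻¹ * w * x ∈ W₁ ⊔ W₂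
      · rw [extendByZero_apply_of_mem _ _ hm]
        by_cases h12 : (x⁻¹ * w * x ∈ W₁ ∨ x⁻¹ * w * x ∈ W₂)
        · exact hα _ h12
        · push Not at h12
          exact absurd (ti W₁ W₂ hW w x w.2 hw1 hw2 hm h12.1 h12.2) hx
      · exact extendByZero_apply_of_not_mem _ _ hm
  simp_rw [hterm]
  rw [Finset.sum_ite, Finset.sum_const_zero, add_zero, Finset.sum_const, nsmul_eq_mul]
  have hc : ((Finset.univ.filter (fun x : G => x ∈ W₁ ⊔ W₂)).card : ℂ) =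
      (Nat.card ↥(W₁ ⊔ W₂) : ℂ) := by
    rw [Nat.card_eq_fintype_card, Fintype.card_subtype]
  rw [hc]
  have hne : (Nat.card ↥(W₁ ⊔ W₂) : ℂ) ≠ 0 := by
    exact_mod_cast Nat.card_pos.ne'
  field_simp

open Classical in
theorem inner_hom {W : Type*} [Group W] [Fintype W] (χ χ' : W →* ℂˣ) :
    classInner (fun w => (χ w : ℂ)) (fun w => (χ' w : ℂ)) = if χ = χ' then 1 else 0 := by
  unfold classInner
  have e : ∀ w : W, (χ w : ℂ) * conj ((χ' w : ℂ)) = (χ w : ℂ) * ((χ' w : ℂ))⁻¹ := by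
    intro w
    have hn : ‖(χ' w : ℂ)‖ = 1 := by
      apply Complex.norm_eq_one_of_pow_eq_one (n := Fintype.card W)
      · rw [← Units.val_pow_eq_pow_val, ← map_pow, pow_card_eq_one, map_one, Units.val_one]
      · exact Fintype.card_ne_zero
    rw [Complex.inv_eq_conj hn]
  simp_rw [e]
  rw [S1504.orth]
  have hne : (Nat.card W : ℂ) ≠ 0 := by
    exact_mod_cast Nat.card_pos.ne'
  by_cases h : χ = χ'
  · rw [if_pos h, if_pos h, Nat.card_eq_fintype_card]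
    rw [Nat.card_eq_fintype_card] at hne
    field_simp
  · rw [if_neg h, if_neg h, mul_zero]

theorem split_eq {G : Type*} [Group G] (W₁ W₂ : Subgroup G) (φ ψ φ' ψ' : ↥(W₁ ⊔ W₂) →* ℂˣ)
    (hφ : ∀ w : ↥(W₁ ⊔ W₂), (w : G) ∈ W₂ → φ w = 1)
    (hφ' : ∀ w : ↥(W₁ ⊔ W₂), (w : G) ∈ W₂ → φ' w = 1)
    (hψ : ∀ w : ↥(W₁ ⊔ W₂), (w : G) ∈ W₁ → ψ w = 1)
    (hψ' : ∀ w : ↥(W₁ ⊔ W₂), (w : G) ∈ W₁ → ψ' w = 1) :
    φ * ψ = φ' * ψ' ↔ (φ = φ' ∧ ψ = ψ') := by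
  constructor
  · intro h
    constructor
    · apply S1504.hom_ext_sup W₁ W₂
      · intro w hw
        have := congrArg (fun f : ↥(W₁ ⊔ W₂) →* ℂˣ => f w) h
        simpa only [MonoidHom.mul_apply, hψ w hw, hψ' w hw, mul_one] using this
      · intro w hw
        rw [hφ w hw, hφ' w hw]
    · apply S1504.hom_ext_sup W₁ W₂
      · intro w hw
        rw [hψ w hw, hψ' w hw]
      · intro w hw
        have := congrArg (fun f : ↥(W₁ ⊔ W₂) →* ℂˣ => f w) h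
        simpa only [MonoidHom.mul_apply, hφ w hw, hφ' w hw, one_mul] using this
  · rintro ⟨rfl, rfl⟩; rfl

open Classical in
theorem inner_prod {G : Type*} [Group G] [Fintype G] (W₁ W₂ : Subgroup G)
    (φ ψ φ' ψ' : ↥(W₁ ⊔ W₂) →* ℂˣ)
    (hφ : ∀ w : ↥(W₁ ⊔ W₂), (w : G) ∈ W₂ → φ w = 1)
    (hψ : ∀ w : ↥(W₁ ⊔ W₂), (w : G) ∈ W₁ → ψ w = 1)
    (hφ' : ∀ w : ↥(W₁ ⊔ W₂), (w : G) ∈ W₂ → φ' w = 1)
    (hψ' : ∀ w : ↥(W₁ ⊔ W₂), (w : G) ∈ W₁ → ψ' w = 1) :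
    classInner (fun w : ↥(W₁ ⊔ W₂) => (φ w : ℂ) * (ψ w : ℂ))
      (fun w => (φ' w : ℂ) * (ψ' w : ℂ)) =
      (if φ = φ' then 1 else 0) * (if ψ = ψ' then 1 else 0) := by
  have e1 : (fun w : ↥(W₁ ⊔ W₂) => (φ w : ℂ) * (ψ w : ℂ)) = fun w => ((φ * ψ) w : ℂ) := by
    funext w; simp
  have e2 : (fun w : ↥(W₁ ⊔ W₂) => (φ' w : ℂ) * (ψ' w : ℂ)) = fun w => ((φ' * ψ') w : ℂ) := by
    funext w; simp
  rw [e1, e2, inner_hom]
  have hs := split_eq W₁ W₂ φ ψ φ' ψ' hφ hφ' hψ hψ'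
  by_cases h1 : φ = φ'
  · by_cases h2 : ψ = ψ'
    · rw [if_pos (hs.mpr ⟨h1, h2⟩), if_pos h1, if_pos h2, mul_one]
    · rw [if_neg (fun h => h2 (hs.mp h).2), if_neg h2, mul_zero]
  · rw [if_neg (fun h => h1 (hs.mp h).1), if_neg h1, zero_mul]

theorem inner_expand16 {X : Type*} [Group X] [Fintype X] (A B C D A' B' C' D' : X → ℂ) :
    classInner (fun w => A w - B w - C w + D w) (fun w => A' w - B' w - C' w + D' w) =
      (classInner A A' - classInner A B' - classInner A C' + classInner A D')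
      - (classInner B A' - classInner B B' - classInner B C' + classInner B D')
      - (classInner C A' - classInner C B' - classInner C C' + classInner C D')
      + (classInner D A' - classInner D B' - classInner D C' + classInner D D') := by
  unfold classInner
  simp only [map_sub, map_add]
  simp only [← mul_sub, ← mul_add, ← Finset.sum_sub_distrib, ← Finset.sum_add_distrib]
  congr 1
  apply Finset.sum_congr rfl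
  intro w _
  ring

open Classical in
theorem inner_alpha {G : Type*} [Group G] [Fintype G] (W₁ W₂ : Subgroup G)
    (φ φ' ψ ψ' : ↥(W₁ ⊔ W₂) →* ℂˣ) (hφ : φ ≠ 1) (hφ' : φ' ≠ 1) (hψ : ψ ≠ 1) (hψ' : ψ' ≠ 1)
    (hφ₂ : ∀ w : ↥(W₁ ⊔ W₂), (w : G) ∈ W₂ → φ w = 1 ∧ φ' w = 1)
    (hψ₁ : ∀ w : ↥(W₁ ⊔ W₂), (w : G) ∈ W₁ → ψ w = 1 ∧ ψ' w = 1) :
    classInner (fun w : ↥(W₁ ⊔ W₂) => 1 - (φ w : ℂ) - (ψ w : ℂ) + (φ w : ℂ) * (ψ w : ℂ))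
      (fun w => 1 - (φ' w : ℂ) - (ψ' w : ℂ) + (φ' w : ℂ) * (ψ' w : ℂ)) =
      1 + (if φ = φ' then 1 else 0) + (if ψ = ψ' then 1 else 0)
        + (if φ = φ' then 1 else 0) * (if ψ = ψ' then 1 else 0) := by
  have t1 : ∀ w : ↥(W₁ ⊔ W₂), (w : G) ∈ W₂ → (1 : ↥(W₁ ⊔ W₂) →* ℂˣ) w = 1 := fun _ _ => rfl
  have t2 : ∀ w : ↥(W₁ ⊔ W₂), (w : G) ∈ W₁ → (1 : ↥(W₁ ⊔ W₂) →* ℂˣ) w = 1 := fun _ _ => rfl
  have a1 : ∀ w : ↥(W₁ ⊔ W₂), (w : G) ∈ W₂ → φ w = 1 := fun w hw => (hφ₂ w hw).1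
  have a2 : ∀ w : ↥(W₁ ⊔ W₂), (w : G) ∈ W₂ → φ' w = 1 := fun w hw => (hφ₂ w hw).2
  have b1 : ∀ w : ↥(W₁ ⊔ W₂), (w : G) ∈ W₁ → ψ w = 1 := fun w hw => (hψ₁ w hw).1
  have b2 : ∀ w : ↥(W₁ ⊔ W₂), (w : G) ∈ W₁ → ψ' w = 1 := fun w hw => (hψ₁ w hw).2
  have eα : (fun w : ↥(W₁ ⊔ W₂) => 1 - (φ w : ℂ) - (ψ w : ℂ) + (φ w : ℂ) * (ψ w : ℂ)) =
      fun w => (((1 : ↥(W₁ ⊔ W₂) →* ℂˣ) w : ℂ) * ((1 : ↥(W₁ ⊔ W₂) →* ℂˣ) w : ℂ))
        - ((φ w : ℂ) * ((1 : ↥(W₁ ⊔ W₂) →* ℂˣ) w : ℂ))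
        - (((1 : ↥(W₁ ⊔ W₂) →* ℂˣ) w : ℂ) * (ψ w : ℂ)) + (φ w : ℂ) * (ψ w : ℂ) := by
    funext w; simp
  have eα' : (fun w : ↥(W₁ ⊔ W₂) => 1 - (φ' w : ℂ) - (ψ' w : ℂ) + (φ' w : ℂ) * (ψ' w : ℂ)) =
      fun w => (((1 : ↥(W₁ ⊔ W₂) →* ℂˣ) w : ℂ) * ((1 : ↥(W₁ ⊔ W₂) →* ℂˣ) w : ℂ))
        - ((φ' w : ℂ) * ((1 : ↥(W₁ ⊔ W₂) →* ℂˣ) w : ℂ))
        - (((1 : ↥(W₁ ⊔ W₂) →* ℂˣ) w : ℂ) * (ψ' w : ℂ)) + (φ' w : ℂ) * (ψ' w : ℂ) := by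
    funext w; simp
  rw [eα, eα', inner_expand16]
  rw [inner_prod W₁ W₂ 1 1 1 1 t1 t2 t1 t2, inner_prod W₁ W₂ 1 1 φ' 1 t1 t2 a2 t2,
    inner_prod W₁ W₂ 1 1 1 ψ' t1 t2 t1 b2, inner_prod W₁ W₂ 1 1 φ' ψ' t1 t2 a2 b2,
    inner_prod W₁ W₂ φ 1 1 1 a1 t2 t1 t2, inner_prod W₁ W₂ φ 1 φ' 1 a1 t2 a2 t2,
    inner_prod W₁ W₂ φ 1 1 ψ' a1 t2 t1 b2, inner_prod W₁ W₂ φ 1 φ' ψ' a1 t2 a2 b2,
    inner_prod W₁ W₂ 1 ψ 1 1 t1 b1 t1 t2, inner_prod W₁ W₂ 1 ψ φ' 1 t1 b1 a2 t2,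
    inner_prod W₁ W₂ 1 ψ 1 ψ' t1 b1 t1 b2, inner_prod W₁ W₂ 1 ψ φ' ψ' t1 b1 a2 b2,
    inner_prod W₁ W₂ φ ψ 1 1 a1 b1 t1 t2, inner_prod W₁ W₂ φ ψ φ' 1 a1 b1 a2 t2,
    inner_prod W₁ W₂ φ ψ 1 ψ' a1 b1 t1 b2, inner_prod W₁ W₂ φ ψ φ' ψ' a1 b1 a2 b2]
  rw [if_pos rfl, if_neg hφ, if_neg hψ, if_neg (Ne.symm hφ'), if_neg (Ne.symm hψ')]
  ring

open Classical in
theorem inner_alpha_one {G : Type*} [Group G] [Fintype G] (W₁ W₂ : Subgroup G)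
    (φ ψ : ↥(W₁ ⊔ W₂) →* ℂˣ) (hφ : φ ≠ 1) (hψ : ψ ≠ 1)
    (hφ₂ : ∀ w : ↥(W₁ ⊔ W₂), (w : G) ∈ W₂ → φ w = 1)
    (hψ₁ : ∀ w : ↥(W₁ ⊔ W₂), (w : G) ∈ W₁ → ψ w = 1) :
    classInner (fun w : ↥(W₁ ⊔ W₂) => 1 - (φ w : ℂ) - (ψ w : ℂ) + (φ w : ℂ) * (ψ w : ℂ))
      (fun _ => 1) = 1 := by
  have t1 : ∀ w : ↥(W₁ ⊔ W₂), (w : G) ∈ W₂ → (1 : ↥(W₁ ⊔ W₂) →* ℂˣ) w = 1 := fun _ _ => rfl
  have t2 : ∀ w : ↥(W₁ ⊔ W₂), (w : G) ∈ W₁ → (1 : ↥(W₁ ⊔ W₂) →* ℂˣ) w = 1 := fun _ _ => rfl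
  have eα : (fun w : ↥(W₁ ⊔ W₂) => 1 - (φ w : ℂ) - (ψ w : ℂ) + (φ w : ℂ) * (ψ w : ℂ)) =
      fun w => (((1 : ↥(W₁ ⊔ W₂) →* ℂˣ) w : ℂ) * ((1 : ↥(W₁ ⊔ W₂) →* ℂˣ) w : ℂ))
        - ((φ w : ℂ) * ((1 : ↥(W₁ ⊔ W₂) →* ℂˣ) w : ℂ))
        - (((1 : ↥(W₁ ⊔ W₂) →* ℂˣ) w : ℂ) * (ψ w : ℂ)) + (φ w : ℂ) * (ψ w : ℂ) := by
    funext w; simp
  have e1 : (fun _ : ↥(W₁ ⊔ W₂) => (1 : ℂ)) =
      fun w => (((1 : ↥(W₁ ⊔ W₂) →* ℂˣ) w : ℂ) * ((1 : ↥(W₁ ⊔ W₂) →* ℂˣ) w : ℂ))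
        - (0 : ℂ) - (0 : ℂ) + (0 : ℂ) := by
    funext w; simp
  rw [eα, e1, inner_expand16]
  rw [inner_prod W₁ W₂ 1 1 1 1 t1 t2 t1 t2, inner_prod W₁ W₂ φ 1 1 1 hφ₂ t2 t1 t2,
    inner_prod W₁ W₂ 1 ψ 1 1 t1 hψ₁ t1 t2, inner_prod W₁ W₂ φ ψ 1 1 hφ₂ hψ₁ t1 t2]
  rw [if_pos rfl, if_neg hφ, if_neg hψ]
  have z : ∀ F : ↥(W₁ ⊔ W₂) → ℂ, classInner F (fun _ => (0 : ℂ)) = 0 := by
    intro F; unfold classInner; simp
  simp only [z]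
  ring

open Classical in
/-- Let W₁, W₂ ≤ G form a self-normalising cyclic subgroup W = W₁ ⊔ W₂. For nontrivial linear characters φ, φ' of W trivial on W₂ and ψ, ψ' trivial on W₁, put α = (1 − φ)(1 − ψ) and α' = (1 − φ')(1 − ψ'). Then the function induced from α to G has inner product 1 with the principal character, and the inner product of the functions induced from α and α' is 1 + a + b + ab where a = 1 if φ = φ' (else 0) and b = 1 if ψ = ψ' (else 0). -/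
theorem result {G : Type*} [Group G] [Fintype G] (W₁ W₂ : Subgroup G) (hW : Cfsg.IsSelfNormalizingCyclic W₁ W₂) (φ φ' ψ ψ' : ↥(W₁ ⊔ W₂) →* ℂˣ) (hφ : φ ≠ 1) (hφ' : φ' ≠ 1) (hψ : ψ ≠ 1) (hψ' : ψ' ≠ 1) (hφ₂ : ∀ w : ↥(W₁ ⊔ W₂), (w : G) ∈ W₂ → φ w = 1 ∧ φ' w = 1) (hψ₁ : ∀ w : ↥(W₁ ⊔ W₂), (w : G) ∈ W₁ → ψ w = 1 ∧ ψ' w = 1) : Cfsg.classInner (Cfsg.indFun (W₁ ⊔ W₂) (fun w => 1 - (φ w : ℂ) - (ψ w : ℂ) + (φ w : ℂ) * (ψ w : ℂ))) (fun _ => 1) = 1 ∧ Cfsg.classInner (Cfsg.indFun (W₁ ⊔ W₂) (fun w => 1 - (φ w : ℂ) - (ψ w : ℂ) + (φ w : ℂ) * (ψ w : ℂ))) (Cfsg.indFun (W₁ ⊔ W₂) (fun w => 1 - (φ' w : ℂ) - (ψ' w : ℂ) + (φ' w : ℂ) * (ψ' w : ℂ))) = 1 + (if φ = φ' then 1 else 0) + (if ψ = ψ' then 1 else 0) + (if φ = φ' then 1 else 0) * (if ψ = ψ' then 1 else 0) := by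
  have hcl : IsClassFunction G (fun _ : G => (1 : ℂ)) := fun _ _ => rfl
  constructor
  · rw [frobenius_reciprocity _ _ _ hcl]
    exact inner_alpha_one W₁ W₂ φ ψ hφ hψ (fun w hw => (hφ₂ w hw).1) (fun w hw => (hψ₁ w hw).1)
  · rw [frobenius_reciprocity _ _ _ (indFun_isClassFunction _ _)]
    rw [← inner_alpha W₁ W₂ φ φ' ψ ψ' hφ hφ' hψ hψ' hφ₂ hψ₁]
    unfold classInner
    congr 1
    apply Finset.sum_congr rfl
    intro w _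
    beta_reduce
    by_cases h12 : ((w : G) ∈ W₁ ∨ (w : G) ∈ W₂)
    · have hz : (1 - (φ w : ℂ) - (ψ w : ℂ) + (φ w : ℂ) * (ψ w : ℂ)) = 0 := by
        rcases h12 with h | h
        · rw [(hψ₁ w h).1]; simp
        · rw [(hφ₂ w h).1]; simp
      rw [hz, zero_mul, zero_mul]
    · push Not at h12
      rw [ind_on_V W₁ W₂ hW _ _ w h12.1 h12.2]
      intro w' hw'
      rcases hw' with h | h
      · rw [(hψ₁ w' h).2]; simp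
      · rw [(hφ₂ w' h).2]; simp

end Cfsg.Agent.S1505
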