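import Cfsg.Statements.S1508
import Cfsg.Agent.Lib.Helper3.Irr
import Cfsg.Agent.Lib.CT.FrobRec
import Cfsg.Agent.Lib.Helper76.GaloisConj
import Cfsg.Agent.Lib.Helper80.Integrality
import Cfsg.Agent.Lib.Helper25.CyclicTI
import Cfsg.Agent.S1507
import Cfsg.Agent.S1505
import Cfsg.Agent.S0180
import Mathlib

set_option autoImplicit false
open Cfsg

namespace Cfsg.Agent.S1508

open Cfsg.Agent.Lib.Helper3.Irr Cfsg.Agent.Lib.CT.FrobRec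
open scoped ComplexConjugate

/-- A character value fixed by all Galois-type power maps is rational. -/
theorem rat_of_pow_fixed {G : Type*} [Group G] [Finite G] {χ : G → ℂ} (hχ : IsCharacter G χ)
    (g : G) (h : ∀ m : ℕ, m.Coprime (orderOf g) → χ (g ^ m) = χ g) : ∃ q : ℚ, χ g = q := by
  classical
  obtain ⟨d, ρ, rfl⟩ := hχ
  have hpos : 0 < orderOf g := orderOf_pos g
  haveI : NeZero (orderOf g) := ⟨hpos.ne'⟩
  let n := orderOf g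
  let K := CyclotomicField n ℚ
  haveI : IsCyclotomicExtension {n} ℚ K := CyclotomicField.isCyclotomicExtension n ℚ
  haveI : FiniteDimensional ℚ K := IsCyclotomicExtension.finiteDimensional {n} ℚ K
  haveI : IsGalois ℚ K := IsCyclotomicExtension.isGalois {n} ℚ K
  let ι₀ : K →ₐ[ℚ] ℂ := IsAlgClosed.lift
  let ι : K →+* ℂ := ι₀.toRingHom
  have hι : Function.Injective ι := ι.injective
  have hιq : ∀ q : ℚ, ι (algebraMap ℚ K q) = (q : ℂ) := by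
    intro q
    rw [eq_ratCast, map_ratCast]
  let ζ : K := IsCyclotomicExtension.zeta n ℚ K
  have hζ : IsPrimitiveRoot ζ n := IsCyclotomicExtension.zeta_spec n ℚ K
  obtain ⟨x, hx⟩ := Cfsg.Agent.S0180.key ρ g n (pow_orderOf_eq_one g) ι ζ hζ
  have h1 : ι x = ρ.character g := by
    have := hx (RingHom.id K) 1 (by simp)
    rw [pow_one] at this
    rw [← this]
    rfl
  have hfix : ∀ σ : K ≃ₐ[ℚ] K, σ x = x := by
    intro σ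
    have hσζ : IsPrimitiveRoot (σ ζ) n := hζ.map_of_injective σ.injective
    obtain ⟨m, -, hm⟩ := hζ.eq_pow_of_pow_eq_one hσζ.pow_eq_one
    have hcop : m.Coprime n := (hζ.pow_iff_coprime hpos m).1 (hm ▸ hσζ)
    have h2 := hx (σ : K →+* K) m hm.symm
    apply hι
    rw [h1]
    have h3 : ι ((σ : K →+* K) x) = ι (σ x) := rfl
    rw [← h3, h2]
    exact h m hcop
  obtain ⟨q, hq⟩ := (IsGalois.mem_range_algebraMap_iff_fixed x).2 hfix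
  refine ⟨q, ?_⟩
  rw [← h1, ← hq, hιq]

theorem int_of_pow_fixed {G : Type*} [Group G] [Finite G] {χ : G → ℂ} (hχ : IsCharacter G χ)
    (g : G) (h : ∀ m : ℕ, m.Coprime (orderOf g) → χ (g ^ m) = χ g) : ∃ n : ℤ, χ g = n := by
  obtain ⟨q, hq⟩ := rat_of_pow_fixed hχ g h
  have hint : IsIntegral ℤ (χ g) := Cfsg.Agent.Lib.Helper80.Integrality.isIntegral_of_isCharacter hχ g
  rw [hq] at hint
  have hq' : IsIntegral ℤ q := by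
    have h2 : (q : ℂ) = algebraMap ℚ ℂ q := by simp
    rw [h2] at hint
    exact (isIntegral_algebraMap_iff (algebraMap ℚ ℂ).injective).mp hint
  obtain ⟨n, hn⟩ := IsIntegrallyClosed.isIntegral_iff.mp hq'
  refine ⟨n, ?_⟩
  rw [hq, ← hn]
  simp

/-- lifting a residue coprime to `d ∣ N` to a number coprime to `N`. -/
theorem exists_coprime_lift (N d c : ℕ) (hN : 0 < N) (hd : d ∣ N) (hc : c.Coprime d) :
    ∃ k : ℕ, k.Coprime N ∧ k ≡ c [MOD d] := by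
  haveI : NeZero N := ⟨hN.ne'⟩
  obtain ⟨u, hu⟩ := ZMod.unitsMap_surjective hd (ZMod.unitOfCoprime c hc)
  refine ⟨(u : ZMod N).val, ZMod.val_coe_unit_coprime u, ?_⟩
  rw [← ZMod.natCast_eq_natCast_iff]
  have h1 := congrArg (fun v : (ZMod d)ˣ => (v : ZMod d)) hu
  simp only [ZMod.unitsMap_def, Units.coe_map, MonoidHom.coe_coe, ZMod.castHom_apply,
    ZMod.coe_unitOfCoprime] at h1
  rw [← h1, ZMod.natCast_val]

/-! ### signed irreducible characters -/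

section SIrr

variable {G : Type*} [Group G] [Fintype G]

/-- an irreducible character up to sign -/
def SIrr (G : Type*) [Group G] (f : G → ℂ) : Prop := IsIrrCharacter G f ∨ IsIrrCharacter G (-f)

theorem classInner_neg_left (f h : G → ℂ) : classInner (-f) h = - classInner f h := by
  unfold classInner
  simp [Finset.sum_neg_distrib]

theorem classInner_neg_right (f h : G → ℂ) : classInner f (-h) = - classInner f h := by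
  unfold classInner
  simp [Finset.sum_neg_distrib]

theorem sirr_cases {f h : G → ℂ} (hf : SIrr G f) (hh : SIrr G h) :
    classInner f h = 0 ∨ (classInner f h = 1 ∧ f = h) ∨ (classInner f h = -1 ∧ f = -h) := by
  classical
  rcases hf with hf | hf <;> rcases hh with hh | hh
  · have h1 := irr_orthonormal (⟨f, hf⟩ : IrrCharacter G) ⟨h, hh⟩
    simp only at h1
    by_cases e : (⟨f, hf⟩ : IrrCharacter G) = ⟨h, hh⟩
    · right; left; rw [h1, if_pos e]; exact ⟨rfl, congrArg Subtype.val e⟩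
    · left; rw [h1, if_neg e]
  · have h1 := irr_orthonormal (⟨f, hf⟩ : IrrCharacter G) ⟨-h, hh⟩
    simp only at h1
    rw [classInner_neg_right] at h1
    by_cases e : (⟨f, hf⟩ : IrrCharacter G) = ⟨-h, hh⟩
    · right; right; rw [if_pos e] at h1
      exact ⟨by rw [← h1, neg_neg], congrArg Subtype.val e⟩
    · left; rw [if_neg e] at h1; exact neg_eq_zero.mp h1
  · have h1 := irr_orthonormal (⟨-f, hf⟩ : IrrCharacter G) ⟨h, hh⟩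
    simp only at h1
    rw [classInner_neg_left] at h1
    by_cases e : (⟨-f, hf⟩ : IrrCharacter G) = ⟨h, hh⟩
    · right; right; rw [if_pos e] at h1
      refine ⟨by rw [← h1, neg_neg], ?_⟩
      have e' : -f = h := congrArg Subtype.val e
      rw [← e', neg_neg]
    · left; rw [if_neg e] at h1; exact neg_eq_zero.mp h1
  · have h1 := irr_orthonormal (⟨-f, hf⟩ : IrrCharacter G) ⟨-h, hh⟩
    simp only at h1
    rw [classInner_neg_left, classInner_neg_right, neg_neg] at h1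
    by_cases e : (⟨-f, hf⟩ : IrrCharacter G) = ⟨-h, hh⟩
    · right; left; rw [h1, if_pos e]
      refine ⟨rfl, ?_⟩
      have e' : -f = -h := congrArg Subtype.val e
      exact neg_injective e'
    · left; rw [h1, if_neg e]

theorem sirr_self {f : G → ℂ} (hf : SIrr G f) : classInner f f = 1 := by
  rcases hf with hf | hf
  · exact irr_inner_self (⟨f, hf⟩ : IrrCharacter G)
  · have := irr_inner_self (⟨-f, hf⟩ : IrrCharacter G)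
    simp only at this
    rwa [classInner_neg_left, classInner_neg_right, neg_neg] at this

theorem sirr_orth {X Y Z : G → ℂ} (hX : SIrr G X) (hY : SIrr G Y) (hZ : SIrr G Z)
    (hYZ : classInner Y Z = 0) : classInner Y X = 0 ∨ classInner Z X = 0 := by
  by_contra hcon
  push Not at hcon
  obtain ⟨h1, h2⟩ := hcon
  have hXX := sirr_self hX
  rcases sirr_cases hY hX with a | ⟨-, a⟩ | ⟨-, a⟩
  · exact h1 a
  · rcases sirr_cases hZ hX with b | ⟨-, b⟩ | ⟨-, b⟩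
    · exact h2 b
    · rw [a, b, hXX] at hYZ; norm_num at hYZ
    · rw [a, b, classInner_neg_right, hXX] at hYZ; norm_num at hYZ
  · rcases sirr_cases hZ hX with b | ⟨-, b⟩ | ⟨-, b⟩
    · exact h2 b
    · rw [a, b, classInner_neg_left, hXX] at hYZ; norm_num at hYZ
    · rw [a, b, classInner_neg_left, classInner_neg_right, hXX] at hYZ; norm_num at hYZ

/-- abstract selection lemma -/
theorem pick {θ M X Y X' Y' : G → ℂ} (hθ : SIrr G θ) (hM : SIrr G M) (hX : SIrr G X)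
    (hY : SIrr G Y) (hX' : SIrr G X') (hY' : SIrr G Y')
    (e1 : classInner M θ + classInner X θ - classInner Y θ = 1)
    (e2 : classInner M θ + classInner X' θ - classInner Y' θ = 1)
    (oMX : classInner M X = 0) (oMY : classInner M Y = 0) (oXX' : classInner X X' = 0)
    (oXY' : classInner X Y' = 0) (oYX' : classInner Y X' = 0) (oYY' : classInner Y Y' = 0) :
    M = θ := by
  have hp : classInner M θ ≠ 0 := by
    intro hp0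
    rw [hp0, zero_add] at e1 e2
    have h1 : classInner X θ ≠ 0 ∨ classInner Y θ ≠ 0 := by
      by_contra hc
      push Not at hc
      rw [hc.1, hc.2] at e1
      norm_num at e1
    have h2 : classInner X' θ ≠ 0 ∨ classInner Y' θ ≠ 0 := by
      by_contra hc
      push Not at hc
      rw [hc.1, hc.2] at e2
      norm_num at e2
    rcases h1 with h1 | h1
    · rcases h2 with h2 | h2
      · rcases sirr_orth hθ hX hX' oXX' with h | h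
        · exact h1 h
        · exact h2 h
      · rcases sirr_orth hθ hX hY' oXY' with h | h
        · exact h1 h
        · exact h2 h
    · rcases h2 with h2 | h2
      · rcases sirr_orth hθ hY hX' oYX' with h | h
        · exact h1 h
        · exact h2 h
      · rcases sirr_orth hθ hY hY' oYY' with h | h
        · exact h1 h
        · exact h2 h
  have hq : classInner X θ = 0 := (sirr_orth hθ hM hX oMX).resolve_left hp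
  have hr : classInner Y θ = 0 := (sirr_orth hθ hM hY oMY).resolve_left hp
  rw [hq, hr] at e1
  have hp1 : classInner M θ = 1 := by linear_combination e1
  rcases sirr_cases hM hθ with a | ⟨-, a⟩ | ⟨a, -⟩
  · exact absurd a hp
  · exact a
  · rw [hp1] at a; norm_num at a

theorem inner_pow (k : ℕ) (hk : k.Coprime (Nat.card G)) (f h : G → ℂ) :
    classInner (fun g => f (g ^ k)) (fun g => h (g ^ k)) = classInner f h := by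
  unfold classInner
  congr 1
  exact Fintype.sum_equiv (powCoprime hk.symm) _ _ (fun g => rfl)

theorem sirr_pow {f : G → ℂ} (hf : SIrr G f) (k : ℕ) (hk : k.Coprime (Nat.card G)) :
    SIrr G (fun g => f (g ^ k)) := by
  rcases hf with hf | hf
  · left; exact Cfsg.Agent.Lib.Helper76.GaloisConj.isIrrCharacter_pow hf k hk
  · right; exact Cfsg.Agent.Lib.Helper76.GaloisConj.isIrrCharacter_pow hf k hk

theorem conj_pow' (x g : G) (k : ℕ) : x⁻¹ * g ^ k * x = (x⁻¹ * g * x) ^ k := by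
  have h := conj_pow (a := x⁻¹) (b := g) (i := k)
  simp only [inv_inv] at h
  exact h.symm

theorem ind_pow (W : Subgroup G) (α : W → ℂ) (k : ℕ) (hk : k.Coprime (Nat.card G)) (g : G) :
    indFun W α (g ^ k) = indFun W (fun w => α (w ^ k)) g := by
  rw [indFun_apply, indFun_apply]
  congr 1
  apply Finset.sum_congr rfl
  intro x _
  rw [conj_pow']
  generalize x⁻¹ * g * x = y
  by_cases hy : y ∈ W
  · rw [extendByZero_apply_of_mem _ _ (W.pow_mem hy k), extendByZero_apply_of_mem _ _ hy]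
    rfl
  · have hyk : y ^ k ∉ W := by
      intro h
      obtain ⟨m, hm⟩ := exists_pow_eq_self_of_coprime (x := y) (n := k)
        (hk.coprime_dvd_right (orderOf_dvd_natCard y))
      apply hy; rw [← hm]; exact W.pow_mem h m
    rw [extendByZero_apply_of_not_mem _ _ hyk, extendByZero_apply_of_not_mem _ _ hy]

end SIrr

/-! ### linear characters of `W` -/

theorem exists_two {α : Type*} [Finite α] (a : α) (h : 3 ≤ Nat.card α) :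
    ∃ b c : α, b ≠ a ∧ c ≠ a ∧ b ≠ c := by
  classical
  haveI := Fintype.ofFinite α
  rw [Nat.card_eq_fintype_card] at h
  have h1 : ({a} : Finset α).card < (Finset.univ : Finset α).card := by
    rw [Finset.card_singleton, Finset.card_univ]; omega
  obtain ⟨b, -, hb⟩ := Finset.exists_mem_notMem_of_card_lt_card h1
  have h2 : ({a, b} : Finset α).card < (Finset.univ : Finset α).card := by
    rw [Finset.card_univ]
    exact lt_of_le_of_lt Finset.card_le_two (by omega)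
  obtain ⟨c, -, hc⟩ := Finset.exists_mem_notMem_of_card_lt_card h2
  rw [Finset.mem_singleton] at hb
  rw [Finset.mem_insert, Finset.mem_singleton, not_or] at hc
  exact ⟨b, c, hb, hc.1, fun h => hc.2 h.symm⟩

theorem char_struct {G : Type*} [Group G] [Fintype G] (W₁ W₂ : Subgroup G)
    (hW : IsSelfNormalizingCyclic W₁ W₂) (hodd : Odd (Nat.card ↥(W₁ ⊔ W₂))) :
    (∀ ω : ↥(W₁ ⊔ W₂) →* ℂˣ, ∃ φ ψ : ↥(W₁ ⊔ W₂) →* ℂˣ, ω = φ * ψ ∧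
      (∀ w : ↥(W₁ ⊔ W₂), (w : G) ∈ W₂ → φ w = 1) ∧
      (∀ w : ↥(W₁ ⊔ W₂), (w : G) ∈ W₁ → ψ w = 1)) ∧
    (∃ ψ ψ' : ↥(W₁ ⊔ W₂) →* ℂˣ, ψ ≠ 1 ∧ ψ' ≠ 1 ∧ ψ ≠ ψ' ∧
      (∀ w : ↥(W₁ ⊔ W₂), (w : G) ∈ W₁ → ψ w = 1) ∧
      (∀ w : ↥(W₁ ⊔ W₂), (w : G) ∈ W₁ → ψ' w = 1)) ∧
    (∃ φ φ' : ↥(W₁ ⊔ W₂) →* ℂˣ, φ ≠ 1 ∧ φ' ≠ 1 ∧ φ ≠ φ' ∧
      (∀ w : ↥(W₁ ⊔ W₂), (w : G) ∈ W₂ → φ w = 1) ∧
      (∀ w : ↥(W₁ ⊔ W₂), (w : G) ∈ W₂ → φ' w = 1)) := by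
  obtain ⟨hW1, hW2, hdisj, hcomm, hcyc, -⟩ := hW
  obtain ⟨e, E, he, hE⟩ := Cfsg.Agent.Lib.Helper25.CyclicTI.exists_param W₁ W₂ hdisj hcomm
  have hWcomm : ∀ a ∈ W₁ ⊔ W₂, ∀ b ∈ W₁ ⊔ W₂, a * b = b * a := by
    intro a ha b hb
    letI := hcyc
    letI : CommGroup ↥(W₁ ⊔ W₂) := IsCyclic.commGroup
    have := mul_comm (⟨a, ha⟩ : ↥(W₁ ⊔ W₂)) ⟨b, hb⟩
    exact congrArg Subtype.val this
  have hc1 : Nat.card (↥W₁ →* ℂˣ) = Nat.card W₁ :=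
    Cfsg.Agent.S1507.card_hom_sub W₁
      (fun a ha b hb => hWcomm a (Subgroup.mem_sup_left ha) b (Subgroup.mem_sup_left hb))
  have hc2 : Nat.card (↥W₂ →* ℂˣ) = Nat.card W₂ :=
    Cfsg.Agent.S1507.card_hom_sub W₂
      (fun a ha b hb => hWcomm a (Subgroup.mem_sup_right ha) b (Subgroup.mem_sup_right hb))
  have hcard : Nat.card ↥(W₁ ⊔ W₂) = Nat.card W₁ * Nat.card W₂ := by
    rw [← Nat.card_congr e.toEquiv, Nat.card_prod]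
  rw [hcard, Nat.odd_mul] at hodd
  have h31 : 3 ≤ Nat.card W₁ := by
    have h1 : Nat.card W₁ ≠ 1 := fun h => hW1 (Subgroup.card_eq_one.mp h)
    have h0 : 0 < Nat.card W₁ := Nat.card_pos
    obtain ⟨⟨k, hk⟩, -⟩ := hodd
    omega
  have h32 : 3 ≤ Nat.card W₂ := by
    have h1 : Nat.card W₂ ≠ 1 := fun h => hW2 (Subgroup.card_eq_one.mp h)
    have h0 : 0 < Nat.card W₂ := Nat.card_pos
    obtain ⟨-, ⟨k, hk⟩⟩ := hodd
    omega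
  haveI : Finite (↥W₁ →* ℂˣ) := Nat.finite_of_card_ne_zero (by rw [hc1]; exact Nat.card_pos.ne')
  haveI : Finite (↥W₂ →* ℂˣ) := Nat.finite_of_card_ne_zero (by rw [hc2]; exact Nat.card_pos.ne')
  have hw1 : ∀ w : ↥(W₁ ⊔ W₂), ∀ hw : (w : G) ∈ W₁, w = e (⟨w, hw⟩, 1) := by
    intro w hw
    apply Subtype.ext
    rw [he]; simp
  have hw2 : ∀ w : ↥(W₁ ⊔ W₂), ∀ hw : (w : G) ∈ W₂, w = e (1, ⟨w, hw⟩) := by
    intro w hw
    apply Subtype.ext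
    rw [he]; simp
  have hT3 : ∀ α β, E (α, β) = E (α, 1) * E (1, β) := by
    intro α β
    ext w
    obtain ⟨⟨a, b⟩, rfl⟩ := e.surjective w
    rw [MonoidHom.mul_apply, hE, hE, hE]
    simp
  have hT1 : ∀ α, ∀ w : ↥(W₁ ⊔ W₂), (w : G) ∈ W₂ → E (α, 1) w = 1 := by
    intro α w hw
    rw [hw2 w hw, hE]; simp
  have hT2 : ∀ β, ∀ w : ↥(W₁ ⊔ W₂), (w : G) ∈ W₁ → E (1, β) w = 1 := by
    intro β w hw
    rw [hw1 w hw, hE]; simp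
  have hT4 : E (1, 1) = 1 := by
    ext w
    obtain ⟨⟨a, b⟩, rfl⟩ := e.surjective w
    rw [hE]; simp
  refine ⟨?_, ?_, ?_⟩
  · intro ω
    obtain ⟨⟨α, β⟩, rfl⟩ := E.surjective ω
    exact ⟨E (α, 1), E (1, β), hT3 α β, hT1 α, hT2 β⟩
  · obtain ⟨β, β', hβ, hβ', hne⟩ := exists_two (1 : ↥W₂ →* ℂˣ) (by rw [hc2]; exact h32)
    refine ⟨E (1, β), E (1, β'), ?_, ?_, ?_, hT2 β, hT2 β'⟩
    · rw [← hT4]; intro h; exact hβ (Prod.mk.inj (E.injective h)).2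
    · rw [← hT4]; intro h; exact hβ' (Prod.mk.inj (E.injective h)).2
    · intro h; exact hne (Prod.mk.inj (E.injective h)).2
  · obtain ⟨α, α', hα, hα', hne⟩ := exists_two (1 : ↥W₁ →* ℂˣ) (by rw [hc1]; exact h31)
    refine ⟨E (α, 1), E (α', 1), ?_, ?_, ?_, hT1 α, hT1 α'⟩
    · rw [← hT4]; intro h; exact hα (Prod.mk.inj (E.injective h)).1
    · rw [← hT4]; intro h; exact hα' (Prod.mk.inj (E.injective h)).1
    · intro h; exact hne (Prod.mk.inj (E.injective h)).1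

theorem hom_pow_apply {W : Type*} [Group W] (ω : W →* ℂˣ) (k : ℕ) (w : W) :
    (ω ^ k) w = ω (w ^ k) := by
  rw [map_pow]; rfl

theorem hom_pow_inj {W : Type*} [Group W] [Finite W] (k : ℕ) (hk : k.Coprime (Nat.card W))
    (ω ω' : W →* ℂˣ) (h : ω ^ k = ω' ^ k) : ω = ω' := by
  ext w
  obtain ⟨m, hm⟩ := exists_pow_eq_self_of_coprime (x := w) (n := k)
    (hk.coprime_dvd_right (orderOf_dvd_natCard w))
  have h1 : ω ((w ^ k) ^ m) = ω' ((w ^ k) ^ m) := by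
    have a : ∀ χ : W →* ℂˣ, χ ((w ^ k) ^ m) = ((χ ^ k) w) ^ m := by
      intro χ; rw [map_pow, hom_pow_apply]
    rw [a, a, h]
  rw [hm] at h1
  rw [h1]

theorem hmul_one {W : Type*} [Group W] (φ : W →* ℂˣ) : φ * 1 = φ := by
  apply MonoidHom.ext; intro w; simp

theorem hone_mul {W : Type*} [Group W] (φ : W →* ℂˣ) : 1 * φ = φ := by
  apply MonoidHom.ext; intro w; simp

theorem hone_pow {W : Type*} [Group W] (k : ℕ) : (1 : W →* ℂˣ) ^ k = 1 := by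
  apply MonoidHom.ext; intro w
  rw [hom_pow_apply]; rfl

theorem hmul_pow {W : Type*} [Group W] (φ ψ : W →* ℂˣ) (k : ℕ) :
    (φ * ψ) ^ k = φ ^ k * ψ ^ k := by
  apply MonoidHom.ext; intro w
  rw [hom_pow_apply, MonoidHom.mul_apply, MonoidHom.mul_apply, hom_pow_apply, hom_pow_apply]

/-! ### the family under power maps -/

section Main

variable {G : Type*} [Group G] [Fintype G] (W₁ W₂ : Subgroup G)

/-- distinctness of products of characters with prescribed kernels -/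
theorem ne_lr_lr (a b c d : ↥(W₁ ⊔ W₂) →* ℂˣ)
    (ha : ∀ w : ↥(W₁ ⊔ W₂), (w : G) ∈ W₂ → a w = 1)
    (hb : ∀ w : ↥(W₁ ⊔ W₂), (w : G) ∈ W₁ → b w = 1)
    (hc : ∀ w : ↥(W₁ ⊔ W₂), (w : G) ∈ W₂ → c w = 1)
    (hd : ∀ w : ↥(W₁ ⊔ W₂), (w : G) ∈ W₁ → d w = 1) (h : a ≠ c ∨ b ≠ d) : a * b ≠ c * d := by
  intro e
  obtain ⟨h1, h2⟩ := (Cfsg.Agent.S1505.split_eq W₁ W₂ a b c d ha hc hb hd).mp e
  rcases h with h | h
  · exact h h1
  · exact h h2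

theorem triv_one₂ : ∀ w : ↥(W₁ ⊔ W₂), (w : G) ∈ W₂ → (1 : ↥(W₁ ⊔ W₂) →* ℂˣ) w = 1 :=
  fun _ _ => rfl

theorem triv_one₁ : ∀ w : ↥(W₁ ⊔ W₂), (w : G) ∈ W₁ → (1 : ↥(W₁ ⊔ W₂) →* ℂˣ) w = 1 :=
  fun _ _ => rfl

theorem ne_l_r (P Q : ↥(W₁ ⊔ W₂) →* ℂˣ)
    (hP : ∀ w : ↥(W₁ ⊔ W₂), (w : G) ∈ W₂ → P w = 1)
    (hQ : ∀ w : ↥(W₁ ⊔ W₂), (w : G) ∈ W₁ → Q w = 1) (h : P ≠ 1) : P ≠ Q := by
  have := ne_lr_lr W₁ W₂ P 1 1 Q hP (triv_one₁ W₁ W₂) (triv_one₂ W₁ W₂) hQ (Or.inl h)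
  rwa [hmul_one, hone_mul] at this

theorem ne_l_lr (P P' Q : ↥(W₁ ⊔ W₂) →* ℂˣ)
    (hP : ∀ w : ↥(W₁ ⊔ W₂), (w : G) ∈ W₂ → P w = 1)
    (hP' : ∀ w : ↥(W₁ ⊔ W₂), (w : G) ∈ W₂ → P' w = 1)
    (hQ : ∀ w : ↥(W₁ ⊔ W₂), (w : G) ∈ W₁ → Q w = 1) (h : Q ≠ 1) : P ≠ P' * Q := by
  have := ne_lr_lr W₁ W₂ P 1 P' Q hP (triv_one₁ W₁ W₂) hP' hQ (Or.inr (Ne.symm h))
  rwa [hmul_one] at this

theorem ne_r_lr (P Q Q' : ↥(W₁ ⊔ W₂) →* ℂˣ)
    (hP : ∀ w : ↥(W₁ ⊔ W₂), (w : G) ∈ W₂ → P w = 1)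
    (hQ : ∀ w : ↥(W₁ ⊔ W₂), (w : G) ∈ W₁ → Q w = 1)
    (hQ' : ∀ w : ↥(W₁ ⊔ W₂), (w : G) ∈ W₁ → Q' w = 1) (h : P ≠ 1) : Q ≠ P * Q' := by
  have := ne_lr_lr W₁ W₂ 1 Q P Q' (triv_one₂ W₁ W₂) hQ hP hQ' (Or.inl (Ne.symm h))
  rwa [hone_mul] at this

variable (χ : (↥(W₁ ⊔ W₂) →* ℂˣ) → (G → ℂ))

theorem orth_of_ne (hχ : IsCyclicTIFamily W₁ W₂ χ) {ω ω' : ↥(W₁ ⊔ W₂) →* ℂˣ} (h : ω ≠ ω') :
    classInner (χ ω) (χ ω') = 0 := by
  classical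
  rw [hχ.orthonormal, if_neg h]

theorem pow_ne_one (k : ℕ) (hk : k.Coprime (Nat.card G)) (φ : ↥(W₁ ⊔ W₂) →* ℂˣ) (hφ : φ ≠ 1) :
    φ ^ k ≠ 1 := by
  have hkW : k.Coprime (Nat.card ↥(W₁ ⊔ W₂)) :=
    hk.coprime_dvd_right (Subgroup.card_subgroup_dvd_card _)
  intro h
  apply hφ
  apply hom_pow_inj k hkW
  rw [h, hone_pow]

theorem pow_triv₂ (k : ℕ) (φ : ↥(W₁ ⊔ W₂) →* ℂˣ)
    (hφ₂ : ∀ w : ↥(W₁ ⊔ W₂), (w : G) ∈ W₂ → φ w = 1) :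
    ∀ w : ↥(W₁ ⊔ W₂), (w : G) ∈ W₂ → (φ ^ k) w = 1 := by
  intro w hw
  rw [hom_pow_apply]
  apply hφ₂
  rw [Subgroup.coe_pow]; exact W₂.pow_mem hw k

theorem pow_triv₁ (k : ℕ) (ψ : ↥(W₁ ⊔ W₂) →* ℂˣ)
    (hψ₁ : ∀ w : ↥(W₁ ⊔ W₂), (w : G) ∈ W₁ → ψ w = 1) :
    ∀ w : ↥(W₁ ⊔ W₂), (w : G) ∈ W₁ → (ψ ^ k) w = 1 := by
  intro w hw
  rw [hom_pow_apply]
  apply hψ₁
  rw [Subgroup.coe_pow]; exact W₁.pow_mem hw k

/-- (E): the induction identity transported by the power map -/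
theorem eqE (hχ : IsCyclicTIFamily W₁ W₂ χ) (k : ℕ) (hk : k.Coprime (Nat.card G))
    (φ ψ : ↥(W₁ ⊔ W₂) →* ℂˣ) (hφ : φ ≠ 1) (hψ : ψ ≠ 1)
    (hφ₂ : ∀ w : ↥(W₁ ⊔ W₂), (w : G) ∈ W₂ → φ w = 1)
    (hψ₁ : ∀ w : ↥(W₁ ⊔ W₂), (w : G) ∈ W₁ → ψ w = 1) (g : G) :
    χ φ (g ^ k) + χ ψ (g ^ k) - χ (φ * ψ) (g ^ k) =
      χ (φ ^ k) g + χ (ψ ^ k) g - χ (φ ^ k * ψ ^ k) g := by
  have h1 := congrFun (hχ.induced_eq φ ψ hφ hψ hφ₂ hψ₁) (g ^ k)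
  rw [ind_pow _ _ k hk] at h1
  have h2 := congrFun (hχ.induced_eq (φ ^ k) (ψ ^ k) (pow_ne_one W₁ W₂ k hk φ hφ)
    (pow_ne_one W₁ W₂ k hk ψ hψ) (pow_triv₂ W₁ W₂ k φ hφ₂) (pow_triv₁ W₁ W₂ k ψ hψ₁)) g
  have e : (fun w : ↥(W₁ ⊔ W₂) => (fun w : ↥(W₁ ⊔ W₂) =>
      1 - (φ w : ℂ) - (ψ w : ℂ) + (φ w : ℂ) * (ψ w : ℂ)) (w ^ k)) =
      fun w => 1 - ((φ ^ k) w : ℂ) - ((ψ ^ k) w : ℂ) + ((φ ^ k) w : ℂ) * ((ψ ^ k) w : ℂ) := by
    funext w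
    simp only [hom_pow_apply]
  rw [e, h2] at h1
  linear_combination h1

theorem eq_inner (hχ : IsCyclicTIFamily W₁ W₂ χ) (k : ℕ) (hk : k.Coprime (Nat.card G))
    (φ ψ : ↥(W₁ ⊔ W₂) →* ℂˣ) (hφ : φ ≠ 1) (hψ : ψ ≠ 1)
    (hφ₂ : ∀ w : ↥(W₁ ⊔ W₂), (w : G) ∈ W₂ → φ w = 1)
    (hψ₁ : ∀ w : ↥(W₁ ⊔ W₂), (w : G) ∈ W₁ → ψ w = 1) (ω₀ : ↥(W₁ ⊔ W₂) →* ℂˣ) :
    classInner (χ (φ ^ k)) (fun g => χ ω₀ (g ^ k)) +
        classInner (χ (ψ ^ k)) (fun g => χ ω₀ (g ^ k)) -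
        classInner (χ (φ ^ k * ψ ^ k)) (fun g => χ ω₀ (g ^ k)) =
      classInner (χ φ) (χ ω₀) + classInner (χ ψ) (χ ω₀) - classInner (χ (φ * ψ)) (χ ω₀) := by
  have hfun : χ (φ ^ k) + χ (ψ ^ k) - χ (φ ^ k * ψ ^ k) =
      (fun g => χ φ (g ^ k)) + (fun g => χ ψ (g ^ k)) - (fun g => χ (φ * ψ) (g ^ k)) := by
    funext g
    exact (eqE W₁ W₂ χ hχ k hk φ ψ hφ hψ hφ₂ hψ₁ g).symm
  rw [← classInner_add_left, ← classInner_sub_left, hfun, classInner_sub_left,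
    classInner_add_left, inner_pow k hk, inner_pow k hk, inner_pow k hk]

theorem step_phi (hχ : IsCyclicTIFamily W₁ W₂ χ) (k : ℕ) (hk : k.Coprime (Nat.card G))
    (φ ψ ψ' : ↥(W₁ ⊔ W₂) →* ℂˣ) (hφ : φ ≠ 1) (hψ : ψ ≠ 1) (hψ' : ψ' ≠ 1) (hne : ψ ≠ ψ')
    (hφ₂ : ∀ w : ↥(W₁ ⊔ W₂), (w : G) ∈ W₂ → φ w = 1)
    (hψ₁ : ∀ w : ↥(W₁ ⊔ W₂), (w : G) ∈ W₁ → ψ w = 1)
    (hψ₁' : ∀ w : ↥(W₁ ⊔ W₂), (w : G) ∈ W₁ → ψ' w = 1) :
    χ (φ ^ k) = fun g => χ φ (g ^ k) := by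
  classical
  have hkW : k.Coprime (Nat.card ↥(W₁ ⊔ W₂)) :=
    hk.coprime_dvd_right (Subgroup.card_subgroup_dvd_card _)
  have sirr : ∀ ω, SIrr G (χ ω) := hχ.irr_or_neg
  have hP := pow_ne_one W₁ W₂ k hk φ hφ
  have hQ := pow_ne_one W₁ W₂ k hk ψ hψ
  have hQ' := pow_ne_one W₁ W₂ k hk ψ' hψ'
  have hP₂ := pow_triv₂ W₁ W₂ k φ hφ₂
  have hQ₁ := pow_triv₁ W₁ W₂ k ψ hψ₁
  have hQ₁' := pow_triv₁ W₁ W₂ k ψ' hψ₁'
  have hQQ' : ψ ^ k ≠ ψ' ^ k := fun h => hne (hom_pow_inj k hkW _ _ h)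
  have rhs : ∀ ψ₀ : ↥(W₁ ⊔ W₂) →* ℂˣ, ψ₀ ≠ 1 →
      (∀ w : ↥(W₁ ⊔ W₂), (w : G) ∈ W₁ → ψ₀ w = 1) →
      classInner (χ φ) (χ φ) + classInner (χ ψ₀) (χ φ) - classInner (χ (φ * ψ₀)) (χ φ) = 1 := by
    intro ψ₀ h0 h1
    rw [hχ.orthonormal, if_pos rfl,
      orth_of_ne W₁ W₂ χ hχ (Ne.symm (ne_l_r W₁ W₂ φ ψ₀ hφ₂ h1 hφ)),
      orth_of_ne W₁ W₂ χ hχ (Ne.symm (ne_l_lr W₁ W₂ φ φ ψ₀ hφ₂ hφ₂ h1 h0))]
    ring
  have E1 := eq_inner W₁ W₂ χ hχ k hk φ ψ hφ hψ hφ₂ hψ₁ φ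
  rw [rhs ψ hψ hψ₁] at E1
  have E2 := eq_inner W₁ W₂ χ hχ k hk φ ψ' hφ hψ' hφ₂ hψ₁' φ
  rw [rhs ψ' hψ' hψ₁'] at E2
  exact pick (sirr_pow (sirr φ) k hk) (sirr _) (sirr _) (sirr _) (sirr _) (sirr _) E1 E2
    (orth_of_ne W₁ W₂ χ hχ (ne_l_r W₁ W₂ _ _ hP₂ hQ₁ hP))
    (orth_of_ne W₁ W₂ χ hχ (ne_l_lr W₁ W₂ _ _ _ hP₂ hP₂ hQ₁ hQ))
    (orth_of_ne W₁ W₂ χ hχ hQQ')
    (orth_of_ne W₁ W₂ χ hχ (ne_r_lr W₁ W₂ _ _ _ hP₂ hQ₁ hQ₁' hP))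
    (orth_of_ne W₁ W₂ χ hχ (Ne.symm (ne_r_lr W₁ W₂ _ _ _ hP₂ hQ₁' hQ₁ hP)))
    (orth_of_ne W₁ W₂ χ hχ (ne_lr_lr W₁ W₂ _ _ _ _ hP₂ hQ₁ hP₂ hQ₁' (Or.inr hQQ')))

theorem step_psi (hχ : IsCyclicTIFamily W₁ W₂ χ) (k : ℕ) (hk : k.Coprime (Nat.card G))
    (ψ φ φ' : ↥(W₁ ⊔ W₂) →* ℂˣ) (hψ : ψ ≠ 1) (hφ : φ ≠ 1) (hφ' : φ' ≠ 1) (hne : φ ≠ φ')
    (hψ₁ : ∀ w : ↥(W₁ ⊔ W₂), (w : G) ∈ W₁ → ψ w = 1)
    (hφ₂ : ∀ w : ↥(W₁ ⊔ W₂), (w : G) ∈ W₂ → φ w = 1)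
    (hφ₂' : ∀ w : ↥(W₁ ⊔ W₂), (w : G) ∈ W₂ → φ' w = 1) :
    χ (ψ ^ k) = fun g => χ ψ (g ^ k) := by
  classical
  have hkW : k.Coprime (Nat.card ↥(W₁ ⊔ W₂)) :=
    hk.coprime_dvd_right (Subgroup.card_subgroup_dvd_card _)
  have sirr : ∀ ω, SIrr G (χ ω) := hχ.irr_or_neg
  have hQ := pow_ne_one W₁ W₂ k hk ψ hψ
  have hP := pow_ne_one W₁ W₂ k hk φ hφ
  have hP' := pow_ne_one W₁ W₂ k hk φ' hφ'
  have hQ₁ := pow_triv₁ W₁ W₂ k ψ hψ₁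
  have hP₂ := pow_triv₂ W₁ W₂ k φ hφ₂
  have hP₂' := pow_triv₂ W₁ W₂ k φ' hφ₂'
  have hPP' : φ ^ k ≠ φ' ^ k := fun h => hne (hom_pow_inj k hkW _ _ h)
  have rhs : ∀ φ₀ : ↥(W₁ ⊔ W₂) →* ℂˣ, φ₀ ≠ 1 →
      (∀ w : ↥(W₁ ⊔ W₂), (w : G) ∈ W₂ → φ₀ w = 1) →
      classInner (χ ψ) (χ ψ) + classInner (χ φ₀) (χ ψ) - classInner (χ (φ₀ * ψ)) (χ ψ) = 1 := by
    intro φ₀ h0 h1
    rw [hχ.orthonormal, if_pos rfl,
      orth_of_ne W₁ W₂ χ hχ (ne_l_r W₁ W₂ φ₀ ψ h1 hψ₁ h0),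
      orth_of_ne W₁ W₂ χ hχ (Ne.symm (ne_r_lr W₁ W₂ φ₀ ψ ψ h1 hψ₁ hψ₁ h0))]
    ring
  have E1 := eq_inner W₁ W₂ χ hχ k hk φ ψ hφ hψ hφ₂ hψ₁ ψ
  have E1' : classInner (χ (ψ ^ k)) (fun g => χ ψ (g ^ k)) +
      classInner (χ (φ ^ k)) (fun g => χ ψ (g ^ k)) -
      classInner (χ (φ ^ k * ψ ^ k)) (fun g => χ ψ (g ^ k)) = 1 := by
    rw [← rhs φ hφ hφ₂]; linear_combination E1
  have E2 := eq_inner W₁ W₂ χ hχ k hk φ' ψ hφ' hψ hφ₂' hψ₁ ψ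
  have E2' : classInner (χ (ψ ^ k)) (fun g => χ ψ (g ^ k)) +
      classInner (χ (φ' ^ k)) (fun g => χ ψ (g ^ k)) -
      classInner (χ (φ' ^ k * ψ ^ k)) (fun g => χ ψ (g ^ k)) = 1 := by
    rw [← rhs φ' hφ' hφ₂']; linear_combination E2
  exact pick (sirr_pow (sirr ψ) k hk) (sirr _) (sirr _) (sirr _) (sirr _) (sirr _) E1' E2'
    (orth_of_ne W₁ W₂ χ hχ (Ne.symm (ne_l_r W₁ W₂ _ _ hP₂ hQ₁ hP)))
    (orth_of_ne W₁ W₂ χ hχ (ne_r_lr W₁ W₂ _ _ _ hP₂ hQ₁ hQ₁ hP))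
    (orth_of_ne W₁ W₂ χ hχ hPP')
    (orth_of_ne W₁ W₂ χ hχ (ne_l_lr W₁ W₂ _ _ _ hP₂ hP₂' hQ₁ hQ))
    (orth_of_ne W₁ W₂ χ hχ (Ne.symm (ne_l_lr W₁ W₂ _ _ _ hP₂' hP₂ hQ₁ hQ)))
    (orth_of_ne W₁ W₂ χ hχ (ne_lr_lr W₁ W₂ _ _ _ _ hP₂ hQ₁ hP₂' hQ₁ (Or.inl hPP')))

theorem key_B (hW : IsSelfNormalizingCyclic W₁ W₂) (hodd : Odd (Nat.card ↥(W₁ ⊔ W₂)))
    (hχ : IsCyclicTIFamily W₁ W₂ χ) (k : ℕ) (hk : k.Coprime (Nat.card G))
    (ω : ↥(W₁ ⊔ W₂) →* ℂˣ) (g : G) : χ ω (g ^ k) = χ (ω ^ k) g := by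
  obtain ⟨hdec, ⟨ψ₀, ψ₀', hψ₀, hψ₀', hne₀, hψ₀₁, hψ₀₁'⟩, ⟨φ₀, φ₀', hφ₀, hφ₀', hne₁, hφ₀₂, hφ₀₂'⟩⟩ :=
    char_struct W₁ W₂ hW hodd
  obtain ⟨φ, ψ, rfl, hφ₂, hψ₁⟩ := hdec ω
  by_cases hφ : φ = 1
  · by_cases hψ : ψ = 1
    · subst hφ; subst hψ
      rw [hone_mul, hone_pow, hχ.map_one]
    · subst hφ
      rw [hone_mul]
      have := step_psi W₁ W₂ χ hχ k hk ψ φ₀ φ₀' hψ hφ₀ hφ₀' hne₁ hψ₁ hφ₀₂ hφ₀₂'
      rw [this]
  · have A := step_phi W₁ W₂ χ hχ k hk φ ψ₀ ψ₀' hφ hψ₀ hψ₀' hne₀ hφ₂ hψ₀₁ hψ₀₁'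
    by_cases hψ : ψ = 1
    · subst hψ
      rw [hmul_one, A]
    · have B := step_psi W₁ W₂ χ hχ k hk ψ φ₀ φ₀' hψ hφ₀ hφ₀' hne₁ hψ₁ hφ₀₂ hφ₀₂'
      have E := eqE W₁ W₂ χ hχ k hk φ ψ hφ hψ hφ₂ hψ₁ g
      rw [A, B] at E
      rw [hmul_pow]
      linear_combination -E

end Main

/-- Let W₁, W₂ ≤ G form a self-normalising cyclic subgroup W = W₁ ⊔ W₂ of odd order and χ an orthonormal family of irreducible characters of G up to sign, indexed by the linear characters ω of W, with χ_1 = 1, χ_ω = ω on W outside W₁ ∪ W₂, and the induction identity for (1 − φ)(1 − ψ). Let ω be a linear character of W and g an element of G whose order is coprime to the order of ω. Then χ ω g is an integer. -/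
theorem result {G : Type*} [Group G] [Fintype G] (W₁ W₂ : Subgroup G) (hW : Cfsg.IsSelfNormalizingCyclic W₁ W₂) (hodd : Odd (Nat.card ↥(W₁ ⊔ W₂))) (χ : (↥(W₁ ⊔ W₂) →* ℂˣ) → (G → ℂ)) (hχ : Cfsg.IsCyclicTIFamily W₁ W₂ χ) (ω : ↥(W₁ ⊔ W₂) →* ℂˣ) (g : G) (hg : Nat.Coprime (orderOf g) (orderOf ω)) : ∃ n : ℤ, χ ω g = n := by
  have hfix : ∀ m : ℕ, m.Coprime (orderOf g) → χ ω (g ^ m) = χ ω g := by
    intro m hm
    have hb : ω ^ Nat.card ↥(W₁ ⊔ W₂) = 1 := by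
      apply MonoidHom.ext; intro w
      rw [hom_pow_apply, pow_card_eq_one', map_one]; rfl
    have hbW : orderOf ω ∣ Nat.card ↥(W₁ ⊔ W₂) := orderOf_dvd_of_pow_eq_one hb
    have hbG : orderOf ω ∣ Nat.card G := hbW.trans (Subgroup.card_subgroup_dvd_card _)
    have haG : orderOf g ∣ Nat.card G := orderOf_dvd_natCard g
    have hd : orderOf g * orderOf ω ∣ Nat.card G := Nat.Coprime.mul_dvd_of_dvd_of_dvd hg haG hbG
    obtain ⟨c, hc1, hc2⟩ := Nat.chineseRemainder hg m 1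
    have hcop : c.Coprime (orderOf g * orderOf ω) := by
      apply Nat.Coprime.mul_right
      · have := hc1.gcd_eq
        unfold Nat.Coprime
        rw [this]
        exact hm
      · have := hc2.gcd_eq
        unfold Nat.Coprime
        rw [this]
        exact Nat.gcd_one_left _
    obtain ⟨k, hk, hkc⟩ := exists_coprime_lift (Nat.card G) (orderOf g * orderOf ω) c
      Nat.card_pos hd hcop
    have hk1 : k ≡ m [MOD orderOf g] := (hkc.of_dvd (dvd_mul_right _ _)).trans hc1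
    have hk2 : k ≡ 1 [MOD orderOf ω] := (hkc.of_dvd (dvd_mul_left _ _)).trans hc2
    have e1 : g ^ k = g ^ m := pow_eq_pow_iff_modEq.mpr hk1
    have h5 := (pow_eq_pow_iff_modEq (x := ω) (n := k) (m := 1)).mpr hk2
    have e2 : ω ^ k = ω := h5.trans (pow_one ω)
    rw [← e1, key_B W₁ W₂ χ hW hodd hχ k hk ω g, e2]
  rcases hχ.irr_or_neg ω with h | h
  · exact int_of_pow_fixed (IsIrrCharacter.isCharacter h) g hfix
  · obtain ⟨n, hn⟩ := int_of_pow_fixed (IsIrrCharacter.isCharacter h) g (fun m hm => by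
      simp only [Pi.neg_apply]
      rw [hfix m hm])
    refine ⟨-n, ?_⟩
    simp only [Pi.neg_apply] at hn
    rw [Int.cast_neg, ← hn, neg_neg]

end Cfsg.Agent.S1508
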