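import Cfsg.Statements.S2872
-- import your own Cfsg.Agent.* helpers here
import Cfsg.Agent.Lib.Helper63.PFrattini

set_option autoImplicit false
open Cfsg

namespace Cfsg.Agent.S2872

section helpers

open scoped Classical in
theorem transfer_invol {G : Type*} [Group G] {H : Subgroup G} [H.FiniteIndex] {A : Type*}
    [CommGroup A] (ϕ : H →* A) (z : G) (hz : z * z = 1) [inst : Fintype (G ⧸ H)] :
    MonoidHom.transfer ϕ z = ∏ q ∈ Finset.univ.filter (fun q : G ⧸ H => z • q = q),
      (if h : q.out⁻¹ * z * q.out ∈ H then ϕ ⟨_, h⟩ else 1) := by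
  classical
  obtain rfl : inst = H.fintypeQuotientOfFiniteIndex := Subsingleton.elim _ _
  let _ := H.fintypeQuotientOfFiniteIndex
  let T : H.LeftTransversal :=
    ⟨Set.range Quotient.out, Subgroup.isComplement_range_left Quotient.out_eq'⟩
  have hT : ∀ q : G ⧸ H, (T.2.leftQuotientEquiv q : G) = q.out :=
    Subgroup.IsComplement.leftQuotientEquiv_apply Quotient.out_eq'
  rw [MonoidHom.transfer_def ϕ T z]
  unfold Subgroup.leftTransversals.diff
  set ϕ' : G → A := fun x => if h : x ∈ H then ϕ ⟨x, h⟩ else 1 with hϕ'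
  set a : G ⧸ H → G := fun q => q.out⁻¹ * (z * (z⁻¹ • q).out) with ha
  have e : ∀ q : G ⧸ H, (T.2.leftQuotientEquiv q : G)⁻¹ * ((z • T).2.leftQuotientEquiv q : G)
      = a q := by
    intro q
    rw [hT, Subgroup.smul_apply_eq_smul_apply_inv_smul, hT, smul_eq_mul]
  have key : ∀ q : G ⧸ H, ∀ hmem,
      ϕ ⟨(T.2.leftQuotientEquiv q : G)⁻¹ * ((z • T).2.leftQuotientEquiv q : G), hmem⟩
        = ϕ' (a q) := by
    intro q hmem
    have hmem' : a q ∈ H := e q ▸ hmem
    simp only [hϕ']
    rw [dif_pos hmem']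
    congr 1
    exact Subtype.ext (e q)
  have haH : ∀ q : G ⧸ H, a q ∈ H := by
    intro q
    rw [← e q]
    exact QuotientGroup.leftRel_apply.mp <|
      Quotient.exact' ((T.2.leftQuotientEquiv.symm_apply_apply q).trans
        ((z • T).2.leftQuotientEquiv.symm_apply_apply q).symm)
  have step1 : (∏ q : G ⧸ H, ϕ ⟨(T.2.leftQuotientEquiv q : G)⁻¹ *
      ((z • T).2.leftQuotientEquiv q : G), QuotientGroup.leftRel_apply.mp <|
      Quotient.exact' ((T.2.leftQuotientEquiv.symm_apply_apply q).trans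
        ((z • T).2.leftQuotientEquiv.symm_apply_apply q).symm)⟩) = ∏ q : G ⧸ H, ϕ' (a q) :=
    Finset.prod_congr rfl (fun q _ => key q _)
  refine step1.trans ?_
  have hzinv : z⁻¹ = z := inv_eq_of_mul_eq_one_left hz
  rw [← Finset.prod_filter_mul_prod_filter_not Finset.univ (fun q : G ⧸ H => z • q = q)]
  have h2 : ∏ q ∈ Finset.univ.filter (fun q : G ⧸ H => ¬ z • q = q), ϕ' (a q) = 1 := by
    refine Finset.prod_involution (fun q _ => z • q) ?_ ?_ ?_ ?_
    · intro q _
      simp only [hϕ']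
      rw [dif_pos (haH q), dif_pos (haH (z • q)), ← map_mul]
      have : (⟨a q, haH q⟩ : H) * ⟨a (z • q), haH (z • q)⟩ = 1 := by
        apply Subtype.ext
        simp only [Subgroup.coe_mul, Subgroup.coe_one, ha, hzinv]
        rw [← mul_smul, hz, one_smul]
        have : q.out⁻¹ * (z * (z • q).out) * ((z • q).out⁻¹ * (z * q.out)) =
            q.out⁻¹ * (z * z) * q.out := by group
        rw [this, hz]; group
      rw [this, map_one]
    · intro q hq _
      exact (Finset.mem_filter.mp hq).2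
    · intro q hq
      rw [Finset.mem_filter] at hq ⊢
      refine ⟨Finset.mem_univ _, ?_⟩
      rw [← mul_smul, hz, one_smul]
      exact fun h => hq.2 h.symm
    · intro q _
      rw [← mul_smul, hz, one_smul]
  rw [h2, mul_one]
  apply Finset.prod_congr rfl
  intro q hq
  have hq' : z • q = q := (Finset.mem_filter.mp hq).2
  have hq'' : z⁻¹ • q = q := by rw [hzinv]; exact hq'
  simp only [hϕ', ha]
  rw [hq'', mul_assoc]

end helpers

open Cfsg.Agent.Lib.Helper63.PFrattini


/-- Let S be a Sylow 2-subgroup of the finite group G. Then G has a proper normal subgroup of 2-power index (O²(G) ≠ G), or Ω₁(Z(S)) is contained in the Frattini subgroup of S, or N_G(S) acts nontrivially on Ω₁(Z(S)) by conjugation. -/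
theorem result {G : Type*} [Group G] [Finite G] (S : Sylow 2 G) : Cfsg.pResidual 2 G ≠ ⊤ ∨ Cfsg.omegaOne 2 ((S : Subgroup G) ⊓ Subgroup.centralizer ((S : Subgroup G) : Set G)) ≤ (frattini ↥(S : Subgroup G)).map (S : Subgroup G).subtype ∨ ∃ g ∈ Subgroup.normalizer ((S : Subgroup G) : Set G), ∃ z ∈ Cfsg.omegaOne 2 ((S : Subgroup G) ⊓ Subgroup.centralizer ((S : Subgroup G) : Set G)), g * z * g⁻¹ ≠ z := by
  classical
  have : Fact (Nat.Prime 2) := ⟨Nat.prime_two⟩
  by_contra hcon
  push Not at hcon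
  obtain ⟨h1, h2, h3⟩ := hcon
  obtain ⟨z, hzZ, hz2, hzΦ⟩ : ∃ z, z ∈ (S : Subgroup G) ⊓
      Subgroup.centralizer ((S : Subgroup G) : Set G) ∧ z ^ 2 = 1 ∧
      z ∉ (frattini ↥(S : Subgroup G)).map (S : Subgroup G).subtype := by
    by_contra hno
    push Not at hno
    apply h2
    unfold Cfsg.omegaOne
    rw [Subgroup.closure_le]
    rintro x ⟨hx1, hx2⟩
    exact hno x hx1 hx2
  have hzS : z ∈ (S : Subgroup G) := hzZ.1
  have hzC : ∀ s ∈ (S : Subgroup G), s * z = z * s :=
    fun s hs => Subgroup.mem_centralizer_iff.mp hzZ.2 s hs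
  have hzΩ : z ∈ Cfsg.omegaOne 2 ((S : Subgroup G) ⊓
      Subgroup.centralizer ((S : Subgroup G) : Set G)) := Subgroup.subset_closure ⟨hzZ, hz2⟩
  have hzz : z * z = 1 := by rw [← sq]; exact hz2
  have hzinv : z⁻¹ = z := inv_eq_of_mul_eq_one_left hzz
  have hzΦ' : (⟨z, hzS⟩ : (S : Subgroup G)) ∉ frattini ↥(S : Subgroup G) :=
    fun h => hzΦ ⟨_, h, rfl⟩
  rw [mem_frattini_iff] at hzΦ'
  push Not at hzΦ'
  obtain ⟨M, hM, hzM⟩ := hzΦ'
  have hS2 : IsPGroup 2 (S : Subgroup G) := S.isPGroup'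
  have hMn : M.Normal := coatom_normal hS2 M hM
  have hMidx : M.index = 2 := coatom_index hS2 M hM
  have hcard : Nat.card (↥(S : Subgroup G) ⧸ M) = 2 := hMidx
  have hcyc : IsCyclic (↥(S : Subgroup G) ⧸ M) := isCyclic_of_prime_card hcard
  let _ : CommGroup (↥(S : Subgroup G) ⧸ M) := IsCyclic.commGroup
  let ϕ : ↥(S : Subgroup G) →* (↥(S : Subgroup G) ⧸ M) := QuotientGroup.mk' M
  set t := ϕ ⟨z, hzS⟩ with ht
  have ht1 : t ≠ 1 := by
    intro h
    exact hzM ((QuotientGroup.eq_one_iff _).mp h)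
  have hA : ∀ a : ↥(S : Subgroup G) ⧸ M, a ≠ 1 → a = t := by
    intro a ha
    obtain ⟨y, -, hy⟩ := (Nat.card_eq_two_iff' (1 : ↥(S : Subgroup G) ⧸ M)).mp hcard
    rw [hy a ha, hy t ht1]
  have hAsq : ∀ a : ↥(S : Subgroup G) ⧸ M, a ^ 2 = 1 := by
    intro a
    have h := pow_card_eq_one' (G := ↥(S : Subgroup G) ⧸ M) (x := a)
    rwa [hcard] at h
  have hVz : MonoidHom.transfer ϕ z ≠ 1 := by
    let _ : Fintype (G ⧸ (S : Subgroup G)) := Fintype.ofFinite _
    rw [transfer_invol ϕ z hzz]
    set Pz : G → Prop := fun g => ∃ h : g⁻¹ * z * g ∈ (S : Subgroup G), ϕ ⟨_, h⟩ ≠ 1 with hPz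
    have P1' : ∀ g : G, ∀ s ∈ (S : Subgroup G), Pz g → Pz (g * s) := by
      rintro g s hs ⟨h, hne⟩
      have e : (g * s)⁻¹ * z * (g * s) = s⁻¹ * (g⁻¹ * z * g) * s := by group
      have hmem : (g * s)⁻¹ * z * (g * s) ∈ (S : Subgroup G) := by
        rw [e]
        exact Subgroup.mul_mem _ (Subgroup.mul_mem _ (Subgroup.inv_mem _ hs) h) hs
      refine ⟨hmem, ?_⟩
      have e2 : (⟨(g * s)⁻¹ * z * (g * s), hmem⟩ : (S : Subgroup G)) =
          (⟨s, hs⟩ : (S : Subgroup G))⁻¹ * ⟨g⁻¹ * z * g, h⟩ * ⟨s, hs⟩ := Subtype.ext e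
      rw [e2, map_mul, map_mul, map_inv, mul_comm, mul_inv_cancel_left]
      exact hne
    have P1 : ∀ g : G, ∀ s ∈ (S : Subgroup G), Pz (g * s) ↔ Pz g := by
      intro g s hs
      refine ⟨fun h => ?_, P1' g s hs⟩
      have := P1' (g * s) s⁻¹ (Subgroup.inv_mem _ hs) h
      rwa [mul_inv_cancel_right] at this
    have P2 : ∀ g : G, ∀ s ∈ (S : Subgroup G), Pz (s * g) ↔ Pz g := by
      intro g s hs
      have e : (s * g)⁻¹ * z * (s * g) = g⁻¹ * z * g := by
        have e1 : (s * g)⁻¹ * z * (s * g) = g⁻¹ * (s⁻¹ * (z * s)) * g := by group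
        rw [e1, ← hzC s hs]; group
      simp only [hPz]
      rw [e]
    have P3 : ∀ g ∈ Subgroup.normalizer ((S : Subgroup G) : Set G), Pz g := by
      intro g hg
      have e : g⁻¹ * z * g = z := by
        have := h3 g⁻¹ (Subgroup.inv_mem _ hg) z hzΩ
        rwa [inv_inv] at this
      have hmem : g⁻¹ * z * g ∈ (S : Subgroup G) := by rw [e]; exact hzS
      refine ⟨hmem, ?_⟩
      have e2 : (⟨g⁻¹ * z * g, hmem⟩ : (S : Subgroup G)) = ⟨z, hzS⟩ := Subtype.ext e
      rw [e2]
      exact ht1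
    have Pfix : ∀ q : G ⧸ (S : Subgroup G), Pz q.out → z • q = q := by
      rintro q ⟨h, -⟩
      conv_lhs => rw [← q.out_eq']
      conv_rhs => rw [← q.out_eq']
      show ((z * q.out : G) : G ⧸ (S : Subgroup G)) = ((q.out : G) : G ⧸ (S : Subgroup G))
      rw [QuotientGroup.eq]
      have e : (z * q.out)⁻¹ * q.out = (q.out⁻¹ * z * q.out)⁻¹ := by
        rw [mul_inv_rev, mul_inv_rev, mul_inv_rev, inv_inv, hzinv, mul_assoc]
      rw [e]
      exact Subgroup.inv_mem _ h
    let E : SubMulAction ↥(S : Subgroup G) (G ⧸ (S : Subgroup G)) :=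
      { carrier := {q | Pz q.out}
        smul_mem' := by
          intro s q hq
          show Pz (s • q).out
          have hsq : s • q = (((s : G) * q.out : G) : G ⧸ (S : Subgroup G)) := by
            conv_lhs => rw [← q.out_eq']
            rfl
          obtain ⟨h, hh⟩ := QuotientGroup.mk_out_eq_mul (S : Subgroup G) ((s : G) * q.out)
          rw [hsq, hh, P1 _ _ h.2, P2 _ _ s.2]
          exact hq }
    have hEmem : ∀ q : G ⧸ (S : Subgroup G), q ∈ E ↔ Pz q.out := fun q => Iff.rfl
    set Efin : Finset (G ⧸ (S : Subgroup G)) := Finset.univ.filter (fun q => Pz q.out) with hEfin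
    have hEfin' : (Finset.univ.filter (fun q : G ⧸ (S : Subgroup G) => z • q = q)).filter
        (fun q => Pz q.out) = Efin := by
      ext q
      simp only [Finset.mem_filter, Finset.mem_univ, true_and, hEfin]
      exact ⟨fun h => h.2, fun h => ⟨Pfix q h, h⟩⟩
    have hprod : (∏ q ∈ Finset.univ.filter (fun q : G ⧸ (S : Subgroup G) => z • q = q),
        (if h : q.out⁻¹ * z * q.out ∈ (S : Subgroup G) then ϕ ⟨_, h⟩ else 1)) =
        t ^ Efin.card := by
      have e1 : (∏ q ∈ Finset.univ.filter (fun q : G ⧸ (S : Subgroup G) => z • q = q),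
          (if h : q.out⁻¹ * z * q.out ∈ (S : Subgroup G) then ϕ ⟨_, h⟩ else 1)) =
          ∏ q ∈ (Finset.univ.filter (fun q : G ⧸ (S : Subgroup G) => z • q = q)).filter
            (fun q => Pz q.out),
          (if h : q.out⁻¹ * z * q.out ∈ (S : Subgroup G) then ϕ ⟨_, h⟩ else 1) := by
        symm
        apply Finset.prod_filter_of_ne
        intro q _ hne
        by_cases h : q.out⁻¹ * z * q.out ∈ (S : Subgroup G)
        · rw [dif_pos h] at hne
          exact ⟨h, hne⟩
        · rw [dif_neg h] at hne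
          exact absurd rfl hne
      rw [e1, hEfin', ← Finset.prod_const]
      apply Finset.prod_congr rfl
      intro q hq
      rw [hEfin, Finset.mem_filter] at hq
      obtain ⟨h, hne⟩ := hq.2
      rw [dif_pos h]
      exact hA _ hne
    rw [hprod]
    have hodd : Odd Efin.card := by
      have hc1 : Efin.card = Nat.card ↥E := by
        show Efin.card = Nat.card {q : G ⧸ (S : Subgroup G) // Pz q.out}
        exact (Nat.subtype_card Efin (fun q => by simp [hEfin])).symm
      have hm1 := hS2.card_modEq_card_fixedPoints ↥E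
      have hm2 := hS2.card_modEq_card_fixedPoints (G ⧸ (S : Subgroup G))
      have hbij : Nat.card (MulAction.fixedPoints ↥(S : Subgroup G) ↥E) =
          Nat.card (MulAction.fixedPoints ↥(S : Subgroup G) (G ⧸ (S : Subgroup G))) := by
        apply Nat.card_congr
        refine Equiv.ofBijective (fun x => ⟨x.1.1, fun s => ?_⟩) ⟨?_, ?_⟩
        · have := x.2 s
          exact congrArg Subtype.val this
        · intro x y hxy
          apply Subtype.ext
          apply Subtype.ext
          have h' := congrArg Subtype.val hxy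
          exact h'
        · intro y
          have hyE : y.1 ∈ E := by
            rw [hEmem]
            apply P3
            have := y.2
            rw [← y.1.out_eq'] at this
            exact Sylow.mem_fixedPoints_mul_left_cosets_iff_mem_normalizer.mp this
          refine ⟨⟨⟨y.1, hyE⟩, fun s => ?_⟩, ?_⟩
          · apply Subtype.ext
            exact y.2 s
          · apply Subtype.ext
            rfl
      have hidx : ¬ 2 ∣ Nat.card (G ⧸ (S : Subgroup G)) := S.not_dvd_index
      rw [hc1]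
      rw [← Nat.not_even_iff_odd, even_iff_two_dvd]
      intro hdvd
      apply hidx
      have hm3 : Nat.card ↥E ≡ Nat.card (G ⧸ (S : Subgroup G)) [MOD 2] := by
        rw [hbij] at hm1
        exact hm1.trans hm2.symm
      exact (Nat.ModEq.dvd_iff hm3 (dvd_refl 2)).mp hdvd
    obtain ⟨k, hk⟩ := hodd
    rw [hk, pow_succ, pow_mul, hAsq, one_pow, one_mul]
    exact ht1
  have hker : Cfsg.pResidual 2 G ≤ (MonoidHom.transfer ϕ).ker := by
    unfold Cfsg.pResidual
    rw [Subgroup.closure_le]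
    intro g hg
    rw [SetLike.mem_coe, MonoidHom.mem_ker]
    have e1 : (MonoidHom.transfer ϕ g) ^ (orderOf g) = 1 := by
      rw [← map_pow, pow_orderOf_eq_one, map_one]
    have e2 : (MonoidHom.transfer ϕ g) ^ 2 = 1 := hAsq _
    have d1 := orderOf_dvd_of_pow_eq_one e1
    have d2 := orderOf_dvd_of_pow_eq_one e2
    have e3 : orderOf (MonoidHom.transfer ϕ g) = 1 := Nat.eq_one_of_dvd_coprimes hg d1 d2
    exact orderOf_eq_one_iff.mp e3
  rw [h1] at hker
  exact hVz (MonoidHom.mem_ker.mp (hker (Subgroup.mem_top z)))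

end Cfsg.Agent.S2872
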