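import Cfsg.Statements.S1117
import Cfsg.Agent.Lib.Helper19.TwGlue
import Cfsg.Agent.Lib.Helper18.CAll
import Cfsg.Agent.Lib.Helper18.LAll
import Cfsg.Agent.Lib.Helper18.HOrderTab
import Cfsg.Agent.Lib.Helper36.ChevTabG2

set_option autoImplicit false
set_option linter.unusedSimpArgs false
open Cfsg

namespace Cfsg.Agent.S1117

open Cfsg.Lie Cfsg.Agent.Lib.Helper18 Cfsg.Agent.Lib.Helper18.BNPairC
  Cfsg.Agent.Lib.Helper18.Long Cfsg.Agent.Lib.Helper18.HOrder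
  Cfsg.Agent.Lib.Helper36 Cfsg.Agent.Lib.Helper36.ChevEngine Cfsg.Agent.Lib.Helper36.ChevSound
  Cfsg.Agent.Lib.Helper19.TwCore Cfsg.Agent.Lib.Helper19.TwEngine Cfsg.Agent.Lib.Helper19.TwGlue

/-- `x_{-a-b}(-1) x_{-3a-b}(-1)` -/
def zV : List (ℕ × ℤ) := [(4, 0), (5, 0), (3, -1), (2, 0), (1, -1), (0, 0)]

/-- `x_{a+b}(1) x_{3a+b}(1)` -/
def zU : List (ℕ × ℤ) := [(7, 0), (6, 0), (8, 1), (9, 0), (10, 1), (11, 0)]

/-- `x_a(1) x_b(1) x_{a+b}(1) x_{2a+b}(1)` -/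
def zT : List (ℕ × ℤ) := [(7, 1), (6, 1), (8, 1), (9, 1), (10, 0), (11, 0)]

set_option maxRecDepth 100000 in
theorem chk_n0 : checkRelP 3 ChevTabG2.tab chevG2.rank chevG2.nroots (symN chevG2 LAll.wdG2)
    (symC [zV, zU, zV].flatten) = true := by decide +kernel

set_option maxRecDepth 100000 in
theorem chk_ent : ∀ j < 2, entryOK 0 ChevTabG2.tab chevG2.rank chevG2.nroots (symC zT) j
    (chevG2.rank + chevG2.neg (chevG2.simple j)) (cst 1) = true := by decide +kernel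

/-- The normal core of `B¹ = G¹ ∩ B` in ²G₂(3^(2m+1)) is trivial. -/
theorem result {K : Type*} [Field K] [Fintype K] {m : ℕ} (hK : Fintype.card K = 3 ^ (2 * m + 1)) :
    ((Cfsg.Lie.chevG2.borelSubgroup K ⊓ Cfsg.Lie.twistedG2 K (3 ^ m)).subgroupOf (Cfsg.Lie.twistedG2 K (3 ^ m))).normalCore = ⊥ := by
  have h3 : ((3 : ℕ) : K) = 0 := natCast_eq_zero_of_card Nat.prime_three hK
  have he : (3 ^ m : ℕ) ≠ 0 := pow_ne_zero m (by norm_num)
  have hd := HOrderTab.hokG2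
  rw [← FTabG2.fd_eq] at hd
  have n7 : chevG2.negIdx[7]?.getD 0 = 4 := rfl
  have n6 : chevG2.negIdx[6]?.getD 0 = 5 := rfl
  have n8 : chevG2.negIdx[8]?.getD 0 = 3 := rfl
  have n9 : chevG2.negIdx[9]?.getD 0 = 2 := rfl
  have n10 : chevG2.negIdx[10]?.getD 0 = 1 := rfl
  have n11 : chevG2.negIdx[11]?.getD 0 = 0 := rfl
  show ((chevG2.borelSubgroup K ⊓ chevG2.genSubgroup K (g2Words K (3 ^ m))).subgroupOf
    (chevG2.genSubgroup K (g2Words K (3 ^ m)))).normalCore = ⊥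
  apply tw_core_of_checks CAll.cfG2 hd [LAll.wdG2] LAll.lG2 ChevTabG2.tab ChevTabG2.tok
  · intro b hb
    simp only [List.mem_singleton] at hb
    subst hb
    apply nw_mem_gen CAll.cfG2.af 3 h3 ChevTabG2.tab ChevTabG2.tok _ _ LAll.lG2.lt [zV, zU, zV] ?_
      chk_n0
    intro z hz
    simp only [List.mem_cons, List.not_mem_nil, or_false] at hz
    rcases hz with rfl | rfl | rfl
    · exact ⟨0, 1, 0, Or.inr (by
        simp [castW, zV, reeWordV, reeWordU, ChevalleyDatum.negWord, g2a, g2b, g2ab, g2aab, g2aaab,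
          g2aaabb, he, n7, n6, n8, n9, n10, n11])⟩
    · exact ⟨0, 1, 0, Or.inl (by
        simp [castW, zU, reeWordU, g2a, g2b, g2ab, g2aab, g2aaab, g2aaabb, he])⟩
    · exact ⟨0, 1, 0, Or.inr (by
        simp [castW, zV, reeWordV, reeWordU, ChevalleyDatum.negWord, g2a, g2b, g2ab, g2aab, g2aaab,
          g2aaabb, he, n7, n6, n8, n9, n10, n11])⟩
  · intro j
    refine ⟨zT, ⟨1, 0, 0, Or.inl (by
      simp [castW, zT, reeWordU, g2a, g2b, g2ab, g2aab, g2aaab, g2aaabb, he])⟩, by decide,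
      chk_ent j.val j.isLt⟩

end Cfsg.Agent.S1117
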