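import Cfsg.Statements.S1116
import Cfsg.Agent.Lib.Helper19.TwAb
import Cfsg.Agent.Lib.Helper18.CAll
import Cfsg.Agent.Lib.Helper36.ChevTabG2

set_option autoImplicit false
set_option linter.unusedSimpArgs false
set_option linter.unusedVariables false
open Cfsg

namespace Cfsg.Agent.S1116

open Cfsg.Lie Cfsg.Agent.Lib.Helper18 Cfsg.Agent.Lib.Helper18.BNPairC Cfsg.Agent.Lib.Helper18.Grade
  Cfsg.Agent.Lib.Helper18.Sub
  Cfsg.Agent.Lib.Helper36 Cfsg.Agent.Lib.Helper36.ChevEngine Cfsg.Agent.Lib.Helper36.ChevSound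
  Cfsg.Agent.Lib.Helper19.TwCore Cfsg.Agent.Lib.Helper19.TwEngine Cfsg.Agent.Lib.Helper19.TwGlue
  Cfsg.Agent.Lib.Helper19.TwPerf Cfsg.Agent.Lib.Helper19.TwAb

variable {K : Type*} [Field K]

/-! ### The six families of elements (`T`, `U`, `V` stand for the `θ`-th powers of `t`, `u`, `v`) -/

/-- `x_a(T) x_b(t) x_{a+b}(tT) x_{2a+b}(tT²)` -/
def al (t T : K) : List (ℕ × K) := [(7, T), (6, t), (8, t * T), (9, t * T ^ 2)]
/-- `x_{a+b}(U) x_{3a+b}(u)` -/
def be (u U : K) : List (ℕ × K) := [(8, U), (10, u)]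
/-- `x_{2a+b}(V) x_{3a+2b}(v)` -/
def ga (v V : K) : List (ℕ × K) := [(9, V), (11, v)]
/-- the negative counterpart of `al` -/
def alm (t T : K) : List (ℕ × K) := [(4, -T), (5, -t), (3, -(t * T)), (2, -(t * T ^ 2))]
/-- the negative counterpart of `be` -/
def bem (u U : K) : List (ℕ × K) := [(3, -U), (1, -u)]
/-- the negative counterpart of `ga` -/
def gam (v V : K) : List (ℕ × K) := [(2, -V), (0, -v)]

theorem lt_al (t T : K) : ∀ p ∈ al t T, p.1 < chevG2.nroots := by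
  intro p hp
  simp only [al, List.mem_cons, List.not_mem_nil, or_false] at hp
  rcases hp with rfl | rfl | rfl | rfl <;> (dsimp only; decide)
theorem lt_be (t T : K) : ∀ p ∈ be t T, p.1 < chevG2.nroots := by
  intro p hp
  simp only [be, List.mem_cons, List.not_mem_nil, or_false] at hp
  rcases hp with rfl | rfl <;> (dsimp only; decide)
theorem lt_ga (t T : K) : ∀ p ∈ ga t T, p.1 < chevG2.nroots := by
  intro p hp
  simp only [ga, List.mem_cons, List.not_mem_nil, or_false] at hp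
  rcases hp with rfl | rfl <;> (dsimp only; decide)
theorem lt_alm (t T : K) : ∀ p ∈ alm t T, p.1 < chevG2.nroots := by
  intro p hp
  simp only [alm, List.mem_cons, List.not_mem_nil, or_false] at hp
  rcases hp with rfl | rfl | rfl | rfl <;> (dsimp only; decide)
theorem lt_bem (t T : K) : ∀ p ∈ bem t T, p.1 < chevG2.nroots := by
  intro p hp
  simp only [bem, List.mem_cons, List.not_mem_nil, or_false] at hp
  rcases hp with rfl | rfl <;> (dsimp only; decide)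
theorem lt_gam (t T : K) : ∀ p ∈ gam t T, p.1 < chevG2.nroots := by
  intro p hp
  simp only [gam, List.mem_cons, List.not_mem_nil, or_false] at hp
  rcases hp with rfl | rfl <;> (dsimp only; decide)

/-! ### Word identities in characteristic `3` -/

def qRU_0 : Param := [⟨1, 0, 0, 0⟩]
theorem eqRU_0 (t u v : K) : evalParam t u v qRU_0 = 1 := by
  simp only [qRU_0, evalParam, monoEval]
  push_cast
  ring
def qRU_1 : Param := [⟨1, 0, 0, 0⟩]
theorem eqRU_1 (t u v : K) : evalParam t u v qRU_1 = 1 * 1 := by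
  simp only [qRU_1, evalParam, monoEval]
  push_cast
  ring
def qRU_2 : Param := [⟨1, 0, 0, 0⟩]
theorem eqRU_2 (t u v : K) : evalParam t u v qRU_2 = 1 * 1 ^ 2 := by
  simp only [qRU_2, evalParam, monoEval]
  push_cast
  ring
def qRU_3 : Param := [⟨1, 0, 1, 0⟩]
theorem eqRU_3 (t u v : K) : evalParam t u v qRU_3 = u := by
  simp only [qRU_3, evalParam, monoEval]
  push_cast
  ring
def qRU_4 : Param := [⟨1, 1, 0, 0⟩]
theorem eqRU_4 (t u v : K) : evalParam t u v qRU_4 = t := by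
  simp only [qRU_4, evalParam, monoEval]
  push_cast
  ring
def qRU_5 : Param := [⟨1, 1, 1, 0⟩]
theorem eqRU_5 (t u v : K) : evalParam t u v qRU_5 = t * u := by
  simp only [qRU_5, evalParam, monoEval]
  push_cast
  ring
def qRU_6 : Param := [⟨1, 1, 2, 0⟩]
theorem eqRU_6 (t u v : K) : evalParam t u v qRU_6 = t * u ^ 2 := by
  simp only [qRU_6, evalParam, monoEval]
  push_cast
  ring
def qRU_7 : Param := [⟨1, 0, 0, 0⟩, ⟨1, 0, 1, 0⟩]
theorem eqRU_7 (t u v : K) : evalParam t u v qRU_7 = 1 + u := by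
  simp only [qRU_7, evalParam, monoEval]
  push_cast
  ring
def qRU_8 : Param := [⟨1, 0, 0, 0⟩, ⟨1, 1, 0, 0⟩]
theorem eqRU_8 (t u v : K) : evalParam t u v qRU_8 = 1 + t := by
  simp only [qRU_8, evalParam, monoEval]
  push_cast
  ring
def qRU_9 : Param := [⟨1, 0, 0, 0⟩, ⟨1, 0, 1, 0⟩, ⟨1, 1, 0, 0⟩, ⟨1, 1, 1, 0⟩]
theorem eqRU_9 (t u v : K) : evalParam t u v qRU_9 = (1 + t) * (1 + u) := by
  simp only [qRU_9, evalParam, monoEval]
  push_cast
  ring
def qRU_10 : Param := [⟨1, 0, 0, 0⟩, ⟨2, 0, 1, 0⟩, ⟨1, 0, 2, 0⟩, ⟨1, 1, 0, 0⟩, ⟨2, 1, 1, 0⟩, ⟨1, 1, 2, 0⟩]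
theorem eqRU_10 (t u v : K) : evalParam t u v qRU_10 = (1 + t) * (1 + u) ^ 2 := by
  simp only [qRU_10, evalParam, monoEval]
  push_cast
  ring
def qRU_11 : Param := [⟨(-1), 1, 0, 0⟩]
theorem eqRU_11 (t u v : K) : evalParam t u v qRU_11 = -t := by
  simp only [qRU_11, evalParam, monoEval]
  push_cast
  ring
def qRU_12 : Param := [⟨(-1), 0, 3, 0⟩]
theorem eqRU_12 (t u v : K) : evalParam t u v qRU_12 = -u ^ 3 := by
  simp only [qRU_12, evalParam, monoEval]
  push_cast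
  ring
def qRU_13 : Param := [⟨(-1), 1, 0, 0⟩, ⟨1, 1, 1, 0⟩]
theorem eqRU_13 (t u v : K) : evalParam t u v qRU_13 = -t + t * u := by
  simp only [qRU_13, evalParam, monoEval]
  push_cast
  ring
def qRU_14 : Param := [⟨(-1), 0, 3, 0⟩, ⟨1, 1, 3, 0⟩]
theorem eqRU_14 (t u v : K) : evalParam t u v qRU_14 = -u ^ 3 + t * u ^ 3 := by
  simp only [qRU_14, evalParam, monoEval]
  push_cast
  ring
def sLRU : SWord := [(7, qRU_0), (6, qRU_0), (8, qRU_1), (9, qRU_2), (7, qRU_3), (6, qRU_4), (8, qRU_5), (9, qRU_6)]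
def sRRU : SWord := [(7, qRU_7), (6, qRU_8), (8, qRU_9), (9, qRU_10), (8, qRU_11), (10, qRU_12), (9, qRU_13), (11, qRU_14)]
set_option maxRecDepth 100000 in
theorem chkRU : checkRelP 3 ChevTabG2.tab chevG2.rank chevG2.nroots sLRU sRRU = true := by
  decide +kernel

theorem RU (hp : ((3 : ℕ) : K) = 0) (s S : K) :
    chevG2.wordMat K (al 1 1 ++ al s S) =
      chevG2.wordMat K (al (1 + s) (1 + S) ++ be (-S ^ 3) (-s) ++ ga (-S ^ 3 + s * S ^ 3) (-s + s * S)) := by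
  have h := checkRelP_sound (F := K) 3 hp chevG2 ChevTabG2.tab ChevTabG2.tok sLRU sRRU chkRU s S 0
  simp only [sLRU, sRRU, evalWord_cons, evalWord_nil, eqRU_0, eqRU_1, eqRU_2, eqRU_3, eqRU_4, eqRU_5, eqRU_6, eqRU_7, eqRU_8, eqRU_9, eqRU_10, eqRU_11, eqRU_12, eqRU_13, eqRU_14] at h
  exact h

def qRV_0 : Param := [⟨(-1), 0, 0, 0⟩]
theorem eqRV_0 (t u v : K) : evalParam t u v qRV_0 = -1 := by
  simp only [qRV_0, evalParam, monoEval]
  push_cast
  ring
def qRV_1 : Param := [⟨(-1), 0, 0, 0⟩]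
theorem eqRV_1 (t u v : K) : evalParam t u v qRV_1 = -(1 * 1) := by
  simp only [qRV_1, evalParam, monoEval]
  push_cast
  ring
def qRV_2 : Param := [⟨(-1), 0, 0, 0⟩]
theorem eqRV_2 (t u v : K) : evalParam t u v qRV_2 = -(1 * 1 ^ 2) := by
  simp only [qRV_2, evalParam, monoEval]
  push_cast
  ring
def qRV_3 : Param := [⟨(-1), 0, 1, 0⟩]
theorem eqRV_3 (t u v : K) : evalParam t u v qRV_3 = -u := by
  simp only [qRV_3, evalParam, monoEval]
  push_cast
  ring
def qRV_4 : Param := [⟨(-1), 1, 0, 0⟩]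
theorem eqRV_4 (t u v : K) : evalParam t u v qRV_4 = -t := by
  simp only [qRV_4, evalParam, monoEval]
  push_cast
  ring
def qRV_5 : Param := [⟨(-1), 1, 1, 0⟩]
theorem eqRV_5 (t u v : K) : evalParam t u v qRV_5 = -(t * u) := by
  simp only [qRV_5, evalParam, monoEval]
  push_cast
  ring
def qRV_6 : Param := [⟨(-1), 1, 2, 0⟩]
theorem eqRV_6 (t u v : K) : evalParam t u v qRV_6 = -(t * u ^ 2) := by
  simp only [qRV_6, evalParam, monoEval]
  push_cast
  ring
def qRV_7 : Param := [⟨(-1), 0, 0, 0⟩, ⟨(-1), 0, 1, 0⟩]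
theorem eqRV_7 (t u v : K) : evalParam t u v qRV_7 = -(1 + u) := by
  simp only [qRV_7, evalParam, monoEval]
  push_cast
  ring
def qRV_8 : Param := [⟨(-1), 0, 0, 0⟩, ⟨(-1), 1, 0, 0⟩]
theorem eqRV_8 (t u v : K) : evalParam t u v qRV_8 = -(1 + t) := by
  simp only [qRV_8, evalParam, monoEval]
  push_cast
  ring
def qRV_9 : Param := [⟨(-1), 0, 0, 0⟩, ⟨(-1), 0, 1, 0⟩, ⟨(-1), 1, 0, 0⟩, ⟨(-1), 1, 1, 0⟩]
theorem eqRV_9 (t u v : K) : evalParam t u v qRV_9 = -((1 + t) * (1 + u)) := by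
  simp only [qRV_9, evalParam, monoEval]
  push_cast
  ring
def qRV_10 : Param := [⟨(-1), 0, 0, 0⟩, ⟨(-2), 0, 1, 0⟩, ⟨(-1), 0, 2, 0⟩, ⟨(-1), 1, 0, 0⟩, ⟨(-2), 1, 1, 0⟩, ⟨(-1), 1, 2, 0⟩]
theorem eqRV_10 (t u v : K) : evalParam t u v qRV_10 = -((1 + t) * (1 + u) ^ 2) := by
  simp only [qRV_10, evalParam, monoEval]
  push_cast
  ring
def qRV_11 : Param := [⟨1, 1, 0, 0⟩]
theorem eqRV_11 (t u v : K) : evalParam t u v qRV_11 = -(-t) := by
  simp only [qRV_11, evalParam, monoEval]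
  push_cast
  ring
def qRV_12 : Param := [⟨1, 0, 3, 0⟩]
theorem eqRV_12 (t u v : K) : evalParam t u v qRV_12 = -(-u ^ 3) := by
  simp only [qRV_12, evalParam, monoEval]
  push_cast
  ring
def qRV_13 : Param := [⟨1, 1, 0, 0⟩, ⟨(-1), 1, 1, 0⟩]
theorem eqRV_13 (t u v : K) : evalParam t u v qRV_13 = -(-t + t * u) := by
  simp only [qRV_13, evalParam, monoEval]
  push_cast
  ring
def qRV_14 : Param := [⟨1, 0, 3, 0⟩, ⟨(-1), 1, 3, 0⟩]
theorem eqRV_14 (t u v : K) : evalParam t u v qRV_14 = -(-u ^ 3 + t * u ^ 3) := by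
  simp only [qRV_14, evalParam, monoEval]
  push_cast
  ring
def sLRV : SWord := [(4, qRV_0), (5, qRV_0), (3, qRV_1), (2, qRV_2), (4, qRV_3), (5, qRV_4), (3, qRV_5), (2, qRV_6)]
def sRRV : SWord := [(4, qRV_7), (5, qRV_8), (3, qRV_9), (2, qRV_10), (3, qRV_11), (1, qRV_12), (2, qRV_13), (0, qRV_14)]
set_option maxRecDepth 100000 in
theorem chkRV : checkRelP 3 ChevTabG2.tab chevG2.rank chevG2.nroots sLRV sRRV = true := by
  decide +kernel

theorem RV (hp : ((3 : ℕ) : K) = 0) (s S : K) :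
    chevG2.wordMat K (alm 1 1 ++ alm s S) =
      chevG2.wordMat K (alm (1 + s) (1 + S) ++ bem (-S ^ 3) (-s) ++ gam (-S ^ 3 + s * S ^ 3) (-s + s * S)) := by
  have h := checkRelP_sound (F := K) 3 hp chevG2 ChevTabG2.tab ChevTabG2.tok sLRV sRRV chkRV s S 0
  simp only [sLRV, sRRV, evalWord_cons, evalWord_nil, eqRV_0, eqRV_1, eqRV_2, eqRV_3, eqRV_4, eqRV_5, eqRV_6, eqRV_7, eqRV_8, eqRV_9, eqRV_10, eqRV_11, eqRV_12, eqRV_13, eqRV_14] at h
  exact h

def sLc8_9 : SWord := [(8, pt 1), (9, pu 1)]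
def sRc8_9 : SWord := [(9, pu 1), (8, pt 1)]
set_option maxRecDepth 100000 in
theorem chkc8_9 : checkRelP 3 ChevTabG2.tab chevG2.rank chevG2.nroots sLc8_9 sRc8_9 = true := by
  decide +kernel

theorem c8_9 (hp : ((3 : ℕ) : K) = 0) (a b : K) :
    chevG2.x K 8 a * chevG2.x K 9 b = chevG2.x K 9 b * chevG2.x K 8 a := by
  have h := checkRelP_sound (F := K) 3 hp chevG2 ChevTabG2.tab ChevTabG2.tok sLc8_9 sRc8_9 chkc8_9 a b 0
  simp only [sLc8_9, sRc8_9, evalWord_cons, evalWord_nil, evalParam_pt, evalParam_pu,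
    Int.cast_one, one_mul, Cfsg.Agent.Lib.Helper18.Sub.wordMat_cons,
    Cfsg.Agent.Lib.Helper18.Sub.wordMat_nil, mul_one] at h
  exact h

def sLc9_10 : SWord := [(9, pt 1), (10, pu 1)]
def sRc9_10 : SWord := [(10, pu 1), (9, pt 1)]
set_option maxRecDepth 100000 in
theorem chkc9_10 : checkRelP 3 ChevTabG2.tab chevG2.rank chevG2.nroots sLc9_10 sRc9_10 = true := by
  decide +kernel

theorem c9_10 (hp : ((3 : ℕ) : K) = 0) (a b : K) :
    chevG2.x K 9 a * chevG2.x K 10 b = chevG2.x K 10 b * chevG2.x K 9 a := by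
  have h := checkRelP_sound (F := K) 3 hp chevG2 ChevTabG2.tab ChevTabG2.tok sLc9_10 sRc9_10 chkc9_10 a b 0
  simp only [sLc9_10, sRc9_10, evalWord_cons, evalWord_nil, evalParam_pt, evalParam_pu,
    Int.cast_one, one_mul, Cfsg.Agent.Lib.Helper18.Sub.wordMat_cons,
    Cfsg.Agent.Lib.Helper18.Sub.wordMat_nil, mul_one] at h
  exact h

def sLc10_8 : SWord := [(10, pt 1), (8, pu 1)]
def sRc10_8 : SWord := [(8, pu 1), (10, pt 1)]
set_option maxRecDepth 100000 in
theorem chkc10_8 : checkRelP 3 ChevTabG2.tab chevG2.rank chevG2.nroots sLc10_8 sRc10_8 = true := by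
  decide +kernel

theorem c10_8 (hp : ((3 : ℕ) : K) = 0) (a b : K) :
    chevG2.x K 10 a * chevG2.x K 8 b = chevG2.x K 8 b * chevG2.x K 10 a := by
  have h := checkRelP_sound (F := K) 3 hp chevG2 ChevTabG2.tab ChevTabG2.tok sLc10_8 sRc10_8 chkc10_8 a b 0
  simp only [sLc10_8, sRc10_8, evalWord_cons, evalWord_nil, evalParam_pt, evalParam_pu,
    Int.cast_one, one_mul, Cfsg.Agent.Lib.Helper18.Sub.wordMat_cons,
    Cfsg.Agent.Lib.Helper18.Sub.wordMat_nil, mul_one] at h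
  exact h

def sLc11_9 : SWord := [(11, pt 1), (9, pu 1)]
def sRc11_9 : SWord := [(9, pu 1), (11, pt 1)]
set_option maxRecDepth 100000 in
theorem chkc11_9 : checkRelP 3 ChevTabG2.tab chevG2.rank chevG2.nroots sLc11_9 sRc11_9 = true := by
  decide +kernel

theorem c11_9 (hp : ((3 : ℕ) : K) = 0) (a b : K) :
    chevG2.x K 11 a * chevG2.x K 9 b = chevG2.x K 9 b * chevG2.x K 11 a := by
  have h := checkRelP_sound (F := K) 3 hp chevG2 ChevTabG2.tab ChevTabG2.tok sLc11_9 sRc11_9 chkc11_9 a b 0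
  simp only [sLc11_9, sRc11_9, evalWord_cons, evalWord_nil, evalParam_pt, evalParam_pu,
    Int.cast_one, one_mul, Cfsg.Agent.Lib.Helper18.Sub.wordMat_cons,
    Cfsg.Agent.Lib.Helper18.Sub.wordMat_nil, mul_one] at h
  exact h

def sLc3_2 : SWord := [(3, pt 1), (2, pu 1)]
def sRc3_2 : SWord := [(2, pu 1), (3, pt 1)]
set_option maxRecDepth 100000 in
theorem chkc3_2 : checkRelP 3 ChevTabG2.tab chevG2.rank chevG2.nroots sLc3_2 sRc3_2 = true := by
  decide +kernel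

theorem c3_2 (hp : ((3 : ℕ) : K) = 0) (a b : K) :
    chevG2.x K 3 a * chevG2.x K 2 b = chevG2.x K 2 b * chevG2.x K 3 a := by
  have h := checkRelP_sound (F := K) 3 hp chevG2 ChevTabG2.tab ChevTabG2.tok sLc3_2 sRc3_2 chkc3_2 a b 0
  simp only [sLc3_2, sRc3_2, evalWord_cons, evalWord_nil, evalParam_pt, evalParam_pu,
    Int.cast_one, one_mul, Cfsg.Agent.Lib.Helper18.Sub.wordMat_cons,
    Cfsg.Agent.Lib.Helper18.Sub.wordMat_nil, mul_one] at h
  exact h

def sLc2_1 : SWord := [(2, pt 1), (1, pu 1)]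
def sRc2_1 : SWord := [(1, pu 1), (2, pt 1)]
set_option maxRecDepth 100000 in
theorem chkc2_1 : checkRelP 3 ChevTabG2.tab chevG2.rank chevG2.nroots sLc2_1 sRc2_1 = true := by
  decide +kernel

theorem c2_1 (hp : ((3 : ℕ) : K) = 0) (a b : K) :
    chevG2.x K 2 a * chevG2.x K 1 b = chevG2.x K 1 b * chevG2.x K 2 a := by
  have h := checkRelP_sound (F := K) 3 hp chevG2 ChevTabG2.tab ChevTabG2.tok sLc2_1 sRc2_1 chkc2_1 a b 0
  simp only [sLc2_1, sRc2_1, evalWord_cons, evalWord_nil, evalParam_pt, evalParam_pu,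
    Int.cast_one, one_mul, Cfsg.Agent.Lib.Helper18.Sub.wordMat_cons,
    Cfsg.Agent.Lib.Helper18.Sub.wordMat_nil, mul_one] at h
  exact h

def sLc1_3 : SWord := [(1, pt 1), (3, pu 1)]
def sRc1_3 : SWord := [(3, pu 1), (1, pt 1)]
set_option maxRecDepth 100000 in
theorem chkc1_3 : checkRelP 3 ChevTabG2.tab chevG2.rank chevG2.nroots sLc1_3 sRc1_3 = true := by
  decide +kernel

theorem c1_3 (hp : ((3 : ℕ) : K) = 0) (a b : K) :
    chevG2.x K 1 a * chevG2.x K 3 b = chevG2.x K 3 b * chevG2.x K 1 a := by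
  have h := checkRelP_sound (F := K) 3 hp chevG2 ChevTabG2.tab ChevTabG2.tok sLc1_3 sRc1_3 chkc1_3 a b 0
  simp only [sLc1_3, sRc1_3, evalWord_cons, evalWord_nil, evalParam_pt, evalParam_pu,
    Int.cast_one, one_mul, Cfsg.Agent.Lib.Helper18.Sub.wordMat_cons,
    Cfsg.Agent.Lib.Helper18.Sub.wordMat_nil, mul_one] at h
  exact h

def sLc0_2 : SWord := [(0, pt 1), (2, pu 1)]
def sRc0_2 : SWord := [(2, pu 1), (0, pt 1)]
set_option maxRecDepth 100000 in
theorem chkc0_2 : checkRelP 3 ChevTabG2.tab chevG2.rank chevG2.nroots sLc0_2 sRc0_2 = true := by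
  decide +kernel

theorem c0_2 (hp : ((3 : ℕ) : K) = 0) (a b : K) :
    chevG2.x K 0 a * chevG2.x K 2 b = chevG2.x K 2 b * chevG2.x K 0 a := by
  have h := checkRelP_sound (F := K) 3 hp chevG2 ChevTabG2.tab ChevTabG2.tok sLc0_2 sRc0_2 chkc0_2 a b 0
  simp only [sLc0_2, sRc0_2, evalWord_cons, evalWord_nil, evalParam_pt, evalParam_pu,
    Int.cast_one, one_mul, Cfsg.Agent.Lib.Helper18.Sub.wordMat_cons,
    Cfsg.Agent.Lib.Helper18.Sub.wordMat_nil, mul_one] at h
  exact h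

def sLc10_3 : SWord := [(10, pt 1), (3, pu 1)]
def sRc10_3 : SWord := [(3, pu 1), (10, pt 1)]
set_option maxRecDepth 100000 in
theorem chkc10_3 : checkRelP 3 ChevTabG2.tab chevG2.rank chevG2.nroots sLc10_3 sRc10_3 = true := by
  decide +kernel

theorem c10_3 (hp : ((3 : ℕ) : K) = 0) (a b : K) :
    chevG2.x K 10 a * chevG2.x K 3 b = chevG2.x K 3 b * chevG2.x K 10 a := by
  have h := checkRelP_sound (F := K) 3 hp chevG2 ChevTabG2.tab ChevTabG2.tok sLc10_3 sRc10_3 chkc10_3 a b 0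
  simp only [sLc10_3, sRc10_3, evalWord_cons, evalWord_nil, evalParam_pt, evalParam_pu,
    Int.cast_one, one_mul, Cfsg.Agent.Lib.Helper18.Sub.wordMat_cons,
    Cfsg.Agent.Lib.Helper18.Sub.wordMat_nil, mul_one] at h
  exact h

def sLc1_8 : SWord := [(1, pt 1), (8, pu 1)]
def sRc1_8 : SWord := [(8, pu 1), (1, pt 1)]
set_option maxRecDepth 100000 in
theorem chkc1_8 : checkRelP 3 ChevTabG2.tab chevG2.rank chevG2.nroots sLc1_8 sRc1_8 = true := by
  decide +kernel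

theorem c1_8 (hp : ((3 : ℕ) : K) = 0) (a b : K) :
    chevG2.x K 1 a * chevG2.x K 8 b = chevG2.x K 8 b * chevG2.x K 1 a := by
  have h := checkRelP_sound (F := K) 3 hp chevG2 ChevTabG2.tab ChevTabG2.tok sLc1_8 sRc1_8 chkc1_8 a b 0
  simp only [sLc1_8, sRc1_8, evalWord_cons, evalWord_nil, evalParam_pt, evalParam_pu,
    Int.cast_one, one_mul, Cfsg.Agent.Lib.Helper18.Sub.wordMat_cons,
    Cfsg.Agent.Lib.Helper18.Sub.wordMat_nil, mul_one] at h
  exact h

/-! ### The pairings with the coroots of `a+b` and `3a+b` -/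

theorem pE8_7 : pairE FTabG2.fd 8 7 = -1 := by decide
theorem pE8_6 : pairE FTabG2.fd 8 6 = 3 := by decide
theorem pE8_8 : pairE FTabG2.fd 8 8 = 2 := by decide
theorem pE8_9 : pairE FTabG2.fd 8 9 = 1 := by decide
theorem pE8_10 : pairE FTabG2.fd 8 10 = 0 := by decide
theorem pE8_11 : pairE FTabG2.fd 8 11 = 3 := by decide
theorem pE8_4 : pairE FTabG2.fd 8 4 = 1 := by decide
theorem pE8_5 : pairE FTabG2.fd 8 5 = -3 := by decide
theorem pE8_3 : pairE FTabG2.fd 8 3 = -2 := by decide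
theorem pE8_2 : pairE FTabG2.fd 8 2 = -1 := by decide
theorem pE8_1 : pairE FTabG2.fd 8 1 = 0 := by decide
theorem pE8_0 : pairE FTabG2.fd 8 0 = -3 := by decide
theorem pE10_7 : pairE FTabG2.fd 10 7 = 1 := by decide
theorem pE10_6 : pairE FTabG2.fd 10 6 = -1 := by decide
theorem pE10_8 : pairE FTabG2.fd 10 8 = 0 := by decide
theorem pE10_9 : pairE FTabG2.fd 10 9 = 1 := by decide
theorem pE10_10 : pairE FTabG2.fd 10 10 = 2 := by decide
theorem pE10_11 : pairE FTabG2.fd 10 11 = 1 := by decide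
theorem pE10_4 : pairE FTabG2.fd 10 4 = -1 := by decide
theorem pE10_5 : pairE FTabG2.fd 10 5 = 1 := by decide
theorem pE10_3 : pairE FTabG2.fd 10 3 = 0 := by decide
theorem pE10_2 : pairE FTabG2.fd 10 2 = -1 := by decide
theorem pE10_1 : pairE FTabG2.fd 10 1 = -2 := by decide
theorem pE10_0 : pairE FTabG2.fd 10 0 = -1 := by decide

/-- ²G₂(3^(2m+1)) (m ≥ 1) equals its derived subgroup. -/
theorem result {K : Type*} [Field K] [Fintype K] {m : ℕ} (hK : Fintype.card K = 3 ^ (2 * m + 1)) (hm : 1 ≤ m) : commutator ↥(Cfsg.Lie.twistedG2 K (3 ^ m)) = ⊤ := by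
  have hF := CAll.cfG2.af
  have hadd : ∀ r < chevG2.nroots, ∀ t u : K,
      chevG2.x K r t * chevG2.x K r u = chevG2.x K r (t + u) :=
    fun r hr t u => Cfsg.Agent.S1023.result chevG2 (by simp) r hr t u
  have h3 : ((3 : ℕ) : K) = 0 := natCast_eq_zero_of_card Nat.prime_three hK
  have h3' : (3 : K) = 0 := by exact_mod_cast h3
  obtain ⟨e, he⟩ : ∃ e : ℕ, e = 3 ^ m := ⟨_, rfl⟩
  rw [← he]
  have he0 : e ≠ 0 := by
    rw [he]
    positivity
  have he3 : 3 ≤ e := by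
    rw [he]
    calc 3 = 3 ^ 1 := by norm_num
      _ ≤ 3 ^ m := Nat.pow_le_pow_right (by norm_num) hm
  have hcard : Fintype.card K = 3 * e * e := by
    rw [hK, he]
    ring
  have hodd : Odd e := by
    rw [he]
    exact Odd.pow (by decide)
  have hneg1 : (-1 : K) ^ e = -1 := hodd.neg_one_pow
  have hnegp : ∀ x : K, (-x) ^ e = -(x ^ e) := fun x => hodd.neg_pow x
  have hfrob3 : ∀ x y : K, (x + y) ^ 3 = x ^ 3 + y ^ 3 :=
    frob_add (n := 2 * m + 1) (by omega) hK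
  have hfrob : ∀ x y : K, (x + y) ^ e = x ^ e + y ^ e := by
    rw [he]
    exact frob_pow_add hfrob3 m
  have hcube : ∀ x : K, ((x ^ e) ^ e) ^ 3 = x := by
    intro x
    rw [← pow_mul, ← pow_mul]
    have e1 : e * (e * 3) = Fintype.card K := by
      rw [hcard]
      ring
    rw [e1]
    exact FiniteField.pow_card x
  have hcube' : ∀ x : K, ((x ^ e) ^ 3) ^ e = x := by
    intro x
    have e1 : ((x ^ e) ^ 3) ^ e = ((x ^ e) ^ e) ^ 3 := by ring
    rw [e1, hcube]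
  have h0e : (0 : K) ^ e = 0 := zero_pow he0
  have hr8 : (8 : ℕ) < chevG2.nroots := by decide
  have hr10 : (10 : ℕ) < chevG2.nroots := by decide
  have hr9 : (9 : ℕ) < chevG2.nroots := by decide
  have hr11 : (11 : ℕ) < chevG2.nroots := by decide
  have hr3 : (3 : ℕ) < chevG2.nroots := by decide
  have hr1 : (1 : ℕ) < chevG2.nroots := by decide
  have hr2 : (2 : ℕ) < chevG2.nroots := by decide
  have hr0 : (0 : ℕ) < chevG2.nroots := by decide
  have n7 : chevG2.negIdx[7]?.getD 0 = 4 := rfl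
  have n6 : chevG2.negIdx[6]?.getD 0 = 5 := rfl
  have n8 : chevG2.negIdx[8]?.getD 0 = 3 := rfl
  have n9 : chevG2.negIdx[9]?.getD 0 = 2 := rfl
  have n10 : chevG2.negIdx[10]?.getD 0 = 1 := rfl
  have n11 : chevG2.negIdx[11]?.getD 0 = 0 := rfl
  show commutator ↥(chevG2.genSubgroup K (g2Words K e)) = ⊤
  set S := g2Words K e with hS
  set G := chevG2.genSubgroup K S with hG
  -- words with parameters zero
  have hal0 : chevG2.wordMat K (al 0 0) = 1 := Cfsg.Agent.Lib.Helper19.TwAb.wordMat_zero hF hadd _ (by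
    intro p hp
    simp only [al, List.mem_cons, List.not_mem_nil, or_false] at hp
    rcases hp with rfl | rfl | rfl | rfl <;> exact ⟨by dsimp only; decide, by simp⟩)
  have hbe0 : chevG2.wordMat K (be 0 0) = 1 := Cfsg.Agent.Lib.Helper19.TwAb.wordMat_zero hF hadd _ (by
    intro p hp
    simp only [be, List.mem_cons, List.not_mem_nil, or_false] at hp
    rcases hp with rfl | rfl <;> exact ⟨by dsimp only; decide, by simp⟩)
  have hga0 : chevG2.wordMat K (ga 0 0) = 1 := Cfsg.Agent.Lib.Helper19.TwAb.wordMat_zero hF hadd _ (by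
    intro p hp
    simp only [ga, List.mem_cons, List.not_mem_nil, or_false] at hp
    rcases hp with rfl | rfl <;> exact ⟨by dsimp only; decide, by simp⟩)
  have halm0 : chevG2.wordMat K (alm 0 0) = 1 := Cfsg.Agent.Lib.Helper19.TwAb.wordMat_zero hF hadd _ (by
    intro p hp
    simp only [alm, List.mem_cons, List.not_mem_nil, or_false] at hp
    rcases hp with rfl | rfl | rfl | rfl <;> exact ⟨by dsimp only; decide, by simp⟩)
  have hbem0 : chevG2.wordMat K (bem 0 0) = 1 := Cfsg.Agent.Lib.Helper19.TwAb.wordMat_zero hF hadd _ (by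
    intro p hp
    simp only [bem, List.mem_cons, List.not_mem_nil, or_false] at hp
    rcases hp with rfl | rfl <;> exact ⟨by dsimp only; decide, by simp⟩)
  have hgam0 : chevG2.wordMat K (gam 0 0) = 1 := Cfsg.Agent.Lib.Helper19.TwAb.wordMat_zero hF hadd _ (by
    intro p hp
    simp only [gam, List.mem_cons, List.not_mem_nil, or_false] at hp
    rcases hp with rfl | rfl <;> exact ⟨by dsimp only; decide, by simp⟩)
  -- the generators as products of the families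
  have hwU : ∀ t u v : K, chevG2.wordMat K (reeWordU e t u v) =
      chevG2.wordMat K (al t (t ^ e) ++ be u (u ^ e) ++ ga v (v ^ e)) := by
    intro t u v
    have e1 : t ^ (e + 1) = t * t ^ e := pow_succ' t e
    have e2 : t ^ (2 * e + 1) = t * (t ^ e) ^ 2 := by rw [pow_succ', pow_mul']
    have e3 : reeWordU e t u v = [(7, t ^ e), (6, t), (8, t * t ^ e + u ^ e),
        (9, t * (t ^ e) ^ 2 + v ^ e), (10, u), (11, v)] := by
      simp only [reeWordU, g2a, g2b, g2ab, g2aab, g2aaab, g2aaabb, e1, e2]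
    rw [e3]
    exact dec6 chevG2 hadd 7 6 8 9 10 11 hr8 hr9 (c8_9 h3) (c9_10 h3) _ _ _ _ _ _ _ _
  have hwV : ∀ t u v : K, chevG2.wordMat K (reeWordV e t u v) =
      chevG2.wordMat K (alm t (t ^ e) ++ bem u (u ^ e) ++ gam v (v ^ e)) := by
    intro t u v
    have e1 : t ^ (e + 1) = t * t ^ e := pow_succ' t e
    have e2 : t ^ (2 * e + 1) = t * (t ^ e) ^ 2 := by rw [pow_succ', pow_mul']
    have e3 : reeWordV e t u v = [(4, -(t ^ e)), (5, -t), (3, -(t * t ^ e) + -(u ^ e)),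
        (2, -(t * (t ^ e) ^ 2) + -(v ^ e)), (1, -u), (0, -v)] := by
      simp only [reeWordV, reeWordU, ChevalleyDatum.negWord, g2a, g2b, g2ab, g2aab, g2aaab,
        g2aaabb, List.map_cons, List.map_nil, Array.getD_eq_getD_getElem?, n7, n6, n8, n9, n10,
        n11, e1, e2, neg_add]
    rw [e3]
    exact dec6 chevG2 hadd 4 5 3 2 1 0 hr3 hr2 (c3_2 h3) (c2_1 h3) _ _ _ _ _ _ _ _
  -- membership of the families
  have mal : ∀ t T : K, T = t ^ e → wU hF (al t T) ∈ G := by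
    intro t T hT
    subst hT
    have h1 : wU hF (reeWordU e t 0 0) ∈ G := wU_mem_gen hF S ⟨t, 0, 0, Or.inl rfl⟩
    refine mem_congr hF G ?_ h1
    rw [hwU, Sub.wordMat_append, Sub.wordMat_append, h0e, hbe0, hga0, mul_one, mul_one]
  have mbe : ∀ u U : K, U = u ^ e → wU hF (be u U) ∈ G := by
    intro u U hU
    subst hU
    have h1 : wU hF (reeWordU e 0 u 0) ∈ G := wU_mem_gen hF S ⟨0, u, 0, Or.inl rfl⟩
    refine mem_congr hF G ?_ h1
    rw [hwU, Sub.wordMat_append, Sub.wordMat_append, h0e, hal0, hga0, one_mul, mul_one]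
  have mga : ∀ v V : K, V = v ^ e → wU hF (ga v V) ∈ G := by
    intro v V hV
    subst hV
    have h1 : wU hF (reeWordU e 0 0 v) ∈ G := wU_mem_gen hF S ⟨0, 0, v, Or.inl rfl⟩
    refine mem_congr hF G ?_ h1
    rw [hwU, Sub.wordMat_append, Sub.wordMat_append, h0e, hal0, hbe0, one_mul, one_mul]
  have malm : ∀ t T : K, T = t ^ e → wU hF (alm t T) ∈ G := by
    intro t T hT
    subst hT
    have h1 : wU hF (reeWordV e t 0 0) ∈ G := wU_mem_gen hF S ⟨t, 0, 0, Or.inr rfl⟩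
    refine mem_congr hF G ?_ h1
    rw [hwV, Sub.wordMat_append, Sub.wordMat_append, h0e, hbem0, hgam0, mul_one, mul_one]
  have mbem : ∀ u U : K, U = u ^ e → wU hF (bem u U) ∈ G := by
    intro u U hU
    subst hU
    have h1 : wU hF (reeWordV e 0 u 0) ∈ G := wU_mem_gen hF S ⟨0, u, 0, Or.inr rfl⟩
    refine mem_congr hF G ?_ h1
    rw [hwV, Sub.wordMat_append, Sub.wordMat_append, h0e, halm0, hgam0, one_mul, mul_one]
  have mgam : ∀ v V : K, V = v ^ e → wU hF (gam v V) ∈ G := by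
    intro v V hV
    subst hV
    have h1 : wU hF (reeWordV e 0 0 v) ∈ G := wU_mem_gen hF S ⟨0, 0, v, Or.inr rfl⟩
    refine mem_congr hF G ?_ h1
    rw [hwV, Sub.wordMat_append, Sub.wordMat_append, h0e, halm0, hbem0, one_mul, one_mul]
  have habU : ∀ t u v : K, abv hF G (reeWordU e t u v) =
      abv hF G (al t (t ^ e)) * abv hF G (be u (u ^ e)) * abv hF G (ga v (v ^ e)) := by
    intro t u v
    rw [abv_congr hF G (hwU t u v), abv_append hF G (by
      rw [wU_append]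
      exact G.mul_mem (mal _ _ rfl) (mbe _ _ rfl)) (mga _ _ rfl),
      abv_append hF G (mal _ _ rfl) (mbe _ _ rfl)]
  have habV : ∀ t u v : K, abv hF G (reeWordV e t u v) =
      abv hF G (alm t (t ^ e)) * abv hF G (bem u (u ^ e)) * abv hF G (gam v (v ^ e)) := by
    intro t u v
    rw [abv_congr hF G (hwV t u v), abv_append hF G (by
      rw [wU_append]
      exact G.mul_mem (malm _ _ rfl) (mbem _ _ rfl)) (mgam _ _ rfl),
      abv_append hF G (malm _ _ rfl) (mbem _ _ rfl)]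
  -- the torus elements `h_{a+b}(c^θ) h_{3a+b}(c)`
  have hmat : ∀ C c : K, chevG2.wordMat K (pairN 8 10 3 1 C c ++ pairN 8 10 3 1 (-1) (-1)) =
      chevG2.hMat K 8 C * chevG2.hMat K 10 c :=
    pair_torus chevG2 8 10 3 1 rfl rfl (c10_8 h3) (c10_3 h3) (c1_8 h3) (c1_3 h3)
  have hmem : ∀ c : K, c ≠ 0 →
      wU hF (pairN 8 10 3 1 (c ^ e) c ++ pairN 8 10 3 1 (-1) (-1)) ∈ G := by
    intro c hc
    have e1 : pairN 8 10 3 1 (c ^ e) c = be c (c ^ e) ++ bem c⁻¹ (c ^ e)⁻¹ ++ be c (c ^ e) := rfl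
    have e2 : pairN 8 10 3 1 (-1 : K) (-1) =
        be (-1) (-1) ++ bem (-1 : K)⁻¹ (-1 : K)⁻¹ ++ be (-1) (-1) := rfl
    rw [e1, e2, wU_append, wU_append, wU_append, wU_append, wU_append]
    have m1 := mbe c (c ^ e) rfl
    have m2 := mbem c⁻¹ (c ^ e)⁻¹ (inv_pow c e).symm
    have m3 := mbe (-1) (-1) hneg1.symm
    have m4 := mbem (-1 : K)⁻¹ (-1 : K)⁻¹ (by rw [inv_pow, hneg1])
    exact G.mul_mem (G.mul_mem (G.mul_mem m1 m2) m1) (G.mul_mem (G.mul_mem m3 m4) m3)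
  have hact : ∀ c : K, c ≠ 0 → ∀ w : List (ℕ × K), (∀ p ∈ w, p.1 < chevG2.nroots) →
      wU hF w ∈ G → abv hF G (w.map fun p => (p.1, (c ^ e) ^ pairE FTabG2.fd 8 p.1 *
        (c ^ pairE FTabG2.fd 10 p.1 * p.2))) = abv hF G w :=
    fun c hc w hw hwm => hh_conj hF G hr8 hr10 (pow_ne_zero e hc) hc (hmat _ _) (hmem c hc) hw hwm
  -- existence of suitable scalars
  obtain ⟨c₁, hc₁, hc₁'⟩ := exists_pow_ne_one (K := K) 2 (by norm_num) (by
    rw [hcard]
    nlinarith)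
  obtain ⟨c₂, hc₂, hc₂'⟩ := exists_pow_ne_one (K := K) (3 * e + 1) (by omega) (by
    rw [hcard]
    nlinarith)
  have hc₂'' : (c₂ ^ e) ^ 3 * c₂ ≠ 1 := by
    have e1 : c₂ ^ (3 * e + 1) = (c₂ ^ e) ^ 3 * c₂ := by ring
    rwa [← e1]
  obtain ⟨μ, hμ⟩ := exists_sub_pow_ne (K := K) 5 (by norm_num) (by
    rw [hcard]
    nlinarith)
  have hμ0 : μ ≠ 0 := by
    rintro rfl
    apply hμ
    simp
  have hμ4 : μ ^ 4 ≠ 1 := by
    intro h
    apply hμ
    rw [pow_succ, h, one_mul, sub_self]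
  -- the positive families
  have hβ : ∀ u : K, abv hF G (be u (u ^ e)) = 1 := by
    apply family_add (fun u => abv hF G (be u (u ^ e))) ?_ (c₁ ^ 2) hc₁' ?_
    · intro u u'
      show abv hF G (be (u + u') ((u + u') ^ e)) =
        abv hF G (be u (u ^ e)) * abv hF G (be u' (u' ^ e))
      rw [hfrob, ← abv_append hF G (mbe _ _ rfl) (mbe _ _ rfl)]
      exact (abv_congr hF G (pair_add chevG2 hadd 8 10 hr8 hr10 (c10_8 h3) _ _ _ _)).symm
    · intro u
      show abv hF G (be (c₁ ^ 2 * u) ((c₁ ^ 2 * u) ^ e)) = abv hF G (be u (u ^ e))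
      have h := hact c₁ hc₁ (be u (u ^ e)) (lt_be _ _) (mbe _ _ rfl)
      have e1 : ((be u (u ^ e)).map fun p => (p.1, (c₁ ^ e) ^ pairE FTabG2.fd 8 p.1 *
          (c₁ ^ pairE FTabG2.fd 10 p.1 * p.2))) = be (c₁ ^ 2 * u) ((c₁ ^ 2 * u) ^ e) := by
        simp only [be, List.map_cons, List.map_nil, pE8_7, pE8_6, pE8_8, pE8_9, pE8_10, pE8_11, pE8_4, pE8_5, pE8_3, pE8_2, pE8_1, pE8_0, pE10_7, pE10_6, pE10_8, pE10_9, pE10_10, pE10_11, pE10_4, pE10_5, pE10_3, pE10_2, pE10_1, pE10_0]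
        apply list2_ext
        · simp only [zpow_neg, zpow_ofNat, zpow_one, zpow_zero]
          ring
        · simp only [zpow_neg, zpow_ofNat, zpow_one, zpow_zero]
          ring
      rw [e1] at h
      exact h
  have hβ' : ∀ u U : K, U = u ^ e → abv hF G (be u U) = 1 := by
    intro u U hU
    subst hU
    exact hβ u
  have hγ : ∀ v : K, abv hF G (ga v (v ^ e)) = 1 := by
    apply family_add (fun v => abv hF G (ga v (v ^ e))) ?_ ((c₂ ^ e) ^ 3 * c₂) hc₂'' ?_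
    · intro v v'
      show abv hF G (ga (v + v') ((v + v') ^ e)) =
        abv hF G (ga v (v ^ e)) * abv hF G (ga v' (v' ^ e))
      rw [hfrob, ← abv_append hF G (mga _ _ rfl) (mga _ _ rfl)]
      exact (abv_congr hF G (pair_add chevG2 hadd 9 11 hr9 hr11 (c11_9 h3) _ _ _ _)).symm
    · intro v
      show abv hF G (ga ((c₂ ^ e) ^ 3 * c₂ * v) (((c₂ ^ e) ^ 3 * c₂ * v) ^ e)) =
        abv hF G (ga v (v ^ e))
      have h := hact c₂ hc₂ (ga v (v ^ e)) (lt_ga _ _) (mga _ _ rfl)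
      have e0 : ((c₂ ^ e) ^ 3 * c₂ * v) ^ e = c₂ * c₂ ^ e * v ^ e := by
        have e1 : ((c₂ ^ e) ^ 3 * c₂ * v) ^ e = ((c₂ ^ e) ^ e) ^ 3 * c₂ ^ e * v ^ e := by ring
        rw [e1, hcube]
      have e1 : ((ga v (v ^ e)).map fun p => (p.1, (c₂ ^ e) ^ pairE FTabG2.fd 8 p.1 *
          (c₂ ^ pairE FTabG2.fd 10 p.1 * p.2))) =
          ga ((c₂ ^ e) ^ 3 * c₂ * v) (((c₂ ^ e) ^ 3 * c₂ * v) ^ e) := by
        rw [e0]
        simp only [ga, List.map_cons, List.map_nil, pE8_7, pE8_6, pE8_8, pE8_9, pE8_10, pE8_11, pE8_4, pE8_5, pE8_3, pE8_2, pE8_1, pE8_0, pE10_7, pE10_6, pE10_8, pE10_9, pE10_10, pE10_11, pE10_4, pE10_5, pE10_3, pE10_2, pE10_1, pE10_0]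
        apply list2_ext
        · simp only [zpow_neg, zpow_ofNat, zpow_one, zpow_zero]
          ring
        · simp only [zpow_neg, zpow_ofNat, zpow_one, zpow_zero]
          ring
      rw [e1] at h
      exact h
  have hγ' : ∀ v V : K, V = v ^ e → abv hF G (ga v V) = 1 := by
    intro v V hV
    subst hV
    exact hγ v
  have hα : ∀ t : K, abv hF G (al t (t ^ e)) = 1 := by
    apply family_sq h3' (fun t => abv hF G (al t (t ^ e))) ?_ ?_ μ hμ0 hμ4
    · intro d t hd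
      show abv hF G (al (d ^ 2 * t) ((d ^ 2 * t) ^ e)) = abv hF G (al t (t ^ e))
      have hc0 : (d ^ e) ^ 3 * d ≠ 0 := mul_ne_zero (pow_ne_zero _ (pow_ne_zero _ hd)) hd
      have hde : d ^ e ≠ 0 := pow_ne_zero _ hd
      have hC : ((d ^ e) ^ 3 * d) ^ e = d * d ^ e := by
        have e1 : ((d ^ e) ^ 3 * d) ^ e = ((d ^ e) ^ e) ^ 3 * d ^ e := by ring
        rw [e1, hcube]
      have h := hact ((d ^ e) ^ 3 * d) hc0 (al t (t ^ e)) (lt_al _ _) (mal _ _ rfl)
      have e1 : ((al t (t ^ e)).map fun p => (p.1,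
          (((d ^ e) ^ 3 * d) ^ e) ^ pairE FTabG2.fd 8 p.1 *
          (((d ^ e) ^ 3 * d) ^ pairE FTabG2.fd 10 p.1 * p.2))) =
          al (d ^ 2 * t) ((d ^ 2 * t) ^ e) := by
        rw [hC]
        simp only [al, List.map_cons, List.map_nil, pE8_7, pE8_6, pE8_8, pE8_9, pE8_10, pE8_11, pE8_4, pE8_5, pE8_3, pE8_2, pE8_1, pE8_0, pE10_7, pE10_6, pE10_8, pE10_9, pE10_10, pE10_11, pE10_4, pE10_5, pE10_3, pE10_2, pE10_1, pE10_0]
        apply list4_ext
        · simp only [zpow_neg, zpow_ofNat, zpow_one, zpow_zero]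
          field_simp
          try ring
        · simp only [zpow_neg, zpow_ofNat, zpow_one, zpow_zero]
          field_simp
          try ring
        · simp only [zpow_neg, zpow_ofNat, zpow_one, zpow_zero]
          ring
        · simp only [zpow_neg, zpow_ofNat, zpow_one, zpow_zero]
          ring
      rw [e1] at h
      exact h
    · intro s
      show abv hF G (al 1 (1 ^ e)) * abv hF G (al s (s ^ e)) =
        abv hF G (al (1 + s) ((1 + s) ^ e))
      rw [one_pow, hfrob, one_pow]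
      have hR := RU h3 s (s ^ e)
      have m1 : wU hF (al (1 : K) 1) ∈ G := mal 1 1 (one_pow e).symm
      have m2 := mal s (s ^ e) rfl
      have m3 : wU hF (al (1 + s) (1 + s ^ e)) ∈ G := mal _ _ (by rw [hfrob, one_pow])
      have x4 : -s = (-(s ^ e) ^ 3) ^ e := by rw [hnegp, hcube']
      have x5 : -s + s * s ^ e = (-(s ^ e) ^ 3 + s * (s ^ e) ^ 3) ^ e := by
        rw [hfrob, hnegp, mul_pow, hcube']
        ring
      have m4 : wU hF (be (-(s ^ e) ^ 3) (-s)) ∈ G := mbe _ _ x4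
      have m5 : wU hF (ga (-(s ^ e) ^ 3 + s * (s ^ e) ^ 3) (-s + s * s ^ e)) ∈ G := mga _ _ x5
      have h1 := abv_congr hF G hR
      rw [abv_append hF G m1 m2, abv_append hF G (by
        rw [wU_append]
        exact G.mul_mem m3 m4) m5, abv_append hF G m3 m4, hβ' _ _ x4, hγ' _ _ x5, mul_one,
        mul_one] at h1
      exact h1
  -- the negative families
  have hβm : ∀ u : K, abv hF G (bem u (u ^ e)) = 1 := by
    apply family_add (fun u => abv hF G (bem u (u ^ e))) ?_ ((c₁⁻¹) ^ 2) ?_ ?_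
    · intro u u'
      show abv hF G (bem (u + u') ((u + u') ^ e)) =
        abv hF G (bem u (u ^ e)) * abv hF G (bem u' (u' ^ e))
      rw [hfrob, ← abv_append hF G (mbem _ _ rfl) (mbem _ _ rfl)]
      have e1 : bem (u + u') (u ^ e + u' ^ e) = [(3, -(u ^ e) + -(u' ^ e)), (1, -u + -u')] := by
        simp only [bem, neg_add]
      rw [e1]
      exact (abv_congr hF G (pair_add chevG2 hadd 3 1 hr3 hr1 (c1_3 h3) _ _ _ _)).symm
    · intro h
      apply hc₁'
      have e1 : c₁ ^ 2 * (c₁⁻¹) ^ 2 = 1 := by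
        field_simp
      rw [h, mul_one] at e1
      exact e1
    · intro u
      show abv hF G (bem ((c₁⁻¹) ^ 2 * u) (((c₁⁻¹) ^ 2 * u) ^ e)) = abv hF G (bem u (u ^ e))
      have h := hact c₁ hc₁ (bem u (u ^ e)) (lt_bem _ _) (mbem _ _ rfl)
      have hce : c₁ ^ e ≠ 0 := pow_ne_zero _ hc₁
      have e1 : ((bem u (u ^ e)).map fun p => (p.1, (c₁ ^ e) ^ pairE FTabG2.fd 8 p.1 *
          (c₁ ^ pairE FTabG2.fd 10 p.1 * p.2))) =
          bem ((c₁⁻¹) ^ 2 * u) (((c₁⁻¹) ^ 2 * u) ^ e) := by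
        simp only [bem, List.map_cons, List.map_nil, pE8_7, pE8_6, pE8_8, pE8_9, pE8_10, pE8_11, pE8_4, pE8_5, pE8_3, pE8_2, pE8_1, pE8_0, pE10_7, pE10_6, pE10_8, pE10_9, pE10_10, pE10_11, pE10_4, pE10_5, pE10_3, pE10_2, pE10_1, pE10_0]
        apply list2_ext
        · simp only [zpow_neg, zpow_ofNat, zpow_one, zpow_zero, mul_pow, inv_pow]
          field_simp
          try ring
        · simp only [zpow_neg, zpow_ofNat, zpow_one, zpow_zero, mul_pow, inv_pow]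
          field_simp
      rw [e1] at h
      exact h
  have hβm' : ∀ u U : K, U = u ^ e → abv hF G (bem u U) = 1 := by
    intro u U hU
    subst hU
    exact hβm u
  have hγm : ∀ v : K, abv hF G (gam v (v ^ e)) = 1 := by
    have hκ0 : (c₂ ^ e) ^ 3 * c₂ ≠ 0 := mul_ne_zero (pow_ne_zero _ (pow_ne_zero _ hc₂)) hc₂
    apply family_add (fun v => abv hF G (gam v (v ^ e))) ?_ ((c₂ ^ e) ^ 3 * c₂)⁻¹ ?_ ?_
    · intro v v'
      show abv hF G (gam (v + v') ((v + v') ^ e)) =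
        abv hF G (gam v (v ^ e)) * abv hF G (gam v' (v' ^ e))
      rw [hfrob, ← abv_append hF G (mgam _ _ rfl) (mgam _ _ rfl)]
      have e1 : gam (v + v') (v ^ e + v' ^ e) = [(2, -(v ^ e) + -(v' ^ e)), (0, -v + -v')] := by
        simp only [gam, neg_add]
      rw [e1]
      exact (abv_congr hF G (pair_add chevG2 hadd 2 0 hr2 hr0 (c0_2 h3) _ _ _ _)).symm
    · intro h
      apply hc₂''
      rw [inv_eq_one] at h
      exact h
    · intro v
      show abv hF G (gam (((c₂ ^ e) ^ 3 * c₂)⁻¹ * v) ((((c₂ ^ e) ^ 3 * c₂)⁻¹ * v) ^ e)) =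
        abv hF G (gam v (v ^ e))
      have h := hact c₂ hc₂ (gam v (v ^ e)) (lt_gam _ _) (mgam _ _ rfl)
      have hce : c₂ ^ e ≠ 0 := pow_ne_zero _ hc₂
      have e0 : (((c₂ ^ e) ^ 3 * c₂)⁻¹ * v) ^ e = (c₂ * c₂ ^ e)⁻¹ * v ^ e := by
        have e1 : ((c₂ ^ e) ^ 3 * c₂) ^ e = ((c₂ ^ e) ^ e) ^ 3 * c₂ ^ e := by ring
        rw [mul_pow, inv_pow, e1, hcube]
      have e1 : ((gam v (v ^ e)).map fun p => (p.1, (c₂ ^ e) ^ pairE FTabG2.fd 8 p.1 *
          (c₂ ^ pairE FTabG2.fd 10 p.1 * p.2))) =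
          gam (((c₂ ^ e) ^ 3 * c₂)⁻¹ * v) ((((c₂ ^ e) ^ 3 * c₂)⁻¹ * v) ^ e) := by
        rw [e0]
        simp only [gam, List.map_cons, List.map_nil, pE8_7, pE8_6, pE8_8, pE8_9, pE8_10, pE8_11, pE8_4, pE8_5, pE8_3, pE8_2, pE8_1, pE8_0, pE10_7, pE10_6, pE10_8, pE10_9, pE10_10, pE10_11, pE10_4, pE10_5, pE10_3, pE10_2, pE10_1, pE10_0]
        apply list2_ext
        · simp only [zpow_neg, zpow_ofNat, zpow_one, zpow_zero]
          field_simp
        · simp only [zpow_neg, zpow_ofNat, zpow_one, zpow_zero]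
          field_simp
      rw [e1] at h
      exact h
  have hγm' : ∀ v V : K, V = v ^ e → abv hF G (gam v V) = 1 := by
    intro v V hV
    subst hV
    exact hγm v
  have hαm : ∀ t : K, abv hF G (alm t (t ^ e)) = 1 := by
    apply family_sq h3' (fun t => abv hF G (alm t (t ^ e))) ?_ ?_ μ hμ0 hμ4
    · intro d t hd
      show abv hF G (alm (d ^ 2 * t) ((d ^ 2 * t) ^ e)) = abv hF G (alm t (t ^ e))
      have hd' : d⁻¹ ≠ 0 := inv_ne_zero hd
      have hde : d ^ e ≠ 0 := pow_ne_zero _ hd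
      have hc0 : ((d⁻¹) ^ e) ^ 3 * d⁻¹ ≠ 0 :=
        mul_ne_zero (pow_ne_zero _ (pow_ne_zero _ hd')) hd'
      have hC : (((d⁻¹) ^ e) ^ 3 * d⁻¹) ^ e = d⁻¹ * (d⁻¹) ^ e := by
        have e1 : (((d⁻¹) ^ e) ^ 3 * d⁻¹) ^ e = (((d⁻¹) ^ e) ^ e) ^ 3 * (d⁻¹) ^ e := by ring
        rw [e1, hcube]
      have h := hact (((d⁻¹) ^ e) ^ 3 * d⁻¹) hc0 (alm t (t ^ e)) (lt_alm _ _) (malm _ _ rfl)
      have e1 : ((alm t (t ^ e)).map fun p => (p.1,
          ((((d⁻¹) ^ e) ^ 3 * d⁻¹) ^ e) ^ pairE FTabG2.fd 8 p.1 *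
          ((((d⁻¹) ^ e) ^ 3 * d⁻¹) ^ pairE FTabG2.fd 10 p.1 * p.2))) =
          alm (d ^ 2 * t) ((d ^ 2 * t) ^ e) := by
        rw [hC]
        simp only [alm, List.map_cons, List.map_nil, pE8_7, pE8_6, pE8_8, pE8_9, pE8_10, pE8_11, pE8_4, pE8_5, pE8_3, pE8_2, pE8_1, pE8_0, pE10_7, pE10_6, pE10_8, pE10_9, pE10_10, pE10_11, pE10_4, pE10_5, pE10_3, pE10_2, pE10_1, pE10_0]
        apply list4_ext
        · simp only [zpow_neg, zpow_ofNat, zpow_one, zpow_zero, mul_pow, inv_pow]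
          field_simp
          try ring
        · simp only [zpow_neg, zpow_ofNat, zpow_one, zpow_zero, mul_pow, inv_pow]
          field_simp
          try ring
        · simp only [zpow_neg, zpow_ofNat, zpow_one, zpow_zero, mul_pow, inv_pow]
          field_simp
          try ring
        · simp only [zpow_neg, zpow_ofNat, zpow_one, zpow_zero, mul_pow, inv_pow]
          field_simp
          try ring
      rw [e1] at h
      exact h
    · intro s
      show abv hF G (alm 1 (1 ^ e)) * abv hF G (alm s (s ^ e)) =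
        abv hF G (alm (1 + s) ((1 + s) ^ e))
      rw [one_pow, hfrob, one_pow]
      have hR := RV h3 s (s ^ e)
      have m1 : wU hF (alm (1 : K) 1) ∈ G := malm 1 1 (one_pow e).symm
      have m2 := malm s (s ^ e) rfl
      have m3 : wU hF (alm (1 + s) (1 + s ^ e)) ∈ G := malm _ _ (by rw [hfrob, one_pow])
      have x4 : -s = (-(s ^ e) ^ 3) ^ e := by rw [hnegp, hcube']
      have x5 : -s + s * s ^ e = (-(s ^ e) ^ 3 + s * (s ^ e) ^ 3) ^ e := by
        rw [hfrob, hnegp, mul_pow, hcube']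
        ring
      have m4 : wU hF (bem (-(s ^ e) ^ 3) (-s)) ∈ G := mbem _ _ x4
      have m5 : wU hF (gam (-(s ^ e) ^ 3 + s * (s ^ e) ^ 3) (-s + s * s ^ e)) ∈ G :=
        mgam _ _ x5
      have h1 := abv_congr hF G hR
      rw [abv_append hF G m1 m2, abv_append hF G (by
        rw [wU_append]
        exact G.mul_mem m3 m4) m5, abv_append hF G m3 m4, hβm' _ _ x4, hγm' _ _ x5, mul_one,
        mul_one] at h1
      exact h1
  apply commutator_eq_top_of_abv hF S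
  intro wd hwd
  obtain ⟨t, u, v, rfl | rfl⟩ := hwd
  · rw [habU, hα, hβ, hγ, mul_one, mul_one]
  · rw [habV, hαm, hβm, hγm, mul_one, mul_one]

end Cfsg.Agent.S1116
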