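import Cfsg.Statements.S0319
import Cfsg.Agent.Lib.Helper6.InvLen
import Cfsg.Agent.Lib.Helper6.BN
import Cfsg.Agent.Lib.Helper6.BN2
import Cfsg.Agent.Lib.Helper6.BN3
import Cfsg.Agent.Lib.Helper6.BN4

set_option autoImplicit false
open Cfsg

namespace Cfsg.Agent.S0319

open Cfsg.Agent.Lib.Helper6.InvLen Cfsg.Agent.Lib.Helper6.BN Cfsg.Agent.Lib.Helper6.BN2
  Cfsg.Agent.Lib.Helper6.BN3 Cfsg.Agent.Lib.Helper6.BN4

/-- Simplicity criterion for groups with a (B,N)-pair: if the distinguished generators admit no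
splitting into two non-empty mutually commuting parts, `B` is solvable, `G` is perfect and the intersection
of all conjugates of `B` is trivial, then `G` is simple. -/
theorem result {G : Type*} [Group G] [Nontrivial G]
    (P : Cfsg.BNPair G) (hirr : P.Irreducible) (hsolv : Group.IsSolvable P.B) (hperf : commutator G = ⊤)
    (hcore : P.B.normalCore = ⊥) : IsSimpleGroup G := by
  have hSq := hS P
  have hGen := hgen P
  refine { eq_bot_or_eq_top_of_normal := ?_ }
  intro H hHn
  by_cases hbot : H = ⊥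
  · left; exact hbot
  right
  have hM : P.B ≤ P.B ⊔ H := le_sup_left
  have hpar := subgroup_eq_parabolic P hM
  set J : Set G := {s | s ∈ P.S ∧ s ∈ P.B ⊔ H} with hJdef
  have hJS : J ⊆ P.S := fun s hs => hs.1
  -- the commutation claim
  have hcomm : ∀ s1 ∈ J, ∀ s2 ∈ P.S \ J, s1 * s2 * s1⁻¹ * s2⁻¹ ∈ P.B := by
    intro s1 hs1 s2 hs2
    have hs1S : s1 ∈ P.S := hs1.1
    have hs2S : s2 ∈ P.S := hs2.1
    have hs1N := P.subset hs1S
    have hs2N := P.subset hs2S
    have hw1 : proj P ⟨s1, hs1N⟩ ∈ SW P := ⟨⟨s1, hs1N⟩, hs1S, rfl⟩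
    have hw2 : proj P ⟨s2, hs2N⟩ ∈ SW P := ⟨⟨s2, hs2N⟩, hs2S, rfl⟩
    have hne12 : proj P ⟨s2, hs2N⟩ ≠ proj P ⟨s1, hs1N⟩ := by
      intro e
      have h4 := (proj_eq_iff P).1 e
      have h5 := P.inj s2 hs2S s1 hs1S h4
      apply hs2.2
      rw [h5]; exact hs1
    have hl1 : len (SW P) (proj P ⟨s1, hs1N⟩) = 1 := len_of_mem hSq hGen hw1 (SW_ne_one P hw1)
    have hl2 : len (SW P) (proj P ⟨s2, hs2N⟩) = 1 := len_of_mem hSq hGen hw2 (SW_ne_one P hw2)
    have hl21 : len (SW P) (proj P ⟨s2, hs2N⟩ * proj P ⟨s1, hs1N⟩) = 2 := by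
      have h1 := len_mul_ne P hw2 (w := proj P ⟨s1, hs1N⟩)
      have h2 := len_mul_le hSq hGen hw2 (proj P ⟨s1, hs1N⟩)
      have h3 : len (SW P) (proj P ⟨s2, hs2N⟩ * proj P ⟨s1, hs1N⟩) ≠ 0 := by
        intro h0
        have := eq_one_of_len_eq_zero hSq hGen h0
        apply hne12
        rw [← SW_inv P hw1]
        exact eq_inv_of_mul_eq_one_left this
      omega
    have hl12 : len (SW P) (proj P ⟨s1, hs1N⟩ * proj P ⟨s2, hs2N⟩) = 2 := by
      have h1 := len_mul_ne P hw1 (w := proj P ⟨s2, hs2N⟩)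
      have h2 := len_mul_le hSq hGen hw1 (proj P ⟨s2, hs2N⟩)
      have h3 : len (SW P) (proj P ⟨s1, hs1N⟩ * proj P ⟨s2, hs2N⟩) ≠ 0 := by
        intro h0
        have := eq_one_of_len_eq_zero hSq hGen h0
        apply hne12
        rw [← SW_inv P hw1]
        exact eq_inv_of_mul_eq_one_right this
      omega
    -- an element of H in C(w1)
    have hs1M : s1 ∈ ((P.B ⊔ H : Subgroup G) : Set G) := hs1.2
    rw [Subgroup.mul_normal P.B H, Set.mem_mul] at hs1M
    obtain ⟨b, hb, h, hh, hbh⟩ := hs1M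
    have hhC : h ∈ C P (proj P ⟨s1, hs1N⟩) := by
      have e : h = b⁻¹ * s1 := by rw [← hbh]; group
      rw [e]
      exact C_mul_left P (P.B.inv_mem hb) (mem_C_self P ⟨s1, hs1N⟩)
    have hs2C : s2 ∈ C P (proj P ⟨s2, hs2N⟩) := mem_C_self P ⟨s2, hs2N⟩
    have hs2C' : s2⁻¹ ∈ C P (proj P ⟨s2, hs2N⟩) := by
      have := C_inv P hs2C
      rwa [SW_inv P hw2] at this
    have h1 : s2 * h ∈ C P (proj P ⟨s2, hs2N⟩ * proj P ⟨s1, hs1N⟩) :=
      C_mul_of_len_le P hw2 (by omega) hs2C hhC
    have hconjH : s2 * h * s2⁻¹ ∈ P.B ⊔ H :=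
      (le_sup_right : H ≤ P.B ⊔ H) (hHn.conj_mem h hh s2)
    have hs2notM : ¬ (∀ x ∈ C P (proj P ⟨s2, hs2N⟩), x ∈ P.B ⊔ H) := by
      intro hall
      exact hs2.2 ⟨hs2S, hall s2 hs2C⟩
    have hcommW : proj P ⟨s2, hs2N⟩ * proj P ⟨s1, hs1N⟩ =
        proj P ⟨s1, hs1N⟩ * proj P ⟨s2, hs2N⟩ := by
      rcases C_mul_SW_right P hw2 h1 hs2C' with h2 | h2
      · by_cases h3 : len (SW P) (proj P ⟨s2, hs2N⟩ * proj P ⟨s1, hs1N⟩ * proj P ⟨s2, hs2N⟩) = 3
        · exfalso
          apply hs2notM
          have := letters_mem P hM [proj P ⟨s2, hs2N⟩, proj P ⟨s1, hs1N⟩, proj P ⟨s2, hs2N⟩]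
            (by
              intro a ha
              simp only [List.mem_cons, List.not_mem_nil, or_false] at ha
              rcases ha with rfl | rfl | rfl
              · exact hw2
              · exact hw1
              · exact hw2)
            (by simpa [mul_assoc] using h3) (s2 * h * s2⁻¹) (by simpa [mul_assoc] using h2) hconjH
          exact this _ (by simp)
        · have h4 := len_mul_ne P hw2 (w := proj P ⟨s1, hs1N⟩ * proj P ⟨s2, hs2N⟩)
          have h5 := len_mul_le hSq hGen hw2 (proj P ⟨s1, hs1N⟩ * proj P ⟨s2, hs2N⟩)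
          rw [mul_assoc] at h3
          have h6 : len (SW P) (proj P ⟨s2, hs2N⟩ *
              [proj P ⟨s1, hs1N⟩, proj P ⟨s2, hs2N⟩].prod) <
              len (SW P) [proj P ⟨s1, hs1N⟩, proj P ⟨s2, hs2N⟩].prod := by
            simp only [List.prod_cons, List.prod_nil, mul_one]
            omega
          obtain ⟨l1, a, l2, e, hex⟩ := exchange P (l := [proj P ⟨s1, hs1N⟩, proj P ⟨s2, hs2N⟩])
            (by
              intro a ha
              simp only [List.mem_cons, List.not_mem_nil, or_false] at ha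
              rcases ha with rfl | rfl
              · exact hw1
              · exact hw2) hw2 h6
          match l1, e, hex with
          | [], e, hex =>
            simp only [List.nil_append, List.cons.injEq] at e
            simp only [List.prod_nil, mul_one, one_mul] at hex
            exfalso
            apply hne12
            rw [hex, ← e.1]
          | [x], e, hex =>
            simp only [List.cons_append, List.nil_append, List.cons.injEq] at e
            simp only [List.prod_cons, List.prod_nil, mul_one] at hex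
            rw [← e.1, ← e.2.1] at hex
            exact hex
          | x :: y :: l1', e, hex =>
            exfalso
            have := congrArg List.length e
            simp at this
      · exfalso
        apply hs2notM
        have := letters_mem P hM [proj P ⟨s2, hs2N⟩, proj P ⟨s1, hs1N⟩]
          (by
            intro a ha
            simp only [List.mem_cons, List.not_mem_nil, or_false] at ha
            rcases ha with rfl | rfl
            · exact hw2
            · exact hw1)
          (by simpa using hl21) (s2 * h * s2⁻¹) (by simpa using h2) hconjH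
        exact this _ (by simp)
    have hN : s1 * s2 * s1⁻¹ * s2⁻¹ ∈ P.N :=
      P.N.mul_mem (P.N.mul_mem (P.N.mul_mem hs1N hs2N) (P.N.inv_mem hs1N)) (P.N.inv_mem hs2N)
    have e : (⟨s1 * s2 * s1⁻¹ * s2⁻¹, hN⟩ : P.N) =
        ⟨s1, hs1N⟩ * ⟨s2, hs2N⟩ * (⟨s1, hs1N⟩ : P.N)⁻¹ * (⟨s2, hs2N⟩ : P.N)⁻¹ := rfl
    have h7 : proj P ⟨s1 * s2 * s1⁻¹ * s2⁻¹, hN⟩ = 1 := by
      rw [e, map_mul, map_mul, map_mul, map_inv, map_inv, SW_inv P hw1, SW_inv P hw2, ← hcommW,
        mul_assoc (proj P ⟨s2, hs2N⟩), SW_sq P hw1, mul_one, SW_sq P hw2]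
    exact (proj_eq_one_iff P).1 h7
  -- use irreducibility
  have hcases : J = ∅ ∨ P.S \ J = ∅ := by
    by_contra hcon
    rw [not_or] at hcon
    have h1 : J.Nonempty := Set.nonempty_iff_ne_empty.2 hcon.1
    have h2 : (P.S \ J).Nonempty := Set.nonempty_iff_ne_empty.2 hcon.2
    obtain ⟨s, hs, s', hs', hnot⟩ := hirr J hJS h1 h2
    exact hnot (hcomm s hs s' hs')
  rcases hcases with hJ | hJ
  · exfalso
    apply hbot
    rw [hJ] at hpar
    have h1 : P.B ⊔ H = P.B := by
      rw [hpar]; unfold Cfsg.BNPair.parabolic; simp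
    have h2 : H ≤ P.B := by
      rw [← h1]; exact le_sup_right
    have h3 : H ≤ P.B.normalCore := (Subgroup.normal_le_normalCore).2 h2
    rw [hcore] at h3
    exact le_bot_iff.1 h3
  · have hSJ : P.S ⊆ J := by
      intro s hs
      by_contra hsJ
      have : s ∈ P.S \ J := ⟨hs, hsJ⟩
      rw [hJ] at this
      exact this
    have hSM : Subgroup.closure P.S ≤ P.B ⊔ H := by
      rw [Subgroup.closure_le]
      intro s hs
      exact (hSJ hs).2
    have hNM : P.N ≤ P.B ⊔ H := by
      rw [← P.closure_sup]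
      exact sup_le hSM (inf_le_left.trans hM)
    have htop : P.B ⊔ H = ⊤ := by
      rw [eq_top_iff, ← P.sup_eq_top]
      exact sup_le hM hNM
    -- G ⧸ H is solvable and perfect
    have hsurj : Function.Surjective ((QuotientGroup.mk' H).comp P.B.subtype) := by
      intro q
      obtain ⟨g, rfl⟩ := QuotientGroup.mk'_surjective H q
      have hg : g ∈ ((P.B ⊔ H : Subgroup G) : Set G) := by rw [htop]; trivial
      rw [Subgroup.mul_normal P.B H, Set.mem_mul] at hg
      obtain ⟨b, hb, h, hh, rfl⟩ := hg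
      refine ⟨⟨b, hb⟩, ?_⟩
      simp only [MonoidHom.coe_comp, Function.comp_apply, Subgroup.coe_subtype,
        QuotientGroup.mk'_apply]
      rw [QuotientGroup.eq]
      simpa using hh
    have hsolv' : Group.IsSolvable (G ⧸ H) := Group.isSolvable_of_surjective hsurj
    have hperf' : commutator (G ⧸ H) = ⊤ := by
      have h1 : Function.Surjective (QuotientGroup.mk' H) := QuotientGroup.mk'_surjective H
      rw [commutator_def] at hperf ⊢
      have h2 := Subgroup.map_commutator (⊤ : Subgroup G) ⊤ (QuotientGroup.mk' H)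
      rw [hperf, Subgroup.map_top_of_surjective _ h1] at h2
      exact h2.symm
    have hsub : Subsingleton (G ⧸ H) := by
      by_contra hns
      rw [not_subsingleton_iff_nontrivial] at hns
      have := Group.IsSolvable.commutator_lt_top_of_nontrivial (G ⧸ H)
      rw [hperf'] at this
      exact lt_irrefl _ this
    exact QuotientGroup.subgroup_eq_top_of_subsingleton H hsub

end Cfsg.Agent.S0319
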