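-- Statement S1050: B = UH is solvable.
import Cfsg.Statements.S1050
import Cfsg.Agent.Lib.Helper18.PAll
import Cfsg.Agent.Lib.Helper18.Solv

set_option autoImplicit false
open Cfsg

namespace Cfsg.Agent.S1050

theorem result {F : Type*} [Field F] (D : Cfsg.Lie.ChevalleyDatum) (hD : D ∈ [Cfsg.Lie.chevG2, Cfsg.Lie.chevB2, Cfsg.Lie.chevD4, Cfsg.Lie.chevF4, Cfsg.Lie.chevE6, Cfsg.Lie.chevE7, Cfsg.Lie.chevE8]) : Group.IsSolvable ↥(D.borelSubgroup F) := by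
  obtain ⟨A, w, hF, hw⟩ := Cfsg.Agent.Lib.Helper18.PAll.exists_pfacts D hD
  exact Cfsg.Agent.Lib.Helper18.Solv.isSolvable_of_le_tri _ _
    (Cfsg.Agent.Lib.Helper18.Pos.borelSubgroup_le_tri hF hw)

end Cfsg.Agent.S1050
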