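import Cfsg.Statements.S1156
import Cfsg.Agent.S1069
import Cfsg.Agent.S1073
import Cfsg.Agent.S1114
import Cfsg.Agent.S1150
import Cfsg.Agent.Lib.Helper18.Ree24
import Cfsg.Agent.Lib.Helper18.ReeG
import Cfsg.Agent.Lib.Helper36.ReeCyc

set_option autoImplicit false
open Cfsg

namespace Cfsg.Agent.S1156

/-- In the small Ree group ²G₂(q), q = 3^(2m+1) with m ≥ 1, realised as G¹ inside the Chevalley group G₂ over the field with q elements (θ the 3^m-th power map): for every prime `p > 3` the Sylow `p`-subgroups of `G¹` are cyclic. -/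
theorem result {K : Type*} [Field K] [Fintype K] {m : ℕ} (hm : 1 ≤ m) (hK : Fintype.card K = 3 ^ (2 * m + 1))
    {p : ℕ} [Fact p.Prime] (hp : 3 < p) (P : Sylow p ↥(Cfsg.Lie.twistedG2 K (3 ^ m))) : IsCyclic (P : Subgroup ↥(Cfsg.Lie.twistedG2 K (3 ^ m))) := by
  haveI := Cfsg.Agent.Lib.Helper18.Ree4.charP3 hK
  obtain ⟨φ, hφ, h3⟩ := Cfsg.Agent.Lib.Helper18.Ree4.exists_theta hK
  obtain ⟨Sg⟩ := Cfsg.Agent.Lib.Helper18.Ree13.exists_sig φ
    (Cfsg.Agent.Lib.Helper18.ReeG.graph_of_card hK)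
  exact Cfsg.Agent.Lib.Helper36.ReeCyc.main hK (Cfsg.Agent.S1069.result hK)
    (Cfsg.Agent.S1073.result hm hK).1 (Cfsg.Agent.S1114.result hK) (Cfsg.Agent.S1150.result hK)
    (fun a h1 h2 h3' =>
      Cfsg.Agent.Lib.Helper18.Ree24.centralizer_iso hφ h3 hK rfl Sg a h1 h2 h3') hp P

end Cfsg.Agent.S1156
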