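import Cfsg.Statements.S4003
import Cfsg.Agent.Lib.Helper54.CyclicNormal
import Cfsg.Agent.Lib.Helper54.UniqueSubgroup
import Cfsg.Agent.Lib.Helper24.PGroupBasic
import Cfsg.Agent.Lib.Helper63.PFrattini
import Cfsg.Agent.Lib.Helper67.PGroupSmall

set_option autoImplicit false
open Cfsg

namespace Cfsg.Agent.S4003

/-- Number of generators of a finite cyclic subgroup. -/
theorem card_gen {G : Type*} [Group G] [Finite G] (K : Subgroup G) (hK : IsCyclic K) :
    Nat.card {x : G // Subgroup.zpowers x = K} = Nat.totient (Nat.card K) := by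
  classical
  letI : Fintype K := Fintype.ofFinite K
  have h1 := IsCyclic.card_orderOf_eq_totient (α := K) (d := Nat.card K)
    (by rw [Nat.card_eq_fintype_card])
  rw [← h1, ← Fintype.card_subtype, ← Nat.card_eq_fintype_card]
  have hmem : ∀ x : {x : G // Subgroup.zpowers x = K}, x.1 ∈ K := fun x => by
    have h := Subgroup.mem_zpowers x.1
    rw [x.2] at h
    exact h
  refine Nat.card_congr
    { toFun := fun x => ⟨⟨x.1, hmem x⟩, ?_⟩
      invFun := fun a => ⟨(a.1 : G), ?_⟩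
      left_inv := fun x => rfl
      right_inv := fun a => rfl }
  · rw [Subgroup.orderOf_mk, ← Nat.card_zpowers, x.2]
  · apply Subgroup.eq_of_le_of_card_ge
    · exact (Subgroup.zpowers_le).2 a.1.2
    · rw [Nat.card_zpowers, Subgroup.orderOf_coe, a.2]

/-- A set closed under "same cyclic subgroup" has cardinality divisible by any common divisor
of the totients of the element orders. -/
theorem dvd_card_of_closed {Q : Type*} [Group Q] [Finite Q] (S : Set Q)
    (hS : ∀ x ∈ S, ∀ y : Q, Subgroup.zpowers y = Subgroup.zpowers x → y ∈ S) (c : ℕ)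
    (hc : ∀ x ∈ S, c ∣ Nat.totient (orderOf x)) : c ∣ Nat.card S := by
  classical
  letI : Fintype (Subgroup Q) := Fintype.ofFinite _
  let f : S → Subgroup Q := fun x => Subgroup.zpowers x.1
  have h1 : Nat.card S = ∑ K : Subgroup Q, Nat.card {x : S // f x = K} := by
    rw [← Nat.card_sigma]
    exact Nat.card_congr (Equiv.sigmaFiberEquiv f).symm
  rw [h1]
  apply Finset.dvd_sum
  intro K _
  by_cases hne : Nonempty {x : S // f x = K}
  · obtain ⟨⟨x0, hx0⟩⟩ := hne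
    have h2 : Nat.card {x : S // f x = K} = Nat.card {y : Q // Subgroup.zpowers y = K} := by
      refine Nat.card_congr
        { toFun := fun x => ⟨x.1.1, x.2⟩
          invFun := fun y => ⟨⟨y.1, hS x0.1 x0.2 y.1 (by rw [y.2]; exact hx0.symm)⟩, y.2⟩
          left_inv := fun x => rfl
          right_inv := fun y => rfl }
    rw [h2, card_gen K (by rw [← hx0]; infer_instance), ← hx0]
    show c ∣ Nat.totient (Nat.card (Subgroup.zpowers x0.1))
    rw [Nat.card_zpowers]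
    exact hc x0.1 x0.2
  · rw [not_nonempty_iff] at hne
    rw [Nat.card_of_isEmpty]
    exact dvd_zero c

/-- A noncyclic `p`-group, `p` odd, has a normal subgroup of order `p ^ 2` and exponent `p`. -/
theorem exists_normal_pp {P : Type*} [Group P] [Finite P] {p : ℕ} [Fact p.Prime] (hp2 : p ≠ 2)
    (hG : IsPGroup p P) (hnc : ¬ IsCyclic P) :
    ∃ E : Subgroup P, E.Normal ∧ Nat.card E = p ^ 2 ∧ ∀ e ∈ E, e ^ p = 1 := by
  have hpr : p.Prime := Fact.out
  obtain ⟨A, hAn, hAc, hAnc⟩ : ∃ A : Subgroup P, A.Normal ∧ IsMulCommutative A ∧ ¬ IsCyclic A := by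
    by_contra hcon
    push Not at hcon
    rcases Cfsg.Agent.Lib.Helper54.CyclicNormal.cyclic_or_two hG hcon with h | ⟨h2, -⟩
    · exact hnc h
    · exact hp2 h2
  have hAcomm : ∀ a ∈ A, ∀ b ∈ A, a * b = b * a := by
    intro a ha b hb
    have := mul_comm' (⟨a, ha⟩ : A) ⟨b, hb⟩
    exact congrArg Subtype.val this
  let Ω : Subgroup P :=
    { carrier := {a | a ∈ A ∧ a ^ p = 1}
      mul_mem' := by
        rintro a b ⟨ha, ha'⟩ ⟨hb, hb'⟩
        refine ⟨A.mul_mem ha hb, ?_⟩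
        rw [(show Commute a b from hAcomm a ha b hb).mul_pow, ha', hb', mul_one]
      one_mem' := ⟨A.one_mem, one_pow _⟩
      inv_mem' := by
        rintro a ⟨ha, ha'⟩
        exact ⟨A.inv_mem ha, by rw [inv_pow, ha', inv_one]⟩ }
  have hΩmem : ∀ a : P, a ∈ Ω ↔ a ∈ A ∧ a ^ p = 1 := fun _ => Iff.rfl
  have hΩn : Ω.Normal := ⟨fun a ha g => ⟨hAn.conj_mem a ha.1 g, by rw [conj_pow, ha.2]; simp⟩⟩
  have hUI : ¬ Cfsg.Agent.Lib.Helper54.UniqueSubgroup.UI p A := fun h =>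
    hAnc (Cfsg.Agent.Lib.Helper54.UniqueSubgroup.isCyclic_of_comm (hG.to_subgroup A) h
      (fun x y => mul_comm' x y))
  unfold Cfsg.Agent.Lib.Helper54.UniqueSubgroup.UI at hUI
  push Not at hUI
  obtain ⟨g, h, hg, hh, hg1, hhg⟩ := hUI
  have hgΩ : (g : P) ∈ Ω := ⟨g.2, by exact_mod_cast congrArg Subtype.val hg⟩
  have hhΩ : (h : P) ∈ Ω := ⟨h.2, by exact_mod_cast congrArg Subtype.val hh⟩
  have hg1' : (g : P) ≠ 1 := fun h0 => hg1 (Subtype.ext h0)
  have hΩcard : p ^ 2 ≤ Nat.card Ω := by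
    obtain ⟨n, hn⟩ := IsPGroup.iff_card.1 (hG.to_subgroup Ω)
    have hcz : Nat.card (Subgroup.zpowers (g : P)) = p := by
      rw [Nat.card_zpowers]; exact orderOf_eq_prime hgΩ.2 hg1'
    have hzle : Subgroup.zpowers (g : P) ≤ Ω := (Subgroup.zpowers_le).2 hgΩ
    have hn2 : 2 ≤ n := by
      by_contra hcon
      have hn1 : n ≤ 1 := by omega
      have hle' : Nat.card Ω ≤ p := by
        rw [hn]; calc p ^ n ≤ p ^ 1 := Nat.pow_le_pow_right hpr.pos hn1
          _ = p := pow_one p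
      have h1 : Subgroup.zpowers (g : P) = Ω :=
        Subgroup.eq_of_le_of_card_ge hzle (by rw [hcz]; exact hle')
      have h2 : (h : P) ∈ Subgroup.zpowers (g : P) := h1 ▸ hhΩ
      obtain ⟨i, hi⟩ := Subgroup.mem_zpowers_iff.1 h2
      exact hhg (Subgroup.mem_zpowers_iff.2 ⟨i, Subtype.ext (by simpa using hi)⟩)
    rw [hn]; exact Nat.pow_le_pow_right hpr.pos hn2
  obtain ⟨E, hEn, hEΩ, hE2⟩ := Cfsg.Agent.Lib.Helper24.PGroupBasic.exists_normal_le_card hG Ω
    (fun a ha => ha.2) 2 hΩcard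
  exact ⟨E, hEn, hE2, fun e he => (hEΩ he).2⟩

/-- `p` odd: multiplying by an element of a normal subgroup of order `p ^ 2` and exponent `p`
does not change the `p`-th power. -/
theorem mul_pow_p {P : Type*} [Group P] [Finite P] {p : ℕ} [Fact p.Prime] (hp2 : p ≠ 2)
    (hG : IsPGroup p P) (E : Subgroup P) [hEn : E.Normal] (hE : Nat.card E = p ^ 2)
    (hexp : ∀ e ∈ E, e ^ p = 1) (x e : P) (he : e ∈ E) : (x * e) ^ p = x ^ p := by
  have hpr : p.Prime := Fact.out
  obtain ⟨Z0, hZn, hZE, hZc⟩ := Cfsg.Agent.Lib.Helper24.PGroupBasic.exists_normal_le_card hG E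
    hexp 1 (by rw [hE]; exact Nat.pow_le_pow_right hpr.pos (by norm_num))
  rw [pow_one] at hZc
  have hZcen : Z0 ≤ Subgroup.center P :=
    Cfsg.Agent.Lib.Helper63.PFrattini.normal_card_prime_le_center hG Z0 hZc
  have hcomap : (E.map (QuotientGroup.mk' Z0)).comap (QuotientGroup.mk' Z0) = E := by
    rw [Subgroup.comap_map_eq_self]
    rw [QuotientGroup.ker_mk']
    exact hZE
  have hEbar : Nat.card (E.map (QuotientGroup.mk' Z0)) = p := by
    have h1 := Cfsg.Agent.Lib.Helper67.PGroupSmall.card_comap_mk' Z0 (E.map (QuotientGroup.mk' Z0))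
    rw [hcomap, hE, hZc, pow_two] at h1
    exact (Nat.eq_of_mul_eq_mul_right hpr.pos h1).symm
  haveI hEbn : (E.map (QuotientGroup.mk' Z0)).Normal :=
    Subgroup.Normal.map hEn _ (QuotientGroup.mk'_surjective Z0)
  have hcen : E.map (QuotientGroup.mk' Z0) ≤ Subgroup.center (P ⧸ Z0) :=
    Cfsg.Agent.Lib.Helper63.PFrattini.normal_card_prime_le_center (hG.to_quotient Z0) _ hEbar
  have hd : x⁻¹ * e⁻¹ * x * e ∈ Z0 := by
    have h1 : QuotientGroup.mk' Z0 e ∈ Subgroup.center (P ⧸ Z0) :=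
      hcen (Subgroup.mem_map_of_mem _ he)
    rw [Subgroup.mem_center_iff] at h1
    have h2 := h1 (QuotientGroup.mk' Z0 x)
    rw [← QuotientGroup.eq_one_iff, ← QuotientGroup.mk'_apply]
    simp only [map_mul, map_inv]
    rw [mul_assoc, h2]
    group
  have hdc : ∀ g : P, Commute (x⁻¹ * e⁻¹ * x * e) g := fun g =>
    (Subgroup.mem_center_iff.1 (hZcen hd) g).symm
  have h3 := Cfsg.Agent.Lib.Helper54.UniqueSubgroup.mul_pow_of_central (b := x) (y := e)
    (d := x⁻¹ * e⁻¹ * x * e) (by group) (hdc x) (hdc e) p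
  have h4 : p ∣ p.choose 2 := hpr.dvd_choose_self (by norm_num)
    (lt_of_le_of_ne hpr.two_le (Ne.symm hp2))
  obtain ⟨t, ht⟩ := h4
  rw [ht, pow_mul, hexp _ (hZE hd), one_pow, mul_one, hexp e he, mul_one] at h3
  exact h3

/-- Equal `p`-th powers give equal orders `p ^ s`, `s ≥ 2`. -/
theorem orderOf_eq_of_pow_eq {P : Type*} [Group P] {p : ℕ} [Fact p.Prime] {x x' : P} {s : ℕ}
    (hs : 2 ≤ s) (h : x' ^ p = x ^ p) (hx : orderOf x = p ^ s) : orderOf x' = p ^ s := by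
  have hpr : p.Prime := Fact.out
  obtain ⟨t, rfl⟩ : ∃ t, s = t + 2 := ⟨s - 2, by omega⟩
  have h1 : ∀ k : ℕ, x' ^ p ^ (k + 1) = x ^ p ^ (k + 1) := by
    intro k
    rw [pow_succ', pow_mul, pow_mul, h]
  have h2 : x' ^ p ^ (t + 1 + 1) = 1 := by
    rw [h1, ← hx, pow_orderOf_eq_one]
  have h3 : ¬ x' ^ p ^ (t + 1) = 1 := by
    rw [h1]
    intro h0
    have h4 := orderOf_dvd_of_pow_eq_one h0
    rw [hx] at h4
    have h5 := Nat.le_of_dvd (pow_pos hpr.pos _) h4
    have h6 := Nat.pow_lt_pow_right hpr.one_lt (show t + 1 < t + 2 by omega)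
    omega
  exact orderOf_eq_prime_pow h3 h2

/-- Miller: in a noncyclic `p`-group, `p` odd, the number of elements of order `p ^ s`,
`s ≥ 2`, is divisible by `p ^ s`. -/
theorem miller {P : Type*} [Group P] [Finite P] {p : ℕ} [Fact p.Prime] (hp2 : p ≠ 2)
    (hG : IsPGroup p P) (hnc : ¬ IsCyclic P) (s : ℕ) (hs : 2 ≤ s) :
    p ^ s ∣ Nat.card {x : P // orderOf x = p ^ s} := by
  have hpr : p.Prime := Fact.out
  obtain ⟨E, hEn, hE, hexp⟩ := exists_normal_pp hp2 hG hnc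
  obtain ⟨t, rfl⟩ : ∃ t, s = t + 2 := ⟨s - 2, by omega⟩
  let S : Set (P ⧸ E) := {q | ∃ x : P, (x : P ⧸ E) = q ∧ orderOf x = p ^ (t + 2)}
  have hkey : ∀ x : P, orderOf x = p ^ (t + 2) ↔ (x : P ⧸ E) ∈ S := by
    intro x
    constructor
    · intro hx
      exact ⟨x, rfl, hx⟩
    · rintro ⟨x', hxx', hx'⟩
      have h1 : x'⁻¹ * x ∈ E := QuotientGroup.eq.1 hxx'
      have h2 : x = x' * (x'⁻¹ * x) := by group
      rw [h2]
      exact orderOf_eq_of_pow_eq hs (mul_pow_p hp2 hG E hE hexp x' _ h1) hx'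
  have h1 : Nat.card {x : P // orderOf x = p ^ (t + 2)} = Nat.card E * Nat.card S := by
    rw [← QuotientGroup.card_preimage_mk]
    exact Nat.card_congr (Equiv.subtypeEquivRight hkey)
  -- elements of `S` have order `p ^ k`, `k ≥ t + 1`
  have hnotE : ∀ x : P, orderOf x = p ^ (t + 2) → x ^ p ^ t ∉ E := by
    intro x hx hmem
    have h2 := hexp _ hmem
    rw [← pow_mul, ← pow_succ] at h2
    have h4 := orderOf_dvd_of_pow_eq_one h2
    rw [hx] at h4
    have h5 := Nat.le_of_dvd (pow_pos hpr.pos _) h4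
    have h6 := Nat.pow_lt_pow_right hpr.one_lt (show t + 1 < t + 2 by omega)
    omega
  have hc : ∀ q ∈ S, p ^ t ∣ Nat.totient (orderOf q) := by
    rintro q ⟨x, rfl, hx⟩
    have h2 : (x : P ⧸ E) ^ p ^ (t + 2) = 1 := by
      rw [← QuotientGroup.mk_pow, ← hx, pow_orderOf_eq_one]; rfl
    obtain ⟨k, hk, hk'⟩ := (Nat.dvd_prime_pow hpr).1 (orderOf_dvd_of_pow_eq_one h2)
    have hk1 : t + 1 ≤ k := by
      by_contra hcon
      have h3 : (x : P ⧸ E) ^ p ^ t = 1 := by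
        have h4 : p ^ k ∣ p ^ t := pow_dvd_pow p (by omega)
        rw [← hk'] at h4
        exact orderOf_dvd_iff_pow_eq_one.1 h4
      rw [← QuotientGroup.mk_pow, QuotientGroup.eq_one_iff] at h3
      exact hnotE x hx h3
    rw [hk', Nat.totient_prime_pow hpr (by omega)]
    exact Dvd.dvd.mul_right (pow_dvd_pow p (by omega)) _
  have hclosed : ∀ q ∈ S, ∀ r : P ⧸ E, Subgroup.zpowers r = Subgroup.zpowers q → r ∈ S := by
    rintro q ⟨x, rfl, hx⟩ r hr
    have h2 : r ∈ Subgroup.zpowers (x : P ⧸ E) := hr ▸ Subgroup.mem_zpowers r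
    have h3 : (x : P ⧸ E) ∈ Subgroup.zpowers r := hr ▸ Subgroup.mem_zpowers (x : P ⧸ E)
    obtain ⟨j, hj⟩ := Subgroup.mem_zpowers_iff.1 h2
    obtain ⟨i, hi⟩ := Subgroup.mem_zpowers_iff.1 h3
    refine ⟨x ^ j, by rw [← hj]; rfl, ?_⟩
    have h5 : (((x ^ j) ^ i : P) : P ⧸ E) = (x : P ⧸ E) := by
      rw [QuotientGroup.mk_zpow, QuotientGroup.mk_zpow, hj, hi]
    have h6 : ((x ^ j) ^ i)⁻¹ * x ∈ E := QuotientGroup.eq.1 h5
    have h7 : x = (x ^ j) ^ i * (((x ^ j) ^ i)⁻¹ * x) := by group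
    have h8 : x ^ p = ((x ^ j) ^ i) ^ p := by
      conv_lhs => rw [h7]
      exact mul_pow_p hp2 hG E hE hexp _ _ h6
    have h9 : orderOf ((x ^ j) ^ i) = p ^ (t + 2) := orderOf_eq_of_pow_eq hs h8.symm hx
    apply Nat.dvd_antisymm
    · apply orderOf_dvd_of_pow_eq_one
      rw [← zpow_natCast, ← zpow_mul, mul_comm, zpow_mul, zpow_natCast, ← hx, pow_orderOf_eq_one,
        one_zpow]
    · rw [← h9]
      apply orderOf_dvd_of_pow_eq_one
      rw [← zpow_natCast, ← zpow_mul, mul_comm, zpow_mul, zpow_natCast, pow_orderOf_eq_one,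
        one_zpow]
  have h2 : p ^ t ∣ Nat.card S := dvd_card_of_closed S hclosed _ hc
  rw [h1, hE]
  obtain ⟨u, hu⟩ := h2
  rw [hu]
  exact ⟨u, by ring⟩

/-- Commuting pairs `(x, y)`, `x ∈ H` of order `n`, `y` of order `m`. -/
def BB (G : Type*) [Group G] (H : Subgroup G) (n m : ℕ) : Set (G × G) :=
  {xy | xy.1 ∈ H ∧ orderOf xy.1 = n ∧ orderOf xy.2 = m ∧ Commute xy.1 xy.2}

/-- Pairs `(K, y)`, `K ≤ H` cyclic of order `n`, `y` of order `m` centralizing `K`. -/
def KK (G : Type*) [Group G] (H : Subgroup G) (n m : ℕ) : Set (Subgroup G × G) :=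
  {Ky | Ky.1 ≤ H ∧ Nat.card Ky.1 = n ∧ IsCyclic Ky.1 ∧ orderOf Ky.2 = m ∧
    ∀ k ∈ Ky.1, Commute k Ky.2}

theorem card_BB {G : Type*} [Group G] [Finite G] (H : Subgroup G) (n m : ℕ) :
    Nat.card (BB G H n m) = Nat.totient n * Nat.card (KK G H n m) := by
  classical
  letI : Fintype (KK G H n m) := Fintype.ofFinite _
  have hf : ∀ b : BB G H n m, (Subgroup.zpowers b.1.1, b.1.2) ∈ KK G H n m := by
    rintro ⟨⟨x, y⟩, hxH, hx, hy, hxy⟩
    refine ⟨(Subgroup.zpowers_le).2 hxH, by rw [Nat.card_zpowers]; exact hx, inferInstance, hy, ?_⟩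
    intro k hk
    obtain ⟨i, rfl⟩ := Subgroup.mem_zpowers_iff.1 hk
    exact hxy.zpow_left i
  let f : BB G H n m → KK G H n m := fun b => ⟨_, hf b⟩
  have h1 : Nat.card (BB G H n m) = ∑ κ : KK G H n m, Nat.card {b : BB G H n m // f b = κ} := by
    rw [← Nat.card_sigma]
    exact Nat.card_congr (Equiv.sigmaFiberEquiv f).symm
  have h2 : ∀ κ : KK G H n m, Nat.card {b : BB G H n m // f b = κ} = Nat.totient n := by
    rintro ⟨⟨K, y⟩, hKH, hKn, hKc, hy, hKy⟩
    have h3 : Nat.card {x : G // Subgroup.zpowers x = K} = Nat.totient n := by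
      rw [card_gen K hKc]; exact congrArg Nat.totient hKn
    rw [← h3]
    refine Nat.card_congr
      { toFun := fun b => ⟨b.1.1.1, congrArg (fun κ : KK G H n m => κ.1.1) b.2⟩
        invFun := fun x => ⟨⟨(x.1, y), ?_⟩, ?_⟩
        left_inv := ?_
        right_inv := fun x => rfl }
    · have hxK : x.1 ∈ K := by
        have h := Subgroup.mem_zpowers x.1
        rw [x.2] at h
        exact h
      refine ⟨hKH hxK, ?_, hy, hKy _ hxK⟩
      rw [← Nat.card_zpowers, x.2]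
      exact hKn
    · apply Subtype.ext
      show (Subgroup.zpowers x.1, y) = (K, y)
      rw [x.2]
    · rintro ⟨⟨⟨x, y'⟩, hb⟩, hfb⟩
      have h3 : y' = y := congrArg (fun κ : KK G H n m => κ.1.2) hfb
      subst h3
      rfl
  rw [h1, Finset.sum_congr rfl (fun κ _ => h2 κ), Finset.sum_const, Finset.card_univ,
    smul_eq_mul, Nat.card_eq_fintype_card, mul_comm]

theorem mem_map_conj {G : Type*} [Group G] (K : Subgroup G) (g x : G) :
    x ∈ K.map (MulAut.conj g).toMonoidHom ↔ g⁻¹ * x * g ∈ K := by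
  rw [Subgroup.mem_map_equiv, MulAut.conj_symm_apply]

theorem KK_conj {G : Type*} [Group G] [Finite G] (H : Subgroup G) (n m : ℕ) (g : G)
    (hg : ∀ h ∈ H, g * h * g⁻¹ ∈ H) (Ky : Subgroup G × G) (h : Ky ∈ KK G H n m) :
    (Ky.1.map (MulAut.conj g).toMonoidHom, g * Ky.2 * g⁻¹) ∈ KK G H n m := by
  obtain ⟨h1, h2, h3, h4, h5⟩ := h
  refine ⟨?_, ?_, ?_, ?_, ?_⟩
  · rintro _ ⟨k, hk, rfl⟩
    exact hg k (h1 hk)
  · show Nat.card (Ky.1.map (MulAut.conj g).toMonoidHom) = n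
    rw [Subgroup.card_map_of_injective (MulAut.conj g).injective]
    exact h2
  · exact (Ky.1.equivMapOfInjective (MulAut.conj g).toMonoidHom (MulAut.conj g).injective).isCyclic.1 h3
  · show orderOf (g * Ky.2 * g⁻¹) = m
    rw [← MulAut.conj_apply, MulEquiv.orderOf_eq]
    exact h4
  · rintro _ ⟨k, hk, rfl⟩
    show (MulAut.conj g) k * (g * Ky.2 * g⁻¹) = g * Ky.2 * g⁻¹ * (MulAut.conj g) k
    rw [MulAut.conj_apply]
    have h6 := (h5 k hk).eq
    calc g * k * g⁻¹ * (g * Ky.2 * g⁻¹) = g * (k * Ky.2) * g⁻¹ := by group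
      _ = g * (Ky.2 * k) * g⁻¹ := by rw [h6]
      _ = _ := by group

/-- conjugation action of a subgroup normalizing `H` on `KK G H n m`. -/
@[reducible] noncomputable def actKK {G : Type*} [Group G] [Finite G] (P H : Subgroup G)
    (hPH : ∀ g ∈ P, ∀ h ∈ H, g * h * g⁻¹ ∈ H) (n m : ℕ) : MulAction ↥P (KK G H n m) where
  smul g κ := ⟨_, KK_conj H n m (g : G) (hPH g g.2) κ.1 κ.2⟩
  one_smul κ := by
    apply Subtype.ext
    show ((κ.1.1.map (MulAut.conj ((1 : ↥P) : G)).toMonoidHom, ((1 : ↥P) : G) * κ.1.2 * ((1 : ↥P) : G)⁻¹)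
      : Subgroup G × G) = κ.1
    apply Prod.ext
    · ext x
      rw [mem_map_conj]
      simp
    · simp
  mul_smul a b κ := by
    apply Subtype.ext
    show ((κ.1.1.map (MulAut.conj ((a * b : ↥P) : G)).toMonoidHom,
        ((a * b : ↥P) : G) * κ.1.2 * ((a * b : ↥P) : G)⁻¹) : Subgroup G × G) =
      ((κ.1.1.map (MulAut.conj (b : G)).toMonoidHom).map (MulAut.conj (a : G)).toMonoidHom,
        (a : G) * ((b : G) * κ.1.2 * (b : G)⁻¹) * (a : G)⁻¹)
    apply Prod.ext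
    · ext x
      simp only [mem_map_conj, Subgroup.coe_mul, mul_inv_rev, mul_assoc]
    · simp only [Subgroup.coe_mul, mul_inv_rev, mul_assoc]

theorem card_KK_modEq {G : Type*} [Group G] [Finite G] {p : ℕ} [Fact p.Prime] (P H : Subgroup G)
    (hP : IsPGroup p P) (hPH : ∀ g ∈ P, ∀ h ∈ H, g * h * g⁻¹ ∈ H) (n m : ℕ) :
    Nat.card (KK G H n m) ≡ Nat.card {Ky : Subgroup G × G // Ky ∈ KK G H n m ∧
      ∀ g ∈ P, Ky.1.map (MulAut.conj g).toMonoidHom = Ky.1 ∧ g * Ky.2 * g⁻¹ = Ky.2} [MOD p] := by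
  letI := actKK P H hPH n m
  have h1 := hP.card_modEq_card_fixedPoints (KK G H n m)
  have h0 : Nat.card (MulAction.fixedPoints ↥P (KK G H n m)) =
      Nat.card {Ky : Subgroup G × G // Ky ∈ KK G H n m ∧
      ∀ g ∈ P, Ky.1.map (MulAut.conj g).toMonoidHom = Ky.1 ∧ g * Ky.2 * g⁻¹ = Ky.2} := by
    refine Nat.card_congr
      { toFun := fun κ => ⟨κ.1.1, κ.1.2, fun g hg => ?_⟩
        invFun := fun κ => ⟨⟨κ.1, κ.2.1⟩, fun g => ?_⟩
        left_inv := fun κ => rfl
        right_inv := fun κ => rfl }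
    · have h2 := congrArg Subtype.val (κ.2 ⟨g, hg⟩)
      exact ⟨congrArg Prod.fst h2, congrArg Prod.snd h2⟩
    · apply Subtype.ext
      exact Prod.ext (κ.2.2 g g.2).1 (κ.2.2 g g.2).2
  rw [h0] at h1
  exact h1

/-- Cyclic subgroups of order `n` of `P` normalized by `P`. -/
def NU (G : Type*) [Group G] (P : Subgroup G) (n : ℕ) : Set (Subgroup G) :=
  {K | K ≤ P ∧ Nat.card K = n ∧ IsCyclic K ∧ ∀ g ∈ P, K.map (MulAut.conj g).toMonoidHom = K}

theorem card_BB_one {G : Type*} [Group G] [Finite G] (P : Subgroup G) (n : ℕ) :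
    Nat.card (BB G P n 1) = Nat.card {x : ↥P // orderOf x = n} := by
  refine Nat.card_congr
    { toFun := fun b => ⟨⟨b.1.1, b.2.1⟩, by rw [Subgroup.orderOf_mk]; exact b.2.2.1⟩
      invFun := fun x => ⟨((x.1 : G), 1), x.1.2, by rw [Subgroup.orderOf_coe]; exact x.2,
        orderOf_one, Commute.one_right _⟩
      left_inv := ?_
      right_inv := fun x => rfl }
  rintro ⟨⟨x, y⟩, hx, hx', hy, hxy⟩
  apply Subtype.ext
  have h1 : y = 1 := orderOf_eq_one_iff.1 hy
  subst h1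
  rfl

theorem card_fix_one {G : Type*} [Group G] [Finite G] (P : Subgroup G) (n : ℕ) :
    Nat.card {Ky : Subgroup G × G // Ky ∈ KK G P n 1 ∧
      ∀ g ∈ P, Ky.1.map (MulAut.conj g).toMonoidHom = Ky.1 ∧ g * Ky.2 * g⁻¹ = Ky.2} =
    Nat.card (NU G P n) := by
  refine Nat.card_congr
    { toFun := fun κ => ⟨κ.1.1, κ.2.1.1, κ.2.1.2.1, κ.2.1.2.2.1, fun g hg => (κ.2.2 g hg).1⟩
      invFun := fun K => ⟨(K.1, 1), ⟨K.2.1, K.2.2.1, K.2.2.2.1, orderOf_one,
        fun k _ => Commute.one_right k⟩, fun g hg => ⟨K.2.2.2.2 g hg, by simp⟩⟩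
      left_inv := ?_
      right_inv := fun K => rfl }
  rintro ⟨⟨K, y⟩, ⟨h1, h2, h3, h4, h5⟩, h6⟩
  apply Subtype.ext
  have h7 : y = 1 := orderOf_eq_one_iff.1 h4
  subst h7
  rfl

theorem card_BB_top {G : Type*} [Group G] [Finite G] (n m : ℕ) (hnm : Nat.Coprime n m)
    (hn : 0 < n) (hm : 0 < m) :
    Nat.card (BB G ⊤ n m) = Nat.card {g : G // orderOf g = n * m} := by
  obtain ⟨k, hk1, hk0⟩ := Nat.chineseRemainder hnm 1 0
  obtain ⟨k', hk'0, hk'1⟩ := Nat.chineseRemainder hnm 0 1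
  have hord : ∀ b : BB G ⊤ n m, orderOf (b.1.1 * b.1.2) = n * m := by
    rintro ⟨⟨x, y⟩, -, hx, hy, hxy⟩
    show orderOf (x * y) = n * m
    rw [hxy.orderOf_mul_eq_mul_orderOf_of_coprime (by rw [hx, hy]; exact hnm), hx, hy]
  have hfst : ∀ b : BB G ⊤ n m, (b.1.1 * b.1.2) ^ k = b.1.1 := by
    rintro ⟨⟨x, y⟩, -, hx, hy, hxy⟩
    show (x * y) ^ k = x
    rw [hxy.mul_pow]
    have h1 : x ^ k = x ^ 1 := by
      rw [pow_eq_pow_iff_modEq, hx]; exact hk1
    have h2 : y ^ k = 1 := by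
      rw [← orderOf_dvd_iff_pow_eq_one, hy]
      exact (Nat.modEq_zero_iff_dvd).1 hk0
    rw [h1, h2, pow_one, mul_one]
  let f : BB G ⊤ n m → {g : G // orderOf g = n * m} := fun b => ⟨b.1.1 * b.1.2, hord b⟩
  refine Nat.card_congr (Equiv.ofBijective f ⟨?_, ?_⟩)
  · intro b b' hbb
    have h1 : b.1.1 * b.1.2 = b'.1.1 * b'.1.2 := congrArg Subtype.val hbb
    have h2 : b.1.1 = b'.1.1 := by rw [← hfst b, ← hfst b', h1]
    have h3 : b.1.2 = b'.1.2 := by
      rw [h2] at h1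
      exact mul_left_cancel h1
    exact Subtype.ext (Prod.ext h2 h3)
  · rintro ⟨g, hg⟩
    have hx : (g ^ k) ^ n = 1 := by
      rw [← pow_mul, ← orderOf_dvd_iff_pow_eq_one, hg, mul_comm k n]
      exact Nat.mul_dvd_mul_left n ((Nat.modEq_zero_iff_dvd).1 hk0)
    have hy : (g ^ k') ^ m = 1 := by
      rw [← pow_mul, ← orderOf_dvd_iff_pow_eq_one, hg]
      exact Nat.mul_dvd_mul ((Nat.modEq_zero_iff_dvd).1 hk'0) (dvd_refl m)
    have hcomm : Commute (g ^ k) (g ^ k') := (Commute.refl g).pow_pow k k'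
    have hmul : g ^ k * g ^ k' = g := by
      rw [← pow_add]
      have h1 : k + k' ≡ 1 [MOD n * m] := by
        rw [← Nat.modEq_and_modEq_iff_modEq_mul hnm]
        constructor
        · simpa using hk1.add hk'0
        · simpa using hk0.add hk'1
      have h2 : g ^ (k + k') = g ^ 1 := by
        rw [pow_eq_pow_iff_modEq, hg]; exact h1
      rw [h2, pow_one]
    obtain ⟨c, hc⟩ := orderOf_dvd_of_pow_eq_one hx
    obtain ⟨d, hd⟩ := orderOf_dvd_of_pow_eq_one hy
    have hcop : (orderOf (g ^ k)).Coprime (orderOf (g ^ k')) :=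
      Nat.Coprime.of_dvd (Dvd.intro _ hc.symm) (Dvd.intro _ hd.symm) hnm
    have h3 := hcomm.orderOf_mul_eq_mul_orderOf_of_coprime hcop
    rw [hmul, hg] at h3
    have hcd : c * d = 1 := by
      have h4 : orderOf (g ^ k) * orderOf (g ^ k') * (c * d) =
          orderOf (g ^ k) * orderOf (g ^ k') * 1 := by
        rw [mul_one]
        calc orderOf (g ^ k) * orderOf (g ^ k') * (c * d)
            = (orderOf (g ^ k) * c) * (orderOf (g ^ k') * d) := by ring
          _ = n * m := by rw [← hc, ← hd]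
          _ = _ := h3
      have hpos : 0 < orderOf (g ^ k) * orderOf (g ^ k') := by rw [← h3]; positivity
      exact Nat.eq_of_mul_eq_mul_left hpos h4
    have hc1 : c = 1 := Nat.eq_one_of_mul_eq_one_right hcd
    have hd1 : d = 1 := Nat.eq_one_of_mul_eq_one_left hcd
    rw [hc1, mul_one] at hc
    rw [hd1, mul_one] at hd
    exact ⟨⟨(g ^ k, g ^ k'), Subgroup.mem_top _, hc.symm, hd.symm, hcomm⟩, Subtype.ext hmul⟩

theorem le_sylow_of_map_conj {G : Type*} [Group G] [Finite G] {p : ℕ} [Fact p.Prime]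
    (P : Sylow p G) (K : Subgroup G) (s : ℕ) (hK : Nat.card K = p ^ s)
    (hfix : ∀ g ∈ (P : Subgroup G), K.map (MulAut.conj g).toMonoidHom = K) :
    K ≤ (P : Subgroup G) := by
  have hKp : IsPGroup p K := IsPGroup.of_card hK
  have hN : (P : Subgroup G) ≤ Subgroup.normalizer (K : Set G) := by
    intro g hg
    rw [Subgroup.mem_normalizer_iff]
    intro h
    have h1 := hfix g hg
    constructor
    · intro hh
      rw [← h1]
      exact ⟨h, hh, rfl⟩
    · intro hh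
      rw [← h1, mem_map_conj] at hh
      have h2 : g⁻¹ * (g * h * g⁻¹) * g = h := by group
      rw [h2] at hh
      exact hh
  have h1 : IsPGroup p ((P : Subgroup G) ⊔ K : Subgroup G) :=
    IsPGroup.to_sup_of_normal_right' P.isPGroup' hKp hN
  have h2 := P.is_maximal' h1 le_sup_left
  rw [← h2]
  exact le_sup_right

theorem card_fix_top {G : Type*} [Group G] [Finite G] {p : ℕ} [Fact p.Prime] (P : Sylow p G)
    (s m : ℕ) :
    Nat.card {Ky : Subgroup G × G // Ky ∈ KK G ⊤ (p ^ s) m ∧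
      ∀ g ∈ (P : Subgroup G), Ky.1.map (MulAut.conj g).toMonoidHom = Ky.1 ∧
        g * Ky.2 * g⁻¹ = Ky.2} =
    Nat.card (NU G (P : Subgroup G) (p ^ s)) *
      Nat.card {y : G // orderOf y = m ∧ ∀ g ∈ (P : Subgroup G), g * y * g⁻¹ = y} := by
  rw [← Nat.card_prod]
  refine Nat.card_congr
    { toFun := fun κ => (⟨κ.1.1, le_sylow_of_map_conj P κ.1.1 s κ.2.1.2.1
          (fun g hg => (κ.2.2 g hg).1), κ.2.1.2.1, κ.2.1.2.2.1, fun g hg => (κ.2.2 g hg).1⟩,
        ⟨κ.1.2, κ.2.1.2.2.2.1, fun g hg => (κ.2.2 g hg).2⟩)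
      invFun := fun Ky => ⟨(Ky.1.1, Ky.2.1), ⟨le_top, Ky.1.2.2.1, Ky.1.2.2.2.1, Ky.2.2.1,
          fun k hk => ?_⟩, fun g hg => ⟨Ky.1.2.2.2.2 g hg, Ky.2.2.2 g hg⟩⟩
      left_inv := fun κ => rfl
      right_inv := fun Ky => rfl }
  have h1 := Ky.2.2.2 k (Ky.1.2.1 hk)
  show k * Ky.2.1 = Ky.2.1 * k
  calc k * Ky.2.1 = k * Ky.2.1 * k⁻¹ * k := by group
    _ = Ky.2.1 * k := by rw [h1]

/-- Let G be a finite group, p an odd prime dividing the order of G whose Sylow p-subgroups are not cyclic, and n = p^s·m with s > 1 and m coprime to p. Then the number of elements of G of order n is a multiple of p^s. -/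
theorem result {G : Type*} [Group G] [Finite G] (p : ℕ) [Fact p.Prime] (hodd : p ≠ 2) (hpG : p ∣ Nat.card G)
    (P : Sylow p G) (hP : ¬ IsCyclic ↥(P : Subgroup G)) (s m : ℕ) (hs : 1 < s) (hm : Nat.Coprime p m) :
    p ^ s ∣ Nat.card {g : G // orderOf g = p ^ s * m} := by
  have hpr : p.Prime := Fact.out
  have hm0 : 0 < m := by
    rcases Nat.eq_zero_or_pos m with h | h
    · subst h
      rw [Nat.coprime_zero_right] at hm
      exact absurd hm hpr.ne_one
    · exact h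
  have hPp : IsPGroup p (P : Subgroup G) := P.isPGroup'
  have hnorm : ∀ g ∈ (P : Subgroup G), ∀ h ∈ (P : Subgroup G), g * h * g⁻¹ ∈ (P : Subgroup G) :=
    fun g hg h hh => mul_mem (mul_mem hg hh) (inv_mem hg)
  have hφ : Nat.totient (p ^ s) = p ^ (s - 1) * (p - 1) := Nat.totient_prime_pow hpr (by omega)
  have hcop : Nat.Coprime p (p - 1) := by
    rw [Nat.Prime.coprime_iff_not_dvd hpr]
    have := hpr.two_le
    exact Nat.not_dvd_of_pos_of_lt (by omega) (by omega)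
  have hdvd : ∀ a : ℕ, p ^ s ∣ Nat.totient (p ^ s) * a ↔ p ∣ a := by
    intro a
    have h1 : p ^ s = p ^ (s - 1) * p := by
      rw [← pow_succ]; congr 1; omega
    rw [hφ, h1, mul_assoc, Nat.mul_dvd_mul_iff_left (pow_pos hpr.pos _)]
    exact hcop.dvd_mul_left
  have hM := miller hodd hPp hP s hs
  rw [← card_BB_one, card_BB, hdvd] at hM
  have h1 := card_KK_modEq (P : Subgroup G) (P : Subgroup G) hPp hnorm (p ^ s) 1
  rw [card_fix_one] at h1
  have h2 := card_KK_modEq (P : Subgroup G) ⊤ hPp (fun _ _ _ _ => Subgroup.mem_top _) (p ^ s) m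
  rw [card_fix_top] at h2
  rw [← card_BB_top (p ^ s) m (Nat.Coprime.pow_left s hm) (pow_pos hpr.pos _) hm0, card_BB, hdvd]
  have h3 : p ∣ Nat.card (NU G (P : Subgroup G) (p ^ s)) := (h1.dvd_iff (dvd_refl p)).1 hM
  exact (h2.dvd_iff (dvd_refl p)).2 (Dvd.dvd.mul_right h3 _)

end Cfsg.Agent.S4003
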