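import Mathlib
import Cfsg.Statements.S4395
import Cfsg.Agent.Lib.Helper4.UniAsm
import Cfsg.Agent.Lib.Helper51.UniSTR
import Cfsg.Agent.Lib.Helper78.UniHYP
import Cfsg.Agent.Lib.Helper11.UniFMB
import Cfsg.Agent.Lib.Helper51.UniFMA
import Cfsg.Agent.Lib.Helper34.UniFMP
import Cfsg.Agent.Lib.Helper64.UniLD
import Cfsg.Agent.Lib.Helper74.UniWIN
import Cfsg.Agent.Lib.Helper31.UniEVENALG
import Cfsg.Agent.Lib.Helper52.UniEVENT
import Cfsg.Agent.Lib.Helper4.UniZB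
import Cfsg.Agent.Lib.Helper67.UniXMP
import Cfsg.Agent.Lib.Helper64.UniMATCHF
import Cfsg.Agent.Lib.Helper4.UniSUBDC
import Cfsg.Agent.Lib.Helper58.UniMINSUB
import Cfsg.Agent.Lib.Helper15.UniEF
import Cfsg.Agent.Lib.Helper31.UniEF2
import Cfsg.Agent.Lib.Helper31.UniEAB
import Cfsg.Agent.Lib.Helper30.UniHEIS
import Cfsg.Agent.Lib.Helper58.UniENA
import Cfsg.Agent.Lib.Helper11.UniSDP
-- import your own Cfsg.Agent.* helpers here

set_option autoImplicit false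
universe u
open Cfsg

namespace Cfsg.Agent.S4395


/-- Let p ≠ q be primes, r ≥ 1, a the multiplicative order of p modulo q, and a₀ = a when a is odd, a₀ = 3a/2 when a is even. Call a finite group minimal non-p-nilpotent when it has no normal p-complement but every proper subgroup has one. Then there is a minimal non-p-nilpotent group G₀ of order p^a₀ · q^r such that every minimal non-p-nilpotent group of order p^t · q^r (any t) is a quotient of G₀ by a central subgroup. -/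
theorem result (p q r : ℕ) [Fact p.Prime] [Fact q.Prime] (hpq : p ≠ q) (hr : 1 ≤ r) (a a₀ : ℕ)
    (ha : a = orderOf (p : ZMod q)) (ha₀ : a₀ = if a % 2 = 1 then a else 3 * a / 2) :
    ∃ (G₀ : Type u) (_ : Group G₀) (_ : Finite G₀),
      (¬ Cfsg.HasNormalPComplement p G₀ ∧ ∀ K : Subgroup G₀, K ≠ ⊤ → Cfsg.HasNormalPComplement p ↥K) ∧ Nat.card G₀ = p ^ a₀ * q ^ r ∧
      ∀ (X : Type u) [Group X] [Finite X], (¬ Cfsg.HasNormalPComplement p X ∧ ∀ K : Subgroup X, K ≠ ⊤ → Cfsg.HasNormalPComplement p ↥K) →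
        (∃ t : ℕ, Nat.card X = p ^ t * q ^ r) → ∃ φ : G₀ →* X, Function.Surjective φ ∧ φ.ker ≤ Subgroup.center G₀ := by
  exact Cfsg.Agent.Lib.Helper4.UniAsm.assembly.{u}
    Cfsg.Agent.Lib.Helper51.UniSTR.main Cfsg.Agent.Lib.Helper78.UniHYP.main
    Cfsg.Agent.Lib.Helper11.UniFMB.main Cfsg.Agent.Lib.Helper51.UniFMA.main
    Cfsg.Agent.Lib.Helper34.UniFMP.main Cfsg.Agent.Lib.Helper64.UniLD.main
    Cfsg.Agent.Lib.Helper74.UniWIN.main Cfsg.Agent.Lib.Helper31.UniEVENALG.main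
    Cfsg.Agent.Lib.Helper52.UniEVENT.main Cfsg.Agent.Lib.Helper4.UniZB.main
    Cfsg.Agent.Lib.Helper67.UniXMP.main Cfsg.Agent.Lib.Helper64.UniMATCHF.main
    Cfsg.Agent.Lib.Helper4.UniSUBDC.main Cfsg.Agent.Lib.Helper58.UniMINSUB.main
    Cfsg.Agent.Lib.Helper15.UniEF.main Cfsg.Agent.Lib.Helper31.UniEF2.main
    Cfsg.Agent.Lib.Helper31.UniEAB.main Cfsg.Agent.Lib.Helper30.UniHEIS.main
    Cfsg.Agent.Lib.Helper58.UniENA.main Cfsg.Agent.Lib.Helper11.UniSDP.main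
    p q r hpq hr a a₀ ha ha₀

end Cfsg.Agent.S4395
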