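import Cfsg.Statements.S1486
import Cfsg.Agent.Lib.Helper3.Irr
import Cfsg.Agent.Lib.CT.FrobRec
import Cfsg.Agent.Lib.CT.Clifford
import Mathlib

set_option autoImplicit false
open Cfsg

namespace Cfsg.Agent.S1486

open Cfsg.Agent.Lib.Helper3.Irr Cfsg.Agent.Lib.CT.FrobRec Cfsg.Agent.Lib.CT

/-- inducing a conjugate gives the same function. -/
theorem indFun_conjFun {G : Type*} [Group G] [Fintype G] (H : Subgroup G) (hN : H.Normal)
    (θ : H → ℂ) (g : G) : Cfsg.indFun H (Clifford.conjFun H hN θ g) = Cfsg.indFun H θ := by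
  funext a
  rw [indFun_apply, indFun_apply]
  congr 1
  have key : ∀ y : G, Cfsg.extendByZero H (Clifford.conjFun H hN θ g) y
      = Cfsg.extendByZero H θ (g * y * g⁻¹) := by
    intro y
    by_cases hy : y ∈ H
    · rw [extendByZero_apply_of_mem H _ hy, extendByZero_apply_of_mem H _ (hN.conj_mem y hy g)]
      rfl
    · rw [extendByZero_apply_of_not_mem H _ hy, extendByZero_apply_of_not_mem H θ]
      intro h
      apply hy
      have := hN.conj_mem _ h g⁻¹
      simpa [mul_assoc] using this
  simp_rw [key]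
  apply Fintype.sum_equiv (Equiv.mulRight g⁻¹)
  intro x
  simp [mul_assoc]

/-- Let H be a normal subgroup of the finite group G and θ, φ irreducible characters of H. If φ is a G-conjugate of θ then the functions induced from θ and φ coincide; if φ is not a G-conjugate of θ then the induced functions are orthogonal. -/
theorem result {G : Type*} [Group G] [Fintype G] (H : Subgroup G) [hN : H.Normal] (θ φ : H → ℂ) (hθ : Cfsg.IsIrrCharacter H θ) (hφ : Cfsg.IsIrrCharacter H φ) : ((∃ g : G, φ = fun h : H => θ ⟨g * h * g⁻¹, hN.conj_mem h h.2 g⟩) → Cfsg.indFun H φ = Cfsg.indFun H θ) ∧ ((¬ ∃ g : G, φ = fun h : H => θ ⟨g * h * g⁻¹, hN.conj_mem h h.2 g⟩) → Cfsg.classInner (Cfsg.indFun H φ) (Cfsg.indFun H θ) = 0) := by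
  classical
  constructor
  · rintro ⟨g, rfl⟩
    exact indFun_conjFun H hN θ g
  · intro hnc
    haveI : Fintype H := Fintype.ofFinite H
    rw [frobenius_reciprocity' H θ (Cfsg.indFun H φ) (indFun_isClassFunction H φ)]
    have h1 : (fun h : H => Cfsg.indFun H φ h) =
        (Nat.card H : ℂ)⁻¹ • ∑ x : G, Clifford.conjFun H hN φ x⁻¹ := by
      funext n
      rw [Clifford.indFun_restrict H hN φ n]
      simp [Finset.sum_apply]
    rw [h1, classInner_smul_left, classInner_sum_left]
    rw [Finset.sum_eq_zero, mul_zero]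
    intro x _
    have h2 := irr_orthonormal (⟨Clifford.conjFun H hN φ x⁻¹, Clifford.isIrrCharacter_conjFun H hN hφ x⁻¹⟩ :
      Cfsg.IrrCharacter H) ⟨θ, hθ⟩
    rw [if_neg] at h2
    · exact h2
    · intro h3
      apply hnc
      refine ⟨x, ?_⟩
      have h4 : Clifford.conjFun H hN φ x⁻¹ = θ := congrArg Subtype.val h3
      have h5 : φ = Clifford.conjFun H hN θ x := by
        rw [← h4, Clifford.conjFun_conjFun, inv_mul_cancel, Clifford.conjFun_one]
      exact h5

end Cfsg.Agent.S1486
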