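import Cfsg.Statements.S1516
import Cfsg.Agent.Lib.Helper76.Coherence
import Cfsg.Agent.Lib.Helper76.Coherence2

set_option autoImplicit false
open Cfsg

namespace Cfsg.Agent.S1516

open scoped ComplexConjugate
open Cfsg.Agent.Lib.Helper26.GenChar Cfsg.Agent.Lib.CT.Orth Cfsg.Agent.Lib.Helper76.Coherence
open Cfsg.Agent.Lib.Helper76.Coherence2

set_option maxHeartbeats 1000000 in
/-- Let (S, τ, R) be a coherence system from L to G with degrees φ 1 = d φ and squared norms ⟨φ, φ⟩ = n φ for φ ∈ S. Let S₁ ⊆ S be a finite subset closed under complex conjugation such that (S₁, L minus 1, τ) is coherent, let χ ∈ S with χ ∉ S₁ and conj χ ∉ S₁, and let χ₁ ∈ S₁ with d χ₁ dividing d χ and 2 d χ d χ₁ < Σ_{φ ∈ S₁} (d φ)² / n φ. Then S₁ together with χ and conj χ is coherent. -/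
theorem result {L : Type*} [Group L] [Fintype L] {G : Type*} [Group G] [Fintype G] (S : Set (L → ℂ)) (τ : (L → ℂ) → (G → ℂ)) (R : (L → ℂ) → Finset (G → ℂ)) (hS : Cfsg.IsCoherenceSystem S τ R) (d n : (L → ℂ) → ℕ) (hd : ∀ φ ∈ S, φ 1 = (d φ : ℂ)) (hn : ∀ φ ∈ S, Cfsg.classInner φ φ = (n φ : ℂ)) (S₁ : Finset (L → ℂ)) (hS₁ : ↑S₁ ⊆ S) (hS₁c : ∀ φ ∈ S₁, Cfsg.conjFun φ ∈ S₁) (hcoh : Cfsg.IsCoherent (↑S₁ : Set (L → ℂ)) {1}ᶜ τ) (χ : L → ℂ) (hχ : χ ∈ S) (hχ₁ : χ ∉ S₁) (hχ₂ : Cfsg.conjFun χ ∉ S₁) (χ₁ : L → ℂ) (hχ₁S : χ₁ ∈ S₁) (hdvd : d χ₁ ∣ d χ) (hineq : (2 * d χ * d χ₁ : ℝ) < ∑ φ ∈ S₁, ((d φ : ℝ) ^ 2 / (n φ : ℝ))) : Cfsg.IsCoherent (↑S₁ ∪ {χ, Cfsg.conjFun χ} : Set (L → ℂ)) {1}ᶜ τ := by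
  classical
  obtain ⟨-, τ₁, hτ₁, hagree⟩ := hcoh
  have hτiso := hS.isometry
  have hχc := hS.conj_mem χ hχ
  have hχ₁' : χ₁ ∈ S := hS₁ hχ₁S
  have hn0 : ∀ φ ∈ S, n φ ≠ 0 := by
    intro φ hφ
    obtain ⟨n', hn'0, hn'⟩ := exists_norm hS hφ
    rw [hn φ hφ] at hn'
    have : n φ = n' := by exact_mod_cast hn'
    rw [this]
    exact hn'0
  have hd0 : ∀ φ ∈ S, d φ ≠ 0 := by
    intro φ hφ
    obtain ⟨d', hd'0, hd'⟩ := exists_deg hS hφ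
    rw [hd φ hφ] at hd'
    have : d φ = d' := by exact_mod_cast hd'
    rw [this]
    exact hd'0
  obtain ⟨a, ha⟩ := hdvd
  have hspan₁ : ∀ φ ∈ S₁, φ ∈ zspan (↑S₁ : Set (L → ℂ)) := fun φ hφ =>
    zspan_subset (Finset.mem_coe.mpr hφ)
  have hχne : ∀ φ ∈ S₁, φ ≠ χ := fun φ hφ h => hχ₁ (h ▸ hφ)
  have hχcne : ∀ φ ∈ S₁, φ ≠ conjFun χ := fun φ hφ h => hχ₂ (h ▸ hφ)
  have ho1 : ∀ φ ∈ S₁, classInner χ φ = 0 := fun φ hφ =>
    hS.orthogonal χ hχ φ (hS₁ hφ) (hχne φ hφ).symm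
  have ho2 : ∀ φ ∈ S₁, classInner φ χ = 0 := fun φ hφ =>
    hS.orthogonal φ (hS₁ hφ) χ hχ (hχne φ hφ)
  have ho3 : ∀ φ ∈ S₁, classInner φ (conjFun χ) = 0 := fun φ hφ =>
    hS.orthogonal φ (hS₁ hφ) _ hχc (hχcne φ hφ)
  have ho3' : ∀ φ ∈ S₁, classInner (conjFun χ) φ = 0 := fun φ hφ =>
    hS.orthogonal _ hχc φ (hS₁ hφ) (hχcne φ hφ).symm
  have ho4 : classInner χ (conjFun χ) = 0 :=
    hS.orthogonal χ hχ _ hχc (hS.conj_ne χ hχ).symm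
  have ho5 : classInner (conjFun χ) χ = 0 := hS.orthogonal _ hχc χ hχ (hS.conj_ne χ hχ)
  have hτ₁iso : ∀ φ ∈ S₁, ∀ ψ ∈ S₁, classInner (τ₁ φ) (τ₁ ψ) = classInner φ ψ :=
    fun φ hφ ψ hψ => hτ₁.2.2.1 _ (hspan₁ φ hφ) _ (hspan₁ ψ hψ)
  have hτ₁g : ∀ φ ∈ S₁, IsGeneralizedCharacter G (τ₁ φ) := fun φ hφ =>
    hτ₁.2.2.2 _ (hspan₁ φ hφ)
  have hRself : ∀ α ∈ R χ, classInner α α = 1 := fun α hα => R_self hS hχ hα
  have hRne : ∀ α ∈ R χ, ∀ β ∈ R χ, α ≠ β → classInner α β = 0 :=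
    fun α hα β hβ h => R_ne hS hχ hα hβ h
  -- `τ₁ φ` lies in the span of `R φ`, hence is orthogonal to `R χ`
  have hcross : ∀ φ ∈ S₁, ∀ α ∈ R χ, classInner (τ₁ φ) α = 0 := by
    intro φ hφ α hα
    have hφS := hS₁ hφ
    have hφc := hS₁c φ hφ
    have hsub : τ₁ φ - τ₁ (conjFun φ) = ∑ β ∈ R φ, β := by
      rw [← hS.sum_eq φ hφS, ← hagree _ (sub_mem_zspanOn_compl (Finset.mem_coe.mpr hφ)
        (Finset.mem_coe.mpr hφc) (conj_apply_one hS hφS).symm)]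
      exact (tau_sub hτ₁ (hspan₁ φ hφ) (hspan₁ _ hφc) (zspan_neg (hspan₁ _ hφc))).symm
    have hproj := eq_proj_of_sub (R φ) (fun β hβ => R_self hS hφS hβ)
      (fun β hβ γ hγ h => R_ne hS hφS hβ hγ h) (fun β hβ => hS.virtual φ hφS β hβ)
      (hτ₁g φ hφ) (hτ₁g _ hφc) (by rw [hτ₁iso φ hφ φ hφ, hn φ hφS])
      (by rw [hτ₁iso _ hφc _ hφc, conj_norm φ (hn φ hφS)]) hsub (card_R hS hφS (hn φ hφS))
    rw [hproj, classInner_sum_left]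
    refine Finset.sum_eq_zero fun β hβ => ?_
    rw [classInner_smul_left, R_disj hS hχ hφS (hχne φ hφ) (hχcne φ hφ) hβ hα, mul_zero]
  have hcross' : ∀ φ ∈ S₁, ∀ α ∈ R χ, classInner α (τ₁ φ) = 0 := by
    intro φ hφ α hα
    rw [Cfsg.Agent.Lib.CT.Clifford.classInner_conj_symm, hcross φ hφ α hα, map_zero]
  -- `Θ` and `Δ`
  have hΘmem : χ - (a : ℤ) • χ₁ ∈ zspanOn S ({1}ᶜ : Set L) := by
    refine ⟨zspan_sub (zspan_subset hχ) (zspan_zsmul (zspan_subset hχ₁') _), fun x hx => ?_⟩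
    have hx' : x = 1 := by
      by_contra h
      exact hx h
    rw [hx', Pi.sub_apply, Pi.smul_apply, hd χ hχ, hd χ₁ hχ₁', ha]
    push_cast
    simp
    ring
  obtain ⟨Θ, hΘ⟩ : ∃ Θ, Θ = τ (χ - (a : ℤ) • χ₁) := ⟨_, rfl⟩
  have hΘg : IsGeneralizedCharacter G Θ := hΘ ▸ hτiso.2.2.2 _ hΘmem
  obtain ⟨Δ, hΔ⟩ : ∃ Δ, Δ = Θ + (a : ℤ) • τ₁ χ₁ := ⟨_, rfl⟩
  have hΔg : IsGeneralizedCharacter G Δ := by
    rw [hΔ]
    exact isGeneralizedCharacter_add hΘg (isGeneralizedCharacter_zsmul (hτ₁g χ₁ hχ₁S) _)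
  have hD1 : ∀ β ∈ zspanOn (↑S₁ : Set (L → ℂ)) ({1}ᶜ : Set L), classInner Δ (τ₁ β) = 0 := by
    intro β hβ
    rw [hΔ, classInner_add_left, classInner_intCast_smul_left,
      hτ₁.2.2.1 _ (hspan₁ χ₁ hχ₁S) _ hβ.1, hagree β hβ, hΘ,
      hτiso.2.2.1 _ hΘmem _ (zspanOn_mono hS₁ hβ), classInner_sub_left,
      classInner_intCast_smul_left, classInner_zspan_right S₁ χ ho1 hβ.1]
    ring
  have hwint : ∀ φ ∈ S₁, ∃ w : ℤ, classInner Δ (τ₁ φ) = w := fun φ hφ =>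
    classInner_genChar_int hΔg (hτ₁g φ hφ)
  choose! w hw using hwint
  have hD3 : ∀ φ ∈ S₁, (d χ₁ : ℤ) * w φ = (d φ : ℤ) * w χ₁ := by
    intro φ hφ
    have hβ : (d χ₁ : ℤ) • φ - (d φ : ℤ) • χ₁ ∈ zspanOn (↑S₁ : Set (L → ℂ)) ({1}ᶜ : Set L) := by
      refine ⟨zspan_sub (zspan_zsmul (hspan₁ φ hφ) _) (zspan_zsmul (hspan₁ χ₁ hχ₁S) _),
        fun x hx => ?_⟩
      have hx' : x = 1 := by
        by_contra h
        exact hx h
      rw [hx', Pi.sub_apply, Pi.smul_apply, Pi.smul_apply, hd φ (hS₁ hφ), hd χ₁ hχ₁']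
      simp
      ring
    have h1 := hD1 _ hβ
    have hlin : τ₁ ((d χ₁ : ℤ) • φ - (d φ : ℤ) • χ₁)
        = (d χ₁ : ℤ) • τ₁ φ - (d φ : ℤ) • τ₁ χ₁ := by
      rw [tau_sub hτ₁ (zspan_zsmul (hspan₁ φ hφ) _) (zspan_zsmul (hspan₁ χ₁ hχ₁S) _)
        (zspan_neg (zspan_zsmul (hspan₁ χ₁ hχ₁S) _)), hτ₁.2.1 _ (hspan₁ φ hφ),
        hτ₁.2.1 _ (hspan₁ χ₁ hχ₁S)]
    rw [hlin, classInner_sub_right, classInner_intCast_smul_right, classInner_intCast_smul_right,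
      hw φ hφ, hw χ₁ hχ₁S] at h1
    have h2 : (((d χ₁ : ℤ) * w φ - (d φ : ℤ) * w χ₁ : ℤ) : ℂ) = 0 := by
      push_cast
      exact h1
    have h3 : (d χ₁ : ℤ) * w φ - (d φ : ℤ) * w χ₁ = 0 := by exact_mod_cast h2
    linarith
  have hΘΘ : classInner Θ Θ = (n χ : ℂ) + (a : ℂ) ^ 2 * (n χ₁ : ℂ) := by
    rw [hΘ, hτiso.2.2.1 _ hΘmem _ hΘmem]
    simp only [classInner_sub_left, classInner_sub_right, classInner_intCast_smul_left,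
      classInner_intCast_smul_right]
    rw [hn χ hχ, hn χ₁ hχ₁', ho1 χ₁ hχ₁S, ho2 χ₁ hχ₁S]
    push_cast
    ring
  have hΔΔ : classInner Δ Δ = (n χ : ℂ) + 2 * (a : ℂ) * (w χ₁ : ℂ) := by
    have hΘeq : Θ = Δ - (a : ℤ) • τ₁ χ₁ := by rw [hΔ, add_sub_cancel_right]
    have h1 := hΘΘ
    rw [hΘeq] at h1
    simp only [classInner_sub_left, classInner_sub_right, classInner_intCast_smul_left,
      classInner_intCast_smul_right] at h1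
    rw [hw χ₁ hχ₁S, Cfsg.Agent.Lib.CT.Clifford.classInner_conj_symm (τ₁ χ₁) Δ, hw χ₁ hχ₁S,
      hτ₁iso χ₁ hχ₁S χ₁ hχ₁S, hn χ₁ hχ₁', map_intCast] at h1
    push_cast at h1
    linear_combination h1
  have hzint : ∀ α ∈ R χ, ∃ z : ℤ, classInner Δ α = z := fun α hα =>
    classInner_genChar_int hΔg (hS.virtual χ hχ α hα)
  choose! z hz using hzint
  have hΔτ : classInner Δ (τ (χ - conjFun χ)) = (n χ : ℂ) := by
    rw [hΔ, classInner_add_left, hΘ, hτiso.2.2.1 _ hΘmem _ (sub_conj_mem hS hχ),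
      classInner_intCast_smul_left, hS.sum_eq χ hχ, classInner_sum_right,
      Finset.sum_eq_zero (fun α hα => hcross χ₁ hχ₁S α hα)]
    simp only [classInner_sub_left, classInner_sub_right, classInner_intCast_smul_left]
    rw [hn χ hχ, ho4, ho2 χ₁ hχ₁S, ho3 χ₁ hχ₁S]
    ring
  have hzsum : ∑ α ∈ R χ, z α = (n χ : ℤ) := by
    have e1 := hΔτ
    rw [hS.sum_eq χ hχ, classInner_sum_right, Finset.sum_congr rfl (fun α hα => hz α hα)] at e1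
    have : ((∑ α ∈ R χ, z α : ℤ) : ℂ) = ((n χ : ℤ) : ℂ) := by
      push_cast
      exact e1
    exact_mod_cast this
  -- Bessel for the orthogonal family `R χ ⊔ τ₁ S₁`
  let wf : (G → ℂ) ⊕ (L → ℂ) → (G → ℂ) := Sum.elim id τ₁
  let N : (G → ℂ) ⊕ (L → ℂ) → ℕ := Sum.elim (fun _ => 1) n
  have hN : ∀ i ∈ (R χ).disjSum S₁, N i ≠ 0 := by
    rintro (α | φ) hi
    · exact one_ne_zero
    · exact hn0 φ (hS₁ (Finset.inr_mem_disjSum.mp hi))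
  have hself : ∀ i ∈ (R χ).disjSum S₁, classInner (wf i) (wf i) = (N i : ℂ) := by
    rintro (α | φ) hi
    · have hα := Finset.inl_mem_disjSum.mp hi
      show classInner α α = ((1 : ℕ) : ℂ)
      rw [hRself α hα, Nat.cast_one]
    · have hφ := Finset.inr_mem_disjSum.mp hi
      show classInner (τ₁ φ) (τ₁ φ) = (n φ : ℂ)
      rw [hτ₁iso φ hφ φ hφ, hn φ (hS₁ hφ)]
  have horth : ∀ i ∈ (R χ).disjSum S₁, ∀ j ∈ (R χ).disjSum S₁, i ≠ j →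
      classInner (wf i) (wf j) = 0 := by
    rintro (α | φ) hi (β | ψ) hj hne
    · exact hRne α (Finset.inl_mem_disjSum.mp hi) β (Finset.inl_mem_disjSum.mp hj)
        (fun h => hne (by rw [h]))
    · exact hcross' ψ (Finset.inr_mem_disjSum.mp hj) α (Finset.inl_mem_disjSum.mp hi)
    · exact hcross φ (Finset.inr_mem_disjSum.mp hi) β (Finset.inl_mem_disjSum.mp hj)
    · have hφ := Finset.inr_mem_disjSum.mp hi
      have hψ := Finset.inr_mem_disjSum.mp hj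
      show classInner (τ₁ φ) (τ₁ ψ) = 0
      rw [hτ₁iso φ hφ ψ hψ]
      exact hS.orthogonal φ (hS₁ hφ) ψ (hS₁ hψ) (fun h => hne (by rw [h]))
  have hbsum : ∑ i ∈ (R χ).disjSum S₁, ‖classInner Δ (wf i)‖ ^ 2 / (N i : ℝ)
      = ((∑ α ∈ R χ, z α ^ 2 : ℤ) : ℝ) + ∑ φ ∈ S₁, ((w φ : ℝ)) ^ 2 / (n φ : ℝ) := by
    rw [Finset.sum_disjSum]
    congr 1
    · push_cast
      refine Finset.sum_congr rfl fun α hα => ?_
      show ‖classInner Δ α‖ ^ 2 / ((1 : ℕ) : ℝ) = _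
      rw [hz α hα, Complex.norm_intCast, sq_abs, Nat.cast_one, div_one]
    · refine Finset.sum_congr rfl fun φ hφ => ?_
      show ‖classInner Δ (τ₁ φ)‖ ^ 2 / (n φ : ℝ) = _
      rw [hw φ hφ, Complex.norm_intCast, sq_abs]
  have hbes := bessel_le ((R χ).disjSum S₁) wf N hN hself horth Δ
  have hre : (classInner Δ Δ).re = (n χ : ℝ) + 2 * (a : ℝ) * (w χ₁ : ℝ) := by
    have : classInner Δ Δ = (((n χ : ℝ) + 2 * (a : ℝ) * (w χ₁ : ℝ) : ℝ) : ℂ) := by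
      rw [hΔΔ]
      push_cast
      ring
    rw [this, Complex.ofReal_re]
  rw [hbsum, hre] at hbes
  have hD : ∑ φ ∈ S₁, ((w φ : ℝ)) ^ 2 / (n φ : ℝ)
      = ((w χ₁ : ℝ)) ^ 2 / ((d χ₁ : ℝ)) ^ 2 * ∑ φ ∈ S₁, ((d φ : ℝ) ^ 2 / (n φ : ℝ)) := by
    rw [Finset.mul_sum]
    refine Finset.sum_congr rfl fun φ hφ => ?_
    have h3 : ((d χ₁ : ℝ)) * (w φ : ℝ) = (d φ : ℝ) * (w χ₁ : ℝ) := by exact_mod_cast hD3 φ hφ
    have hd1 : (d χ₁ : ℝ) ≠ 0 := by exact_mod_cast hd0 χ₁ hχ₁'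
    have h4 : (w φ : ℝ) = (d φ : ℝ) * (w χ₁ : ℝ) / (d χ₁ : ℝ) := by
      field_simp
      linarith
    rw [h4]
    field_simp
  have hzge : (n χ : ℝ) ≤ ((∑ α ∈ R χ, z α ^ 2 : ℤ) : ℝ) := by
    have := sum_le_sum_sq (R χ) z
    rw [hzsum] at this
    exact_mod_cast this
  have hw0 : w χ₁ = 0 := by
    by_contra hne
    have hd1 : (0 : ℝ) < (d χ₁ : ℝ) := by exact_mod_cast Nat.pos_of_ne_zero (hd0 χ₁ hχ₁')
    have hdχ : (d χ : ℝ) = (d χ₁ : ℝ) * (a : ℝ) := by exact_mod_cast ha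
    have hdχ0 : (0 : ℝ) ≤ (d χ : ℝ) := Nat.cast_nonneg _
    rw [hD] at hbes
    generalize ∑ φ ∈ S₁, ((d φ : ℝ) ^ 2 / (n φ : ℝ)) = D at hbes hineq
    have h1 : (w χ₁ : ℝ) ^ 2 / (d χ₁ : ℝ) ^ 2 * D ≤ 2 * (a : ℝ) * (w χ₁ : ℝ) := by linarith
    have h2 : (w χ₁ : ℝ) ^ 2 * D ≤ 2 * (w χ₁ : ℝ) * (d χ : ℝ) * (d χ₁ : ℝ) := by
      have h1' := mul_le_mul_of_nonneg_right h1 (sq_nonneg (d χ₁ : ℝ))
      have e : (w χ₁ : ℝ) ^ 2 / (d χ₁ : ℝ) ^ 2 * D * (d χ₁ : ℝ) ^ 2 = (w χ₁ : ℝ) ^ 2 * D := by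
        field_simp
      rw [e] at h1'
      rw [hdχ]
      linarith
    have hDpos : 0 < D := by nlinarith [mul_nonneg hdχ0 hd1.le]
    rcases lt_or_gt_of_ne hne with hneg | hpos
    · have hW : (w χ₁ : ℝ) < 0 := by exact_mod_cast hneg
      have h3 : 0 < (w χ₁ : ℝ) ^ 2 * D := by positivity
      have h4 : 2 * (w χ₁ : ℝ) * (d χ : ℝ) * (d χ₁ : ℝ) ≤ 0 := by
        nlinarith [mul_nonneg hdχ0 hd1.le]
      linarith
    · have hW : (1 : ℝ) ≤ (w χ₁ : ℝ) := by exact_mod_cast hpos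
      have h3 : 2 * (w χ₁ : ℝ) * (d χ : ℝ) * (d χ₁ : ℝ) < (w χ₁ : ℝ) * D := by nlinarith
      have h4 : (w χ₁ : ℝ) * D ≤ (w χ₁ : ℝ) ^ 2 * D := by
        have h5 : 0 ≤ ((w χ₁ : ℝ) - 1) * ((w χ₁ : ℝ) * D) :=
          mul_nonneg (by linarith) (mul_nonneg (by linarith) hDpos.le)
        nlinarith [h5]
      linarith
  have hwall : ∀ φ ∈ S₁, w φ = 0 := by
    intro φ hφ
    have := hD3 φ hφ
    rw [hw0, mul_zero] at this
    rcases mul_eq_zero.mp this with h | h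
    · exact absurd (by exact_mod_cast h) (hd0 χ₁ hχ₁')
    · exact h
  have hsumw0 : ∑ φ ∈ S₁, ((w φ : ℝ)) ^ 2 / (n φ : ℝ) = 0 :=
    Finset.sum_eq_zero fun φ hφ => by
      rw [hwall φ hφ]
      simp
  rw [hsumw0, hw0] at hbes
  have hzle : ∑ α ∈ R χ, z α ^ 2 ≤ ∑ α ∈ R χ, z α := by
    rw [hzsum]
    have : ((∑ α ∈ R χ, z α ^ 2 : ℤ) : ℝ) ≤ ((n χ : ℤ) : ℝ) := by
      push_cast at hbes ⊢
      linarith
    exact_mod_cast this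
  have hz01 := int_zero_or_one_of_sum (R χ) z hzle
  have hΔΔ' : classInner Δ Δ = (n χ : ℂ) := by
    rw [hΔΔ, hw0]
    simp
  have hge : (classInner Δ Δ).re
      ≤ ∑ i ∈ (R χ).disjSum S₁, ‖classInner Δ (wf i)‖ ^ 2 / (N i : ℝ) := by
    rw [hbsum, hsumw0, hΔΔ', add_zero, Complex.natCast_re]
    exact hzge
  have hΔeq := bessel_eq ((R χ).disjSum S₁) wf N hN hself horth Δ hge
  rw [Finset.sum_disjSum] at hΔeq
  obtain ⟨X, hXdef⟩ : ∃ X, X = (R χ).filter (fun α => z α = 1) := ⟨_, rfl⟩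
  have hXs : X ⊆ R χ := hXdef ▸ Finset.filter_subset _ _
  have hXc : X.card = n χ := by
    have := card_filter_eq_one (R χ) z hz01
    rw [← hXdef, hzsum] at this
    exact_mod_cast this
  have hΔX : Δ = ∑ α ∈ X, α := by
    refine hΔeq.trans ?_
    have e2 : ∑ φ ∈ S₁, (classInner Δ (wf (Sum.inr φ)) / (N (Sum.inr φ) : ℂ)) • wf (Sum.inr φ)
        = 0 := by
      refine Finset.sum_eq_zero fun φ hφ => ?_
      show (classInner Δ (τ₁ φ) / (n φ : ℂ)) • τ₁ φ = 0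
      rw [hw φ hφ, hwall φ hφ]
      simp
    rw [e2, add_zero, hXdef, Finset.sum_filter]
    refine Finset.sum_congr rfl fun α hα => ?_
    show (classInner Δ α / ((1 : ℕ) : ℂ)) • α = _
    rw [hz α hα]
    rcases hz01 α hα with h0 | h1
    · rw [h0]
      simp
    · rw [h1]
      simp
  -- inner products of the new values
  have hRR : classInner (τ (χ - conjFun χ)) (τ (χ - conjFun χ)) = 2 * (n χ : ℂ) := by
    rw [hτiso.2.2.1 _ (sub_conj_mem hS hχ) _ (sub_conj_mem hS hχ)]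
    simp only [classInner_sub_left, classInner_sub_right]
    rw [hn χ hχ, conj_norm χ (hn χ hχ), ho4, ho5]
    ring
  have hτΔ : classInner (τ (χ - conjFun χ)) Δ = (n χ : ℂ) := by
    rw [Cfsg.Agent.Lib.CT.Clifford.classInner_conj_symm, hΔτ, Complex.conj_natCast]
  have hΔφ : ∀ φ ∈ S₁, classInner Δ (τ₁ φ) = 0 := fun φ hφ => by
    rw [hw φ hφ, hwall φ hφ, Int.cast_zero]
  have hφΔ : ∀ φ ∈ S₁, classInner (τ₁ φ) Δ = 0 := fun φ hφ => by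
    rw [Cfsg.Agent.Lib.CT.Clifford.classInner_conj_symm, hΔφ φ hφ, map_zero]
  have hτφ : ∀ φ ∈ S₁, classInner (τ (χ - conjFun χ)) (τ₁ φ) = 0 := fun φ hφ => by
    rw [hS.sum_eq χ hχ, classInner_sum_left]
    exact Finset.sum_eq_zero fun α hα => hcross' φ hφ α hα
  have hφτ : ∀ φ ∈ S₁, classInner (τ₁ φ) (τ (χ - conjFun χ)) = 0 := fun φ hφ => by
    rw [Cfsg.Agent.Lib.CT.Clifford.classInner_conj_symm, hτφ φ hφ, map_zero]
  -- the new map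
  let U : (L → ℂ) → (G → ℂ) := fun φ =>
    if φ = χ then Δ else if φ = conjFun χ then Δ - τ (χ - conjFun χ) else τ₁ φ
  have hUχ : U χ = Δ := if_pos rfl
  have hUχc : U (conjFun χ) = Δ - τ (χ - conjFun χ) := by
    show (if conjFun χ = χ then _ else _) = _
    rw [if_neg (hS.conj_ne χ hχ), if_pos rfl]
  have hU₁ : ∀ φ ∈ S₁, U φ = τ₁ φ := by
    intro φ hφ
    show (if φ = χ then _ else _) = _
    rw [if_neg (hχne φ hφ), if_neg (hχcne φ hφ)]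
  obtain ⟨T, hT⟩ : ∃ T : Finset (L → ℂ), T = insert χ (insert (conjFun χ) S₁) := ⟨_, rfl⟩
  have hTmem : ∀ φ ∈ T, φ = χ ∨ φ = conjFun χ ∨ φ ∈ S₁ := by
    intro φ hφ
    rw [hT] at hφ
    simpa using hφ
  have hTS : ∀ φ ∈ T, φ ∈ S := by
    intro φ hφ
    rcases hTmem φ hφ with h | h | h
    · rw [h]; exact hχ
    · rw [h]; exact hχc
    · exact hS₁ h
  have hUg : ∀ φ ∈ T, IsGeneralizedCharacter G (U φ) := by
    intro φ hφ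
    rcases hTmem φ hφ with h | h | h
    · rw [h, hUχ]; exact hΔg
    · rw [h, hUχc]
      exact isGeneralizedCharacter_sub hΔg (hτiso.2.2.2 _ (sub_conj_mem hS hχ))
    · rw [hU₁ φ h]; exact hτ₁g φ h
  have hUorth : ∀ φ ∈ T, ∀ ψ ∈ T, classInner (U φ) (U ψ) = classInner φ ψ := by
    intro φ hφ ψ hψ
    rcases hTmem φ hφ with h | h | h <;> rcases hTmem ψ hψ with h' | h' | h'
    · rw [h, h', hUχ, hΔΔ', hn χ hχ]
    · rw [h, h', hUχ, hUχc, classInner_sub_right, hΔΔ', hΔτ, ho4, sub_self]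
    · rw [h, hUχ, hU₁ ψ h', hΔφ ψ h', ho1 ψ h']
    · rw [h, h', hUχ, hUχc, classInner_sub_left, hΔΔ', hτΔ, ho5, sub_self]
    · rw [h, h', hUχc, classInner_sub_left, classInner_sub_right, classInner_sub_right, hΔΔ',
        hΔτ, hτΔ, hRR, conj_norm χ (hn χ hχ)]
      ring
    · rw [h, hUχc, hU₁ ψ h', classInner_sub_left, hΔφ ψ h', hτφ ψ h', ho3' ψ h', sub_zero]
    · rw [h', hUχ, hU₁ φ h, hφΔ φ h, ho2 φ h]
    · rw [h', hUχc, hU₁ φ h, classInner_sub_right, hφΔ φ h, hφτ φ h, ho3 φ h, sub_zero]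
    · rw [hU₁ φ h, hU₁ ψ h', hτ₁iso φ h ψ h']
  obtain ⟨τ₂, hτ₂, hval⟩ := extension T n (fun φ hφ => hn0 φ (hTS φ hφ))
    (fun φ hφ => hn φ (hTS φ hφ))
    (fun φ hφ ψ hψ h => hS.orthogonal φ (hTS φ hφ) ψ (hTS ψ hψ) h) U hUg hUorth
  have hTset : (↑T : Set (L → ℂ)) = ↑S₁ ∪ {χ, conjFun χ} := by
    rw [hT]
    ext φ
    simp only [Finset.coe_insert, Set.mem_insert_iff, Finset.mem_coe, Set.mem_union,
      Set.mem_singleton_iff]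
    tauto
  rw [hTset] at hτ₂
  have hsub : ↑S₁ ∪ {χ, conjFun χ} ⊆ S := by
    intro φ hφ
    rcases hφ with h | h | h
    · exact hS₁ h
    · rw [h]; exact hχ
    · rw [Set.mem_singleton_iff.mp h]; exact hχc
  refine ⟨⟨χ - conjFun χ, sub_mem_zspanOn_compl (Or.inr (Or.inl rfl)) (Or.inr (Or.inr rfl))
    (conj_apply_one hS hχ).symm, sub_conj_ne_zero hS hχ⟩, τ₂, hτ₂, ?_⟩
  intro α hα
  have hα' : α ∈ zspan (T : Set (L → ℂ)) := by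
    rw [hTset]
    exact hα.1
  obtain ⟨c, rfl⟩ := mem_zspan_finset T hα'
  rw [hval]
  have hnot1 : χ ∉ insert (conjFun χ) S₁ := by
    intro h
    rcases Finset.mem_insert.mp h with h | h
    · exact hS.conj_ne χ hχ h.symm
    · exact hχ₁ h
  have hsplit : ∀ f : (L → ℂ) → (L → ℂ), ∑ φ ∈ T, f φ
      = f χ + (f (conjFun χ) + ∑ φ ∈ S₁, f φ) := by
    intro f
    rw [hT, Finset.sum_insert hnot1, Finset.sum_insert hχ₂]
  have hsplit' : ∀ f : (L → ℂ) → (G → ℂ), ∑ φ ∈ T, f φ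
      = f χ + (f (conjFun χ) + ∑ φ ∈ S₁, f φ) := by
    intro f
    rw [hT, Finset.sum_insert hnot1, Finset.sum_insert hχ₂]
  rw [hsplit', hUχ, hUχc, Finset.sum_congr rfl (fun φ hφ => by rw [hU₁ φ hφ])]
  rw [hsplit] at hα ⊢
  generalize hm : c χ = m at hα ⊢
  generalize hm' : c (conjFun χ) = m' at hα ⊢
  obtain ⟨β₁, hβ₁⟩ : ∃ β₁, β₁ = ∑ φ ∈ S₁, c φ • φ := ⟨_, rfl⟩
  have hβ₁span : β₁ ∈ zspan (↑S₁ : Set (L → ℂ)) := by
    rw [hβ₁]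
    exact zspan_sum S₁ _ fun φ hφ => zspan_zsmul (hspan₁ φ hφ) _
  have hτ₁β₁ : τ₁ β₁ = ∑ φ ∈ S₁, c φ • τ₁ φ := by
    rw [hβ₁]
    exact tau_lin_comb hτ₁ S₁ (Set.Subset.refl _) c
  rw [← hβ₁] at hα ⊢
  rw [← hτ₁β₁]
  -- β₂
  have hβ₂ : β₁ + ((m + m') * (a : ℤ)) • χ₁ ∈ zspanOn (↑S₁ : Set (L → ℂ)) ({1}ᶜ : Set L) := by
    refine ⟨zspan_add hβ₁span (zspan_zsmul (hspan₁ χ₁ hχ₁S) _), fun x hx => ?_⟩
    have hx' : x = 1 := by
      by_contra h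
      exact hx h
    have h1 := hα.2 1 (by simp)
    rw [Pi.add_apply, Pi.add_apply, Pi.smul_apply, Pi.smul_apply, conj_apply_one hS hχ,
      hd χ hχ, ha] at h1
    rw [hx', Pi.add_apply, Pi.smul_apply, hd χ₁ hχ₁']
    push_cast at h1 ⊢
    simp only [zsmul_eq_mul] at h1 ⊢
    push_cast
    linear_combination h1
  have hdecomp : m • χ + (m' • conjFun χ + β₁)
      = (β₁ + ((m + m') * (a : ℤ)) • χ₁)
        + ((m + m') • (χ - (a : ℤ) • χ₁) + (-m') • (χ - conjFun χ)) := by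
    simp only [smul_sub, add_smul, neg_smul, mul_smul]
    abel
  have hmem2 : (m + m') • (χ - (a : ℤ) • χ₁) + (-m') • (χ - conjFun χ)
      ∈ zspanOn S ({1}ᶜ : Set L) :=
    zspanOn_add (zspanOn_zsmul hΘmem _) (zspanOn_zsmul (sub_conj_mem hS hχ) _)
  rw [hdecomp, hτiso.1 _ (zspanOn_mono hS₁ hβ₂) _ hmem2,
    hτiso.1 _ (zspanOn_zsmul hΘmem _) _ (zspanOn_zsmul (sub_conj_mem hS hχ) _),
    hτiso.2.1 _ hΘmem, hτiso.2.1 _ (sub_conj_mem hS hχ), ← hagree _ hβ₂,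
    hτ₁.1 _ hβ₁span _ (zspan_zsmul (hspan₁ χ₁ hχ₁S) _), hτ₁.2.1 _ (hspan₁ χ₁ hχ₁S), ← hΘ, hΔ]
  simp only [smul_sub, smul_add, add_smul, neg_smul, mul_smul]
  abel

end Cfsg.Agent.S1516
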