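import Cfsg.Statements.S1517
import Cfsg.Agent.Lib.Helper76.Coherence

set_option autoImplicit false
open Cfsg

namespace Cfsg.Agent.S1517

open scoped ComplexConjugate
open Cfsg.Agent.Lib.Helper26.GenChar Cfsg.Agent.Lib.CT.Orth Cfsg.Agent.Lib.Helper76.Coherence

/-- Let (S, τ, R) be a coherence system from L to G such that φ 1 = ψ 1 for all φ, ψ ∈ S. Then (S, L minus 1, τ) is coherent. -/
theorem result {L : Type*} [Group L] [Fintype L] {G : Type*} [Group G] [Fintype G] (S : Set (L → ℂ)) (τ : (L → ℂ) → (G → ℂ)) (R : (L → ℂ) → Finset (G → ℂ)) (hS : Cfsg.IsCoherenceSystem S τ R) (hdeg : ∀ φ ∈ S, ∀ ψ ∈ S, φ 1 = ψ 1) : Cfsg.IsCoherent S {1}ᶜ τ := by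
  classical
  obtain ⟨χ, hχ⟩ := hS.nonempty
  have hfin := finite_of_system hS
  have hnorm : ∀ φ ∈ S, ∃ n : ℕ, n ≠ 0 ∧ classInner φ φ = (n : ℂ) :=
    fun φ hφ => exists_norm hS hφ
  choose! n hn0 hn using hnorm
  obtain ⟨d, hd0, hd⟩ := exists_deg hS hχ
  have hdeg' : ∀ φ ∈ S, φ 1 = (d : ℂ) := fun φ hφ => (hdeg φ hφ χ hχ).trans hd
  have hχ' := hS.conj_mem χ hχ
  have hmemsub : ∀ φ ∈ S, χ - φ ∈ zspanOn S ({1}ᶜ : Set L) :=
    fun φ hφ => sub_mem_zspanOn_compl hχ hφ (hdeg χ hχ φ hφ)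
  have hτiso := hS.isometry
  have hRself : ∀ α ∈ R χ, classInner α α = 1 := fun α hα => R_self hS hχ hα
  have hRne : ∀ α ∈ R χ, ∀ β ∈ R χ, α ≠ β → classInner α β = 0 :=
    fun α hα β hβ h => R_ne hS hχ hα hβ h
  have hX : ∃ X : Finset (G → ℂ), X ⊆ R χ ∧ X.card = n χ ∧ ∀ φ ∈ S, φ ≠ χ → φ ≠ conjFun χ →
      classInner (τ (χ - φ)) (∑ α ∈ X, α) = (n χ : ℂ) := by
    by_cases h : ∃ φ₀ ∈ S, φ₀ ≠ χ ∧ φ₀ ≠ conjFun χ
    · obtain ⟨φ₀, hφ₀, h1, h2⟩ := h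
      obtain ⟨X, Y, hXs, hYs, hXc, hYc, hdec⟩ :=
        decomp hS hχ hφ₀ h1 h2 (hdeg χ hχ φ₀ hφ₀) (hn χ hχ) (hn φ₀ hφ₀)
      refine ⟨X, hXs, hXc, ?_⟩
      intro φ hφ h1' h2'
      have hXX : classInner (∑ α ∈ X, α) (∑ α ∈ X, α) = (n χ : ℂ) := by
        rw [classInner_sum_subsets (R χ) X X hRself hRne hXs hXs, Finset.inter_self, hXc]
      have hYX : classInner (∑ β ∈ Y, β) (∑ α ∈ X, α) = 0 :=
        classInner_sum_orth Y X fun β hβ α hα => R_disj hS hχ hφ₀ h1 h2 (hYs hβ) (hXs hα)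
      by_cases e1 : φ = φ₀
      · rw [e1, hdec, classInner_sub_left, hXX, hYX, sub_zero]
      by_cases e2 : φ = conjFun φ₀
      · have e3 : χ - conjFun φ₀ = (χ - φ₀) + (φ₀ - conjFun φ₀) := by abel
        rw [e2, e3, hτiso.1 _ (hmemsub φ₀ hφ₀) _ (sub_conj_mem hS hφ₀), hdec, hS.sum_eq φ₀ hφ₀,
          classInner_add_left, classInner_sub_left, hXX, hYX,
          classInner_sum_orth (R φ₀) X
            (fun β hβ α hα => R_disj hS hχ hφ₀ h1 h2 hβ (hXs hα))]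
        ring
      · obtain ⟨X', Y', hXs', hYs', hXc', hYc', hdec'⟩ :=
          decomp hS hχ hφ h1' h2' (hdeg χ hχ φ hφ) (hn χ hχ) (hn φ hφ)
        have e3 : classInner (τ (χ - φ)) (τ (χ - φ₀)) = classInner (χ - φ) (χ - φ₀) :=
          hτiso.2.2.1 _ (hmemsub φ hφ) _ (hmemsub φ₀ hφ₀)
        rw [classInner_sub_left, classInner_sub_right, classInner_sub_right, hn χ hχ,
          hS.orthogonal χ hχ φ₀ hφ₀ (Ne.symm h1), hS.orthogonal φ hφ χ hχ h1',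
          hS.orthogonal φ hφ φ₀ hφ₀ e1] at e3
        rw [hdec, classInner_sub_right] at e3
        have e4 : classInner (τ (χ - φ)) (∑ β ∈ Y, β) = 0 := by
          rw [hdec', classInner_sub_left,
            classInner_sum_orth X' Y
              (fun α hα β hβ => R_disj' hS hχ hφ₀ h1 h2 (hYs hβ) (hXs' hα)),
            classInner_sum_orth Y' Y
              (fun α hα β hβ => R_disj hS hφ₀ hφ e1 e2 (hYs' hα) (hYs hβ)), sub_zero]
        rw [e4] at e3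
        linear_combination e3
    · have hc := card_R hS hχ (hn χ hχ)
      obtain ⟨X, hXs, hXc⟩ := Finset.exists_subset_card_eq (s := R χ) (n := n χ) (by omega)
      refine ⟨X, hXs, hXc, ?_⟩
      intro φ hφ h1 h2
      exact absurd ⟨φ, hφ, h1, h2⟩ h
  obtain ⟨X, hXs, hXc, hXφ⟩ := hX
  generalize hA : ∑ α ∈ X, α = A at hXφ
  have hAg : IsGeneralizedCharacter G A := by
    rw [← hA]
    exact isGeneralizedCharacter_sum X _ fun α hα => hS.virtual χ hχ α (hXs hα)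
  have hAA : classInner A A = (n χ : ℂ) := by
    rw [← hA, classInner_sum_subsets (R χ) X X hRself hRne hXs hXs, Finset.inter_self, hXc]
  have hτ0 : τ 0 = 0 := tau_zero hτiso zspanOn_zero
  have hK : ∀ φ ∈ S, classInner (τ (χ - φ)) A = (n χ : ℂ) - classInner φ χ := by
    intro φ hφ
    by_cases e1 : φ = χ
    · rw [e1, sub_self, hτ0, classInner_zero_left, hn χ hχ, sub_self]
    by_cases e2 : φ = conjFun χ
    · rw [e2, hS.sum_eq χ hχ, ← hA,
        classInner_sum_subsets (R χ) (R χ) X hRself hRne (Finset.Subset.refl _) hXs,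
        Finset.inter_eq_right.mpr hXs, hXc, hS.orthogonal _ hχ' χ hχ (hS.conj_ne χ hχ), sub_zero]
    · rw [hXφ φ hφ e1 e2, hS.orthogonal φ hφ χ hχ e1, sub_zero]
  let U : (L → ℂ) → (G → ℂ) := fun φ => A - τ (χ - φ)
  have hUdef : ∀ φ, U φ = A - τ (χ - φ) := fun _ => rfl
  have hUg : ∀ φ ∈ S, IsGeneralizedCharacter G (U φ) := fun φ hφ =>
    isGeneralizedCharacter_sub hAg (hτiso.2.2.2 _ (hmemsub φ hφ))
  have hUorth : ∀ φ ∈ S, ∀ ψ ∈ S, classInner (U φ) (U ψ) = classInner φ ψ := by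
    intro φ hφ ψ hψ
    rw [hUdef, hUdef, classInner_sub_left, classInner_sub_right, classInner_sub_right, hAA,
      hK φ hφ, Cfsg.Agent.Lib.CT.Clifford.classInner_conj_symm A (τ (χ - ψ)), hK ψ hψ,
      hτiso.2.2.1 _ (hmemsub φ hφ) _ (hmemsub ψ hψ), classInner_sub_left, classInner_sub_right,
      classInner_sub_right, hn χ hχ, map_sub, Complex.conj_natCast,
      ← Cfsg.Agent.Lib.CT.Clifford.classInner_conj_symm χ ψ]
    ring
  obtain ⟨τ₁, hτ₁, hval⟩ := extension hfin.toFinset n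
    (fun φ hφ => hn0 φ (hfin.mem_toFinset.mp hφ))
    (fun φ hφ => hn φ (hfin.mem_toFinset.mp hφ))
    (fun φ hφ ψ hψ h => hS.orthogonal φ (hfin.mem_toFinset.mp hφ) ψ (hfin.mem_toFinset.mp hψ) h)
    U (fun φ hφ => hUg φ (hfin.mem_toFinset.mp hφ))
    (fun φ hφ ψ hψ => hUorth φ (hfin.mem_toFinset.mp hφ) ψ (hfin.mem_toFinset.mp hψ))
  rw [hfin.coe_toFinset] at hτ₁
  refine ⟨⟨χ - conjFun χ, sub_conj_mem hS hχ, sub_conj_ne_zero hS hχ⟩, τ₁, hτ₁, ?_⟩
  intro α hα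
  have hα' : α ∈ zspan (hfin.toFinset : Set (L → ℂ)) := by
    rw [hfin.coe_toFinset]
    exact hα.1
  obtain ⟨c, rfl⟩ := mem_zspan_finset hfin.toFinset hα'
  rw [hval]
  have hc0 : ∑ φ ∈ hfin.toFinset, c φ = 0 := by
    have h1 := hα.2 1 (by simp)
    rw [Finset.sum_apply] at h1
    have h2 : ∑ φ ∈ hfin.toFinset, (c φ • φ) 1
        = ((∑ φ ∈ hfin.toFinset, c φ : ℤ) : ℂ) * (d : ℂ) := by
      push_cast
      rw [Finset.sum_mul]
      refine Finset.sum_congr rfl fun φ hφ => ?_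
      rw [Pi.smul_apply, hdeg' φ (hfin.mem_toFinset.mp hφ)]
      simp
    rw [h2] at h1
    rcases mul_eq_zero.mp h1 with h | h
    · exact_mod_cast h
    · exact absurd (by exact_mod_cast h) hd0
  have e1 : ∑ φ ∈ hfin.toFinset, c φ • φ = ∑ φ ∈ hfin.toFinset, (-c φ) • (χ - φ) := by
    have : ∑ φ ∈ hfin.toFinset, (-c φ) • (χ - φ)
        = -((∑ φ ∈ hfin.toFinset, c φ) • χ) + ∑ φ ∈ hfin.toFinset, c φ • φ := by
      rw [Finset.sum_smul, ← Finset.sum_neg_distrib, ← Finset.sum_add_distrib]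
      refine Finset.sum_congr rfl fun φ _ => ?_
      rw [neg_smul, smul_sub]
      abel
    rw [this, hc0]
    simp
  have e2 : ∑ φ ∈ hfin.toFinset, c φ • U φ = ∑ φ ∈ hfin.toFinset, (-c φ) • τ (χ - φ) := by
    have : ∑ φ ∈ hfin.toFinset, c φ • U φ
        = (∑ φ ∈ hfin.toFinset, c φ) • A + ∑ φ ∈ hfin.toFinset, (-c φ) • τ (χ - φ) := by
      rw [Finset.sum_smul, ← Finset.sum_add_distrib]
      refine Finset.sum_congr rfl fun φ _ => ?_
      rw [hUdef, neg_smul, smul_sub]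
      abel
    rw [this, hc0]
    simp
  rw [e1, tau_sum hτiso _ _
    (fun φ hφ => zspanOn_zsmul (hmemsub φ (hfin.mem_toFinset.mp hφ)) _), e2]
  refine Finset.sum_congr rfl fun φ hφ => ?_
  exact (hτiso.2.1 _ (hmemsub φ (hfin.mem_toFinset.mp hφ)) _).symm

end Cfsg.Agent.S1517
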