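import Cfsg.Statements.S1492
import Mathlib
import Cfsg.Agent.Lib.Helper3.Irr
import Cfsg.Agent.Lib.Helper3.MGroup
import Cfsg.Agent.Lib.CT.Ops
import Cfsg.Agent.Lib.CT.FrobRec
import Cfsg.Agent.Lib.CT.IndChar
import Cfsg.Agent.Lib.CT.Kernel
import Cfsg.Agent.Lib.CT.NormOne
import Cfsg.Agent.Lib.Helper15.CliffTools
import Cfsg.Agent.Lib.Helper80.Schur

set_option autoImplicit false
open Cfsg

namespace Cfsg.Agent.S1492

open Cfsg.Agent.Lib.Helper3.Irr Cfsg.Agent.Lib.Helper3.MGroup Cfsg.Agent.Lib.CT.FrobRec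
open scoped ComplexConjugate

universe u

/-- An element whose commutators all lie in the kernel of an irreducible character lies in the
centre of the character. -/
theorem norm_eq_of_comm {C : Type u} [Group C] [Finite C] {θ : C → ℂ} (h : IsIrrCharacter C θ)
    {z : C} (hz : ∀ x : C, θ (z * x * z⁻¹ * x⁻¹) = θ 1) : ‖θ z‖ = (θ 1).re := by
  obtain ⟨n, ρ, hirr, rfl⟩ := h
  rw [Cfsg.Agent.Lib.CT.Kernel.rep_norm_char_eq_iff]
  have := hirr
  refine Cfsg.Agent.Lib.Helper80.Schur.schur_scalar ρ (ρ z) ?_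
  intro g
  have h1 := (Cfsg.Agent.Lib.CT.Kernel.rep_char_eq_iff ρ (z * g * z⁻¹ * g⁻¹)).1 (hz g)
  have h2 : z * g = (z * g * z⁻¹ * g⁻¹) * (g * z) := by group
  rw [← map_mul, h2, map_mul, h1, one_mul, map_mul]

theorem sum_norm_sq {C : Type u} [Group C] [Fintype C] {θ : C → ℂ} (h : IsIrrCharacter C θ) :
    ∑ c : C, ‖θ c‖ ^ 2 = (Nat.card C : ℝ) := by
  have h1 := Cfsg.Agent.Lib.CT.NormOne.inner_self_eq_one_of_irr h
  unfold classInner at h1
  have hC0 : (Nat.card C : ℂ) ≠ 0 := by exact_mod_cast Nat.card_pos.ne'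
  have h2 : ∑ c : C, θ c * conj (θ c) = (Nat.card C : ℂ) := by
    have := congrArg (fun z => (Nat.card C : ℂ) * z) h1
    simp only [mul_one] at this
    rw [← mul_assoc, mul_inv_cancel₀ hC0, one_mul] at this
    exact this
  have h3 : ∑ c : C, θ c * conj (θ c) = ((∑ c : C, ‖θ c‖ ^ 2 : ℝ) : ℂ) := by
    rw [Complex.ofReal_sum]
    refine Finset.sum_congr rfl (fun c _ => ?_)
    rw [Complex.mul_conj, Complex.normSq_eq_norm_sq]
  rw [h3] at h2
  exact_mod_cast h2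

/-- Let ψ be an irreducible character of the finite group G and B ≤ D ≤ C subgroups with B normal in C, every commutator of an element of D with an element of C lying in B (so D/B is central in C/B), and ψ constant equal to ψ 1 on B. Then ψ(1) ^ 2 * |C| * |D| ≤ |G| ^ 2. -/
theorem result {G : Type*} [Group G] [Finite G] (ψ : G → ℂ) (hψ : Cfsg.IsIrrCharacter G ψ) (B C D : Subgroup G) (hBD : B ≤ D) (hDC : D ≤ C) (hBn : ∀ c ∈ C, ∀ b ∈ B, c * b * c⁻¹ ∈ B) (hcent : ∀ d ∈ D, ∀ c ∈ C, d * c * d⁻¹ * c⁻¹ ∈ B) (hker : ∀ b ∈ B, ψ b = ψ 1) : ‖ψ 1‖ ^ 2 * (Nat.card C : ℝ) * (Nat.card D : ℝ) ≤ (Nat.card G : ℝ) ^ 2 := by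
  classical
  haveI : Fintype G := Fintype.ofFinite G
  haveI : Fintype C := Fintype.ofFinite C
  have hres : IsCharacter C (fun c : C => ψ c) :=
    Cfsg.Agent.Lib.CT.Ops.isCharacter_restrict C (IsIrrCharacter.isCharacter hψ)
  obtain ⟨θ, hθ, hcon⟩ : ∃ θ : C → ℂ, IsIrrCharacter C θ ∧
      classInner (fun c : C => ψ c) θ ≠ 0 := by
    by_contra hno
    push Not at hno
    have h2 := Cfsg.Agent.Lib.Helper15.CliffTools.char_eq_zero_of_no_constituent hres hno
    have h3 := congrFun h2 1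
    exact IsIrrCharacter.apply_one_ne_zero hψ h3
  have hθB : ∀ b : C, (b : G) ∈ B → θ b = θ 1 := fun b hb =>
    constituent_apply_eq hres hθ hcon (hker (b : G) hb)
  have hnorm : ∀ d : C, (d : G) ∈ D → ‖θ d‖ = (θ 1).re := by
    intro d hd
    apply norm_eq_of_comm hθ
    intro x
    apply hθB
    exact hcent (d : G) hd (x : G) x.2
  obtain ⟨t, htpos, ht⟩ := IsIrrCharacter.exists_apply_one_pos hθ
  obtain ⟨s, hspos, hs⟩ := IsIrrCharacter.exists_apply_one_pos hψ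
  -- the bound for θ
  have hD : (Nat.card D : ℝ) * (t : ℝ) ^ 2 ≤ (Nat.card C : ℝ) := by
    rw [← sum_norm_sq hθ]
    have h1 : ∑ c ∈ Finset.univ.filter (fun c : C => (c : G) ∈ D), ‖θ c‖ ^ 2
        ≤ ∑ c : C, ‖θ c‖ ^ 2 :=
      Finset.sum_le_sum_of_subset_of_nonneg (Finset.filter_subset _ _)
        (fun c _ _ => sq_nonneg _)
    refine le_trans (le_of_eq ?_) h1
    have h2 : ∀ c ∈ Finset.univ.filter (fun c : C => (c : G) ∈ D), ‖θ c‖ ^ 2 = (t : ℝ) ^ 2 := by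
      intro c hc
      rw [hnorm c (Finset.mem_filter.1 hc).2, ht]
      simp
    rw [Finset.sum_congr rfl h2, Finset.sum_const, nsmul_eq_mul]
    congr 1
    have h3 : (Finset.univ.filter (fun c : C => (c : G) ∈ D)).card = Nat.card D := by
      rw [← Nat.card_congr (Subgroup.subgroupOfEquivOfLe hDC).toEquiv, Nat.card_eq_fintype_card,
        ← Fintype.card_subtype]
      exact Fintype.card_congr (Equiv.subtypeEquivRight (fun c => Iff.rfl))
    rw [h3]
  -- the bound for ψ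
  have hdeg : s ≤ C.index * t := by
    have hΞ : IsCharacter G (indFun C θ) :=
      Cfsg.Agent.Lib.CT.IndChar.isCharacter_indFun C θ (IsIrrCharacter.isCharacter hθ)
    have hfin := finite_irrCharacter (G := G)
    haveI : Fintype (IrrCharacter G) := Fintype.ofFinite _
    obtain ⟨m, hm, hexp⟩ := Cfsg.Agent.Lib.CT.NormOne.exists_mult_sum hΞ
    have hmψ : m ⟨ψ, hψ⟩ ≠ 0 := by
      have h1 := hm ⟨ψ, hψ⟩
      rw [frobenius_reciprocity C θ ψ (IsIrrCharacter.isClassFunction hψ),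
        Cfsg.Agent.Lib.CT.Clifford.classInner_conj_symm] at h1
      intro h0
      rw [h0, Nat.cast_zero] at h1
      apply hcon
      have h2 := congrArg (starRingEnd ℂ) h1
      rw [Complex.conj_conj, map_zero] at h2
      exact h2
    choose d hdpos hd using fun χ : IrrCharacter G => IsIrrCharacter.exists_apply_one_pos χ.2
    have h2 := congrFun hexp 1
    rw [indFun_one, ht, Finset.sum_apply] at h2
    simp only [Pi.smul_apply, smul_eq_mul, hd] at h2
    have h3 : C.index * t = ∑ χ : IrrCharacter G, m χ * d χ := by exact_mod_cast h2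
    have hsd : s = d ⟨ψ, hψ⟩ := by
      have h4 := hd ⟨ψ, hψ⟩
      have h5 : ((⟨ψ, hψ⟩ : IrrCharacter G) : G → ℂ) 1 = ψ 1 := rfl
      rw [h5, hs] at h4
      exact_mod_cast h4
    rw [h3, hsd]
    calc d ⟨ψ, hψ⟩ ≤ m ⟨ψ, hψ⟩ * d ⟨ψ, hψ⟩ :=
          Nat.le_mul_of_pos_left _ (Nat.pos_of_ne_zero hmψ)
      _ ≤ ∑ χ : IrrCharacter G, m χ * d χ :=
          Finset.single_le_sum (f := fun χ : IrrCharacter G => m χ * d χ)
            (fun _ _ => Nat.zero_le _) (Finset.mem_univ _)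
  have hGC : (Nat.card G : ℝ) = (Nat.card C : ℝ) * (C.index : ℝ) := by
    rw [← Nat.cast_mul, Subgroup.card_mul_index]
  have hs' : ‖ψ 1‖ = (s : ℝ) := by
    rw [hs]
    simp
  have hdeg' : (s : ℝ) ≤ (C.index : ℝ) * (t : ℝ) := by exact_mod_cast hdeg
  have hs0 : (0 : ℝ) ≤ s := Nat.cast_nonneg s
  have hC0 : (0 : ℝ) ≤ (Nat.card C : ℝ) := Nat.cast_nonneg _
  have hD0 : (0 : ℝ) ≤ (Nat.card D : ℝ) := Nat.cast_nonneg _
  have hi0 : (0 : ℝ) ≤ (C.index : ℝ) := Nat.cast_nonneg _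
  have ht0 : (0 : ℝ) ≤ (t : ℝ) := Nat.cast_nonneg _
  rw [hs', hGC]
  have h6 : (s : ℝ) ^ 2 ≤ ((C.index : ℝ) * (t : ℝ)) ^ 2 := by
    apply pow_le_pow_left₀ hs0 hdeg'
  calc (s : ℝ) ^ 2 * (Nat.card C : ℝ) * (Nat.card D : ℝ)
      ≤ ((C.index : ℝ) * (t : ℝ)) ^ 2 * (Nat.card C : ℝ) * (Nat.card D : ℝ) := by
        apply mul_le_mul_of_nonneg_right _ hD0
        exact mul_le_mul_of_nonneg_right h6 hC0
    _ = (C.index : ℝ) ^ 2 * (Nat.card C : ℝ) * ((Nat.card D : ℝ) * (t : ℝ) ^ 2) := by ring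
    _ ≤ (C.index : ℝ) ^ 2 * (Nat.card C : ℝ) * (Nat.card C : ℝ) := by
        apply mul_le_mul_of_nonneg_left hD
        positivity
    _ = ((Nat.card C : ℝ) * (C.index : ℝ)) ^ 2 := by ring

end Cfsg.Agent.S1492
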