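import Cfsg.Statements.S0160
import Cfsg.Agent.Lib.Helper3.ClassCount
import Cfsg.Agent.Lib.CT.Ops

set_option autoImplicit false
open Cfsg

namespace Cfsg.Agent.S0160

open Cfsg.Agent.Lib.Helper3.Irr Cfsg.Agent.Lib.Helper3.Orth Cfsg.Agent.Lib.Helper3.ClassCount


/-- A finite group has as many real-valued irreducible complex characters as conjugacy classes closed under taking inverses. -/
theorem result {G : Type*} [Group G] [Finite G] : Nat.card {χ : Cfsg.IrrCharacter G // ∀ g : G, ((χ : G → ℂ) g).im = 0} = Nat.card {C : ConjClasses G // ∀ g : G, ConjClasses.mk g = C → IsConj g g⁻¹} := by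
  classical
  let f : IrrCharacter G → IrrCharacter G := fun χ =>
    ⟨fun g => (χ : G → ℂ) g⁻¹, Cfsg.Agent.Lib.CT.Ops.isIrrCharacter_inv_arg χ.2⟩
  have h1 := card_irr_fixed_eq_card_classes f (fun g => g⁻¹) (fun χ g => rfl)
    (fun C => ∀ g : G, ConjClasses.mk g = C → IsConj g g⁻¹) (by
      intro g
      constructor
      · intro h
        exact h g rfl
      · intro h g' hg'
        have h2 : IsConj g' g := ConjClasses.mk_eq_mk_iff_isConj.1 hg'
        obtain ⟨c, hc⟩ := isConj_iff.1 h2
        have h3 : IsConj g'⁻¹ g⁻¹ := isConj_iff.2 ⟨c, by rw [← hc]; group⟩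
        exact (h2.trans h).trans h3.symm)
  rw [← h1]
  refine Nat.card_congr (Equiv.subtypeEquivRight ?_)
  intro χ
  constructor
  · intro h
    apply Subtype.ext
    funext g
    show (χ : G → ℂ) g⁻¹ = (χ : G → ℂ) g
    rw [IsCharacter.apply_inv (IsIrrCharacter.isCharacter χ.2)]
    exact Complex.conj_eq_iff_im.2 (h g)
  · intro h g
    have h2 : (χ : G → ℂ) g⁻¹ = (χ : G → ℂ) g := congrFun (congrArg Subtype.val h) g
    rw [IsCharacter.apply_inv (IsIrrCharacter.isCharacter χ.2)] at h2
    exact Complex.conj_eq_iff_im.1 h2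

end Cfsg.Agent.S0160
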