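import Cfsg.Statements.S0161
import Cfsg.Agent.S0160
import Cfsg.Agent.Lib.CT.Ops

set_option autoImplicit false
open Cfsg

namespace Cfsg.Agent.S0161


/-- In a finite group of odd order, a real-valued irreducible complex character is the trivial character. -/
theorem result {G : Type*} [Group G] [Finite G] (hodd : Odd (Nat.card G)) (χ : Cfsg.IrrCharacter G) (hreal : ∀ g : G, ((χ : G → ℂ) g).im = 0) : (χ : G → ℂ) = fun _ => 1 := by
  classical
  -- in a group of odd order only the identity is conjugate to its inverse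
  have hreal1 : ∀ g : G, IsConj g g⁻¹ → g = 1 := by
    intro g hg
    obtain ⟨c, hc⟩ := isConj_iff.1 hg
    have hoddc : Odd (orderOf c) := Odd.of_dvd_nat hodd (orderOf_dvd_natCard c)
    obtain ⟨k, hk⟩ := hoddc
    have hc2 : c ^ 2 * g = g * c ^ 2 := by
      have h1 : c * g = g⁻¹ * c := by rw [← hc]; group
      have h2' : c * g⁻¹ * c⁻¹ = g := by
        have := congrArg (fun x => x⁻¹) hc
        simpa [mul_assoc] using this
      have h2 : c * g⁻¹ = g * c := by
        calc c * g⁻¹ = (c * g⁻¹ * c⁻¹) * c := by group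
          _ = g * c := by rw [h2']
      calc c ^ 2 * g = c * (c * g) := by rw [pow_two, mul_assoc]
        _ = c * (g⁻¹ * c) := by rw [h1]
        _ = (c * g⁻¹) * c := by rw [mul_assoc]
        _ = (g * c) * c := by rw [h2]
        _ = g * c ^ 2 := by rw [pow_two, mul_assoc]
    have hcc : c = (c ^ 2) ^ (k + 1) := by
      rw [← pow_mul]
      have : 2 * (k + 1) = orderOf c + 1 := by omega
      rw [this, pow_succ, pow_orderOf_eq_one, one_mul]
    have hcomm : Commute c g := by
      rw [hcc]
      exact (show Commute (c ^ 2) g from hc2).pow_left (k + 1)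
    have hgg : g = g⁻¹ := by
      rw [← hc, hcomm.eq]
      group
    have hg2 : g ^ 2 = 1 := by
      rw [pow_two]
      nth_rewrite 2 [hgg]
      exact mul_inv_cancel g
    have hoddg : Odd (orderOf g) := Odd.of_dvd_nat hodd (orderOf_dvd_natCard g)
    have hdvd : orderOf g ∣ 2 := orderOf_dvd_of_pow_eq_one hg2
    have h1 : orderOf g = 1 := by
      rcases (Nat.dvd_prime Nat.prime_two).1 hdvd with h | h
      · exact h
      · rw [h] at hoddg
        exact absurd hoddg (by decide)
    exact orderOf_eq_one_iff.1 h1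
  have hcard : Nat.card {C : ConjClasses G // ∀ g : G, ConjClasses.mk g = C → IsConj g g⁻¹} = 1 := by
    rw [Nat.card_eq_one_iff_unique]
    constructor
    · constructor
      rintro ⟨C, hC⟩ ⟨D, hD⟩
      apply Subtype.ext
      obtain ⟨g, rfl⟩ := ConjClasses.mk_surjective C
      obtain ⟨h, rfl⟩ := ConjClasses.mk_surjective D
      show ConjClasses.mk g = ConjClasses.mk h
      rw [hreal1 g (hC g rfl), hreal1 h (hD h rfl)]
    · refine ⟨⟨ConjClasses.mk 1, ?_⟩⟩
      intro g hg
      have : g = 1 := isConj_one_left.1 (ConjClasses.mk_eq_mk_iff_isConj.1 hg)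
      rw [this]
      simp
  rw [← Cfsg.Agent.S0160.result] at hcard
  have hsub := (Nat.card_eq_one_iff_unique.1 hcard).1
  let triv : Cfsg.IrrCharacter G := ⟨fun _ => 1, Cfsg.Agent.Lib.CT.Ops.isIrrCharacter_one⟩
  have h1 : (⟨χ, hreal⟩ : {χ : Cfsg.IrrCharacter G // ∀ g : G, ((χ : G → ℂ) g).im = 0})
      = ⟨triv, fun g => by simp [triv]⟩ := Subsingleton.elim _ _
  have h2 : χ = triv := congrArg Subtype.val h1
  rw [h2]

end Cfsg.Agent.S0161
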