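import Cfsg.Statements.S1514
import Cfsg.Agent.Lib.Helper26.GenChar
import Cfsg.Agent.Lib.CT.Wedderburn
import Cfsg.Agent.Lib.CT.Orth
import Cfsg.Agent.Lib.CT.Ops
import Mathlib

set_option autoImplicit false
open Cfsg

namespace Cfsg.Agent.S1514

open scoped ComplexConjugate
open Cfsg.Agent.Lib.Helper26.GenChar Cfsg.Agent.Lib.CT.Wedderburn Cfsg.Agent.Lib.CT.Orth

universe u
variable {G : Type u} [Group G]

/-- A generalized character of norm two vanishing at the identity is a difference of two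
distinct irreducible characters. -/
theorem eq_sub_of_norm_two [Fintype G] {θ : G → ℂ} (hθ : IsGeneralizedCharacter G θ)
    (h2 : classInner θ θ = 2) (h0 : θ 1 = 0) :
    ∃ α β : IrrCharacter G, α ≠ β ∧ θ = (α : G → ℂ) - (β : G → ℂ) := by
  classical
  have := finite_irrCharacter G
  have : Fintype (IrrCharacter G) := Fintype.ofFinite _
  obtain ⟨c, hc, he⟩ := exists_int_mult hθ
  have hsq := classInner_self_eq_sum_sq c hc he
  rw [h2] at hsq
  have hsq' : ∑ ψ : IrrCharacter G, c ψ * c ψ = 2 := by exact_mod_cast hsq.symm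
  have hex : ∃ η₀ : IrrCharacter G, c η₀ ≠ 0 := by
    by_contra hcon
    push Not at hcon
    rw [Finset.sum_eq_zero (fun η _ => by rw [hcon η, mul_zero])] at hsq'
    omega
  obtain ⟨η₀, hη₀⟩ := hex
  have hsplit : ∑ ψ : IrrCharacter G, c ψ * c ψ =
      c η₀ * c η₀ + ∑ ψ ∈ Finset.univ.erase η₀, c ψ * c ψ :=
    (Finset.add_sum_erase _ _ (Finset.mem_univ η₀)).symm
  have hnn : ∀ ψ ∈ Finset.univ.erase η₀, 0 ≤ c ψ * c ψ := fun ψ _ => mul_self_nonneg _
  have hrest_nn : 0 ≤ ∑ ψ ∈ Finset.univ.erase η₀, c ψ * c ψ := Finset.sum_nonneg hnn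
  have hη₀sq : 1 ≤ c η₀ * c η₀ := by
    have := mul_self_pos.mpr hη₀
    omega
  have hη₀ne2 : c η₀ * c η₀ ≠ 2 := by
    intro h
    have h3 : |c η₀| < 2 := by
      by_contra hcon
      rw [not_lt] at hcon
      have : 4 ≤ c η₀ * c η₀ := by
        have h5 : (2 : ℤ) * 2 ≤ |c η₀| * |c η₀| := mul_le_mul hcon hcon (by norm_num) (abs_nonneg _)
        rw [abs_mul_abs_self] at h5
        linarith
      omega
    have h4 : |c η₀| ≤ 1 := by omega
    have : c η₀ * c η₀ ≤ 1 := by
      have h5 : |c η₀| * |c η₀| ≤ 1 * 1 := mul_le_mul h4 h4 (abs_nonneg _) (by norm_num)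
      rw [abs_mul_abs_self] at h5
      linarith
    omega
  have hη₀one : c η₀ * c η₀ = 1 := by omega
  have hrest1 : ∑ ψ ∈ Finset.univ.erase η₀, c ψ * c ψ = 1 := by omega
  have hex1 : ∃ η₁ ∈ Finset.univ.erase η₀, c η₁ ≠ 0 := by
    by_contra hcon
    push Not at hcon
    rw [Finset.sum_eq_zero (fun η hη => by rw [hcon η hη, mul_zero])] at hrest1
    omega
  obtain ⟨η₁, hη₁mem, hη₁⟩ := hex1
  have hne : η₁ ≠ η₀ := (Finset.mem_erase.mp hη₁mem).1
  have hsplit1 : ∑ ψ ∈ Finset.univ.erase η₀, c ψ * c ψ =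
      c η₁ * c η₁ + ∑ ψ ∈ (Finset.univ.erase η₀).erase η₁, c ψ * c ψ :=
    (Finset.add_sum_erase _ _ hη₁mem).symm
  have hnn1 : ∀ ψ ∈ (Finset.univ.erase η₀).erase η₁, 0 ≤ c ψ * c ψ :=
    fun ψ _ => mul_self_nonneg _
  have hrest_nn1 : 0 ≤ ∑ ψ ∈ (Finset.univ.erase η₀).erase η₁, c ψ * c ψ :=
    Finset.sum_nonneg hnn1
  have hη₁sq : 1 ≤ c η₁ * c η₁ := by
    have := mul_self_pos.mpr hη₁
    omega
  have hη₁one : c η₁ * c η₁ = 1 := by omega
  have hrest0 : ∑ ψ ∈ (Finset.univ.erase η₀).erase η₁, c ψ * c ψ = 0 := by omega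
  have hzero : ∀ ψ : IrrCharacter G, ψ ≠ η₀ → ψ ≠ η₁ → c ψ = 0 := by
    intro ψ hψ0 hψ1
    have := (Finset.sum_eq_zero_iff_of_nonneg hnn1).mp hrest0 ψ
      (Finset.mem_erase.mpr ⟨hψ1, Finset.mem_erase.mpr ⟨hψ0, Finset.mem_univ ψ⟩⟩)
    exact mul_self_eq_zero.mp this
  have hθ' : θ = (c η₀ : ℂ) • (η₀ : G → ℂ) + (c η₁ : ℂ) • (η₁ : G → ℂ) := by
    conv_lhs => rw [he]
    rw [← Finset.add_sum_erase _ _ (Finset.mem_univ η₀),
      ← Finset.add_sum_erase _ _ hη₁mem, Finset.sum_eq_zero, add_zero]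
    intro ψ hψ
    have h1 := (Finset.mem_erase.mp hψ).1
    have h2 := (Finset.mem_erase.mp (Finset.mem_erase.mp hψ).2).1
    rw [hzero ψ h2 h1]
    simp
  have hpm : ∀ z : ℤ, z * z = 1 → z = 1 ∨ z = -1 := by
    intro z hz
    have : (z - 1) * (z + 1) = 0 := by
      have h' : (z - 1) * (z + 1) = z * z - 1 := by ring
      rw [h', hz, sub_self]
    rcases mul_eq_zero.mp this with h | h
    · left; omega
    · right; omega
  obtain ⟨d₀, hd₀, hd₀'⟩ := irr_exists_apply_one_pos η₀.2
  obtain ⟨d₁, hd₁, hd₁'⟩ := irr_exists_apply_one_pos η₁.2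
  have hval : (c η₀ : ℂ) * (d₀ : ℂ) + (c η₁ : ℂ) * (d₁ : ℂ) = 0 := by
    have := congrFun hθ' 1
    rw [h0] at this
    simp only [Pi.add_apply, Pi.smul_apply, smul_eq_mul, hd₀', hd₁'] at this
    exact this.symm
  have hvalZ : c η₀ * (d₀ : ℤ) + c η₁ * (d₁ : ℤ) = 0 := by exact_mod_cast hval
  have hd₀Z : (0 : ℤ) < d₀ := by exact_mod_cast hd₀
  have hd₁Z : (0 : ℤ) < d₁ := by exact_mod_cast hd₁
  rcases hpm _ hη₀one with h0' | h0' <;> rcases hpm _ hη₁one with h1' | h1'
  · exfalso
    rw [h0', h1'] at hvalZ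
    linarith
  · refine ⟨η₀, η₁, hne.symm, ?_⟩
    rw [hθ', h0', h1']
    funext g
    simp
    ring
  · refine ⟨η₁, η₀, hne, ?_⟩
    rw [hθ', h0', h1']
    funext g
    simp
    ring
  · exfalso
    rw [h0', h1'] at hvalZ
    linarith

/-- Conjugating both arguments conjugates the inner product. -/
theorem classInner_conjFun [Fintype G] (a b : G → ℂ) :
    classInner (conjFun a) (conjFun b) = conj (classInner a b) := by
  unfold classInner conjFun
  rw [map_mul, map_inv₀, map_natCast, map_sum]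
  congr 1
  apply Finset.sum_congr rfl
  intro g _
  rw [map_mul]

theorem conjFun_conjFun {X : Type*} (a : X → ℂ) : conjFun (conjFun a) = a := by
  funext x
  simp [conjFun]

/-- Let S be a nonempty set of irreducible characters of the finite group L, closed under complex conjugation and containing no real-valued member, and τ a linear isometry on the integer combinations of S vanishing at 1, with values virtual characters of G vanishing at 1. Then there is a choice R making (S, τ, R) a coherence system. -/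
theorem result {L : Type*} [Group L] [Fintype L] {G : Type*} [Group G] [Fintype G] (S : Set (L → ℂ)) (hS : S.Nonempty) (hirr : ∀ χ ∈ S, Cfsg.IsIrrCharacter L χ) (hconj : ∀ χ ∈ S, Cfsg.conjFun χ ∈ S ∧ Cfsg.conjFun χ ≠ χ) (τ : (L → ℂ) → (G → ℂ)) (hτ : Cfsg.IsLinearIsometryOn (Cfsg.zspanOn S {1}ᶜ) τ) (hτ1 : ∀ α ∈ Cfsg.zspanOn S {1}ᶜ, τ α 1 = 0) : ∃ R : (L → ℂ) → Finset (G → ℂ), Cfsg.IsCoherenceSystem S τ R := by
  classical
  have hfinG := Cfsg.Agent.Lib.CT.Wedderburn.finite_irrCharacter G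
  have _iG : Fintype (IrrCharacter G) := Fintype.ofFinite _
  -- basic facts about members of S
  have hmem : ∀ χ ∈ S, χ - conjFun χ ∈ zspanOn S {1}ᶜ := by
    intro χ hχ
    refine ⟨Submodule.sub_mem _ (Submodule.subset_span hχ) (Submodule.subset_span (hconj χ hχ).1), ?_⟩
    intro x hx
    have hx1 : x = 1 := by
      by_contra h
      exact hx h
    obtain ⟨d, -, hd⟩ := irr_exists_apply_one_pos (hirr χ hχ)
    rw [hx1]
    simp [conjFun, hd]
  have horth : ∀ χ ∈ S, ∀ φ ∈ S, χ ≠ φ → classInner χ φ = 0 := by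
    intro χ hχ φ hφ hne
    have := irr_orthonormal (⟨χ, hirr χ hχ⟩ : IrrCharacter L) ⟨φ, hirr φ hφ⟩
    rw [if_neg (fun h => hne (congrArg Subtype.val h))] at this
    exact this
  have hself : ∀ χ ∈ S, classInner χ χ = 1 := by
    intro χ hχ
    have := irr_orthonormal (⟨χ, hirr χ hχ⟩ : IrrCharacter L) ⟨χ, hirr χ hχ⟩
    rw [if_pos rfl] at this
    exact this
  have hnorm : ∀ χ ∈ S, classInner (τ (χ - conjFun χ)) (τ (χ - conjFun χ)) = 2 := by
    intro χ hχ
    rw [hτ.2.2.1 _ (hmem χ hχ) _ (hmem χ hχ), classInner_sub_left, classInner_sub_right,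
      classInner_sub_right, hself χ hχ, hself _ (hconj χ hχ).1,
      horth χ hχ _ (hconj χ hχ).1 (hconj χ hχ).2.symm,
      horth _ (hconj χ hχ).1 χ hχ (hconj χ hχ).2]
    norm_num
  have hdec : ∀ χ ∈ S, ∃ α β : IrrCharacter G, α ≠ β ∧
      τ (χ - conjFun χ) = (α : G → ℂ) - (β : G → ℂ) := fun χ hχ =>
    eq_sub_of_norm_two (hτ.2.2.2 _ (hmem χ hχ)) (hnorm χ hχ) (hτ1 _ (hmem χ hχ))
  have _inh : Inhabited (IrrCharacter G) :=
    ⟨⟨fun _ => 1, Cfsg.Agent.Lib.CT.Ops.isIrrCharacter_one⟩⟩
  choose! A B hAB hAeq using hdec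
  have hAnegB : ∀ χ ∈ S, ((A χ : IrrCharacter G) : G → ℂ) ≠ -((B χ : IrrCharacter G) : G → ℂ) := by
    intro χ hχ h
    obtain ⟨d₀, hd₀, hd₀'⟩ := irr_exists_apply_one_pos (A χ).2
    obtain ⟨d₁, hd₁, hd₁'⟩ := irr_exists_apply_one_pos (B χ).2
    have := congrFun h 1
    rw [Pi.neg_apply, hd₀', hd₁'] at this
    have h' : ((d₀ + d₁ : ℕ) : ℂ) = 0 := by
      push_cast
      rw [this]
      ring
    have : d₀ + d₁ = 0 := by exact_mod_cast h'
    omega
  refine ⟨fun χ => {((A χ : IrrCharacter G) : G → ℂ), -((B χ : IrrCharacter G) : G → ℂ)}, ?_⟩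
  have hinner : ∀ α β : IrrCharacter G, classInner (α : G → ℂ) (β : G → ℂ) =
      if α = β then 1 else 0 := irr_orthonormal
  refine
    { nonempty := hS
      isCharacter := fun χ hχ => isCharacter_of_irr (hirr χ hχ)
      conj_mem := fun χ hχ => (hconj χ hχ).1
      conj_ne := fun χ hχ => (hconj χ hχ).2
      isometry := hτ
      map_one := hτ1
      orthogonal := horth
      orthonormal := ?_
      virtual := ?_
      sum_eq := ?_
      disjoint := ?_ }
  · intro χ hχ a ha b hb
    rw [Finset.mem_insert, Finset.mem_singleton] at ha hb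
    rcases ha with rfl | rfl <;> rcases hb with rfl | rfl
    · rw [if_pos rfl, hinner, if_pos rfl]
    · rw [if_neg (hAnegB χ hχ), classInner_neg_right, hinner, if_neg (hAB χ hχ), neg_zero]
    · rw [if_neg (fun h => hAnegB χ hχ h.symm), classInner_neg_left, hinner,
        if_neg (fun h => hAB χ hχ h.symm), neg_zero]
    · rw [if_pos rfl, classInner_neg_left, classInner_neg_right, hinner, if_pos rfl, neg_neg]
  · intro χ hχ a ha
    rw [Finset.mem_insert, Finset.mem_singleton] at ha
    rcases ha with rfl | rfl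
    · exact isGeneralizedCharacter_of_irr (A χ).2
    · exact isGeneralizedCharacter_neg (isGeneralizedCharacter_of_irr (B χ).2)
  · intro χ hχ
    rw [Finset.sum_pair (hAnegB χ hχ), hAeq χ hχ, sub_eq_add_neg]
  · intro χ hχ φ hφ h1 h2 a ha b hb
    have hφc := (hconj φ hφ).1
    have hχc := (hconj χ hχ).1
    have h3 : classInner (conjFun φ) (conjFun χ) = 0 := by
      rw [classInner_conjFun, h1, map_zero]
    have h4 : classInner (conjFun φ) χ = 0 := by
      have := classInner_conjFun φ (conjFun χ)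
      rw [conjFun_conjFun, h2, map_zero] at this
      exact this
    have hzero : classInner (τ (φ - conjFun φ)) (τ (χ - conjFun χ)) = 0 := by
      rw [hτ.2.2.1 _ (hmem φ hφ) _ (hmem χ hχ), classInner_sub_left, classInner_sub_right,
        classInner_sub_right, h1, h2, h3, h4]
      norm_num
    rw [hAeq φ hφ, hAeq χ hχ, classInner_sub_left, classInner_sub_right, classInner_sub_right,
      hinner, hinner, hinner, hinner] at hzero
    have hABφ := hAB φ hφ
    have hABχ := hAB χ hχ
    have key : A φ ≠ A χ ∧ A φ ≠ B χ ∧ B φ ≠ A χ ∧ B φ ≠ B χ := by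
      by_cases e1 : A φ = A χ
      · exfalso
        have e2 : A φ ≠ B χ := fun h => hABχ (e1.symm.trans h)
        have e3 : B φ ≠ A χ := fun h => hABφ (e1.trans h.symm)
        rw [if_pos e1, if_neg e2, if_neg e3] at hzero
        by_cases e4 : B φ = B χ
        · rw [if_pos e4] at hzero
          norm_num at hzero
        · rw [if_neg e4] at hzero
          norm_num at hzero
      · by_cases e4 : B φ = B χ
        · exfalso
          have e2 : A φ ≠ B χ := fun h => hABφ (h.trans e4.symm)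
          have e3 : B φ ≠ A χ := fun h => hABχ (h.symm.trans e4)
          rw [if_neg e1, if_neg e2, if_neg e3, if_pos e4] at hzero
          norm_num at hzero
        · rw [if_neg e1, if_neg e4] at hzero
          by_cases e2 : A φ = B χ
          · exfalso
            rw [if_pos e2] at hzero
            by_cases e3 : B φ = A χ
            · rw [if_pos e3] at hzero
              norm_num at hzero
            · rw [if_neg e3] at hzero
              norm_num at hzero
          · by_cases e3 : B φ = A χ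
            · exfalso
              rw [if_neg e2, if_pos e3] at hzero
              norm_num at hzero
            · exact ⟨e1, e2, e3, e4⟩
    obtain ⟨k1, k2, k3, k4⟩ := key
    rw [Finset.mem_insert, Finset.mem_singleton] at ha hb
    rcases ha with rfl | rfl <;> rcases hb with rfl | rfl
    · rw [hinner, if_neg k1]
    · rw [classInner_neg_right, hinner, if_neg k2, neg_zero]
    · rw [classInner_neg_left, hinner, if_neg k3, neg_zero]
    · rw [classInner_neg_left, classInner_neg_right, hinner, if_neg k4, neg_zero, neg_zero]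

end Cfsg.Agent.S1514
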