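import Cfsg.Statements.S0039
import Mathlib
-- import your own Cfsg.Agent.* helpers here

set_option autoImplicit false
open Cfsg

namespace Cfsg.Agent.S0039

open scoped Pointwise

theorem mem_conj_smul {G : Type*} [Group G] (H : Subgroup G) (g x : G) :
    x ∈ MulAut.conj g • H ↔ g⁻¹ * x * g ∈ H := by
  rw [Subgroup.mem_pointwise_smul_iff_inv_smul_mem]
  simp [MulAut.smul_def]

/-- In a finite group that is a semidirect product of a normal subgroup K by a nontrivial subgroup H, H is a Frobenius complement exactly when each nonidentity element of H acts without nonidentity fixed points on K by conjugation. -/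
theorem result {G : Type*} [Group G] [Finite G] (K H : Subgroup G) [K.Normal]
    (hc : Subgroup.IsComplement' K H) (hK : K ≠ ⊥) (hH : H ≠ ⊥) :
    Cfsg.IsFrobeniusComplement H ↔ ∀ h ∈ H, h ≠ 1 → K ⊓ Subgroup.centralizer {h} = ⊥ := by
  have hdisj : ∀ x, x ∈ K → x ∈ H → x = 1 := by
    intro x hxK hxH
    have := hc.disjoint
    rw [disjoint_iff] at this
    have hx : x ∈ K ⊓ H := ⟨hxK, hxH⟩
    rwa [this, Subgroup.mem_bot] at hx
  constructor
  · rintro ⟨-, -, hF⟩ h hh hh1
    rw [eq_bot_iff]
    intro k hk
    rw [Subgroup.mem_bot]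
    have hkK : k ∈ K := hk.1
    have hkC : k ∈ Subgroup.centralizer {h} := hk.2
    rw [Subgroup.mem_centralizer_iff] at hkC
    have hkh : h * k = k * h := hkC h rfl
    by_contra hk1
    have hkH : k ∉ H := fun hkH => hk1 (hdisj k hkK hkH)
    have h1 := hF k hkH
    have h2 : h ∈ H ⊓ MulAut.conj k • H := by
      refine Subgroup.mem_inf.mpr ⟨hh, ?_⟩
      rw [mem_conj_smul]
      have : k⁻¹ * h * k = h := by
        rw [mul_assoc, hkh]; group
      rw [this]; exact hh
    rw [h1, Subgroup.mem_bot] at h2
    exact hh1 h2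
  · intro hfpf
    refine ⟨hH, ?_, ?_⟩
    · rintro rfl
      apply hK
      rw [eq_bot_iff]
      intro x hx
      rw [Subgroup.mem_bot]
      exact hdisj x hx trivial
    · intro g hg
      obtain ⟨⟨k, h⟩, hkh⟩ := hc.2 g
      simp only at hkh
      rw [eq_bot_iff]
      intro x hx
      rw [Subgroup.mem_bot]
      have hxH : x ∈ H := hx.1
      have hx2 : x ∈ MulAut.conj g • H := hx.2
      rw [mem_conj_smul] at hx2
      -- y = k⁻¹ x k ∈ H
      have hy : (k : G)⁻¹ * x * k ∈ H := by
        have e : (k : G)⁻¹ * x * k = h * (g⁻¹ * x * g) * (h : G)⁻¹ := by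
          rw [← hkh]; group
        rw [e]
        exact H.mul_mem (H.mul_mem h.2 hx2) (H.inv_mem h.2)
      have hxy : x⁻¹ * ((k : G)⁻¹ * x * k) ∈ K := by
        have e : x⁻¹ * ((k : G)⁻¹ * x * k) = (x⁻¹ * (k : G)⁻¹ * x⁻¹⁻¹) * k := by group
        rw [e]
        exact K.mul_mem (Subgroup.Normal.conj_mem inferInstance _ (K.inv_mem k.2) _) k.2
      have hxy1 := hdisj _ hxy (H.mul_mem (H.inv_mem hxH) hy)
      have hcomm : x * (k : G) = k * x := by
        have e1 : (k : G)⁻¹ * x * k = x := by
          have := congrArg (fun z => x * z) hxy1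
          simpa [mul_assoc] using this
        calc x * (k : G) = k * ((k : G)⁻¹ * x * k) := by group
          _ = k * x := by rw [e1]
      by_contra hx1
      have h3 := hfpf x hxH hx1
      have h4 : (k : G) ∈ K ⊓ Subgroup.centralizer {x} := by
        refine Subgroup.mem_inf.mpr ⟨k.2, ?_⟩
        rw [Subgroup.mem_centralizer_iff]
        intro z hz
        rw [Set.mem_singleton_iff] at hz
        subst hz
        exact hcomm
      rw [h3, Subgroup.mem_bot] at h4
      apply hg
      rw [← hkh, h4, one_mul]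
      exact h.2

end Cfsg.Agent.S0039
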