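import Cfsg.Statements.S1519
import Cfsg.Agent.Lib.Helper76.Coherence3
import Cfsg.Agent.Lib.Helper76.CohInd
import Cfsg.Agent.S1492

set_option autoImplicit false
open Cfsg

namespace Cfsg.Agent.S1519

open Cfsg.Agent.Lib.Helper76.Coherence Cfsg.Agent.Lib.Helper76.Coherence2
  Cfsg.Agent.Lib.Helper76.Coherence3 Cfsg.Agent.Lib.Helper76.CohInd

theorem arith {i t c dd k l ic r' r : ℝ} (hi : 0 < i) (hc : 0 < c) (hdd : 0 < dd)
    (hr : 0 ≤ r - 1) (hk : i * k = l) (hcl : ic * c = l) (hdc : r' * dd = c)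
    (h1 : t ^ 2 * c * dd ≤ k ^ 2) (hlt : 4 * ic ^ 2 * r' < (r - 1) ^ 2) :
    2 * (i * t) * i < i * (r - 1) := by
  have h2 : (2 * i * t) ^ 2 * (c * dd) ≤ 4 * ic ^ 2 * r' * (c * dd) := by
    have e1 : (2 * i * t) ^ 2 * (c * dd) = 4 * i ^ 2 * (t ^ 2 * c * dd) := by ring
    have e2 : 4 * ic ^ 2 * r' * (c * dd) = 4 * (ic * c) ^ 2 := by
      rw [← hdc]
      ring
    rw [e1, e2, hcl, ← hk]
    have h3 : 4 * i ^ 2 * (t ^ 2 * c * dd) ≤ 4 * i ^ 2 * k ^ 2 :=
      mul_le_mul_of_nonneg_left h1 (by positivity)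
    calc 4 * i ^ 2 * (t ^ 2 * c * dd) ≤ 4 * i ^ 2 * k ^ 2 := h3
      _ = 4 * (i * k) ^ 2 := by ring
  have h3 : (2 * i * t) ^ 2 ≤ 4 * ic ^ 2 * r' := le_of_mul_le_mul_right h2 (mul_pos hc hdd)
  have h4 : (2 * i * t) ^ 2 < (r - 1) ^ 2 := lt_of_le_of_lt h3 hlt
  have h5 : 2 * i * t < r - 1 := lt_of_pow_lt_pow_left₀ 2 hr h4
  nlinarith

theorem card_subgroupOf {L : Type*} [Group L] {C K : Subgroup L} (h : C ≤ K) :
    Nat.card (C.subgroupOf K) = Nat.card C :=
  Nat.card_congr (Subgroup.subgroupOfEquivOfLe h).toEquiv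

/-- Let K be a solvable normal subgroup of the finite group L and (S, τ, R) a coherence system from L to G where S is the set of functions induced from non-principal irreducible characters of K; write S(A) for those induced from characters whose kernel contains A. Let A, B, C, D be normal subgroups of L with A < K, B < K, B ≤ D ≤ C ≤ K and every commutator of D with C in B. If S(A) is coherent and 4 * [L:C]^2 * [C:D] < ([K:A] − 1)^2, then S(B) is coherent. -/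
theorem result {L : Type*} [Group L] [Fintype L] {G : Type*} [Group G] [Fintype G] (K : Subgroup L) [hK : K.Normal] (hsolv : Group.IsSolvable K) (τ : (L → ℂ) → (G → ℂ)) (R : (L → ℂ) → Finset (G → ℂ)) (hS : Cfsg.IsCoherenceSystem (Cfsg.inducedIrrAbove K ⊥) τ R) (A B C D : Subgroup L) [A.Normal] [B.Normal] [C.Normal] [D.Normal] (hAK : A < K) (hBK : B < K) (hBD : B ≤ D) (hDC : D ≤ C) (hCK : C ≤ K) (hcent : ∀ x ∈ D, ∀ y ∈ C, x * y * x⁻¹ * y⁻¹ ∈ B) (hA : Cfsg.IsCoherent (Cfsg.inducedIrrAbove K A) {1}ᶜ τ) (hlt : 4 * C.index ^ 2 * D.relIndex C < (A.relIndex K - 1) ^ 2) : Cfsg.IsCoherent (Cfsg.inducedIrrAbove K B) {1}ᶜ τ := by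
  classical
  have hfin : (inducedIrrAbove K ⊥).Finite := finite_of_system hS
  have hsubA : inducedIrrAbove K A ⊆ inducedIrrAbove K ⊥ := fun φ h => mem_bot_of_mem K h
  have hsubB : inducedIrrAbove K B ⊆ inducedIrrAbove K ⊥ := fun φ h => mem_bot_of_mem K h
  obtain ⟨TA, hTA⟩ : ∃ TA : Finset (L → ℂ), ∀ φ, φ ∈ TA ↔ φ ∈ inducedIrrAbove K A :=
    ⟨(hfin.subset hsubA).toFinset, fun φ => Set.Finite.mem_toFinset _⟩
  obtain ⟨TB, hTB⟩ : ∃ TB : Finset (L → ℂ), ∀ φ, φ ∈ TB ↔ φ ∈ inducedIrrAbove K B :=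
    ⟨(hfin.subset hsubB).toFinset, fun φ => Set.Finite.mem_toFinset _⟩
  have hdn : ∀ φ : L → ℂ, ∃ dn : ℕ × ℕ, φ ∈ inducedIrrAbove K ⊥ →
      (dn.1 ≠ 0 ∧ φ 1 = (dn.1 : ℂ) ∧ dn.2 ≠ 0 ∧ classInner φ φ = (dn.2 : ℂ)) := by
    intro φ
    by_cases h : φ ∈ inducedIrrAbove K ⊥
    · obtain ⟨d, hd0, hd⟩ := exists_deg hS h
      obtain ⟨n, hn0, hn⟩ := exists_norm hS h
      exact ⟨(d, n), fun _ => ⟨hd0, hd, hn0, hn⟩⟩
    · exact ⟨(0, 0), fun h' => absurd h' h⟩
  choose dn hdn using hdn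
  obtain ⟨d, hddef⟩ : ∃ d : (L → ℂ) → ℕ, d = fun φ => (dn φ).1 := ⟨_, rfl⟩
  obtain ⟨n, hndef⟩ : ∃ n : (L → ℂ) → ℕ, n = fun φ => (dn φ).2 := ⟨_, rfl⟩
  have hd : ∀ φ ∈ inducedIrrAbove K ⊥, φ 1 = (d φ : ℂ) := fun φ hφ => by
    rw [hddef]; exact (hdn φ hφ).2.1
  have hn : ∀ φ ∈ inducedIrrAbove K ⊥, classInner φ φ = (n φ : ℂ) := fun φ hφ => by
    rw [hndef]; exact (hdn φ hφ).2.2.2
  have hn0 : ∀ φ ∈ inducedIrrAbove K ⊥, n φ ≠ 0 := fun φ hφ => by
    rw [hndef]; exact (hdn φ hφ).2.2.1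
  have hKfin : Finite K := inferInstance
  -- a linear character trivial on `A`
  have hAtop : A.subgroupOf K ≠ ⊤ := by
    intro h
    exact (not_le_of_gt hAK) (Subgroup.subgroupOf_eq_top.mp h)
  have hBtop : B.subgroupOf K ≠ ⊤ := by
    intro h
    exact (not_le_of_gt hBK) (Subgroup.subgroupOf_eq_top.mp h)
  obtain ⟨lam, hlam, hlam1, hlam_one, hlamA⟩ := exists_linear hsolv (A.subgroupOf K) hAtop
  obtain ⟨mu, hmu, hmu1, -, hmuB⟩ := exists_linear hsolv (B.subgroupOf K) hBtop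
  obtain ⟨χ₁, hχ₁def⟩ : ∃ χ₁ : L → ℂ, χ₁ = indFun K lam := ⟨_, rfl⟩
  have hχ₁A : χ₁ ∈ inducedIrrAbove K A :=
    ⟨lam, hlam, hlam1, fun a ha => hlamA a (Subgroup.mem_subgroupOf.mpr ha), hχ₁def⟩
  have hχ₁d : d χ₁ = K.index := by
    have h1 := hd χ₁ (hsubA hχ₁A)
    rw [hχ₁def, Cfsg.Agent.Lib.CT.FrobRec.indFun_one, hlam_one, mul_one, ← hχ₁def] at h1
    exact (Nat.cast_injective h1).symm
  have hsum := sum_sq_div K hS A TA hTA d n (fun φ hφ => hd φ (hsubA ((hTA φ).mp hφ)))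
    (fun φ hφ => hn φ (hsubA ((hTA φ).mp hφ))) (fun φ hφ => hn0 φ (hsubA ((hTA φ).mp hφ)))
  have hTAeq : (↑TA : Set (L → ℂ)) = inducedIrrAbove K A := by
    ext φ
    exact hTA φ
  have hchain : IsCoherent (↑(TA ∪ TB) : Set (L → ℂ)) {1}ᶜ τ := by
    refine coherent_chain hS d n hd hn TA ?_ ?_ ?_ χ₁ ((hTA _).mpr hχ₁A) (TA ∪ TB) ?_ ?_
      Finset.subset_union_left ?_
    · rw [hTAeq]; exact hsubA
    · intro φ hφ
      exact (hTA _).mpr (conj_mem K ((hTA φ).mp hφ))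
    · rw [hTAeq]; exact hA
    · intro φ hφ
      rcases Finset.mem_union.mp (Finset.mem_coe.mp hφ) with h | h
      · exact hsubA ((hTA φ).mp h)
      · exact hsubB ((hTB φ).mp h)
    · intro φ hφ
      rcases Finset.mem_union.mp hφ with h | h
      · exact Finset.mem_union_left _ ((hTA _).mpr (conj_mem K ((hTA φ).mp h)))
      · exact Finset.mem_union_right _ ((hTB _).mpr (conj_mem K ((hTB φ).mp h)))
    · intro χ hχ hχA
      have hχB : χ ∈ inducedIrrAbove K B := by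
        rcases Finset.mem_union.mp hχ with h | h
        · exact absurd h hχA
        · exact (hTB χ).mp h
      obtain ⟨θ, hθ, hθ1, hθB, hχdef⟩ := hχB
      obtain ⟨t, ht⟩ := Cfsg.Agent.Lib.CT.Wedderburn.char_exists_apply_one
        (Cfsg.Agent.Lib.CT.Wedderburn.isCharacter_of_irr hθ)
      have hχd : d χ = K.index * t := by
        have h1 := hd χ (hsubB ⟨θ, hθ, hθ1, hθB, hχdef⟩)
        rw [hχdef, Cfsg.Agent.Lib.CT.FrobRec.indFun_one, ht, ← hχdef] at h1
        exact (Nat.cast_injective (R := ℂ) (by rw [← h1]; push_cast; ring))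
      refine ⟨by rw [hχ₁d, hχd]; exact Dvd.intro _ rfl, ?_⟩
      rw [hsum, hχ₁d, hχd]
      push_cast
      have h92 := Cfsg.Agent.S1492.result θ hθ (B.subgroupOf K) (C.subgroupOf K)
        (D.subgroupOf K) (fun x hx => Subgroup.mem_subgroupOf.mpr (hBD (Subgroup.mem_subgroupOf.mp hx)))
        (fun x hx => Subgroup.mem_subgroupOf.mpr (hDC (Subgroup.mem_subgroupOf.mp hx)))
        (fun c _ b hb => by
          rw [Subgroup.mem_subgroupOf] at hb ⊢
          have : ((c * b * c⁻¹ : K) : L) = (c : L) * b * (c : L)⁻¹ := by simp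
          rw [this]
          exact Subgroup.Normal.conj_mem inferInstance _ hb _)
        (fun x hx y hy => by
          rw [Subgroup.mem_subgroupOf] at hx hy ⊢
          have : ((x * y * x⁻¹ * y⁻¹ : K) : L) = (x : L) * y * (x : L)⁻¹ * (y : L)⁻¹ := by simp
          rw [this]
          exact hcent _ hx _ hy)
        (fun b hb => hθB b (Subgroup.mem_subgroupOf.mp hb))
      rw [ht, Complex.norm_natCast, card_subgroupOf hCK, card_subgroupOf (hDC.trans hCK)] at h92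
      have hrel1 : 1 ≤ A.relIndex K :=
        Nat.one_le_iff_ne_zero.mpr Subgroup.index_ne_zero_of_finite
      have hlt' : (4 * (C.index : ℝ) ^ 2 * (D.relIndex C : ℝ)) < ((A.relIndex K : ℝ) - 1) ^ 2 := by
        have := (Nat.cast_lt (α := ℝ)).mpr hlt
        push_cast [Nat.cast_sub hrel1] at this
        exact this
      have hDC' : (D.relIndex C : ℝ) * (Nat.card D : ℝ) = (Nat.card C : ℝ) := by
        have h1 := Subgroup.card_mul_index (D.subgroupOf C)
        rw [card_subgroupOf hDC] at h1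
        have h2 : D.relIndex C * Nat.card D = Nat.card C := by
          rw [mul_comm]; exact h1
        exact_mod_cast h2
      refine arith (i := (K.index : ℝ)) (t := (t : ℝ)) (c := (Nat.card C : ℝ))
        (dd := (Nat.card D : ℝ)) (k := (Nat.card K : ℝ)) (l := (Nat.card L : ℝ))
        (ic := (C.index : ℝ)) (r' := (D.relIndex C : ℝ)) (r := (A.relIndex K : ℝ))
        ?_ ?_ ?_ ?_ ?_ ?_ hDC' h92 hlt'
      · exact Nat.cast_pos.mpr (Nat.pos_of_ne_zero Subgroup.index_ne_zero_of_finite)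
      · exact Nat.cast_pos.mpr Nat.card_pos
      · exact Nat.cast_pos.mpr Nat.card_pos
      · have : (1 : ℝ) ≤ (A.relIndex K : ℝ) := by exact_mod_cast hrel1
        linarith
      · exact_mod_cast Subgroup.index_mul_card K
      · exact_mod_cast Subgroup.index_mul_card C
  refine isCoherent_of_subset hchain ?_ ?_
  · intro φ hφ
    exact Finset.mem_coe.mpr (Finset.mem_union_right _ ((hTB φ).mpr hφ))
  · have hmem : indFun K mu ∈ inducedIrrAbove K B :=
      ⟨mu, hmu, hmu1, fun a ha => hmuB a (Subgroup.mem_subgroupOf.mpr ha), rfl⟩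
    refine ⟨indFun K mu - Cfsg.conjFun (indFun K mu), ?_, sub_conj_ne_zero hS (hsubB hmem)⟩
    exact sub_mem_zspanOn_compl hmem (conj_mem K hmem) (conj_apply_one hS (hsubB hmem)).symm

end Cfsg.Agent.S1519
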