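import Cfsg.Statements.S1520
import Cfsg.Agent.S1519

set_option autoImplicit false
open Cfsg

namespace Cfsg.Agent.S1520

/-- The elements commuting with `H` modulo a normal subgroup `B` form a subgroup. -/
theorem exists_centMod {L : Type*} [Group L] (H B : Subgroup L) [hB : B.Normal] :
    ∃ Z : Subgroup L, ∀ x, x ∈ Z ↔ ∀ y ∈ H, x * y * x⁻¹ * y⁻¹ ∈ B := by
  refine ⟨{ carrier := {x | ∀ y ∈ H, x * y * x⁻¹ * y⁻¹ ∈ B}
            one_mem' := ?_
            mul_mem' := ?_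
            inv_mem' := ?_ }, fun x => Iff.rfl⟩
  · intro a b ha hb y hy
    have h1 := hB.conj_mem _ (hb y hy) a
    have h2 := B.mul_mem h1 (ha y hy)
    have e : a * b * y * (a * b)⁻¹ * y⁻¹ = a * (b * y * b⁻¹ * y⁻¹) * a⁻¹ * (a * y * a⁻¹ * y⁻¹) := by
      group
    show a * b * y * (a * b)⁻¹ * y⁻¹ ∈ B
    rw [e]
    exact h2
  · intro y _
    have : (1 : L) * y * 1⁻¹ * y⁻¹ = 1 := by group
    rw [this]
    exact B.one_mem
  · intro a ha y hy
    have h1 := hB.conj_mem _ (B.inv_mem (ha y hy)) a⁻¹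
    have e : a⁻¹ * y * a⁻¹⁻¹ * y⁻¹ = a⁻¹ * (a * y * a⁻¹ * y⁻¹)⁻¹ * a⁻¹⁻¹ := by group
    show a⁻¹ * y * a⁻¹⁻¹ * y⁻¹ ∈ B
    rw [e]
    exact h1

theorem comm_mem {L : Type*} [Group L] (M H₁ H : Subgroup L) [hM : M.Normal] [hH₁ : H₁.Normal]
    [H.Normal] (i : ℕ) : ∀ x ∈ M ⊔ (H₁ ⊓ H.lowerCentralSeries i), ∀ y ∈ H,
      x * y * x⁻¹ * y⁻¹ ∈ M ⊔ (H₁ ⊓ H.lowerCentralSeries (i + 1)) := by
  obtain ⟨Z, hZ⟩ := exists_centMod H (M ⊔ (H₁ ⊓ H.lowerCentralSeries (i + 1)))
  have h1 : M ⊔ (H₁ ⊓ H.lowerCentralSeries i) ≤ Z := by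
    apply sup_le
    · intro m hm
      rw [hZ]
      intro y hy
      have e : m * y * m⁻¹ * y⁻¹ = m * (y * m⁻¹ * y⁻¹) := by group
      rw [e]
      exact Subgroup.mem_sup_left (M.mul_mem hm (hM.conj_mem _ (M.inv_mem hm) y))
    · intro x hx
      rw [hZ]
      intro y hy
      apply Subgroup.mem_sup_right
      refine ⟨?_, ?_⟩
      · have e : x * y * x⁻¹ * y⁻¹ = x * (y * x⁻¹ * y⁻¹) := by group
        rw [e]
        exact H₁.mul_mem hx.1 (hH₁.conj_mem _ (H₁.inv_mem hx.1) y)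
      · have := Subgroup.commutator_mem_commutator hx.2 hy
        rw [commutatorElement_def] at this
        exact this
  intro x hx
  exact (hZ x).mp (h1 hx)

theorem arith2 (a e h : ℕ) (ha : 1 ≤ a) (hh : 4 * e ^ 2 + 1 < h) :
    4 * (a * e) ^ 2 * h < (h * a - 1) ^ 2 := by
  have h1 : 1 ≤ h * a := by
    have : 1 ≤ h := by omega
    exact Nat.mul_le_mul this ha
  zify [h1]
  have ha' : (1 : ℤ) ≤ a := by exact_mod_cast ha
  have hh' : (4 : ℤ) * e ^ 2 + 2 ≤ h := by exact_mod_cast hh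
  have h0 : (0 : ℤ) ≤ (a : ℤ) * h := by positivity
  have P1 : (0 : ℤ) ≤ (a : ℤ) * h * (a * (h - 4 * e ^ 2 - 2)) :=
    mul_nonneg h0 (mul_nonneg (by linarith) (by linarith))
  have P2 : (0 : ℤ) ≤ (a : ℤ) * h * (2 * a - 2) := mul_nonneg h0 (by linarith)
  nlinarith [P1, P2]

/-- Let K be a solvable normal subgroup of the finite group L and (S, τ, R) a coherence system from L to G with S the functions induced from non-principal irreducible characters of K; S(A) the members of S induced from characters whose kernel contains A. Let M ≤ H₁ ≤ H ≤ K be normal subgroups of L such that every term of the lower central series of H eventually lies in M (H/M nilpotent), S(H₁) is coherent and [H:H₁] > 4 * [L:K]^2 + 1. Then S(M) is coherent. -/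
theorem result {L : Type*} [Group L] [Fintype L] {G : Type*} [Group G] [Fintype G] (K : Subgroup L) [hK : K.Normal] (hsolv : Group.IsSolvable K) (τ : (L → ℂ) → (G → ℂ)) (R : (L → ℂ) → Finset (G → ℂ)) (hS : Cfsg.IsCoherenceSystem (Cfsg.inducedIrrAbove K ⊥) τ R) (M H₁ H : Subgroup L) [M.Normal] [H₁.Normal] [H.Normal] (hMH₁ : M ≤ H₁) (hH₁H : H₁ ≤ H) (hHK : H ≤ K) [(M.subgroupOf H).Normal] (hnil : Group.IsNilpotent (↥H ⧸ M.subgroupOf H)) (hcoh : Cfsg.IsCoherent (Cfsg.inducedIrrAbove K H₁) {1}ᶜ τ) (hbig : 4 * K.index ^ 2 + 1 < H₁.relIndex H) : Cfsg.IsCoherent (Cfsg.inducedIrrAbove K M) {1}ᶜ τ := by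
  classical
  obtain ⟨n, hn⟩ : ∃ n, H.lowerCentralSeries n ≤ M := by
    obtain ⟨n, hn⟩ := Subgroup.nilpotent_iff_lowerCentralSeries.mp hnil
    refine ⟨n, ?_⟩
    have h1 : ((⊤ : Subgroup H).lowerCentralSeries n).map (QuotientGroup.mk' (M.subgroupOf H))
        = ⊥ := by
      rw [Subgroup.map_lowerCentralSeries,
        Subgroup.map_top_of_surjective _ (QuotientGroup.mk'_surjective _), hn]
    have h2 : (⊤ : Subgroup H).lowerCentralSeries n ≤ M.subgroupOf H := by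
      rw [← QuotientGroup.ker_mk' (M.subgroupOf H)]
      exact (Subgroup.map_eq_bot_iff _).mp h1
    rw [← Subgroup.top_subtype_lowerCentralSeries]
    intro x hx
    obtain ⟨y, hy, rfl⟩ := hx
    exact Subgroup.mem_subgroupOf.mp (h2 hy)
  have hH₁ne : ¬ H ≤ H₁ := by
    intro h
    have : H₁.relIndex H = 1 := Subgroup.relIndex_eq_one.mpr h
    omega
  have hDle : ∀ i, M ⊔ (H₁ ⊓ H.lowerCentralSeries i) ≤ H₁ := fun i => sup_le hMH₁ inf_le_left
  have hDK : ∀ i, M ⊔ (H₁ ⊓ H.lowerCentralSeries i) < K := fun i =>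
    lt_of_le_not_ge ((hDle i).trans (hH₁H.trans hHK)) fun h => hH₁ne (hHK.trans (h.trans (hDle i)))
  have key : ∀ i, IsCoherent (inducedIrrAbove K (M ⊔ (H₁ ⊓ H.lowerCentralSeries i))) {1}ᶜ τ := by
    intro i
    induction i with
    | zero =>
      have : M ⊔ (H₁ ⊓ H.lowerCentralSeries 0) = H₁ := by
        rw [Subgroup.lowerCentralSeries_zero, inf_eq_left.mpr hH₁H, sup_eq_right.mpr hMH₁]
      rw [this]
      exact hcoh
    | succ i ih =>
      refine Cfsg.Agent.S1519.result K hsolv τ R hS (M ⊔ (H₁ ⊓ H.lowerCentralSeries i))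
        (M ⊔ (H₁ ⊓ H.lowerCentralSeries (i + 1))) H (M ⊔ (H₁ ⊓ H.lowerCentralSeries i))
        (hDK i) (hDK (i + 1)) ?_ ((hDle i).trans hH₁H) hHK (comm_mem M H₁ H i) ih ?_
      · exact sup_le_sup_left (inf_le_inf_left _
          (Subgroup.lowerCentralSeries_antitone H (Nat.le_succ i))) _
      · have e1 : H.index = H.relIndex K * K.index := (Subgroup.relIndex_mul_index hHK).symm
        have e2 : (M ⊔ (H₁ ⊓ H.lowerCentralSeries i)).relIndex K
            = (M ⊔ (H₁ ⊓ H.lowerCentralSeries i)).relIndex H * H.relIndex K :=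
          (Subgroup.relIndex_mul_relIndex _ _ _ ((hDle i).trans hH₁H) hHK).symm
        have e3 : H₁.relIndex H ≤ (M ⊔ (H₁ ⊓ H.lowerCentralSeries i)).relIndex H :=
          Subgroup.relIndex_le_of_le_left (hDle i) Subgroup.index_ne_zero_of_finite
        have e4 : 1 ≤ H.relIndex K :=
          Nat.one_le_iff_ne_zero.mpr Subgroup.index_ne_zero_of_finite
        rw [e1, e2]
        exact arith2 _ _ _ e4 (lt_of_lt_of_le hbig e3)
  have h := key n
  rwa [sup_eq_left.mpr (inf_le_right.trans hn)] at h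

end Cfsg.Agent.S1520
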