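import Cfsg.Statements.S1529
import Cfsg.Agent.Lib.Helper26.GenChar

set_option autoImplicit false
open Cfsg

namespace Cfsg.Agent.S1529

open Cfsg.Agent.Lib.CT Cfsg.Agent.Lib.CT.Wedderburn Cfsg.Agent.Lib.Helper26.GenChar

/-- Let N be a subgroup of the finite group G, S a set of irreducible characters of N with at least two members, and τ₁ a linear isometry on the integer combinations of S with virtual-character values such that τ₁ α vanishes at 1 whenever α ∈ ℤ[S] does. Then there is ε ∈ {1, −1} such that ε • τ₁ χ is an irreducible character of G for every χ ∈ S, and distinct members of S give distinct characters. -/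
theorem result {G : Type*} [Group G] [Fintype G] (N : Subgroup G) [Fintype N] (S : Set (N → ℂ)) (hirr : ∀ χ ∈ S, Cfsg.IsIrrCharacter N χ) (htwo : ∃ χ ∈ S, ∃ ψ ∈ S, χ ≠ ψ) (τ₁ : (N → ℂ) → (G → ℂ)) (hτ₁ : Cfsg.IsLinearIsometryOn (Cfsg.zspan S) τ₁) (h0 : ∀ α ∈ Cfsg.zspan S, α 1 = 0 → τ₁ α 1 = 0) : ∃ ε : ℂ, (ε = 1 ∨ ε = -1) ∧ (∀ χ ∈ S, Cfsg.IsIrrCharacter G (ε • τ₁ χ)) ∧ (∀ χ ∈ S, ∀ ψ ∈ S, τ₁ χ = τ₁ ψ → χ = ψ) := by
  obtain ⟨hadd, hsmul, hinner, hgen⟩ := hτ₁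
  have hmem : ∀ χ ∈ S, χ ∈ zspan S := fun χ hχ => Submodule.subset_span hχ
  -- step 1: each image is plus or minus an irreducible character
  have h1 : ∀ χ ∈ S, ∃ ε : ℂ, (ε = 1 ∨ ε = -1) ∧ IsIrrCharacter G (ε • τ₁ χ) := by
    intro χ hχ
    have hn : classInner (τ₁ χ) (τ₁ χ) = 1 := by
      rw [hinner χ (hmem χ hχ) χ (hmem χ hχ)]
      exact NormOne.inner_self_eq_one_of_irr (hirr χ hχ)
    obtain ⟨μ, hμ, h | h⟩ := eq_irr_or_neg_of_norm_one (hgen χ (hmem χ hχ)) hn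
    · exact ⟨1, Or.inl rfl, by rw [one_smul, h]; exact hμ⟩
    · exact ⟨-1, Or.inr rfl, by rw [h]; simpa using hμ⟩
  -- step 2: the signs agree
  have h2 : ∀ χ ∈ S, ∀ ψ ∈ S, ∀ ε ε' : ℂ, (ε = 1 ∨ ε = -1) → (ε' = 1 ∨ ε' = -1) →
      IsIrrCharacter G (ε • τ₁ χ) → IsIrrCharacter G (ε' • τ₁ ψ) → ε = ε' := by
    intro χ hχ ψ hψ ε ε' hε hε' hP hP'
    obtain ⟨a, ha, ha1⟩ := irr_exists_apply_one_pos hP
    obtain ⟨b, hb, hb1⟩ := irr_exists_apply_one_pos hP'
    obtain ⟨dχ, hdχ, hdχ1⟩ := irr_exists_apply_one_pos (hirr χ hχ)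
    obtain ⟨dψ, hdψ, hdψ1⟩ := irr_exists_apply_one_pos (hirr ψ hψ)
    -- the combination dψ • χ - dχ • ψ vanishes at 1
    have hα : ((dψ : ℤ) • χ + (-(dχ : ℤ)) • ψ) ∈ zspan S :=
      Submodule.add_mem _ (Submodule.smul_mem _ _ (hmem χ hχ)) (Submodule.smul_mem _ _ (hmem ψ hψ))
    have hev : ∀ {X : Type _} (n : ℤ) (f : X → ℂ) (x : X), (n • f) x = (n : ℂ) * f x := by
      intro X n f x
      simp
    have hα1 : ((dψ : ℤ) • χ + (-(dχ : ℤ)) • ψ) 1 = 0 := by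
      rw [Pi.add_apply, hev, hev, hdχ1, hdψ1]
      push_cast
      ring
    have hτα := h0 _ hα hα1
    rw [hadd _ (Submodule.smul_mem _ _ (hmem χ hχ)) _ (Submodule.smul_mem _ _ (hmem ψ hψ)),
      hsmul χ (hmem χ hχ), hsmul ψ (hmem ψ hψ)] at hτα
    rw [Pi.add_apply, hev, hev] at hτα
    push_cast at hτα
    simp only [Pi.smul_apply, smul_eq_mul] at ha1 hb1
    rcases hε with rfl | rfl <;> rcases hε' with rfl | rfl
    · rfl
    · exfalso
      have e1 : τ₁ χ 1 = a := by simpa using ha1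
      have e2 : τ₁ ψ 1 = -b := by
        have : -τ₁ ψ 1 = b := by simpa using hb1
        rw [← this, neg_neg]
      rw [e1, e2] at hτα
      have : ((dψ * a + dχ * b : ℕ) : ℂ) = 0 := by
        push_cast
        linear_combination hτα
      have h3 : dψ * a + dχ * b = 0 := by exact_mod_cast this
      have : 0 < dψ * a := Nat.mul_pos hdψ ha
      omega
    · exfalso
      have e1 : τ₁ χ 1 = -a := by
        have : -τ₁ χ 1 = a := by simpa using ha1
        rw [← this, neg_neg]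
      have e2 : τ₁ ψ 1 = b := by simpa using hb1
      rw [e1, e2] at hτα
      have : ((dψ * a + dχ * b : ℕ) : ℂ) = 0 := by
        push_cast
        linear_combination -hτα
      have h3 : dψ * a + dχ * b = 0 := by exact_mod_cast this
      have : 0 < dψ * a := Nat.mul_pos hdψ ha
      omega
    · rfl
  obtain ⟨χ₀, hχ₀, -⟩ := htwo
  obtain ⟨ε, hε, hP⟩ := h1 χ₀ hχ₀
  refine ⟨ε, hε, ?_, ?_⟩
  · intro χ hχ
    obtain ⟨ε', hε', hP'⟩ := h1 χ hχ
    have := h2 χ₀ hχ₀ χ hχ ε ε' hε hε' hP hP'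
    rw [this]
    exact hP'
  · intro χ hχ ψ hψ heq
    have hn : classInner (τ₁ χ) (τ₁ ψ) = 1 := by
      rw [← heq, hinner χ (hmem χ hχ) χ (hmem χ hχ)]
      exact NormOne.inner_self_eq_one_of_irr (hirr χ hχ)
    rw [hinner χ (hmem χ hχ) ψ (hmem ψ hψ)] at hn
    have horth := irr_orthonormal (⟨χ, hirr χ hχ⟩ : IrrCharacter N) ⟨ψ, hirr ψ hψ⟩
    simp only [hn] at horth
    by_contra hne
    rw [if_neg (fun h => hne (congrArg Subtype.val h))] at horth
    exact one_ne_zero horth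

end Cfsg.Agent.S1529
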