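import Cfsg.Statements.S1531
import Cfsg.Agent.Lib.Helper26.Coherence
import Cfsg.Agent.S1529

set_option autoImplicit false
open Cfsg

namespace Cfsg.Agent.S1531

open Cfsg.Agent.Lib.CT Cfsg.Agent.Lib.CT.Wedderburn Cfsg.Agent.Lib.Helper26.GenChar
  Cfsg.Agent.Lib.Helper26.Coherence
open scoped ComplexConjugate

private theorem sign_facts {ε : ℂ} (h : ε = 1 ∨ ε = -1) : conj ε = ε ∧ ε * ε = 1 ∧ ε ≠ 0 := by
  rcases h with rfl | rfl <;> simp

/-- Inner product of two functions that are irreducible characters up to given signs. -/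
private theorem inner_signed {G : Type*} [Group G] [Fintype G] {a b : G → ℂ} {ε ε' : ℂ}
    (hε : ε = 1 ∨ ε = -1) (hε' : ε' = 1 ∨ ε' = -1) (ha : IsIrrCharacter G (ε • a))
    (hb : IsIrrCharacter G (ε' • b)) :
    classInner a b = ε * ε' * (if ε • a = ε' • b then 1 else 0) := by
  obtain ⟨h1, h2, h3⟩ := sign_facts hε
  obtain ⟨h1', h2', h3'⟩ := sign_facts hε'
  have h := irr_inner ha hb
  rw [Orth.classInner_smul_left, classInner_smul_right, h1'] at h
  have : classInner a b = ε * ε' * (ε * (ε' * classInner a b)) := by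
    have e : ε * ε' * (ε * (ε' * classInner a b)) = (ε * ε) * (ε' * ε') * classInner a b := by ring
    rw [e, h2, h2', one_mul, one_mul]
  rw [this, h]

/-- Let N be a subgroup of the finite group G, S a set of irreducible characters of N, and α a linear isometry on the integer combinations of S vanishing at 1 with values virtual characters of G vanishing at 1. Let X, Y ⊆ S be disjoint, each with at least two members, and σ, τ linear isometries on ℤ[X], ℤ[Y] into virtual characters agreeing with α on the members vanishing at 1. Then ⟨σ χ, τ η⟩ = 0 for χ ∈ X, η ∈ Y; and if for some χ₀ ∈ X, η₀ ∈ Y with degrees c = χ₀ 1, e = η₀ 1 one has α (c • η₀ − e • χ₀) = c • τ η₀ − e • σ χ₀, then (X ∪ Y, N minus 1, α) is coherent. -/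
theorem result {G : Type*} [Group G] [Fintype G] (N : Subgroup G) [Fintype N] (S X Y : Set (N → ℂ)) (hirr : ∀ ξ ∈ S, Cfsg.IsIrrCharacter N ξ) (hXS : X ⊆ S) (hYS : Y ⊆ S) (hXY : Disjoint X Y) (hX2 : ∃ a ∈ X, ∃ b ∈ X, a ≠ b) (hY2 : ∃ a ∈ Y, ∃ b ∈ Y, a ≠ b) (α : (N → ℂ) → (G → ℂ)) (hα : Cfsg.IsLinearIsometryOn (Cfsg.zspanOn S {1}ᶜ) α) (hα1 : ∀ θ ∈ Cfsg.zspanOn S {1}ᶜ, α θ 1 = 0) (σ τ : (N → ℂ) → (G → ℂ)) (hσ : Cfsg.IsLinearIsometryOn (Cfsg.zspan X) σ) (hσα : ∀ θ ∈ Cfsg.zspanOn X {1}ᶜ, σ θ = α θ) (hτ : Cfsg.IsLinearIsometryOn (Cfsg.zspan Y) τ) (hτα : ∀ θ ∈ Cfsg.zspanOn Y {1}ᶜ, τ θ = α θ) : (∀ χ ∈ X, ∀ η ∈ Y, Cfsg.classInner (σ χ) (τ η) = 0) ∧ ((∃ χ₀ ∈ X, ∃ η₀ ∈ Y, α (χ₀ 1 • η₀ - η₀ 1 • χ₀) = χ₀ 1 • τ η₀ - η₀ 1 • σ χ₀) → Cfsg.IsCoherent (X ∪ Y) {1}ᶜ α) := by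
  classical
  have hX : ∀ ξ ∈ X, IsIrrCharacter N ξ := fun ξ h => hirr ξ (hXS h)
  have hY : ∀ ξ ∈ Y, IsIrrCharacter N ξ := fun ξ h => hirr ξ (hYS h)
  have hEX := isZSub_zspan X
  have hEY := isZSub_zspan Y
  have hES := isZSub_zspanOn S
  have hσ0 : ∀ θ ∈ zspan X, θ 1 = 0 → σ θ 1 = 0 := by
    intro θ hθ h1
    have hθ' : θ ∈ zspanOn X {1}ᶜ := mem_zspanOn.mpr ⟨hθ, h1⟩
    rw [hσα θ hθ']
    exact hα1 θ (zspanOn_mono hXS hθ')
  have hτ0 : ∀ θ ∈ zspan Y, θ 1 = 0 → τ θ 1 = 0 := by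
    intro θ hθ h1
    have hθ' : θ ∈ zspanOn Y {1}ᶜ := mem_zspanOn.mpr ⟨hθ, h1⟩
    rw [hτα θ hθ']
    exact hα1 θ (zspanOn_mono hYS hθ')
  obtain ⟨εX, hεX, hσirr, hσinj⟩ := Cfsg.Agent.S1529.result N X hX hX2 σ hσ hσ0
  obtain ⟨εY, hεY, hτirr, hτinj⟩ := Cfsg.Agent.S1529.result N Y hY hY2 τ hτ hτ0
  obtain ⟨hX1, hX2', hX3⟩ := sign_facts hεX
  obtain ⟨hY1, hY2', hY3⟩ := sign_facts hεY
  -- part 1
  have part1 : ∀ χ ∈ X, ∀ η ∈ Y, classInner (σ χ) (τ η) = 0 := by
    intro χ hχ η hη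
    by_contra hne
    have hform : ∀ x ∈ X, ∀ y ∈ Y, classInner (σ x) (τ y) =
        εX * εY * (if εX • σ x = εY • τ y then 1 else 0) :=
      fun x hx y hy => inner_signed hεX hεY (hσirr x hx) (hτirr y hy)
    have heq : εX • σ χ = εY • τ η := by
      by_contra h
      apply hne
      rw [hform χ hχ η hη, if_neg h, mul_zero]
    -- other elements
    obtain ⟨χ', hχ', hχne⟩ : ∃ χ' ∈ X, χ' ≠ χ := by
      obtain ⟨a, ha, b, hb, hab⟩ := hX2
      by_cases h : a = χ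
      · exact ⟨b, hb, fun h' => hab (h.trans h'.symm)⟩
      · exact ⟨a, ha, h⟩
    obtain ⟨η', hη', hηne⟩ : ∃ η' ∈ Y, η' ≠ η := by
      obtain ⟨a, ha, b, hb, hab⟩ := hY2
      by_cases h : a = η
      · exact ⟨b, hb, fun h' => hab (h.trans h'.symm)⟩
      · exact ⟨a, ha, h⟩
    have h12 : classInner (σ χ) (τ η') = 0 := by
      rw [hform χ hχ η' hη', if_neg, mul_zero]
      intro h
      have : εY • τ η' = εY • τ η := by rw [← h, heq]
      have h' : τ η' = τ η := by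
        have := congrArg (fun f => εY • f) this
        simpa [smul_smul, hY2'] using this
      exact hηne (hτinj η' hη' η hη h')
    have h21 : classInner (σ χ') (τ η) = 0 := by
      rw [hform χ' hχ' η hη, if_neg, mul_zero]
      intro h
      have : εX • σ χ' = εX • σ χ := by rw [h, heq]
      have h' : σ χ' = σ χ := by
        have := congrArg (fun f => εX • f) this
        simpa [smul_smul, hX2'] using this
      exact hχne (hσinj χ' hχ' χ hχ h')
    have h11 : classInner (σ χ) (τ η) = εX * εY := by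
      rw [hform χ hχ η hη, if_pos heq, mul_one]
    obtain ⟨t, ht, h22⟩ : ∃ t : ℕ, t ≤ 1 ∧ classInner (σ χ') (τ η') = εX * εY * t := by
      rw [hform χ' hχ' η' hη']
      by_cases h : εX • σ χ' = εY • τ η'
      · exact ⟨1, le_refl _, by rw [if_pos h]; simp⟩
      · exact ⟨0, by norm_num, by rw [if_neg h]; simp⟩
    obtain ⟨d, hd, hd1⟩ := irr_exists_apply_one_pos (hX χ hχ)
    obtain ⟨d', hd', hd1'⟩ := irr_exists_apply_one_pos (hX χ' hχ')
    obtain ⟨e, he, he1⟩ := irr_exists_apply_one_pos (hY η hη)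
    obtain ⟨e', he', he1'⟩ := irr_exists_apply_one_pos (hY η' hη')
    have hχz := subset_zspan hχ
    have hχz' := subset_zspan hχ'
    have hηz := subset_zspan hη
    have hηz' := subset_zspan hη'
    have hA : ((d' : ℤ) • χ - (d : ℤ) • χ') ∈ zspanOn X {1}ᶜ := by
      refine mem_zspanOn.mpr ⟨sub_mem_zspan (zsmul_mem_zspan _ hχz) (zsmul_mem_zspan _ hχz'), ?_⟩
      rw [Pi.sub_apply, zsmul_apply, zsmul_apply, hd1, hd1']
      push_cast
      ring
    have hB : ((e' : ℤ) • η - (e : ℤ) • η') ∈ zspanOn Y {1}ᶜ := by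
      refine mem_zspanOn.mpr ⟨sub_mem_zspan (zsmul_mem_zspan _ hηz) (zsmul_mem_zspan _ hηz'), ?_⟩
      rw [Pi.sub_apply, zsmul_apply, zsmul_apply, he1, he1']
      push_cast
      ring
    have hAB : classInner (σ ((d' : ℤ) • χ - (d : ℤ) • χ')) (τ ((e' : ℤ) • η - (e : ℤ) • η')) = 0 := by
      rw [hσα _ hA, hτα _ hB, iso_inner hα (zspanOn_mono hXS hA) (zspanOn_mono hYS hB)]
      exact inner_zspan_disjoint hX hY hXY (mem_zspanOn.mp hA).1 (mem_zspanOn.mp hB).1
    rw [iso_sub hEX hσ (zsmul_mem_zspan _ hχz) (zsmul_mem_zspan _ hχz'),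
      iso_zsmul hσ _ hχz, iso_zsmul hσ _ hχz',
      iso_sub hEY hτ (zsmul_mem_zspan _ hηz) (zsmul_mem_zspan _ hηz'),
      iso_zsmul hτ _ hηz, iso_zsmul hτ _ hηz'] at hAB
    simp only [Orth.classInner_sub_left, classInner_sub_right, classInner_intCast_smul_left,
      classInner_intCast_smul_right, h11, h12, h21, h22] at hAB
    push_cast at hAB
    have hkey : εX * εY * ((d' * e' + d * e * t : ℕ) : ℂ) = 0 := by
      push_cast
      linear_combination hAB
    have hnz : εX * εY ≠ 0 := mul_ne_zero hX3 hY3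
    have hz : ((d' * e' + d * e * t : ℕ) : ℂ) = 0 := (mul_eq_zero.mp hkey).resolve_left hnz
    have hz' : d' * e' + d * e * t = 0 := by exact_mod_cast hz
    have : 0 < d' * e' := Nat.mul_pos hd' he'
    omega
  refine ⟨part1, ?_⟩
  rintro ⟨χ₀, hχ₀, η₀, hη₀, hbridge⟩
  obtain ⟨c₀, hc₀, hc₀1⟩ := irr_exists_apply_one_pos (hX χ₀ hχ₀)
  obtain ⟨e₀, he₀, he₀1⟩ := irr_exists_apply_one_pos (hY η₀ hη₀)
  have hχ₀z := subset_zspan hχ₀
  have hη₀z := subset_zspan hη₀
  -- the bridge in integer form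
  have hC : ((c₀ : ℤ) • η₀ - (e₀ : ℤ) • χ₀) ∈ zspanOn S {1}ᶜ := by
    refine mem_zspanOn.mpr ⟨sub_mem_zspan (zsmul_mem_zspan _ (zspan_mono hYS hη₀z))
      (zsmul_mem_zspan _ (zspan_mono hXS hχ₀z)), ?_⟩
    rw [Pi.sub_apply, zsmul_apply, zsmul_apply, hc₀1, he₀1]
    push_cast
    ring
  have hbridge' : α ((c₀ : ℤ) • η₀ - (e₀ : ℤ) • χ₀) = (c₀ : ℤ) • τ η₀ - (e₀ : ℤ) • σ χ₀ := by
    have e1 : (c₀ : ℤ) • η₀ - (e₀ : ℤ) • χ₀ = χ₀ 1 • η₀ - η₀ 1 • χ₀ := by
      rw [zsmul_eq_smul, zsmul_eq_smul, hc₀1, he₀1]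
      push_cast
      rfl
    have e2 : (c₀ : ℤ) • τ η₀ - (e₀ : ℤ) • σ χ₀ = χ₀ 1 • τ η₀ - η₀ 1 • σ χ₀ := by
      rw [zsmul_eq_smul, zsmul_eq_smul, hc₀1, he₀1]
      push_cast
      rfl
    rw [e1, e2, hbridge]
  -- cross terms vanish
  have hcross : ∀ a ∈ zspan X, ∀ b ∈ zspan Y, classInner (σ a) (τ b) = 0 := by
    intro a ha b hb
    induction ha using Submodule.span_induction with
    | mem x hx =>
      induction hb using Submodule.span_induction with
      | mem y hy => exact part1 x hx y hy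
      | zero => rw [iso_zero hEY hτ]; exact classInner_zero_right _
      | add y z hy' hz' hy hz => rw [iso_add hτ hy' hz', classInner_add_right, hy, hz, add_zero]
      | smul n y hy' hy => rw [iso_zsmul hτ n hy', classInner_intCast_smul_right, hy, mul_zero]
    | zero => rw [iso_zero hEX hσ]; exact Orth.classInner_zero_left _
    | add x y hx' hy' hx hy => rw [iso_add hσ hx' hy', Orth.classInner_add_left, hx, hy, add_zero]
    | smul n x hx' hx => rw [iso_zsmul hσ n hx', classInner_intCast_smul_left, hx, mul_zero]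
  have hcross' : ∀ a ∈ zspan X, ∀ b ∈ zspan Y, classInner (τ b) (σ a) = 0 := by
    intro a ha b hb
    rw [Clifford.classInner_conj_symm, hcross a ha b hb, map_zero]
  have horth : ∀ a ∈ zspan X, ∀ b ∈ zspan Y, classInner a b = 0 :=
    fun a ha b hb => inner_zspan_disjoint hX hY hXY ha hb
  have horth' : ∀ a ∈ zspan X, ∀ b ∈ zspan Y, classInner b a = 0 := by
    intro a ha b hb
    rw [Clifford.classInner_conj_symm, horth a ha b hb, map_zero]
  -- uniqueness of the decomposition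
  have huniq : ∀ a ∈ zspan X, ∀ b ∈ zspan Y, ∀ a' ∈ zspan X, ∀ b' ∈ zspan Y, a + b = a' + b' →
      a = a' ∧ b = b' := by
    intro a ha b hb a' ha' b' hb' h
    have hc : a - a' = b' - b := by
      rw [sub_eq_sub_iff_add_eq_add, h, add_comm]
    have hcX : a - a' ∈ zspan X := sub_mem_zspan ha ha'
    have hcY : a - a' ∈ zspan Y := by rw [hc]; exact sub_mem_zspan hb' hb
    have h0 : a - a' = 0 := eq_zero_of_classInner_self_eq_zero (horth _ hcX _ hcY)
    refine ⟨sub_eq_zero.mp h0, ?_⟩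
    rw [h0] at hc
    exact (sub_eq_zero.mp hc.symm).symm
  have hdecomp : ∀ θ ∈ zspan (X ∪ Y), ∃ a ∈ zspan X, ∃ b ∈ zspan Y, θ = a + b := by
    intro θ hθ
    rw [mem_zspan, Submodule.span_union, Submodule.mem_sup] at hθ
    obtain ⟨a, ha, b, hb, rfl⟩ := hθ
    exact ⟨a, ha, b, hb, rfl⟩
  refine ⟨?_, ?_⟩
  · -- a nonzero element
    obtain ⟨a, ha, b, hb, hab⟩ := hX2
    obtain ⟨da, hda, hda1⟩ := irr_exists_apply_one_pos (hX a ha)
    obtain ⟨db, hdb, hdb1⟩ := irr_exists_apply_one_pos (hX b hb)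
    refine ⟨(db : ℤ) • a - (da : ℤ) • b, mem_zspanOn.mpr ⟨?_, ?_⟩, ?_⟩
    · exact sub_mem_zspan (zsmul_mem_zspan _ (subset_zspan (Or.inl ha)))
        (zsmul_mem_zspan _ (subset_zspan (Or.inl hb)))
    · rw [Pi.sub_apply, zsmul_apply, zsmul_apply, hda1, hdb1]
      push_cast
      ring
    · intro h0
      have h : classInner ((db : ℤ) • a - (da : ℤ) • b) a = 0 := by
        rw [h0]; exact Orth.classInner_zero_left _
      rw [Orth.classInner_sub_left, classInner_intCast_smul_left, classInner_intCast_smul_left,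
        irr_inner_self (hX a ha), irr_inner_ne (hX b hb) (hX a ha) (Ne.symm hab)] at h
      have h' : (db : ℂ) = 0 := by simpa using h
      exact hdb.ne' (by exact_mod_cast h')
  · let ρ : (N → ℂ) → (G → ℂ) := fun θ =>
      if h : ∃ a ∈ zspan X, ∃ b ∈ zspan Y, θ = a + b then
        σ (Classical.choose h) + τ (Classical.choose (Classical.choose_spec h).2)
      else 0
    have hρ : ∀ a ∈ zspan X, ∀ b ∈ zspan Y, ρ (a + b) = σ a + τ b := by
      intro a ha b hb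
      have h : ∃ a' ∈ zspan X, ∃ b' ∈ zspan Y, a + b = a' + b' := ⟨a, ha, b, hb, rfl⟩
      have hdef : ρ (a + b) = σ (Classical.choose h) + τ (Classical.choose (Classical.choose_spec h).2) :=
        dif_pos h
      have ha' := (Classical.choose_spec h).1
      have hb' := (Classical.choose_spec (Classical.choose_spec h).2).1
      have heq := (Classical.choose_spec (Classical.choose_spec h).2).2
      obtain ⟨e1, e2⟩ := huniq a ha b hb _ ha' _ hb' heq
      rw [hdef]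
      congr 1
      · exact congrArg σ e1.symm
      · exact congrArg τ e2.symm
    refine ⟨ρ, ⟨?_, ?_, ?_, ?_⟩, ?_⟩
    · intro θ hθ θ' hθ'
      obtain ⟨a, ha, b, hb, rfl⟩ := hdecomp θ hθ
      obtain ⟨a', ha', b', hb', rfl⟩ := hdecomp θ' hθ'
      have e : a + b + (a' + b') = (a + a') + (b + b') := by abel
      rw [e, hρ _ (add_mem_zspan ha ha') _ (add_mem_zspan hb hb'), hρ a ha b hb, hρ a' ha' b' hb',
        iso_add hσ ha ha', iso_add hτ hb hb']
      abel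
    · intro θ hθ n
      obtain ⟨a, ha, b, hb, rfl⟩ := hdecomp θ hθ
      rw [smul_add, hρ _ (zsmul_mem_zspan n ha) _ (zsmul_mem_zspan n hb), hρ a ha b hb,
        iso_zsmul hσ n ha, iso_zsmul hτ n hb, smul_add]
    · intro θ hθ θ' hθ'
      obtain ⟨a, ha, b, hb, rfl⟩ := hdecomp θ hθ
      obtain ⟨a', ha', b', hb', rfl⟩ := hdecomp θ' hθ'
      rw [hρ a ha b hb, hρ a' ha' b' hb']
      simp only [Orth.classInner_add_left, classInner_add_right]
      rw [iso_inner hσ ha ha', iso_inner hτ hb hb', hcross a ha b' hb', hcross' a' ha' b hb,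
        horth a ha b' hb', horth' a' ha' b hb]
    · intro θ hθ
      obtain ⟨a, ha, b, hb, rfl⟩ := hdecomp θ hθ
      rw [hρ a ha b hb]
      exact isGeneralizedCharacter_add (iso_gen hσ ha) (iso_gen hτ hb)
    · intro θ hθ
      obtain ⟨hθ1, hθ2⟩ := mem_zspanOn.mp hθ
      obtain ⟨a, ha, b, hb, rfl⟩ := hdecomp θ hθ1
      rw [hρ a ha b hb]
      obtain ⟨m, hm⟩ := exists_int_apply_one hX ha
      have hb1 : b 1 = -(m : ℂ) := by
        rw [Pi.add_apply, hm] at hθ2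
        linear_combination hθ2
      -- the three pieces
      have hA₁ : (((c₀ : ℤ) * e₀) • a - (m * e₀) • χ₀) ∈ zspanOn X {1}ᶜ := by
        refine mem_zspanOn.mpr ⟨sub_mem_zspan (zsmul_mem_zspan _ ha) (zsmul_mem_zspan _ hχ₀z), ?_⟩
        rw [Pi.sub_apply, zsmul_apply, zsmul_apply, hm, hc₀1]
        push_cast
        ring
      have hB₁ : (((c₀ : ℤ) * e₀) • b + (m * c₀) • η₀) ∈ zspanOn Y {1}ᶜ := by
        refine mem_zspanOn.mpr ⟨add_mem_zspan (zsmul_mem_zspan _ hb) (zsmul_mem_zspan _ hη₀z), ?_⟩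
        rw [Pi.add_apply, zsmul_apply, zsmul_apply, hb1, he₀1]
        push_cast
        ring
      have hA₁S := zspanOn_mono hXS hA₁
      have hB₁S := zspanOn_mono hYS hB₁
      have hθS : a + b ∈ zspanOn S {1}ᶜ :=
        zspanOn_mono (Set.union_subset hXS hYS) hθ
      have hsplit : ((c₀ : ℤ) * e₀) • (a + b) =
          (((c₀ : ℤ) * e₀) • a - (m * e₀) • χ₀) + (((c₀ : ℤ) * e₀) • b + (m * c₀) • η₀) +
            (-m) • ((c₀ : ℤ) • η₀ - (e₀ : ℤ) • χ₀) := by
        module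
      have h1 : α (((c₀ : ℤ) * e₀) • (a + b)) = ((c₀ : ℤ) * e₀) • α (a + b) :=
        iso_zsmul hα _ hθS
      have h2 : α (((c₀ : ℤ) * e₀) • (a + b)) = ((c₀ : ℤ) * e₀) • (σ a + τ b) := by
        rw [hsplit, iso_add hα (hES.add _ hA₁S _ hB₁S) (hES.zsmul _ _ hC),
          iso_add hα hA₁S hB₁S, iso_zsmul hα _ hC, hbridge', ← hσα _ hA₁, ← hτα _ hB₁,
          iso_sub hEX hσ (zsmul_mem_zspan _ ha) (zsmul_mem_zspan _ hχ₀z),
          iso_zsmul hσ _ ha, iso_zsmul hσ _ hχ₀z,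
          iso_add hτ (zsmul_mem_zspan _ hb) (zsmul_mem_zspan _ hη₀z),
          iso_zsmul hτ _ hb, iso_zsmul hτ _ hη₀z]
        module
      rw [h1] at h2
      funext g
      have h3 := congrFun h2 g
      rw [zsmul_apply, zsmul_apply] at h3
      have hne : (((c₀ : ℤ) * e₀ : ℤ) : ℂ) ≠ 0 := by
        have : (c₀ : ℤ) * e₀ ≠ 0 := by positivity
        exact_mod_cast this
      exact (mul_left_cancel₀ hne h3).symm

end Cfsg.Agent.S1531
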