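import Cfsg.Statements.S1528
import Cfsg.Agent.Lib.Helper81.BrauerPerm
import Cfsg.Agent.Lib.Helper78.CliffordCorr
import Cfsg.Agent.Lib.CT.Clifford
import Cfsg.Agent.Lib.CT.NormOne
import Cfsg.Agent.Lib.CT.Ops
import Cfsg.Agent.Lib.CT.Wedderburn
import Mathlib

set_option autoImplicit false
open Cfsg

namespace Cfsg.Agent.S1528

/-- Let N be a normal subgroup of the finite group G such that every element of G commuting with a non-identity element of N lies in N. If χ is an irreducible character of G with χ n ≠ χ 1 for some n ∈ N, then χ is the function induced from some irreducible character of N. -/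
theorem result {G : Type*} [Group G] [Fintype G] (N : Subgroup G) [N.Normal] (hC : ∀ n ∈ N, n ≠ 1 → Subgroup.centralizer ({n} : Set G) ≤ N) (χ : G → ℂ) (hχ : Cfsg.IsIrrCharacter G χ) (hker : ∃ n ∈ N, χ n ≠ χ 1) : ∃ φ : N → ℂ, Cfsg.IsIrrCharacter N φ ∧ χ = Cfsg.indFun N φ := by
  classical
  have hN : N.Normal := inferInstance
  have _iN : Fintype N := Fintype.ofFinite N
  have hfinN := Cfsg.Agent.Lib.CT.Wedderburn.finite_irrCharacter N
  have _iI : Fintype (IrrCharacter N) := Fintype.ofFinite _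
  have hχc := Cfsg.Agent.Lib.CT.Wedderburn.isCharacter_of_irr hχ
  have hres : IsCharacter N (fun n : N => χ n) := Cfsg.Agent.Lib.CT.Ops.isCharacter_restrict N hχc
  obtain ⟨m, hm, hsum⟩ := Cfsg.Agent.Lib.CT.NormOne.exists_mult_sum hres
  -- a nonprincipal constituent
  have hex : ∃ ϑ : IrrCharacter N, (ϑ : N → ℂ) ≠ (fun _ => 1) ∧ m ϑ ≠ 0 := by
    by_contra hcon
    obtain ⟨n, hn, hne⟩ := hker
    apply hne
    have h1 : ∀ x : N, χ x = ∑ ψ : IrrCharacter N, (m ψ : ℂ) * (ψ : N → ℂ) x := by
      intro x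
      have := congrFun hsum x
      simpa [Finset.sum_apply] using this
    have h2 : ∀ x : N, χ x = χ ((1 : N) : G) := by
      intro x
      rw [h1 x, h1 1]
      apply Finset.sum_congr rfl
      intro ψ _
      by_cases hψ : (ψ : N → ℂ) = fun _ => 1
      · rw [hψ]
      · have : m ψ = 0 := by
          by_contra h0
          exact hcon ⟨ψ, hψ, h0⟩
        rw [this]
        simp
    exact h2 ⟨n, hn⟩
  obtain ⟨ϑ, hϑ1, hmϑ⟩ := hex
  have hcon : classInner (fun n : N => χ n) (ϑ : N → ℂ) ≠ 0 := by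
    rw [hm ϑ]
    exact_mod_cast hmϑ
  -- the inertia group of ϑ is N
  have hT : ∀ g : G, g ∈ N ↔ ∀ n : N,
      (ϑ : N → ℂ) ⟨g * n * g⁻¹, hN.conj_mem (n : G) n.2 g⟩ = (ϑ : N → ℂ) n := by
    intro g
    constructor
    · intro hg n
      exact Cfsg.Agent.Lib.CT.Wedderburn.char_isClassFunction
        (Cfsg.Agent.Lib.CT.Wedderburn.isCharacter_of_irr ϑ.2) n ⟨g, hg⟩
    · intro hinv
      by_contra hg
      let β : N → N := fun n => ⟨g * n * g⁻¹, hN.conj_mem (n : G) n.2 g⟩
      have hβ : ∀ ψ : IrrCharacter N, IsIrrCharacter N (fun x => ψ.1 (β x)) := fun ψ =>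
        Cfsg.Agent.Lib.CT.Clifford.isIrrCharacter_conjFun N hN ψ.2 g
      have hbp := Cfsg.Agent.Lib.Helper81.BrauerPerm.brauer_perm β hβ
      have hpairs : Nat.card {p : N × N // p.2 * p.1 * p.2⁻¹ = β p.1} = Nat.card N := by
        have hfst : ∀ p : {p : N × N // p.2 * p.1 * p.2⁻¹ = β p.1}, p.1.1 = 1 := by
          intro p
          by_contra hp1
          apply hg
          have hp := congrArg Subtype.val p.2
          simp only [β, Subgroup.coe_mul, Subgroup.coe_inv] at hp
          have hne : ((p.1.1 : N) : G) ≠ 1 := fun h => hp1 (Subtype.ext h)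
          have hmem : g⁻¹ * (p.1.2 : G) ∈ Subgroup.centralizer ({(p.1.1 : G)} : Set G) := by
            rw [Subgroup.mem_centralizer_singleton_iff]
            have : (p.1.2 : G) * (p.1.1 : G) = g * (p.1.1 : G) * g⁻¹ * (p.1.2 : G) := by
              rw [← hp]
              group
            calc g⁻¹ * (p.1.2 : G) * (p.1.1 : G) = g⁻¹ * ((p.1.2 : G) * (p.1.1 : G)) := by group
              _ = g⁻¹ * (g * (p.1.1 : G) * g⁻¹ * (p.1.2 : G)) := by rw [this]
              _ = (p.1.1 : G) * (g⁻¹ * (p.1.2 : G)) := by group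
          have h3 := hC _ p.1.1.2 hne hmem
          have h4 : g⁻¹ ∈ N := by
            have := N.mul_mem h3 (N.inv_mem p.1.2.2)
            simpa [mul_assoc] using this
          simpa using N.inv_mem h4
        refine Nat.card_congr ⟨fun p => p.1.2, fun k => ⟨(1, k), ?_⟩, ?_, ?_⟩
        · apply Subtype.ext
          simp [β]
        · intro p
          apply Subtype.ext
          apply Prod.ext
          · exact (hfst p).symm
          · rfl
        · intro k
          rfl
      rw [hpairs] at hbp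
      have hNne : (Nat.card N : ℂ) ≠ 0 := Nat.cast_ne_zero.mpr Nat.card_pos.ne'
      have hone : Nat.card {ψ : IrrCharacter N // (fun x => ψ.1 (β x)) = ψ.1} = 1 := by
        have : (Nat.card N : ℂ) *
            (Nat.card {ψ : IrrCharacter N // (fun x => ψ.1 (β x)) = ψ.1} : ℂ) =
            (Nat.card N : ℂ) * 1 := by rw [hbp, mul_one]
        have := mul_left_cancel₀ hNne this
        exact_mod_cast this
      obtain ⟨hsub, -⟩ := Nat.card_eq_one_iff_unique.mp hone
      let one : IrrCharacter N := ⟨fun _ => 1, Cfsg.Agent.Lib.CT.Ops.isIrrCharacter_one⟩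
      have e1 : (fun x => one.1 (β x)) = one.1 := rfl
      have e2 : (fun x => ϑ.1 (β x)) = ϑ.1 := by
        funext x
        exact hinv x
      have := hsub.elim (⟨one, e1⟩ : {ψ : IrrCharacter N // (fun x => ψ.1 (β x)) = ψ.1}) ⟨ϑ, e2⟩
      have h5 : one = ϑ := congrArg Subtype.val this
      apply hϑ1
      rw [← h5]
  obtain ⟨ψ, e, hψ, hind, -⟩ := Cfsg.Agent.Lib.Helper78.CliffordCorr.clifford_corr N hN
    (ϑ : N → ℂ) ϑ.2 N hT le_rfl χ hχ hcon
  exact ⟨ψ, hψ, hind.symm⟩

end Cfsg.Agent.S1528
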