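import Cfsg.Statements.S1523
import Cfsg.Agent.Lib.Helper80.Integrality
import Cfsg.Agent.Lib.Helper76.CohInd
import Cfsg.Agent.Lib.Helper26.Coherence
import Cfsg.Agent.Lib.CT.Clifford
import Cfsg.Agent.Lib.CT.Ops

set_option autoImplicit false
open Cfsg

namespace Cfsg.Agent.S1523

open Cfsg.Agent.Lib.CT Cfsg.Agent.Lib.CT.Wedderburn
open scoped ComplexConjugate

/-- A sum of an invariant function over a finite set on which a finite group acts freely is
`card A` times an algebraic integer. -/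
theorem sum_free {A X : Type*} [Group A] [Fintype A] [DecidableEq X] (act : A → X → X)
    (hone : ∀ x, act 1 x = x) (hmul : ∀ a b x, act (a * b) x = act a (act b x))
    (S : Finset X) (hS : ∀ a, ∀ x ∈ S, act a x ∈ S) (hfree : ∀ a, ∀ x ∈ S, act a x = x → a = 1)
    (F : X → ℂ) (hF : ∀ a x, F (act a x) = F x) (hint : ∀ x ∈ S, IsIntegral ℤ (F x)) :
    ∃ Γ : ℂ, IsIntegral ℤ Γ ∧ ∑ x ∈ S, F x = (Fintype.card A : ℂ) * Γ := by
  induction hk : S.card using Nat.strong_induction_on generalizing S with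
  | _ k ih =>
    by_cases hempty : S = ∅
    · subst hempty
      exact ⟨0, isIntegral_zero, by simp⟩
    · obtain ⟨x, hx⟩ := Finset.nonempty_iff_ne_empty.mpr hempty
      obtain ⟨O, hO⟩ : ∃ O : Finset X, O = Finset.univ.image (fun a : A => act a x) := ⟨_, rfl⟩
      have hOS : O ⊆ S := by
        intro y hy
        rw [hO, Finset.mem_image] at hy
        obtain ⟨a, -, rfl⟩ := hy
        exact hS a x hx
      have hxO : x ∈ O := by
        rw [hO, Finset.mem_image]
        exact ⟨1, Finset.mem_univ _, hone x⟩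
      have hinj : Function.Injective (fun a : A => act a x) := by
        intro a b hab
        have h1 : act (b⁻¹ * a) x = x := by
          rw [hmul]
          show act b⁻¹ ((fun a : A => act a x) a) = x
          rw [hab]
          show act b⁻¹ (act b x) = x
          rw [← hmul, inv_mul_cancel, hone]
        have h2 := hfree _ x hx h1
        exact (inv_mul_eq_one.mp h2).symm
      have hOsum : ∑ y ∈ O, F y = (Fintype.card A : ℂ) * F x := by
        rw [hO, Finset.sum_image (fun a _ b _ h => hinj h)]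
        simp [hF]
      have hcard : (S \ O).card < k := by
        rw [← hk]
        exact Finset.card_lt_card (Finset.sdiff_ssubset hOS ⟨x, hxO⟩)
      obtain ⟨Γ', hΓ', hsum'⟩ := ih _ hcard (S \ O)
        (by
          intro a y hy
          obtain ⟨hyS, hyO⟩ := Finset.mem_sdiff.mp hy
          refine Finset.mem_sdiff.mpr ⟨hS a y hyS, fun h => hyO ?_⟩
          rw [hO, Finset.mem_image] at h ⊢
          obtain ⟨b, -, hb⟩ := h
          refine ⟨a⁻¹ * b, Finset.mem_univ _, ?_⟩
          rw [hmul, hb, ← hmul, inv_mul_cancel, hone])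
        (fun a y hy => hfree a y (Finset.mem_sdiff.mp hy).1)
        (fun y hy => hint y (Finset.mem_sdiff.mp hy).1) rfl
      refine ⟨F x + Γ', (hint x hx).add hΓ', ?_⟩
      rw [← Finset.sum_sdiff hOS, hsum', hOsum]
      ring

theorem centralizer_inv {G : Type*} [Group G] (x : G) :
    Subgroup.centralizer ({x⁻¹} : Set G) = Subgroup.centralizer ({x} : Set G) := by
  ext g
  simp only [Subgroup.mem_centralizer_singleton_iff]
  constructor
  · intro h
    calc g * x = x * (x⁻¹ * g) * x := by group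
      _ = x * (g * x⁻¹) * x := by rw [h]
      _ = x * g := by group
  · intro h
    calc g * x⁻¹ = x⁻¹ * (x * g) * x⁻¹ := by group
      _ = x⁻¹ * (g * x) * x⁻¹ := by rw [h]
      _ = x⁻¹ * g := by group

open Classical in
/-- Difference of two class-sum identities for an irreducible character. -/
theorem class_sum_diff {G : Type*} [Group G] [Fintype G] {ψ : G → ℂ} (hψ : IsIrrCharacter G ψ)
    (x : G) (hx : ψ x⁻¹ = ψ x) :
    ∑ u : G, (if IsConj x u then ψ (u⁻¹ * x) - ψ (u * x) else 0) = 0 := by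
  obtain ⟨n, ρ, hρ, rfl⟩ := hψ
  haveI := hρ
  have h1 := Cfsg.Agent.Lib.Helper80.Integrality.finrank_mul_sum_isConj ρ x x
  have h2 := Cfsg.Agent.Lib.Helper80.Integrality.finrank_mul_sum_isConj ρ x⁻¹ x
  rw [centralizer_inv, hx] at h2
  have h3 : ∑ u : G, (if IsConj x⁻¹ u then ρ.character (u * x) else 0)
      = ∑ u : G, (if IsConj x u then ρ.character (u⁻¹ * x) else 0) := by
    rw [← Equiv.sum_comp (Equiv.inv G)]
    refine Finset.sum_congr rfl fun u _ => ?_
    simp only [Equiv.inv_apply]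
    have hiff : IsConj x⁻¹ u⁻¹ ↔ IsConj x u := by
      rw [isConj_iff, isConj_iff]
      constructor
      · rintro ⟨c, hc⟩
        refine ⟨c, ?_⟩
        have : (c * x * c⁻¹)⁻¹ = u⁻¹ := by rw [← hc]; group
        exact inv_injective this
      · rintro ⟨c, hc⟩
        exact ⟨c, by rw [← hc]; group⟩
    by_cases hc : IsConj x u
    · rw [if_pos hc, if_pos (hiff.mpr hc)]
    · rw [if_neg hc, if_neg (fun h => hc (hiff.mp h))]
  have hd : (Module.finrank ℂ (Fin n → ℂ) : ℂ) ≠ 0 :=
    Nat.cast_ne_zero.mpr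
      (Cfsg.Agent.Lib.Helper80.Integrality.finrank_pos_of_isIrreducible ρ).ne'
  have h4 : (Module.finrank ℂ (Fin n → ℂ) : ℂ) *
      ∑ u : G, (if IsConj x u then ρ.character (u⁻¹ * x) - ρ.character (u * x) else 0) = 0 := by
    have hsplit : ∀ u : G,
        (if IsConj x u then ρ.character (u⁻¹ * x) - ρ.character (u * x) else 0)
        = (if IsConj x u then ρ.character (u⁻¹ * x) else 0)
          - (if IsConj x u then ρ.character (u * x) else 0) := by
      intro u
      split_ifs <;> simp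
    rw [Finset.sum_congr rfl (fun u _ => hsplit u), Finset.sum_sub_distrib, mul_sub, ← h3, h2, h1,
      sub_self]
  exact (mul_eq_zero.mp h4).resolve_left hd

/-- A `p`-element normalising a Sylow `p`-subgroup lies in it. -/
theorem mem_of_pElt_normalizer {G : Type*} [Group G] {p : ℕ} [Fact p.Prime] (P : Sylow p G)
    {b : G} (hb : b ∈ Subgroup.normalizer ((P : Subgroup G) : Set G)) (k : ℕ)
    (hbk : b ^ p ^ k = 1) : b ∈ (P : Subgroup G) := by
  have hp : IsPGroup p (Subgroup.zpowers b) := by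
    rintro ⟨y, hy⟩
    obtain ⟨j, rfl⟩ := Subgroup.mem_zpowers_iff.mp hy
    refine ⟨k, Subtype.ext ?_⟩
    show (b ^ j) ^ p ^ k = 1
    rw [← zpow_natCast, ← zpow_mul, mul_comm, zpow_mul, zpow_natCast, hbk, one_zpow]
  have h1 : IsPGroup p ((Subgroup.zpowers b) ⊔ (P : Subgroup G) : Subgroup G) :=
    hp.to_sup_of_normal_right' P.isPGroup' (Subgroup.zpowers_le.mpr hb)
  have h2 := P.is_maximal' h1 le_sup_right
  rw [← h2]
  exact Subgroup.mem_sup_left (Subgroup.mem_zpowers b)

/-- In a TI Sylow subgroup, no non-identity element centralises a conjugate of a non-identity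
element lying outside. -/
theorem free_of_TI {G : Type*} [Group G] {p : ℕ} [Fact p.Prime] (P : Sylow p G)
    (hTI : Cfsg.IsTISubset ((P : Subgroup G) : Set G)) {x g a : G} (hx : x ∈ (P : Subgroup G))
    (hx1 : x ≠ 1) (hu : g * x * g⁻¹ ∉ (P : Subgroup G)) (ha : a ∈ (P : Subgroup G))
    (hcomm : a * (g * x * g⁻¹) * a⁻¹ = g * x * g⁻¹) : a = 1 := by
  have hb : g⁻¹ * a * g ∈ Subgroup.normalizer ((P : Subgroup G) : Set G) := by
    by_contra hb
    have := hTI _ hb x hx (by
      have e : g⁻¹ * a * g * x * (g⁻¹ * a * g)⁻¹ = g⁻¹ * (a * (g * x * g⁻¹) * a⁻¹) * g := by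
        group
      rw [e, hcomm]
      have e2 : g⁻¹ * (g * x * g⁻¹) * g = x := by group
      rw [e2]
      exact hx)
    exact hx1 this
  obtain ⟨k, hk⟩ := P.isPGroup' ⟨a, ha⟩
  have hak : a ^ p ^ k = 1 := congrArg Subtype.val hk
  have hbk : (g⁻¹ * a * g) ^ p ^ k = 1 := by
    have e : (g⁻¹ * a * g) ^ p ^ k = g⁻¹ * a ^ p ^ k * g := by
      have := conj_pow (i := p ^ k) (a := g⁻¹) (b := a)
      rwa [inv_inv] at this
    rw [e, hak]
    group
  have hbP : g⁻¹ * a * g ∈ (P : Subgroup G) := mem_of_pElt_normalizer P hb k hbk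
  by_contra ha1
  have hg : g ∈ Subgroup.normalizer ((P : Subgroup G) : Set G) := by
    by_contra hg
    have := hTI g hg (g⁻¹ * a * g) hbP (by
      have e : g * (g⁻¹ * a * g) * g⁻¹ = a := by group
      rw [e]
      exact ha)
    apply ha1
    calc a = g * (g⁻¹ * a * g) * g⁻¹ := by group
      _ = 1 := by rw [this]; group
  exact hu ((hg x).mp hx)

/-- In a group of odd order no non-identity element is conjugate to its inverse. -/
theorem not_conj_inv {G : Type*} [Group G] (L : Subgroup G) [Finite L] (hodd : Odd (Nat.card L))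
    {g z : G} (hg : g ∈ L) (hz : z ∈ L) (h : g * z * g⁻¹ = z⁻¹) : z = 1 := by
  have hord : ∀ y ∈ L, Odd (orderOf y) := by
    intro y hy
    have h1 : orderOf (⟨y, hy⟩ : L) ∣ Nat.card L := orderOf_dvd_natCard _
    rw [Subgroup.orderOf_mk] at h1
    exact Odd.of_dvd_nat hodd h1
  have hg2 : g * g * z = z * (g * g) := by
    have h' : g * z = z⁻¹ * g := by
      calc g * z = g * z * g⁻¹ * g := by group
        _ = z⁻¹ * g := by rw [h]
    have h'' : g * z⁻¹ = z * g := by
      calc g * z⁻¹ = z * (z⁻¹ * g) * z⁻¹ := by group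
        _ = z * (g * z) * z⁻¹ := by rw [h']
        _ = z * g := by group
    calc g * g * z = g * (g * z) := by group
      _ = g * (z⁻¹ * g) := by rw [h']
      _ = (g * z⁻¹) * g := by group
      _ = z * g * g := by rw [h'']
      _ = z * (g * g) := by group
  obtain ⟨j, hj⟩ := hord g hg
  have hgpow : g = (g * g) ^ (j + 1) := by
    have h1 : (g * g) ^ (j + 1) = g ^ (orderOf g) * g := by
      rw [hj, ← pow_two, ← pow_mul, ← pow_succ]
      congr 1
    rw [h1, pow_orderOf_eq_one, one_mul]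
  have hcomm : g * z = z * g := by
    have h1 : Commute (g * g) z := hg2
    have h2 := h1.pow_left (j + 1)
    rw [← hgpow] at h2
    exact h2
  have hzz : z = z⁻¹ := by
    rw [← h, hcomm]
    group
  have hz2 : z ^ 2 = 1 := by
    rw [pow_two]
    nth_rewrite 2 [hzz]
    group
  have h3 : orderOf z ∣ 2 := orderOf_dvd_of_pow_eq_one hz2
  have h4 := hord z hz
  have h5 : orderOf z = 1 := by
    rcases (Nat.dvd_prime Nat.prime_two).mp h3 with h | h
    · exact h
    · rw [h] at h4
      exact absurd h4 (by decide)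
  exact orderOf_eq_one_iff.mp h5

/-- Peterfalvi (6.7), without the hypothesis on the centralisers. -/
theorem main {G : Type*} [Group G] [Finite G] (p : ℕ) [Fact p.Prime] (P : Sylow p G)
    (hTI : Cfsg.IsTISubset ((P : Subgroup G) : Set G))
    (hodd : Odd (Nat.card (Subgroup.normalizer ((P : Subgroup G) : Set G)))) (Z : Subgroup G)
    (hZ1 : Z ≠ ⊥) (hZP : Z ≤ P)
    (hZn : ∀ x ∈ Subgroup.normalizer ((P : Subgroup G) : Set G), ∀ z ∈ Z, x * z * x⁻¹ ∈ Z)
    (hZc : ∀ z ∈ Z, ∀ y ∈ (P : Subgroup G), z * y = y * z) (ψ : G → ℂ)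
    (hψ : Cfsg.IsIrrCharacter G ψ)
    (hconst : ∀ z ∈ Z, ∀ z' ∈ Z, z ≠ 1 → z' ≠ 1 → ψ z = ψ z') (z : G) (hz : z ∈ Z)
    (hz1 : z ≠ 1) :
    ∃ n d : ℤ, ψ z = n ∧ ψ 1 = d ∧ (Nat.card (P : Subgroup G) : ℤ) ∣ d - n := by
  classical
  haveI := Fintype.ofFinite G
  have hψc : IsCharacter G ψ := isCharacter_of_irr hψ
  have hcl := char_isClassFunction hψc
  obtain ⟨n₀, hn₀pos, hψ1⟩ := irr_exists_apply_one_pos hψ
  have hLP : (P : Subgroup G) ≤ Subgroup.normalizer ((P : Subgroup G) : Set G) :=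
    Subgroup.le_normalizer
  have hzL : z ∈ Subgroup.normalizer ((P : Subgroup G) : Set G) := hLP (hZP hz)
  have hzz1 : z * z ≠ 1 := by
    intro h
    apply hz1
    exact not_conj_inv _ hodd (Subgroup.one_mem _) hzL (by
      rw [one_mul, inv_one, mul_one]
      exact eq_inv_of_mul_eq_one_left h)
  -- integrality of the constant value
  have hZab : ∀ a b : Z, a * b = b * a := fun a b => Subtype.ext (hZc a a.2 b (hZP b.2))
  haveI : Nontrivial Z := (Subgroup.nontrivial_iff_ne_bot Z).mpr hZ1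
  have hsolv : IsSolvable Z := isSolvable_of_comm hZab
  obtain ⟨lam, hlam, hlam1, hlamone, -⟩ :=
    Cfsg.Agent.Lib.Helper76.CohInd.exists_linear hsolv (⊥ : Subgroup Z) bot_ne_top
  haveI : Fintype Z := Fintype.ofFinite _
  have hres : IsCharacter Z (fun w : Z => ψ w) := Ops.isCharacter_restrict Z hψc
  obtain ⟨m, hm⟩ := Clifford.classInner_char_nat hres (isCharacter_of_irr hlam)
  have horth : classInner (fun _ : Z => (1 : ℂ)) lam = 0 :=
    Cfsg.Agent.Lib.Helper26.Coherence.irr_inner_ne Ops.isIrrCharacter_one hlam (Ne.symm hlam1)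
  have hZ0 : (Nat.card Z : ℂ) ≠ 0 := Nat.cast_ne_zero.mpr Nat.card_pos.ne'
  have hsum0 : ∑ w : Z, conj (lam w) = 0 := by
    unfold classInner at horth
    simp only [one_mul] at horth
    exact (mul_eq_zero.mp horth).resolve_left (inv_ne_zero hZ0)
  have hval : ∀ w : Z, ψ (w : G) = ψ z + (if w = 1 then ψ 1 - ψ z else 0) := by
    intro w
    by_cases hw : w = 1
    · rw [if_pos hw, hw]
      simp
    · rw [if_neg hw, add_zero]
      exact hconst w w.2 z hz (fun h => hw (Subtype.ext h)) hz1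
  have hinner : classInner (fun w : Z => ψ w) lam = (Nat.card Z : ℂ)⁻¹ * (ψ 1 - ψ z) := by
    unfold classInner
    congr 1
    simp only [hval, add_mul, Finset.sum_add_distrib, ← Finset.mul_sum, hsum0, mul_zero, zero_add,
      ite_mul, zero_mul, Finset.sum_ite_eq', Finset.mem_univ, if_true]
    rw [hlamone]
    simp
  have hdiff : ψ 1 - ψ z = ((Nat.card Z * m : ℕ) : ℂ) := by
    rw [hm] at hinner
    push_cast
    field_simp at hinner
    linear_combination -hinner
  -- the class sum identity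
  have hzinv : ψ z⁻¹ = ψ z := hconst z⁻¹ (Z.inv_mem hz) z hz (inv_ne_one.mpr hz1) hz1
  have hsum := class_sum_diff hψ z hzinv
  rw [← Finset.sum_filter,
    ← Finset.sum_filter_add_sum_filter_not _ (fun u => u ∈ (P : Subgroup G))] at hsum
  have hin : ∑ u ∈ (Finset.univ.filter (fun u => IsConj z u)).filter
      (fun u => u ∈ (P : Subgroup G)), (ψ (u⁻¹ * z) - ψ (u * z)) = ψ 1 - ψ z := by
    rw [Finset.sum_eq_single z]
    · rw [inv_mul_cancel]
      congr 1
      exact hconst (z * z) (Z.mul_mem hz hz) z hz hzz1 hz1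
    · intro u hu huz
      simp only [Finset.mem_filter, Finset.mem_univ, true_and] at hu
      obtain ⟨hconj, huP⟩ := hu
      obtain ⟨g, hg⟩ := isConj_iff.mp hconj
      have hgL : g ∈ Subgroup.normalizer ((P : Subgroup G) : Set G) := by
        by_contra hgL
        exact hz1 (hTI g hgL z (hZP hz) (by rw [hg]; exact huP))
      have huZ : u ∈ Z := by
        rw [← hg]
        exact hZn g hgL z hz
      have h1 : u⁻¹ * z ≠ 1 := fun h => huz (inv_mul_eq_one.mp h)
      have h2 : u * z ≠ 1 := by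
        intro h
        apply hz1
        have hu' : u = z⁻¹ := eq_inv_of_mul_eq_one_left h
        exact not_conj_inv _ hodd hgL hzL (by rw [hg, hu'])
      rw [hconst _ (Z.mul_mem (Z.inv_mem huZ) hz) z hz h1 hz1,
        hconst _ (Z.mul_mem huZ hz) z hz h2 hz1, sub_self]
    · intro h
      exfalso
      apply h
      simp only [Finset.mem_filter, Finset.mem_univ, true_and]
      exact ⟨IsConj.refl z, hZP hz⟩
  obtain ⟨Γ, hΓ, hout⟩ := sum_free (A := (P : Subgroup G))
      (fun a u => (a : G) * u * (a : G)⁻¹)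
      (fun u => by simp) (fun a b u => by simp only [Subgroup.coe_mul]; group)
      ((Finset.univ.filter (fun u => IsConj z u)).filter (fun u => ¬ u ∈ (P : Subgroup G)))
      (by
        intro a u hu
        simp only [Finset.mem_filter, Finset.mem_univ, true_and] at hu ⊢
        obtain ⟨hconj, huP⟩ := hu
        refine ⟨hconj.trans (isConj_iff.mpr ⟨a, rfl⟩), fun h => huP ?_⟩
        have h3 := (P : Subgroup G).mul_mem
          ((P : Subgroup G).mul_mem ((P : Subgroup G).inv_mem a.2) h) a.2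
        have e : (a : G)⁻¹ * ((a : G) * u * (a : G)⁻¹) * (a : G) = u := by group
        rwa [e] at h3)
      (by
        intro a u hu hau
        simp only [Finset.mem_filter, Finset.mem_univ, true_and] at hu
        obtain ⟨hconj, huP⟩ := hu
        obtain ⟨g, rfl⟩ := isConj_iff.mp hconj
        exact Subtype.ext (free_of_TI P hTI (hZP hz) hz1 huP a.2 hau))
      (fun u => ψ (u⁻¹ * z) - ψ (u * z))
      (by
        intro a u
        have hza : z * (a : G)⁻¹ = (a : G)⁻¹ * z := hZc z hz _ ((P : Subgroup G).inv_mem a.2)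
        have e1 : ((a : G) * u * (a : G)⁻¹)⁻¹ * z = (a : G) * (u⁻¹ * z) * (a : G)⁻¹ := by
          calc ((a : G) * u * (a : G)⁻¹)⁻¹ * z = (a : G) * u⁻¹ * ((a : G)⁻¹ * z) := by group
            _ = (a : G) * u⁻¹ * (z * (a : G)⁻¹) := by rw [hza]
            _ = (a : G) * (u⁻¹ * z) * (a : G)⁻¹ := by group
        have e2 : (a : G) * u * (a : G)⁻¹ * z = (a : G) * (u * z) * (a : G)⁻¹ := by
          calc (a : G) * u * (a : G)⁻¹ * z = (a : G) * u * ((a : G)⁻¹ * z) := by group
            _ = (a : G) * u * (z * (a : G)⁻¹) := by rw [hza]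
            _ = (a : G) * (u * z) * (a : G)⁻¹ := by group
        show ψ (((a : G) * u * (a : G)⁻¹)⁻¹ * z) - ψ ((a : G) * u * (a : G)⁻¹ * z) = _
        rw [e1, e2, hcl, hcl])
      (fun u _ => (Cfsg.Agent.Lib.Helper80.Integrality.isIntegral_of_isCharacter hψc _).sub
        (Cfsg.Agent.Lib.Helper80.Integrality.isIntegral_of_isCharacter hψc _))
  rw [hin, hout] at hsum
  have hPpos : Nat.card (P : Subgroup G) ≠ 0 := Nat.card_pos.ne'
  have hint : IsIntegral ℤ (((Nat.card Z * m : ℕ) : ℂ) / (Nat.card (P : Subgroup G) : ℂ)) := by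
    have e : ((Nat.card Z * m : ℕ) : ℂ) / (Nat.card (P : Subgroup G) : ℂ) = -Γ := by
      rw [← hdiff]
      have hP0 : (Nat.card (P : Subgroup G) : ℂ) ≠ 0 := Nat.cast_ne_zero.mpr hPpos
      rw [Nat.card_eq_fintype_card] at hP0 ⊢
      field_simp
      linear_combination hsum
    rw [e]
    exact hΓ.neg
  have hdvd := Cfsg.Agent.Lib.Helper80.Integrality.dvd_of_isIntegral_div hPpos hint
  refine ⟨(n₀ : ℤ) - ((Nat.card Z * m : ℕ) : ℤ), n₀, ?_, ?_, ?_⟩
  · have h5 : ψ z = ψ 1 - ((Nat.card Z * m : ℕ) : ℂ) := by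
      rw [← hdiff]
      ring
    rw [h5, hψ1]
    push_cast
    ring
  · rw [hψ1]
    simp
  · have h6 : (n₀ : ℤ) - ((n₀ : ℤ) - ((Nat.card Z * m : ℕ) : ℤ)) = ((Nat.card Z * m : ℕ) : ℤ) := by
      ring
    rw [h6]
    exact Int.natCast_dvd_natCast.mpr hdvd

/-- Let G be a finite group, p a prime, P a Sylow p-subgroup whose underlying set is a TI-subset of G, with L the set normaliser of P of odd order. Let Z ≠ ⊥ be a subgroup of P, normal in L and central in P, such that the centralisers in L of any two non-identity elements of Z have the same order. If ψ is an irreducible character of G taking the same value at all non-identity elements of Z, then for z ∈ Z, z ≠ 1, the value ψ z is an integer n with Nat.card P dividing ψ(1) − n (as integers, ψ 1 being the degree). -/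
theorem result {G : Type*} [Group G] [Finite G] (p : ℕ) [Fact p.Prime] (P : Sylow p G) (hTI : Cfsg.IsTISubset ((P : Subgroup G) : Set G)) (hodd : Odd (Nat.card (Subgroup.normalizer ((P : Subgroup G) : Set G)))) (Z : Subgroup G) (hZ1 : Z ≠ ⊥) (hZP : Z ≤ P) (hZn : ∀ x ∈ Subgroup.normalizer ((P : Subgroup G) : Set G), ∀ z ∈ Z, x * z * x⁻¹ ∈ Z) (hZc : ∀ z ∈ Z, ∀ y ∈ (P : Subgroup G), z * y = y * z) (hCL : ∀ z ∈ Z, ∀ z' ∈ Z, z ≠ 1 → z' ≠ 1 → Nat.card ↥(Subgroup.normalizer ((P : Subgroup G) : Set G) ⊓ Subgroup.centralizer ({z} : Set G)) = Nat.card ↥(Subgroup.normalizer ((P : Subgroup G) : Set G) ⊓ Subgroup.centralizer ({z'} : Set G))) (ψ : G → ℂ) (hψ : Cfsg.IsIrrCharacter G ψ) (hconst : ∀ z ∈ Z, ∀ z' ∈ Z, z ≠ 1 → z' ≠ 1 → ψ z = ψ z') (z : G) (hz : z ∈ Z) (hz1 : z ≠ 1) : ∃ n d : ℤ, ψ z = n ∧ ψ 1 = d ∧ (Nat.card (P : Subgroup G) : ℤ) ∣ d - n := by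
  exact main p P hTI hodd Z hZ1 hZP hZn hZc ψ hψ hconst z hz hz1

end Cfsg.Agent.S1523
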