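import Cfsg.Statements.S1521
import Cfsg.Agent.Lib.Helper76.NilFrob
import Cfsg.Agent.Lib.Helper76.CohFrob
import Cfsg.Agent.S1520

set_option autoImplicit false
open Cfsg

namespace Cfsg.Agent.S1521

open Cfsg.Agent.Lib.Helper76.NilFrob Cfsg.Agent.Lib.Helper76.CohFrob

theorem arith4 (e p j : ℕ) (he : Odd e) (hpo : Odd p) (hp1 : 1 < p) (hd : e ∣ p - 1)
    (hj0 : j ≠ 0) (hle : p ^ j ≤ 4 * e ^ 2 + 1) : j = 1 := by
  obtain ⟨t, ht⟩ := hd
  have hpt : p = e * t + 1 := by omega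
  have ht0 : t ≠ 0 := by
    rintro rfl
    omega
  have hev : Even (e * t) := by
    rcases Nat.even_or_odd (e * t) with h | h
    · exact h
    · exact absurd (Odd.add_odd h odd_one) (Nat.not_even_iff_odd.mpr (hpt ▸ hpo))
  have hte : Even t := by
    rcases Nat.even_mul.mp hev with h | h
    · exact absurd h (Nat.not_even_iff_odd.mpr he)
    · exact h
  obtain ⟨r, hr⟩ := hte
  have ht2 : 2 ≤ t := by omega
  have he1 : 1 ≤ e := he.pos
  have h1 : 2 * e + 1 ≤ p := by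
    rw [hpt]
    nlinarith
  have h2 : 4 * e ^ 2 + 1 < p ^ 2 := by nlinarith
  by_contra hj1
  have hj2 : 2 ≤ j := by omega
  have h3 : p ^ 2 ≤ p ^ j := Nat.pow_le_pow_right (by omega) hj2
  omega

/-- Let K be a solvable normal subgroup of the finite group L of odd order and (S, τ, R) a coherence system from L to G with S the functions induced from non-principal irreducible characters of K; S(A) as before. Let M ≤ K be normal in L with K/M nilpotent, H₁ = [K, K] ⊔ M, H₁ < K < L, and suppose every element of K outside H₁ is centralised modulo H₁ only from inside K (L/H₁ is a Frobenius group with kernel K/H₁). Suppose one of the following: some normal subgroup of L lies strictly between H₁ and K; or [K:H₁] > 4[L:K]^2 + 1; or [K:M] is not a prime power; or [K,K] ≤ M; or [K:M] is a power of a prime p with [L:K] dividing p − 1. Then S(M) is coherent. -/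
theorem result {L : Type*} [Group L] [Fintype L] {G : Type*} [Group G] [Fintype G] (K : Subgroup L) [hK : K.Normal] (hsolv : Group.IsSolvable K) (τ : (L → ℂ) → (G → ℂ)) (R : (L → ℂ) → Finset (G → ℂ)) (hS : Cfsg.IsCoherenceSystem (Cfsg.inducedIrrAbove K ⊥) τ R) (hodd : Odd (Nat.card L)) (M : Subgroup L) [M.Normal] (hMK : M ≤ K) [(M.subgroupOf K).Normal] (hnil : Group.IsNilpotent (↥K ⧸ M.subgroupOf K)) (H₁ : Subgroup L) (hH₁ : H₁ = ⁅K, K⁆ ⊔ M) (hH₁K : H₁ < K) (hKL : K < ⊤) (hfrob : ∀ k ∈ K, k ∉ H₁ → ∀ x : L, x * k * x⁻¹ * k⁻¹ ∈ H₁ → x ∈ K) (hgood : (∃ N : Subgroup L, N.Normal ∧ H₁ < N ∧ N < K) ∨ 4 * K.index ^ 2 + 1 < H₁.relIndex K ∨ (¬ ∃ p m : ℕ, p.Prime ∧ M.relIndex K = p ^ m) ∨ ⁅K, K⁆ ≤ M ∨ (∃ p m : ℕ, p.Prime ∧ M.relIndex K = p ^ m ∧ K.index ∣ p - 1)) : Cfsg.IsCoherent (Cfsg.inducedIrrAbove K M) {1}ᶜ τ := by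
  classical
  subst hH₁
  have hcomm : ⁅K, K⁆ ≤ ⁅K, K⁆ ⊔ M := le_sup_left
  have hMH₁ : M ≤ ⁅K, K⁆ ⊔ M := le_sup_right
  obtain ⟨n, hn⟩ := lcs_le_of_nilpotent M K hnil
  have hcohH₁ : IsCoherent (inducedIrrAbove K (⁅K, K⁆ ⊔ M)) {1}ᶜ τ :=
    coherent_of_comm K hsolv hS _ hcomm hH₁K
  have case2 : 4 * K.index ^ 2 + 1 < (⁅K, K⁆ ⊔ M).relIndex K →
      IsCoherent (inducedIrrAbove K M) {1}ᶜ τ := fun hbig =>
    Cfsg.Agent.S1520.result K hsolv τ R hS M (⁅K, K⁆ ⊔ M) K hMH₁ hH₁K.le le_rfl hnil hcohH₁ hbig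
  have case4 : ⁅K, K⁆ ≤ M → IsCoherent (inducedIrrAbove K M) {1}ᶜ τ := by
    intro h
    have e : ⁅K, K⁆ ⊔ M = M := sup_eq_right.mpr h
    rw [e] at hcohH₁
    exact hcohH₁
  have hoddK : Odd K.index := hodd.of_dvd_nat K.index_dvd_card
  have hrelodd : ∀ A B : Subgroup L, Odd (A.relIndex B) := fun A B =>
    hodd.of_dvd_nat ((Subgroup.relIndex_dvd_card A B).trans (Subgroup.card_subgroup_dvd_card B))
  have hrel1 : ∀ A B : Subgroup L, A < B → 1 < A.relIndex B := by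
    intro A B hAB
    have h0 : A.relIndex B ≠ 0 := Subgroup.index_ne_zero_of_finite
    have h1 : A.relIndex B ≠ 1 := fun h => (not_le_of_gt hAB) (Subgroup.relIndex_eq_one.mp h)
    omega
  have case1 : (∃ N : Subgroup L, N.Normal ∧ ⁅K, K⁆ ⊔ M < N ∧ N < K) →
      IsCoherent (inducedIrrAbove K M) {1}ᶜ τ := by
    rintro ⟨N, hNn, hH₁N, hNK⟩
    apply case2
    have hA1 := frob_dvd K (⁅K, K⁆ ⊔ M) N hH₁K.le hNK.le hcomm hfrob
    have hA2 := frob_dvd K (⁅K, K⁆ ⊔ M) K hH₁K.le le_rfl hcomm hfrob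
    have hmul := Subgroup.relIndex_mul_relIndex (⁅K, K⁆ ⊔ M) N K hH₁N.le hNK.le
    rw [← hmul] at hA2 ⊢
    exact arith3 K.index _ _ hoddK (hrelodd _ _) (hrelodd _ _) (hrel1 _ _ hH₁N) (hrel1 _ _ hNK)
      hA1 hA2
  rcases hgood with h | h | h | h | h
  · exact case1 h
  · exact case2 h
  · apply case1
    have hne1 : (⁅K, K⁆ ⊔ M).relIndex K ≠ 1 := (hrel1 _ _ hH₁K).ne'
    obtain ⟨p, hp, hpd⟩ := Nat.exists_prime_and_dvd hne1
    have hex : ∃ q, q.Prime ∧ q ∣ (⁅K, K⁆ ⊔ M).relIndex K ∧ q ≠ p := by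
      by_contra hcon
      have hcon' : ∀ q : ℕ, q.Prime → q ∣ (⁅K, K⁆ ⊔ M).relIndex K → q = p := by
        intro q hq hqd
        by_contra hqp
        exact hcon ⟨q, hq, hqd, hqp⟩
      have hpow := Nat.eq_prime_pow_of_unique_prime_dvd
        (Subgroup.index_ne_zero_of_finite (H := (⁅K, K⁆ ⊔ M).subgroupOf K))
        (fun {d} hd hdd => hcon' d hd hdd)
      obtain ⟨m, hm⟩ := prime_pow_of_abelianization K M hMK hn hp hpow
      exact h ⟨p, m, hp, hm⟩
    obtain ⟨q, hq, hqd, hqp⟩ := hex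
    exact exists_normal_between K _ hH₁K.le hcomm hp hq (Ne.symm hqp) hpd hqd
  · exact case4 h
  · obtain ⟨p, m, hp, hm, hdvd⟩ := h
    by_cases hbig : 4 * K.index ^ 2 + 1 < (⁅K, K⁆ ⊔ M).relIndex K
    · exact case2 hbig
    · apply case4
      apply comm_le_of_prime_index K M hMK hn
      have h1 : (⁅K, K⁆ ⊔ M).relIndex K ∣ p ^ m := hm ▸ Subgroup.relIndex_dvd_of_le_left K hMH₁
      obtain ⟨j, -, hj⟩ := (Nat.dvd_prime_pow hp).mp h1
      have hj0 : j ≠ 0 := by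
        rintro rfl
        rw [pow_zero] at hj
        exact (hrel1 _ _ hH₁K).ne' hj
      have hpodd : Odd p := by
        have : p ∣ (⁅K, K⁆ ⊔ M).relIndex K := by
          rw [hj]
          exact dvd_pow_self p hj0
        exact (hrelodd _ _).of_dvd_nat this
      have hj1 : j = 1 := arith4 K.index p j hoddK hpodd hp.one_lt hdvd hj0 (by
        rw [← hj]
        exact not_lt.mp hbig)
      rw [hj, hj1, pow_one]
      exact hp

end Cfsg.Agent.S1521
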