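import Cfsg.Statements.S1522
import Cfsg.Agent.Lib.Helper76.CohZ
import Cfsg.Agent.Lib.Helper76.NilFrob
import Cfsg.Agent.S1521

set_option autoImplicit false
open Cfsg

namespace Cfsg.Agent.S1522

open Cfsg.Agent.Lib.CT.Wedderburn Cfsg.Agent.Lib.CT.Orth
open Cfsg.Agent.Lib.Helper76.Coherence Cfsg.Agent.Lib.Helper76.Coherence3
  Cfsg.Agent.Lib.Helper76.CohInd Cfsg.Agent.Lib.Helper76.CohFrob Cfsg.Agent.Lib.Helper76.CohZ
  Cfsg.Agent.Lib.Helper76.NilFrob

theorem arith5 (e p b c : ℕ) (hp : 3 ≤ p) (hc : c ≤ b) :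
    2 * (e * p ^ (b + 1)) * (e * p ^ c) ≤ e ^ 2 * p ^ (2 * (b + 1)) ∧
    (0 < e → 2 * (e * p ^ (b + 1)) * (e * p ^ c) < e ^ 2 * p ^ (2 * (b + 1))) := by
  have h1 : p ^ c ≤ p ^ b := Nat.pow_le_pow_right (by omega) hc
  have hpb : 0 < p ^ b := Nat.pow_pos (by omega)
  have h4 : 2 * p ^ c < p * p ^ b := by nlinarith
  have e1 : 2 * (e * p ^ (b + 1)) * (e * p ^ c) = e ^ 2 * p ^ (b + 1) * (2 * p ^ c) := by ring
  have e2 : e ^ 2 * p ^ (2 * (b + 1)) = e ^ 2 * p ^ (b + 1) * (p * p ^ b) := by ring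
  rw [e1, e2]
  refine ⟨Nat.mul_le_mul_left _ h4.le, fun he => ?_⟩
  have h3 : 0 < e ^ 2 * p ^ (b + 1) := by
    have : 0 < p ^ (b + 1) := Nat.pow_pos (by omega)
    positivity
  exact Nat.mul_lt_mul_of_pos_left h4 h3

/-- Let K be a nilpotent normal subgroup of the finite group L of odd order with [K,K] < K < L and L/[K,K] a Frobenius group with kernel K/[K,K] (elements of K outside [K,K] are centralised modulo [K,K] only from inside K); let (S, τ, R) be a coherence system from L to G with S the functions induced from non-principal irreducible characters of K. Let Z be a nontrivial normal subgroup of L contained in the centre of K, and suppose every member of S outside S(Z) is an irreducible character of L. Then S minus S(Z) is the set of irreducible characters χ of L with χ z ≠ χ 1 for some z ∈ Z, and it is coherent. -/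
theorem result {L : Type*} [Group L] [Fintype L] {G : Type*} [Group G] [Fintype G] (K : Subgroup L) [hK : K.Normal] (hsolv : Group.IsSolvable K) (τ : (L → ℂ) → (G → ℂ)) (R : (L → ℂ) → Finset (G → ℂ)) (hS : Cfsg.IsCoherenceSystem (Cfsg.inducedIrrAbove K ⊥) τ R) (hodd : Odd (Nat.card L)) (hnil : Group.IsNilpotent K) (hH₁K : ⁅K, K⁆ < K) (hKL : K < ⊤) (hfrob : ∀ k ∈ K, k ∉ ⁅K, K⁆ → ∀ x : L, x * k * x⁻¹ * k⁻¹ ∈ ⁅K, K⁆ → x ∈ K) (Z : Subgroup L) [Z.Normal] (hZ1 : Z ≠ ⊥) (hZK : Z ≤ K) (hZc : ∀ z ∈ Z, ∀ k ∈ K, z * k = k * z) (hirr : ∀ χ ∈ Cfsg.inducedIrrAbove K ⊥ \ Cfsg.inducedIrrAbove K Z, Cfsg.IsIrrCharacter L χ) : Cfsg.inducedIrrAbove K ⊥ \ Cfsg.inducedIrrAbove K Z = {χ | Cfsg.IsIrrCharacter L χ ∧ ∃ z ∈ Z, χ z ≠ χ 1} ∧ Cfsg.IsCoherent (Cfsg.inducedIrrAbove K ⊥ \ Cfsg.inducedIrrAbove K Z) {1}ᶜ τ := by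
  classical
  have : Fintype K := Fintype.ofFinite K
  have : Finite (IrrCharacter K) := finite_irrCharacter _
  have : Fintype (IrrCharacter K) := Fintype.ofFinite _
  obtain ⟨S₁, hS₁def⟩ : ∃ S₁ : Set (L → ℂ),
      S₁ = inducedIrrAbove K ⊥ \ inducedIrrAbove K Z := ⟨_, rfl⟩
  rw [← hS₁def]
  have hsub : S₁ ⊆ inducedIrrAbove K ⊥ := by
    rw [hS₁def]
    exact Set.sdiff_subset
  have hirr₁ : ∀ χ ∈ S₁, IsIrrCharacter L χ := by
    rw [hS₁def]
    exact hirr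
  have hZcenter : ∀ a : K, (a : L) ∈ Z → a ∈ Subgroup.center K := by
    intro a ha
    rw [Subgroup.mem_center_iff]
    intro g
    apply Subtype.ext
    rw [Subgroup.coe_mul, Subgroup.coe_mul]
    exact (hZc a ha g g.2).symm
  -- Part (i)
  have part1 : S₁ = {χ | IsIrrCharacter L χ ∧ ∃ z ∈ Z, χ z ≠ χ 1} := by
    ext χ
    constructor
    · intro hχ
      refine ⟨hirr₁ χ hχ, ?_⟩
      by_contra hcon
      have hall : ∀ z ∈ Z, χ z = χ 1 := by
        intro z hz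
        by_contra h
        exact hcon ⟨z, hz, h⟩
      rw [hS₁def] at hχ
      obtain ⟨hmem, hnot⟩ := hχ
      have hmem' := hmem
      obtain ⟨θ, hθ, hθ1, -, rfl⟩ := hmem
      apply hnot
      refine ⟨θ, hθ, hθ1, fun a ha => ?_, rfl⟩
      have hχchar := hS.isCharacter _ hmem'
      have hne : classInner (fun k : K => indFun K θ k) θ ≠ 0 := by
        rw [← Cfsg.Agent.Lib.CT.FrobRec.frobenius_reciprocity' K θ (indFun K θ)
          (char_isClassFunction hχchar)]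
        obtain ⟨n, hn0, hn⟩ := exists_norm hS hmem'
        rw [hn]
        exact Nat.cast_ne_zero.mpr hn0
      exact trivial_of_constituent K hχchar hθ hne (hZcenter a ha) (hall a ha)
    · rintro ⟨hχirr, z, hz, hzne⟩
      obtain ⟨ψ, hψ, hψne, hψz⟩ := exists_constituent_ne K
        (char_isClassFunction (isCharacter_of_irr hχirr)) (z := ⟨z, hZK hz⟩) hzne
      have hmem : indFun K ψ ∈ S₁ := by
        rw [hS₁def]
        exact (ind_mem_diff_iff K hS Z hψ).mpr ⟨⟨z, hZK hz⟩, hz, hψz⟩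
      have hirrφ := hirr₁ _ hmem
      have hinner : classInner χ (indFun K ψ) ≠ 0 := by
        rw [Cfsg.Agent.Lib.CT.FrobRec.frobenius_reciprocity' K ψ χ
          (char_isClassFunction (isCharacter_of_irr hχirr))]
        exact hψne
      have horth := irr_orthonormal (⟨χ, hχirr⟩ : IrrCharacter L) ⟨indFun K ψ, hirrφ⟩
      by_cases heq : (⟨χ, hχirr⟩ : IrrCharacter L) = ⟨indFun K ψ, hirrφ⟩
      · have : χ = indFun K ψ := congrArg Subtype.val heq
        rw [this]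
        exact hmem
      · rw [if_neg heq] at horth
        exact absurd horth hinner
  refine ⟨part1, ?_⟩
  -- Part (ii)
  obtain ⟨z₀, hz₀Z, hz₀1⟩ : ∃ z ∈ Z, z ≠ 1 := by
    by_contra hcon
    apply hZ1
    rw [eq_bot_iff]
    intro z hz
    rw [Subgroup.mem_bot]
    by_contra h
    exact hcon ⟨z, hz, h⟩
  obtain ⟨ψ₀, hψ₀, hψ₀z⟩ := exists_irr_ne (H := K) (z := ⟨z₀, hZK hz₀Z⟩) (by
    intro h
    exact hz₀1 (congrArg Subtype.val h))
  have hne₁ : S₁.Nonempty := ⟨indFun K ψ₀, by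
    rw [hS₁def]
    exact (ind_mem_diff_iff K hS Z hψ₀).mpr ⟨_, hz₀Z, hψ₀z⟩⟩
  have hconj₁ : ∀ χ ∈ S₁, Cfsg.conjFun χ ∈ S₁ := by
    intro χ hχ
    rw [hS₁def] at hχ ⊢
    refine ⟨conj_mem K hχ.1, fun h => hχ.2 ?_⟩
    have := conj_mem K h
    rwa [conjFun_conjFun'] at this
  have hsys₁ := subsystem hS hsub hne₁ hconj₁
  have hnonzero : ∃ α ∈ zspanOn S₁ {1}ᶜ, α ≠ 0 := by
    obtain ⟨χ, hχ⟩ := hne₁
    exact ⟨χ - Cfsg.conjFun χ, sub_conj_mem hsys₁ hχ, sub_conj_ne_zero hsys₁ hχ⟩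
  by_cases hpp : ∃ p m : ℕ, p.Prime ∧ Nat.card K = p ^ m
  swap
  · -- the order of `K` is not a prime power: `S` itself is coherent
    have hnilq : Group.IsNilpotent (↥K ⧸ (⊥ : Subgroup L).subgroupOf K) := inferInstance
    have hcohS := Cfsg.Agent.S1521.result K hsolv τ R hS hodd ⊥ bot_le hnilq (⁅K, K⁆ ⊔ ⊥) rfl
      (by rw [sup_bot_eq]; exact hH₁K) hKL (by rw [sup_bot_eq]; exact hfrob)
      (Or.inr (Or.inr (Or.inl (by rw [Subgroup.relIndex_bot_left]; exact hpp))))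
    exact isCoherent_of_subset hcohS hsub hnonzero
  -- `K` is a `p`-group
  obtain ⟨p, m, hp, hcard⟩ := hpp
  have hfinS₁ : S₁.Finite := (finite_of_system hS).subset hsub
  obtain ⟨T₁, hT₁⟩ : ∃ T₁ : Finset (L → ℂ), ∀ φ, φ ∈ T₁ ↔ φ ∈ S₁ :=
    ⟨hfinS₁.toFinset, fun φ => Set.Finite.mem_toFinset _⟩
  obtain ⟨e, he⟩ : ∃ e : ℕ, e = K.index := ⟨_, rfl⟩
  have he0 : 0 < e := by
    rw [he]
    exact Nat.pos_of_ne_zero Subgroup.index_ne_zero_of_finite
  have hrel := Subgroup.relIndex_dvd_card ⁅K, K⁆ K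
  rw [hcard] at hrel
  obtain ⟨j, -, hj⟩ := (Nat.dvd_prime_pow hp).mp hrel
  have hj0 : j ≠ 0 := by
    rintro rfl
    rw [pow_zero] at hj
    exact (not_le_of_gt hH₁K) (Subgroup.relIndex_eq_one.mp hj)
  have hpdvd : p ∣ (⁅K, K⁆ : Subgroup L).relIndex K := by
    rw [hj]
    exact dvd_pow_self p hj0
  have hpodd : Odd p := hodd.of_dvd_nat (hpdvd.trans
    ((Subgroup.relIndex_dvd_card _ _).trans (Subgroup.card_subgroup_dvd_card K)))
  have hp3 : 3 ≤ p := by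
    have := hp.two_le
    rcases hpodd with ⟨k, hk⟩
    omega
  have hcop : Nat.Coprime p e := by
    rw [Nat.Prime.coprime_iff_not_dvd hp]
    intro hpe
    have h1 := frob_dvd K ⁅K, K⁆ K hH₁K.le le_rfl le_rfl hfrob
    rw [← he] at h1
    have h2 : p ∣ (⁅K, K⁆ : Subgroup L).relIndex K - 1 := hpe.trans h1
    have h3 : 1 ≤ (⁅K, K⁆ : Subgroup L).relIndex K :=
      Nat.one_le_iff_ne_zero.mpr Subgroup.index_ne_zero_of_finite
    have h4 : p ∣ 1 := by
      have := Nat.dvd_sub hpdvd h2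
      rwa [Nat.sub_sub_self h3] at this
    exact hp.one_lt.ne' (Nat.dvd_one.mp h4)
  have hdegθ : ∀ ψ : K → ℂ, IsIrrCharacter K ψ → ∃ c, c ≤ m ∧ charDegree ψ = p ^ c := by
    intro ψ hψ
    have h1 := Cfsg.Agent.Lib.Helper80.Integrality.charDegree_dvd_card (⟨ψ, hψ⟩ : IrrCharacter K)
    rw [hcard] at h1
    exact (Nat.dvd_prime_pow hp).mp h1
  have hdeg₁ : ∀ φ ∈ S₁, ∃ c, c ≤ m ∧ charDegree φ = e * p ^ c := by
    intro φ hφ
    obtain ⟨θ, hθ, -, -, rfl⟩ := hsub hφ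
    obtain ⟨c, hcm, hc⟩ := hdegθ θ hθ
    exact ⟨c, hcm, by rw [charDegree_ind K (isCharacter_of_irr hθ), hc, he]⟩
  have hnorm₁ : ∀ φ ∈ S₁, classInner φ φ = 1 := by
    intro φ hφ
    have := irr_orthonormal (⟨φ, hirr₁ φ hφ⟩ : IrrCharacter L) ⟨φ, hirr₁ φ hφ⟩
    rwa [if_pos rfl] at this
  have hd₁ : ∀ φ ∈ S₁, φ 1 = (charDegree φ : ℂ) := fun φ hφ =>
    (char_natCast_charDegree (hsys₁.isCharacter φ hφ)).symm
  have hn₁ : ∀ φ ∈ S₁, classInner φ φ = ((1 : ℕ) : ℂ) := by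
    intro φ hφ
    rw [hnorm₁ φ hφ, Nat.cast_one]
  obtain ⟨Tb, hTb⟩ : ∃ Tb : ℕ → Finset (L → ℂ), ∀ b φ, φ ∈ Tb b ↔
      φ ∈ S₁ ∧ ∃ c ≤ b, charDegree φ = e * p ^ c :=
    ⟨fun b => T₁.filter (fun φ => ∃ c ≤ b, charDegree φ = e * p ^ c), fun b φ => by
      rw [Finset.mem_filter, hT₁]⟩
  have hTbsub : ∀ b, (↑(Tb b) : Set (L → ℂ)) ⊆ S₁ := fun b φ hφ => ((hTb b φ).mp hφ).1
  have hTbconj : ∀ b, ∀ φ ∈ Tb b, Cfsg.conjFun φ ∈ Tb b := by
    intro b φ hφ
    obtain ⟨h1, c, hc, h2⟩ := (hTb b φ).mp hφ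
    refine (hTb b _).mpr ⟨hconj₁ φ h1, c, hc, ?_⟩
    rw [← h2]
    apply charDegree_eq_of_apply_one
    rw [conj_apply_one hsys₁ h1]
    exact hd₁ φ h1
  have coh_eq : ∀ (T : Finset (L → ℂ)), (↑T : Set (L → ℂ)) ⊆ S₁ → T.Nonempty →
      (∀ φ ∈ T, Cfsg.conjFun φ ∈ T) → (∀ φ ∈ T, ∀ ψ ∈ T, charDegree φ = charDegree ψ) →
      IsCoherent (↑T : Set (L → ℂ)) {1}ᶜ τ := by
    intro T hTsub hTne hTconj hTdeg
    have hsysT := subsystem hsys₁ hTsub (by
      obtain ⟨x, hx⟩ := hTne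
      exact ⟨x, hx⟩) (fun χ hχ => hTconj χ hχ)
    refine Cfsg.Agent.S1517.result _ τ R hsysT ?_
    intro φ hφ ψ hψ
    rw [hd₁ φ (hTsub hφ), hd₁ ψ (hTsub hψ), hTdeg φ hφ ψ hψ]
  -- the key bound
  have sum_bound : ∀ b, (Tb b).Nonempty → (∃ χ ∈ S₁, charDegree χ = e * p ^ (b + 1)) →
      e ^ 2 * p ^ (2 * (b + 1)) ≤ ∑ φ ∈ Tb b, charDegree φ ^ 2 := by
    rintro b hne ⟨χ, hχ, hχdeg⟩
    have hA := sum_fiber_nat K hS (Tb b) (fun φ hφ => hsub (hTbsub b hφ))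
      (fun φ hφ => hnorm₁ φ (hTbsub b hφ))
    rw [← he] at hA
    have hΘ : ∀ ψ : IrrCharacter K, indFun K (ψ : K → ℂ) ∈ Tb b ↔
        (∃ a : K, (a : L) ∈ Z ∧ (ψ : K → ℂ) a ≠ (ψ : K → ℂ) 1) ∧
          ∃ c ≤ b, charDegree (ψ : K → ℂ) = p ^ c := by
      intro ψ
      rw [hTb, hS₁def, ind_mem_diff_iff K hS Z ψ.2, charDegree_ind K (isCharacter_of_irr ψ.2),
        ← he]
      constructor
      · rintro ⟨h1, c, hc, h2⟩
        exact ⟨h1, c, hc, Nat.eq_of_mul_eq_mul_left he0 h2⟩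
      · rintro ⟨h1, c, hc, h2⟩
        exact ⟨h1, c, hc, by rw [h2]⟩
    obtain ⟨A, hAdef⟩ : ∃ A : ℕ, A = ∑ ψ ∈ Finset.univ.filter
      (fun ψ : IrrCharacter K => indFun K (ψ : K → ℂ) ∈ Tb b), charDegree (ψ : K → ℂ) ^ 2 :=
      ⟨_, rfl⟩
    rw [← hAdef] at hA
    obtain ⟨B, hBdef⟩ : ∃ B : ℕ, B = ∑ φ ∈ Tb b, (charDegree φ / e) ^ 2 := ⟨_, rfl⟩
    have hB : ∑ φ ∈ Tb b, charDegree φ ^ 2 = e ^ 2 * B := by
      rw [hBdef, Finset.mul_sum]
      refine Finset.sum_congr rfl fun φ hφ => ?_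
      obtain ⟨c, -, hc⟩ := hdeg₁ φ (hTbsub b hφ)
      rw [hc, Nat.mul_div_cancel_left _ he0]
      ring
    have hAB : A = e * B := by
      have : e * A = e * (e * B) := by
        rw [← hA, hB]
        ring
      exact Nat.eq_of_mul_eq_mul_left he0 this
    have hpowZ : p ^ (2 * (b + 1)) ∣ (Z.subgroupOf K).index ∧ p ^ (2 * (b + 1)) ∣ Nat.card K := by
      obtain ⟨θ, hθ, -, -, rfl⟩ := hsub hχ
      rw [charDegree_ind K (isCharacter_of_irr hθ), ← he] at hχdeg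
      have hθdeg : charDegree θ = p ^ (b + 1) := Nat.eq_of_mul_eq_mul_left he0 hχdeg
      have h1 := deg_sq_le_index_central hθ (Z.subgroupOf K) (by
        intro z hz h
        apply Subtype.ext
        rw [Subgroup.coe_mul, Subgroup.coe_mul]
        exact hZc z (Subgroup.mem_subgroupOf.mp hz) h h.2)
      rw [hθdeg, ← pow_mul] at h1
      have h2 : (Z.subgroupOf K).index ∣ Nat.card K := Subgroup.index_dvd_card _
      rw [hcard] at h2
      obtain ⟨i, hi, hi'⟩ := (Nat.dvd_prime_pow hp).mp h2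
      rw [hi'] at h1
      have h3 : (b + 1) * 2 ≤ i := (Nat.pow_le_pow_iff_right hp.one_lt).mp h1
      constructor
      · rw [hi']
        exact pow_dvd_pow p (by omega)
      · rw [hcard]
        exact pow_dvd_pow p (by omega)
    have hdvdA : p ^ (2 * (b + 1)) ∣ A := by
      have htot := sum_charDegree_sq_sum (G := K)
      have h1 := (Finset.sum_filter_add_sum_filter_not Finset.univ
        (fun ψ : IrrCharacter K => ∀ u ∈ Z.subgroupOf K, (ψ : K → ℂ) u = (ψ : K → ℂ) 1)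
        (fun ψ : IrrCharacter K => charDegree (ψ : K → ℂ) ^ 2))
      rw [sum_sq_ker_nat (Z.subgroupOf K), htot] at h1
      have h3 := (Finset.sum_filter_add_sum_filter_not (Finset.univ.filter
        (fun ψ : IrrCharacter K => ¬ ∀ u ∈ Z.subgroupOf K, (ψ : K → ℂ) u = (ψ : K → ℂ) 1))
        (fun ψ : IrrCharacter K => indFun K (ψ : K → ℂ) ∈ Tb b)
        (fun ψ : IrrCharacter K => charDegree (ψ : K → ℂ) ^ 2))
      have h4 : (Finset.univ.filter
          (fun ψ : IrrCharacter K => ¬ ∀ u ∈ Z.subgroupOf K, (ψ : K → ℂ) u = (ψ : K → ℂ) 1)).filter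
          (fun ψ : IrrCharacter K => indFun K (ψ : K → ℂ) ∈ Tb b)
          = Finset.univ.filter (fun ψ : IrrCharacter K => indFun K (ψ : K → ℂ) ∈ Tb b) := by
        ext ψ
        simp only [Finset.mem_filter, Finset.mem_univ, true_and]
        constructor
        · exact fun h => h.2
        · intro h
          refine ⟨fun hP => ?_, h⟩
          obtain ⟨⟨a, haZ, ha⟩, -⟩ := (hΘ ψ).mp h
          exact ha (hP a (Subgroup.mem_subgroupOf.mpr haZ))
      rw [h4, ← hAdef] at h3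
      have h5 : p ^ (2 * (b + 1)) ∣ ∑ ψ ∈ (Finset.univ.filter
          (fun ψ : IrrCharacter K => ¬ ∀ u ∈ Z.subgroupOf K, (ψ : K → ℂ) u = (ψ : K → ℂ) 1)).filter
          (fun ψ : IrrCharacter K => ¬ indFun K (ψ : K → ℂ) ∈ Tb b),
          charDegree (ψ : K → ℂ) ^ 2 := by
        apply Finset.dvd_sum
        intro ψ hψ
        rw [Finset.mem_filter, Finset.mem_filter] at hψ
        obtain ⟨⟨-, hnP⟩, hnQ⟩ := hψ
        obtain ⟨c, -, hc⟩ := hdegθ ψ ψ.2
        have hex : ∃ a : K, (a : L) ∈ Z ∧ (ψ : K → ℂ) a ≠ (ψ : K → ℂ) 1 := by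
          by_contra hcon
          apply hnP
          intro u hu
          by_contra h
          exact hcon ⟨u, Subgroup.mem_subgroupOf.mp hu, h⟩
        have hcb : b < c := by
          by_contra hle
          exact hnQ ((hΘ ψ).mpr ⟨hex, c, not_lt.mp hle, hc⟩)
        rw [hc, ← pow_mul]
        exact pow_dvd_pow p (by omega)
      rw [← h3] at h1
      have h6 : p ^ (2 * (b + 1)) ∣ A + ∑ ψ ∈ (Finset.univ.filter
          (fun ψ : IrrCharacter K => ¬ ∀ u ∈ Z.subgroupOf K, (ψ : K → ℂ) u = (ψ : K → ℂ) 1)).filter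
          (fun ψ : IrrCharacter K => ¬ indFun K (ψ : K → ℂ) ∈ Tb b),
          charDegree (ψ : K → ℂ) ^ 2 := by
        have := hpowZ.2
        rw [← h1] at this
        exact (Nat.dvd_add_right hpowZ.1).mp this
      exact (Nat.dvd_add_left h5).mp h6
    have hApos : 0 < A := by
      obtain ⟨φ, hφ⟩ := hne
      obtain ⟨θ, hθ, -, -, hφeq⟩ := hsub (hTbsub b hφ)
      rw [hAdef]
      refine Finset.sum_pos' (fun _ _ => Nat.zero_le _) ⟨⟨θ, hθ⟩, ?_, ?_⟩
      · rw [Finset.mem_filter]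
        exact ⟨Finset.mem_univ _, by rw [← hφeq]; exact hφ⟩
      · have := irr_charDegree_pos hθ
        positivity
    have hdvdB : p ^ (2 * (b + 1)) ∣ B := by
      rw [hAB] at hdvdA
      exact (Nat.Coprime.pow_left _ hcop).dvd_of_dvd_mul_left hdvdA
    have hBpos : 0 < B := by
      rw [hAB] at hApos
      exact Nat.pos_of_mul_pos_left hApos
    rw [hB]
    exact Nat.mul_le_mul_left _ (Nat.le_of_dvd hBpos hdvdB)
  have key : ∀ b, (Tb b).Nonempty → IsCoherent (↑(Tb b) : Set (L → ℂ)) {1}ᶜ τ := by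
    intro b
    induction b with
    | zero =>
      intro hne
      refine coh_eq _ (hTbsub 0) hne (hTbconj 0) ?_
      intro φ hφ ψ hψ
      obtain ⟨-, c, hc, h1⟩ := (hTb 0 φ).mp hφ
      obtain ⟨-, c', hc', h2⟩ := (hTb 0 ψ).mp hψ
      rw [h1, h2, Nat.le_zero.mp hc, Nat.le_zero.mp hc']
    | succ b ih =>
      intro hne
      by_cases hb : (Tb b).Nonempty
      · have hcoh := ih hb
        obtain ⟨χ₁, hχ₁⟩ := hb
        obtain ⟨hχ₁S, c₁, hc₁, hχ₁deg⟩ := (hTb b χ₁).mp hχ₁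
        refine coherent_chain hsys₁ (fun φ => charDegree φ) (fun _ => 1) hd₁ hn₁ (Tb b)
          (hTbsub b) (hTbconj b) hcoh χ₁ hχ₁ (Tb (b + 1)) (hTbsub (b + 1)) (hTbconj (b + 1))
          ?_ ?_
        · intro φ hφ
          obtain ⟨h1, c, hc, h2⟩ := (hTb b φ).mp hφ
          exact (hTb (b + 1) φ).mpr ⟨h1, c, Nat.le_succ_of_le hc, h2⟩
        · intro χ hχ hχnot
          obtain ⟨hχS, c, hc, hχdeg⟩ := (hTb (b + 1) χ).mp hχ
          have hcb : c = b + 1 := by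
            by_contra hne'
            exact hχnot ((hTb b χ).mpr ⟨hχS, c, by omega, hχdeg⟩)
          subst hcb
          refine ⟨?_, ?_⟩
          · show charDegree χ₁ ∣ charDegree χ
            rw [hχ₁deg, hχdeg]
            exact Nat.mul_dvd_mul_left e (pow_dvd_pow p (by omega))
          · have hsb := sum_bound b ⟨χ₁, hχ₁⟩ ⟨χ, hχS, hχdeg⟩
            have harith := (arith5 e p b c₁ hp3 hc₁).2 he0
            have h1 : ((2 * (e * p ^ (b + 1)) * (e * p ^ c₁) : ℕ) : ℝ)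
                < ((∑ φ ∈ Tb b, charDegree φ ^ 2 : ℕ) : ℝ) := by
              exact_mod_cast lt_of_lt_of_le harith hsb
            show (2 * (charDegree χ : ℝ) * (charDegree χ₁ : ℝ))
              < ∑ φ ∈ Tb b, (charDegree φ : ℝ) ^ 2 / ((1 : ℕ) : ℝ)
            simp only [Nat.cast_one, div_one]
            rw [hχdeg, hχ₁deg]
            push_cast at h1 ⊢
            exact h1
      · have hdegeq : ∀ φ ∈ Tb (b + 1), charDegree φ = e * p ^ (b + 1) := by
          intro φ hφ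
          obtain ⟨h1, c, hc, h2⟩ := (hTb (b + 1) φ).mp hφ
          have hcb : c = b + 1 := by
            by_contra hne'
            exact hb ⟨φ, (hTb b φ).mpr ⟨h1, c, by omega, h2⟩⟩
          rw [h2, hcb]
        refine coh_eq _ (hTbsub (b + 1)) hne (hTbconj (b + 1)) ?_
        intro φ hφ ψ hψ
        rw [hdegeq φ hφ, hdegeq ψ hψ]
  have hall : (↑(Tb m) : Set (L → ℂ)) = S₁ := by
    ext φ
    rw [Finset.mem_coe, hTb]
    constructor
    · exact fun h => h.1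
    · intro hφ
      exact ⟨hφ, hdeg₁ φ hφ⟩
  rw [← hall]
  apply key m
  obtain ⟨χ, hχ⟩ := hne₁
  exact ⟨χ, by rw [← Finset.mem_coe, hall]; exact hχ⟩

end Cfsg.Agent.S1522
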