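import Cfsg.Statements.S1532
import Cfsg.Agent.Lib.Helper76.FrobTI
import Cfsg.Agent.S1522

set_option autoImplicit false
open Cfsg

namespace Cfsg.Agent.S1532

universe u

theorem aux {G : Type u} [Group G] [Fintype G] (p : ℕ) [hpp : Fact p.Prime] (hp : p ≠ 2)
    (P : Sylow p G) (N : Subgroup G) [Fintype N]
    (hN : N = Subgroup.normalizer ((P : Subgroup G) : Set G))
    (hna : ¬ IsMulCommutative (P : Subgroup G))
    (hTI : Cfsg.IsTISubset ((P : Subgroup G) : Set G))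
    (hlt : (P : Subgroup G) < N)
    (hC : ∀ k ∈ (P : Subgroup G), k ≠ 1 → Subgroup.centralizer ({k} : Set G) ≤ (P : Subgroup G))
    (Z : Subgroup G) (hZ1 : Z ≠ ⊥)
    (hZP : ∀ z ∈ Z, z ∈ (P : Subgroup G) ∧ ∀ y ∈ (P : Subgroup G), z * y = y * z)
    (hZn : ∀ x ∈ N, ∀ z ∈ Z, x * z * x⁻¹ ∈ Z) :
    Cfsg.IsCoherent {χ : ↥N → ℂ | Cfsg.IsIrrCharacter ↥N χ ∧
      ∃ z : ↥N, (z : G) ∈ Z ∧ χ z ≠ χ 1} {1}ᶜ (fun α => Cfsg.indFun N α) := by
  classical
  have hPN : (P : Subgroup G) ≤ N := hlt.le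
  obtain ⟨K, hKdef⟩ : ∃ K : Subgroup N, K = (P : Subgroup G).subgroupOf N := ⟨_, rfl⟩
  have hmemK : ∀ x : N, x ∈ K ↔ (x : G) ∈ (P : Subgroup G) := by
    intro x
    rw [hKdef]
    exact Subgroup.mem_subgroupOf
  have hK : K.Normal := by
    rw [hKdef]
    exact (Subgroup.normal_subgroupOf_iff_le_normalizer hPN).mpr hN.le
  have hF : ∀ k ∈ K, k ≠ 1 → ∀ x : N, x * k = k * x → x ∈ K := by
    intro k hk hk1 x hx
    rw [hmemK]
    apply hC (k : G) ((hmemK k).mp hk) (fun h => hk1 (Subtype.ext h))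
    rw [Subgroup.mem_centralizer_singleton_iff]
    exact congrArg Subtype.val hx
  -- cardinalities
  have hcardK : Nat.card K = Nat.card (P : Subgroup G) := by
    rw [hKdef]
    exact Nat.card_congr (Subgroup.subgroupOfEquivOfLe hPN).toEquiv
  obtain ⟨n, hn⟩ := IsPGroup.iff_card.mp P.isPGroup'
  have hcop : Nat.Coprime (Nat.card K) K.index := by
    rw [hcardK, hn]
    apply Nat.Coprime.pow_left
    rw [Nat.Prime.coprime_iff_not_dvd hpp.out]
    intro hdvd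
    apply P.not_dvd_index
    have h1 : K.index ∣ (P : Subgroup G).index := by
      rw [hKdef]
      exact Dvd.intro _ (Subgroup.relIndex_mul_index hPN)
    exact hdvd.trans h1
  have hoddK : Odd (Nat.card K) := by
    rw [hcardK, hn]
    exact (Nat.Prime.odd_of_ne_two hpp.out hp).pow
  have hnaK : ¬ ∀ a ∈ K, ∀ b ∈ K, a * b = b * a := by
    intro hcomm
    apply hna
    refine ⟨⟨fun a b => Subtype.ext ?_⟩⟩
    have h5 := hcomm ⟨a, hPN a.2⟩ ((hmemK _).mpr a.2) ⟨b, hPN b.2⟩ ((hmemK _).mpr b.2)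
    have h6 := congrArg Subtype.val h5
    exact h6
  have hodd : Odd (Nat.card N) := Cfsg.Agent.Lib.Helper76.FrobTI.odd_card K hF hoddK hnaK
  have hK1 : K ≠ ⊥ := by
    intro h
    apply hnaK
    intro a ha b hb
    rw [h, Subgroup.mem_bot] at ha hb
    rw [ha, hb]
  have hKL : K < ⊤ := by
    rw [lt_top_iff_ne_top]
    intro h
    apply not_le_of_gt hlt
    intro x hx
    have : (⟨x, hx⟩ : N) ∈ K := by rw [h]; exact Subgroup.mem_top _
    exact (hmemK _).mp this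
  -- Dade hypothesis for `P \ {1}`
  obtain ⟨A, hAdef⟩ : ∃ A : Set G, A = {g : G | g ∈ (P : Subgroup G) ∧ g ≠ 1} := ⟨_, rfl⟩
  have hD : DadeHypothesis A N (fun _ => (⊥ : Subgroup G)) := by
    apply Cfsg.Agent.Lib.Helper25.TIInd.dade_of_TI A N
    · rw [hAdef]
      exact fun h => h.2 rfl
    · rw [hAdef]
      exact fun a ha => hPN ha.1
    · intro x hx a ha
      rw [hAdef] at ha ⊢
      rw [hN] at hx
      refine ⟨(Subgroup.mem_set_normalizer_iff.mp hx a).mp ha.1, fun h => ha.2 ?_⟩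
      exact conj_eq_one_iff.mp h
    · intro a ha g hg
      rw [hAdef] at ha hg
      by_contra hgN
      rw [hN] at hgN
      exact ha.2 (hTI g hgN a ha.1 hg.1)
  have hA : ∀ x : N, (x : G) ∉ A → x ∉ K ∨ x = 1 := by
    intro x hx
    by_cases hx1 : x = 1
    · exact Or.inr hx1
    · left
      intro hxK
      apply hx
      rw [hAdef]
      exact ⟨(hmemK x).mp hxK, fun h => hx1 (Subtype.ext h)⟩
  obtain ⟨R, hS⟩ := Cfsg.Agent.Lib.Helper76.FrobTI.exists_system N K A hD hA hcop hF hK1 hKL hodd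
  -- structure of `K`
  have hKp : IsPGroup p K := by
    rw [hKdef]
    exact P.isPGroup'.comap_subtype
  have hnil : Group.IsNilpotent K := hKp.isNilpotent
  have hsolv : Group.IsSolvable K := inferInstance
  have hKnt : Nontrivial K := by
    obtain ⟨k, hk, hk1⟩ : ∃ k ∈ K, k ≠ 1 := by
      by_contra hcon
      apply hK1
      rw [Subgroup.eq_bot_iff_forall]
      intro k hk
      by_contra hk1
      exact hcon ⟨k, hk, hk1⟩
    exact ⟨⟨⟨k, hk⟩, 1, fun h => hk1 (congrArg Subtype.val h)⟩⟩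
  have hH₁K : ⁅K, K⁆ < K := by
    have h1 : commutator K < ⊤ := Group.IsSolvable.commutator_lt_top_of_nontrivial K
    have h2 := Subgroup.map_subtype_commutator K
    rw [← h2]
    have h3 : (commutator ↥K).map K.subtype < (⊤ : Subgroup K).map K.subtype :=
      (Subgroup.map_lt_map_iff_of_injective K.subtype_injective).mpr h1
    rwa [← MonoidHom.range_eq_map, Subgroup.range_subtype] at h3
  have hfrob : ∀ k ∈ K, k ∉ ⁅K, K⁆ → ∀ x : N, x * k * x⁻¹ * k⁻¹ ∈ ⁅K, K⁆ → x ∈ K :=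
    Cfsg.Agent.Lib.Helper76.FrobTI.frob_quot K ⁅K, K⁆ hH₁K.le hF
  -- the central subgroup
  obtain ⟨Z', hZ'def⟩ : ∃ Z' : Subgroup N, Z' = Z.subgroupOf N := ⟨_, rfl⟩
  have hmemZ : ∀ x : N, x ∈ Z' ↔ (x : G) ∈ Z := by
    intro x
    rw [hZ'def]
    exact Subgroup.mem_subgroupOf
  have hZn' : Z'.Normal := by
    refine ⟨fun z hz x => ?_⟩
    rw [hmemZ] at hz ⊢
    exact hZn x x.2 z hz
  have hZ1' : Z' ≠ ⊥ := by
    intro h
    apply hZ1
    rw [Subgroup.eq_bot_iff_forall]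
    intro z hz
    have h1 : (⟨z, hPN (hZP z hz).1⟩ : N) ∈ Z' := (hmemZ _).mpr hz
    rw [h, Subgroup.mem_bot] at h1
    exact congrArg Subtype.val h1
  have hZK : Z' ≤ K := by
    intro z hz
    rw [hmemK]
    exact (hZP z ((hmemZ z).mp hz)).1
  have hZc : ∀ z ∈ Z', ∀ k ∈ K, z * k = k * z := by
    intro z hz k hk
    exact Subtype.ext ((hZP z ((hmemZ z).mp hz)).2 k ((hmemK k).mp hk))
  have hirr : ∀ χ ∈ Cfsg.inducedIrrAbove K ⊥ \ Cfsg.inducedIrrAbove K Z',
      Cfsg.IsIrrCharacter N χ := by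
    rintro χ ⟨⟨θ, hθ, h1, -, rfl⟩, -⟩
    exact Cfsg.Agent.Lib.Helper76.FrobTI.ind_irr K hcop hF hθ h1
  have h := Cfsg.Agent.S1522.result K hsolv (fun α => Cfsg.indFun N α) R hS hodd hnil hH₁K hKL
    hfrob Z' hZ1' hZK hZc hirr
  have h2 := h.2
  rw [h.1] at h2
  have e : {χ : ↥N → ℂ | Cfsg.IsIrrCharacter ↥N χ ∧ ∃ z ∈ Z', χ z ≠ χ 1} =
      {χ : ↥N → ℂ | Cfsg.IsIrrCharacter ↥N χ ∧ ∃ z : ↥N, (z : G) ∈ Z ∧ χ z ≠ χ 1} := by
    ext χ
    simp only [Set.mem_ofPred_eq, hmemZ]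
  rw [e] at h2
  exact h2

/-- Let G be a finite group, p an odd prime and P a Sylow p-subgroup that is non-abelian, whose underlying set is a TI-subset of G, with P properly contained in its set normaliser N and C_G(x) ≤ P for every non-identity x ∈ P. Let Z be a nontrivial subgroup of the centre of P normalised by N. Then the set of irreducible characters χ of N with χ z ≠ χ 1 for some z ∈ Z is coherent for the map induced by induction from N to G. -/
theorem result {G : Type*} [Group G] [Fintype G] (p : ℕ) [Fact p.Prime] (hp : p ≠ 2) (P : Sylow p G) (hna : ¬ IsMulCommutative (P : Subgroup G)) (hTI : Cfsg.IsTISubset ((P : Subgroup G) : Set G)) (hlt : (P : Subgroup G) < Subgroup.normalizer ((P : Subgroup G) : Set G)) (hC : ∀ k ∈ (P : Subgroup G), k ≠ 1 → Subgroup.centralizer ({k} : Set G) ≤ (P : Subgroup G)) [Fintype ↥(Subgroup.normalizer ((P : Subgroup G) : Set G))] (Z : Subgroup G) (hZ1 : Z ≠ ⊥) (hZP : ∀ z ∈ Z,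 z ∈ (P : Subgroup G) ∧ ∀ y ∈ (P : Subgroup G), z * y = y * z) (hZn : ∀ x ∈ Subgroup.normalizer ((P : Subgroup G) : Set G), ∀ z ∈ Z, x * z * x⁻¹ ∈ Z) : Cfsg.IsCoherent {χ : ↥(Subgroup.normalizer ((P : Subgroup G) : Set G)) → ℂ | Cfsg.IsIrrCharacter ↥(Subgroup.normalizer ((P : Subgroup G) : Set G)) χ ∧ ∃ z : ↥(Subgroup.normalizer ((P : Subgroup G) : Set G)), (z : G) ∈ Z ∧ χ z ≠ χ 1} {1}ᶜ (fun α => Cfsg.indFun (Subgroup.normalizer ((P : Subgroup G) : Set G)) α) := by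
  exact aux p hp P _ rfl hna hTI hlt hC Z hZ1 hZP hZn

end Cfsg.Agent.S1532
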