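import Cfsg.Statements.S2475
import Cfsg.Agent.H41.SL2Torus

set_option autoImplicit false
open Cfsg

namespace Cfsg.Agent.S2475

open Matrix Cfsg.Agent.H41

variable {F : Type*} [Field F]

theorem diag_pow (a b : F) (n : ℕ) :
    (!![a, 0; 0, b] : Matrix (Fin 2) (Fin 2) F) ^ n = !![a ^ n, 0; 0, b ^ n] := by
  induction n with
  | zero => simp [Matrix.one_fin_two]
  | succ n ih => rw [pow_succ, ih]; simp [pow_succ]

theorem unip_pow (n : ℕ) :
    (!![1, 1; 0, 1] : Matrix (Fin 2) (Fin 2) F) ^ n = !![1, (n : F); 0, 1] := by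
  induction n with
  | zero => simp [Matrix.one_fin_two]
  | succ n ih => rw [pow_succ, ih]; simp [add_comm]

theorem mk_pow_eq_one_iff (g : Matrix.SpecialLinearGroup (Fin 2) F) (n : ℕ) :
    (g : Matrix.ProjectiveSpecialLinearGroup (Fin 2) F) ^ n = 1 ↔
      ∃ r : F, r * r = 1 ∧ (g : Matrix (Fin 2) (Fin 2) F) ^ n = r • (1 : Matrix (Fin 2) (Fin 2) F) := by
  rw [← QuotientGroup.mk_pow, QuotientGroup.eq_one_iff, Matrix.SpecialLinearGroup.mem_center_iff]
  constructor
  · rintro ⟨r, hr, h⟩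
    refine ⟨r, by simpa [pow_two] using hr, ?_⟩
    rw [← Matrix.SpecialLinearGroup.coe_pow, ← h]
    ext i j
    simp [Matrix.one_apply, Matrix.diagonal_apply]
  · rintro ⟨r, hr, h⟩
    refine ⟨r, by simpa [pow_two] using hr, ?_⟩
    rw [Matrix.SpecialLinearGroup.coe_pow, h]
    ext i j
    simp [Matrix.one_apply, Matrix.diagonal_apply]

theorem smul_one_eq (r : F) : r • (1 : Matrix (Fin 2) (Fin 2) F) = !![r, 0; 0, r] := by
  ext i j
  fin_cases i <;> fin_cases j <;> simp

/-- The image of a unipotent element has order `p`. -/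
theorem exists_orderOf_eq_char (p : ℕ) [Fact p.Prime] [CharP F p] :
    ∃ g : Matrix.ProjectiveSpecialLinearGroup (Fin 2) F, orderOf g = p := by
  let u : Matrix.SpecialLinearGroup (Fin 2) F := ⟨!![1, 1; 0, 1], by simp [Matrix.det_fin_two]⟩
  refine ⟨(u : Matrix.ProjectiveSpecialLinearGroup (Fin 2) F), ?_⟩
  apply orderOf_eq_of_forall_pow
  intro n
  rw [mk_pow_eq_one_iff]
  have hu : (u : Matrix (Fin 2) (Fin 2) F) = !![1, 1; 0, 1] := rfl
  rw [hu, unip_pow]
  constructor
  · rintro ⟨r, -, h⟩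
    rw [smul_one_eq] at h
    have h01 := congrFun (congrFun h 0) 1
    simp at h01
    exact (CharP.cast_eq_zero_iff F p n).1 h01
  · intro h
    refine ⟨1, by simp, ?_⟩
    rw [smul_one_eq, (CharP.cast_eq_zero_iff F p n).2 h]

/-- The image of a generator of the split torus has order `(q-1)/d`. -/
theorem exists_orderOf_eq_split [Fintype F] :
    ∃ g : Matrix.ProjectiveSpecialLinearGroup (Fin 2) F,
      orderOf g = (Fintype.card F - 1) / Nat.gcd 2 (Fintype.card F - 1) := by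
  obtain ⟨α, hα⟩ := IsCyclic.exists_ofOrder_eq_natCard (α := Fˣ)
  rw [Nat.card_units, Nat.card_eq_fintype_card] at hα
  have hq : 2 ≤ Fintype.card F := Fintype.one_lt_card
  set ζ : F := (α : F) with hζ
  have hζ0 : ζ ≠ 0 := α.ne_zero
  have hord : orderOf ζ = Fintype.card F - 1 := by rw [hζ, orderOf_units, hα]
  let D : Matrix.SpecialLinearGroup (Fin 2) F :=
    ⟨!![ζ, 0; 0, ζ⁻¹], by simp [Matrix.det_fin_two, hζ0]⟩
  refine ⟨(D : Matrix.ProjectiveSpecialLinearGroup (Fin 2) F), ?_⟩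
  apply orderOf_eq_of_forall_pow
  intro n
  rw [mk_pow_eq_one_iff, ← sub_one_dvd_two_mul_iff _ _ hq, ← hord, orderOf_dvd_iff_pow_eq_one]
  have hD : (D : Matrix (Fin 2) (Fin 2) F) = !![ζ, 0; 0, ζ⁻¹] := rfl
  rw [hD, diag_pow]
  constructor
  · rintro ⟨r, hr, h⟩
    rw [smul_one_eq] at h
    have h00 := congrFun (congrFun h 0) 0
    simp at h00
    rw [two_mul, pow_add, h00, hr]
  · intro h
    have hsq : ζ ^ n * ζ ^ n = 1 := by rw [← pow_add, ← two_mul]; exact h
    refine ⟨ζ ^ n, hsq, ?_⟩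
    rw [smul_one_eq, inv_pow, inv_eq_of_mul_eq_one_left hsq]

/-- The image of a generator of the non-split torus has order `(q+1)/d`. -/
theorem exists_orderOf_eq_nonsplit [Fintype F] (p : ℕ) [Fact p.Prime] [CharP F p] :
    ∃ g : Matrix.ProjectiveSpecialLinearGroup (Fin 2) F,
      orderOf g = (Fintype.card F + 1) / Nat.gcd 2 (Fintype.card F - 1) := by
  have : NeZero (2 : ℕ) := ⟨by norm_num⟩
  have h2 : Module.finrank F (FiniteField.Extension F p 2) = 2 :=
    FiniteField.finrank_extension F p 2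
  let b : Module.Basis (Fin 2) F (FiniteField.Extension F p 2) := Module.finBasisOfFinrankEq F _ h2
  have hq : 1 ≤ Fintype.card F := Fintype.card_pos
  have := isCyclic_torus h2 b
  obtain ⟨g₀, hg₀⟩ := IsCyclic.exists_ofOrder_eq_natCard (α := torus h2 b)
  rw [card_torus h2 b, ← Subgroup.orderOf_coe] at hg₀
  refine ⟨((g₀ : Matrix.SpecialLinearGroup (Fin 2) F) : Matrix.ProjectiveSpecialLinearGroup (Fin 2) F), ?_⟩
  apply orderOf_eq_of_forall_pow
  intro n
  rw [mk_pow_eq_one_iff, ← add_one_dvd_two_mul_iff _ _ hq, ← hg₀, orderOf_dvd_iff_pow_eq_one]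
  constructor
  · rintro ⟨r, hr, h⟩
    apply Subtype.ext
    rw [Matrix.SpecialLinearGroup.coe_pow, two_mul, pow_add, h]
    simp [smul_smul, hr]
  · intro h
    have hmem : (g₀ : Matrix.SpecialLinearGroup (Fin 2) F) ^ n ∈ torus h2 b :=
      Subgroup.pow_mem _ g₀.2 n
    obtain ⟨x, hx⟩ := (mem_torus_iff h2 b _).1 hmem
    rw [Matrix.SpecialLinearGroup.coe_pow] at hx
    have hxx : x * x = 1 := by
      apply Algebra.leftMulMatrix_injective b
      rw [map_mul, hx, map_one, ← pow_add, ← two_mul, ← Matrix.SpecialLinearGroup.coe_pow, h]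
      rfl
    rcases mul_self_eq_one_iff.1 hxx with rfl | rfl
    · exact ⟨1, by simp, by rw [← hx]; simp⟩
    · exact ⟨-1, by simp, by rw [← hx]; simp⟩

theorem mem_range_orderOf_of_dvd {G : Type*} [Group G] (g : G) (hg : 0 < orderOf g) (m : ℕ)
    (hm : m ∣ orderOf g) : m ∈ Set.range (orderOf : G → ℕ) := by
  obtain ⟨c, hc⟩ := hm
  have hc0 : c ≠ 0 := by rintro rfl; rw [mul_zero] at hc; omega
  refine ⟨g ^ c, ?_⟩
  rw [orderOf_pow_of_dvd hc0 ⟨m, by rw [hc, mul_comm]⟩, hc, Nat.mul_div_cancel _ (Nat.pos_of_ne_zero hc0)]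

/-- The set of element orders of PSL(2,q): let F be a finite field of characteristic p with q ≥ 4 elements and d = gcd(2, q − 1). The orders of elements of PSL(2,F) are exactly the divisors of p, of (q − 1)/d and of (q + 1)/d. -/
theorem result {F : Type*} [Field F] [Fintype F] (p : ℕ) [Fact p.Prime] [CharP F p] (h4 : 4 ≤ Fintype.card F) :
    Set.range (orderOf : Matrix.ProjectiveSpecialLinearGroup (Fin 2) F → ℕ) =
      {m : ℕ | m ∣ p ∨ m ∣ (Fintype.card F - 1) / Nat.gcd 2 (Fintype.card F - 1) ∨ m ∣ (Fintype.card F + 1) / Nat.gcd 2 (Fintype.card F - 1)} := by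
  have hpp : p.Prime := Fact.out
  have hd : Nat.gcd 2 (Fintype.card F - 1) ∣ 2 := Nat.gcd_dvd_left _ _
  have hd2 : Nat.gcd 2 (Fintype.card F - 1) ≤ 2 := Nat.le_of_dvd (by norm_num) hd
  ext m
  constructor
  · rintro ⟨g, rfl⟩
    obtain ⟨A, rfl⟩ := QuotientGroup.mk_surjective g
    obtain ⟨k, ε, hk, hε, hA⟩ := exists_pow_eq_smul p (A : Matrix (Fin 2) (Fin 2) F) A.2
    have h1 : (A : Matrix.ProjectiveSpecialLinearGroup (Fin 2) F) ^ k = 1 :=
      (mk_pow_eq_one_iff A k).2 ⟨ε, hε, hA⟩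
    have h2 := orderOf_dvd_of_pow_eq_one h1
    rcases hk with rfl | rfl | rfl
    · exact Or.inl h2
    · exact Or.inr (Or.inl h2)
    · exact Or.inr (Or.inr h2)
  · rintro (h | h | h)
    · obtain ⟨g, hg⟩ := exists_orderOf_eq_char (F := F) p
      exact mem_range_orderOf_of_dvd g (by rw [hg]; exact hpp.pos) m (by rw [hg]; exact h)
    · obtain ⟨g, hg⟩ := exists_orderOf_eq_split (F := F)
      refine mem_range_orderOf_of_dvd g ?_ m (by rw [hg]; exact h)
      rw [hg]
      exact Nat.div_pos (by omega) (Nat.gcd_pos_of_pos_left _ (by norm_num))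
    · obtain ⟨g, hg⟩ := exists_orderOf_eq_nonsplit (F := F) p
      refine mem_range_orderOf_of_dvd g ?_ m (by rw [hg]; exact h)
      rw [hg]
      exact Nat.div_pos (by omega) (Nat.gcd_pos_of_pos_left _ (by norm_num))

end Cfsg.Agent.S2475
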