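import Cfsg.Statements.S2582
-- import your own Cfsg.Agent.* helpers here
import Cfsg.Agent.Lib.Helper95.JAsm

set_option autoImplicit false
open Cfsg

namespace Cfsg.Agent.S2582

open Cfsg.Agent.Lib.Helper95.JType Cfsg.Agent.Lib.Helper95.JAsm


/-- Which unipotent Jordan types occur in the finite symplectic group: over a finite field, a unipotent matrix with Jordan block sizes d_1, …, d_t (sum 2m, all at least 1) is similar to an element of Sp_2m(F) if and only if every odd block size occurs an even number of times. -/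
theorem result {F : Type*} [Field F] [Fintype F] {m t : ℕ} (d : Fin t → ℕ) (hd : ∀ k, 1 ≤ d k) (hsum : ∑ k, d k = 2 * m) : (∃ e : ((k : Fin t) × Fin (d k)) ≃ (Fin m ⊕ Fin m), ∃ A : Matrix.symplecticGroup (Fin m) F, IsConj (Matrix.reindex e e (Cfsg.jordanTypeMatrix d F)) (A : Matrix (Fin m ⊕ Fin m) (Fin m ⊕ Fin m) F)) ↔ ∀ j : ℕ, Odd j → Even (Finset.univ.filter (fun k : Fin t => d k = j)).card := by
  have hd' : ∀ k, 0 < d k := fun k => hd k
  constructor
  · rintro ⟨e, A, hconj⟩ j ⟨s, rfl⟩
    have hr : ∀ i, (((A : Matrix (Fin m ⊕ Fin m) (Fin m ⊕ Fin m) F) - 1) ^ i).rank =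
        ∑ k, (d k - i) := fun i => by
      rw [rank_pow_of_isConj _ _ e hconj, rank_jordanType_pow d hd']
    have h0 := even_rank_symp m A.1 A.2 s
    have h2 := even_rank_symp m A.1 A.2 (s + 1)
    rw [hr] at h0 h2
    have hc := count_of_sums d (2 * s)
    have e2 : 2 * (s + 1) = 2 * s + 2 := by ring
    rw [e2] at h2
    have h3 : Even (2 * ∑ k, (d k - (2 * s + 1)) +
        (Finset.univ.filter (fun k : Fin t => d k = 2 * s + 1)).card) := by
      rw [← hc]
      exact h0.add h2
    exact (Nat.even_add.mp h3).mp (even_two_mul _)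
  · intro hpar
    have hG := goodAlt_of_parity (F := F) d hd' hpar
    obtain ⟨A, hA, hnil, hrank⟩ := exists_symp_of_goodAlt m _ hG (by
      simp only [Nat.sub_zero]
      exact hsum)
    have hcard : Fintype.card ((k : Fin t) × Fin (d k)) = Fintype.card (Fin m ⊕ Fin m) := by
      simp only [Fintype.card_sigma, Fintype.card_fin, Fintype.card_sum, hsum]
      ring
    refine ⟨Fintype.equivOfCardEq hcard, ⟨A, hA⟩, ?_⟩
    exact isConj_of_rank _ _ _ (isNilpotent_jordanType d hd') hnil (fun i => by
      rw [rank_jordanType_pow d hd', hrank])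

end Cfsg.Agent.S2582
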