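import Cfsg.Statements.S0271
import Mathlib
import Cfsg.Agent.Lib.Helper13.SympMat

set_option autoImplicit false
open Cfsg

namespace Cfsg.Agent.S0271

/-- Sp_{2m}(F) is transitive on non-zero vectors. -/
theorem result {F : Type*} [Field F] (m : ℕ) (v w : Fin m ⊕ Fin m → F) (hv : v ≠ 0) (hw : w ≠ 0) : ∃ g : Matrix.symplecticGroup (Fin m) F, (g : Matrix (Fin m ⊕ Fin m) (Fin m ⊕ Fin m) F).mulVec v = w := by
  have hv' : v ∉ (⊥ : Submodule F (Fin m ⊕ Fin m → F)) := by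
    rw [Submodule.mem_bot]; exact hv
  have hw' : w ∉ (⊥ : Submodule F (Fin m ⊕ Fin m → F)) := by
    rw [Submodule.mem_bot]; exact hw
  obtain ⟨t, ht, -, h1⟩ := Cfsg.Agent.Lib.Helper13.Symp.step2
    (Cfsg.Agent.Lib.Helper13.SympMat.form m F) (Cfsg.Agent.Lib.Helper13.SympMat.form_nondeg m)
    (Cfsg.Agent.Lib.Helper13.SympMat.form_alt m) ⊥ v w hv' hw'
    (by
      intro z hz
      rw [Submodule.mem_bot] at hz
      rw [hz]
      simp)
  rw [Cfsg.Agent.Lib.Helper13.SympMat.T_eq] at ht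
  obtain ⟨A, -, hA⟩ := ht
  refine ⟨A, ?_⟩
  rw [← Cfsg.Agent.Lib.Helper13.SympMat.Φ_apply, hA, h1]

end Cfsg.Agent.S0271
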