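import Cfsg.Statements.S0520
import Mathlib

set_option autoImplicit false
open Cfsg

namespace Cfsg.Agent.S0520

variable {G : Type*} [Group G]

/-- The edge relation of the commuting graph on Klein four-subgroups. -/
def Adj (A B : Subgroup G) : Prop :=
  IsKleinFour A ∧ IsKleinFour B ∧ ∀ a ∈ A, ∀ b ∈ B, a * b = b * a

theorem klein_of_equiv {A B : Type*} [Group A] [Group B] (e : A ≃* B) (hB : IsKleinFour B) :
    IsKleinFour A :=
  ⟨by rw [Nat.card_congr e.toEquiv, hB.card_four],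
    by rw [Monoid.exponent_eq_of_mulEquiv e, hB.exponent_two]⟩

theorem klein_map {H : Type*} [Group H] (f : G →* H) (hf : Function.Injective f)
    {A : Subgroup G} (hA : IsKleinFour A) : IsKleinFour (A.map f) :=
  klein_of_equiv (A.equivMapOfInjective f hf).symm hA

theorem klein_conj {A : Subgroup G} (hA : IsKleinFour A) (g : G) :
    IsKleinFour (A.map (MulAut.conj g).toMonoidHom) :=
  klein_map _ (MulAut.conj g).injective hA

theorem klein_sq {A : Subgroup G} (hA : IsKleinFour A) {a : G} (ha : a ∈ A) : a ^ 2 = 1 := by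
  have h1 : (⟨a, ha⟩ : A) ^ 2 = 1 := by
    have := Monoid.pow_exponent_eq_one (⟨a, ha⟩ : A)
    rwa [hA.exponent_two] at this
  simpa using congrArg Subtype.val h1

theorem klein_comm {A : Subgroup G} (hA : IsKleinFour A) {a b : G} (ha : a ∈ A) (hb : b ∈ A) :
    a * b = b * a :=
  congrArg Subtype.val (mul_comm_of_exponent_two hA.exponent_two (⟨a, ha⟩ : A) ⟨b, hb⟩)

theorem klein_isPGroup {A : Subgroup G} (hA : IsKleinFour A) : IsPGroup 2 A :=
  IsPGroup.of_card (n := 2) (by rw [hA.card_four]; norm_num)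

theorem klein_of_card_sq (F : Subgroup G) (hc : Nat.card F = 4) (h2 : ∀ f ∈ F, f ^ 2 = 1) :
    IsKleinFour F := by
  refine ⟨hc, ?_⟩
  have hdvd : Monoid.exponent F ∣ 2 := Monoid.exponent_dvd_of_forall_pow_eq_one (fun f => by
    apply Subtype.ext
    simpa using h2 f f.2)
  rcases (Nat.dvd_prime Nat.prime_two).1 hdvd with h | h
  · exfalso
    rw [Monoid.exp_eq_one_iff] at h
    have : Nat.card F = 1 := Nat.card_of_subsingleton (1 : F)
    omega
  · exact h

theorem adj_symm {A B : Subgroup G} (h : Adj A B) : Adj B A :=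
  ⟨h.2.1, h.1, fun b hb a ha => (h.2.2 a ha b hb).symm⟩

theorem conn_symm {A B : Subgroup G} (h : Relation.ReflTransGen Adj A B) :
    Relation.ReflTransGen Adj B A := by
  induction h with
  | refl => exact Relation.ReflTransGen.refl
  | tail _ hbc ih => exact Relation.ReflTransGen.head (adj_symm hbc) ih

theorem adj_conj {A B : Subgroup G} (h : Adj A B) (g : G) :
    Adj (A.map (MulAut.conj g).toMonoidHom) (B.map (MulAut.conj g).toMonoidHom) := by
  refine ⟨klein_conj h.1 g, klein_conj h.2.1 g, ?_⟩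
  rintro _ ⟨a, ha, rfl⟩ _ ⟨b, hb, rfl⟩
  show (MulAut.conj g) a * (MulAut.conj g) b = (MulAut.conj g) b * (MulAut.conj g) a
  rw [← map_mul, ← map_mul, h.2.2 a ha b hb]

theorem conn_conj {A B : Subgroup G} (h : Relation.ReflTransGen Adj A B) (g : G) :
    Relation.ReflTransGen Adj (A.map (MulAut.conj g).toMonoidHom)
      (B.map (MulAut.conj g).toMonoidHom) := by
  induction h with
  | refl => exact Relation.ReflTransGen.refl
  | tail _ hbc ih => exact Relation.ReflTransGen.tail ih (adj_conj hbc g)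

theorem map_conj_mul (A : Subgroup G) (m h : G) :
    A.map (MulAut.conj (m * h)).toMonoidHom =
      (A.map (MulAut.conj h).toMonoidHom).map (MulAut.conj m).toMonoidHom := by
  rw [Subgroup.map_map]
  congr 1
  ext y
  simp [MulAut.conj_apply, mul_assoc]

theorem map_conj_one (A : Subgroup G) :
    A.map (MulAut.conj (1 : G)).toMonoidHom = A := by
  ext x
  simp

/-- The stabilizer of the connected component of `E`. -/
def stab (E : Subgroup G) : Subgroup G where
  carrier := {g | Relation.ReflTransGen Adj E (E.map (MulAut.conj g).toMonoidHom)}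
  one_mem' := by
    show Relation.ReflTransGen Adj E (E.map (MulAut.conj (1 : G)).toMonoidHom)
    rw [map_conj_one]
  mul_mem' := by
    intro a b ha hb
    show Relation.ReflTransGen Adj E (E.map (MulAut.conj (a * b)).toMonoidHom)
    rw [map_conj_mul]
    exact Relation.ReflTransGen.trans ha (conn_conj hb a)
  inv_mem' := by
    intro a ha
    show Relation.ReflTransGen Adj E (E.map (MulAut.conj a⁻¹).toMonoidHom)
    have h1 := conn_conj ha a⁻¹
    rw [← map_conj_mul, inv_mul_cancel, map_conj_one] at h1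
    exact conn_symm h1

theorem mem_stab (E : Subgroup G) (g : G) :
    g ∈ stab E ↔ Relation.ReflTransGen Adj E (E.map (MulAut.conj g).toMonoidHom) :=
  Iff.rfl

/-- A group of `2`-rank at least `2` contains a Klein four-subgroup. -/
theorem exists_klein_of_not_rank {H : Type*} [Group H] [Finite H] (h : ¬ Cfsg.PRankLE 2 1 H) :
    ∃ F : Subgroup H, IsKleinFour F := by
  unfold Cfsg.PRankLE at h
  push Not at h
  obtain ⟨A, -, hA2, hcard⟩ := h
  have hAp : IsPGroup 2 A := by
    intro a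
    refine ⟨1, ?_⟩
    apply Subtype.ext
    simpa using hA2 a a.2
  obtain ⟨k, hk⟩ := hAp.exists_card_eq
  have hk2 : 2 ≤ k := by
    rw [hk] at hcard
    exact (Nat.pow_lt_pow_iff_right (by norm_num)).1 hcard
  have hdvd : 2 ^ 2 ∣ Nat.card A := by rw [hk]; exact pow_dvd_pow 2 hk2
  haveI : Fact (Nat.Prime 2) := ⟨Nat.prime_two⟩
  obtain ⟨K, hK⟩ := Sylow.exists_subgroup_card_pow_prime 2 hdvd
  refine ⟨K.map A.subtype, klein_of_card_sq _ ?_ ?_⟩
  · rw [Subgroup.card_map_of_injective (Subgroup.subtype_injective _), hK]; norm_num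
  · rintro _ ⟨k, -, rfl⟩
    exact hA2 _ k.2

theorem exists_klein_le_of_not_rank [Finite G] {Q : Subgroup G} (h : ¬ Cfsg.PRankLE 2 1 Q) :
    ∃ F : Subgroup G, IsKleinFour F ∧ F ≤ Q := by
  obtain ⟨F, hF⟩ := exists_klein_of_not_rank h
  refine ⟨F.map Q.subtype, klein_map _ (Subgroup.subtype_injective _) hF, ?_⟩
  rintro _ ⟨x, -, rfl⟩
  exact x.2

theorem not_rank_of_klein {Q F : Subgroup G} (hF : IsKleinFour F) (hFQ : F ≤ Q) :
    ¬ Cfsg.PRankLE 2 1 Q := by
  intro h
  have h1 := h (F.subgroupOf Q)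
    ⟨⟨fun a b => Subtype.ext (Subtype.ext
      (klein_comm hF (Subgroup.mem_subgroupOf.1 a.2) (Subgroup.mem_subgroupOf.1 b.2)))⟩⟩
    (fun a ha => Subtype.ext (by simpa using klein_sq hF (Subgroup.mem_subgroupOf.1 ha)))
  rw [Nat.card_congr (Subgroup.subgroupOfEquivOfLe hFQ).toEquiv, hF.card_four] at h1
  omega

/-- Klein four-subgroups of a four-connected subgroup are connected in the whole group. -/
theorem conn_of_le (S : Subgroup G) (hS : Cfsg.IsFourConnected S) {U V : Subgroup G}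
    (hU : IsKleinFour U) (hV : IsKleinFour V) (hUS : U ≤ S) (hVS : V ≤ S) :
    Relation.ReflTransGen Adj U V := by
  have hU' : IsKleinFour (U.subgroupOf S) := klein_of_equiv (Subgroup.subgroupOfEquivOfLe hUS) hU
  have hV' : IsKleinFour (V.subgroupOf S) := klein_of_equiv (Subgroup.subgroupOfEquivOfLe hVS) hV
  have h := hS _ _ hU' hV'
  have h2 : ∀ B : Subgroup S,
      Relation.ReflTransGen
        (fun A B : Subgroup S => IsKleinFour A ∧ IsKleinFour B ∧ ∀ a ∈ A, ∀ b ∈ B, a * b = b * a)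
        (U.subgroupOf S) B →
      Relation.ReflTransGen Adj ((U.subgroupOf S).map S.subtype) (B.map S.subtype) := by
    intro B hB
    induction hB with
    | refl => exact Relation.ReflTransGen.refl
    | tail _ hbc ih =>
      refine Relation.ReflTransGen.tail ih ?_
      obtain ⟨hA, hB, hAB⟩ := hbc
      refine ⟨klein_map _ (Subgroup.subtype_injective _) hA,
        klein_map _ (Subgroup.subtype_injective _) hB, ?_⟩
      rintro _ ⟨a, ha, rfl⟩ _ ⟨b, hb, rfl⟩
      exact congrArg Subtype.val (hAB a ha b hb)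
  have h2 := h2 _ h
  rwa [Subgroup.map_subgroupOf_eq_of_le hUS, Subgroup.map_subgroupOf_eq_of_le hVS] at h2

/-- The `2`-generated core. -/
def Gam (S : Subgroup G) : Subgroup G :=
  ⨆ Q : {Q : Subgroup G // Q ≤ S ∧ ¬ Cfsg.PRankLE 2 1 Q},
    Subgroup.normalizer ((Q : Subgroup G) : Set G)

theorem normalizer_le_gam (S : Subgroup G) {Q F : Subgroup G} (hQ : Q ≤ S) (hF : IsKleinFour F)
    (hFQ : F ≤ Q) : Subgroup.normalizer (Q : Set G) ≤ Gam S :=
  le_iSup (fun Q : {Q : Subgroup G // Q ≤ S ∧ ¬ Cfsg.PRankLE 2 1 Q} =>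
    Subgroup.normalizer ((Q : Subgroup G) : Set G)) ⟨Q, hQ, not_rank_of_klein hF hFQ⟩

theorem gam_le_stab [Finite G] (S : Subgroup G) (hS : Cfsg.IsFourConnected S) {E₀ : Subgroup G}
    (hE₀ : IsKleinFour E₀) (hE₀S : E₀ ≤ S) : Gam S ≤ stab E₀ := by
  apply iSup_le
  rintro ⟨Q, hQS, hQr⟩ g hg
  obtain ⟨F, hF, hFQ⟩ := exists_klein_le_of_not_rank hQr
  rw [mem_stab]
  have hQg : Q.map (MulAut.conj g).toMonoidHom = Q := Subgroup.mem_normalizer_iff_map_conj_eq.1 hg
  have hFg : F.map (MulAut.conj g).toMonoidHom ≤ S := by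
    refine le_trans ?_ hQS
    rw [← hQg]
    exact Subgroup.map_mono hFQ
  have h1 := conn_of_le S hS hE₀ (klein_conj hF g) hE₀S hFg
  have h2 := conn_of_le S hS hE₀ hF hE₀S (hFQ.trans hQS)
  exact h1.trans (conn_symm (conn_conj h2 g))

theorem card_lt_of_lt [Finite G] {H K : Subgroup G} (h : H < K) : Nat.card H < Nat.card K := by
  by_contra hge
  push Not at hge
  exact h.ne (Subgroup.eq_of_le_of_card_ge h.le hge)

theorem exists_normalizer_not_mem [Finite G] {p : ℕ} [Fact p.Prime] {P D : Subgroup G}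
    (hP : IsPGroup p P) (hlt : D < P) :
    ∃ x ∈ P, x ∉ D ∧ x ∈ Subgroup.normalizer (D : Set G) := by
  have hnil : Group.IsNilpotent P := hP.isNilpotent
  have hH : D.subgroupOf P < ⊤ := by
    rw [lt_top_iff_ne_top]
    intro h
    rw [Subgroup.subgroupOf_eq_top] at h
    exact hlt.not_ge h
  have h1 := Group.normalizerCondition_of_isNilpotent (D.subgroupOf P) hH
  obtain ⟨x, hxN, hxD⟩ := SetLike.exists_of_lt h1
  refine ⟨x, x.2, fun h => hxD (Subgroup.mem_subgroupOf.2 h), ?_⟩
  rw [Subgroup.mem_normalizer_iff]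
  intro h
  rw [Subgroup.mem_normalizer_iff] at hxN
  constructor
  · intro hh
    have := (hxN ⟨h, hlt.le hh⟩).1 (Subgroup.mem_subgroupOf.2 hh)
    exact Subgroup.mem_subgroupOf.1 this
  · intro hh
    have hhP : h ∈ P := by
      have h2 : (x : G) * h * (x : G)⁻¹ ∈ P := hlt.le hh
      have : h = (x : G)⁻¹ * ((x : G) * h * (x : G)⁻¹) * (x : G) := by group
      rw [this]
      exact P.mul_mem (P.mul_mem (P.inv_mem x.2) h2) x.2
    have := (hxN ⟨h, hhP⟩).2 (Subgroup.mem_subgroupOf.2 hh)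
    exact Subgroup.mem_subgroupOf.1 this

/-- A `2`-subgroup meeting `S` in a subgroup of rank at least two is conjugate into `S` by an
element of the `2`-generated core. -/
theorem key [Finite G] (S : Sylow 2 G) : ∀ (n : ℕ) (P : Subgroup G), IsPGroup 2 P →
    (∃ F : Subgroup G, IsKleinFour F ∧ F ≤ P ⊓ (S : Subgroup G)) →
    Nat.card ↥(S : Subgroup G) - Nat.card ↥(P ⊓ (S : Subgroup G)) ≤ n →
    ∃ γ ∈ Gam (S : Subgroup G), P.map (MulAut.conj γ).toMonoidHom ≤ (S : Subgroup G) := by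
  haveI : Fact (Nat.Prime 2) := ⟨Nat.prime_two⟩
  intro n
  induction n with
  | zero =>
    intro P hP _ hn
    have h1 : Nat.card ↥(S : Subgroup G) ≤ Nat.card ↥(P ⊓ (S : Subgroup G)) := by omega
    have h2 : P ⊓ (S : Subgroup G) = S := Subgroup.eq_of_le_of_card_ge inf_le_right h1
    have h3 : (S : Subgroup G) ≤ P := h2 ▸ inf_le_left
    have h4 : P = S := S.is_maximal' hP h3
    exact ⟨1, one_mem _, by rw [map_conj_one, h4]⟩
  | succ n ih =>
    intro P hP hF hn
    obtain ⟨F, hF, hFD⟩ := hF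
    by_cases hPS : P ≤ (S : Subgroup G)
    · exact ⟨1, one_mem _, by rw [map_conj_one]; exact hPS⟩
    by_cases hle : Nat.card ↥(S : Subgroup G) - Nat.card ↥(P ⊓ (S : Subgroup G)) ≤ n
    · exact ih P hP ⟨F, hF, hFD⟩ hle
    obtain ⟨D, hD⟩ : ∃ D : Subgroup G, D = P ⊓ (S : Subgroup G) := ⟨_, rfl⟩
    rw [← hD] at hFD hle hn
    have hDP' : D ≤ P := hD ▸ inf_le_left
    have hDS' : D ≤ (S : Subgroup G) := hD ▸ inf_le_right
    have hDP : D < P := lt_of_le_of_ne hDP' (fun h => hPS (h ▸ hDS'))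
    have hDS : D < (S : Subgroup G) := by
      refine lt_of_le_of_ne hDS' (fun h => hle ?_)
      rw [h]; omega
    have hNle : Subgroup.normalizer (D : Set G) ≤ Gam (S : Subgroup G) :=
      normalizer_le_gam (S : Subgroup G) hDS' hF hFD
    obtain ⟨xP, hxP, hxPD, hxPN⟩ := exists_normalizer_not_mem hP hDP
    obtain ⟨xS, hxS, hxSD, hxSN⟩ := exists_normalizer_not_mem S.isPGroup' hDS
    obtain ⟨N, hN⟩ : ∃ N : Subgroup G, N = Subgroup.normalizer (D : Set G) := ⟨_, rfl⟩
    rw [← hN] at hNle hxPN hxSN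
    have hDN : D ≤ N := hN ▸ Subgroup.le_normalizer
    have hRp : IsPGroup 2 ((P ⊓ N).subgroupOf N) :=
      (hP.to_le inf_le_left).comap_of_injective _ (Subgroup.subtype_injective _)
    have hTp : IsPGroup 2 (((S : Subgroup G) ⊓ N).subgroupOf N) :=
      (S.isPGroup'.to_le inf_le_left).comap_of_injective _ (Subgroup.subtype_injective _)
    obtain ⟨PR, hPR⟩ := hRp.exists_le_sylow
    obtain ⟨PT, hPT⟩ := hTp.exists_le_sylow
    obtain ⟨m, hm⟩ := MulAction.exists_smul_eq ↥N PR PT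
    have h1 : (PT : Subgroup ↥N) = (PR : Subgroup ↥N).map (MulAut.conj m).toMonoidHom := by
      rw [← hm]; rfl
    obtain ⟨P₁, hP₁⟩ : ∃ P₁ : Subgroup G, P₁ = (PT : Subgroup ↥N).map N.subtype := ⟨_, rfl⟩
    have hP₁p : IsPGroup 2 P₁ := hP₁ ▸ PT.isPGroup'.map _
    have hSN_le : (S : Subgroup G) ⊓ N ≤ P₁ := by
      intro x hx
      rw [hP₁]
      exact ⟨⟨x, hx.2⟩, hPT (Subgroup.mem_subgroupOf.2 hx), rfl⟩
    have hPN_le : (P ⊓ N).map (MulAut.conj (m : G)).toMonoidHom ≤ P₁ := by
      rintro _ ⟨b, hb, rfl⟩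
      rw [hP₁]
      refine ⟨m * ⟨b, hb.2⟩ * m⁻¹, ?_, rfl⟩
      rw [h1]
      exact ⟨⟨b, hb.2⟩, hPR (Subgroup.mem_subgroupOf.2 hb), rfl⟩
    have hD_lt : Nat.card D < Nat.card ↥(P₁ ⊓ (S : Subgroup G)) := by
      have hlt : D < (S : Subgroup G) ⊓ N :=
        lt_of_le_of_ne (le_inf hDS' hDN) (fun h => hxSD (h ▸ ⟨hxS, hxSN⟩))
      have hle2 : (S : Subgroup G) ⊓ N ≤ P₁ ⊓ (S : Subgroup G) := le_inf hSN_le inf_le_left
      exact card_lt_of_lt (lt_of_lt_of_le hlt hle2)
    have hcardS1 : Nat.card ↥(P₁ ⊓ (S : Subgroup G)) ≤ Nat.card ↥(S : Subgroup G) :=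
      Subgroup.card_le_of_le inf_le_right
    obtain ⟨γ₁, hγ₁, hγ₁S⟩ := ih P₁ hP₁p
      ⟨F, hF, le_inf ((hFD.trans (le_inf hDS' hDN)).trans hSN_le) (hFD.trans hDS')⟩ (by omega)
    obtain ⟨P', hP'⟩ : ∃ P' : Subgroup G, P' = P.map (MulAut.conj (γ₁ * (m : G))).toMonoidHom :=
      ⟨_, rfl⟩
    have hP'p : IsPGroup 2 P' := hP' ▸ hP.map _
    have hsub : (P ⊓ N).map (MulAut.conj (γ₁ * (m : G))).toMonoidHom ≤ P' ⊓ (S : Subgroup G) := by
      refine le_inf (hP' ▸ Subgroup.map_mono inf_le_left) ?_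
      rw [map_conj_mul]
      exact (Subgroup.map_mono hPN_le).trans hγ₁S
    have hD_lt' : Nat.card D < Nat.card ↥(P' ⊓ (S : Subgroup G)) := by
      have hlt : D < P ⊓ N :=
        lt_of_le_of_ne (le_inf hDP' hDN) (fun h => hxPD (h ▸ ⟨hxP, hxPN⟩))
      have h3 := card_lt_of_lt hlt
      have h2 := Subgroup.card_le_of_le hsub
      rw [Subgroup.card_map_of_injective (MulAut.conj _).injective] at h2
      omega
    have hcardS2 : Nat.card ↥(P' ⊓ (S : Subgroup G)) ≤ Nat.card ↥(S : Subgroup G) :=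
      Subgroup.card_le_of_le inf_le_right
    obtain ⟨γ₂, hγ₂, hγ₂S⟩ := ih P' hP'p
      ⟨F.map (MulAut.conj (γ₁ * (m : G))).toMonoidHom, klein_conj hF _,
        (Subgroup.map_mono (hFD.trans (le_inf hDP' hDN))).trans hsub⟩ (by omega)
    refine ⟨γ₂ * (γ₁ * m), mul_mem hγ₂ (mul_mem hγ₁ (hNle m.2)), ?_⟩
    rw [map_conj_mul, ← hP']
    exact hγ₂S

/-- Let G be a finite group of 2-rank at least 2 and S a Sylow 2-subgroup whose commuting graph of Klein four-subgroups is
connected. Then the commuting graph of Klein four-subgroups of G is disconnected if and only if the 2-generated core — the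
subgroup generated by the normalizers N_G(Q) of the subgroups Q of S that contain a Klein four-group — is a proper
subgroup of G. -/
theorem result {G : Type*} [Group G] [Finite G] (h2 : ¬ Cfsg.PRankLE 2 1 G)
    (S : Sylow 2 G) (hS : Cfsg.IsFourConnected (S : Subgroup G)) :
    ¬ Cfsg.IsFourConnected G ↔
      (⨆ Q : {Q : Subgroup G // Q ≤ (S : Subgroup G) ∧ ¬ Cfsg.PRankLE 2 1 Q},
          Subgroup.normalizer ((Q : Subgroup G) : Set G)) ≠ ⊤ := by
  classical
  haveI : Fact (Nat.Prime 2) := ⟨Nat.prime_two⟩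
  show ¬ Cfsg.IsFourConnected G ↔ Gam (S : Subgroup G) ≠ ⊤
  obtain ⟨F₀, hF₀⟩ := exists_klein_of_not_rank h2
  obtain ⟨S', hS'⟩ := (klein_isPGroup hF₀).exists_le_sylow
  obtain ⟨g₀, hg₀⟩ := MulAction.exists_smul_eq G S' S
  have hS'S : (S : Subgroup G) = (S' : Subgroup G).map (MulAut.conj g₀).toMonoidHom := by
    rw [← hg₀]; rfl
  obtain ⟨E₀, hE₀def⟩ : ∃ E₀ : Subgroup G, E₀ = F₀.map (MulAut.conj g₀).toMonoidHom := ⟨_, rfl⟩
  have hE₀ : IsKleinFour E₀ := hE₀def ▸ klein_conj hF₀ g₀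
  have hE₀S : E₀ ≤ (S : Subgroup G) := by
    rw [hS'S, hE₀def]; exact Subgroup.map_mono hS'
  -- every Klein four-subgroup is connected to a conjugate of `E₀`
  have hconnS : ∀ U : Subgroup G, IsKleinFour U →
      ∃ g : G, Relation.ReflTransGen Adj U (E₀.map (MulAut.conj g).toMonoidHom) := by
    intro U hU
    obtain ⟨S₂, hS₂⟩ := (klein_isPGroup hU).exists_le_sylow
    obtain ⟨g, hg⟩ := MulAction.exists_smul_eq G S S₂
    have h1 : (S₂ : Subgroup G) = (S : Subgroup G).map (MulAut.conj g).toMonoidHom := by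
      rw [← hg]; rfl
    refine ⟨g, ?_⟩
    have hU' : U.map (MulAut.conj g⁻¹).toMonoidHom ≤ (S : Subgroup G) := by
      rw [Subgroup.map_le_iff_le_comap]
      intro u hu
      have hu2 : u ∈ (S : Subgroup G).map (MulAut.conj g).toMonoidHom := h1 ▸ hS₂ hu
      obtain ⟨s, hs, hsu⟩ := hu2
      rw [Subgroup.mem_comap]
      have : (MulAut.conj g⁻¹).toMonoidHom u = s := by
        rw [← hsu]
        simp [MulAut.conj_apply, mul_assoc]
      rw [this]; exact hs
    have hc := conn_of_le (S : Subgroup G) hS (klein_conj hU g⁻¹) hE₀ hU' hE₀S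
    have hc2 := conn_conj hc g
    rwa [← map_conj_mul, mul_inv_cancel, map_conj_one] at hc2
  constructor
  · intro hnc htop
    apply hnc
    have hstab : ∀ g : G, Relation.ReflTransGen Adj E₀ (E₀.map (MulAut.conj g).toMonoidHom) := by
      intro g
      have : g ∈ stab E₀ := (gam_le_stab (S : Subgroup G) hS hE₀ hE₀S) (htop ▸ Subgroup.mem_top g)
      exact this
    unfold Cfsg.IsFourConnected
    intro U V hU hV
    obtain ⟨g, hg⟩ := hconnS U hU
    obtain ⟨g', hg'⟩ := hconnS V hV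
    exact (hg.trans (conn_symm (hstab g))).trans ((hstab g').trans (conn_symm hg'))
  · intro hne hconn
    apply hne
    rw [eq_top_iff]
    intro g _
    -- every Klein four-subgroup is conjugate into `S` by an element of the core
    have hall : ∀ F : Subgroup G, Relation.ReflTransGen Adj E₀ F →
        ∃ γ ∈ Gam (S : Subgroup G), F.map (MulAut.conj γ).toMonoidHom ≤ (S : Subgroup G) := by
      intro F hF
      induction hF with
      | refl => exact ⟨1, one_mem _, by rw [map_conj_one]; exact hE₀S⟩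
      | @tail F₁ F₂ _ hadj ih =>
        obtain ⟨γ, hγ, hγS⟩ := ih
        have hcomm : F₂ ≤ Subgroup.normalizer (F₁ : Set G) := by
          intro b hb
          rw [Subgroup.mem_normalizer_iff]
          intro a
          constructor
          · intro ha
            have : b * a * b⁻¹ = a := by
              rw [← hadj.2.2 a ha b hb, mul_inv_cancel_right]
            rw [this]; exact ha
          · intro ha
            have h5 := hadj.2.2 _ ha b hb
            have : a = b * a * b⁻¹ := by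
              have h6 : b * a * b⁻¹ * b = b * (b * a * b⁻¹) := h5
              have h7 : b * a = b * (b * a * b⁻¹) := by
                rw [← h6]; group
              exact mul_left_cancel h7
            rw [this]; exact ha
        have hPp : IsPGroup 2 ↥(F₁ ⊔ F₂) :=
          (klein_isPGroup hadj.1).to_sup_of_normal_left' (klein_isPGroup hadj.2.1) hcomm
        have hPp' : IsPGroup 2 ↥((F₁ ⊔ F₂).map (MulAut.conj γ).toMonoidHom) := hPp.map _
        obtain ⟨γ₂, hγ₂, hγ₂S⟩ := key S _ _ hPp'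
          ⟨F₁.map (MulAut.conj γ).toMonoidHom, klein_conj hadj.1 γ,
            le_inf (Subgroup.map_mono le_sup_left) hγS⟩ le_rfl
        refine ⟨γ₂ * γ, mul_mem hγ₂ hγ, ?_⟩
        rw [map_conj_mul]
        exact (Subgroup.map_mono (Subgroup.map_mono le_sup_right)).trans hγ₂S
    have hEg : IsKleinFour (E₀.map (MulAut.conj g).toMonoidHom) := klein_conj hE₀ g
    obtain ⟨γ, hγ, hγS⟩ := hall _ (hconn E₀ _ hE₀ hEg)
    have hSg : IsPGroup 2 ↥(((S : Subgroup G).map (MulAut.conj g).toMonoidHom).map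
        (MulAut.conj γ).toMonoidHom) := (S.isPGroup'.map _).map _
    obtain ⟨γ₂, hγ₂, hγ₂S⟩ := key S _ _ hSg
      ⟨(E₀.map (MulAut.conj g).toMonoidHom).map (MulAut.conj γ).toMonoidHom,
        klein_conj hEg γ, le_inf (Subgroup.map_mono (Subgroup.map_mono hE₀S)) hγS⟩ le_rfl
    rw [← map_conj_mul, ← map_conj_mul] at hγ₂S
    have hnorm : γ₂ * γ * g ∈ Subgroup.normalizer ((S : Subgroup G) : Set G) := by
      rw [Subgroup.mem_normalizer_iff_map_conj_eq]
      apply Subgroup.eq_of_le_of_card_ge hγ₂S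
      rw [Subgroup.card_map_of_injective (MulAut.conj _).injective]
    have h3 : γ₂ * γ * g ∈ Gam (S : Subgroup G) :=
      normalizer_le_gam (S : Subgroup G) le_rfl hE₀ hE₀S hnorm
    have h4 : g = γ⁻¹ * (γ₂⁻¹ * (γ₂ * γ * g)) := by group
    rw [h4]
    exact mul_mem (inv_mem hγ) (mul_mem (inv_mem hγ₂) h3)

end Cfsg.Agent.S0520
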