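import Cfsg.Statements.S2910
import Cfsg.Agent.S0071
import Cfsg.Agent.Lib.Helper24.Coprime

set_option autoImplicit false
open Cfsg

namespace Cfsg.Agent.S2910

/-- Let p be an odd prime dividing the order of the finite group G and P a Sylow p-subgroup of G. If Ω₁(P) (generated by the elements of order dividing p) is contained in the centre of G, then G has a normal p-complement. In particular, if G is quasisimple then Ω₁(P) is not central in G. -/
theorem result {G : Type*} [Group G] [Finite G] {p : ℕ} [Fact p.Prime] (hp : p ≠ 2) (hdiv : p ∣ Nat.card G) (P : Sylow p G) (hZ : Cfsg.omegaOne p (P : Subgroup G) ≤ Subgroup.center G) : Cfsg.HasNormalPComplement p G ∧ ¬ Cfsg.IsQuasisimple G := by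
  have hcomp : ∃ N : Subgroup G, N.Normal ∧ N.IsComplement' (P : Subgroup G) := by
    rw [Cfsg.Agent.S0071.result P]
    intro Q hQP g hg hcop
    rw [Subgroup.mem_centralizer_iff]
    intro x hx
    exact Cfsg.Agent.Lib.Helper24.Coprime.centralizes_of_centralizes_omega p hp g hcop Q
      (P.isPGroup'.to_le hQP) hg (by
        intro y hy hyp
        have h1 : y ∈ Cfsg.omegaOne p (P : Subgroup G) := Subgroup.subset_closure ⟨hQP hy, hyp⟩
        exact (Subgroup.mem_center_iff.1 (hZ h1) g).symm) x hx
  obtain ⟨N, hN, hNP⟩ := hcomp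
  refine ⟨⟨P, N, hN, hNP⟩, ?_⟩
  rintro ⟨hperf, -⟩
  have hidx : N.index = Nat.card (P : Subgroup G) := hNP.symm.index_eq_card
  have hcard : Nat.card (G ⧸ N) = p ^ Nat.factorization (Nat.card G) p := by
    rw [← Subgroup.index_eq_card, hidx, P.card_eq_multiplicity]
  have hpG : IsPGroup p (G ⧸ N) := IsPGroup.of_card hcard
  have hpos : 0 < Nat.factorization (Nat.card G) p :=
    (Nat.Prime.factorization_pos_of_dvd Fact.out Nat.card_pos.ne' hdiv)
  have hnt : Nontrivial (G ⧸ N) := by
    rw [← Finite.one_lt_card_iff_nontrivial, hcard]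
    exact Nat.one_lt_pow hpos.ne' (Fact.out : p.Prime).one_lt
  have hnil : Group.IsNilpotent (G ⧸ N) := hpG.isNilpotent
  exact Group.IsPerfect.not_isNilpotent (G ⧸ N) hnil

end Cfsg.Agent.S2910
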