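import Cfsg.Statements.S1137
import Cfsg.Agent.Lib.Helper63.Suzuki2

set_option autoImplicit false
open Cfsg

namespace Cfsg.Agent.S1137

open Cfsg.Agent.Lib.Helper63.Suzuki2

/-- A Suzuki 2-group gives the standing hypotheses of the library: the cyclic automorphism group
is commutative of odd order and all involutions are central. -/
theorem setup_of_suzuki {P : Type*} [Group P] (hP : Cfsg.IsSuzukiTwoGroup P) :
    ∃ K : Subgroup (MulAut P), Setup P K := by
  classical
  obtain ⟨hfin, h2, -, ⟨x0, y0, hxy, hx1, hx2, hy1, hy2⟩, K, hcyc, hreg⟩ := hP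
  have : Finite P := hfin
  refine ⟨K, ?_⟩
  have hcentral : ∀ x : P, x * x = 1 → ∀ g : P, g * x = x * g := by
    intro x hx g
    by_cases hx1' : x = 1
    · rw [hx1', mul_one, one_mul]
    have hnt : Nontrivial P := ⟨⟨x0, 1, hx1⟩⟩
    have hfact : Fact (Nat.Prime 2) := ⟨Nat.prime_two⟩
    have hcen : Nontrivial (Subgroup.center P) := h2.center_nontrivial
    obtain ⟨⟨z, hz⟩, hz1⟩ := exists_ne (1 : Subgroup.center P)
    have hz1' : z ≠ 1 := fun h => hz1 (Subtype.ext h)
    obtain ⟨m, hm⟩ := h2 z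
    have hex : ∃ r, z ^ (2 ^ r) = 1 := ⟨m, hm⟩
    obtain ⟨r, hr, hrmin⟩ : ∃ r, z ^ (2 ^ r) = 1 ∧ ∀ q < r, z ^ (2 ^ q) ≠ 1 :=
      ⟨Nat.find hex, Nat.find_spec hex, fun q hq => Nat.find_min hex hq⟩
    have hr0 : r ≠ 0 := by
      rintro rfl
      rw [pow_zero, pow_one] at hr
      exact hz1' hr
    obtain ⟨q, rfl⟩ : ∃ q, r = q + 1 := ⟨r - 1, by omega⟩
    have hz0ne : z ^ (2 ^ q) ≠ 1 := hrmin q (by omega)
    have hz0sq : z ^ (2 ^ q) * z ^ (2 ^ q) = 1 := by
      rw [← pow_add, ← two_mul, ← pow_succ']; exact hr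
    have hz0c : ∀ g : P, g * z ^ (2 ^ q) = z ^ (2 ^ q) * g := fun g =>
      (Subgroup.mem_center_iff.1 (Subgroup.pow_mem _ hz _)) g
    obtain ⟨k, hk, -⟩ := hreg (z ^ (2 ^ q)) x hz0ne hz0sq hx1' hx
    have h1 := hz0c ((k : MulAut P)⁻¹ g)
    have h3 := congrArg (k : MulAut P) h1
    rw [map_mul, map_mul, MulAut.apply_inv_self, hk] at h3
    exact h3
  have hfree : ∀ k ∈ K, ∀ x : P, x ≠ 1 → x * x = 1 → k x = x → k = 1 := by
    intro k hk x hx1' hx2' hkx
    have h := (hreg x x hx1' hx2' hx1' hx2').unique (y₁ := ⟨k, hk⟩) (y₂ := 1) hkx rfl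
    exact congrArg Subtype.val h
  have hKc : IsMulCommutative K := IsCyclic.isMulCommutative
  refine ⟨fun k₁ h₁ k₂ h₂ => congrArg Subtype.val (hKc.is_comm.comm ⟨k₁, h₁⟩ ⟨k₂, h₂⟩), ?_,
    hcentral, fun x y hx hx' hy hy' => ?_, hfree⟩
  · -- every element of K is a square: K has odd order
    have hfinA : Finite (MulAut P) :=
      Finite.of_injective (fun f : MulAut P => (f : P → P)) DFunLike.coe_injective
    let I : Subgroup P :=
      { carrier := {x | x * x = 1}
        mul_mem' := by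
          intro x y hx hy
          have hx' : x * x = 1 := hx
          have hy' : y * y = 1 := hy
          show x * y * (x * y) = 1
          calc x * y * (x * y) = x * (y * x) * y := by group
            _ = x * (x * y) * y := by rw [hcentral x hx' y]
            _ = (x * x) * (y * y) := by group
            _ = 1 := by rw [hx', hy', one_mul]
        one_mem' := by show (1 : P) * 1 = 1; rw [mul_one]
        inv_mem' := by
          intro x hx
          have hx' : x * x = 1 := hx
          show x⁻¹ * x⁻¹ = 1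
          rw [← mul_inv_rev, hx', inv_one] }
    obtain ⟨m, hm⟩ := IsPGroup.iff_card.1 (h2.to_subgroup I)
    have hbij : Function.Bijective
        (fun k : K => (⟨(k : MulAut P) x0, by
          refine ⟨fun h => hx1 ?_, ?_⟩
          · exact (k : MulAut P).injective (h.trans (map_one _).symm)
          · rw [← map_mul, hx2, map_one]⟩ : {x : P // x ≠ 1 ∧ x * x = 1})) := by
      constructor
      · intro k₁ k₂ h
        have h5 : (k₁ : MulAut P) x0 = (k₂ : MulAut P) x0 := congrArg Subtype.val h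
        have h6 : ((k₂⁻¹ * k₁ : K) : MulAut P) x0 = x0 := by
          rw [Subgroup.coe_mul, Subgroup.coe_inv, MulAut.mul_apply, h5, MulAut.inv_apply_self]
        have h7 := hfree _ (k₂⁻¹ * k₁ : K).2 x0 hx1 hx2 h6
        have h8 : k₂⁻¹ * k₁ = 1 := Subtype.ext h7
        exact (inv_mul_eq_one.1 h8).symm
      · rintro ⟨y, hy, hy'⟩
        obtain ⟨k, hk, -⟩ := hreg x0 y hx1 hx2 hy hy'
        exact ⟨k, Subtype.ext hk⟩
    have hcardK : Nat.card K = Nat.card {x : P // x ≠ 1 ∧ x * x = 1} :=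
      Nat.card_congr (Equiv.ofBijective _ hbij)
    have hcardI : Nat.card I = Nat.card {x : P // x ≠ 1 ∧ x * x = 1} + 1 := by
      have h5 : (I : Set P) = insert 1 {x : P | x ≠ 1 ∧ x * x = 1} := by
        ext x
        simp only [Set.mem_insert_iff, Set.mem_ofPred_eq]
        constructor
        · intro hx
          by_cases hx1' : x = 1
          · exact Or.inl hx1'
          · exact Or.inr ⟨hx1', hx⟩
        · rintro (rfl | ⟨-, hx⟩)
          · exact I.one_mem
          · exact hx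
      have h6 : Nat.card I = (I : Set P).ncard := Nat.card_coe_set_eq _
      have h7 : Nat.card {x : P // x ≠ 1 ∧ x * x = 1} = {x : P | x ≠ 1 ∧ x * x = 1}.ncard :=
        Nat.card_coe_set_eq _
      rw [h6, h7, h5]
      exact Set.ncard_insert_of_notMem (fun h => h.1 rfl)
    have hodd : ∃ r, Nat.card K = 2 * r + 1 := by
      rw [hm, ← hcardK] at hcardI
      have hpos : 0 < Nat.card K := Nat.card_pos
      have hm0 : m ≠ 0 := by
        rintro rfl
        rw [pow_zero] at hcardI
        omega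
      obtain ⟨m', rfl⟩ : ∃ m', m = m' + 1 := ⟨m - 1, by omega⟩
      have hpos2 : 0 < 2 ^ m' := Nat.pow_pos (by norm_num)
      refine ⟨2 ^ m' - 1, ?_⟩
      rw [pow_succ] at hcardI
      omega
    obtain ⟨r, hr⟩ := hodd
    intro k hk
    have h5 : (⟨k, hk⟩ : K) ^ Nat.card K = 1 := pow_card_eq_one'
    refine ⟨((⟨k, hk⟩ : K) ^ (r + 1) : K), (((⟨k, hk⟩ : K) ^ (r + 1) : K)).2, ?_⟩
    have h6 : ((⟨k, hk⟩ : K) ^ (r + 1)) * ((⟨k, hk⟩ : K) ^ (r + 1)) = ⟨k, hk⟩ := by
      rw [← pow_add, show r + 1 + (r + 1) = Nat.card K + 1 by omega, pow_succ, h5, one_mul]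
    exact congrArg Subtype.val h6
  · obtain ⟨k, hk, -⟩ := hreg x y hx hx' hy hy'
    exact ⟨k, k.2, hk⟩

/-- In a Suzuki 2-group `P` (a finite non-abelian 2-group with more than one involution admitting a cyclic group of automorphisms regular on its involutions) the involutions are exactly the non-identity central elements, and `Z(P)` is elementary abelian. -/
theorem result {P : Type*} [Group P] (hP : Cfsg.IsSuzukiTwoGroup P) :
    (∀ x : P, (x ≠ 1 ∧ x * x = 1) ↔ (x ∈ Subgroup.center P ∧ x ≠ 1)) ∧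
      ∀ z ∈ Subgroup.center P, z * z = 1 := by
  obtain ⟨K, hS⟩ := setup_of_suzuki hP
  obtain ⟨hfin, h2, ⟨a, b, hab⟩, -, -⟩ := hP
  have : Finite P := hfin
  have hZ : ∀ z ∈ Subgroup.center P, z * z = 1 := by
    intro z hz
    exact center_sq hS h2 (Nat.card (⊤ : Subgroup P)) ⊤ le_rfl (fun k _ x _ => Subgroup.mem_top _)
      ⟨a, Subgroup.mem_top _, b, Subgroup.mem_top _, hab⟩ z (Subgroup.mem_top _)
      (fun g _ => Subgroup.mem_center_iff.1 hz g)
  exact ⟨fun x => ⟨fun h => ⟨Subgroup.mem_center_iff.2 (hS.inv_central x h.2), h.1⟩,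
    fun h => ⟨h.2, hZ x h.1⟩⟩, hZ⟩

end Cfsg.Agent.S1137
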