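import Cfsg.Statements.S0738
import Mathlib

set_option autoImplicit false
open Cfsg

namespace Cfsg.Agent.S0738

theorem card_dvd_of_semiregular {G : Type*} [Group G] [Finite G] (K : Subgroup G) (S : Set G)
    (hinv : ∀ k ∈ K, ∀ s ∈ S, k * s * k⁻¹ ∈ S)
    (hfree : ∀ k ∈ K, ∀ s ∈ S, k * s * k⁻¹ = s → k = 1) :
    Nat.card K ∣ S.ncard := by
  letI : MulAction K S :=
    { smul := fun k s => ⟨k.1 * s.1 * k.1⁻¹, hinv k.1 k.2 s.1 s.2⟩
      one_smul := fun s => Subtype.ext (by
        show (1 : G) * s.1 * (1 : G)⁻¹ = s.1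
        simp)
      mul_smul := fun k k' s => Subtype.ext (by
        show (k.1 * k'.1) * s.1 * (k.1 * k'.1)⁻¹ = k.1 * (k'.1 * s.1 * k'.1⁻¹) * k.1⁻¹
        simp [mul_assoc]) }
  have hstab : ∀ s : S, MulAction.stabilizer K s = ⊥ := by
    intro s
    rw [eq_bot_iff]
    intro k hk
    rw [MulAction.mem_stabilizer_iff] at hk
    have h1 : k.1 * s.1 * k.1⁻¹ = s.1 := congrArg Subtype.val hk
    rw [Subgroup.mem_bot]
    exact Subtype.ext (hfree k.1 k.2 s.1 s.2 h1)
  have e := MulAction.selfEquivOrbitsQuotientProd hstab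
  rw [← Nat.card_coe_set_eq, Nat.card_congr e, Nat.card_prod]
  exact dvd_mul_left _ _

theorem orderOf_conj' {G : Type*} [Group G] (h u : G) : orderOf (h * u * h⁻¹) = orderOf u := by
  have := orderOf_injective (MulAut.conj h).toMonoidHom (MulAut.conj h).injective u
  simpa using this

theorem elemAb {G : Type*} [Group G] [Finite G] (F H : Subgroup G)
    (hnorm : ∀ h ∈ H, ∀ u ∈ F, h * u * h⁻¹ ∈ F)
    (hsemi : ∀ h ∈ H, ∀ u ∈ F, u ≠ 1 → h * u * h⁻¹ = u → h = 1)
    (hcard : Nat.card F - 1 ≤ 2 * Nat.card H) :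
    (∀ u ∈ F, ∀ v ∈ F, u * v = v * u) ∧ ∃ p : ℕ, p.Prime ∧ ∀ u ∈ F, u ^ p = 1 := by
  classical
  obtain ⟨d, hd⟩ : ∃ d, d = Nat.card H := ⟨_, rfl⟩
  obtain ⟨n, hn⟩ : ∃ n, n = Nat.card F := ⟨_, rfl⟩
  rw [← hd, ← hn] at hcard
  have hd1 : 1 ≤ d := hd ▸ Nat.card_pos
  have hn1 : 1 ≤ n := hn ▸ Nat.card_pos
  have hnF : (F : Set G).ncard = n := by
    rw [hn]
    exact (Nat.card_coe_set_eq (F : Set G)).symm
  have C1 : ∀ S : Set G, S ⊆ (F : Set G) \ {1} → (∀ h ∈ H, ∀ s ∈ S, h * s * h⁻¹ ∈ S) →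
      d ∣ S.ncard := by
    intro S hS hinv
    rw [hd]
    exact card_dvd_of_semiregular H S hinv
      (fun h hh s hs e => hsemi h hh s (hS hs).1 (hS hs).2 e)
  have hF1 : ((F : Set G) \ {1}).ncard = n - 1 := by
    rw [Set.ncard_sdiff_singleton_of_mem (show (1 : G) ∈ (F : Set G) from F.one_mem), hnF]
  have C2 : ∀ S T : Set G, S ⊆ (F : Set G) \ {1} → T ⊆ (F : Set G) \ {1} → Disjoint S T →
      (∀ h ∈ H, ∀ s ∈ S, h * s * h⁻¹ ∈ S) → (∀ h ∈ H, ∀ s ∈ T, h * s * h⁻¹ ∈ T) →
      S.Nonempty → T.Nonempty → S.ncard = d ∧ n = 2 * d + 1 ∧ S ∪ T = (F : Set G) \ {1} := by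
    intro S T hS hT hdisj hSi hTi hSn hTn
    have h1 := C1 S hS hSi
    have h2 := C1 T hT hTi
    have hSpos : 0 < S.ncard := (Set.ncard_pos).2 hSn
    have hTpos : 0 < T.ncard := (Set.ncard_pos).2 hTn
    have hle : S.ncard + T.ncard ≤ n - 1 := by
      rw [← Set.ncard_union_eq hdisj, ← hF1]
      exact Set.ncard_le_ncard (Set.union_subset hS hT)
    have h3 := Nat.le_of_dvd hSpos h1
    have h4 := Nat.le_of_dvd hTpos h2
    refine ⟨by omega, by omega, ?_⟩
    apply Set.eq_of_subset_of_ncard_le (Set.union_subset hS hT)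
    rw [Set.ncard_union_eq hdisj, hF1]
    omega
  -- invariant subgroups
  have C3 : ∀ K : Subgroup G, K ≤ F → K ≠ ⊥ → (∀ h ∈ H, ∀ k ∈ K, h * k * h⁻¹ ∈ K) → F ≤ K := by
    intro K hKF hK hKi
    by_contra hne
    obtain ⟨u, huF, huK⟩ := SetLike.not_le_iff_exists.1 hne
    obtain ⟨k, hkK⟩ := (Subgroup.ne_bot_iff_exists_ne_one.1 hK)
    have hkK' : (k : G) ∈ K := k.2
    have hk1' : (k : G) ≠ 1 := fun h => hkK (Subtype.ext h)
    have := C2 ((K : Set G) \ {1}) ((F : Set G) \ (K : Set G))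
      (fun x hx => ⟨hKF hx.1, hx.2⟩)
      (fun x hx => ⟨hx.1, fun h1 => hx.2 (by rw [Set.mem_singleton_iff.1 h1]; exact K.one_mem)⟩)
      (Set.disjoint_left.2 fun x hx hx' => hx'.2 hx.1)
      (fun h hh s hs => ⟨hKi h hh s hs.1, fun h1 => hs.2 (by
        rw [Set.mem_singleton_iff] at h1 ⊢
        exact conj_eq_one_iff.1 h1)⟩)
      (fun h hh s hs => ⟨hnorm h hh s hs.1, fun h1 => hs.2 (by
        have := hKi h⁻¹ (H.inv_mem hh) _ h1
        simpa [mul_assoc] using this)⟩)
      ⟨k, hkK', hk1'⟩ ⟨u, huF, huK⟩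
    obtain ⟨e1, e2, -⟩ := this
    rw [Set.ncard_sdiff_singleton_of_mem (show (1 : G) ∈ (K : Set G) from K.one_mem)] at e1
    have e3 : (K : Set G).ncard = Nat.card K := (Nat.card_coe_set_eq (K : Set G)).symm
    have e4 : Nat.card K ∣ Nat.card F := Subgroup.card_dvd_of_le hKF
    have e5 : 1 ≤ Nat.card K := Nat.card_pos
    rw [← hn, e2] at e4
    have e6 : Nat.card K = d + 1 := by omega
    rw [e6] at e4
    have e7 : d + 1 ∣ 2 * (d + 1) - (2 * d + 1) := Nat.dvd_sub (dvd_mul_left _ _) e4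
    have e8 : 2 * (d + 1) - (2 * d + 1) = 1 := by omega
    rw [e8, Nat.dvd_one] at e7
    omega
  by_cases hn2 : n = 1
  · have hbot : F = ⊥ := by
      rw [← Subgroup.card_eq_one, ← hn, hn2]
    refine ⟨?_, 2, Nat.prime_two, ?_⟩
    · intro u hu v hv
      rw [hbot, Subgroup.mem_bot] at hu hv
      rw [hu, hv]
    · intro u hu
      rw [hbot, Subgroup.mem_bot] at hu
      rw [hu, one_pow]
  have hn3 : 2 ≤ n := by omega
  -- a prime divisor
  obtain ⟨p, hp, hpn⟩ := Nat.exists_prime_and_dvd hn2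
  have hcauchy : ∀ r : ℕ, r.Prime → r ∣ n → ∃ x ∈ F, orderOf x = r := by
    intro r hr hrn
    haveI : Fact r.Prime := ⟨hr⟩
    obtain ⟨x, hx⟩ := exists_prime_orderOf_dvd_card' r (hn ▸ hrn)
    exact ⟨x.1, x.2, by rw [Subgroup.orderOf_coe, hx]⟩
  have hSsub : ∀ r : ℕ, r.Prime → {u : G | u ∈ F ∧ orderOf u = r} ⊆ (F : Set G) \ {1} := by
    intro r hr u hu
    refine ⟨hu.1, fun h1 => ?_⟩
    rw [Set.mem_singleton_iff] at h1
    have := hu.2
    rw [h1, orderOf_one] at this
    exact hr.one_lt.ne this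
  have hSinv : ∀ r : ℕ, ∀ h ∈ H, ∀ s ∈ {u : G | u ∈ F ∧ orderOf u = r},
      h * s * h⁻¹ ∈ {u : G | u ∈ F ∧ orderOf u = r} := by
    intro r h hh s hs
    exact ⟨hnorm h hh s hs.1, by rw [orderOf_conj']; exact hs.2⟩
  have hprime : ∀ q : ℕ, q.Prime → q ∣ n → q = p := by
    intro q hq hqn
    by_contra hqp
    obtain ⟨x, hxF, hx⟩ := hcauchy p hp hpn
    obtain ⟨y, hyF, hy⟩ := hcauchy q hq hqn
    obtain ⟨e1, e2, e3⟩ := C2 {u : G | u ∈ F ∧ orderOf u = p} {u : G | u ∈ F ∧ orderOf u = q}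
      (hSsub p hp) (hSsub q hq)
      (Set.disjoint_left.2 fun u hu hu' => hqp (hu'.2.symm.trans hu.2))
      (hSinv p) (hSinv q) ⟨x, hxF, hx⟩ ⟨y, hyF, hy⟩
    have hord : ∀ u ∈ F, u ≠ 1 → orderOf u = p ∨ orderOf u = q := by
      intro u hu hu1
      have : u ∈ (F : Set G) \ {1} := ⟨hu, hu1⟩
      rw [← e3] at this
      rcases this with h | h
      · exact Or.inl h.2
      · exact Or.inr h.2
    have hzF : ∀ k ∈ Subgroup.zpowers y, k ∈ F := by
      intro k hk
      exact (Subgroup.zpowers_le.2 hyF) hk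
    have key := card_dvd_of_semiregular (Subgroup.zpowers y) {u : G | u ∈ F ∧ orderOf u = p}
      (by
        intro k hk s hs
        have hkF := hzF k hk
        refine ⟨?_, by rw [orderOf_conj']; exact hs.2⟩
        exact F.mul_mem (F.mul_mem hkF hs.1) (F.inv_mem hkF))
      (by
        intro k hk s hs hks
        by_contra hk1
        have hkF := hzF k hk
        have hkq : orderOf k ∣ q := by
          apply orderOf_dvd_of_pow_eq_one
          obtain ⟨i, rfl⟩ := Subgroup.mem_zpowers_iff.1 hk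
          rw [← zpow_natCast, ← zpow_mul, mul_comm, zpow_mul, zpow_natCast, ← hy,
            pow_orderOf_eq_one, one_zpow]
        have hkq' : orderOf k = q := by
          rcases hord k hkF hk1 with h | h
          · rw [h] at hkq
            exact absurd ((Nat.prime_dvd_prime_iff_eq hp hq).1 hkq).symm hqp
          · exact h
        have hcomm : Commute k s := by
          have : k * s = s * k := by
            have h5 := congrArg (· * k) hks
            simpa using h5
          exact this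
        have hco : (orderOf k).Coprime (orderOf s) := by
          rw [hkq', hs.2]
          exact (Nat.coprime_primes hq hp).2 hqp
        have hks' := hcomm.orderOf_mul_eq_mul_orderOf_of_coprime hco
        rw [hkq', hs.2] at hks'
        have hne1 : k * s ≠ 1 := by
          intro h1
          rw [h1, orderOf_one] at hks'
          have := hq.two_le
          have := hp.two_le
          nlinarith
        rcases hord (k * s) (F.mul_mem hkF hs.1) hne1 with h | h
        · rw [h] at hks'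
          have := hq.two_le
          have := hp.two_le
          nlinarith
        · rw [h] at hks'
          have := hq.two_le
          have := hp.two_le
          nlinarith)
    rw [Nat.card_zpowers, hy, e1] at key
    rw [e2] at hqn
    have : q ∣ 2 * d + 1 - 2 * d := Nat.dvd_sub hqn (Dvd.dvd.mul_left key 2)
    have e8 : 2 * d + 1 - 2 * d = 1 := by omega
    rw [e8, Nat.dvd_one] at this
    exact hq.one_lt.ne' this
  have hnp : n = p ^ n.primeFactorsList.length :=
    Nat.eq_prime_pow_of_unique_prime_dvd (by omega) (fun {q} hq hqn => hprime q hq hqn)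
  haveI : Fact p.Prime := ⟨hp⟩
  have hPG : IsPGroup p F := IsPGroup.iff_card.2 ⟨_, hn ▸ hnp⟩
  haveI : Nontrivial F := by
    rw [← Finite.one_lt_card_iff_nontrivial, ← hn]
    omega
  haveI := hPG.center_nontrivial
  obtain ⟨z, hz⟩ := exists_ne (1 : Subgroup.center F)
  have hz1 : ((z : F) : G) ≠ 1 := by
    intro h
    apply hz
    apply Subtype.ext
    apply Subtype.ext
    exact h
  have hzc : ∀ u ∈ F, u * ((z : F) : G) = ((z : F) : G) * u := by
    intro u hu
    have := (Subgroup.mem_center_iff.1 z.2) ⟨u, hu⟩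
    exact congrArg Subtype.val this
  have hK1 := C3 (F ⊓ Subgroup.centralizer (F : Set G)) inf_le_left
    (by
      intro hbot
      have : ((z : F) : G) ∈ F ⊓ Subgroup.centralizer (F : Set G) :=
        ⟨(z : F).2, Subgroup.mem_centralizer_iff.2 hzc⟩
      rw [hbot, Subgroup.mem_bot] at this
      exact hz1 this)
    (by
      intro h hh k hk
      refine ⟨hnorm h hh k hk.1, Subgroup.mem_centralizer_iff.2 ?_⟩
      intro u hu
      have hu' : h⁻¹ * u * h ∈ F := by
        have := hnorm h⁻¹ (H.inv_mem hh) u hu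
        simpa using this
      have e := (Subgroup.mem_centralizer_iff.1 hk.2) _ hu'
      have := congrArg (fun t => h * t * h⁻¹) e
      simp only [mul_assoc] at this ⊢
      simpa using this)
  have hcomm : ∀ u ∈ F, ∀ v ∈ F, u * v = v * u := by
    intro u hu v hv
    exact (Subgroup.mem_centralizer_iff.1 (hK1 hv).2) u hu
  refine ⟨hcomm, p, hp, ?_⟩
  obtain ⟨x, hxF, hx⟩ := hcauchy p hp hpn
  let K' : Subgroup G :=
    { carrier := {u | u ∈ F ∧ u ^ p = 1}
      mul_mem' := fun {u v} hu hv => ⟨F.mul_mem hu.1 hv.1, by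
        have hc : Commute u v := hcomm u hu.1 v hv.1
        rw [hc.mul_pow, hu.2, hv.2, one_mul]⟩
      one_mem' := ⟨F.one_mem, one_pow p⟩
      inv_mem' := fun {u} hu => ⟨F.inv_mem hu.1, by rw [inv_pow, hu.2, inv_one]⟩ }
  have hK2 := C3 K' (fun u hu => hu.1)
    (by
      intro hbot
      have : x ∈ K' := ⟨hxF, by rw [← hx, pow_orderOf_eq_one]⟩
      rw [hbot, Subgroup.mem_bot] at this
      rw [this, orderOf_one] at hx
      exact hp.one_lt.ne hx)
    (by
      intro h hh k hk
      exact ⟨hnorm h hh k hk.1, by rw [conj_pow, hk.2, mul_one, mul_inv_cancel]⟩)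
  intro u hu
  exact (hK2 hu).2

/-- Let a finite Zassenhaus group of degree `n + 1` have two-point stabilisers of order `d` with `2d ≥ n - 1`. Then a normal subgroup of a point stabiliser acting regularly on the remaining points is elementary abelian, and the degree is a prime power plus one. -/
theorem result {G Ω : Type*} [Group G] [Finite G] [MulAction G Ω] [Fintype Ω] (hZ : Cfsg.IsZassenhausGroup G Ω) {a b : Ω} (hab : a ≠ b) (hd : Fintype.card Ω - 2 ≤ 2 * Nat.card ↥(MulAction.stabilizer G a ⊓ MulAction.stabilizer G b)) (F : Subgroup G) (hFle : F ≤ MulAction.stabilizer G a) (hFn : (F.subgroupOf (MulAction.stabilizer G a)).Normal) (hreg : ∀ y z : Ω, y ≠ a → z ≠ a → ∃! u : F, (u : G) • y = z) : IsMulCommutative F ∧ ∃ p f : ℕ, p.Prime ∧ (∀ u ∈ F, u ^ p = 1) ∧ Fintype.card Ω = p ^ f + 1 := by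
  classical
  obtain ⟨hfaith, h2t, h3, hex, hnoreg⟩ := hZ
  have hub : ∀ u ∈ F, u • b ≠ a := by
    intro u hu h
    have h1 : u • a = a := hFle hu
    rw [← h1] at h
    exact hab (MulAction.injective u h).symm
  have hcardF : Nat.card F = Fintype.card Ω - 1 := by
    have hbij : Function.Bijective (fun u : F => (⟨(u : G) • b, hub u.1 u.2⟩ : {z // z ≠ a})) := by
      constructor
      · intro u v huv
        have h1 : (u : G) • b = (v : G) • b := congrArg Subtype.val huv
        obtain ⟨w, -, hw⟩ := hreg b ((v : G) • b) hab.symm (hub v.1 v.2)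
        rw [hw u h1, hw v rfl]
      · intro z
        obtain ⟨w, hw, -⟩ := hreg b z.1 hab.symm z.2
        exact ⟨w, Subtype.ext hw⟩
    rw [Nat.card_congr (Equiv.ofBijective _ hbij), Nat.card_eq_fintype_card]
    exact Set.card_ne_eq a
  have hE := elemAb F (MulAction.stabilizer G a ⊓ MulAction.stabilizer G b)
    (by
      intro h hh u hu
      have := hFn.conj_mem ⟨u, hFle hu⟩ (Subgroup.mem_subgroupOf.2 hu) ⟨h, hh.1⟩
      exact Subgroup.mem_subgroupOf.1 this)
    (by
      intro h hh u hu hu1 hconj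
      have ha : h • a = a := hh.1
      have hb : h • b = b := hh.2
      apply h3 h a b (u • b) hab
      · intro h1
        obtain ⟨w, -, hw⟩ := hreg b b hab.symm hab.symm
        have e1 := hw ⟨u, hu⟩ h1.symm
        have e2 := hw 1 (one_smul _ _)
        apply hu1
        have := congrArg Subtype.val (e1.trans e2.symm)
        exact this
      · exact (hub u hu).symm
      · exact ha
      · exact hb
      · have : h • u • b = (h * u * h⁻¹) • h • b := by
          simp [mul_smul]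
        rw [this, hconj, hb])
    (by
      rw [hcardF]
      exact hd)
  obtain ⟨hcomm, p, hp, hpow⟩ := hE
  refine ⟨⟨⟨fun u v => Subtype.ext (hcomm u.1 u.2 v.1 v.2)⟩⟩, p, ?_⟩
  haveI : Fact p.Prime := ⟨hp⟩
  have hPG : IsPGroup p F := by
    intro u
    refine ⟨1, ?_⟩
    apply Subtype.ext
    rw [pow_one]
    exact hpow u.1 u.2
  obtain ⟨f, hf⟩ := IsPGroup.iff_card.1 hPG
  refine ⟨f, hp, hpow, ?_⟩
  have : 1 ≤ Nat.card F := Nat.card_pos
  omega

end Cfsg.Agent.S0738
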