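import Cfsg.Statements.S0394
import Cfsg.Agent.Lib.Helper92.MinVec
import Cfsg.Agent.Lib.Helper7.GolayCount

set_option autoImplicit false
open Cfsg

namespace Cfsg.Agent.S0394

open Cfsg.Agent.Lib.Helper92.LeechCore Cfsg.Agent.Lib.Helper92.MinVec
open Cfsg.Agent.Lib.Helper7.GolayCount

/-- Number of even subsets of an 8-set. -/
theorem card_even_subsets (O : Finset GolayPt) (h : O.card = 8) :
    (O.powerset.filter (fun e => Even e.card)).card = 128 := by
  have hne : O.Nonempty := by
    rw [← Finset.card_pos, h]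
    norm_num
  have h1 : ∑ e ∈ O.powerset, (-1 : ℤ) ^ e.card = 0 :=
    Finset.sum_powerset_neg_one_pow_card_of_nonempty hne
  rw [← Finset.sum_filter_add_sum_filter_not O.powerset (fun e => Even e.card)] at h1
  have h2 : ∑ e ∈ O.powerset.filter (fun e => Even e.card), (-1 : ℤ) ^ e.card
      = ((O.powerset.filter (fun e => Even e.card)).card : ℤ) := by
    rw [Finset.sum_congr rfl (g := fun _ => (1 : ℤ))]
    · simp
    · intro e he
      exact Even.neg_one_pow (Finset.mem_filter.mp he).2
  have h3 : ∑ e ∈ O.powerset.filter (fun e => ¬ Even e.card), (-1 : ℤ) ^ e.card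
      = -((O.powerset.filter (fun e => ¬ Even e.card)).card : ℤ) := by
    rw [Finset.sum_congr rfl (g := fun _ => (-1 : ℤ))]
    · simp
    · intro e he
      exact Odd.neg_one_pow (Nat.not_even_iff_odd.mp (Finset.mem_filter.mp he).2)
  rw [h2, h3] at h1
  have h4 := Finset.card_filter_add_card_filter_not (s := O.powerset) (fun e => Even e.card)
  rw [Finset.card_powerset, h] at h4
  omega

theorem shape_inj {a : ℤ} (ha : 0 < a) {p e p' e' : Finset GolayPt} (he : e ⊆ p) (he' : e' ⊆ p')
    (h : shape a p e = shape a p' e') : p = p' ∧ e = e' := by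
  have hneg : ∀ (p e : Finset GolayPt), e ⊆ p → ∀ i, i ∈ e ↔ shape a p e i < 0 := by
    intro p e _ i
    unfold shape
    by_cases h1 : i ∈ e
    · simp only [h1, if_true, true_iff]
      linarith
    · by_cases h2 : i ∈ p
      · simp only [h1, h2, if_true, if_false, false_iff]
        linarith
      · simp [h1, h2]
  have hsupp : ∀ (p e : Finset GolayPt), e ⊆ p → ∀ i, i ∈ p ↔ shape a p e i ≠ 0 := by
    intro p e hep i
    unfold shape
    by_cases h1 : i ∈ e
    · have := hep h1
      simp only [h1, this, if_true, true_iff]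
      intro h0
      linarith
    · by_cases h2 : i ∈ p
      · simp only [h1, h2, if_true, if_false, true_iff]
        intro h0
        linarith
      · simp [h1, h2]
  constructor
  · ext i
    rw [hsupp p e he, hsupp p' e' he', h]
  · ext i
    rw [hneg p e he, hneg p' e' he', h]

theorem vec3_inj {c c' : Finset GolayPt} {j j' : GolayPt}
    (h : tw c (w3 j) = tw c' (w3 j')) : c = c' ∧ j = j' := by
  have hc : ∀ (c : Finset GolayPt) (j i : GolayPt), i ∈ c ↔ tw c (w3 j) i % 4 = 3 := by
    intro c j i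
    have := w3_mod j i
    unfold tw
    by_cases hi : i ∈ c
    · simp only [hi, if_true, true_iff]
      omega
    · simp only [hi, if_false, false_iff]
      omega
  have hcc : c = c' := by
    ext i
    rw [hc c j i, hc c' j' i, h]
  subst hcc
  refine ⟨rfl, ?_⟩
  have h2 : w3 j = w3 j' := by
    rw [← tw_tw c (w3 j), h, tw_tw]
  by_contra hne
  have := congrFun h2 j
  unfold w3 at this
  rw [if_pos rfl, if_neg hne] at this
  norm_num at this

/-- The finset of octads. -/
noncomputable def octF : Finset (Finset GolayPt) := (Set.toFinite octads).toFinset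

/-- The finset of code-word supports. -/
noncomputable def cwF : Finset (Finset GolayPt) :=
  (Set.toFinite (supports (golayCode : Set (GolayPt → ZMod 2)))).toFinset

theorem mem_octF {O : Finset GolayPt} : O ∈ octF ↔ IsCW O ∧ O.card = 8 := by
  unfold octF
  rw [Set.Finite.mem_toFinset]
  rfl

theorem mem_cwF {c : Finset GolayPt} : c ∈ cwF ↔ IsCW c := by
  unfold cwF
  rw [Set.Finite.mem_toFinset]

theorem card_octF : octF.card = 759 := by
  unfold octF
  rw [← Set.ncard_eq_toFinset_card, ncard_octads]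

theorem support₂_inj : Function.Injective (support₂ : (GolayPt → ZMod 2) → Finset GolayPt) := by
  intro w₁ w₂ h
  funext a
  have h1 : a ∈ support₂ w₁ ↔ a ∈ support₂ w₂ := by rw [h]
  unfold support₂ at h1
  rw [Finset.mem_filter, Finset.mem_filter] at h1
  simp only [Finset.mem_univ, true_and] at h1
  have hz : ∀ z : ZMod 2, z = 0 ∨ z = 1 := by decide
  rcases hz (w₁ a) with e1 | e1 <;> rcases hz (w₂ a) with e2 | e2
  · rw [e1, e2]
  · rw [e1, e2] at h1
    simp at h1
  · rw [e1, e2] at h1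
    simp at h1
  · rw [e1, e2]

theorem card_cwF : cwF.card = 4096 := by
  unfold cwF
  rw [← Set.ncard_eq_toFinset_card]
  unfold supports
  rw [Set.ncard_image_of_injective _ support₂_inj, ncard_golayCode]

/-- Parameters of the first family. -/
@[irreducible] noncomputable def PA : Finset (Σ _ : Finset GolayPt, Finset GolayPt) :=
  ((Finset.univ : Finset GolayPt).powersetCard 2).sigma (fun p => p.powerset)

/-- Parameters of the second family. -/
@[irreducible] noncomputable def PB : Finset (Σ _ : Finset GolayPt, Finset GolayPt) :=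
  octF.sigma (fun O => O.powerset.filter (fun e => Even e.card))

/-- Parameters of the third family. -/
@[irreducible] noncomputable def PC : Finset (Finset GolayPt × GolayPt) := cwF ×ˢ Finset.univ

theorem card_PA : PA.card = 1104 := by
  unfold PA
  rw [Finset.card_sigma]
  have : ∀ p ∈ (Finset.univ : Finset GolayPt).powersetCard 2, p.powerset.card = 4 := by
    intro p hp
    rw [Finset.card_powerset, (Finset.mem_powersetCard.mp hp).2]
    norm_num
  rw [Finset.sum_congr rfl this, Finset.sum_const, Finset.card_powersetCard, Finset.card_univ,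
    card_golayPt]
  decide

theorem card_PB : PB.card = 97152 := by
  unfold PB
  rw [Finset.card_sigma]
  have : ∀ O ∈ octF, (O.powerset.filter (fun e => Even e.card)).card = 128 :=
    fun O hO => card_even_subsets O (mem_octF.mp hO).2
  rw [Finset.sum_congr rfl this, Finset.sum_const, card_octF]
  rfl

theorem card_PC : PC.card = 98304 := by
  unfold PC
  rw [Finset.card_product, card_cwF, Finset.card_univ, card_golayPt]

open Classical in
/-- The three families. -/
noncomputable def FA : Finset (GolayPt → ℤ) := PA.image (fun x => shape 4 x.1 x.2)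

open Classical in
noncomputable def FB : Finset (GolayPt → ℤ) := PB.image (fun x => shape 2 x.1 x.2)

open Classical in
noncomputable def FC : Finset (GolayPt → ℤ) := PC.image (fun x => tw x.1 (w3 x.2))

theorem mem_PA {x : Σ _ : Finset GolayPt, Finset GolayPt} :
    x ∈ PA ↔ x.1.card = 2 ∧ x.2 ⊆ x.1 := by
  unfold PA
  rw [Finset.mem_sigma, Finset.mem_powersetCard, Finset.mem_powerset]
  simp

theorem mem_PB {x : Σ _ : Finset GolayPt, Finset GolayPt} :
    x ∈ PB ↔ (IsCW x.1 ∧ x.1.card = 8) ∧ x.2 ⊆ x.1 ∧ Even x.2.card := by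
  unfold PB
  rw [Finset.mem_sigma, Finset.mem_filter, Finset.mem_powerset, mem_octF]

theorem mem_PC {x : Finset GolayPt × GolayPt} : x ∈ PC ↔ IsCW x.1 := by
  unfold PC
  rw [Finset.mem_product, mem_cwF]
  simp

theorem card_FA : FA.card = 1104 := by
  unfold FA
  rw [Finset.card_image_of_injOn, card_PA]
  rintro ⟨p, e⟩ hx ⟨p', e'⟩ hx' h
  have h1 := mem_PA.mp hx
  have h2 := mem_PA.mp hx'
  obtain ⟨rfl, rfl⟩ := shape_inj (by norm_num) h1.2 h2.2 h
  rfl

theorem card_FB : FB.card = 97152 := by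
  unfold FB
  rw [Finset.card_image_of_injOn, card_PB]
  rintro ⟨p, e⟩ hx ⟨p', e'⟩ hx' h
  have h1 := mem_PB.mp hx
  have h2 := mem_PB.mp hx'
  obtain ⟨rfl, rfl⟩ := shape_inj (by norm_num) h1.2.1 h2.2.1 h
  rfl

theorem card_FC : FC.card = 98304 := by
  unfold FC
  rw [Finset.card_image_of_injOn, card_PC]
  rintro ⟨c, j⟩ _ ⟨c', j'⟩ _ h
  obtain ⟨rfl, rfl⟩ := vec3_inj h
  rfl

theorem mem_FA {x : GolayPt → ℤ} :
    x ∈ FA ↔ ∃ p e : Finset GolayPt, p.card = 2 ∧ e ⊆ p ∧ x = shape 4 p e := by
  unfold FA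
  rw [Finset.mem_image]
  constructor
  · rintro ⟨⟨p, e⟩, hx, rfl⟩
    have := mem_PA.mp hx
    exact ⟨p, e, this.1, this.2, rfl⟩
  · rintro ⟨p, e, hp, he, rfl⟩
    exact ⟨⟨p, e⟩, mem_PA.mpr ⟨hp, he⟩, rfl⟩

theorem mem_FB {x : GolayPt → ℤ} :
    x ∈ FB ↔ ∃ O e : Finset GolayPt, IsCW O ∧ O.card = 8 ∧ e ⊆ O ∧ Even e.card ∧ x = shape 2 O e := by
  unfold FB
  rw [Finset.mem_image]
  constructor
  · rintro ⟨⟨p, e⟩, hx, rfl⟩
    have := mem_PB.mp hx
    exact ⟨p, e, this.1.1, this.1.2, this.2.1, this.2.2, rfl⟩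
  · rintro ⟨p, e, hp, hp8, he, hev, rfl⟩
    exact ⟨⟨p, e⟩, mem_PB.mpr ⟨⟨hp, hp8⟩, he, hev⟩, rfl⟩

theorem mem_FC {x : GolayPt → ℤ} : x ∈ FC ↔ ∃ c j, IsCW c ∧ x = tw c (w3 j) := by
  unfold FC
  rw [Finset.mem_image]
  constructor
  · rintro ⟨⟨c, j⟩, hx, rfl⟩
    exact ⟨c, j, mem_PC.mp hx, rfl⟩
  · rintro ⟨c, j, hc, rfl⟩
    exact ⟨⟨c, j⟩, mem_PC.mpr hc, rfl⟩

theorem shape_even (a : ℤ) (ha : a % 2 = 0) (p e : Finset GolayPt) (i : GolayPt) :
    shape a p e i % 2 = 0 := by
  unfold shape
  split_ifs <;> omega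

theorem vec3_odd (c : Finset GolayPt) (j i : GolayPt) : tw c (w3 j) i % 2 = 1 := by
  have := w3_mod j i
  unfold tw
  split_ifs <;> omega

theorem disj_AB : Disjoint FA FB := by
  rw [Finset.disjoint_left]
  intro x hA hB
  obtain ⟨p, e, hp, he, rfl⟩ := mem_FA.mp hA
  obtain ⟨O, e', hO, hO8, he', hev, h⟩ := mem_FB.mp hB
  obtain ⟨i, hi⟩ : O.Nonempty := by
    rw [← Finset.card_pos, hO8]
    norm_num
  have h1 := congrFun h i
  have h2 : shape 4 p e i % 4 = 0 := by
    unfold shape
    split_ifs <;> decide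
  have h3 : shape 2 O e' i % 4 = 2 := by
    unfold shape
    simp only [hi, if_true]
    split_ifs <;> decide
  omega

theorem disj_AC : Disjoint FA FC := by
  rw [Finset.disjoint_left]
  intro x hA hC
  obtain ⟨p, e, hp, he, rfl⟩ := mem_FA.mp hA
  obtain ⟨c, j, hc, h⟩ := mem_FC.mp hC
  have h1 := congrFun h none
  have h2 := shape_even 4 (by decide) p e none
  have h3 := vec3_odd c j none
  omega

theorem disj_BC : Disjoint FB FC := by
  rw [Finset.disjoint_left]
  intro x hB hC
  obtain ⟨O, e', hO, hO8, he', hev, rfl⟩ := mem_FB.mp hB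
  obtain ⟨c, j, hc, h⟩ := mem_FC.mp hC
  have h1 := congrFun h none
  have h2 := shape_even 2 (by decide) O e' none
  have h3 := vec3_odd c j none
  omega

open Classical in
theorem set_eq : {x : GolayPt → ℤ | x ∈ leechLattice ∧ sqNorm x = 32}
    = ((FA ∪ FB ∪ FC : Finset (GolayPt → ℤ)) : Set (GolayPt → ℤ)) := by
  ext x
  simp only [Set.mem_ofPred_eq, Finset.coe_union, Set.mem_union, Finset.mem_coe]
  constructor
  · rintro ⟨hx, hn⟩
    rcases classify32 hx hn with h | h | h
    · exact Or.inl (Or.inl (mem_FA.mpr h))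
    · exact Or.inl (Or.inr (mem_FB.mpr h))
    · exact Or.inr (mem_FC.mpr h)
  · rintro ((h | h) | h)
    · obtain ⟨p, e, hp, he, rfl⟩ := mem_FA.mp h
      refine ⟨shape4_mem hp he, ?_⟩
      rw [sqNorm_shape 4 he, hp]
      norm_num
    · obtain ⟨O, e, hO, hO8, he, hev, rfl⟩ := mem_FB.mp h
      refine ⟨shape2_mem hO he hev, ?_⟩
      rw [sqNorm_shape 2 he, hO8]
      norm_num
    · obtain ⟨c, j, hc, rfl⟩ := mem_FC.mp h
      refine ⟨vec3_mem hc j, ?_⟩
      rw [sqNorm_tw, sqNorm_w3]

/-- Exactly 196560 lattice vectors have sum of squares 32. -/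
theorem result : {x : Cfsg.GolayPt → ℤ | x ∈ Cfsg.leechLattice ∧ Cfsg.sqNorm x = 32}.ncard = 196560 := by
  classical
  rw [set_eq, Set.ncard_coe_finset, Finset.card_union_of_disjoint, Finset.card_union_of_disjoint disj_AB,
    card_FA, card_FB, card_FC]
  rw [Finset.disjoint_union_left]
  exact ⟨disj_AC, disj_BC⟩

end Cfsg.Agent.S0394
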