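import Cfsg.Statements.S1567
import Cfsg.Agent.Lib.Helper92.LeechGen

set_option autoImplicit false
open Cfsg

namespace Cfsg.Agent.S1567

open Cfsg.Agent.Lib.Helper92.LeechCore Cfsg.Agent.Lib.Helper92.MinVec
open Cfsg.Agent.Lib.Helper92.LeechGen
open Cfsg.Agent.Lib.Helper7.GolayBase Cfsg.Agent.Lib.Helper7.GolayCode

theorem echelon_popc : ∀ o ∈ echelon, popc o = 8 := by decide +kernel

theorem single_sub_eq (i : GolayPt) (hi : i ≠ none) :
    (Pi.single i 4 - Pi.single none 4 : GolayPt → ℤ) = shape 4 {i, none} {none} := by
  funext k
  simp only [Pi.sub_apply, Pi.single_apply, shape, Finset.mem_singleton, Finset.mem_insert]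
  by_cases h1 : k = none
  · subst h1
    simp [Ne.symm hi]
  · by_cases h2 : k = i
    · subst h2
      simp [h1]
    · simp [h1, h2]

theorem single8_eq : (Pi.single none 8 : GolayPt → ℤ)
    = shape 4 {none, some 0} ∅ + shape 4 {none, some 0} {some 0} := by
  funext k
  simp only [Pi.add_apply, Pi.single_apply, shape, Finset.mem_singleton, Finset.mem_insert,
    Finset.notMem_empty, if_false]
  by_cases h1 : k = none
  · subst h1
    simp
  · by_cases h2 : k = some 0
    · subst h2
      simp
    · simp [h1, h2]

/-- The rank-24 lattice is the additive subgroup generated by its 196560 minimal vectors. -/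
theorem result : AddSubgroup.closure {x : Cfsg.GolayPt → ℤ | x ∈ Cfsg.leechLattice ∧ Cfsg.sqNorm x = 32} = Cfsg.leechLattice := by
  apply le_antisymm
  · rw [AddSubgroup.closure_le]
    exact fun x hx => hx.1
  · apply gen_le
    · intro i
      by_cases hi : i = none
      · rw [hi, sub_self]
        exact AddSubgroup.zero_mem _
      · rw [single_sub_eq i hi]
        have hp : ({i, none} : Finset GolayPt).card = 2 := Finset.card_pair hi
        have he : ({none} : Finset GolayPt) ⊆ {i, none} := by
          intro k hk
          rw [Finset.mem_singleton] at hk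
          rw [hk]
          simp
        apply AddSubgroup.subset_closure
        refine ⟨shape4_mem hp he, ?_⟩
        rw [sqNorm_shape 4 he, hp]
        norm_num
    · rw [single8_eq]
      have hp : ({none, some 0} : Finset GolayPt).card = 2 := Finset.card_pair (by simp)
      have he : ({some 0} : Finset GolayPt) ⊆ {none, some 0} := by
        intro k hk
        rw [Finset.mem_singleton] at hk
        rw [hk]
        simp
      apply AddSubgroup.add_mem
      · apply AddSubgroup.subset_closure
        refine ⟨shape4_mem hp (Finset.empty_subset _), ?_⟩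
        rw [sqNorm_shape 4 (Finset.empty_subset _), hp]
        norm_num
      · apply AddSubgroup.subset_closure
        refine ⟨shape4_mem hp he, ?_⟩
        rw [sqNorm_shape 4 he, hp]
        norm_num
    · intro o ho
      apply AddSubgroup.subset_closure
      refine ⟨ind2_mem (mk_mem_supports (echelon_mem_codeList o ho)), ?_⟩
      rw [ind2_eq_shape, sqNorm_shape 2 (Finset.empty_subset _), card_mk, echelon_popc o ho]
      norm_num
    · apply AddSubgroup.subset_closure
      exact ⟨w3_mem none, sqNorm_w3 none⟩

end Cfsg.Agent.S1567
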