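import Cfsg.Statements.S5546

set_option autoImplicit false
open Cfsg

namespace Cfsg.Agent.S5546

open Cfsg.Spor

/-- The vector `8 e_p`. -/
def evec (p : GolayPt) : GolayPt → ℤ := fun q => if q = p then 8 else 0

theorem evec_mem (p : GolayPt) : evec p ∈ leechLattice := by
  apply AddSubgroup.subset_closure
  apply mem_leechSet_of_const_mod_four (evec p) 0 0 (by decide)
  · intro i
    unfold evec
    split_ifs <;> decide
  · have : ∑ i, evec p i = 8 := by
      unfold evec
      simp
    rw [this]
    decide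

/-- `8 e_p` as a lattice element. -/
def elat (p : GolayPt) : leechLattice := ⟨evec p, evec_mem p⟩

/-- The vector `4 e_p + s 4 e_q`. -/
def mvec (s : ℤ) (p q : GolayPt) : GolayPt → ℤ :=
  fun r => (if r = p then 4 else 0) + s * (if r = q then 4 else 0)

theorem mvec_mem (s : ℤ) (hs : s = 1 ∨ s = -1) (p q : GolayPt) (hpq : p ≠ q) :
    mvec s p q ∈ leechLattice := by
  apply AddSubgroup.subset_closure
  apply mem_leechSet_of_const_mod_four (mvec s p q) 0 0 (by decide)
  · intro i
    unfold mvec
    rcases hs with rfl | rfl <;> split_ifs <;> decide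
  · have : ∑ i, mvec s p q i = 4 + s * 4 := by
      unfold mvec
      rw [Finset.sum_add_distrib, ← Finset.mul_sum]
      simp
    rw [this]
    rcases hs with rfl | rfl <;> decide

theorem mvec_sq (s : ℤ) (hs : s = 1 ∨ s = -1) (p q : GolayPt) (hpq : p ≠ q) :
    sqNorm (mvec s p q) = 32 := by
  have h : ∀ r : GolayPt, mvec s p q r ^ 2 = (if r = p then 16 else 0) + (if r = q then 16 else 0) := by
    intro r
    unfold mvec
    by_cases h1 : r = p
    · subst h1
      simp [hpq]
    · by_cases h2 : r = q
      · subst h2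
        simp [h1]
        rcases hs with rfl | rfl <;> norm_num
      · simp [h1, h2]
  unfold sqNorm
  simp only [h]
  rw [Finset.sum_add_distrib]
  simp

theorem evec_eq (p q : GolayPt) (hpq : p ≠ q) : evec p = mvec 1 p q + mvec (-1) p q := by
  funext r
  unfold evec mvec
  simp only [Pi.add_apply]
  split_ifs <;> simp

theorem sqNorm_add (x y : GolayPt → ℤ) :
    sqNorm (x + y) = sqNorm x + 2 * dotInt x y + sqNorm y := by
  unfold sqNorm dotInt
  rw [Finset.mul_sum, ← Finset.sum_add_distrib, ← Finset.sum_add_distrib]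
  apply Finset.sum_congr rfl
  intro i _
  simp only [Pi.add_apply]
  ring

theorem sqNorm_sub_le (x y : GolayPt → ℤ) : sqNorm (x - y) ≤ 2 * sqNorm x + 2 * sqNorm y := by
  unfold sqNorm
  rw [Finset.mul_sum, Finset.mul_sum, ← Finset.sum_add_distrib]
  apply Finset.sum_le_sum
  intro i _
  simp only [Pi.sub_apply]
  nlinarith [sq_nonneg (x i + y i)]

theorem coord_sq_le (x : GolayPt → ℤ) (p : GolayPt) : x p ^ 2 ≤ sqNorm x := by
  unfold sqNorm
  exact Finset.single_le_sum (f := fun i => x i ^ 2) (fun i _ => sq_nonneg (x i)) (Finset.mem_univ p)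

theorem dot_sub (x y u : GolayPt → ℤ) : dotInt (x - y) u = dotInt x u - dotInt y u := by
  unfold dotInt
  rw [← Finset.sum_sub_distrib]
  apply Finset.sum_congr rfl
  intro i _
  simp only [Pi.sub_apply]
  ring

theorem dot_vecU (d : GolayPt → ℤ) : dotInt d vecU = 4 * d none + 4 * d (some 0) := by
  unfold dotInt vecU
  rw [Fintype.sum_option]
  simp
  ring

theorem dot_inv (f : Equiv.Perm leechLattice) (hf : f ∈ Co0) (v w : leechLattice) :
    dotInt ((f v : leechLattice) : GolayPt → ℤ) ((f w : leechLattice) : GolayPt → ℤ)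
      = dotInt (v : GolayPt → ℤ) (w : GolayPt → ℤ) := by
  have h1 := hf.2 (v + w)
  rw [hf.1] at h1
  rw [AddSubgroup.coe_add, AddSubgroup.coe_add, sqNorm_add, sqNorm_add, hf.2 v, hf.2 w] at h1
  linarith

/-- The additive map underlying a lattice automorphism. -/
def addHom (f : Equiv.Perm leechLattice) (hf : f ∈ Co0) : leechLattice →+ leechLattice :=
  AddMonoidHom.mk' f hf.1

theorem addHom_apply (f : Equiv.Perm leechLattice) (hf : f ∈ Co0) (v : leechLattice) :
    addHom f hf v = f v := rfl

/-- Reduction mod 13 followed by the projection killing `e_none + e_0`. -/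
def proj (x : GolayPt → ℤ) : ZMod 23 → ZMod 13 :=
  fun j => (x (some j) : ZMod 13) - (if j = 0 then (x none : ZMod 13) else 0)

/-- `proj` as an additive map. -/
def projHom : (GolayPt → ℤ) →+ (ZMod 23 → ZMod 13) :=
  AddMonoidHom.mk' proj (by
    intro a b
    funext j
    simp only [proj, Pi.add_apply, Int.cast_add]
    split_ifs <;> ring)

theorem projHom_apply (x : GolayPt → ℤ) : projHom x = proj x := rfl

theorem proj_vecU : proj vecU = 0 := by
  funext j
  unfold proj vecU
  by_cases hj : j = 0
  · simp [hj]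
  · simp [hj]

/-- The 23 by 23 matrix of a lattice automorphism. -/
def N (f : Equiv.Perm leechLattice) : Matrix (ZMod 23) (ZMod 23) (ZMod 13) :=
  fun j i => 5 * proj ((f (elat (some i)) : leechLattice) : GolayPt → ℤ) j

theorem decomp8 (v : GolayPt → ℤ) :
    (8 : ℤ) • v = ∑ i : ZMod 23, (v (some i) - (if i = 0 then v none else 0)) • evec (some i)
      + (2 * v none) • vecU := by
  funext p
  rcases p with _ | j
  · simp [evec, vecU, Finset.sum_apply]
    ring
  · by_cases hj : j = 0
    · simp [evec, vecU, Finset.sum_apply, hj]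
      ring
    · simp [evec, vecU, Finset.sum_apply, hj]
      ring

theorem decomp8_lat (v : leechLattice) :
    (8 : ℤ) • v = ∑ i : ZMod 23, ((v : GolayPt → ℤ) (some i)
        - (if i = 0 then (v : GolayPt → ℤ) none else 0)) • elat (some i)
      + (2 * (v : GolayPt → ℤ) none) • leechU := by
  apply Subtype.ext
  rw [AddSubgroup.coe_add, AddSubgroup.coe_zsmul, AddSubgroup.coe_zsmul, AddSubgroup.val_finsetSum]
  simp only [AddSubgroup.coe_zsmul]
  exact decomp8 v

theorem decomp8' (v : GolayPt → ℤ) : (8 : ℤ) • v = ∑ p : GolayPt, v p • evec p := by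
  funext q
  simp [evec, Finset.sum_apply]
  ring

theorem decomp8'_lat (v : leechLattice) :
    (8 : ℤ) • v = ∑ p : GolayPt, (v : GolayPt → ℤ) p • elat p := by
  apply Subtype.ext
  rw [AddSubgroup.coe_zsmul, AddSubgroup.val_finsetSum]
  simp only [AddSubgroup.coe_zsmul]
  exact decomp8' v

theorem stab_apply (f : Equiv.Perm leechLattice) (hf : f ∈ Co2) : f leechU = leechU := by
  have h : f ∈ MulAction.stabilizer (Equiv.Perm leechLattice) leechU := hf.2
  exact MulAction.mem_stabilizer_iff.mp h

theorem proj_apply (f : Equiv.Perm leechLattice) (hf : f ∈ Co2) (v : leechLattice) :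
    proj ((f v : leechLattice) : GolayPt → ℤ) = (N f).mulVec (proj (v : GolayPt → ℤ)) := by
  have hf0 : f ∈ Co0 := hf.1
  have hfu : f leechU = leechU := stab_apply f hf
  have h8 := congrArg (addHom f hf0) (decomp8_lat v)
  simp only [map_add, map_zsmul, map_sum, addHom_apply, hfu] at h8
  have h9 := congrArg (fun x : leechLattice => projHom (x : GolayPt → ℤ)) h8
  simp only [AddSubgroup.coe_add, AddSubgroup.coe_zsmul, AddSubgroup.val_finsetSum, map_add,
    map_zsmul, map_sum, projHom_apply] at h9
  have hU : ((leechU : leechLattice) : GolayPt → ℤ) = vecU := rfl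
  rw [hU, proj_vecU, smul_zero, add_zero] at h9
  funext j
  have h10 := congrFun h9 j
  simp only [Pi.smul_apply, Finset.sum_apply] at h10
  simp only [zsmul_eq_mul] at h10
  have h11 : proj ((f v : leechLattice) : GolayPt → ℤ) j
      = 5 * ((8 : ℤ) : ZMod 13) * proj ((f v : leechLattice) : GolayPt → ℤ) j := by
    have : (5 : ZMod 13) * ((8 : ℤ) : ZMod 13) = 1 := by decide
    rw [this, one_mul]
  rw [h11, mul_assoc, h10, Finset.mul_sum]
  unfold Matrix.mulVec dotProduct
  apply Finset.sum_congr rfl
  intro i _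
  have hci : (((v : GolayPt → ℤ) (some i) - (if i = 0 then (v : GolayPt → ℤ) none else 0) : ℤ) : ZMod 13)
      = proj (v : GolayPt → ℤ) i := by
    unfold proj
    push_cast
    split_ifs <;> simp
  rw [hci]
  unfold N
  ring

theorem N_one : N 1 = 1 := by
  funext j i
  unfold N proj elat evec
  simp only [Equiv.Perm.coe_one, id_eq]
  by_cases hji : j = i
  · subst hji
    simp
    decide
  · simp [hji, Matrix.one_apply_ne hji]

theorem N_mul (f g : Equiv.Perm leechLattice) (hf : f ∈ Co2) (hg : g ∈ Co2) :
    N (f * g) = N f * N g := by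
  funext j i
  have h1 : N (f * g) j i = 5 * proj ((f (g (elat (some i))) : leechLattice) : GolayPt → ℤ) j := rfl
  rw [h1, proj_apply f hf, Matrix.mul_apply]
  unfold Matrix.mulVec dotProduct
  rw [Finset.mul_sum]
  apply Finset.sum_congr rfl
  intro k _
  have h2 : N g k i = 5 * proj ((g (elat (some i)) : leechLattice) : GolayPt → ℤ) k := rfl
  rw [h2]
  ring

theorem small_zero (x : ℤ) (h13 : (13 : ℤ) ∣ x) (hx : x ^ 2 ≤ 168) : x = 0 := by
  obtain ⟨k, rfl⟩ := h13
  by_contra hne
  have hk : k ≠ 0 := by
    intro h; apply hne; rw [h]; ring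
  have hk2 : 1 ≤ k ^ 2 := by
    have := sq_nonneg k
    have h0 : k ^ 2 ≠ 0 := pow_ne_zero 2 hk
    omega
  nlinarith

theorem faithful (f : Equiv.Perm leechLattice) (hf : f ∈ Co2) (hN : N f = 1) : f = 1 := by
  have hf0 : f ∈ Co0 := hf.1
  have hfu : f leechU = leechU := stab_apply f hf
  have hproj : ∀ v : leechLattice,
      proj ((f v : leechLattice) : GolayPt → ℤ) = proj (v : GolayPt → ℤ) := by
    intro v
    rw [proj_apply f hf, hN, Matrix.one_mulVec]
  have short : ∀ v : leechLattice, sqNorm (v : GolayPt → ℤ) ≤ 42 → f v = v := by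
    intro v hv
    obtain ⟨d, hd⟩ : ∃ d : GolayPt → ℤ, d = ((f v : leechLattice) : GolayPt → ℤ) - (v : GolayPt → ℤ) :=
      ⟨_, rfl⟩
    have hnorm : sqNorm d ≤ 168 := by
      have := sqNorm_sub_le ((f v : leechLattice) : GolayPt → ℤ) (v : GolayPt → ℤ)
      rw [← hd, hf0.2 v] at this
      linarith
    have hc : ∀ p, d p ^ 2 ≤ 168 := fun p => le_trans (coord_sq_le d p) hnorm
    have hp := hproj v
    have hd1 : ∀ j : ZMod 23, j ≠ 0 → d (some j) = 0 := by
      intro j hj
      apply small_zero _ _ (hc _)
      have := congrFun hp j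
      unfold proj at this
      simp only [hj, if_false, sub_zero] at this
      rw [hd, Pi.sub_apply]
      have h := (ZMod.intCast_zmod_eq_zero_iff_dvd
        (((f v : leechLattice) : GolayPt → ℤ) (some j) - (v : GolayPt → ℤ) (some j)) 13).mp
        (by rw [Int.cast_sub, this, sub_self])
      exact_mod_cast h
    have hd2 : (13 : ℤ) ∣ d (some 0) - d none := by
      have := congrFun hp 0
      unfold proj at this
      simp only [if_true] at this
      rw [hd, Pi.sub_apply, Pi.sub_apply]
      have h := (ZMod.intCast_zmod_eq_zero_iff_dvd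
        (((f v : leechLattice) : GolayPt → ℤ) (some 0) - (v : GolayPt → ℤ) (some 0)
          - (((f v : leechLattice) : GolayPt → ℤ) none - (v : GolayPt → ℤ) none)) 13).mp
        (by push_cast; linear_combination this)
      exact_mod_cast h
    have hdot : dotInt d vecU = 0 := by
      have := dot_inv f hf0 v leechU
      rw [hfu] at this
      have hU : ((leechU : leechLattice) : GolayPt → ℤ) = vecU := rfl
      rw [hU] at this
      rw [hd, dot_sub, this, sub_self]
    rw [dot_vecU] at hdot
    have hd3 : d none = 0 := by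
      apply small_zero _ _ (hc _)
      have h2 : (13 : ℤ) ∣ 2 * d none := by
        have : 2 * d none = -(d (some 0) - d none) := by linarith
        rw [this]
        exact (dvd_neg).mpr hd2
      exact (IsCoprime.dvd_of_dvd_mul_left (by decide : IsCoprime (13 : ℤ) 2) h2)
    have hd4 : d (some 0) = 0 := by linarith
    have hd0 : d = 0 := by
      funext p
      rcases p with _ | j
      · exact hd3
      · by_cases hj : j = 0
        · rw [hj]; exact hd4
        · exact hd1 j hj
    apply Subtype.ext
    have := sub_eq_zero.mp (hd.symm.trans hd0)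
    exact this
  have hE : ∀ p : GolayPt, f (elat p) = elat p := by
    intro p
    obtain ⟨q, hpq⟩ : ∃ q : GolayPt, p ≠ q := by
      rcases p with _ | j
      · exact ⟨some 0, by simp⟩
      · exact ⟨none, by simp⟩
    have h1 := short ⟨mvec 1 p q, mvec_mem 1 (Or.inl rfl) p q hpq⟩
      (by rw [mvec_sq 1 (Or.inl rfl) p q hpq]; norm_num)
    have h2 := short ⟨mvec (-1) p q, mvec_mem (-1) (Or.inr rfl) p q hpq⟩
      (by rw [mvec_sq (-1) (Or.inr rfl) p q hpq]; norm_num)
    have h3 : elat p = ⟨mvec 1 p q, mvec_mem 1 (Or.inl rfl) p q hpq⟩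
        + ⟨mvec (-1) p q, mvec_mem (-1) (Or.inr rfl) p q hpq⟩ := by
      apply Subtype.ext
      exact evec_eq p q hpq
    rw [h3, hf0.1, h1, h2]
  apply Equiv.ext
  intro v
  have h8 := congrArg (addHom f hf0) (decomp8'_lat v)
  simp only [map_zsmul, map_sum, addHom_apply, hE] at h8
  rw [← decomp8'_lat v] at h8
  have h9 : (8 : ℤ) • ((f v : leechLattice) : GolayPt → ℤ) = (8 : ℤ) • (v : GolayPt → ℤ) := by
    rw [← AddSubgroup.coe_zsmul, h8, AddSubgroup.coe_zsmul]
  apply Subtype.ext
  funext p
  have h10 := congrFun h9 p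
  simp only [Pi.smul_apply, smul_eq_mul] at h10
  show ((f v : leechLattice) : GolayPt → ℤ) p = (v : GolayPt → ℤ) p
  linarith

/-- Co₂ embeds in GL₂₃(13). -/
theorem result : ∃ f : ↥Cfsg.Spor.Co2 →* GL (Fin 23) (ZMod 13), Function.Injective f := by
  let e : Fin 23 ≃ ZMod 23 := (ZMod.finEquiv 23).toEquiv
  let φ : ↥Co2 →* Matrix (Fin 23) (Fin 23) (ZMod 13) :=
    { toFun := fun g => (N g.1).submatrix e e
      map_one' := by
        rw [show ((1 : ↥Co2).1) = 1 from rfl, N_one, Matrix.submatrix_one_equiv]
      map_mul' := by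
        intro g h
        rw [show (g * h).1 = g.1 * h.1 from rfl, N_mul _ _ g.2 h.2, Matrix.submatrix_mul_equiv] }
  refine ⟨φ.toHomUnits, ?_⟩
  rw [injective_iff_map_eq_one]
  intro g hg
  have h1 : (N g.1).submatrix e e = 1 := by
    have := congrArg Units.val hg
    exact this
  have h2 : N g.1 = 1 := by
    have h3 := congrArg (fun M : Matrix (Fin 23) (Fin 23) (ZMod 13) => M.submatrix e.symm e.symm) h1
    simp only [Matrix.submatrix_submatrix, Equiv.self_comp_symm, Matrix.submatrix_id_id,
      Matrix.submatrix_one_equiv] at h3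
    exact h3
  exact Subtype.ext (faithful g.1 g.2 h2)

end Cfsg.Agent.S5546
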