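import Cfsg.Statements.S0398
import Cfsg.Agent.S5546
import Cfsg.Agent.Lib.Helper93.Monomial
import Cfsg.Agent.Lib.Helper7.M24Main

set_option autoImplicit false
open Cfsg

namespace Cfsg.Agent.S0398

open Cfsg.Agent.S5546 Cfsg.Agent.Lib.Helper93.Monomial Cfsg.Agent.Lib.Helper92.LeechCore
open Cfsg.Agent.Lib.Helper7.GolayBase Cfsg.Agent.Lib.Helper7.M24Main

theorem qr_mem (t : ZMod 23) :
    support₂ (qrWord t) ∈ supports (golayCode : Set (GolayPt → ZMod 2)) :=
  ⟨qrWord t, Submodule.subset_span (Or.inl ⟨t, rfl⟩), rfl⟩

theorem sep_aux : ∀ x y : ZMod 23, x ≠ y →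
    ∃ t : ZMod 23, (∃ r : ZMod 23, x = r ^ 2 + t) ∧ ¬ (∃ r : ZMod 23, y = r ^ 2 + t) := by
  decide +kernel

theorem mem_supp (w : GolayPt → ZMod 2) (a : GolayPt) : a ∈ support₂ w ↔ w a ≠ 0 := by
  unfold support₂
  rw [Finset.mem_filter]
  simp

theorem qrWord_none (t : ZMod 23) : qrWord t none = 0 := rfl

theorem qrWord_some (t x : ZMod 23) :
    qrWord t (some x) = if ∃ r : ZMod 23, x = r ^ 2 + t then 1 else 0 := rfl

/-- Two distinct points are separated by a code word. -/
theorem sep (p q : GolayPt) (h : p ≠ q) :
    ∃ c ∈ supports (golayCode : Set (GolayPt → ZMod 2)), q ∈ c ∧ p ∉ c := by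
  rcases p with _ | y <;> rcases q with _ | x
  · exact absurd rfl h
  · refine ⟨support₂ (qrWord x), qr_mem x, ?_, ?_⟩
    · rw [mem_supp, qrWord_some, if_pos ⟨0, by ring⟩]
      decide
    · rw [mem_supp, qrWord_none]
      decide
  · refine ⟨(support₂ (qrWord y))ᶜ, compl_mem (qr_mem y), ?_, ?_⟩
    · rw [Finset.mem_compl, mem_supp, qrWord_none]
      decide
    · rw [Finset.mem_compl, mem_supp, qrWord_some, if_pos ⟨0, by ring⟩]
      decide
  · obtain ⟨t, h1, h2⟩ := sep_aux x y (by rintro rfl; exact h rfl)
    refine ⟨support₂ (qrWord t), qr_mem t, ?_, ?_⟩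
    · rw [mem_supp, qrWord_some, if_pos h1]
      decide
    · rw [mem_supp, qrWord_some, if_neg h2]
      decide

/-- `M24` is transitive on points. -/
theorem trans (p q : GolayPt) : ∃ σ ∈ M24, σ p = q := by
  obtain ⟨g₁, hg₁, h₁⟩ := exists_map_base5 [p] (List.nodup_singleton p) (by simp)
  obtain ⟨g₂, hg₂, h₂⟩ := exists_map_base5 [q] (List.nodup_singleton q) (by simp)
  refine ⟨g₂⁻¹ * g₁, M24.mul_mem (M24.inv_mem hg₂) hg₁, ?_⟩
  have e : g₁ p = g₂ q := by
    have := h₁.trans h₂.symm
    simpa using this
  rw [Equiv.Perm.mul_apply, e]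
  simp

theorem evec_apply (p i : GolayPt) : evec p i = if i = p then 8 else 0 := rfl

theorem sqNorm_evec (p : GolayPt) : sqNorm (evec p) = 64 := by
  unfold sqNorm evec
  rw [Finset.sum_eq_single p]
  · simp
  · intro b _ hb
    simp [hb]
  · intro h
    exact absurd (Finset.mem_univ p) h

/-- A lattice automorphism commuting with all monomial automorphisms is `±1`. -/
theorem central_cases (f : Equiv.Perm leechLattice) (hf : f ∈ Co0)
    (hcomm : ∀ g ∈ Co0, f * g = g * f) : f = 1 ∨ f = negEquiv := by
  -- Step 1: off-diagonal entries vanish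
  have h1 : ∀ p q : GolayPt, p ≠ q → ((f (elat p) : leechLattice) : GolayPt → ℤ) q = 0 := by
    intro p q hpq
    obtain ⟨c, hc, hq, hp⟩ := sep p q hpq
    have hg := hcomm _ (monoEquiv_mem_Co0 1 (one_mem _) c hc)
    have hfix : monoEquiv 1 (one_mem _) c hc (elat p) = elat p := by
      apply Subtype.ext
      rw [monoEquiv_apply]
      funext i
      show (if i ∈ c then -evec p i else evec p i) = evec p i
      by_cases hi : i ∈ c
      · have : i ≠ p := fun h => hp (h ▸ hi)
        simp [hi, evec_apply, this]
      · simp [hi]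
    have h2 := congrArg (fun g : Equiv.Perm leechLattice => ((g (elat p) : leechLattice) :
      GolayPt → ℤ) q) hg
    simp only [Equiv.Perm.mul_apply] at h2
    rw [hfix, monoEquiv_apply] at h2
    have h3 : signedPerm 1 c ((f (elat p) : leechLattice) : GolayPt → ℤ) q
        = -((f (elat p) : leechLattice) : GolayPt → ℤ) q := by
      show (if q ∈ c then _ else _) = _
      rw [if_pos hq]
      rfl
    rw [h3] at h2
    linarith
  -- Step 2: diagonal entries are ±8
  have h2 : ∀ p : GolayPt, ((f (elat p) : leechLattice) : GolayPt → ℤ) p = 8 ∨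
      ((f (elat p) : leechLattice) : GolayPt → ℤ) p = -8 := by
    intro p
    have hn := hf.2 (elat p)
    have he : ((elat p : leechLattice) : GolayPt → ℤ) = evec p := rfl
    rw [he, sqNorm_evec] at hn
    unfold sqNorm at hn
    rw [Finset.sum_eq_single p (fun b _ hb => by rw [h1 p b (Ne.symm hb)]; norm_num)
      (fun h => absurd (Finset.mem_univ p) h)] at hn
    have : (((f (elat p) : leechLattice) : GolayPt → ℤ) p - 8)
        * (((f (elat p) : leechLattice) : GolayPt → ℤ) p + 8) = 0 := by linarith
    rcases mul_eq_zero.mp this with h | h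
    · left; linarith
    · right; linarith
  -- Step 3: the diagonal is constant
  have h3 : ∀ p q : GolayPt, ((f (elat q) : leechLattice) : GolayPt → ℤ) q
      = ((f (elat p) : leechLattice) : GolayPt → ℤ) p := by
    intro p q
    obtain ⟨σ, hσ, hσp⟩ := trans p q
    have hg := hcomm _ (monoEquiv_mem_Co0 σ hσ ∅ empty_mem)
    have hmove : monoEquiv σ hσ ∅ empty_mem (elat p) = elat q := by
      apply Subtype.ext
      rw [monoEquiv_apply]
      funext i
      show (if i ∈ (∅ : Finset GolayPt) then -evec p (σ.symm i) else evec p (σ.symm i)) = evec q i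
      rw [if_neg (Finset.notMem_empty i), evec_apply, evec_apply, ← hσp]
      by_cases hi : i = σ p
      · rw [if_pos hi, if_pos (by rw [hi]; simp)]
      · rw [if_neg hi, if_neg (fun h => hi (by rw [← h]; simp))]
    have h2' := congrArg (fun g : Equiv.Perm leechLattice => ((g (elat p) : leechLattice) :
      GolayPt → ℤ) q) hg
    simp only [Equiv.Perm.mul_apply] at h2'
    rw [hmove, monoEquiv_apply] at h2'
    rw [h2']
    show (if q ∈ (∅ : Finset GolayPt) then _ else _) = _
    rw [if_neg (Finset.notMem_empty q), ← hσp]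
    simp
  -- Step 4
  have hval : ∀ p : GolayPt, ((f (elat p) : leechLattice) : GolayPt → ℤ)
      = fun i => if i = p then ((f (elat none) : leechLattice) : GolayPt → ℤ) none else 0 := by
    intro p
    funext i
    by_cases hi : i = p
    · rw [if_pos hi, hi]
      exact h3 none p
    · rw [if_neg hi]
      exact h1 p i (Ne.symm hi)
  have key : ∀ v : leechLattice, (8 : ℤ) • f v = ∑ p : GolayPt, (v : GolayPt → ℤ) p • f (elat p) := by
    intro v
    have h8 := congrArg (addHom f hf) (decomp8'_lat v)
    simp only [map_zsmul, map_sum, addHom_apply] at h8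
    exact h8
  rcases h2 none with h8 | h8
  · left
    have hE : ∀ p, f (elat p) = elat p := by
      intro p
      apply Subtype.ext
      rw [hval p, h8]
      rfl
    apply Equiv.ext
    intro v
    have hk := key v
    simp only [hE] at hk
    rw [← decomp8'_lat v] at hk
    have h9 : (8 : ℤ) • ((f v : leechLattice) : GolayPt → ℤ) = (8 : ℤ) • (v : GolayPt → ℤ) := by
      rw [← AddSubgroup.coe_zsmul, hk, AddSubgroup.coe_zsmul]
    apply Subtype.ext
    funext p
    have h10 := congrFun h9 p
    simp only [Pi.smul_apply, smul_eq_mul] at h10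
    show ((f v : leechLattice) : GolayPt → ℤ) p = (v : GolayPt → ℤ) p
    linarith
  · right
    have hE : ∀ p, f (elat p) = -elat p := by
      intro p
      apply Subtype.ext
      rw [hval p, h8]
      funext i
      show (if i = p then (-8 : ℤ) else 0) = -(evec p i)
      rw [evec_apply]
      split_ifs <;> norm_num
    apply Equiv.ext
    intro v
    have hk := key v
    simp only [hE, smul_neg, Finset.sum_neg_distrib] at hk
    rw [← decomp8'_lat v] at hk
    have h9 : (8 : ℤ) • ((f v : leechLattice) : GolayPt → ℤ) = -((8 : ℤ) • (v : GolayPt → ℤ)) := by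
      rw [← AddSubgroup.coe_zsmul, hk, AddSubgroup.coe_neg, AddSubgroup.coe_zsmul]
    apply Subtype.ext
    funext p
    have h10 := congrFun h9 p
    simp only [Pi.smul_apply, smul_eq_mul, Pi.neg_apply] at h10
    show ((f v : leechLattice) : GolayPt → ℤ) p = (-(v : GolayPt → ℤ)) p
    rw [Pi.neg_apply]
    linarith

/-- Negation as an element of the automorphism group. -/
def negC : ↥Co0 := ⟨negEquiv, negEquiv_mem_Co0⟩

theorem negC_ne_one : (1 : ↥Co0) ≠ negC := by
  intro h
  have h1 := congrArg (fun g : ↥Co0 => (((g : Equiv.Perm leechLattice) (elat none) : leechLattice) :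
    GolayPt → ℤ) none) h
  simp only [negC] at h1
  rw [negEquiv_apply] at h1
  have : ((elat none : leechLattice) : GolayPt → ℤ) none = 8 := rfl
  simp only [OneMemClass.coe_one, Equiv.Perm.coe_one, id_eq, Pi.neg_apply] at h1
  rw [this] at h1
  norm_num at h1

theorem negC_central : negC ∈ Subgroup.center ↥Co0 := by
  rw [Subgroup.mem_center_iff]
  intro g
  apply Subtype.ext
  apply Equiv.ext
  intro v
  show (g : Equiv.Perm leechLattice) (negEquiv v) = negEquiv ((g : Equiv.Perm leechLattice) v)
  have : negEquiv v = -v := rfl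
  rw [this]
  have h2 : ∀ w : leechLattice, negEquiv w = -w := fun _ => rfl
  rw [h2]
  exact map_neg (addHom (g : Equiv.Perm leechLattice) g.2) v

/-- The centre of the lattice's automorphism group has order 2. -/
theorem result : Nat.card (Subgroup.center Cfsg.Co0) = 2 := by
  have hset : (Subgroup.center ↥Co0 : Set ↥Co0) = {1, negC} := by
    ext z
    constructor
    · intro hz
      have hz' := Subgroup.mem_center_iff.mp hz
      have := central_cases z.1 z.2 (fun g hg => by
        have := hz' ⟨g, hg⟩
        exact (congrArg Subtype.val this).symm)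
      rcases this with h | h
      · left
        exact Subtype.ext h
      · right
        exact Subtype.ext h
    · rintro (h | h)
      · rw [h]
        exact Subgroup.one_mem _
      · rw [h]
        exact negC_central
  have : Nat.card (Subgroup.center ↥Co0) = (Subgroup.center ↥Co0 : Set ↥Co0).ncard := by
    rw [← Nat.card_coe_set_eq]
    rfl
  rw [this, hset]
  exact Set.ncard_pair negC_ne_one

end Cfsg.Agent.S0398
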