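import Cfsg.Statements.S5553
import Cfsg.Agent.Lib.Helper92.LeechCore
import Cfsg.Agent.Lib.Helper7.GolayCount

set_option autoImplicit false
open Cfsg

namespace Cfsg.Agent.S5553

open Cfsg.Agent.Lib.Helper92.LeechCore

/-- The base point. -/
def j0 : GolayPt := none

theorem even_sub {v : GolayPt → ℤ} (hv : v ∈ leechLattice) (i j : GolayPt) :
    (v i - v j) % 2 = 0 := by
  obtain ⟨m, h1, -, -⟩ := mem_leechLattice_iff.mp hv
  have := h1 i
  have := h1 j
  simp only [Int.ModEq] at *
  omega

/-- The homomorphism onto the code. -/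
def psi : leechLattice →+ (GolayPt → ZMod 2) where
  toFun v := fun i =>
    ((((v : GolayPt → ℤ) i - (v : GolayPt → ℤ) j0) / 2 + (v : GolayPt → ℤ) j0 : ℤ) : ZMod 2)
  map_zero' := by
    ext i
    simp
  map_add' := by
    intro v w
    ext i
    have h1 := even_sub v.2 i j0
    have h2 := even_sub w.2 i j0
    simp only [AddSubgroup.coe_add, Pi.add_apply]
    rw [← Int.cast_add]
    congr 1
    omega

theorem psi_apply (v : leechLattice) (i : GolayPt) :
    psi v i = ((((v : GolayPt → ℤ) i - (v : GolayPt → ℤ) j0) / 2 + (v : GolayPt → ℤ) j0 : ℤ) :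
      ZMod 2) := rfl

/-- The subgroup. -/
def Asub : AddSubgroup (GolayPt → ℤ) where
  carrier := {v | v ∈ leechLattice ∧ v j0 % 2 = 0 ∧ ∀ i, (v i - v j0) % 4 = 0}
  add_mem' := by
    rintro v w ⟨hv, hv0, hv4⟩ ⟨hw, hw0, hw4⟩
    refine ⟨add_mem hv hw, ?_, fun i => ?_⟩
    · simp only [Pi.add_apply]
      omega
    · have := hv4 i
      have := hw4 i
      simp only [Pi.add_apply]
      omega
  zero_mem' := ⟨zero_mem _, by simp, by simp⟩
  neg_mem' := by
    rintro v ⟨hv, hv0, hv4⟩
    refine ⟨neg_mem hv, ?_, fun i => ?_⟩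
    · simp only [Pi.neg_apply]
      omega
    · have := hv4 i
      simp only [Pi.neg_apply]
      omega

theorem mem_Asub {v : GolayPt → ℤ} :
    v ∈ Asub ↔ v ∈ leechLattice ∧ v j0 % 2 = 0 ∧ ∀ i, (v i - v j0) % 4 = 0 := Iff.rfl

theorem cast_eq_zero_iff (a : ℤ) : ((a : ℤ) : ZMod 2) = 0 ↔ a % 2 = 0 := by
  rw [ZMod.intCast_zmod_eq_zero_iff_dvd]
  omega

theorem Asub_eq_ker : Asub.addSubgroupOf leechLattice = psi.ker := by
  ext v
  rw [AddSubgroup.mem_addSubgroupOf, AddMonoidHom.mem_ker, mem_Asub]
  constructor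
  · rintro ⟨-, h0, h4⟩
    funext i
    rw [psi_apply, Pi.zero_apply, cast_eq_zero_iff]
    have := h4 i
    omega
  · intro h
    have hj : (v : GolayPt → ℤ) j0 % 2 = 0 := by
      have := congrFun h j0
      rw [psi_apply, Pi.zero_apply, cast_eq_zero_iff] at this
      omega
    refine ⟨v.2, hj, fun i => ?_⟩
    have := congrFun h i
    rw [psi_apply, Pi.zero_apply, cast_eq_zero_iff] at this
    have := even_sub v.2 i j0
    omega

theorem dvd32_of_zero (t : ℤ) (h : t % 4 = 0) : (32 : ℤ) ∣ t ^ 2 - 4 * t := by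
  obtain ⟨w, rfl⟩ : (4 : ℤ) ∣ t := Int.dvd_of_emod_eq_zero h
  rcases Int.emod_two_eq_zero_or_one w with hw | hw
  · obtain ⟨u, rfl⟩ : (2 : ℤ) ∣ w := Int.dvd_of_emod_eq_zero hw
    exact ⟨2 * u ^ 2 - u, by ring⟩
  · obtain ⟨u, hu⟩ : (2 : ℤ) ∣ w - 1 := Int.dvd_of_emod_eq_zero (by omega)
    have : w = 2 * u + 1 := by linarith
    subst this
    exact ⟨2 * u ^ 2 + u, by ring⟩

theorem dvd32_of_two (t : ℤ) (h : t % 4 = 2) : (32 : ℤ) ∣ t ^ 2 - 4 := by
  obtain ⟨w, hw⟩ : (4 : ℤ) ∣ t - 2 := Int.dvd_of_emod_eq_zero (by omega)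
  have ht : t = 4 * w + 2 := by linarith
  subst ht
  rcases Int.emod_two_eq_zero_or_one w with hw | hw
  · obtain ⟨u, rfl⟩ : (2 : ℤ) ∣ w := Int.dvd_of_emod_eq_zero hw
    exact ⟨2 * u ^ 2 + u, by ring⟩
  · obtain ⟨u, hu⟩ : (2 : ℤ) ∣ w - 1 := Int.dvd_of_emod_eq_zero (by omega)
    have : w = 2 * u + 1 := by linarith
    subst this
    exact ⟨2 * u ^ 2 + 3 * u + 1, by ring⟩

theorem dvd32 {v : GolayPt → ℤ} (hv : v ∈ Asub) : (32 : ℤ) ∣ sqNorm v := by
  obtain ⟨hL, h0, h4⟩ := hv
  obtain ⟨m, h1, h2, -⟩ := mem_leechLattice_iff.mp hL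
  have hj : v j0 % 4 = 0 ∨ v j0 % 4 = 2 := by omega
  rcases hj with hj | hj
  · have hall : ∀ i, v i % 4 = 0 := fun i => by
      have := h4 i
      omega
    have hm : m % 2 = 0 := by
      have := h1 j0
      simp only [Int.ModEq] at this
      omega
    have hs : (32 : ℤ) ∣ ∑ i, (v i ^ 2 - 4 * v i) :=
      Finset.dvd_sum (fun i _ => dvd32_of_zero (v i) (hall i))
    rw [Finset.sum_sub_distrib, ← Finset.mul_sum] at hs
    obtain ⟨a, ha⟩ := hs
    obtain ⟨b, hb⟩ : (8 : ℤ) ∣ ∑ i, v i := by
      have := h2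
      simp only [Int.ModEq] at this
      omega
    unfold sqNorm
    exact ⟨a + b, by linarith⟩
  · have hall : ∀ i, v i % 4 = 2 := fun i => by
      have := h4 i
      omega
    have hs : (32 : ℤ) ∣ ∑ i, (v i ^ 2 - 4) :=
      Finset.dvd_sum (fun i _ => dvd32_of_two (v i) (hall i))
    rw [Finset.sum_sub_distrib, Finset.sum_const, Finset.card_univ, card_golayPt] at hs
    have h96 : (24 : ℕ) • (4 : ℤ) = 96 := by norm_num
    rw [h96] at hs
    obtain ⟨a, ha⟩ := hs
    unfold sqNorm
    exact ⟨a + 3, by linarith⟩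

theorem two_smul_mem {v : GolayPt → ℤ} (hv : v ∈ leechLattice) : (2 : ℤ) • v ∈ Asub := by
  refine ⟨?_, ?_, fun i => ?_⟩
  · rw [two_smul]
    exact add_mem hv hv
  · simp only [Pi.smul_apply, smul_eq_mul]
    omega
  · have := even_sub hv i j0
    simp only [Pi.smul_apply, smul_eq_mul]
    omega

/-! ### The range of `psi` is the code -/

open Cfsg.Agent.Lib.Helper7.GolayCount

theorem one_mem_code : (1 : GolayPt → ZMod 2) ∈ golayCode :=
  Submodule.subset_span (Or.inr rfl)

theorem zmod2_cases (a : ZMod 2) : a = 0 ∨ a = 1 := by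
  revert a
  decide

/-- A word is in the code iff its support is a code-word support. -/
theorem mem_code_of_support {w : GolayPt → ZMod 2}
    (h : support₂ w ∈ supports (golayCode : Set (GolayPt → ZMod 2))) : w ∈ golayCode := by
  obtain ⟨w', hw', hs⟩ := h
  have : w' = w := by
    funext i
    have hi : i ∈ support₂ w' ↔ i ∈ support₂ w := by rw [hs]
    unfold support₂ at hi
    simp only [Finset.mem_filter, Finset.mem_univ, true_and] at hi
    rcases zmod2_cases (w' i) with h1 | h1 <;> rcases zmod2_cases (w i) with h2 | h2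
    · rw [h1, h2]
    · rw [h1, h2] at hi
      simp at hi
    · rw [h1, h2] at hi
      simp at hi
    · rw [h1, h2]
  rw [← this]
  exact hw'

theorem cast_eq_one_iff (a : ℤ) : ((a : ℤ) : ZMod 2) = 1 ↔ a % 2 = 1 := by
  have h := cast_eq_zero_iff a
  rcases zmod2_cases ((a : ℤ) : ZMod 2) with h1 | h1
  · rw [h1]
    have := h.mp h1
    constructor
    · intro h'
      exact absurd h' (by decide)
    · intro h'
      omega
  · rw [h1]
    have : ¬ (a % 2 = 0) := fun h' => by
      have := h.mpr h'
      rw [h1] at this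
      exact absurd this (by decide)
    constructor
    · intro _
      omega
    · intro _
      rfl

theorem psi_mem_code (v : leechLattice) : psi v ∈ golayCode := by
  obtain ⟨m, h1, h2, h3⟩ := mem_leechLattice_iff.mp v.2
  obtain ⟨x, hx⟩ : ∃ x : GolayPt → ℤ, x = (v : GolayPt → ℤ) := ⟨_, rfl⟩
  rw [← hx] at h1 h2 h3
  -- the word with support `{i | x i ≡ x j0 + 2 mod 4}`
  have hw : (fun i => (((x i - x j0) / 2 : ℤ) : ZMod 2)) ∈ golayCode := by
    apply mem_code_of_support
    have : support₂ (fun i => (((x i - x j0) / 2 : ℤ) : ZMod 2))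
        = Finset.univ.filter fun i => x i ≡ x j0 + 2 [ZMOD 4] := by
      unfold support₂
      apply Finset.filter_congr
      intro i _
      have hev : (x i - x j0) % 2 = 0 := by
        rw [hx]
        exact even_sub v.2 i j0
      rw [Ne, cast_eq_zero_iff]
      simp only [Int.ModEq]
      omega
    rw [this]
    exact h3 _
  have hpsi : psi v = (fun i => (((x i - x j0) / 2 : ℤ) : ZMod 2)) + ((x j0 : ℤ) : ZMod 2) • 1 := by
    funext i
    rw [psi_apply, ← hx]
    simp
  rw [hpsi]
  exact add_mem hw (Submodule.smul_mem _ _ one_mem_code)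

/-- Twice the indicator of a code word. -/
def ind (s : Finset GolayPt) : GolayPt → ℤ := fun i => if i ∈ s then 2 else 0

theorem ind_mem {s : Finset GolayPt}
    (hs : s ∈ supports (golayCode : Set (GolayPt → ZMod 2))) : ind s ∈ leechLattice := by
  rw [mem_leechLattice_iff]
  refine ⟨0, fun i => ?_, ?_, fun k => ?_⟩
  · unfold ind
    split_ifs <;> decide
  · have hsum : ∑ i, ind s i = 2 * (s.card : ℤ) := by
      unfold ind
      rw [Finset.sum_ite_mem, Finset.univ_inter, Finset.sum_const]
      simp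
      ring
    rw [hsum]
    rcases card_mem hs with h | h | h | h | h <;> rw [h] <;> decide
  · have hk : k % 4 = 0 ∨ k % 4 = 2 ∨ (k % 4 ≠ 0 ∧ k % 4 ≠ 2) := by omega
    rcases hk with hk | hk | hk
    · have : (Finset.univ.filter fun i => ind s i ≡ k [ZMOD 4]) = sᶜ := by
        ext i
        rw [Finset.mem_filter, Finset.mem_compl]
        unfold ind
        by_cases hi : i ∈ s
        · simp only [hi, if_true, Finset.mem_univ, true_and, Int.ModEq, not_true, iff_false]
          omega
        · simp only [hi, if_false, Finset.mem_univ, true_and, Int.ModEq, not_false_eq_true,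
            iff_true]
          omega
      rw [this]
      exact compl_mem hs
    · have : (Finset.univ.filter fun i => ind s i ≡ k [ZMOD 4]) = s := by
        ext i
        rw [Finset.mem_filter]
        unfold ind
        by_cases hi : i ∈ s
        · simp only [hi, if_true, Finset.mem_univ, true_and, Int.ModEq, iff_true]
          omega
        · simp only [hi, if_false, Finset.mem_univ, true_and, Int.ModEq, iff_false]
          omega
      rw [this]
      exact hs
    · have : (Finset.univ.filter fun i => ind s i ≡ k [ZMOD 4]) = ∅ := by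
        apply Finset.filter_false_of_mem
        intro i _
        unfold ind
        simp only [Int.ModEq]
        split_ifs <;> omega
      rw [this]
      exact empty_mem

/-- The odd vector `(-3, 1, ..., 1)`. -/
def x0 : GolayPt → ℤ := fun i => if i = j0 then -3 else 1

theorem x0_mem : x0 ∈ leechLattice := by
  rw [mem_leechLattice_iff]
  refine ⟨1, fun i => ?_, ?_, fun k => ?_⟩
  · unfold x0
    split_ifs <;> decide
  · have hsum : ∑ i, x0 i = 20 := by
      have : ∀ i, x0 i = 1 - (if i = j0 then 4 else 0) := fun i => by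
        unfold x0
        split_ifs <;> norm_num
      simp_rw [this]
      rw [Finset.sum_sub_distrib, Finset.sum_ite_eq' Finset.univ j0, Finset.sum_const,
        Finset.card_univ, card_golayPt]
      simp
    rw [hsum]
    decide
  · by_cases hk : k % 4 = 1
    · have : (Finset.univ.filter fun i => x0 i ≡ k [ZMOD 4]) = Finset.univ := by
        apply Finset.filter_true_of_mem
        intro i _
        unfold x0
        simp only [Int.ModEq]
        split_ifs <;> omega
      rw [this]
      exact univ_mem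
    · have : (Finset.univ.filter fun i => x0 i ≡ k [ZMOD 4]) = ∅ := by
        apply Finset.filter_false_of_mem
        intro i _
        unfold x0
        simp only [Int.ModEq]
        split_ifs <;> omega
      rw [this]
      exact empty_mem

theorem psi_x0 : psi ⟨x0, x0_mem⟩ = 1 := by
  funext i
  rw [psi_apply, Pi.one_apply, cast_eq_one_iff]
  show ((x0 i - x0 j0) / 2 + x0 j0) % 2 = 1
  unfold x0
  by_cases hi : i = j0
  · simp [hi]
  · simp [hi]

theorem psi_ind {s : Finset GolayPt}
    (hs : s ∈ supports (golayCode : Set (GolayPt → ZMod 2))) (hj : j0 ∉ s) (i : GolayPt) :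
    psi ⟨ind s, ind_mem hs⟩ i = if i ∈ s then 1 else 0 := by
  rw [psi_apply]
  show ((((ind s i - ind s j0) / 2 + ind s j0 : ℤ)) : ZMod 2) = _
  unfold ind
  by_cases hi : i ∈ s
  · simp [hi, hj]
  · simp [hi, hj]

theorem code_le_range {c : GolayPt → ZMod 2} (hc : c ∈ golayCode) : c ∈ psi.range := by
  have hs : support₂ c ∈ supports (golayCode : Set (GolayPt → ZMod 2)) := ⟨c, hc, rfl⟩
  have hmem : ∀ i, i ∈ support₂ c ↔ c i = 1 := by
    intro i
    unfold support₂
    simp only [Finset.mem_filter, Finset.mem_univ, true_and]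
    rcases zmod2_cases (c i) with h | h <;> rw [h] <;> decide
  rcases zmod2_cases (c j0) with h0 | h0
  · have hj : j0 ∉ support₂ c := by
      rw [hmem, h0]
      decide
    refine ⟨⟨ind (support₂ c), ind_mem hs⟩, ?_⟩
    funext i
    rw [psi_ind hs hj]
    by_cases hi : i ∈ support₂ c
    · rw [if_pos hi]
      exact ((hmem i).mp hi).symm
    · rw [if_neg hi]
      rcases zmod2_cases (c i) with h | h
      · exact h.symm
      · exact absurd ((hmem i).mpr h) hi
  · have hs' := compl_mem hs
    have hj : j0 ∉ (support₂ c)ᶜ := by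
      rw [Finset.mem_compl, not_not, hmem]
      exact h0
    refine ⟨⟨x0, x0_mem⟩ + ⟨ind (support₂ c)ᶜ, ind_mem hs'⟩, ?_⟩
    rw [map_add, psi_x0]
    funext i
    rw [Pi.add_apply, psi_ind hs' hj, Pi.one_apply]
    by_cases hi : i ∈ support₂ c
    · rw [if_neg (by simpa using hi)]
      rw [(hmem i).mp hi]
      decide
    · rw [if_pos (by simpa using hi)]
      rcases zmod2_cases (c i) with h | h
      · rw [h]
        decide
      · exact absurd ((hmem i).mpr h) hi

theorem range_eq : (psi.range : Set (GolayPt → ZMod 2)) = (golayCode : Set (GolayPt → ZMod 2)) := by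
  ext c
  constructor
  · rintro ⟨v, rfl⟩
    exact psi_mem_code v
  · intro hc
    exact code_le_range hc

theorem index_eq : (Asub.addSubgroupOf leechLattice).index = 2 ^ 12 := by
  rw [Asub_eq_ker, AddSubgroup.index_ker]
  have h1 : Nat.card psi.range = (psi.range : Set (GolayPt → ZMod 2)).ncard := by
    rw [← Nat.card_coe_set_eq]
    rfl
  rw [h1, range_eq, ncard_golayCode]
  norm_num

/-- The Leech lattice of the definitions has an additive subgroup A containing twice the lattice, of index 2^12 in the lattice, all of whose vectors have squared length divisible by 32: the invariant quadratic form 'squared length over 16 modulo 2' on the lattice modulo twice the lattice (a 24-dimensional space over the field with two elements) vanishes on a 12-dimensional subspace, so it is of plus type. -/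
theorem result : ∃ A : AddSubgroup (Cfsg.GolayPt → ℤ), A ≤ Cfsg.leechLattice ∧ (∀ v ∈ Cfsg.leechLattice, (2 : ℤ) • v ∈ A) ∧ (A.addSubgroupOf Cfsg.leechLattice).index = 2 ^ 12 ∧ ∀ v ∈ A, (32 : ℤ) ∣ Cfsg.sqNorm v :=
  ⟨Asub, fun _ hv => hv.1, fun _ hv => two_smul_mem hv, index_eq, fun _ hv => dvd32 hv⟩

end Cfsg.Agent.S5553
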