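import Cfsg.Statements.S0393
import Cfsg.Agent.S5553

set_option autoImplicit false
open Cfsg

namespace Cfsg.Agent.S0393

open Cfsg.Agent.Lib.Helper92.LeechCore Cfsg.Agent.S5553

/-- The vectors with all coordinates divisible by 4 and coordinate sum divisible by 8. -/
def A4 : AddSubgroup (GolayPt → ℤ) where
  carrier := {v | (∀ i, v i % 4 = 0) ∧ (∑ i, v i) % 8 = 0}
  add_mem' := by
    rintro v w ⟨hv, hvs⟩ ⟨hw, hws⟩
    refine ⟨fun i => ?_, ?_⟩
    · have := hv i
      have := hw i
      simp only [Pi.add_apply]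
      omega
    · simp only [Pi.add_apply, Finset.sum_add_distrib]
      omega
  zero_mem' := ⟨by simp, by simp⟩
  neg_mem' := by
    rintro v ⟨hv, hvs⟩
    refine ⟨fun i => ?_, ?_⟩
    · have := hv i
      simp only [Pi.neg_apply]
      omega
    · simp only [Pi.neg_apply, Finset.sum_neg_distrib]
      omega

theorem mem_A4 {v : GolayPt → ℤ} : v ∈ A4 ↔ (∀ i, v i % 4 = 0) ∧ (∑ i, v i) % 8 = 0 := Iff.rfl

theorem A4_le_leech : A4 ≤ leechLattice := by
  rintro v ⟨hv, hvs⟩
  rw [mem_leechLattice_iff]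
  refine ⟨0, fun i => ?_, ?_, fun k => ?_⟩
  · have := hv i
    simp only [Int.ModEq]
    omega
  · simp only [Int.ModEq]
    omega
  · by_cases hk : k % 4 = 0
    · have : (Finset.univ.filter fun i => v i ≡ k [ZMOD 4]) = Finset.univ := by
        apply Finset.filter_true_of_mem
        intro i _
        have := hv i
        simp only [Int.ModEq]
        omega
      rw [this]
      exact univ_mem
    · have : (Finset.univ.filter fun i => v i ≡ k [ZMOD 4]) = ∅ := by
        apply Finset.filter_false_of_mem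
        intro i _
        have := hv i
        simp only [Int.ModEq]
        omega
      rw [this]
      exact empty_mem

theorem A4_le_Asub : A4 ≤ Asub := by
  intro v hv
  refine ⟨A4_le_leech hv, ?_, fun i => ?_⟩
  · have := hv.1 j0
    omega
  · have := hv.1 j0
    have := hv.1 i
    omega

theorem Asub_le : Asub ≤ leechLattice := fun _ hv => hv.1

theorem mem_A4_iff_of_Asub {v : GolayPt → ℤ} (hv : v ∈ Asub) : v ∈ A4 ↔ v j0 % 4 = 0 := by
  constructor
  · intro h
    exact h.1 j0
  · intro h
    obtain ⟨hL, h0, h4⟩ := hv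
    obtain ⟨m, h1, h2, -⟩ := mem_leechLattice_iff.mp hL
    refine ⟨fun i => ?_, ?_⟩
    · have := h4 i
      omega
    · have := h1 j0
      simp only [Int.ModEq] at this h2
      omega

theorem ind_univ_mem : ind Finset.univ ∈ Asub := by
  refine ⟨ind_mem univ_mem, ?_, fun i => ?_⟩
  · simp [ind]
  · simp [ind]

theorem relIndex_A4_Asub : A4.relIndex Asub = 2 := by
  unfold AddSubgroup.relIndex
  rw [AddSubgroup.index_eq_two_iff]
  refine ⟨⟨ind Finset.univ, ind_univ_mem⟩, fun b => ?_⟩
  rw [AddSubgroup.mem_addSubgroupOf, AddSubgroup.mem_addSubgroupOf,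
    mem_A4_iff_of_Asub b.2]
  have e : ((b + ⟨ind Finset.univ, ind_univ_mem⟩ : Asub) : GolayPt → ℤ)
      = (b : GolayPt → ℤ) + ind Finset.univ := rfl
  rw [e, mem_A4_iff_of_Asub (add_mem b.2 ind_univ_mem)]
  have hb := b.2.2.1
  have h2 : ((b : GolayPt → ℤ) + ind Finset.univ) j0 = (b : GolayPt → ℤ) j0 + 2 := by
    simp [ind]
  rw [h2]
  unfold Xor
  omega

/-- The homomorphism with kernel `A4`. -/
def phi : (GolayPt → ℤ) →+ (ZMod 23 → ZMod 4) × ZMod 8 where
  toFun v := (fun t => ((v (some t) : ℤ) : ZMod 4), ((∑ i, v i : ℤ) : ZMod 8))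
  map_zero' := by
    ext <;> simp
  map_add' := by
    intro v w
    ext <;> simp [Finset.sum_add_distrib]

theorem phi_ker : phi.ker = A4 := by
  ext v
  rw [AddMonoidHom.mem_ker, mem_A4]
  show ((fun t => ((v (some t) : ℤ) : ZMod 4)), ((∑ i, v i : ℤ) : ZMod 8)) = 0 ↔ _
  rw [Prod.ext_iff]
  simp only [Prod.fst_zero, Prod.snd_zero]
  rw [funext_iff, ZMod.intCast_zmod_eq_zero_iff_dvd]
  simp only [Pi.zero_apply, ZMod.intCast_zmod_eq_zero_iff_dvd]
  constructor
  · rintro ⟨h4, h8⟩
    have hs : (4 : ℤ) ∣ ∑ t, v (some t) := Finset.dvd_sum (fun t _ => h4 t)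
    have hopt : ∑ i, v i = v none + ∑ t, v (some t) := Fintype.sum_option _
    refine ⟨fun i => ?_, by omega⟩
    cases i with
    | none => omega
    | some t =>
      have := h4 t
      omega
  · rintro ⟨h4, h8⟩
    refine ⟨fun t => ?_, by omega⟩
    have := h4 (some t)
    omega

theorem phi_surj : Function.Surjective phi := by
  rintro ⟨a, b⟩
  refine ⟨fun i => match i with
    | none => (b.val : ℤ) - ∑ t, ((a t).val : ℤ)
    | some t => ((a t).val : ℤ), ?_⟩
  show ((fun t => _), _) = (a, b)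
  rw [Prod.ext_iff]
  constructor
  · funext t
    simp
  · simp only
    rw [Fintype.sum_option]
    simp

theorem index_A4 : A4.index = 2 ^ 49 := by
  rw [← phi_ker, AddSubgroup.index_ker, AddMonoidHom.range_eq_top.mpr phi_surj,
    AddSubgroup.card_top, Nat.card_prod, Nat.card_fun, Nat.card_zmod, Nat.card_zmod, Nat.card_zmod]
  norm_num

/-- The lattice has index 2^36 in ℤ^24 (unimodular at scale 1/8). -/
theorem result : Cfsg.leechLattice.index = 2 ^ 36 := by
  have h1 : A4.relIndex Asub * Asub.relIndex leechLattice = A4.relIndex leechLattice :=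
    AddSubgroup.relIndex_mul_relIndex A4 Asub leechLattice A4_le_Asub Asub_le
  have h2 : A4.relIndex leechLattice * leechLattice.index = A4.index :=
    AddSubgroup.relIndex_mul_index (A4_le_Asub.trans Asub_le)
  have h3 : Asub.relIndex leechLattice = 2 ^ 12 := index_eq
  rw [relIndex_A4_Asub, h3] at h1
  rw [← h1, index_A4] at h2
  have : (2 * 2 ^ 12) * leechLattice.index = (2 * 2 ^ 12) * 2 ^ 36 := by
    rw [h2]
    norm_num
  exact Nat.eq_of_mul_eq_mul_left (by norm_num) this

end Cfsg.Agent.S0393
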