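import Cfsg.Statements.S1571
import Cfsg.Agent.S0398
import Cfsg.Agent.S5553
import Cfsg.Agent.Lib.Helper7.GolayCount

set_option autoImplicit false
open scoped Pointwise
open Cfsg

namespace Cfsg.Agent.S1571

open Cfsg.Agent.S5546 Cfsg.Agent.Lib.Helper93.Monomial Cfsg.Agent.Lib.Helper92.LeechCore
open Cfsg.Agent.Lib.Helper7.M24Mem Cfsg.Agent.Lib.Helper7.M24Main
open Cfsg.Agent.Lib.Helper7.GolayCount

/-- The property of mapping the standard cross into itself. -/
def Stab (f : Equiv.Perm leechLattice) : Prop :=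
  ∀ v : leechLattice, (v : GolayPt → ℤ) ∈ stdCross →
    ((f v : leechLattice) : GolayPt → ℤ) ∈ stdCross

theorem evec_eq_single (p : GolayPt) : evec p = Pi.single p 8 := by
  funext i
  rw [Pi.single_apply]
  rfl

theorem dot_single (i j : GolayPt) (a b : ℤ) :
    dotInt (Pi.single i a : GolayPt → ℤ) (Pi.single j b) = if i = j then a * b else 0 := by
  unfold dotInt
  rw [Finset.sum_eq_single i]
  · rw [Pi.single_eq_same, Pi.single_apply]
    split_ifs <;> simp
  · intro k _ hk
    rw [Pi.single_eq_of_ne hk, zero_mul]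
  · intro h
    exact absurd (Finset.mem_univ i) h

theorem eight_smul (f : Equiv.Perm leechLattice) (hf : f ∈ Co0) (v : leechLattice) :
    (8 : ℤ) • f v = ∑ p : GolayPt, (v : GolayPt → ℤ) p • f (elat p) := by
  have h8 := congrArg (addHom f hf) (decomp8'_lat v)
  simp only [map_zsmul, map_sum, addHom_apply] at h8
  exact h8

theorem signedPerm_single (σ : Equiv.Perm GolayPt) (c : Finset GolayPt) (i : GolayPt) (s : ℤ) :
    signedPerm σ c (Pi.single i s) = Pi.single (σ i) (if σ i ∈ c then -s else s) := by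
  funext j
  unfold signedPerm
  by_cases hj : j = σ i
  · subst hj
    simp
  · have h1 : σ.symm j ≠ i := fun h => hj (by rw [← h]; simp)
    rw [Pi.single_eq_of_ne hj, Pi.single_eq_of_ne h1]
    simp

theorem mem_smul_iff (σ : Equiv.Perm GolayPt) (c : Finset GolayPt) (i : GolayPt) :
    i ∈ σ • c ↔ σ.symm i ∈ c := by
  rw [← Finset.inv_smul_mem_iff]
  rfl

/-- An automorphism stabilising the standard cross is monomial. -/
theorem monomial_of_stab (f : Equiv.Perm leechLattice) (hf : f ∈ Co0) (hs : Stab f) :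
    ∃ σ ∈ M24, ∃ c ∈ supports (golayCode : Set (GolayPt → ZMod 2)),
      ∀ v : leechLattice, ((f v : leechLattice) : GolayPt → ℤ) = signedPerm σ c v := by
  have hval : ∀ p : GolayPt, ∃ (i : GolayPt) (s : ℤ), (s = 8 ∨ s = -8) ∧
      ((f (elat p) : leechLattice) : GolayPt → ℤ) = Pi.single i s :=
    fun p => hs (elat p) ⟨p, 8, Or.inl rfl, evec_eq_single p⟩
  choose τ s hs8 hfe using hval
  have hinj : Function.Injective τ := by
    intro p q hpq
    by_contra hne
    have h1 := dot_inv f hf (elat p) (elat q)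
    rw [hfe p, hfe q, dot_single, if_pos hpq] at h1
    have h2 : dotInt ((elat p : leechLattice) : GolayPt → ℤ) ((elat q : leechLattice) : GolayPt → ℤ)
        = 0 := by
      show dotInt (evec p) (evec q) = 0
      rw [evec_eq_single, evec_eq_single, dot_single, if_neg hne]
    rw [h2] at h1
    rcases hs8 p with h | h <;> rcases hs8 q with h' | h' <;> rw [h, h'] at h1 <;> norm_num at h1
  obtain ⟨σ, hσ⟩ : ∃ σ : Equiv.Perm GolayPt, ∀ p, σ p = τ p :=
    ⟨Equiv.ofBijective τ (Finite.injective_iff_bijective.mp hinj), fun _ => rfl⟩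
  obtain ⟨c, hc⟩ : ∃ c : Finset GolayPt, c = Finset.univ.filter (fun i => s (σ.symm i) = -8) :=
    ⟨_, rfl⟩
  have hmem : ∀ i, i ∈ c ↔ s (σ.symm i) = -8 := by
    intro i
    rw [hc, Finset.mem_filter]
    simp
  have formula : ∀ v : leechLattice, ((f v : leechLattice) : GolayPt → ℤ) = signedPerm σ c v := by
    intro v
    funext i
    have h8 := congrArg (fun w : leechLattice => (w : GolayPt → ℤ) i) (eight_smul f hf v)
    simp only [AddSubgroup.coe_zsmul, AddSubgroup.val_finsetSum, Pi.smul_apply, smul_eq_mul,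
      Finset.sum_apply] at h8
    rw [Finset.sum_eq_single (σ.symm i)] at h8
    · rw [hfe, ← hσ, Equiv.apply_symm_apply, Pi.single_eq_same] at h8
      unfold signedPerm
      by_cases hi : i ∈ c
      · rw [if_pos hi]
        rw [(hmem i).mp hi] at h8
        linarith
      · rw [if_neg hi]
        have : s (σ.symm i) = 8 := by
          rcases hs8 (σ.symm i) with h | h
          · exact h
          · exact absurd ((hmem i).mpr h) hi
        rw [this] at h8
        linarith
    · intro p _ hp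
      rw [hfe, ← hσ]
      have : i ≠ σ p := fun h => hp (by rw [h]; simp)
      rw [Pi.single_eq_of_ne this, mul_zero]
    · intro h
      exact absurd (Finset.mem_univ _) h
  have hσM : σ ∈ M24 := by
    apply mem_M24_of_subset
    intro t ht
    obtain ⟨c', hc', rfl⟩ := Set.mem_smul_set.mp ht
    have hv := (f ⟨S5553.ind c', S5553.ind_mem hc'⟩).2
    obtain ⟨m, h1, h2, h3⟩ := mem_leechLattice_iff.mp hv
    have h32 := h3 2
    have : (Finset.univ.filter fun i =>
        ((f ⟨S5553.ind c', S5553.ind_mem hc'⟩ : leechLattice) : GolayPt → ℤ) i ≡ 2 [ZMOD 4])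
        = σ • c' := by
      ext i
      rw [Finset.mem_filter, mem_smul_iff, formula]
      unfold signedPerm
      show _ ∧ (if i ∈ c then -S5553.ind c' (σ.symm i) else S5553.ind c' (σ.symm i)) ≡ 2 [ZMOD 4] ↔ _
      unfold S5553.ind
      by_cases h1 : σ.symm i ∈ c' <;> by_cases h2 : i ∈ c <;> simp [h1, h2] <;> decide
    rw [this] at h32
    exact h32
  have hcC : c ∈ supports (golayCode : Set (GolayPt → ZMod 2)) := by
    have hv := (f ⟨S5553.x0, S5553.x0_mem⟩).2
    obtain ⟨m, h1, h2, h3⟩ := mem_leechLattice_iff.mp hv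
    have h33 := h3 3
    have : (Finset.univ.filter fun i =>
        ((f ⟨S5553.x0, S5553.x0_mem⟩ : leechLattice) : GolayPt → ℤ) i ≡ 3 [ZMOD 4]) = c := by
      ext i
      rw [Finset.mem_filter, formula]
      unfold signedPerm
      show _ ∧ (if i ∈ c then -S5553.x0 (σ.symm i) else S5553.x0 (σ.symm i)) ≡ 3 [ZMOD 4] ↔ _
      unfold S5553.x0
      by_cases h1 : σ.symm i = S5553.j0 <;> by_cases h2 : i ∈ c <;> simp [h1, h2] <;> decide
    rw [this] at h33
    exact h33
  exact ⟨σ, hσM, c, hcC, formula⟩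

theorem mono_stab (σ : Equiv.Perm GolayPt) (hσ : σ ∈ M24) (c : Finset GolayPt)
    (hc : c ∈ supports (golayCode : Set (GolayPt → ZMod 2))) : Stab (monoEquiv σ hσ c hc) := by
  rintro v ⟨i, s, hs, hv⟩
  rw [monoEquiv_apply, hv, signedPerm_single]
  refine ⟨σ i, _, ?_, rfl⟩
  split_ifs
  · rcases hs with h | h
    · right; rw [h]
    · left; rw [h]; norm_num
  · exact hs

theorem support₂_injective : Function.Injective (support₂ : (GolayPt → ZMod 2) → Finset GolayPt) := by
  intro w₁ w₂ h
  funext a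
  have h1 : a ∈ support₂ w₁ ↔ a ∈ support₂ w₂ := by rw [h]
  rw [S0398.mem_supp, S0398.mem_supp] at h1
  rcases S5553.zmod2_cases (w₁ a) with e1 | e1 <;> rcases S5553.zmod2_cases (w₂ a) with e2 | e2
  · rw [e1, e2]
  · rw [e1, e2] at h1
    simp at h1
  · rw [e1, e2] at h1
    simp at h1
  · rw [e1, e2]

theorem card_supports :
    Nat.card ↥(supports (golayCode : Set (GolayPt → ZMod 2))) = 4096 := by
  rw [Nat.card_coe_set_eq]
  unfold supports
  rw [Set.ncard_image_of_injective _ support₂_injective, ncard_golayCode]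

/-- The parametrisation of the stabiliser of the standard cross. -/
def toStab (x : ↥M24 × ↥(supports (golayCode : Set (GolayPt → ZMod 2)))) :
    {g : ↥Co0 // ∀ v : ↥leechLattice, (v : GolayPt → ℤ) ∈ stdCross →
      ((g • v : ↥leechLattice) : GolayPt → ℤ) ∈ stdCross} :=
  ⟨⟨monoEquiv x.1.1 x.1.2 x.2.1 x.2.2, monoEquiv_mem_Co0 _ _ _ _⟩,
    fun v hv => mono_stab x.1.1 x.1.2 x.2.1 x.2.2 v hv⟩

theorem toStab_injective : Function.Injective toStab := by
  rintro ⟨⟨σ, hσ⟩, ⟨c, hc⟩⟩ ⟨⟨σ', hσ'⟩, ⟨c', hc'⟩⟩ h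
  have h1 : monoEquiv σ hσ c hc = monoEquiv σ' hσ' c' hc' :=
    congrArg (fun g => ((g.1 : ↥Co0) : Equiv.Perm leechLattice)) h
  have h2 : ∀ p : GolayPt, (Pi.single (σ p) (if σ p ∈ c then -8 else 8) : GolayPt → ℤ)
      = Pi.single (σ' p) (if σ' p ∈ c' then -8 else 8) := by
    intro p
    have := congrArg (fun g : Equiv.Perm leechLattice => ((g (elat p) : leechLattice) :
      GolayPt → ℤ)) h1
    simp only [monoEquiv_apply] at this
    have he : ((elat p : leechLattice) : GolayPt → ℤ) = Pi.single p 8 := evec_eq_single p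
    rw [he, signedPerm_single, signedPerm_single] at this
    exact this
  have h3 : ∀ p, σ p = σ' p := by
    intro p
    by_contra hne
    have := congrFun (h2 p) (σ p)
    rw [Pi.single_eq_same, Pi.single_eq_of_ne hne] at this
    split_ifs at this <;> norm_num at this
  have hσeq : σ = σ' := Equiv.ext h3
  subst hσeq
  have hceq : c = c' := by
    ext i
    have := congrFun (h2 (σ.symm i)) i
    rw [Equiv.apply_symm_apply, Pi.single_eq_same, Pi.single_eq_same] at this
    by_cases h1 : i ∈ c <;> by_cases h2 : i ∈ c' <;> simp [h1, h2] at this ⊢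
  subst hceq
  rfl

theorem toStab_surjective : Function.Surjective toStab := by
  rintro ⟨⟨f, hf⟩, hs⟩
  obtain ⟨σ, hσ, c, hc, formula⟩ := monomial_of_stab f hf (fun v hv => hs v hv)
  refine ⟨⟨⟨σ, hσ⟩, ⟨c, hc⟩⟩, ?_⟩
  apply Subtype.ext
  apply Subtype.ext
  apply Equiv.ext
  intro v
  apply Subtype.ext
  show ((monoEquiv σ hσ c hc v : leechLattice) : GolayPt → ℤ) = _
  rw [monoEquiv_apply]
  exact (formula v).symm

/-- The stabiliser of the standard cross in the automorphism group of the lattice is the monomial group of the code: each of its elements acts as a signed permutation with permutation part in the code's group and sign set a codeword, and it has order 4096 · 244823040. -/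
theorem result : (∀ g : ↥Cfsg.Co0, (∀ v : ↥Cfsg.leechLattice, (v : Cfsg.GolayPt → ℤ) ∈ Cfsg.stdCross → ((g • v : ↥Cfsg.leechLattice) : Cfsg.GolayPt → ℤ) ∈ Cfsg.stdCross) → ∃ f ∈ Cfsg.golayMonomialMaps, ∀ v : ↥Cfsg.leechLattice, ((g • v : ↥Cfsg.leechLattice) : Cfsg.GolayPt → ℤ) = f (v : Cfsg.GolayPt → ℤ)) ∧ Nat.card {g : ↥Cfsg.Co0 // (∀ v : ↥Cfsg.leechLattice, (v : Cfsg.GolayPt → ℤ) ∈ Cfsg.stdCross → ((g • v : ↥Cfsg.leechLattice) : Cfsg.GolayPt → ℤ) ∈ Cfsg.stdCross)} = 4096 * 244823040 := by
  constructor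
  · intro g hg
    obtain ⟨σ, hσ, c, hc, formula⟩ := monomial_of_stab g.1 g.2 (fun v hv => hg v hv)
    exact ⟨signedPerm σ c, ⟨σ, hσ, c, hc, rfl⟩, fun v => formula v⟩
  · rw [← Nat.card_congr (Equiv.ofBijective toStab ⟨toStab_injective, toStab_surjective⟩),
      Nat.card_prod, card_M24, card_supports]

end Cfsg.Agent.S1571
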