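import Cfsg.Statements.S5392
import Cfsg.Agent.Lib.Helper92.ActQ
import Cfsg.Agent.S0398

set_option autoImplicit false
open Cfsg

namespace Cfsg.Agent.S5392

open Cfsg.Agent.Lib.Helper92.LeechCore Cfsg.Agent.Lib.Helper92.MinVec
open Cfsg.Agent.Lib.Helper92.LeechGen Cfsg.Agent.Lib.Helper92.Orbit48
open Cfsg.Agent.Lib.Helper92.Co0Orbit Cfsg.Agent.Lib.Helper92.Shells
open Cfsg.Agent.Lib.Helper92.Cross Cfsg.Agent.Lib.Helper92.ActQ
open Cfsg.Agent.Lib.Helper7.GolayBase
open Cfsg.Agent.S5546

/-! ### Faithfulness -/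

theorem dot_evec (a : GolayPt) (y : GolayPt → ℤ) : dotInt (evec a) y = 8 * y a := by
  unfold dotInt evec
  rw [Finset.sum_eq_single a]
  · simp
  · intro b _ hb
    simp [hb]
  · intro h
    exact absurd (Finset.mem_univ a) h

theorem dot_mvec (s : ℤ) (a b : GolayPt) (y : GolayPt → ℤ) :
    dotInt y (mvec s a b) = 4 * y a + s * (4 * y b) := by
  unfold dotInt mvec
  have : ∀ r : GolayPt, y r * ((if r = a then 4 else 0) + s * (if r = b then 4 else 0))
      = (if r = a then 4 * y a else 0) + (if r = b then s * (4 * y b) else 0) := by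
    intro r
    by_cases h1 : r = a <;> by_cases h2 : r = b
    · subst h1
      subst h2
      simp
      ring
    · subst h1
      simp [h2]
      ring
    · subst h2
      simp [h1]
      ring
    · simp [h1, h2]
  simp_rw [this]
  rw [Finset.sum_add_distrib, Finset.sum_ite_eq' Finset.univ a, Finset.sum_ite_eq' Finset.univ b]
  simp

/-- The minimal vector `4 e_a + s 4 e_b` as a lattice element. -/
def mlat (s : ℤ) (hs : s = 1 ∨ s = -1) (a b : GolayPt) (hab : a ≠ b) : leechLattice :=
  ⟨mvec s a b, mvec_mem s hs a b hab⟩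

theorem triv_central (g : ↥Co0) (h : ∀ v : ↥leechLattice, ∃ w : ↥leechLattice,
    ((g • v : ↥leechLattice) : GolayPt → ℤ) - (v : GolayPt → ℤ) = 2 • (w : GolayPt → ℤ)) :
    g ∈ Subgroup.center ↥Co0 := by
  have key : ∀ v : ↥leechLattice, sqNorm (v : GolayPt → ℤ) ≤ 64 →
      (g • v : ↥leechLattice) = v ∨ (g • v : ↥leechLattice) = -v ∨
        (sqNorm (v : GolayPt → ℤ) = 64 ∧
          dotInt (v : GolayPt → ℤ) ((g • v : ↥leechLattice) : GolayPt → ℤ) = 0) := by
    intro v hv
    obtain ⟨w, hw⟩ := h v
    have := short_congr v.2 (g • v).2 hv (by rw [sqNorm_smul]; exact hv)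
      ⟨-(w : GolayPt → ℤ), neg_mem w.2, by rw [smul_neg, ← hw]; abel⟩
    rcases this with h1 | h1 | h1
    · left
      exact Subtype.ext h1
    · right
      left
      exact Subtype.ext h1
    · right
      right
      exact ⟨h1.1, h1.2.2⟩
  have hdot : ∀ v w : ↥leechLattice, dotInt ((g • v : ↥leechLattice) : GolayPt → ℤ)
      ((g • w : ↥leechLattice) : GolayPt → ℤ) = dotInt (v : GolayPt → ℤ) (w : GolayPt → ℤ) :=
    fun v w => dot_inv g.1 g.2 v w
  -- minimal vectors are fixed up to sign
  have hmin : ∀ (a b : GolayPt) (hab : a ≠ b),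
      g • mlat 1 (Or.inl rfl) a b hab = mlat 1 (Or.inl rfl) a b hab ∨
      g • mlat 1 (Or.inl rfl) a b hab = -mlat 1 (Or.inl rfl) a b hab := by
    intro a b hab
    have h32 : sqNorm ((mlat 1 (Or.inl rfl) a b hab : leechLattice) : GolayPt → ℤ) = 32 :=
      mvec_sq 1 (Or.inl rfl) a b hab
    rcases key (mlat 1 (Or.inl rfl) a b hab) (by rw [h32]; norm_num) with h1 | h1 | h1
    · exact Or.inl h1
    · exact Or.inr h1
    · rw [h32] at h1
      omega
  have h64 : ∀ a : GolayPt, sqNorm ((elat a : leechLattice) : GolayPt → ℤ) = 64 :=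
    fun a => Cfsg.Agent.S0398.sqNorm_evec a
  have hde : ∀ (a b : GolayPt) (hab : a ≠ b), dotInt ((elat a : leechLattice) : GolayPt → ℤ)
      ((mlat 1 (Or.inl rfl) a b hab : leechLattice) : GolayPt → ℤ) = 32 := by
    intro a b hab
    show dotInt (evec a) (mvec 1 a b) = 32
    rw [dot_evec]
    unfold mvec
    simp [hab]
  have hde' : ∀ (a b : GolayPt) (hab : a ≠ b), dotInt ((elat b : leechLattice) : GolayPt → ℤ)
      ((mlat 1 (Or.inl rfl) a b hab : leechLattice) : GolayPt → ℤ) = 32 := by
    intro a b hab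
    show dotInt (evec b) (mvec 1 a b) = 32
    rw [dot_evec]
    unfold mvec
    simp [hab.symm]
  -- the vectors `8 e_a` are fixed up to sign
  have hE : ∀ a : GolayPt, g • elat a = elat a ∨ g • elat a = -elat a := by
    intro a
    rcases key (elat a) (by rw [h64]) with h1 | h1 | h1
    · exact Or.inl h1
    · exact Or.inr h1
    · exfalso
      obtain ⟨-, h0⟩ := h1
      obtain ⟨y, hy⟩ : ∃ y : GolayPt → ℤ, y = ((g • elat a : ↥leechLattice) : GolayPt → ℤ) :=
        ⟨_, rfl⟩
      rw [← hy] at h0
      have h0' : dotInt (evec a) y = 0 := h0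
      rw [dot_evec] at h0'
      have hya : y a = 0 := by omega
      have hb : ∀ b : GolayPt, a ≠ b → y b ^ 2 = 64 := by
        intro b hab
        have h2 := hdot (elat a) (mlat 1 (Or.inl rfl) a b hab)
        rw [hde a b hab, ← hy] at h2
        rcases hmin a b hab with h3 | h3
        · rw [h3] at h2
          have h4 : dotInt y (mvec 1 a b) = 32 := h2
          rw [dot_mvec, hya] at h4
          have : y b = 8 := by omega
          rw [this]
          norm_num
        · rw [h3] at h2
          have h4 : dotInt y (-(mvec 1 a b)) = 32 := h2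
          have h5 : dotInt y (-(mvec 1 a b)) = -dotInt y (mvec 1 a b) := by
            unfold dotInt
            simp
          rw [h5, dot_mvec, hya] at h4
          have : y b = -8 := by omega
          rw [this]
          norm_num
      obtain ⟨s, hs, hs2⟩ := Finset.exists_subset_card_eq (s := ({a} : Finset GolayPt)ᶜ) (n := 2)
        (by rw [Finset.card_compl, card_golayPt, Finset.card_singleton]; norm_num)
      obtain ⟨b, b', hbb, rfl⟩ := Finset.card_eq_two.mp hs2
      have hab : a ≠ b := by
        have := hs (show b ∈ ({b, b'} : Finset GolayPt) by simp)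
        simpa [eq_comm] using this
      have hab' : a ≠ b' := by
        have := hs (show b' ∈ ({b, b'} : Finset GolayPt) by simp)
        simpa [eq_comm] using this
      have hn : sqNorm y = 64 := by
        rw [hy, sqNorm_smul, h64]
      have hle : y b ^ 2 + y b' ^ 2 ≤ sqNorm y := by
        unfold sqNorm
        have e : y b ^ 2 + y b' ^ 2 = ∑ i ∈ ({b, b'} : Finset GolayPt), y i ^ 2 :=
          (Finset.sum_pair (f := fun i => y i ^ 2) hbb).symm
        rw [e]
        exact Finset.sum_le_sum_of_subset_of_nonneg (Finset.subset_univ _)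
          (fun i _ _ => sq_nonneg (y i))
      rw [hb b hab, hb b' hab', hn] at hle
      norm_num at hle
  -- the signs agree
  have hagree : ∀ (a b : GolayPt), a ≠ b → (g • elat a = elat a → g • elat b = elat b) := by
    intro a b hab ha
    have h2 := hdot (elat a) (mlat 1 (Or.inl rfl) a b hab)
    have h3 := hdot (elat b) (mlat 1 (Or.inl rfl) a b hab)
    rw [hde a b hab, ha] at h2
    rw [hde' a b hab] at h3
    have hneg : ∀ u v : GolayPt → ℤ, dotInt u (-v) = -dotInt u v := by
      intro u v
      unfold dotInt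
      simp
    have hneg' : ∀ u v : GolayPt → ℤ, dotInt (-u) v = -dotInt u v := by
      intro u v
      unfold dotInt
      simp
    rcases hmin a b hab with h4 | h4
    · rw [h4] at h3
      rcases hE b with h5 | h5
      · exact h5
      · exfalso
        rw [h5] at h3
        have h6 : dotInt (-(evec b)) (mvec 1 a b) = 32 := h3
        rw [hneg'] at h6
        have h7 := hde' a b hab
        have h8 : dotInt (evec b) (mvec 1 a b) = 32 := h7
        omega
    · exfalso
      rw [h4] at h2
      have h6 : dotInt (evec a) (-(mvec 1 a b)) = 32 := h2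
      rw [hneg] at h6
      have h8 : dotInt (evec a) (mvec 1 a b) = 32 := hde a b hab
      omega
  have hne : ∀ a : GolayPt, elat a ≠ -elat a := by
    intro a h0
    have h1 := congrArg (fun v : ↥leechLattice => (v : GolayPt → ℤ) a) h0
    simp only [AddSubgroup.coe_neg, Pi.neg_apply] at h1
    have h2 : ((elat a : leechLattice) : GolayPt → ℤ) a = 8 := by
      show evec a a = 8
      simp [evec]
    rw [h2] at h1
    norm_num at h1
  have h8 := Cfsg.Agent.S1571.eight_smul g.1 g.2
  rcases hE none with h0 | h0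
  · -- `g = 1`
    have hall : ∀ a : GolayPt, g • elat a = elat a := by
      intro a
      by_cases ha : a = none
      · rw [ha]
        exact h0
      · exact hagree none a (Ne.symm ha) h0
    have hg1 : g = 1 := by
      apply Subtype.ext
      apply Equiv.ext
      intro v
      have h9 := h8 v
      have h10 : ∀ p : GolayPt, (g : Equiv.Perm leechLattice) (elat p) = elat p := hall
      simp only [h10] at h9
      rw [← decomp8'_lat v] at h9
      apply Subtype.ext
      funext p
      have h11 := congrArg (fun w : ↥leechLattice => (w : GolayPt → ℤ) p) h9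
      simp only [AddSubgroup.coe_zsmul, Pi.smul_apply, smul_eq_mul] at h11
      show (((g : Equiv.Perm leechLattice) v : leechLattice) : GolayPt → ℤ) p = _
      simp only [OneMemClass.coe_one, Equiv.Perm.coe_one, id_eq]
      omega
    rw [hg1]
    exact Subgroup.one_mem _
  · -- `g = -1`
    have hall : ∀ a : GolayPt, g • elat a = -elat a := by
      intro a
      rcases hE a with h1 | h1
      · exfalso
        by_cases ha : a = none
        · rw [ha] at h1
          rw [h1] at h0
          exact hne none h0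
        · have := hagree a none ha h1
          rw [this] at h0
          exact hne none h0
      · exact h1
    have hg1 : g = Cfsg.Agent.S0398.negC := by
      apply Subtype.ext
      apply Equiv.ext
      intro v
      have h9 := h8 v
      have h10 : ∀ p : GolayPt, (g : Equiv.Perm leechLattice) (elat p) = -elat p := hall
      simp only [h10, smul_neg, Finset.sum_neg_distrib] at h9
      rw [← decomp8'_lat v] at h9
      apply Subtype.ext
      funext p
      have h11 := congrArg (fun w : ↥leechLattice => (w : GolayPt → ℤ) p) h9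
      simp only [AddSubgroup.coe_zsmul, AddSubgroup.coe_neg, Pi.smul_apply, Pi.neg_apply,
        smul_eq_mul] at h11
      show (((g : Equiv.Perm leechLattice) v : leechLattice) : GolayPt → ℤ) p
        = ((Cfsg.Agent.Lib.Helper93.Monomial.negEquiv v : leechLattice) : GolayPt → ℤ) p
      rw [Cfsg.Agent.Lib.Helper93.Monomial.negEquiv_apply, Pi.neg_apply]
      omega
    rw [hg1]
    exact Cfsg.Agent.S0398.negC_central

/-! ### Irreducibility -/

theorem w33_diff {R : Finset GolayPt} {j j' : GolayPt} (hj : j ∉ R) (hj' : j' ∉ R)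
    (hjj : j ≠ j') : w33 (insert j R) - w33 (insert j' R) = mvec (-1) j' j := by
  funext i
  simp only [Pi.sub_apply]
  unfold w33 mvec
  by_cases h1 : i = j
  · subst h1
    simp [hj, hjj]
  · by_cases h2 : i = j'
    · subst h2
      simp [hj', h1]
    · by_cases h3 : i ∈ R <;> simp [h1, h2, h3]

theorem w33_lat {J : Finset GolayPt} (hJ : J.card % 2 = 1) : w33 J ∈ leechLattice := by
  have := w33_mem empty_mem hJ
  rwa [tw_empty] at this

theorem exists_min_of (M : AddSubgroup (GolayPt → ℤ)) (R : Finset GolayPt) (j j' : GolayPt)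
    (hj : j ∉ R) (hj' : j' ∉ R) (hjj : j ≠ j') (h1 : w33 (insert j R) ∈ M)
    (h2 : w33 (insert j' R) ∈ M) : ∃ m ∈ M, sqNorm m = 32 :=
  ⟨mvec (-1) j' j, by rw [← w33_diff hj hj' hjj]; exact sub_mem h1 h2,
    mvec_sq (-1) (Or.inr rfl) j' j hjj.symm⟩

theorem irred (M : AddSubgroup (GolayPt → ℤ)) (h2 : ∀ v ∈ leechLattice, (2 : ℤ) • v ∈ M)
    (hM : M ≤ leechLattice)
    (hinv : ∀ g : ↥Co0, ∀ v : ↥leechLattice, (v : GolayPt → ℤ) ∈ M →
      ((g • v : ↥leechLattice) : GolayPt → ℤ) ∈ M) :
    (∀ x ∈ M, ∃ w ∈ leechLattice, x = (2 : ℤ) • w) ∨ M = leechLattice := by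
  by_cases hall : ∀ x ∈ M, ∃ w ∈ leechLattice, x = (2 : ℤ) • w
  · exact Or.inl hall
  right
  rw [not_forall] at hall
  obtain ⟨x, hall⟩ := hall
  rw [not_forall] at hall
  obtain ⟨hxM, hx⟩ := hall
  have h2' : ∀ z ∈ leechLattice, 2 • z ∈ M := by
    intro z hz
    have := h2 z hz
    rwa [two_zsmul, ← two_nsmul] at this
  have hRv : ∀ u v : GolayPt → ℤ, Rv u v → u ∈ M → v ∈ M := by
    rintro u v ⟨f, hf, hu, hv, e⟩ huM
    have := hinv ⟨f, hf⟩ ⟨u, hu⟩ huM
    have e' : ((⟨f, hf⟩ : ↥Co0) • (⟨u, hu⟩ : ↥leechLattice)) = ⟨v, hv⟩ := e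
    rw [e'] at this
    exact this
  have hRc : ∀ u v : GolayPt → ℤ, Rc u v → u ∈ M → v ∈ M := by
    rintro u v ⟨y', huy, z, hz, e⟩ huM
    have h1 := hRv u y' huy huM
    have : v = y' - 2 • z := by
      rw [← e]
      abel
    rw [this]
    exact sub_mem h1 (h2' z hz)
  have hnorms : ∀ y ∈ leechLattice, y ≠ 0 → sqNorm y ≤ 64 →
      sqNorm y = 32 ∨ sqNorm y = 48 ∨ sqNorm y = 64 := by
    intro y hyL hy0 hyn
    have h32 := min_norm hyL hy0
    obtain ⟨k, hk⟩ := sqNorm_dvd16 hyL
    omega
  have hmin : ∃ m ∈ M, sqNorm m = 32 := by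
    obtain ⟨y, hyL, hyn, z, hz, e⟩ := exists_short (hM hxM)
    have hyM : y ∈ M := by
      have : y = x - 2 • z := by
        rw [← e]
        abel
      rw [this]
      exact sub_mem hxM (h2' z hz)
    have hy0 : y ≠ 0 := by
      rintro rfl
      apply hx
      refine ⟨z, hz, ?_⟩
      rw [sub_zero] at e
      rw [e, two_zsmul, two_nsmul]
    rcases hnorms y hyL hy0 hyn with h | h | h
    · exact ⟨y, hyM, h⟩
    · have hall48 : ∀ v ∈ leechLattice, sqNorm v = 48 → v ∈ M := fun v hv hn =>
        hRv y v ((all48 hyL h).trans (all48 hv hn).symm) hyM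
      have c1 : (insert (pt 2) ({pt 0, pt 1} : Finset GolayPt)).card = 3 := by decide
      have c2 : (insert (pt 3) ({pt 0, pt 1} : Finset GolayPt)).card = 3 := by decide
      refine exists_min_of M {pt 0, pt 1} (pt 2) (pt 3) (by decide) (by decide) (by decide)
        (hall48 _ (w33_lat (by rw [c1])) (by rw [sqNorm_w33, c1]; norm_num))
        (hall48 _ (w33_lat (by rw [c2])) (by rw [sqNorm_w33, c2]; norm_num))
    · have hall64 : ∀ v ∈ leechLattice, sqNorm v = 64 → v ∈ M := fun v hv hn =>
        hRc y v (trans64 hyL h hv hn) hyM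
      have c1 : (insert (pt 2) ({pt 0, pt 1, pt 4, pt 5} : Finset GolayPt)).card = 5 := by decide
      have c2 : (insert (pt 3) ({pt 0, pt 1, pt 4, pt 5} : Finset GolayPt)).card = 5 := by decide
      refine exists_min_of M {pt 0, pt 1, pt 4, pt 5} (pt 2) (pt 3) (by decide) (by decide)
        (by decide)
        (hall64 _ (w33_lat (by rw [c1])) (by rw [sqNorm_w33, c1]; norm_num))
        (hall64 _ (w33_lat (by rw [c2])) (by rw [sqNorm_w33, c2]; norm_num))
  obtain ⟨m, hmM, hmn⟩ := hmin
  have hmL := hM hmM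
  have hall32 : ∀ v ∈ leechLattice, sqNorm v = 32 → v ∈ M := fun v hv hn =>
    hRv m v ((all32 hmL hmn).trans (all32 hv hn).symm) hmM
  have hne : (none : GolayPt) ≠ pt 0 := by decide
  have he : evec none ∈ M := by
    rw [evec_eq none (pt 0) hne]
    exact add_mem (hall32 _ (mvec_mem 1 (Or.inl rfl) _ _ hne) (mvec_sq 1 (Or.inl rfl) _ _ hne))
      (hall32 _ (mvec_mem (-1) (Or.inr rfl) _ _ hne) (mvec_sq (-1) (Or.inr rfl) _ _ hne))
  have hw5 : w5 none ∈ M := by
    have : w5 none = w3 none + evec none := by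
      funext i
      unfold w5 w3 evec
      simp only [Pi.add_apply]
      split_ifs <;> norm_num
    rw [this]
    exact add_mem (hall32 _ (w3_mem none) (sqNorm_w3 none)) he
  have hw5L : w5 none ∈ leechLattice := by
    have := w5_mem empty_mem none
    rwa [tw_empty] at this
  have hall48 : ∀ v ∈ leechLattice, sqNorm v = 48 → v ∈ M := fun v hv hn =>
    hRv (w5 none) v ((all48 hw5L (sqNorm_w5 none)).trans (all48 hv hn).symm) hw5
  have hall64 : ∀ v ∈ leechLattice, sqNorm v = 64 → v ∈ M := fun v hv hn =>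
    hRc (evec none) v (trans64 (evec_mem none) (Cfsg.Agent.S0398.sqNorm_evec none) hv hn) he
  apply le_antisymm hM
  intro v hv
  obtain ⟨y, hyL, hyn, z, hz, e⟩ := exists_short hv
  have hyM : y ∈ M := by
    by_cases hy0 : y = 0
    · rw [hy0]
      exact zero_mem M
    rcases hnorms y hyL hy0 hyn with h | h | h
    · exact hall32 y hyL h
    · exact hall48 y hyL h
    · exact hall64 y hyL h
  have : v = y + 2 • z := by
    rw [← e]
    abel
  rw [this]
  exact add_mem hyM (h2' z hz)

/-- The Leech lattice modulo twice itself is a faithful irreducible module for the first Conway group: an automorphism of the rank-24 lattice built from the length-24 code that moves every lattice vector only by twice a lattice vector lies in the centre of the automorphism group (the centre consists of ±1, which act trivially there, so the kernel is exactly the centre), and an additive subgroup lying between twice the lattice and the lattice that is invariant under all lattice automorphisms is one of the two. -/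
theorem result : (∀ g : ↥Cfsg.Co0, (∀ v : ↥Cfsg.leechLattice, ∃ w : ↥Cfsg.leechLattice, ((g • v : ↥Cfsg.leechLattice) : Cfsg.GolayPt → ℤ) - (v : Cfsg.GolayPt → ℤ) = 2 • (w : Cfsg.GolayPt → ℤ)) → g ∈ Subgroup.center ↥Cfsg.Co0) ∧ ∀ M : AddSubgroup (Cfsg.GolayPt → ℤ), (∀ v ∈ Cfsg.leechLattice, (2 : ℤ) • v ∈ M) → M ≤ Cfsg.leechLattice → (∀ g : ↥Cfsg.Co0, ∀ v : ↥Cfsg.leechLattice, (v : Cfsg.GolayPt → ℤ) ∈ M → ((g • v : ↥Cfsg.leechLattice) : Cfsg.GolayPt → ℤ) ∈ M) → (∀ x ∈ M, ∃ w ∈ Cfsg.leechLattice, x = (2 : ℤ) • w) ∨ M = Cfsg.leechLattice := by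
  exact ⟨triv_central, irred⟩

end Cfsg.Agent.S5392
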