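import Cfsg.Statements.S5552
import Cfsg.Agent.Lib.Helper92.ActQ
import Cfsg.Agent.S5392

set_option autoImplicit false
open Cfsg

namespace Cfsg.Agent.S5552

open Cfsg.Agent.Lib.Helper92.LeechCore Cfsg.Agent.Lib.Helper92.MinVec
open Cfsg.Agent.Lib.Helper92.LeechGen Cfsg.Agent.Lib.Helper92.Orbit48
open Cfsg.Agent.Lib.Helper92.Co0Orbit Cfsg.Agent.Lib.Helper92.Shells
open Cfsg.Agent.Lib.Helper92.Cross Cfsg.Agent.Lib.Helper92.ActQ
open Cfsg.Agent.Lib.Helper7.GolayBase Cfsg.Agent.Lib.Helper7.M24Core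
open Cfsg.Agent.Lib.Helper7.M24Octad
open Cfsg.Agent.S5546 Cfsg.Agent.S5392

theorem dot_comm (x y : GolayPt → ℤ) : dotInt x y = dotInt y x := by
  unfold dotInt
  exact Finset.sum_congr rfl (fun i _ => mul_comm _ _)

theorem dot_add_left (x y z : GolayPt → ℤ) : dotInt (x + y) z = dotInt x z + dotInt y z := by
  unfold dotInt
  rw [← Finset.sum_add_distrib]
  exact Finset.sum_congr rfl (fun i _ => by simp only [Pi.add_apply]; ring)

theorem dot_two_smul (y z : GolayPt → ℤ) : dotInt y (2 • z) = 2 * dotInt y z := by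
  unfold dotInt
  rw [Finset.mul_sum]
  exact Finset.sum_congr rfl (fun i _ => by simp only [Pi.smul_apply]; ring)

theorem norm_congr {x y z : GolayPt → ℤ} (hy : y ∈ leechLattice) (hz : z ∈ leechLattice)
    (e : x - y = 2 • z) : sqNorm x % 32 = sqNorm y % 32 := by
  have hx : x = y + 2 • z := by
    rw [← e]
    abel
  rw [hx, Cfsg.Agent.Lib.Helper92.LeechCore.sqNorm_add, dot_two_smul, sqNorm_two_smul]
  obtain ⟨k, hk⟩ := dot_dvd8 hy hz
  obtain ⟨l, hl⟩ := sqNorm_dvd16 hz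
  rw [hk, hl]
  omega

theorem mvec_left (s : ℤ) {p q : GolayPt} (h : p ≠ q) : mvec s p q p = 4 := by
  unfold mvec
  simp [h]

theorem mvec_right (s : ℤ) {p q : GolayPt} (h : p ≠ q) : mvec s p q q = s * 4 := by
  unfold mvec
  simp [h.symm]

theorem mvec_other (s : ℤ) {p q r : GolayPt} (h1 : r ≠ p) (h2 : r ≠ q) : mvec s p q r = 0 := by
  unfold mvec
  simp [h1, h2]

/-- A configuration of type `A_3`: the seven sums have sums of squares 32, except one with 64. -/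
theorem rel1 {a b c d : GolayPt} (hab : a ≠ b) (hac : a ≠ c) (had : a ≠ d) (hbc : b ≠ c)
    (hbd : b ≠ d) (hcd : c ≠ d) :
    sqNorm (mvec 1 a b + mvec (-1) c a) = 32 ∧ sqNorm (mvec 1 a b + mvec (-1) d b) = 32 ∧
      sqNorm (mvec (-1) c a + mvec (-1) d b) = 64 ∧
      sqNorm (mvec 1 a b + mvec (-1) c a + mvec (-1) d b) = 32 := by
  have n1 : sqNorm (mvec 1 a b) = 32 := mvec_sq 1 (Or.inl rfl) a b hab
  have n2 : sqNorm (mvec (-1) c a) = 32 := mvec_sq (-1) (Or.inr rfl) c a hac.symm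
  have n3 : sqNorm (mvec (-1) d b) = 32 := mvec_sq (-1) (Or.inr rfl) d b hbd.symm
  have d1 : dotInt (mvec 1 a b) (mvec (-1) c a) = -16 := by
    rw [dot_mvec, mvec_other 1 hac.symm hbc.symm, mvec_left 1 hab]
    norm_num
  have d2 : dotInt (mvec 1 a b) (mvec (-1) d b) = -16 := by
    rw [dot_mvec, mvec_other 1 had.symm hbd.symm, mvec_right 1 hab]
    norm_num
  have d3 : dotInt (mvec (-1) c a) (mvec (-1) d b) = 0 := by
    rw [dot_mvec, mvec_other (-1) hcd.symm had.symm, mvec_other (-1) hbc hab.symm]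
    norm_num
  refine ⟨?_, ?_, ?_, ?_⟩
  · rw [Cfsg.Agent.Lib.Helper92.LeechCore.sqNorm_add, n1, n2, d1]
    norm_num
  · rw [Cfsg.Agent.Lib.Helper92.LeechCore.sqNorm_add, n1, n3, d2]
    norm_num
  · rw [Cfsg.Agent.Lib.Helper92.LeechCore.sqNorm_add, n2, n3, d3]
    norm_num
  · rw [Cfsg.Agent.Lib.Helper92.LeechCore.sqNorm_add, dot_add_left, Cfsg.Agent.Lib.Helper92.LeechCore.sqNorm_add, n1, n2, n3, d1, d2, d3]
    norm_num

/-- A configuration with sums of squares 32, 32, 32, 32, 32, 80, 48. -/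
theorem rel2 {a b c : GolayPt} {O' : Finset GolayPt} (hab : a ≠ b) (ha : a ∈ O') (hb : b ∈ O')
    (hc : c ∉ O') (h8 : O'.card = 8) :
    sqNorm (mvec 1 a b + mvec (-1) c a) = 32 ∧ sqNorm (mvec 1 a b + shape 2 O' {a, b}) = 32 ∧
      sqNorm (mvec (-1) c a + shape 2 O' {a, b}) = 80 ∧
      sqNorm (mvec 1 a b + mvec (-1) c a + shape 2 O' {a, b}) = 48 := by
  have hac : a ≠ c := fun h => hc (h ▸ ha)
  have hbc : b ≠ c := fun h => hc (h ▸ hb)
  have hsub : ({a, b} : Finset GolayPt) ⊆ O' := by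
    intro i hi
    rw [Finset.mem_insert, Finset.mem_singleton] at hi
    rcases hi with rfl | rfl
    · exact ha
    · exact hb
  have n1 : sqNorm (mvec 1 a b) = 32 := mvec_sq 1 (Or.inl rfl) a b hab
  have n2 : sqNorm (mvec (-1) c a) = 32 := mvec_sq (-1) (Or.inr rfl) c a hac.symm
  have n3 : sqNorm (shape 2 O' {a, b}) = 32 := by
    rw [sqNorm_shape 2 hsub, h8]
    norm_num
  have wa : shape 2 O' {a, b} a = -2 := by
    unfold shape
    simp
  have wb : shape 2 O' {a, b} b = -2 := by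
    unfold shape
    simp
  have wc : shape 2 O' {a, b} c = 0 := by
    unfold shape
    simp [hac.symm, hbc.symm, hc]
  have d1 : dotInt (mvec 1 a b) (mvec (-1) c a) = -16 := by
    rw [dot_mvec, mvec_other 1 hac.symm hbc.symm, mvec_left 1 hab]
    norm_num
  have d2 : dotInt (mvec 1 a b) (shape 2 O' {a, b}) = -16 := by
    rw [dot_comm, dot_mvec, wa, wb]
    norm_num
  have d3 : dotInt (mvec (-1) c a) (shape 2 O' {a, b}) = 8 := by
    rw [dot_comm, dot_mvec, wa, wc]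
    norm_num
  refine ⟨?_, ?_, ?_, ?_⟩
  · rw [Cfsg.Agent.Lib.Helper92.LeechCore.sqNorm_add, n1, n2, d1]
    norm_num
  · rw [Cfsg.Agent.Lib.Helper92.LeechCore.sqNorm_add, n1, n3, d2]
    norm_num
  · rw [Cfsg.Agent.Lib.Helper92.LeechCore.sqNorm_add, n2, n3, d3]
    norm_num
  · rw [Cfsg.Agent.Lib.Helper92.LeechCore.sqNorm_add, dot_add_left, Cfsg.Agent.Lib.Helper92.LeechCore.sqNorm_add, n1, n2, n3, d1, d2, d3]
    norm_num

theorem cast_even (n : ℤ) (h : n % 2 = 0) : ((n : ℤ) : ZMod 2) = 0 :=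
  (ZMod.intCast_zmod_eq_zero_iff_dvd n 2).mpr (Int.dvd_of_emod_eq_zero h)

theorem cast_odd (n : ℤ) (h : n % 2 = 1) : ((n : ℤ) : ZMod 2) = 1 := by
  have h1 : ((n - 1 : ℤ) : ZMod 2) = 0 :=
    (ZMod.intCast_zmod_eq_zero_iff_dvd (n - 1) 2).mpr (Int.dvd_of_emod_eq_zero (by omega))
  rw [Int.cast_sub, Int.cast_one, sub_eq_zero] at h1
  exact h1

/-- On the Leech lattice of the definitions, let Q be a function to the field with two elements that is constant on cosets of twice the lattice, is a quadratic form there (Q(u+v+w) + Q(u) + Q(v) + Q(w) = Q(u+v) + Q(u+w) + Q(v+w) for all u, v, w), is invariant under every lattice automorphism, and is not identically zero. Then Q(v) is the squared length of v divided by 16, reduced modulo 2, for every lattice vector v (squared lengths of lattice vectors are multiples of 16). -/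
theorem result (Q : ↥Cfsg.leechLattice → ZMod 2) (hcoset : ∀ v w : ↥Cfsg.leechLattice, Q (v + (w + w)) = Q v) (hquad : ∀ u v w : ↥Cfsg.leechLattice, Q (u + v + w) + Q u + Q v + Q w = Q (u + v) + Q (u + w) + Q (v + w)) (hinv : ∀ (g : ↥Cfsg.Co0) (v : ↥Cfsg.leechLattice), Q (g • v) = Q v) (hne : ∃ v : ↥Cfsg.leechLattice, Q v ≠ 0) (v : ↥Cfsg.leechLattice) : Q v = ((Cfsg.sqNorm (v : Cfsg.GolayPt → ℤ) / 16 : ℤ) : ZMod 2) := by
  have hQ0 : Q 0 = 0 := by
    have h := hquad 0 0 0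
    simp only [add_zero] at h
    exact (by decide : ∀ m : ZMod 2, m + m + m + m = m + m + m → m = 0) _ h
  have hRv : ∀ (x y : ↥leechLattice), Rv (x : GolayPt → ℤ) (y : GolayPt → ℤ) → Q x = Q y := by
    rintro x y ⟨f, hf, hx, hy, e⟩
    have h := hinv ⟨f, hf⟩ x
    have e' : (⟨f, hf⟩ : ↥Co0) • x = y := e
    rw [e'] at h
    exact h.symm
  have hcong : ∀ (x y : ↥leechLattice) (z : GolayPt → ℤ), z ∈ leechLattice →
      (x : GolayPt → ℤ) - (y : GolayPt → ℤ) = 2 • z → Q x = Q y := by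
    intro x y z hz e
    have h : x = y + ((⟨z, hz⟩ : ↥leechLattice) + ⟨z, hz⟩) := by
      apply Subtype.ext
      show (x : GolayPt → ℤ) = (y : GolayPt → ℤ) + (z + z)
      rw [← two_nsmul, ← e]
      abel
    rw [h, hcoset]
  have hRc : ∀ (x y : ↥leechLattice), Rc (x : GolayPt → ℤ) (y : GolayPt → ℤ) → Q x = Q y := by
    rintro x y ⟨y', hxy', z, hz, e⟩
    have hy' := Rv_mem_right hxy'
    rw [hRv x ⟨y', hy'⟩ hxy']
    exact hcong ⟨y', hy'⟩ y z hz e
  have hw5L : w5 none ∈ leechLattice := by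
    have := w5_mem empty_mem none
    rwa [tw_empty] at this
  obtain ⟨M0, hM0⟩ : ∃ M0 : ↥leechLattice, sqNorm (M0 : GolayPt → ℤ) = 32 :=
    ⟨⟨w3 none, w3_mem none⟩, sqNorm_w3 none⟩
  obtain ⟨T0, hT0⟩ : ∃ T0 : ↥leechLattice, sqNorm (T0 : GolayPt → ℤ) = 48 :=
    ⟨⟨w5 none, hw5L⟩, sqNorm_w5 none⟩
  obtain ⟨F0, hF0⟩ : ∃ F0 : ↥leechLattice, sqNorm (F0 : GolayPt → ℤ) = 64 :=
    ⟨elat none, Cfsg.Agent.S0398.sqNorm_evec none⟩
  have v32 : ∀ x : ↥leechLattice, sqNorm (x : GolayPt → ℤ) = 32 → Q x = Q M0 := fun x hx =>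
    hRv x M0 ((all32 x.2 hx).trans (all32 M0.2 hM0).symm)
  have v48 : ∀ x : ↥leechLattice, sqNorm (x : GolayPt → ℤ) = 48 → Q x = Q T0 := fun x hx =>
    hRv x T0 ((all48 x.2 hx).trans (all48 T0.2 hT0).symm)
  have v64 : ∀ x : ↥leechLattice, sqNorm (x : GolayPt → ℤ) = 64 → Q x = Q F0 := fun x hx =>
    hRc x F0 (trans64 x.2 hx F0.2 hF0)
  have v16 : ∀ x : ↥leechLattice, sqNorm (x : GolayPt → ℤ) % 32 = 16 → Q x = Q T0 := by
    intro x hx
    obtain ⟨y, hyL, hyn, z, hz, e⟩ := exists_short x.2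
    have h1 := norm_congr hyL hz e
    rw [hx] at h1
    have hy0 : y ≠ 0 := by
      rintro rfl
      rw [Cfsg.Agent.Lib.Helper92.Conway.sqNorm_zero'] at h1
      norm_num at h1
    have h32 := min_norm hyL hy0
    obtain ⟨k, hk⟩ := sqNorm_dvd16 hyL
    have h48 : sqNorm y = 48 := by omega
    rw [hcong x ⟨y, hyL⟩ z hz e]
    exact v48 ⟨y, hyL⟩ h48
  have h01 : pt 0 ≠ pt 1 := by decide
  have h04 : pt 0 ≠ pt 4 := by decide
  have h06 : pt 0 ≠ pt 6 := by decide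
  have h14 : pt 1 ≠ pt 4 := by decide
  have h16 : pt 1 ≠ pt 6 := by decide
  have h46 : pt 4 ≠ pt 6 := by decide
  obtain ⟨U, hU⟩ : ∃ U : ↥leechLattice, (U : GolayPt → ℤ) = mvec 1 (pt 0) (pt 1) :=
    ⟨⟨_, mvec_mem 1 (Or.inl rfl) _ _ h01⟩, rfl⟩
  obtain ⟨V, hV⟩ : ∃ V : ↥leechLattice, (V : GolayPt → ℤ) = mvec (-1) (pt 4) (pt 0) :=
    ⟨⟨_, mvec_mem (-1) (Or.inr rfl) _ _ h04.symm⟩, rfl⟩
  have nU : sqNorm (U : GolayPt → ℤ) = 32 := by
    rw [hU]
    exact mvec_sq 1 (Or.inl rfl) _ _ h01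
  have nV : sqNorm (V : GolayPt → ℤ) = 32 := by
    rw [hV]
    exact mvec_sq (-1) (Or.inr rfl) _ _ h04.symm
  -- type 4 has value 0
  have q4 : Q F0 = 0 := by
    obtain ⟨W, hW⟩ : ∃ W : ↥leechLattice, (W : GolayPt → ℤ) = mvec (-1) (pt 6) (pt 1) :=
      ⟨⟨_, mvec_mem (-1) (Or.inr rfl) _ _ h16.symm⟩, rfl⟩
    have nW : sqNorm (W : GolayPt → ℤ) = 32 := by
      rw [hW]
      exact mvec_sq (-1) (Or.inr rfl) _ _ h16.symm
    obtain ⟨r1, r2, r3, r4⟩ := rel1 h01 h04 h06 h14 h16 h46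
    rw [← hU, ← hV] at r1
    rw [← hU, ← hW] at r2
    rw [← hV, ← hW] at r3
    rw [← hU, ← hV, ← hW] at r4
    have h := hquad U V W
    rw [v32 (U + V + W) r4, v32 U nU, v32 V nV, v32 W nW, v32 (U + V) r1, v32 (U + W) r2,
      v64 (V + W) r3] at h
    exact (by decide : ∀ m f : ZMod 2, m + m + m + m = m + m + f → f = 0) _ _ h
  -- type 2 has value 0
  have q2 : Q M0 = 0 := by
    have hO := mk_O_mem
    have hOc : IsCW (mk O) := hO.1
    have hO8 : (mk O).card = 8 := hO.2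
    have m0 : pt 0 ∈ mk O := by
      rw [mem_mk, idx_pt (by norm_num)]
      decide
    have m1 : pt 1 ∈ mk O := by
      rw [mem_mk, idx_pt (by norm_num)]
      decide
    have m4 : pt 4 ∉ mk O := by
      rw [mem_mk, idx_pt (by norm_num)]
      decide
    have hsub : ({pt 0, pt 1} : Finset GolayPt) ⊆ mk O := by
      intro i hi
      rw [Finset.mem_insert, Finset.mem_singleton] at hi
      rcases hi with rfl | rfl
      · exact m0
      · exact m1
    obtain ⟨W, hW⟩ : ∃ W : ↥leechLattice, (W : GolayPt → ℤ) = shape 2 (mk O) {pt 0, pt 1} :=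
      ⟨⟨_, shape2_mem hOc hsub ⟨1, Finset.card_pair h01⟩⟩, rfl⟩
    have nW : sqNorm (W : GolayPt → ℤ) = 32 := by
      rw [hW, sqNorm_shape 2 hsub, hO8]
      norm_num
    obtain ⟨r1, r2, r3, r4⟩ := rel2 h01 m0 m1 m4 hO8
    rw [← hU, ← hV] at r1
    rw [← hU, ← hW] at r2
    rw [← hV, ← hW] at r3
    rw [← hU, ← hV, ← hW] at r4
    have h := hquad U V W
    rw [v48 (U + V + W) r4, v32 U nU, v32 V nV, v32 W nW, v32 (U + V) r1, v32 (U + W) r2,
      v16 (V + W) (by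
        have e : ((V + W : ↥leechLattice) : GolayPt → ℤ) = (V : GolayPt → ℤ) + (W : GolayPt → ℤ) :=
          rfl
        rw [e, r3]
        norm_num)] at h
    exact (by decide : ∀ m t : ZMod 2, t + m + m + m = m + m + t → m = 0) _ _ h
  -- the short representative
  have hshort : ∀ x : ↥leechLattice, ∃ y : ↥leechLattice, Q x = Q y ∧
      sqNorm (x : GolayPt → ℤ) % 32 = sqNorm (y : GolayPt → ℤ) % 32 ∧
      ((y : GolayPt → ℤ) = 0 ∨ sqNorm (y : GolayPt → ℤ) = 32 ∨ sqNorm (y : GolayPt → ℤ) = 48 ∨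
        sqNorm (y : GolayPt → ℤ) = 64) := by
    intro x
    obtain ⟨y, hyL, hyn, z, hz, e⟩ := exists_short x.2
    refine ⟨⟨y, hyL⟩, hcong x ⟨y, hyL⟩ z hz e, norm_congr hyL hz e, ?_⟩
    by_cases hy0 : y = 0
    · exact Or.inl hy0
    · right
      have h32 := min_norm hyL hy0
      obtain ⟨k, hk⟩ := sqNorm_dvd16 hyL
      show sqNorm y = 32 ∨ sqNorm y = 48 ∨ sqNorm y = 64
      omega
  -- type 3 has value 1
  have q3 : Q T0 = 1 := by
    obtain ⟨x, hx⟩ := hne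
    obtain ⟨y, hxy, -, hy⟩ := hshort x
    rw [hxy] at hx
    apply (by decide : ∀ t : ZMod 2, t ≠ 0 → t = 1)
    rcases hy with h | h | h | h
    · exfalso
      apply hx
      have : y = 0 := Subtype.ext h
      rw [this, hQ0]
    · exfalso
      exact hx ((v32 y h).trans q2)
    · rw [← v48 y h]
      exact hx
    · exfalso
      exact hx ((v64 y h).trans q4)
  obtain ⟨y, hxy, hmod, hy⟩ := hshort v
  obtain ⟨k, hk⟩ := sqNorm_dvd16 v.2
  rw [hxy]
  rcases hy with h | h | h | h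
  · have h0 : y = 0 := Subtype.ext h
    rw [h, Cfsg.Agent.Lib.Helper92.Conway.sqNorm_zero'] at hmod
    rw [h0, hQ0]
    exact (cast_even _ (by omega)).symm
  · rw [h] at hmod
    rw [v32 y h, q2]
    exact (cast_even _ (by omega)).symm
  · rw [h] at hmod
    rw [v48 y h, q3]
    exact (cast_odd _ (by omega)).symm
  · rw [h] at hmod
    rw [v64 y h, q4]
    exact (cast_even _ (by omega)).symm

end Cfsg.Agent.S5552
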