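import Cfsg.Statements.S1579
import Cfsg.Agent.Lib.Helper92.Pairs

set_option autoImplicit false
open Cfsg

namespace Cfsg.Agent.S1579

/-- The stabiliser of a vector of customary norm 6 is transitive on the 552 minimal vectors that complete it to a sum of two minimal vectors. -/
theorem result (u v v' : ↥Cfsg.leechLattice) (hu : Cfsg.sqNorm (u : Cfsg.GolayPt → ℤ) = 48) (hv : Cfsg.sqNorm (v : Cfsg.GolayPt → ℤ) = 32 ∧ Cfsg.sqNorm ((u - v) : Cfsg.GolayPt → ℤ) = 32) (hv' : Cfsg.sqNorm (v' : Cfsg.GolayPt → ℤ) = 32 ∧ Cfsg.sqNorm ((u - v') : Cfsg.GolayPt → ℤ) = 32) : ∃ g : ↥Cfsg.Co0, g • u = u ∧ g • v = v' := by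
  have key : ∀ x : ↥Cfsg.leechLattice, Cfsg.sqNorm (x : Cfsg.GolayPt → ℤ) = 32 →
      Cfsg.sqNorm ((u - x) : Cfsg.GolayPt → ℤ) = 32 →
      Cfsg.sqNorm ((u - x : ↥Cfsg.leechLattice) : Cfsg.GolayPt → ℤ) = 32 ∧
      Cfsg.dotInt (x : Cfsg.GolayPt → ℤ) ((u - x : ↥Cfsg.leechLattice) : Cfsg.GolayPt → ℤ)
        = -8 := by
    intro x hx hux
    refine ⟨hux, ?_⟩
    have h1 : (u : Cfsg.GolayPt → ℤ) = (x : Cfsg.GolayPt → ℤ)
        + ((u - x : ↥Cfsg.leechLattice) : Cfsg.GolayPt → ℤ) := by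
      rw [AddSubgroup.coe_sub]
      abel
    have h2 := Cfsg.Agent.Lib.Helper92.LeechCore.sqNorm_add (x : Cfsg.GolayPt → ℤ)
      ((u - x : ↥Cfsg.leechLattice) : Cfsg.GolayPt → ℤ)
    rw [← h1, hu, hx] at h2
    have h3 : Cfsg.sqNorm ((u - x : ↥Cfsg.leechLattice) : Cfsg.GolayPt → ℤ) = 32 := hux
    rw [h3] at h2
    omega
  obtain ⟨a1, a2⟩ := key v hv.1 hv.2
  obtain ⟨b1, b2⟩ := key v' hv'.1 hv'.2
  obtain ⟨g1, c1, d1⟩ := Cfsg.Agent.Lib.Helper92.Pairs.pair8 v (u - v) hv.1 a1 a2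
  obtain ⟨g2, c2, d2⟩ := Cfsg.Agent.Lib.Helper92.Pairs.pair8 v' (u - v') hv'.1 b1 b2
  have e1 : (g2⁻¹ * g1) • v = v' := by
    rw [mul_smul, c1, inv_smul_eq_iff, c2]
  have e2 : (g2⁻¹ * g1) • (u - v) = u - v' := by
    rw [mul_smul, d1, inv_smul_eq_iff, d2]
  refine ⟨g2⁻¹ * g1, ?_, e1⟩
  have h : u = v + (u - v) := by abel
  rw [h, Cfsg.Agent.Lib.Helper92.Frames.smul_add', e1, e2]
  abel

end Cfsg.Agent.S1579
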