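import Cfsg.Statements.S1584
import Cfsg.Agent.Lib.Helper27.CoStd
import Cfsg.Agent.Lib.Helper27.CertM22

set_option autoImplicit false
open Cfsg

namespace Cfsg.Agent.S1584

open Cfsg.Agent.Lib.Helper27 Cfsg.Agent.Lib.Helper27.Bits Cfsg.Agent.Lib.Helper27.Pk
open Cfsg.Agent.Lib.Helper27.MinTab Cfsg.Agent.Lib.Helper27.MinEnum Cfsg.Agent.Lib.Helper27.MinFast
open Cfsg.Agent.Lib.Helper27.MinAll Cfsg.Agent.Lib.Helper27.LDot Cfsg.Agent.Lib.Helper27.LMat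
open Cfsg.Agent.Lib.Helper27.Spread Cfsg.Agent.Lib.Helper27.Co0Act Cfsg.Agent.Lib.Helper27.LApp
open Cfsg.Agent.Lib.Helper27.OrbCert Cfsg.Agent.Lib.Helper27.CoGlue
open Cfsg.Agent.Lib.Helper27.CertBase Cfsg.Agent.Lib.Helper27.CoStd

/-- A vector of the set of 100 is the standard one or has inner product 8 or 16 with it. -/
theorem cover (z : GolayPt → ℤ) (hz : z ∈ Om CertHS.cH) :
    z = vecB Y0 ∨ dotInt (vecB Y0) z = 8 ∨ dotInt (vecB Y0) z = 16 := by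
  have hq : ∀ k, CertM22.qH k = true → k = 4 ∨
      ∃ v ∈ [((8 : ℕ), (0 : ℕ)), (16, 0)], condOK Y0 v.1 v.2 (mvB k) = true := by
    intro k hk
    unfold CertM22.qH at hk
    rw [Bool.or_eq_true, Bool.or_eq_true] at hk
    rcases hk with (hk | hk) | hk
    · left
      exact Nat.eq_of_beq_eq_true hk
    · right
      exact ⟨(8, 0), by simp, hk⟩
    · right
      exact ⟨(16, 0), by simp, hk⟩
  rcases cover_of CertHS.tabH CertHS.hcH Y0 4 CertM22.qH [(8, 0), (16, 0)] valid_Y0 hq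
    CertM22.coverH z hz with h | ⟨v, hv, h⟩
  · left
    rw [h, vecB_mv Y0_eq (by decide) (by decide)]
  · simp only [List.mem_cons, List.not_mem_nil, or_false] at hv
    rcases hv with rfl | rfl
    · right
      left
      rw [h]
      norm_num
    · right
      right
      rw [h]
      norm_num


/-- The Higman–Sims group acts with rank 3 and subdegrees 1, 22, 77 on its 100 points, the orbits of a point stabiliser being distinguished by customary inner product 1 with the fixed point. -/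
theorem result (v w x : ↥Cfsg.leechLattice) (hv : Cfsg.sqNorm (v : Cfsg.GolayPt → ℤ) = 48) (hw : Cfsg.sqNorm (w : Cfsg.GolayPt → ℤ) = 48) (hvw : Cfsg.dotInt (v : Cfsg.GolayPt → ℤ) (w : Cfsg.GolayPt → ℤ) = -32) (hx : x ∈ {x : ↥Cfsg.leechLattice | Cfsg.sqNorm (x : Cfsg.GolayPt → ℤ) = 32 ∧ Cfsg.dotInt (v : Cfsg.GolayPt → ℤ) (x : Cfsg.GolayPt → ℤ) = 24 ∧ Cfsg.dotInt (w : Cfsg.GolayPt → ℤ) (x : Cfsg.GolayPt → ℤ) = -24}) : {y : ↥Cfsg.leechLattice | y ∈ {x : ↥Cfsg.leechLattice | Cfsg.sqNorm (x : Cfsg.GolayPt → ℤ) = 32 ∧ Cfsg.dotInt (v : Cfsg.GolayPt → ℤ) (x : Cfsg.GolayPt → ℤ) = 24 ∧ Cfsg.dotInt (w : Cfsg.GolayPt → ℤ) (x : Cfsg.GolayPt → ℤ) = -24} ∧ Cfsg.dotInt (x : Cfsg.GolayPt → ℤ) (y : Cfsg.GolayPt → ℤ) = 8}.ncard = 22 ∧ {y : ↥Cfsg.leechLattice | y ∈ {x : ↥Cfsg.leechLattice | Cfsg.sqNorm (x : Cfsg.GolayPt → ℤ) = 32 ∧ Cfsg.dotInt (v : Cfsg.GolayPt → ℤ) (x : Cfsg.GolayPt → ℤ) =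 24 ∧ Cfsg.dotInt (w : Cfsg.GolayPt → ℤ) (x : Cfsg.GolayPt → ℤ) = -24} ∧ y ≠ x ∧ Cfsg.dotInt (x : Cfsg.GolayPt → ℤ) (y : Cfsg.GolayPt → ℤ) ≠ 8}.ncard = 77 ∧ ∀ y ∈ {x : ↥Cfsg.leechLattice | Cfsg.sqNorm (x : Cfsg.GolayPt → ℤ) = 32 ∧ Cfsg.dotInt (v : Cfsg.GolayPt → ℤ) (x : Cfsg.GolayPt → ℤ) = 24 ∧ Cfsg.dotInt (w : Cfsg.GolayPt → ℤ) (x : Cfsg.GolayPt → ℤ) = -24}, ∀ y' ∈ {x : ↥Cfsg.leechLattice | Cfsg.sqNorm (x : Cfsg.GolayPt → ℤ) = 32 ∧ Cfsg.dotInt (v : Cfsg.GolayPt → ℤ) (x : Cfsg.GolayPt → ℤ) = 24 ∧ Cfsg.dotInt (w : Cfsg.GolayPt → ℤ) (x : Cfsg.GolayPt → ℤ) = -24}, y ≠ x → y' ≠ x → (Cfsg.dotInt (x : Cfsg.GolayPt → ℤ) (y : Cfsg.GolayPt → ℤ) = 8 ↔ Cfsg.dotInt (x : Cfsg.GolayPt → ℤ) (y' : Cfsg.GolayPt → ℤ) = 8) → ∃ g : ↥Cfsg.Co0, g • v = v ∧ g • w = w ∧ g • x = x ∧ g • y = y' := by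

  obtain ⟨g0, h1, h2, h3⟩ := std_vwx v w x hv hw hvw hx
  have hxn : sqNorm (x : GolayPt → ℤ) = 32 := hx.1
  have hxb : ((g0 • x : leechLattice) : GolayPt → ℤ) = vecB Y0 := by
    rw [h3]
    rfl
  have e : ∀ z : leechLattice, dotInt (vecB Y0) ((g0 • z : leechLattice) : GolayPt → ℤ)
      = dotInt (x : GolayPt → ℤ) (z : GolayPt → ℤ) := by
    intro z
    rw [← smul_dot g0 x z, h3]
    rfl
  have hfix : ∀ g : Co0, (∀ a : leechLattice, (∃ b ∈ [U0, X1, Y0],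
      ((g0 • a : leechLattice) : GolayPt → ℤ) = vecB b) → g • a = a) →
      g • v = v ∧ g • w = w ∧ g • x = x := by
    intro g hg
    have hgv : g • v = v := hg v ⟨U0, by simp, by rw [h1]; rfl⟩
    have hgs : g • (-(v + w)) = -(v + w) := hg _ ⟨X1, by simp, by rw [h2]; rfl⟩
    exact ⟨hgv, fix_of_sum g hgv hgs, hg x ⟨Y0, by simp, hxb⟩⟩
  have hcov : ∀ y : leechLattice, (sqNorm (y : GolayPt → ℤ) = 32 ∧
      dotInt (v : GolayPt → ℤ) (y : GolayPt → ℤ) = 24 ∧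
      dotInt (w : GolayPt → ℤ) (y : GolayPt → ℤ) = -24) →
      y = x ∨ dotInt (x : GolayPt → ℤ) (y : GolayPt → ℤ) = 8 ∨
        dotInt (x : GolayPt → ℤ) (y : GolayPt → ℤ) = 16 := by
    intro y hy
    rcases cover _ ((mem_H g0 h1 h2 y).mp hy) with hc | hc | hc
    · left
      have e2 : g0 • y = g0 • x := by
        rw [h3]
        exact Subtype.ext hc
      exact smul_left_cancel g0 e2
    · right
      left
      rw [← e]
      exact hc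
    · right
      right
      rw [← e]
      exact hc
  refine ⟨?_, ?_, ?_⟩
  · exact (ncard_om_smul g0 CertM22.cM1 _
      (mem_sub g0 (mem_H g0 h1 h2) hxb 8 0 8 (by norm_num))).trans CertM22.cardM1
  · refine (ncard_om_smul g0 CertM22.cM2 _ ?_).trans CertM22.cardM2
    intro y
    refine Iff.trans ?_ (mem_sub g0 (mem_H g0 h1 h2) hxb 16 0 16 (by norm_num) y)
    constructor
    · rintro ⟨ho, hne, hd⟩
      rcases hcov y ho with h | h | h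
      · exact absurd h hne
      · exact absurd h hd
      · exact ⟨ho, h⟩
    · rintro ⟨ho, hd⟩
      refine ⟨ho, ?_, ?_⟩
      · rintro rfl
        rw [← sqNorm_eq_dot, hxn] at hd
        norm_num at hd
      · rw [hd]
        norm_num
  · intro y hy y' hy' hne hne' hiff
    rcases hcov y hy with h | h | h
    · exact absurd h hne
    · have h' := hiff.mp h
      obtain ⟨g, hg1, hg2⟩ := trans_smul CertM22.transM1 g0
        ((mem_sub g0 (mem_H g0 h1 h2) hxb 8 0 8 (by norm_num) y).mp ⟨hy, h⟩)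
        ((mem_sub g0 (mem_H g0 h1 h2) hxb 8 0 8 (by norm_num) y').mp ⟨hy', h'⟩)
      obtain ⟨a1, a2, a3⟩ := hfix g hg2
      exact ⟨g, a1, a2, a3, hg1⟩
    · rcases hcov y' hy' with h' | h' | h'
      · exact absurd h' hne'
      · have h8 := hiff.mpr h'
        rw [h] at h8
        norm_num at h8
      · obtain ⟨g, hg1, hg2⟩ := trans_smul CertM22.transM2 g0
          ((mem_sub g0 (mem_H g0 h1 h2) hxb 16 0 16 (by norm_num) y).mp ⟨hy, h⟩)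
          ((mem_sub g0 (mem_H g0 h1 h2) hxb 16 0 16 (by norm_num) y').mp ⟨hy', h'⟩)
        obtain ⟨a1, a2, a3⟩ := hfix g hg2
        exact ⟨g, a1, a2, a3, hg1⟩

end Cfsg.Agent.S1584
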