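import Cfsg.Statements.S1641
import Cfsg.Agent.Lib.Helper27.CoStd

set_option autoImplicit false
open Cfsg

namespace Cfsg.Agent.S1641

open Cfsg.Agent.Lib.Helper27 Cfsg.Agent.Lib.Helper27.Bits Cfsg.Agent.Lib.Helper27.Pk
open Cfsg.Agent.Lib.Helper27.MinTab Cfsg.Agent.Lib.Helper27.MinEnum Cfsg.Agent.Lib.Helper27.MinFast
open Cfsg.Agent.Lib.Helper27.MinAll Cfsg.Agent.Lib.Helper27.LDot Cfsg.Agent.Lib.Helper27.LMat
open Cfsg.Agent.Lib.Helper27.Spread Cfsg.Agent.Lib.Helper27.Co0Act Cfsg.Agent.Lib.Helper27.LApp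
open Cfsg.Agent.Lib.Helper27.OrbCert Cfsg.Agent.Lib.Helper27.CoGlue
open Cfsg.Agent.Lib.Helper27.CertBase Cfsg.Agent.Lib.Helper27.CoStd

/-- A vector of the set of 11178 is the standard one or has inner product `-8`, `16`, `0` or `8`
with it. -/
theorem cover (z : GolayPt → ℤ) (hz : z ∈ Om CertCo3.cA) :
    z = vecB X1 ∨ dotInt (vecB X1) z = -8 ∨ dotInt (vecB X1) z = 16 ∨ dotInt (vecB X1) z = 0 ∨
      dotInt (vecB X1) z = 8 := by
  have hq : ∀ k, CertHS.qA k = true → k = 6 ∨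
      ∃ v ∈ [((0 : ℕ), (8 : ℕ)), (16, 0), (0, 0), (8, 0)], condOK X1 v.1 v.2 (mvB k) = true := by
    intro k hk
    unfold CertHS.qA at hk
    rw [Bool.or_eq_true, Bool.or_eq_true, Bool.or_eq_true, Bool.or_eq_true] at hk
    rcases hk with (((hk | hk) | hk) | hk) | hk
    · left
      exact Nat.eq_of_beq_eq_true hk
    · right
      exact ⟨(0, 8), by simp, hk⟩
    · right
      exact ⟨(16, 0), by simp, hk⟩
    · right
      exact ⟨(0, 0), by simp, hk⟩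
    · right
      exact ⟨(8, 0), by simp, hk⟩
  rcases cover_of CertCo3.tabA CertCo3.hcA X1 6 CertHS.qA [(0, 8), (16, 0), (0, 0), (8, 0)] valid_X1
    hq CertHS.coverA z hz with h | ⟨v, hv, h⟩
  · left
    rw [h, vecB_mv X1_eq (by decide) (by decide)]
  · simp only [List.mem_cons, List.not_mem_nil, or_false] at hv
    rcases hv with rfl | rfl | rfl | rfl
    · right
      left
      rw [h]
      norm_num
    · right
      right
      left
      rw [h]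
      norm_num
    · right
      right
      right
      left
      rw [h]
      norm_num
    · right
      right
      right
      right
      rw [h]
      norm_num


/-- The third Conway group acts on the 11178 cosets of the Higman–Sims group with rank 5 and subdegrees 1, 352, 1100, 4125, 5600. -/
theorem result (u x : ↥Cfsg.leechLattice) (hu : Cfsg.sqNorm (u : Cfsg.GolayPt → ℤ) = 48) (hx : x ∈ {x : ↥Cfsg.leechLattice | Cfsg.sqNorm (x : Cfsg.GolayPt → ℤ) = 32 ∧ Cfsg.dotInt (u : Cfsg.GolayPt → ℤ) (x : Cfsg.GolayPt → ℤ) = -16}) : ∃ y₁ ∈ {x : ↥Cfsg.leechLattice | Cfsg.sqNorm (x : Cfsg.GolayPt → ℤ) = 32 ∧ Cfsg.dotInt (u : Cfsg.GolayPt → ℤ) (x : Cfsg.GolayPt → ℤ) = -16}, ∃ y₂ ∈ {x : ↥Cfsg.leechLattice | Cfsg.sqNorm (x : Cfsg.GolayPt → ℤ) = 32 ∧ Cfsg.dotInt (u : Cfsg.GolayPt → ℤ) (x : Cfsg.GolayPt → ℤ) = -16}, ∃ y₃ ∈ {x : ↥Cfsg.leechLattice | Cfsg.sqNorm (x : Cfsg.GolayPt → ℤ) = 32 ∧ Cfsg.dotInt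 (u : Cfsg.GolayPt → ℤ) (x : Cfsg.GolayPt → ℤ) = -16}, ∃ y₄ ∈ {x : ↥Cfsg.leechLattice | Cfsg.sqNorm (x : Cfsg.GolayPt → ℤ) = 32 ∧ Cfsg.dotInt (u : Cfsg.GolayPt → ℤ) (x : Cfsg.GolayPt → ℤ) = -16}, (MulAction.orbit ↥(MulAction.stabilizer ↥Cfsg.Co0 u ⊓ MulAction.stabilizer ↥Cfsg.Co0 x) y₁).ncard = 352 ∧ (MulAction.orbit ↥(MulAction.stabilizer ↥Cfsg.Co0 u ⊓ MulAction.stabilizer ↥Cfsg.Co0 x) y₂).ncard = 1100 ∧ (MulAction.orbit ↥(MulAction.stabilizer ↥Cfsg.Co0 u ⊓ MulAction.stabilizer ↥Cfsg.Co0 x) y₃).ncard = 4125 ∧ (MulAction.orbit ↥(MulAction.stabilizer ↥Cfsg.Co0 u ⊓ MulAction.stabilizer ↥Cfsg.Co0 x) y₄).ncard = 5600 ∧ {x : ↥Cfsg.leechLattice | Cfsg.sqNorm (x : Cfsg.GolayPt → ℤ) = 32 ∧ Cfsg.dotInt (u : Cfsg.GolayPt → ℤ) (x : Cfsg.GolayPt → ℤ) = -16} = {x} ∪ MulAction.orbit ↥(MulAction.stabilizer ↥Cfsg.Co0 u ⊓ MulAction.stabilizer ↥Cfsg.Co0 x) y₁ ∪ MulAction.orbit ↥(MulAction.stabilizer ↥Cfsg.Co0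 u ⊓ MulAction.stabilizer ↥Cfsg.Co0 x) y₂ ∪ MulAction.orbit ↥(MulAction.stabilizer ↥Cfsg.Co0 u ⊓ MulAction.stabilizer ↥Cfsg.Co0 x) y₃ ∪ MulAction.orbit ↥(MulAction.stabilizer ↥Cfsg.Co0 u ⊓ MulAction.stabilizer ↥Cfsg.Co0 x) y₄ := by

  obtain ⟨g0, h1, h2⟩ := std_ux u x hu hx
  have hxb : ((g0 • x : leechLattice) : GolayPt → ℤ) = vecB X1 := by
    rw [h2]
    rfl
  have e : ∀ z : leechLattice, dotInt (vecB X1) ((g0 • z : leechLattice) : GolayPt → ℤ)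
      = dotInt (x : GolayPt → ℤ) (z : GolayPt → ℤ) := by
    intro z
    rw [← smul_dot g0 x z, h2]
    rfl
  have hH : ∀ g : Co0, (∀ a : leechLattice, (∃ b ∈ [U0, X1],
      ((g0 • a : leechLattice) : GolayPt → ℤ) = vecB b) → g • a = a) →
      g ∈ MulAction.stabilizer Co0 u ⊓ MulAction.stabilizer Co0 x := by
    intro g hg
    exact Subgroup.mem_inf.mpr ⟨MulAction.mem_stabilizer_iff.mpr (hg u ⟨U0, by simp, by rw [h1]; rfl⟩),
      MulAction.mem_stabilizer_iff.mpr (hg x ⟨X1, by simp, hxb⟩)⟩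
  have hinv : ∀ d : ℤ, ∀ h ∈ MulAction.stabilizer Co0 u ⊓ MulAction.stabilizer Co0 x,
      ∀ a : leechLattice,
      ((sqNorm (a : GolayPt → ℤ) = 32 ∧ dotInt (u : GolayPt → ℤ) (a : GolayPt → ℤ) = -16) ∧
        dotInt (x : GolayPt → ℤ) (a : GolayPt → ℤ) = d) →
      ((sqNorm ((h • a : leechLattice) : GolayPt → ℤ) = 32 ∧
        dotInt (u : GolayPt → ℤ) ((h • a : leechLattice) : GolayPt → ℤ) = -16) ∧
        dotInt (x : GolayPt → ℤ) ((h • a : leechLattice) : GolayPt → ℤ) = d) := by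
    intro d h hh a ha
    obtain ⟨hu', hx'⟩ := Subgroup.mem_inf.mp hh
    rw [MulAction.mem_stabilizer_iff] at hu' hx'
    rw [smul_norm, stab_dot h hu', stab_dot h hx']
    exact ha
  obtain ⟨y1, hy1, ho1, hn1⟩ := orbit_sub (MulAction.stabilizer Co0 u ⊓ MulAction.stabilizer Co0 x)
    g0 352 CertHS.transB1 CertHS.cardB1 (by norm_num) _
    (mem_sub g0 (mem_A g0 h1) hxb 0 8 (-8) (by norm_num)) (hinv (-8)) hH
  obtain ⟨y2, hy2, ho2, hn2⟩ := orbit_sub (MulAction.stabilizer Co0 u ⊓ MulAction.stabilizer Co0 x)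
    g0 1100 CertHS.transB2 CertHS.cardB2 (by norm_num) _
    (mem_sub g0 (mem_A g0 h1) hxb 16 0 16 (by norm_num)) (hinv 16) hH
  obtain ⟨y3, hy3, ho3, hn3⟩ := orbit_sub (MulAction.stabilizer Co0 u ⊓ MulAction.stabilizer Co0 x)
    g0 4125 CertHS.transB3 CertHS.cardB3 (by norm_num) _
    (mem_sub g0 (mem_A g0 h1) hxb 0 0 0 (by norm_num)) (hinv 0) hH
  obtain ⟨y4, hy4, ho4, hn4⟩ := orbit_sub (MulAction.stabilizer Co0 u ⊓ MulAction.stabilizer Co0 x)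
    g0 5600 CertHS.transB4 CertHS.cardB4 (by norm_num) _
    (mem_sub g0 (mem_A g0 h1) hxb 8 0 8 (by norm_num)) (hinv 8) hH
  refine ⟨y1, hy1.1, y2, hy2.1, y3, hy3.1, y4, hy4.1, hn1, hn2, hn3, hn4, ?_⟩
  rw [ho1, ho2, ho3, ho4]
  ext y
  constructor
  · intro hy
    rcases cover _ ((mem_A g0 h1 y).mp hy) with hc | hc | hc | hc | hc
    · left
      left
      left
      left
      have e2 : g0 • y = g0 • x := by
        rw [h2]
        exact Subtype.ext hc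
      exact smul_left_cancel g0 e2
    · rw [e] at hc
      left
      left
      left
      right
      exact ⟨hy, hc⟩
    · rw [e] at hc
      left
      left
      right
      exact ⟨hy, hc⟩
    · rw [e] at hc
      left
      right
      exact ⟨hy, hc⟩
    · rw [e] at hc
      right
      exact ⟨hy, hc⟩
  · rintro ((((h | h) | h) | h) | h)
    · rw [Set.mem_singleton_iff] at h
      rw [h]
      exact hx
    · exact h.1
    · exact h.1
    · exact h.1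
    · exact h.1

end Cfsg.Agent.S1641
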