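import Cfsg.Statements.S0457
import Cfsg.Agent.Lib.Helper60.J1Order

set_option autoImplicit false
open Cfsg

namespace Cfsg.Agent.S0457

open Cfsg.Agent.Lib.Helper60.J1
open scoped Pointwise

/-- Sylow transfer: if `p ∥ |G|`, a normal subgroup containing one element of order `p`
contains all of them -/
theorem mem_of_orderOf_eq {G : Type*} [Group G] [Finite G] (N : Subgroup G) [hN : N.Normal] (p : ℕ)
    [Fact p.Prime] (hp2 : ¬ p * p ∣ Nat.card G) (n : G) (hn : n ∈ N) (hno : orderOf n = p) (h : G)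
    (hh : orderOf h = p) : h ∈ N := by
  have key : ∀ t : G, orderOf t = p → ∃ P : Sylow p G, (P : Subgroup G) = Subgroup.zpowers t := by
    intro t hord
    have hcard : Nat.card (Subgroup.zpowers t) = p := by rw [Nat.card_zpowers, hord]
    have hP : IsPGroup p (Subgroup.zpowers t) := IsPGroup.of_card (n := 1) (by rw [hcard, pow_one])
    have hidx : ¬ p ∣ (Subgroup.zpowers t).index := by
      intro h'
      apply hp2
      rw [← Subgroup.index_mul_card (Subgroup.zpowers t), hcard]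
      exact Nat.mul_dvd_mul_right h' p
    exact ⟨hP.toSylow hidx, hP.toSylow_coe hidx⟩
  obtain ⟨P, hP⟩ := key n hno
  obtain ⟨Q, hQ⟩ := key h hh
  obtain ⟨u, hu⟩ := MulAction.exists_smul_eq G Q P
  have h1 : h ∈ (Q : Subgroup G) := by rw [hQ]; exact Subgroup.mem_zpowers _
  have h2 : MulAut.conj u • h ∈ MulAut.conj u • (Q : Subgroup G) :=
    Subgroup.smul_mem_pointwise_smul _ _ _ h1
  have h3 : MulAut.conj u • h ∈ ((u • Q : Sylow p G) : Subgroup G) := h2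
  rw [hu, hP, Subgroup.mem_zpowers_iff] at h3
  obtain ⟨i, hi⟩ := h3
  have hi' : n ^ i = u * h * u⁻¹ := by simpa [MulAut.smul_def] using hi
  have h4 : u * h * u⁻¹ ∈ N := hi' ▸ N.zpow_mem hn i
  have h5 := hN.conj_mem _ h4 u⁻¹
  have h6 : u⁻¹ * (u * h * u⁻¹) * u⁻¹⁻¹ = h := by group
  rwa [h6] at h5

theorem top_of_gens (N : Subgroup ↥Cfsg.Spor.J1) (hX : gX ∈ N) (hY : gY ∈ N) : N = ⊤ := by
  rw [eq_top_iff]
  intro g _
  have h1 : Cfsg.Spor.J1 ≤ N.map (Subgroup.subtype Cfsg.Spor.J1) := by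
    refine (Subgroup.closure_le _).2 ?_
    rintro x (rfl | rfl)
    · exact ⟨gX, hX, rfl⟩
    · exact ⟨gY, hY, rfl⟩
  obtain ⟨n, hn, e⟩ := h1 g.2
  have e2 : n = g := Subtype.ext e
  exact e2 ▸ hn

theorem conj_word_mem (N : Subgroup ↥Cfsg.Spor.J1) [hN : N.Normal] (gw ww wi : List ℕ)
    (hinv : M7.beq (evN g1 (ww ++ wi)) M7.one = true) (hg : ev gen1 gw ∈ N) :
    ev gen1 (gw ++ ww ++ gw ++ wi) ∈ N := by
  have h1 : ev gen1 ww * ev gen1 wi = 1 := by rw [← ev_append]; exact ev_eq_one _ hinv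
  have e : ev gen1 wi = (ev gen1 ww)⁻¹ := eq_inv_of_mul_eq_one_right h1
  rw [ev_append, ev_append, ev_append, e, mul_assoc, mul_assoc]
  rw [← mul_assoc (ev gen1 ww)]
  exact N.mul_mem hg (hN.conj_mem _ hg _)

theorem not25 : ¬ 5 * 5 ∣ Nat.card ↥Cfsg.Spor.J1 := by rw [card_J1]; decide
theorem not49 : ¬ 7 * 7 ∣ Nat.card ↥Cfsg.Spor.J1 := by rw [card_J1]; decide
theorem not9 : ¬ 3 * 3 ∣ Nat.card ↥Cfsg.Spor.J1 := by rw [card_J1]; decide
theorem not121 : ¬ 11 * 11 ∣ Nat.card ↥Cfsg.Spor.J1 := by rw [card_J1]; decide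
theorem not361 : ¬ 19 * 19 ∣ Nat.card ↥Cfsg.Spor.J1 := by rw [card_J1]; decide

theorem ev0 : ev gen1 [0] = gX := by simp [ev, gen1]
theorem ev1 : ev gen1 [1] = gY := by simp [ev, gen1]

theorem simple_J1 : IsSimpleGroup ↥Cfsg.Spor.J1 := by
  have hcard := card_J1
  haveI : Nontrivial ↥Cfsg.Spor.J1 := by
    apply (Finite.one_lt_card_iff_nontrivial).1
    rw [hcard]; norm_num
  refine ⟨fun N hN => ?_⟩
  by_contra hcon
  push Not at hcon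
  obtain ⟨hbot, htop⟩ := hcon
  haveI : Fact (Nat.Prime 2) := ⟨Nat.prime_two⟩
  haveI : Fact (Nat.Prime 3) := ⟨Nat.prime_three⟩
  haveI : Fact (Nat.Prime 5) := ⟨Nat.prime_five⟩
  haveI : Fact (Nat.Prime 7) := ⟨by norm_num⟩
  haveI : Fact (Nat.Prime 11) := ⟨by norm_num⟩
  haveI : Fact (Nat.Prime 19) := ⟨by norm_num⟩
  -- `gX ∈ N` is impossible
  have hXtop : gX ∉ N := by
    intro hX
    have hc : ev gen1 ([0, 1, 1, 1, 0, 1, 0, 1, 1, 1, 1, 0, 0, 0, 0, 0, 0, 1, 1, 1, 1, 1, 1, 1, 1, 1, 1, 1, 1]) ∈ N :=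
      conj_word_mem N [0] ([1, 1, 1, 0, 1]) ([1, 1, 1, 1, 0, 0, 0, 0, 0, 0, 1, 1, 1, 1, 1, 1, 1, 1, 1, 1, 1, 1]) (by decide +kernel) (by rw [ev0]; exact hX)
    have ho : orderOf (ev gen1 ([0, 1, 1, 1, 0, 1, 0, 1, 1, 1, 1, 0, 0, 0, 0, 0, 0, 1, 1, 1, 1, 1, 1, 1, 1, 1, 1, 1, 1])) = 5 := orderOf_ev _ 5 (by norm_num) (by decide +kernel)
    have hY : gY ∈ N := mem_of_orderOf_eq N 5 not25 _ hc ho gY ord_gY
    exact htop (top_of_gens N hX hY)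
  have h7 : ∀ n ∈ N, orderOf n ≠ 7 := by
    intro n hn ho
    exact hXtop (mem_of_orderOf_eq N 7 not49 n hn ho gX ord_gX)
  have h5 : ∀ n ∈ N, orderOf n ≠ 5 := by
    intro n hn ho
    have hY : gY ∈ N := mem_of_orderOf_eq N 5 not25 n hn ho gY ord_gY
    have hc : ev gen1 ([1, 0, 0, 1, 0, 0, 0, 1, 0, 0, 0, 0, 0, 0, 0, 0, 0, 0, 0, 0, 0, 0, 0, 0, 0, 0, 1, 1, 1, 1, 0, 0, 0, 0, 0, 0, 0, 0, 0, 0, 0, 0]) ∈ N :=
      conj_word_mem N [1] ([0, 0, 1, 0, 0, 0]) ([0, 0, 0, 0, 0, 0, 0, 0, 0, 0, 0, 0, 0, 0, 0, 0, 0, 0, 1, 1, 1, 1, 0, 0, 0, 0, 0, 0, 0, 0, 0, 0, 0, 0]) (by decide +kernel) (by rw [ev1]; exact hY)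
    exact h7 _ hc (orderOf_ev _ 7 (by norm_num) (by decide +kernel))
  have h3 : ∀ n ∈ N, orderOf n ≠ 3 := by
    intro n hn ho
    have hg : ev gen1 w3 ∈ N := mem_of_orderOf_eq N 3 not9 n hn ho _ ord_w3
    have hc : ev gen1 (w3 ++ [0, 0] ++ w3 ++ [0, 0, 0, 0, 0, 0, 0, 0, 0, 0, 0, 0]) ∈ N :=
      conj_word_mem N w3 ([0, 0]) ([0, 0, 0, 0, 0, 0, 0, 0, 0, 0, 0, 0]) (by decide +kernel) hg
    exact h7 _ hc (orderOf_ev _ 7 (by norm_num) (by decide +kernel))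
  have h11 : ∀ n ∈ N, orderOf n ≠ 11 := by
    intro n hn ho
    have hg : ev gen1 w11 ∈ N := mem_of_orderOf_eq N 11 not121 n hn ho _ ord_w11
    have hc : ev gen1 (w11 ++ [0, 1, 0, 0, 0] ++ w11 ++ [0, 0, 0, 0, 0, 0, 0, 0, 0, 0, 0, 0, 0, 0, 0, 0, 0, 0, 1, 1, 1, 1, 0, 0, 0, 0, 0, 0]) ∈ N :=
      conj_word_mem N w11 ([0, 1, 0, 0, 0]) ([0, 0, 0, 0, 0, 0, 0, 0, 0, 0, 0, 0, 0, 0, 0, 0, 0, 0, 1, 1, 1, 1, 0, 0, 0, 0, 0, 0]) (by decide +kernel) hg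
    exact h7 _ hc (orderOf_ev _ 7 (by norm_num) (by decide +kernel))
  have h19 : ∀ n ∈ N, orderOf n ≠ 19 := by
    intro n hn ho
    have hg : ev gen1 w19 ∈ N := mem_of_orderOf_eq N 19 not361 n hn ho _ ord_w19
    have hc : ev gen1 (w19 ++ [0, 1, 0] ++ w19 ++ [0, 0, 0, 0, 0, 0, 1, 1, 1, 1, 0, 0, 0, 0, 0, 0]) ∈ N :=
      conj_word_mem N w19 ([0, 1, 0]) ([0, 0, 0, 0, 0, 0, 1, 1, 1, 1, 0, 0, 0, 0, 0, 0]) (by decide +kernel) hg
    exact h7 _ hc (orderOf_ev _ 7 (by norm_num) (by decide +kernel))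
  have h2 : ∀ n ∈ N, orderOf n ≠ 2 := by
    intro n hn ho
    obtain ⟨x, hx⟩ := invol_conj n ho
    have hg : ev gen1 tw ∈ N := hx ▸ hN.conj_mem n hn x
    have hc : ev gen1 (tw ++ [1, 0, 0, 1] ++ tw ++ [1, 1, 1, 1, 0, 0, 0, 0, 0, 0, 0, 0, 0, 0, 0, 0, 1, 1, 1, 1]) ∈ N :=
      conj_word_mem N tw ([1, 0, 0, 1]) ([1, 1, 1, 1, 0, 0, 0, 0, 0, 0, 0, 0, 0, 0, 0, 0, 1, 1, 1, 1]) (by decide +kernel) hg
    exact h7 _ hc (orderOf_ev _ 7 (by norm_num) (by decide +kernel))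
  -- a prime divisor of `|N|`
  have hN1 : Nat.card N ≠ 1 := fun h => hbot (Subgroup.card_eq_one.1 h)
  obtain ⟨p, hp, hpN⟩ := Nat.exists_prime_and_dvd hN1
  haveI := Fact.mk hp
  have hpG : p ∣ 175560 := hcard ▸ hpN.trans (Subgroup.card_subgroup_dvd_card N)
  obtain ⟨n, hn⟩ := exists_prime_orderOf_dvd_card' (G := N) p hpN
  have hn' : orderOf (n : ↥Cfsg.Spor.J1) = p := by rw [Subgroup.orderOf_coe]; exact hn
  have hp6 : p = 2 ∨ p = 3 ∨ p = 5 ∨ p = 7 ∨ p = 11 ∨ p = 19 := by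
    have e : (175560 : ℕ) = 2 ^ 3 * 3 * 5 * 7 * 11 * 19 := by norm_num
    rw [e] at hpG
    rcases (Nat.Prime.dvd_mul hp).1 hpG with h | h
    · rcases (Nat.Prime.dvd_mul hp).1 h with h | h
      · rcases (Nat.Prime.dvd_mul hp).1 h with h | h
        · rcases (Nat.Prime.dvd_mul hp).1 h with h | h
          · rcases (Nat.Prime.dvd_mul hp).1 h with h | h
            · left; exact (Nat.prime_dvd_prime_iff_eq hp Nat.prime_two).1 (hp.dvd_of_dvd_pow h)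
            · right; left; exact (Nat.prime_dvd_prime_iff_eq hp Nat.prime_three).1 h
          · right; right; left; exact (Nat.prime_dvd_prime_iff_eq hp Nat.prime_five).1 h
        · right; right; right; left; exact (Nat.prime_dvd_prime_iff_eq hp (by norm_num)).1 h
      · right; right; right; right; left; exact (Nat.prime_dvd_prime_iff_eq hp (by norm_num)).1 h
    · right; right; right; right; right; exact (Nat.prime_dvd_prime_iff_eq hp (by norm_num)).1 h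
  rcases hp6 with rfl | rfl | rfl | rfl | rfl | rfl
  · exact h2 _ n.2 hn'
  · exact h3 _ n.2 hn'
  · exact h5 _ n.2 hn'
  · exact h7 _ n.2 hn'
  · exact h11 _ n.2 hn'
  · exact h19 _ n.2 hn'

/-- The subgroup of GL(7, 11) generated by the two explicit Janko matrices is simple of order 175560. -/
theorem result : ∃ x y : GL (Fin 7) (ZMod 11), (x : Matrix (Fin 7) (Fin 7) (ZMod 11)) = Cfsg.jankoMatrixX ∧ (y : Matrix (Fin 7) (Fin 7) (ZMod 11)) = Cfsg.jankoMatrixY ∧ Cfsg.IsJ1 (Subgroup.closure ({x, y} : Set (GL (Fin 7) (ZMod 11)))) := by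
  exact ⟨Cfsg.Spor.jankoX, Cfsg.Spor.jankoY, rfl, rfl, simple_J1, card_J1⟩

end Cfsg.Agent.S0457
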