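import Cfsg.Statements.S4018
import Cfsg.Agent.Lib.Helper73.Friendship
import Cfsg.Agent.H32.Cores
import Cfsg.Agent.Lib.Helper33.Conj

set_option autoImplicit false
open Cfsg

namespace Cfsg.Agent.S4018

open Subgroup

open scoped IsMulCommutative in
/-- Transfer into an abelian Sylow subgroup: in a perfect group, an element of `P` central in
`N_G(P)` is trivial. -/
theorem eq_one_of_central_normalizer {G : Type*} [Group G] [Finite G] {p : ℕ} [Fact p.Prime]
    (P : Sylow p G) [IsMulCommutative P] (hperf : commutator G = ⊤) (u : G)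
    (hu : u ∈ (P : Subgroup G))
    (hcent : ∀ n ∈ normalizer ((P : Subgroup G) : Set G), n * u = u * n) : u = 1 := by
  have key : ∀ (k : ℕ) (g₀ : G), g₀⁻¹ * u ^ k * g₀ ∈ (P : Subgroup G) →
      g₀⁻¹ * u ^ k * g₀ = u ^ k := by
    intro k g₀ h
    obtain ⟨n, hn, hn'⟩ := P.conj_eq_normalizer_conj_of_mem (u ^ k) g₀ (pow_mem hu k) h
    rw [hn']
    have hc : Commute n (u ^ k) := (show Commute n u from hcent n hn).pow_right k
    rw [mul_assoc, ← hc.eq, inv_mul_cancel_left]
  have h1 := MonoidHom.transfer_eq_pow (MonoidHom.id ↥(P : Subgroup G)) u key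
  have h2 : MonoidHom.transfer (MonoidHom.id ↥(P : Subgroup G)) u = 1 := by
    have hle : commutator G ≤ (MonoidHom.transfer (MonoidHom.id ↥(P : Subgroup G))).ker := by
      rw [commutator_def, Subgroup.commutator_le]
      intro a _ b _
      rw [MonoidHom.mem_ker, map_commutatorElement, commutatorElement_eq_one_iff_commute]
      exact mul_comm _ _
    have : u ∈ (MonoidHom.transfer (MonoidHom.id ↥(P : Subgroup G))).ker := by
      apply hle
      rw [hperf]
      trivial
    exact this
  rw [h2] at h1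
  have h3 : u ^ (P : Subgroup G).index = 1 := by
    have := congrArg Subtype.val h1
    simpa using this.symm
  have h4 : orderOf u ∣ (P : Subgroup G).index := orderOf_dvd_of_pow_eq_one h3
  have h5 : orderOf u ∣ Nat.card (P : Subgroup G) := by
    have := orderOf_dvd_natCard (⟨u, hu⟩ : ↥(P : Subgroup G))
    rwa [← Subgroup.orderOf_coe] at this
  have h6 := Nat.eq_one_of_dvd_coprimes P.card_coprime_index h5 h4
  exact orderOf_eq_one_iff.mp h6

/-- Membership of a product in a subgroup of relative index two. -/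
theorem mul_mem_of_card_two {G : Type*} [Group G] [Finite G] {A B : Subgroup G} (hAB : A ≤ B)
    (hcard : Nat.card B = 2 * Nat.card A) {x y : G} (hx : x ∈ B) (hy : y ∈ B) :
    x * y ∈ A ↔ (x ∈ A ↔ y ∈ A) := by
  have hidx : (A.subgroupOf B).index = 2 := by
    have h1 := Subgroup.card_mul_index (A.subgroupOf B)
    have h2 : Nat.card (A.subgroupOf B) = Nat.card A :=
      Nat.card_congr (Subgroup.subgroupOfEquivOfLe hAB).toEquiv
    rw [h2, hcard, mul_comm 2] at h1
    exact Nat.eq_of_mul_eq_mul_left Nat.card_pos h1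
  have := Subgroup.mul_mem_iff_of_index_two hidx (a := ⟨x, hx⟩) (b := ⟨y, hy⟩)
  simpa [Subgroup.mem_subgroupOf] using this

section

variable {G : Type*} [Group G] [Finite G] (P : Sylow 3 G)

/-- Elements of a `3`-group squaring to one are trivial. -/
theorem eq_one_of_sq {x : G} (hx : x ∈ (P : Subgroup G)) (h2 : x * x = 1) : x = 1 := by
  have h5 : orderOf x ∣ Nat.card (P : Subgroup G) := by
    have := orderOf_dvd_natCard (⟨x, hx⟩ : ↥(P : Subgroup G))
    rwa [← Subgroup.orderOf_coe] at this
  obtain ⟨j, hj⟩ := IsPGroup.iff_card.mp P.2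
  rw [hj] at h5
  have h6 : orderOf x ∣ 2 := orderOf_dvd_of_pow_eq_one (by rw [pow_two]; exact h2)
  have h7 : Nat.Coprime 2 (3 ^ j) := Nat.Coprime.pow_right j (by norm_num)
  exact orderOf_eq_one_iff.mp (Nat.eq_one_of_dvd_coprimes h7 h6 h5)

/-- Every element of a `3`-group is a square. -/
theorem exists_sqrt {x : G} (hx : x ∈ (P : Subgroup G)) :
    ∃ z ∈ (P : Subgroup G), z * z = x := by
  obtain ⟨j, hj⟩ := IsPGroup.iff_card.mp P.2
  have hodd : Odd (3 ^ j) := Odd.pow (by decide)
  obtain ⟨m, hm⟩ := hodd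
  refine ⟨x ^ (m + 1), pow_mem hx _, ?_⟩
  have h1 : x ^ (3 ^ j) = 1 := by
    have := pow_card_eq_one' (G := ↥(P : Subgroup G)) (x := ⟨x, hx⟩)
    rw [hj] at this
    have := congrArg Subtype.val this
    simpa using this
  rw [← pow_add]
  have : m + 1 + (m + 1) = 3 ^ j + 1 := by omega
  rw [this, pow_succ, h1, one_mul]

/-- An involution is not in a `3`-group. -/
theorem not_mem_of_orderOf_two {k : G} (hk : orderOf k = 2) : k ∉ (P : Subgroup G) := by
  intro h
  have h1 : k = 1 := eq_one_of_sq P h (by rw [← pow_two, ← hk]; exact pow_orderOf_eq_one k)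
  rw [h1, orderOf_one] at hk
  omega

end

section Config

variable {G : Type*} [Group G] [Finite G] (P : Sylow 3 G)

/-- The involution of `C_G(P)` is unique. -/
theorem involution_unique (hab : IsMulCommutative ↥(P : Subgroup G))
    (hC : Nat.card (centralizer ((P : Subgroup G) : Set G)) = 2 * Nat.card (P : Subgroup G))
    {k k' : G} (hk : k ∈ centralizer ((P : Subgroup G) : Set G)) (hk2 : orderOf k = 2)
    (hk' : k' ∈ centralizer ((P : Subgroup G) : Set G)) (hk'2 : orderOf k' = 2) : k' = k := by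
  have hPC : (P : Subgroup G) ≤ centralizer ((P : Subgroup G) : Set G) :=
    Subgroup.le_centralizer _
  have h1 : k * k' ∈ (P : Subgroup G) := by
    rw [mul_mem_of_card_two hPC hC hk hk']
    exact iff_of_false (not_mem_of_orderOf_two P hk2) (not_mem_of_orderOf_two P hk'2)
  have h2 : (k * k') * k = k * (k * k') := mem_centralizer_iff.mp hk (k * k') h1
  have h3 : k' * k = k * k' := by
    rw [mul_assoc] at h2
    exact mul_left_cancel h2
  have hkk : k * k = 1 := by rw [← pow_two, ← hk2]; exact pow_orderOf_eq_one k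
  have hkk' : k' * k' = 1 := by rw [← pow_two, ← hk'2]; exact pow_orderOf_eq_one k'
  have h4 : (k * k') * (k * k') = 1 := by
    calc (k * k') * (k * k') = k * (k' * k) * k' := by group
      _ = k * (k * k') * k' := by rw [h3]
      _ = (k * k) * (k' * k') := by group
      _ = 1 := by rw [hkk, hkk', one_mul]
  have h5 := eq_one_of_sq P h1 h4
  have h6 : k' = k⁻¹ := eq_inv_of_mul_eq_one_right h5
  have h7 : k⁻¹ = k := inv_eq_of_mul_eq_one_right hkk
  rw [h6, h7]

/-- The normalizer of `C_G(P)` normalizes `P`. -/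
theorem mem_normalizer_of_mem_normalizer_centralizer (hab : IsMulCommutative ↥(P : Subgroup G))
    (hC : Nat.card (centralizer ((P : Subgroup G) : Set G)) = 2 * Nat.card (P : Subgroup G))
    {g : G}
    (hg : g ∈ normalizer ((centralizer ((P : Subgroup G) : Set G) : Subgroup G) : Set G)) :
    g ∈ normalizer ((P : Subgroup G) : Set G) := by
  have hPC : (P : Subgroup G) ≤ centralizer ((P : Subgroup G) : Set G) :=
    Subgroup.le_centralizer _
  have key : ∀ g' : G,
      g' ∈ normalizer ((centralizer ((P : Subgroup G) : Set G) : Subgroup G) : Set G) →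
      ∀ h ∈ (P : Subgroup G), g' * h * g'⁻¹ ∈ (P : Subgroup G) := by
    intro g' hg' h hh
    obtain ⟨z, hz, rfl⟩ := exists_sqrt P hh
    have hzc : g' * z * g'⁻¹ ∈ centralizer ((P : Subgroup G) : Set G) :=
      (mem_normalizer_iff.mp hg' z).mp (hPC hz)
    have h1 := (mul_mem_of_card_two hPC hC hzc hzc).mpr Iff.rfl
    have e : g' * (z * z) * g'⁻¹ = (g' * z * g'⁻¹) * (g' * z * g'⁻¹) := by group
    rw [e]
    exact h1
  rw [mem_normalizer_iff]
  intro h
  constructor
  · exact key g hg h
  · intro hh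
    have h1 := key g⁻¹ (inv_mem hg) _ hh
    have e : g⁻¹ * (g * h * g⁻¹) * g⁻¹⁻¹ = h := by group
    rw [e] at h1
    exact h1

/-- A TI-subset: an element conjugating a nonidentity element back into the set normalizes it. -/
theorem mem_normalizer_of_TI {C : Set G} (hTI : Cfsg.IsTISubset C) {g x : G} (hx : x ∈ C)
    (hx1 : x ≠ 1) (hgx : g * x * g⁻¹ ∈ C) : g ∈ normalizer C := by
  by_contra hg
  exact hx1 (hTI g hg x hx hgx)

/-- Elements of `N_G(P)` outside `C_G(P)` act fixed-point-freely on `P`. -/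
theorem eq_one_of_commute (hab : IsMulCommutative ↥(P : Subgroup G))
    (hperf : commutator G = ⊤)
    (hN : Nat.card (normalizer ((P : Subgroup G) : Set G)) = 4 * Nat.card (P : Subgroup G))
    (hC : Nat.card (centralizer ((P : Subgroup G) : Set G)) = 2 * Nat.card (P : Subgroup G))
    {a u : G} (ha : a ∈ normalizer ((P : Subgroup G) : Set G))
    (haC : a ∉ centralizer ((P : Subgroup G) : Set G)) (hu : u ∈ (P : Subgroup G))
    (hau : a * u = u * a) : u = 1 := by
  haveI := hab
  apply eq_one_of_central_normalizer P hperf u hu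
  intro n hn
  have hCN : centralizer ((P : Subgroup G) : Set G) ≤ normalizer ((P : Subgroup G) : Set G) :=
    centralizer_le_normalizer _
  have hcardNC : Nat.card (normalizer ((P : Subgroup G) : Set G)) =
      2 * Nat.card (centralizer ((P : Subgroup G) : Set G)) := by
    rw [hN, hC]; ring
  by_cases hnC : n ∈ centralizer ((P : Subgroup G) : Set G)
  · exact (mem_centralizer_iff.mp hnC u hu).symm
  · have h1 : a⁻¹ * n ∈ centralizer ((P : Subgroup G) : Set G) := by
      rw [mul_mem_of_card_two hCN hcardNC (inv_mem ha) hn]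
      exact iff_of_false (fun h => haC (by simpa using inv_mem h)) hnC
    have h2 := mem_centralizer_iff.mp h1 u hu
    calc n * u = a * ((a⁻¹ * n) * u) := by group
      _ = a * (u * (a⁻¹ * n)) := by rw [h2]
      _ = (a * u) * (a⁻¹ * n) := by group
      _ = (u * a) * (a⁻¹ * n) := by rw [hau]
      _ = u * n := by group

/-- An involution centralizing a nonidentity element of `P` is the involution of `C_G(P)`. -/
theorem involution_eq (hab : IsMulCommutative ↥(P : Subgroup G))
    (hperf : commutator G = ⊤)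
    (hN : Nat.card (normalizer ((P : Subgroup G) : Set G)) = 4 * Nat.card (P : Subgroup G))
    (hC : Nat.card (centralizer ((P : Subgroup G) : Set G)) = 2 * Nat.card (P : Subgroup G))
    (hTI : Cfsg.IsTISubset ((centralizer ((P : Subgroup G) : Set G) : Subgroup G) : Set G))
    {k : G} (hk : k ∈ centralizer ((P : Subgroup G) : Set G)) (hk2 : orderOf k = 2)
    {w u : G} (hw : w ∈ (P : Subgroup G)) (hw1 : w ≠ 1) (hu2 : orderOf u = 2)
    (huw : u * w = w * u) : u = k := by
  have hPC : (P : Subgroup G) ≤ centralizer ((P : Subgroup G) : Set G) :=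
    Subgroup.le_centralizer _
  have hwC : w ∈ centralizer ((P : Subgroup G) : Set G) := hPC hw
  have h1 : u * w * u⁻¹ ∈ centralizer ((P : Subgroup G) : Set G) := by
    rw [huw, mul_inv_cancel_right]
    exact hwC
  have huNC := mem_normalizer_of_TI hTI hwC hw1 h1
  have huN := mem_normalizer_of_mem_normalizer_centralizer P hab hC huNC
  by_cases huC : u ∈ centralizer ((P : Subgroup G) : Set G)
  · exact involution_unique P hab hC hk hk2 huC hu2
  · exact absurd (eq_one_of_commute P hab hperf hN hC huN huC hw huw) hw1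

/-- An element conjugating a nonidentity element of `P` into `P` commutes with the involution of
`C_G(P)`. -/
theorem commute_of_conj_mem (hab : IsMulCommutative ↥(P : Subgroup G))
    (hC : Nat.card (centralizer ((P : Subgroup G) : Set G)) = 2 * Nat.card (P : Subgroup G))
    (hTI : Cfsg.IsTISubset ((centralizer ((P : Subgroup G) : Set G) : Subgroup G) : Set G))
    {k : G} (hk : k ∈ centralizer ((P : Subgroup G) : Set G)) (hk2 : orderOf k = 2)
    {w s : G} (hw : w ∈ (P : Subgroup G)) (hw1 : w ≠ 1) (hs : s * w * s⁻¹ ∈ (P : Subgroup G)) :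
    s * k = k * s := by
  have hPC : (P : Subgroup G) ≤ centralizer ((P : Subgroup G) : Set G) :=
    Subgroup.le_centralizer _
  have hsNC := mem_normalizer_of_TI hTI (hPC hw) hw1 (hPC hs)
  have h1 : s * k * s⁻¹ ∈ centralizer ((P : Subgroup G) : Set G) :=
    (mem_normalizer_iff.mp hsNC k).mp hk
  have h2 : orderOf (s * k * s⁻¹) = 2 := by
    have := orderOf_injective (MulAut.conj s).toMonoidHom (MulAut.conj s).injective k
    rw [← hk2, ← this]
    rfl
  have h3 := involution_unique P hab hC hk hk2 h1 h2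
  calc s * k = (s * k * s⁻¹) * s := by group
    _ = k * s := by rw [h3]

/-- For every element `w` of order `3` there is an involution commuting with every element
inverting `w`, and equal to every involution centralizing `w`. -/
theorem exists_common (hab : IsMulCommutative ↥(P : Subgroup G))
    (hperf : commutator G = ⊤)
    (hN : Nat.card (normalizer ((P : Subgroup G) : Set G)) = 4 * Nat.card (P : Subgroup G))
    (hC : Nat.card (centralizer ((P : Subgroup G) : Set G)) = 2 * Nat.card (P : Subgroup G))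
    (hTI : Cfsg.IsTISubset ((centralizer ((P : Subgroup G) : Set G) : Subgroup G) : Set G))
    {k : G} (hk : k ∈ centralizer ((P : Subgroup G) : Set G)) (hk2 : orderOf k = 2)
    {w : G} (hw3 : orderOf w = 3) :
    ∃ z : G, orderOf z = 2 ∧ (∀ s : G, s * w * s⁻¹ = w⁻¹ → s * z = z * s) ∧
      (∀ u : G, orderOf u = 2 → u * w = w * u → u = z) := by
  have hzp : IsPGroup 3 ↥(zpowers w) :=
    IsPGroup.of_card (n := 1) (by rw [Nat.card_zpowers, hw3, pow_one])
  obtain ⟨g, hg⟩ := Cfsg.Agent.Lib.Helper33.Conj.exists_cj_le_sylow P hzp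
  have hw' : g * w * g⁻¹ ∈ (P : Subgroup G) :=
    hg (Cfsg.Agent.Lib.Helper33.Conj.conj_mem_cj (mem_zpowers w))
  have hw1 : w ≠ 1 := by
    rintro rfl
    rw [orderOf_one] at hw3
    omega
  have hw'1 : g * w * g⁻¹ ≠ 1 := by
    intro h
    apply hw1
    have : w = g⁻¹ * (g * w * g⁻¹) * g := by group
    rw [this, h]
    group
  have hord : ∀ x : G, orderOf (g * x * g⁻¹) = orderOf x := fun x =>
    orderOf_injective (MulAut.conj g).toMonoidHom (MulAut.conj g).injective x
  have hord' : ∀ x : G, orderOf (g⁻¹ * x * g) = orderOf x := by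
    intro x
    have := hord (g⁻¹ * x * g)
    have e : g * (g⁻¹ * x * g) * g⁻¹ = x := by group
    rw [e] at this
    exact this.symm
  refine ⟨g⁻¹ * k * g, by rw [hord', hk2], ?_, ?_⟩
  · intro s hs
    have h1 : (g * s * g⁻¹) * (g * w * g⁻¹) * (g * s * g⁻¹)⁻¹ ∈ (P : Subgroup G) := by
      have e : (g * s * g⁻¹) * (g * w * g⁻¹) * (g * s * g⁻¹)⁻¹ = (g * w * g⁻¹)⁻¹ := by
        have : (g * s * g⁻¹) * (g * w * g⁻¹) * (g * s * g⁻¹)⁻¹ = g * (s * w * s⁻¹) * g⁻¹ := by
          group
        rw [this, hs]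
        group
      rw [e]
      exact inv_mem hw'
    have h2 := commute_of_conj_mem P hab hC hTI hk hk2 hw' hw'1 h1
    calc s * (g⁻¹ * k * g) = g⁻¹ * ((g * s * g⁻¹) * k) * g := by group
      _ = g⁻¹ * (k * (g * s * g⁻¹)) * g := by rw [h2]
      _ = g⁻¹ * k * g * s := by group
  · intro u hu2 huw
    have h1 : (g * u * g⁻¹) * (g * w * g⁻¹) = (g * w * g⁻¹) * (g * u * g⁻¹) := by
      calc (g * u * g⁻¹) * (g * w * g⁻¹) = g * (u * w) * g⁻¹ := by group
        _ = g * (w * u) * g⁻¹ := by rw [huw]
        _ = (g * w * g⁻¹) * (g * u * g⁻¹) := by group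
    have h2 := involution_eq P hab hperf hN hC hTI hk hk2 hw' hw'1
      (by rw [hord, hu2]) h1
    rw [← h2]
    group

end Config

section Inv

variable {G : Type*} [Group G]

theorem sq_of_ord {s : G} (h : orderOf s = 2) : s * s = 1 := by
  rw [← pow_two, ← h]
  exact pow_orderOf_eq_one s

theorem inv_of_ord {s : G} (h : orderOf s = 2) : s⁻¹ = s :=
  inv_eq_of_mul_eq_one_right (sq_of_ord h)

theorem ne_one_of_ord {s : G} (h : orderOf s = 2) : s ≠ 1 := by
  rintro rfl
  rw [orderOf_one] at h
  omega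

theorem mem_zpowers_two {s x : G} (hs : orderOf s = 2) (hx : x ∈ zpowers s) :
    x = 1 ∨ x = s := by
  obtain ⟨i, hi⟩ := hx
  simp only at hi
  have e : s ^ i = s ^ (i % ((orderOf s : ℕ) : ℤ)) := (zpow_mod_orderOf s i).symm
  rw [hs] at e
  rcases Int.emod_two_eq_zero_or_one i with h | h
  · left
    rw [← hi, e]
    norm_num [h]
  · right
    rw [← hi, e]
    norm_num [h]

theorem mem_centralizer_zpowers {a b : G} (h : a * b = b * a) :
    a ∈ centralizer ((zpowers b : Subgroup G) : Set G) := by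
  rw [mem_centralizer_iff]
  rintro _ ⟨i, rfl⟩
  exact ((show Commute a b from h).zpow_right i).eq.symm

theorem mem_sup_zpowers {s t x : G} (h : s * t = t * s) (hx : x ∈ zpowers s ⊔ zpowers t) :
    ∃ a ∈ zpowers s, ∃ b ∈ zpowers t, x = a * b := by
  have comm : ∀ (m : ↥(zpowers s)) (n : ↥(zpowers t)),
      Commute ((zpowers s).subtype m) ((zpowers t).subtype n) := by
    rintro ⟨_, ⟨i, rfl⟩⟩ ⟨_, ⟨j, rfl⟩⟩
    exact (show Commute s t from h).zpow_zpow i j
  have hr := MonoidHom.noncommCoprod_range (zpowers s).subtype (zpowers t).subtype comm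
  rw [Subgroup.range_subtype, Subgroup.range_subtype] at hr
  rw [← hr] at hx
  obtain ⟨⟨a, b⟩, rfl⟩ := hx
  exact ⟨a, a.2, b, b.2, rfl⟩

/-- In a nonabelian simple group no nontrivial cyclic subgroup is normal. -/
theorem zpowers_not_normal (hs : IsSimpleGroup G) (hnc : ¬ ∀ a b : G, a * b = b * a) {x : G}
    (hx1 : x ≠ 1) : ¬ (zpowers x).Normal := by
  intro hnorm
  rcases hs.eq_bot_or_eq_top_of_normal (zpowers x) hnorm with h | h
  · exact hx1 (zpowers_eq_bot.mp h)
  · apply hnc
    intro a b
    have ha : a ∈ zpowers x := by rw [h]; exact mem_top a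
    have hb : b ∈ zpowers x := by rw [h]; exact mem_top b
    obtain ⟨i, rfl⟩ := ha
    obtain ⟨j, rfl⟩ := hb
    exact (Commute.zpow_zpow (Commute.refl x) i j).eq

theorem not_central (hs : IsSimpleGroup G) (hnc : ¬ ∀ a b : G, a * b = b * a) {s : G}
    (hs1 : s ≠ 1) : ¬ ∀ g : G, g * s = s * g := by
  intro hcen
  apply zpowers_not_normal hs hnc hs1
  constructor
  rintro _ ⟨i, rfl⟩ g
  have hc : Commute g (s ^ i) := (show Commute g s from hcen g).zpow_right i
  have : g * s ^ i * g⁻¹ = s ^ i := by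
    rw [hc.eq, mul_inv_cancel_right]
  simp only at this ⊢
  rw [this]
  exact ⟨i, rfl⟩

end Inv

/-- The commuting graph on the involutions of a group. -/
def invGraph (G : Type*) [Group G] : SimpleGraph {x : G // orderOf x = 2} where
  Adj x y := x ≠ y ∧ x.1 * y.1 = y.1 * x.1
  symm := ⟨fun _ _ h => ⟨h.1.symm, h.2.symm⟩⟩
  loopless := ⟨fun _ h => h.1 rfl⟩

/-- Commuting case: the only common neighbour of two commuting involutions is their product. -/
theorem common_commuting {G : Type*} [Group G] [Finite G] (hs : IsSimpleGroup G)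
    (hnc : ¬ ∀ a b : G, a * b = b * a) {j : ℕ}
    (heven : ∀ H : Subgroup G, H ≠ ⊤ → 2 ∣ Nat.card H → Nat.card H ∣ 4 * 3 ^ j)
    {s t u : G} (hs2 : orderOf s = 2) (ht2 : orderOf t = 2) (hu2 : orderOf u = 2)
    (hst : s ≠ t) (hus : u ≠ s) (hut : u ≠ t) (cst : s * t = t * s) (csu : s * u = u * s)
    (ctu : t * u = u * t) : u = s * t := by
  obtain ⟨A₁, hA₁⟩ : ∃ A₁ : Subgroup G, A₁ = zpowers s ⊔ zpowers t := ⟨_, rfl⟩
  obtain ⟨A, hA⟩ : ∃ A : Subgroup G, A = A₁ ⊔ zpowers u := ⟨_, rfl⟩
  have hsA₁ : s ∈ A₁ := by rw [hA₁]; exact (le_sup_left : zpowers s ≤ _) (mem_zpowers s)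
  have htA₁ : t ∈ A₁ := by rw [hA₁]; exact (le_sup_right : zpowers t ≤ _) (mem_zpowers t)
  have hA₁A : A₁ ≤ A := by rw [hA]; exact le_sup_left
  have huA : u ∈ A := by rw [hA]; exact (le_sup_right : zpowers u ≤ _) (mem_zpowers u)
  have c1 : Nat.card ↥A₁ ∣ 4 := by
    have := Cfsg.Agent.H32.card_sup_dvd (zpowers s) (zpowers t)
      (zpowers_le.mpr (centralizer_le_normalizer _ (mem_centralizer_zpowers cst)))
    rw [Nat.card_zpowers, Nat.card_zpowers, hs2, ht2, ← hA₁] at this
    exact this
  have c2 : Nat.card ↥A ∣ 8 := by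
    have hle : A₁ ≤ normalizer ((zpowers u : Subgroup G) : Set G) := by
      rw [hA₁]
      exact sup_le
        (zpowers_le.mpr (centralizer_le_normalizer _ (mem_centralizer_zpowers csu)))
        (zpowers_le.mpr (centralizer_le_normalizer _ (mem_centralizer_zpowers ctu)))
    have h1 := Cfsg.Agent.H32.card_sup_dvd A₁ (zpowers u) hle
    rw [Nat.card_zpowers, hu2, ← hA] at h1
    exact h1.trans (Nat.mul_dvd_mul_right c1 2)
  have c3 : 2 ∣ Nat.card ↥A := by
    have := orderOf_dvd_natCard (⟨s, hA₁A hsA₁⟩ : ↥A)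
    rwa [← Subgroup.orderOf_coe, hs2] at this
  have hAtop : A ≠ ⊤ := by
    intro htop
    apply not_central hs hnc (ne_one_of_ord hs2)
    intro g
    have hg : g ∈ A := by rw [htop]; exact mem_top g
    have hle : A ≤ centralizer ({s} : Set G) := by
      rw [hA, hA₁]
      refine sup_le (sup_le ?_ ?_) ?_ <;> rw [zpowers_le, mem_centralizer_singleton_iff]
      · exact cst.symm
      · exact csu.symm
    exact mem_centralizer_singleton_iff.mp (hle hg)
  have c4 : Nat.card ↥A ∣ 4 := by
    have h1 := heven A hAtop c3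
    have hcop : Nat.Coprime (Nat.card ↥A) (3 ^ j) :=
      Nat.Coprime.coprime_dvd_left c2 (Nat.Coprime.pow_right j (by norm_num))
    exact hcop.dvd_of_dvd_mul_right h1
  have hB : zpowers s ≤ A₁ := by rw [hA₁]; exact le_sup_left
  have htB : t ∉ zpowers s := by
    intro h
    rcases mem_zpowers_two hs2 h with h | h
    · exact ne_one_of_ord ht2 h
    · exact hst h.symm
  have c5 : Nat.card ↥A₁ = 4 := by
    have hne : Nat.card ↥A₁ ≠ 2 := by
      intro h2
      have : zpowers s = A₁ :=
        Subgroup.eq_of_le_of_card_ge hB (by rw [h2, Nat.card_zpowers, hs2])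
      exact htB (by rw [this]; exact htA₁)
    have hge : 2 ≤ Nat.card ↥A₁ := by
      have := Subgroup.card_le_of_le hB
      rwa [Nat.card_zpowers, hs2] at this
    have hle4 : Nat.card ↥A₁ ≤ 4 := Nat.le_of_dvd (by norm_num) c1
    obtain ⟨c, hc⟩ : ∃ c, c = Nat.card ↥A₁ := ⟨_, rfl⟩
    rw [← hc] at hne hge hle4 c1 ⊢
    interval_cases c
    · exact absurd rfl hne
    · exact absurd c1 (by decide)
    · rfl
  have hAA : A₁ = A :=
    Subgroup.eq_of_le_of_card_ge hA₁A (by rw [c5]; exact Nat.le_of_dvd (by norm_num) c4)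
  have hu' : u ∈ zpowers s ⊔ zpowers t := by rw [← hA₁, hAA]; exact huA
  obtain ⟨a, ha, b, hb, rfl⟩ := mem_sup_zpowers cst hu'
  rcases mem_zpowers_two hs2 ha with rfl | rfl <;> rcases mem_zpowers_two ht2 hb with rfl | rfl
  · exact absurd (one_mul (1 : G)) (ne_one_of_ord hu2)
  · exact absurd (one_mul _) hut
  · exact absurd (mul_one _) hus
  · rfl

/-- Non-commuting case: the product of two non-commuting involutions has order divisible by 3. -/
theorem three_dvd {G : Type*} [Group G] [Finite G] (hs : IsSimpleGroup G)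
    (hnc : ¬ ∀ a b : G, a * b = b * a) {j : ℕ}
    (heven : ∀ H : Subgroup G, H ≠ ⊤ → 2 ∣ Nat.card H → Nat.card H ∣ 4 * 3 ^ j)
    {s t : G} (hs2 : orderOf s = 2) (ht2 : orderOf t = 2) (hst : s * t ≠ t * s) :
    3 ∣ orderOf (s * t) := by
  obtain ⟨x, hx⟩ : ∃ x : G, x = s * t := ⟨_, rfl⟩
  rw [← hx]
  have hsx : s * x * s⁻¹ = x⁻¹ := by
    rw [hx, inv_of_ord hs2, mul_inv_rev, inv_of_ord hs2, inv_of_ord ht2, ← mul_assoc,
      sq_of_ord hs2, one_mul]
  have hx1 : x ≠ 1 := by
    intro h
    apply hst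
    rw [hx] at h
    have : t = s := by
      rw [← inv_of_ord hs2]
      exact eq_inv_of_mul_eq_one_right h
    rw [this]
  by_contra h3
  obtain ⟨D, hD⟩ : ∃ D : Subgroup G, D = zpowers s ⊔ zpowers x := ⟨_, rfl⟩
  have hsN : s ∈ normalizer ((zpowers x : Subgroup G) : Set G) := by
    have key : ∀ h ∈ zpowers x, s * h * s⁻¹ ∈ zpowers x := by
      intro h hh
      obtain ⟨i, hi⟩ := hh
      simp only at hi
      have : s * x ^ i * s⁻¹ = (x⁻¹) ^ i := by rw [← hsx, conj_zpow]
      rw [← hi, this]
      exact zpow_mem (inv_mem (mem_zpowers x)) i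
    rw [mem_normalizer_iff]
    intro h
    refine ⟨key h, fun hh => ?_⟩
    have h1 := key _ hh
    have e : s * (s * h * s⁻¹) * s⁻¹ = h := by
      rw [inv_of_ord hs2]
      calc s * (s * h * s) * s = (s * s) * h * (s * s) := by group
        _ = h := by rw [sq_of_ord hs2, one_mul, mul_one]
    rw [e] at h1
    exact h1
  have c1 : Nat.card ↥D ∣ 2 * orderOf x := by
    have := Cfsg.Agent.H32.card_sup_dvd (zpowers s) (zpowers x) (zpowers_le.mpr hsN)
    rwa [Nat.card_zpowers, Nat.card_zpowers, hs2, ← hD] at this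
  have hsD : s ∈ D := by rw [hD]; exact (le_sup_left : zpowers s ≤ _) (mem_zpowers s)
  have hXD : zpowers x ≤ D := by rw [hD]; exact le_sup_right
  have c3 : 2 ∣ Nat.card ↥D := by
    have := orderOf_dvd_natCard (⟨s, hsD⟩ : ↥D)
    rwa [← Subgroup.orderOf_coe, hs2] at this
  have hDtop : D ≠ ⊤ := by
    intro htop
    apply zpowers_not_normal hs hnc hx1
    have hle : D ≤ normalizer ((zpowers x : Subgroup G) : Set G) := by
      rw [hD]
      exact sup_le (zpowers_le.mpr hsN) le_normalizer
    rw [htop] at hle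
    exact normalizer_eq_top_iff.mp (top_le_iff.mp hle)
  have c4 : Nat.card ↥D ∣ 4 * 3 ^ j := heven D hDtop c3
  have c5 : orderOf x ∣ 4 * 3 ^ j := by
    have := Subgroup.card_dvd_of_le hXD
    rw [Nat.card_zpowers] at this
    exact this.trans c4
  have hcop : Nat.Coprime (orderOf x) (3 ^ j) :=
    Nat.Coprime.pow_right j ((Nat.Prime.coprime_iff_not_dvd Nat.prime_three).mpr h3).symm
  have c6 : orderOf x ∣ 4 := hcop.dvd_of_dvd_mul_right c5
  have hpos : 0 < orderOf x := orderOf_pos x
  have hle4 : orderOf x ≤ 4 := Nat.le_of_dvd (by norm_num) c6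
  have h124 : orderOf x = 1 ∨ orderOf x = 2 ∨ orderOf x = 4 := by
    obtain ⟨c, hc⟩ : ∃ c, c = orderOf x := ⟨_, rfl⟩
    rw [← hc] at hpos hle4 c6 ⊢
    interval_cases c
    · exact Or.inl rfl
    · exact Or.inr (Or.inl rfl)
    · exact absurd c6 (by decide)
    · exact Or.inr (Or.inr rfl)
  rcases h124 with h | h | h
  · exact hx1 (orderOf_eq_one_iff.mp h)
  · apply hst
    have hxx : x * x = 1 := sq_of_ord h
    have e1 : x = x⁻¹ := eq_inv_of_mul_eq_one_left hxx
    have e2 : x⁻¹ = t * s := by
      rw [hx, mul_inv_rev, inv_of_ord hs2, inv_of_ord ht2]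
    rw [← hx, e1, e2]
  · rw [h] at c1
    have c7 : Nat.card ↥D ∣ 4 := by
      have hcop' : Nat.Coprime (Nat.card ↥D) (3 ^ j) :=
        Nat.Coprime.coprime_dvd_left c1 (Nat.Coprime.pow_right j (by norm_num))
      exact hcop'.dvd_of_dvd_mul_right c4
    have hXeq : zpowers x = D :=
      Subgroup.eq_of_le_of_card_ge hXD
        (by rw [Nat.card_zpowers, h]; exact Nat.le_of_dvd (by norm_num) c7)
    have hsX : s ∈ zpowers x := by rw [hXeq]; exact hsD
    obtain ⟨i, hi⟩ := hsX
    simp only at hi
    have hcomm : s * x = x * s := by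
      rw [← hi]
      exact (Commute.zpow_left (Commute.refl x) i).eq
    apply hst
    rw [hx, ← mul_assoc, sq_of_ord hs2, one_mul] at hcomm
    calc s * t = s * (s * t * s) := by rw [← hcomm]
      _ = t * s := by rw [← mul_assoc, ← mul_assoc, sq_of_ord hs2, one_mul]

open Cfsg.Agent.Lib.Helper73.Friendship in
open scoped commutatorElement in
/-- Let G be a finite group with an abelian Sylow 3-subgroup P such that the normalizer of P has order 4·#P, the centralizer C of P has order 2·#P, C meets each of its conjugates by elements outside its normalizer trivially, and every proper subgroup of G of even order has order dividing 4·#P. Then G is not simple. -/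
theorem result {G : Type*} [Group G] [Finite G]
    (P : Sylow 3 G) (hab : IsMulCommutative P)
    (hN : Nat.card (Subgroup.normalizer ((P : Subgroup G) : Set G)) = 4 * Nat.card P)
    (hC : Nat.card (Subgroup.centralizer (P : Set G)) = 2 * Nat.card P)
    (hTI : Cfsg.IsTISubset (Subgroup.centralizer (P : Set G) : Set G))
    (heven : ∀ H : Subgroup G, H ≠ ⊤ → 2 ∣ Nat.card H → Nat.card H ∣ 4 * Nat.card P) :
    ¬ IsSimpleGroup G := by
  intro hs
  have hab' : IsMulCommutative ↥(P : Subgroup G) := hab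
  have hN' : Nat.card (normalizer ((P : Subgroup G) : Set G)) =
      4 * Nat.card (P : Subgroup G) := hN
  have hC' : Nat.card (centralizer ((P : Subgroup G) : Set G)) =
      2 * Nat.card (P : Subgroup G) := hC
  have hTI' : Cfsg.IsTISubset
      ((centralizer ((P : Subgroup G) : Set G) : Subgroup G) : Set G) := hTI
  have heven' : ∀ H : Subgroup G, H ≠ ⊤ → 2 ∣ Nat.card H →
      Nat.card H ∣ 4 * Nat.card (P : Subgroup G) := heven
  obtain ⟨j, hj⟩ := IsPGroup.iff_card.mp P.2
  have hnc : ¬ ∀ a b : G, a * b = b * a := by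
    intro hcomm
    have h1 : centralizer ((P : Subgroup G) : Set G) = ⊤ := by
      rw [eq_top_iff]
      intro g _
      rw [mem_centralizer_iff]
      intro h _
      exact hcomm h g
    have h2 : normalizer ((P : Subgroup G) : Set G) = ⊤ := by
      rw [eq_top_iff, ← h1]
      exact centralizer_le_normalizer _
    have h3 : Nat.card (centralizer ((P : Subgroup G) : Set G)) =
        Nat.card (normalizer ((P : Subgroup G) : Set G)) := by rw [h1, h2]
    have := Nat.card_pos (α := ↥(P : Subgroup G))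
    omega
  have hperf : commutator G = ⊤ := by
    rcases hs.eq_bot_or_eq_top_of_normal (commutator G) inferInstance with h | h
    · exfalso
      apply hnc
      intro a b
      have : ⁅a, b⁆ ∈ commutator G := by
        rw [_root_.commutator_def]
        exact Subgroup.commutator_mem_commutator (mem_top a) (mem_top b)
      rw [h, mem_bot, commutatorElement_eq_one_iff_commute] at this
      exact this.eq
    · exact h
  obtain ⟨k, hkC, hk2⟩ : ∃ k ∈ centralizer ((P : Subgroup G) : Set G), orderOf k = 2 := by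
    have h2 : 2 ∣ Nat.card ↥(centralizer ((P : Subgroup G) : Set G)) := by
      rw [hC']
      exact dvd_mul_right 2 _
    obtain ⟨x, hx⟩ := exists_prime_orderOf_dvd_card'
      (G := ↥(centralizer ((P : Subgroup G) : Set G))) 2 h2
    exact ⟨x, x.2, by rw [Subgroup.orderOf_coe]; exact hx⟩
  rw [hj] at heven'
  classical
  haveI : Fintype G := Fintype.ofFinite G
  have hF : Friendship (invGraph G) := by
    intro v w hvw
    rw [Fintype.card_eq_one_iff]
    have hvw' : v.1 ≠ w.1 := fun h => hvw (Subtype.ext h)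
    by_cases hc : v.1 * w.1 = w.1 * v.1
    · have ho : orderOf (v.1 * w.1) = 2 := by
        haveI : Fact (Nat.Prime 2) := ⟨Nat.prime_two⟩
        apply orderOf_eq_prime
        · rw [pow_two]
          calc v.1 * w.1 * (v.1 * w.1) = v.1 * (w.1 * v.1) * w.1 := by group
            _ = v.1 * (v.1 * w.1) * w.1 := by rw [hc]
            _ = (v.1 * v.1) * (w.1 * w.1) := by group
            _ = 1 := by rw [sq_of_ord v.2, sq_of_ord w.2, one_mul]
        · intro h
          apply hvw'
          have : w.1 = v.1⁻¹ := eq_inv_of_mul_eq_one_right h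
          rw [this, inv_of_ord v.2]
      have hadj1 : (invGraph G).Adj v ⟨v.1 * w.1, ho⟩ := by
        refine ⟨fun h => ?_, ?_⟩
        · have h1 : v.1 = v.1 * w.1 := congrArg Subtype.val h
          exact ne_one_of_ord w.2 (by simpa using h1)
        · show v.1 * (v.1 * w.1) = v.1 * w.1 * v.1
          rw [mul_assoc, hc]
      have hadj2 : (invGraph G).Adj w ⟨v.1 * w.1, ho⟩ := by
        refine ⟨fun h => ?_, ?_⟩
        · have h1 : w.1 = v.1 * w.1 := congrArg Subtype.val h
          exact ne_one_of_ord v.2 (by simpa using h1)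
        · show w.1 * (v.1 * w.1) = v.1 * w.1 * w.1
          rw [← mul_assoc, hc]
      refine ⟨⟨⟨v.1 * w.1, ho⟩, hadj1, hadj2⟩, ?_⟩
      rintro ⟨y, hy1, hy2⟩
      have hy1' : v ≠ y ∧ v.1 * y.1 = y.1 * v.1 := hy1
      have hy2' : w ≠ y ∧ w.1 * y.1 = y.1 * w.1 := hy2
      apply Subtype.ext
      apply Subtype.ext
      show y.1 = v.1 * w.1
      exact common_commuting hs hnc heven' v.2 w.2 y.2 hvw'
        (fun h => hy1'.1 (Subtype.ext h.symm)) (fun h => hy2'.1 (Subtype.ext h.symm))
        hc hy1'.2 hy2'.2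
    · have h3 := three_dvd hs hnc heven' v.2 w.2 hc
      obtain ⟨x, hx⟩ : ∃ x : G, x = v.1 * w.1 := ⟨_, rfl⟩
      rw [← hx] at h3
      have hw3 : orderOf (x ^ (orderOf x / 3)) = 3 :=
        orderOf_pow_orderOf_div (orderOf_pos x).ne' h3
      obtain ⟨z, hz2, hzs, hzu⟩ := exists_common P hab' hperf hN' hC' hTI' hkC hk2 hw3
      have hvx : v.1 * x * v.1⁻¹ = x⁻¹ := by
        rw [hx, inv_of_ord v.2, mul_inv_rev, inv_of_ord v.2, inv_of_ord w.2, ← mul_assoc,
          sq_of_ord v.2, one_mul]
      have hwx : w.1 * x * w.1⁻¹ = x⁻¹ := by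
        rw [hx, inv_of_ord w.2, mul_inv_rev, inv_of_ord v.2, inv_of_ord w.2, mul_assoc,
          mul_assoc, sq_of_ord w.2, mul_one]
      have hvz : v.1 * z = z * v.1 := hzs v.1 (by rw [← conj_pow, hvx, inv_pow])
      have hwz : w.1 * z = z * w.1 := hzs w.1 (by rw [← conj_pow, hwx, inv_pow])
      have hadj1 : (invGraph G).Adj v ⟨z, hz2⟩ := by
        refine ⟨fun h => ?_, hvz⟩
        have h1 : v.1 = z := congrArg Subtype.val h
        apply hc
        rw [h1]
        exact hwz.symm
      have hadj2 : (invGraph G).Adj w ⟨z, hz2⟩ := by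
        refine ⟨fun h => ?_, hwz⟩
        have h1 : w.1 = z := congrArg Subtype.val h
        apply hc
        rw [h1]
        exact hvz
      refine ⟨⟨⟨z, hz2⟩, hadj1, hadj2⟩, ?_⟩
      rintro ⟨y, hy1, hy2⟩
      have hy1' : v ≠ y ∧ v.1 * y.1 = y.1 * v.1 := hy1
      have hy2' : w ≠ y ∧ w.1 * y.1 = y.1 * w.1 := hy2
      apply Subtype.ext
      apply Subtype.ext
      show y.1 = z
      apply hzu y.1 y.2
      have hyx : Commute y.1 x := by
        rw [hx]
        exact Commute.mul_right (show Commute y.1 v.1 from hy1'.2.symm)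
          (show Commute y.1 w.1 from hy2'.2.symm)
      exact (hyx.pow_right _).eq
  haveI : Nonempty {x : G // orderOf x = 2} := ⟨⟨k, hk2⟩⟩
  obtain ⟨v₀, hv₀⟩ := friendship_theorem hF
  apply not_central hs hnc (ne_one_of_ord v₀.2)
  have hle : normalClosure ({v₀.1} : Set G) ≤ centralizer ({v₀.1} : Set G) := by
    unfold normalClosure
    rw [closure_le]
    intro y hy
    obtain ⟨x, hx, hxy⟩ := Group.mem_conjugatesOfSet_iff.mp hy
    rw [Set.mem_singleton_iff] at hx
    subst hx
    obtain ⟨c, hc⟩ := isConj_iff.mp hxy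
    have hy2 : orderOf y = 2 := by
      have h1 : orderOf (c * v₀.1 * c⁻¹) = orderOf v₀.1 :=
        orderOf_injective (MulAut.conj c).toMonoidHom (MulAut.conj c).injective v₀.1
      rw [← hc, h1]
      exact v₀.2
    rw [SetLike.mem_coe, mem_centralizer_singleton_iff]
    by_cases hyv : (⟨y, hy2⟩ : {x : G // orderOf x = 2}) = v₀
    · have : y = v₀.1 := congrArg Subtype.val hyv
      rw [this]
    · have h1 : v₀ ≠ ⟨y, hy2⟩ ∧ v₀.1 * y = y * v₀.1 := hv₀ ⟨y, hy2⟩ (Ne.symm hyv)
      exact h1.2.symm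
  have htop : normalClosure ({v₀.1} : Set G) = ⊤ := by
    rcases hs.eq_bot_or_eq_top_of_normal _ normalClosure_normal with h | h
    · exfalso
      have : v₀.1 ∈ normalClosure ({v₀.1} : Set G) :=
        subset_normalClosure (Set.mem_singleton _)
      rw [h, mem_bot] at this
      exact ne_one_of_ord v₀.2 this
    · exact h
  intro g
  have hg : g ∈ centralizer ({v₀.1} : Set G) := hle (by rw [htop]; exact mem_top g)
  exact mem_centralizer_singleton_iff.mp hg

end Cfsg.Agent.S4018
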