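import Cfsg.Statements.S0175
import Mathlib
import Cfsg.Agent.Lib.Helper3.Irr
import Cfsg.Agent.Lib.Helper3.Orth
import Cfsg.Agent.Lib.CT.NormOne
import Cfsg.Agent.Lib.CT.Ops
import Cfsg.Agent.Lib.CT.LinChar
import Cfsg.Agent.Lib.CT.FrobRec
import Cfsg.Agent.Lib.CT.IndChar

set_option autoImplicit false
open Cfsg

namespace Cfsg.Agent.S0175

open Cfsg.Agent.Lib.Helper3.Irr Cfsg.Agent.Lib.CT.FrobRec
open scoped commutatorElement

/-- The kernel of the permutation character on the cosets of `H` lies in `H`. -/
theorem mem_of_indFun_one_eq {G : Type*} [Group G] [Fintype G] (H : Subgroup G) {g : G}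
    (hg : indFun H (fun _ => (1 : ℂ)) g = indFun H (fun _ => (1 : ℂ)) 1) : g ∈ H := by
  classical
  have hext : ∀ y : G, extendByZero H (fun _ => (1 : ℂ)) y = if y ∈ H then 1 else 0 := by
    intro y
    by_cases hy : y ∈ H
    · rw [extendByZero_apply_of_mem H _ hy, if_pos hy]
    · rw [extendByZero_apply_of_not_mem H _ hy, if_neg hy]
  rw [indFun_apply, indFun_apply] at hg
  simp only [hext] at hg
  have hH : (Nat.card H : ℂ)⁻¹ ≠ 0 := inv_ne_zero (by exact_mod_cast Nat.card_pos.ne')
  have h1 := mul_left_cancel₀ hH hg
  rw [Finset.sum_boole, Finset.sum_boole] at h1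
  have h2 : (Finset.univ.filter (fun x : G => x⁻¹ * g * x ∈ H)).card
      = (Finset.univ.filter (fun x : G => x⁻¹ * 1 * x ∈ H)).card := by exact_mod_cast h1
  have h3 : (Finset.univ.filter (fun x : G => x⁻¹ * 1 * x ∈ H)) = Finset.univ := by
    rw [Finset.filter_eq_self]
    intro x _
    simp [H.one_mem]
  rw [h3] at h2
  have h4 := (Finset.card_filter_eq_iff.1 h2) 1 (Finset.mem_univ 1)
  simpa using h4

/-- A normal subgroup inside the kernel of a linear character of `H` is in the kernel of the
induced character. -/
theorem indFun_eq_of_normal {G : Type*} [Group G] [Fintype G] (H : Subgroup G) (lam : H →* ℂˣ)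
    (D : Subgroup G) [hD : D.Normal] (hDH : ∀ n ∈ D, ∃ hn : n ∈ H, lam ⟨n, hn⟩ = 1) {n : G}
    (hn : n ∈ D) :
    indFun H (fun h => ((lam h : ℂˣ) : ℂ)) n = indFun H (fun h => ((lam h : ℂˣ) : ℂ)) 1 := by
  rw [indFun_apply, indFun_apply]
  congr 1
  refine Finset.sum_congr rfl (fun x _ => ?_)
  have h1 : x⁻¹ * n * x ∈ D := by
    have := hD.conj_mem n hn x⁻¹
    rwa [inv_inv] at this
  obtain ⟨h2, h3⟩ := hDH _ h1
  have h4 : x⁻¹ * 1 * x ∈ H := by simp [H.one_mem]
  rw [extendByZero_apply_of_mem H _ h2, extendByZero_apply_of_mem H _ h4, h3]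
  have h5 : (⟨x⁻¹ * 1 * x, h4⟩ : H) = 1 := Subtype.ext (by simp)
  rw [h5, map_one]

/-- Taketa's Theorem on M-groups: if every irreducible complex character of a finite group is induced from a linear character (a homomorphism to ℂˣ) of some subgroup, the group is solvable. -/
theorem result {G : Type*} [Group G] [Fintype G] (hM : ∀ χ : G → ℂ, Cfsg.IsIrrCharacter G χ → ∃ (H : Subgroup G) (lam : H →* ℂˣ), χ = Cfsg.indFun H (fun h => (lam h : ℂ))) : Group.IsSolvable G := by
  classical
  have hfin := finite_irrCharacter (G := G)
  haveI : Fintype (IrrCharacter G) := Fintype.ofFinite _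
  choose d hdpos hd using fun ψ : IrrCharacter G => IsIrrCharacter.exists_apply_one_pos ψ.2
  let triv : IrrCharacter G := ⟨fun _ => 1, Cfsg.Agent.Lib.CT.Ops.isIrrCharacter_one⟩
  have hdtriv : d triv = 1 := by
    have := hd triv
    have h1 : (triv : G → ℂ) 1 = 1 := rfl
    rw [h1] at this
    exact_mod_cast this.symm
  have key : ∀ D : ℕ, ∃ k : ℕ, ∀ χ : IrrCharacter G, d χ ≤ D →
      ∀ g ∈ derivedSeries G k, (χ : G → ℂ) g = (χ : G → ℂ) 1 := by
    intro D
    induction D with
    | zero =>
      refine ⟨0, fun χ hχ => ?_⟩
      have := hdpos χ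
      omega
    | succ D ih =>
      obtain ⟨k, hk⟩ := ih
      refine ⟨k + 1, fun χ hχ g hg => ?_⟩
      have hgk : g ∈ derivedSeries G k := derivedSeries_antitone G (Nat.le_succ k) hg
      by_cases hχD : d χ ≤ D
      · exact hk χ hχD g hgk
      · have hdχ : d χ = D + 1 := by omega
        obtain ⟨H, lam, hχH⟩ := hM χ χ.2
        have hidx : H.index = D + 1 := by
          have h1 := hd χ
          rw [hχH, indFun_one, map_one, Units.val_one, mul_one, hdχ] at h1
          exact_mod_cast h1
        -- the k-th derived subgroup lies in H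
        have hDH : ∀ x ∈ derivedSeries G k, x ∈ H := by
          intro x hx
          by_cases hH : H = ⊤
          · rw [hH]
            exact Subgroup.mem_top x
          · have hidx2 : 2 ≤ H.index := by
              have h1 : H.index ≠ 1 := fun h => hH (Subgroup.index_eq_one.1 h)
              have h2 : H.index ≠ 0 := Subgroup.index_ne_zero_of_finite
              omega
            have hΦ : IsCharacter G (indFun H (fun _ => (1 : ℂ))) :=
              Cfsg.Agent.Lib.CT.IndChar.isCharacter_indFun H _ Cfsg.Agent.Lib.CT.Ops.isCharacter_one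
            obtain ⟨m, hm, hexp⟩ := Cfsg.Agent.Lib.CT.NormOne.exists_mult_sum hΦ
            have hmtriv : m triv = 1 := by
              have h1 := hm triv
              have h2 := frobenius_reciprocity H (fun _ => (1 : ℂ)) (fun _ : G => (1 : ℂ))
                (fun _ _ => rfl)
              have h3 : classInner (fun _ : H => (1 : ℂ)) (fun _ : H => (1 : ℂ)) = 1 := by
                unfold classInner
                have hH0 : (Nat.card H : ℂ) ≠ 0 := by exact_mod_cast Nat.card_pos.ne'
                simp only [map_one, mul_one, Finset.sum_const, Finset.card_univ, nsmul_eq_mul]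
                rw [← Nat.card_eq_fintype_card]
                exact inv_mul_cancel₀ hH0
              rw [h3] at h2
              have h4 : ((triv : IrrCharacter G) : G → ℂ) = fun _ => (1 : ℂ) := rfl
              rw [h4, h2] at h1
              exact_mod_cast h1.symm
            have hsum : H.index = ∑ φ : IrrCharacter G, m φ * d φ := by
              have h1 := congrFun hexp 1
              rw [indFun_one, mul_one, Finset.sum_apply] at h1
              have h2 : ∀ φ : IrrCharacter G, ((m φ : ℂ) • (φ : G → ℂ)) 1 = ((m φ * d φ : ℕ) : ℂ) := by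
                intro φ
                rw [Pi.smul_apply, hd φ, smul_eq_mul]
                push_cast
                ring
              simp only [h2] at h1
              exact_mod_cast h1
            have hdeg : ∀ φ : IrrCharacter G, m φ ≠ 0 → d φ ≤ D := by
              intro φ hφ
              by_cases hφt : φ = triv
              · rw [hφt, hdtriv]
                omega
              · have h1 : m φ * d φ + m triv * d triv ≤ ∑ ψ : IrrCharacter G, m ψ * d ψ := by
                  have h0 := Finset.sum_pair (f := fun ψ : IrrCharacter G => m ψ * d ψ) hφt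
                  rw [← h0]
                  exact Finset.sum_le_sum_of_subset (Finset.subset_univ _)
                rw [← hsum, hidx, hmtriv, hdtriv] at h1
                have h2 : d φ ≤ m φ * d φ := Nat.le_mul_of_pos_left _ (Nat.pos_of_ne_zero hφ)
                omega
            apply mem_of_indFun_one_eq H
            rw [hexp, Finset.sum_apply, Finset.sum_apply]
            refine Finset.sum_congr rfl (fun φ _ => ?_)
            rw [Pi.smul_apply, Pi.smul_apply]
            by_cases hφ : m φ = 0
            · rw [hφ]
              simp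
            · rw [hk φ (hdeg φ hφ) x hx]
        -- the (k+1)-st derived subgroup lies in the kernel of lam
        have hDL : derivedSeries G (k + 1) ≤ (lam.ker).map H.subtype := by
          rw [derivedSeries_succ, Subgroup.commutator_le]
          intro g₁ hg₁ g₂ hg₂
          refine Subgroup.mem_map.2 ⟨⁅(⟨g₁, hDH g₁ hg₁⟩ : H), ⟨g₂, hDH g₂ hg₂⟩⁆, ?_, rfl⟩
          rw [MonoidHom.mem_ker, commutatorElement_def, map_mul, map_mul, map_mul, map_inv,
            map_inv, mul_comm (lam _) (lam _), mul_inv_cancel_right, mul_inv_cancel]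
        haveI := derivedSeries_normal G (k + 1)
        have hfinal := indFun_eq_of_normal H lam (derivedSeries G (k + 1)) (by
          intro n hn
          obtain ⟨y, hy, rfl⟩ := Subgroup.mem_map.1 (hDL hn)
          exact ⟨y.2, hy⟩) hg
        rw [hχH]
        exact hfinal
  obtain ⟨D, hD⟩ := Finite.exists_le d
  obtain ⟨k, hk⟩ := key D
  rw [Group.isSolvable_def]
  refine ⟨k, ?_⟩
  rw [eq_bot_iff]
  intro g hg
  rw [Subgroup.mem_bot]
  have h1 : IsConj g 1 := by
    rw [Cfsg.Agent.Lib.Helper3.Orth.isConj_iff_irr_eq]
    intro χ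
    exact hk χ (hD χ) g hg
  exact isConj_one_left.1 h1

end Cfsg.Agent.S0175
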