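import Cfsg.Statements.S0898
import Mathlib
import Cfsg.Agent.Lib.Helper3.FTCount
import Cfsg.Agent.Lib.Helper3.MGroup

set_option autoImplicit false
open Cfsg

namespace Cfsg.Agent.S0898

open Cfsg.Agent.Lib.Helper3.Irr Cfsg.Agent.Lib.Helper3.FTCount
open scoped ComplexConjugate commutatorElement

universe u

/-- The norm of a character of an abelian group is at least its degree. -/
theorem degree_le_norm_of_comm {A : Type u} [Group A] [Fintype A]
    (hA : ∀ a b : A, a * b = b * a) {θ : A → ℂ} (hθ : IsCharacter A θ) :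
    (θ 1).re ≤ (classInner θ θ).re := by
  classical
  have := finite_irrCharacter (G := A)
  have : Fintype (IrrCharacter A) := Fintype.ofFinite _
  obtain ⟨m, hm, hexp⟩ := Cfsg.Agent.Lib.CT.NormOne.exists_mult_sum hθ
  have h1 := Cfsg.Agent.Lib.CT.NormOne.classInner_self_eq_sum m hm hexp
  have h2 : θ 1 = ((∑ ψ : IrrCharacter A, m ψ : ℕ) : ℂ) := by
    have := congrFun hexp 1
    rw [this, Finset.sum_apply]
    push_cast
    refine Finset.sum_congr rfl (fun ψ _ => ?_)
    have hψ1 : (ψ : A → ℂ) 1 = 1 :=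
      Cfsg.Agent.Lib.Helper3.MGroup.apply_one_eq_one_of_comm ψ.2 (fun (a b : A) => by
        have : (⁅a, b⁆ : A) = 1 := commutatorElement_eq_one_iff_mul_comm.2 (hA a b)
        rw [this])
    simp [hψ1]
  rw [h1, h2]
  simp only [Complex.natCast_re]
  have : ∑ ψ : IrrCharacter A, m ψ ≤ ∑ ψ : IrrCharacter A, m ψ * m ψ :=
    Finset.sum_le_sum (fun ψ _ => Nat.le_mul_self _)
  exact_mod_cast this

theorem second_part {G : Type u} [Group G] [Fintype G] (H : Subgroup G) [Fintype H]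
    (hyp : FTHyp H) (χ : G → ℂ) (hχ : IsIrrCharacter G χ) (hχ1 : χ 1 ≠ 1)
    (hnormal : ∀ M : Subgroup G, M.Normal → H ≤ M → M = ⊤) :
    (1 + (χ 1).re) ^ 2 > (Nat.card H : ℝ) := by
  classical
  have hχc : IsCharacter G χ := IsIrrCharacter.isCharacter hχ
  have := finite_irrCharacter (G := G)
  have : Fintype (IrrCharacter G) := Fintype.ofFinite _
  obtain ⟨n, hnpos, hn⟩ := IsIrrCharacter.exists_apply_one_pos hχ
  have hn2 : 2 ≤ n := by
    rcases Nat.lt_or_ge n 2 with h | h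
    · exfalso
      apply hχ1
      have : n = 1 := by omega
      rw [hn, this]
      simp
    · exact h
  have hcardH : (0 : ℝ) ≤ (Nat.card H : ℝ) := Nat.cast_nonneg _
  have hHne : (Nat.card H : ℂ) ≠ 0 := by exact_mod_cast Nat.card_pos.ne'
  have hGne : (Nat.card G : ℂ) ≠ 0 := by exact_mod_cast Nat.card_pos.ne'
  -- the character `χ χ̄`
  let Θ : G → ℂ := χ * (fun g => χ g⁻¹)
  have hΘc : IsCharacter G Θ :=
    Cfsg.Agent.Lib.CT.Ops.isCharacter_mul hχc (Cfsg.Agent.Lib.CT.Ops.isCharacter_inv_arg hχc)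
  have hΘapp : ∀ g, Θ g = χ g * conj (χ g) := by
    intro g
    show χ g * χ g⁻¹ = _
    rw [IsCharacter.apply_inv hχc]
  obtain ⟨m, hm, hexp⟩ := Cfsg.Agent.Lib.CT.NormOne.exists_mult_sum hΘc
  have hΘ : ∀ g, Θ g = ∑ ψ : IrrCharacter G, (m ψ : ℂ) * (ψ : G → ℂ) g := by
    intro g
    have := congrFun hexp g
    rw [this, Finset.sum_apply]
    rfl
  let one : IrrCharacter G := ⟨fun _ => 1, Cfsg.Agent.Lib.CT.Ops.isIrrCharacter_one⟩
  have hm1 : m one = 1 := by
    have h1 := hm one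
    have h2 : classInner Θ (one : G → ℂ) = classInner χ χ := by
      unfold classInner
      congr 1
      refine Finset.sum_congr rfl (fun g _ => ?_)
      show Θ g * conj (1 : ℂ) = χ g * conj (χ g)
      rw [hΘapp, map_one, mul_one]
    rw [h2, Cfsg.Agent.Lib.CT.NormOne.inner_self_eq_one_of_irr hχ] at h1
    exact_mod_cast h1.symm
  -- degrees and multiplicities of the principal character of `H`
  let d : IrrCharacter G → ℝ := fun ψ => ((ψ : G → ℂ) 1).re
  let a : IrrCharacter G → ℂ := fun ψ => classInner (fun h : H => (ψ : G → ℂ) h) (fun _ => 1)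
  have hdpos : ∀ ψ, 0 < d ψ := by
    intro ψ
    obtain ⟨k, hkpos, hk⟩ := IsIrrCharacter.exists_apply_one_pos ψ.2
    show 0 < ((ψ : G → ℂ) 1).re
    rw [hk]
    simpa using hkpos
  have hd1 : d one = 1 := by
    show ((1 : ℂ)).re = 1
    simp
  have ha1 : a one = 1 := by
    show classInner (fun _ : H => (1 : ℂ)) (fun _ => 1) = 1
    unfold classInner
    simp only [map_one, mul_one, Finset.sum_const, Finset.card_univ, nsmul_eq_mul]
    rw [← Nat.card_eq_fintype_card, inv_mul_cancel₀ hHne]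
  -- degree equation
  have hE1 : (n : ℝ) ^ 2 = ∑ ψ : IrrCharacter G, (m ψ : ℝ) * d ψ := by
    have h1 := hΘ 1
    have h2 : Θ 1 = (n : ℂ) * n := by
      show χ 1 * χ (1 : G)⁻¹ = _
      rw [inv_one, hn]
    rw [h2] at h1
    have h3 := congrArg Complex.re h1
    rw [Complex.re_sum] at h3
    have h4 : ∀ ψ : IrrCharacter G, ((m ψ : ℂ) * (ψ : G → ℂ) 1).re = (m ψ : ℝ) * d ψ := by
      intro ψ
      rw [← Complex.ofReal_natCast, Complex.re_ofReal_mul]
    rw [Finset.sum_congr rfl (fun ψ _ => h4 ψ)] at h3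
    rw [← h3]
    simp [sq]
  -- multiplicity equation
  have hE2 : classInner (fun h : H => χ h) (fun h : H => χ h)
      = ∑ ψ : IrrCharacter G, (m ψ : ℂ) * a ψ := by
    have h1 : ∀ ψ : IrrCharacter G, (m ψ : ℂ) * a ψ
        = (Nat.card H : ℂ)⁻¹ * ∑ h : H, (m ψ : ℂ) * (ψ : G → ℂ) h := by
      intro ψ
      show (m ψ : ℂ) * ((Nat.card H : ℂ)⁻¹ * ∑ h : H, (ψ : G → ℂ) h * conj (1 : ℂ)) = _
      simp only [map_one, mul_one]
      rw [Finset.mul_sum, Finset.mul_sum, Finset.mul_sum]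
      refine Finset.sum_congr rfl (fun h _ => ?_)
      ring
    rw [Finset.sum_congr rfl (fun ψ _ => h1 ψ), ← Finset.mul_sum, Finset.sum_comm]
    unfold classInner
    congr 1
    refine Finset.sum_congr rfl (fun h _ => ?_)
    rw [← hΘ, hΘapp]
  have hb : (n : ℝ) ≤ (classInner (fun h : H => χ h) (fun h : H => χ h)).re := by
    have h1 := degree_le_norm_of_comm (A := H) (fun x y => Subtype.ext (hyp.1 x x.2 y y.2))
      (Cfsg.Agent.Lib.CT.Ops.isCharacter_restrict H hχc)
    have h2 : ((fun h : H => χ h) 1).re = n := by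
      show (χ 1).re = n
      rw [hn]
      simp
    rw [h2] at h1
    exact h1
  -- the key inequality for non-principal constituents
  set r : ℝ := Real.sqrt (Nat.card H) with hr
  have hr0 : 0 ≤ r := Real.sqrt_nonneg _
  have hrr : r * r = (Nat.card H : ℝ) := Real.mul_self_sqrt hcardH
  have hkey : ∀ ψ : IrrCharacter G, ψ ≠ one → r * (a ψ).re < d ψ := by
    intro ψ hψ
    have hψc : IsCharacter G (ψ : G → ℂ) := IsIrrCharacter.isCharacter ψ.2
    have hkerψ : ∃ h ∈ H, (ψ : G → ℂ) h ≠ (ψ : G → ℂ) 1 := by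
      by_contra hcon
      push Not at hcon
      obtain ⟨K, hKn, hK⟩ := Cfsg.Agent.Lib.CT.Kernel.exists_normal_ker hψc
      have hHK : H ≤ K := fun h hh => (hK h).2 (hcon h hh)
      have hKtop := hnormal K hKn hHK
      have hall : ∀ g : G, (ψ : G → ℂ) g = (ψ : G → ℂ) 1 := by
        intro g
        apply (hK g).1
        rw [hKtop]
        trivial
      have h1 := irr_inner_ne hψ
      have h2 : classInner (ψ : G → ℂ) (one : G → ℂ) = (ψ : G → ℂ) 1 := by
        unfold classInner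
        have : ∀ g : G, (ψ : G → ℂ) g * conj ((one : G → ℂ) g) = (ψ : G → ℂ) 1 := by
          intro g
          show (ψ : G → ℂ) g * conj (1 : ℂ) = _
          rw [map_one, mul_one, hall]
        rw [Finset.sum_congr rfl (fun g _ => this g), Finset.sum_const, Finset.card_univ,
          nsmul_eq_mul, ← Nat.card_eq_fintype_card, ← mul_assoc, inv_mul_cancel₀ hGne, one_mul]
      rw [h2] at h1
      exact IsIrrCharacter.apply_one_ne_zero ψ.2 h1
    have h3 := ft_inequality H hyp ψ.2 hkerψ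
    have h4 : (a ψ).re ≤ ‖a ψ‖ := Complex.re_le_norm _
    have h5 : r * ‖a ψ‖ < d ψ := by
      by_contra hcon
      push Not at hcon
      have h6 := mul_self_le_mul_self (hdpos ψ).le hcon
      have h7 : r * ‖a ψ‖ * (r * ‖a ψ‖) = (Nat.card H : ℝ) * Complex.normSq (a ψ) := by
        rw [Complex.normSq_eq_norm_sq, ← hrr]
        ring
      rw [h7] at h6
      have h8 : d ψ * d ψ = ((ψ : G → ℂ) 1).re ^ 2 := by
        show ((ψ : G → ℂ) 1).re * ((ψ : G → ℂ) 1).re = _
        ring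
      rw [h8] at h6
      exact absurd h3 (not_lt.2 h6)
    have h9 : r * (a ψ).re ≤ r * ‖a ψ‖ := mul_le_mul_of_nonneg_left h4 hr0
    linarith
  -- split off the principal character
  have hE1' : (n : ℝ) ^ 2 = 1 + ∑ ψ ∈ Finset.univ.erase one, (m ψ : ℝ) * d ψ := by
    rw [hE1, ← Finset.add_sum_erase Finset.univ _ (Finset.mem_univ one), hm1, hd1]
    simp
  have hE2' : (classInner (fun h : H => χ h) (fun h : H => χ h)).re
      = 1 + ∑ ψ ∈ Finset.univ.erase one, (m ψ : ℝ) * (a ψ).re := by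
    rw [hE2, Complex.re_sum, ← Finset.add_sum_erase Finset.univ _ (Finset.mem_univ one), hm1, ha1]
    congr 1
    · simp
    · refine Finset.sum_congr rfl (fun ψ _ => ?_)
      rw [← Complex.ofReal_natCast, Complex.re_ofReal_mul]
  -- some non-principal constituent occurs
  have hex : ∃ ψ ∈ Finset.univ.erase one, 0 < m ψ := by
    by_contra hcon
    push Not at hcon
    have h0 : ∑ ψ ∈ Finset.univ.erase one, (m ψ : ℝ) * d ψ = 0 := by
      refine Finset.sum_eq_zero (fun ψ hψ => ?_)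
      have := hcon ψ hψ
      have hz : m ψ = 0 := by omega
      rw [hz]
      simp
    rw [h0, add_zero] at hE1'
    have hn' : (2 : ℝ) ≤ n := by exact_mod_cast hn2
    nlinarith
  have hlt : ∑ ψ ∈ Finset.univ.erase one, (m ψ : ℝ) * (r * (a ψ).re)
      < ∑ ψ ∈ Finset.univ.erase one, (m ψ : ℝ) * d ψ := by
    refine Finset.sum_lt_sum (fun ψ hψ => ?_) ?_
    · exact mul_le_mul_of_nonneg_left (hkey ψ (Finset.ne_of_mem_erase hψ)).le (Nat.cast_nonneg _)
    · obtain ⟨ψ, hψ, hmψ⟩ := hex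
      refine ⟨ψ, hψ, ?_⟩
      have : (0 : ℝ) < (m ψ : ℝ) := by exact_mod_cast hmψ
      exact mul_lt_mul_of_pos_left (hkey ψ (Finset.ne_of_mem_erase hψ)) this
  have hsum : ∑ ψ ∈ Finset.univ.erase one, (m ψ : ℝ) * (r * (a ψ).re)
      = r * ∑ ψ ∈ Finset.univ.erase one, (m ψ : ℝ) * (a ψ).re := by
    rw [Finset.mul_sum]
    refine Finset.sum_congr rfl (fun ψ _ => ?_)
    ring
  rw [hsum] at hlt
  -- conclusion
  have hre : (χ 1).re = n := by
    rw [hn]
    simp
  rw [hre]
  have hn' : (2 : ℝ) ≤ n := by exact_mod_cast hn2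
  have h10 : r * ((n : ℝ) - 1) < (n : ℝ) ^ 2 - 1 := by
    have : r * ((n : ℝ) - 1)
        ≤ r * ∑ ψ ∈ Finset.univ.erase one, (m ψ : ℝ) * (a ψ).re := by
      refine mul_le_mul_of_nonneg_left ?_ hr0
      linarith
    linarith
  have h11 : r < (n : ℝ) + 1 := by
    by_contra hcon
    push Not at hcon
    have : ((n : ℝ) + 1) * ((n : ℝ) - 1) ≤ r * ((n : ℝ) - 1) :=
      mul_le_mul_of_nonneg_right hcon (by linarith)
    nlinarith
  show (Nat.card H : ℝ) < (1 + (n : ℝ)) ^ 2
  rw [← hrr]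
  nlinarith

/-- Feit–Thompson: let H ≤ G be abelian with H ∩ Z(G) = 1, each non-central element's centralizer meeting at most one conjugate of H nontrivially. If χ ∈ Irr(G) and H ⊄ ker χ, then χ(1)² > [H:1]·⟨χ_H,1_H⟩²; if also χ(1) > 1 and H lies in no proper normal subgroup, then (1 + χ(1))² > [H:1]. -/
theorem result {G : Type*} [Group G] [Fintype G] (H : Subgroup G) [Fintype H] (hab : ∀ a ∈ H, ∀ b ∈ H, a * b = b * a) (hZ : H ⊓ Subgroup.center G = ⊥) (hone : ∀ g : G, g ∉ Subgroup.center G → ∀ a b : G, Subgroup.centralizer ({g} : Set G) ⊓ H.map (MulAut.conj a).toMonoidHom ≠ ⊥ → Subgroup.centralizer ({g} : Set G) ⊓ H.map (MulAut.conj b).toMonoidHom ≠ ⊥ → H.map (MulAut.conj a).toMonoidHom = H.map (MulAut.conj b).toMonoidHom) (χ : G → ℂ) (hχ : Cfsg.IsIrrCharacter G χ) (hker : ∃ h ∈ H, χ h ≠ χ 1) : (χ 1).re ^ 2 > (Nat.card H : ℝ) * (Cfsg.classInner (fun h : H => χ h) (fun _ => 1)).re ^ 2 ∧ (χ 1 ≠ 1 → (∀ M : Subgroup G, M.Normal → H ≤ M → M = ⊤) →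 (1 + (χ 1).re) ^ 2 > (Nat.card H : ℝ)) := by
  have hyp : FTHyp H := ⟨hab, hZ, hone⟩
  have hcardH : (0 : ℝ) ≤ (Nat.card H : ℝ) := Nat.cast_nonneg _
  refine ⟨?_, fun hχ1 hnormal => second_part H hyp χ hχ hχ1 hnormal⟩
  have h1 := ft_inequality H hyp hχ hker
  have h2 : (classInner (fun h : H => χ h) (fun _ => 1)).re ^ 2
      ≤ Complex.normSq (classInner (fun h : H => χ h) (fun _ => 1)) := by
    rw [Complex.normSq_apply]
    nlinarith [mul_self_nonneg (classInner (fun h : H => χ h) (fun _ => 1)).im]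
  exact lt_of_le_of_lt (mul_le_mul_of_nonneg_left h2 hcardH) h1

end Cfsg.Agent.S0898
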