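import Cfsg.Statements.S4573
import Cfsg.Agent.Lib.Helper3.WrM
import Cfsg.Agent.Lib.Helper9.MNN2
import Cfsg.Agent.S0176

set_option autoImplicit false
universe u
open Cfsg

namespace Cfsg.Agent.S4573

theorem kk_mem {G : Type u} [Group G] (N : Subgroup G) [hN : N.Normal] (g : G) (q : G ⧸ N) :
    q.out⁻¹ * g * (((g : G ⧸ N))⁻¹ * q).out ∈ N := by
  rw [← QuotientGroup.eq_one_iff]
  simp

/-- The Kaloujnine–Krasner embedding of `G` into `N ≀ᵣ (G ⧸ N)`. -/
noncomputable def kk {G : Type u} [Group G] (N : Subgroup G) [hN : N.Normal] :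
    G →* (N ≀ᵣ (G ⧸ N)) where
  toFun g := ⟨fun q => ⟨q.out⁻¹ * g * (((g : G ⧸ N))⁻¹ * q).out, kk_mem N g q⟩, (g : G ⧸ N)⟩
  map_one' := by
    ext q
    · simp
    · rfl
  map_mul' g h := by
    ext q
    · simp [mul_assoc]
    · rfl

theorem kk_injective {G : Type u} [Group G] (N : Subgroup G) [hN : N.Normal] :
    Function.Injective (kk N) := by
  rw [injective_iff_map_eq_one]
  intro g hg
  have h1 : (g : G ⧸ N) = 1 := congrArg RegularWreathProduct.right hg
  have h2 : (((kk N g).left 1 : N) : G) = 1 := by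
    rw [hg]
    rfl
  have h3 : (1 : G ⧸ N).out⁻¹ * g * (((g : G ⧸ N))⁻¹ * 1).out = 1 := h2
  rw [h1, inv_one, one_mul] at h3
  have h4 : g = (1 : G ⧸ N).out * ((1 : G ⧸ N).out⁻¹ * g * (1 : G ⧸ N).out) *
      (1 : G ⧸ N).out⁻¹ := by group
  rw [h4, h3]
  group

/-- The map of wreath products induced by a homomorphism of the bottom groups. -/
def wrMap {N : Type u} {A : Type u} {Q : Type u} [Group N] [Group A] [Group Q] (j : N →* A) :
    N ≀ᵣ Q →* A ≀ᵣ Q where
  toFun w := ⟨fun q => j (w.left q), w.right⟩
  map_one' := by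
    ext q
    · simp
    · rfl
  map_mul' a b := by
    ext q
    · simp
    · rfl

theorem wrMap_injective {N : Type u} {A : Type u} {Q : Type u} [Group N] [Group A] [Group Q]
    (j : N →* A) (hj : Function.Injective j) : Function.Injective (wrMap j (Q := Q)) := by
  intro a b h
  ext q
  · exact hj (congrFun (congrArg RegularWreathProduct.left h) q)
  · have h1 := congrArg RegularWreathProduct.right h
    exact h1

theorem aux : ∀ (n : ℕ) (G : Type u) [Group G] [Finite G], Nat.card G = n → Group.IsSolvable G →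
    ∃ (M : Type u) (_ : Group M) (_ : Fintype M),
      (∀ χ : M → ℂ, Cfsg.IsIrrCharacter M χ →
        (∃ (H : Subgroup M) (lam : ↥H →* ℂˣ), χ = Cfsg.indFun H (fun h => (lam h : ℂ)))) ∧
      ∃ f : G →* M, Function.Injective f := by
  intro n
  induction n using Nat.strong_induction_on with
  | _ n IH =>
  intro G _ _ hn hsolv
  rcases subsingleton_or_nontrivial G with hsub | hnt
  · haveI : Group.IsNilpotent G := Group.isNilpotent_of_subsingleton
    letI instFG : Fintype G := Fintype.ofFinite G
    refine ⟨G, inferInstance, instFG, fun χ hχ => ?_, MonoidHom.id G,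
      Function.injective_id⟩
    exact Cfsg.Agent.S0176.result χ hχ
  · haveI := hsolv
    obtain ⟨N, hNn, hNp⟩ := Cfsg.Agent.Lib.Helper9.MNN2.exists_normal_index_prime (G := G)
    haveI := hNn
    have hNcard : Nat.card N < n := by
      have h1 := N.card_mul_index
      rw [hn] at h1
      have h2 := hNp.two_le
      have h3 : 0 < Nat.card N := Nat.card_pos
      nlinarith
    have hNsolv : Group.IsSolvable N := solvable_of_solvable_injective N.subtype_injective
    obtain ⟨A, instG, instF, hA, j, hj⟩ := IH (Nat.card N) hNcard N rfl hNsolv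
    letI : Group A := instG
    letI : Fintype A := instF
    have hQ : Nat.card (G ⧸ N) = N.index := (Subgroup.index_eq_card N).symm
    letI instFW : Fintype (A ≀ᵣ (G ⧸ N)) := Fintype.ofFinite _
    refine ⟨A ≀ᵣ (G ⧸ N), inferInstance, instFW, fun χ hχ => ?_,
      (wrMap j).comp (kk N), (wrMap_injective j hj).comp (kk_injective N)⟩
    exact Cfsg.Agent.Lib.Helper3.WrM.wreath_mgroup N.index hNp hQ hA χ hχ

/-- Every finite solvable group is isomorphic to a subgroup of a finite M-group, a group each of whose irreducible characters is induced from a homomorphism of some subgroup into ℂˣ. -/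
theorem result {G : Type u} [Group G] [Finite G] (hsolv : Group.IsSolvable G) : ∃ (M : Type u) (_ : Group M) (_ : Fintype M), (∀ χ : M → ℂ, Cfsg.IsIrrCharacter M χ → (∃ (H : Subgroup M) (lam : ↥H →* ℂˣ), χ = Cfsg.indFun H (fun h => (lam h : ℂ)))) ∧ ∃ f : G →* M, Function.Injective f := by
  exact aux (Nat.card G) G rfl hsolv

end Cfsg.Agent.S4573
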