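import Cfsg.Statements.S2824
-- import your own Cfsg.Agent.* helpers here
import Cfsg.Agent.Lib.Helper97.PReduced3

set_option autoImplicit false
open Cfsg

namespace Cfsg.Agent.S2824

open Cfsg.Agent.Lib.Helper97.PReduced Cfsg.Agent.Lib.Helper97.PReduced2
  Cfsg.Agent.Lib.Helper97.PReduced3

/-- Let H be a finite group, p a prime, T a Sylow p-subgroup, L and M subgroups of characteristic p containing T, Y_L the largest p-reduced normal subgroup of L and T₀ = C_T(Y_L). If M·C_H(Y_L) = L·C_H(Y_L), then L* := N_M(T₀) has Y_{L*} = Y_L and L·C_H(Y_L) = L*·C_H(Y_L). -/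
theorem result {H : Type*} [Group H] [Finite H] {p : ℕ} [Fact p.Prime] (T : Sylow p H) (L M : Subgroup H) (hTL : (T : Subgroup H) ≤ L) (hTM : (T : Subgroup H) ≤ M) (hL : Subgroup.centralizer (Cfsg.pCore p ↥L : Set ↥L) ≤ Cfsg.pCore p ↥L) (hM : Subgroup.centralizer (Cfsg.pCore p ↥M : Set ↥M) ≤ Cfsg.pCore p ↥M) (T₀ : Subgroup H) (hT₀ : T₀ = (T : Subgroup H) ⊓ Subgroup.centralizer (((Cfsg.largestPReducedOf p L) : Subgroup H) : Set H)) (hfac : M ⊔ Subgroup.centralizer (((Cfsg.largestPReducedOf p L) : Subgroup H) : Set H) = L ⊔ Subgroup.centralizer (((Cfsg.largestPReducedOf p L) : Subgroup H) : Set H)) (Ls : Subgroup H) (hLs : Ls = M ⊓ Subgroup.normalizer ((T₀ : Subgroup H) : Set H)) : (Cfsg.largestPReducedOf p Ls) = (Cfsg.largestPReducedOf p L) ∧ L ⊔ Subgroup.centralizer (((Cfsg.largestPReducedOf p L) : Subgroup H) : Set H) = Ls ⊔ Subgroup.centralizer (((Cfsg.largestPReducedOf p L) : Subgroup H) : Set H) := by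
  set Y : Subgroup H := largestPReducedOf p L with hYdef
  set C : Subgroup H := Subgroup.centralizer (Y : Set H) with hCdef
  have hYom : Y = omegaCenter p T₀ := by rw [hT₀]; exact largestOf_eq_omegaCenter T L hTL hL
  obtain ⟨hYleL, hYn, hYc, hYe, hYD⟩ := pRedIn_largest p L
  have hLNY : L ≤ Subgroup.normalizer (Y : Set H) := le_normalizer_of_conj hYn
  have hLNC : L ≤ Subgroup.normalizer (C : Set H) := fun l hl => mem_normalizer_centralizer (hLNY hl)
  have hLCN : L ⊔ C ≤ Subgroup.normalizer (C : Set H) := sup_le hLNC Subgroup.le_normalizer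
  have hMNC : M ≤ Subgroup.normalizer (C : Set H) := (le_sup_left.trans hfac.le).trans hLCN
  have hTNT₀ : (T : Subgroup H) ≤ Subgroup.normalizer (T₀ : Set H) := by
    intro t ht
    rw [hT₀]
    exact mem_normalizer_inf (Subgroup.le_normalizer ht) (hLNC (hTL ht))
  have hTLs : (T : Subgroup H) ≤ Ls := by rw [hLs]; exact le_inf hTM hTNT₀
  have hT₀T : T₀ ≤ T := by rw [hT₀]; exact inf_le_left
  have hLsM : Ls ≤ M := by rw [hLs]; exact inf_le_left
  have hLsN : Ls ≤ Subgroup.normalizer (T₀ : Set H) := by rw [hLs]; exact inf_le_right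
  have h2 : L ⊔ C = Ls ⊔ C := by
    apply le_antisymm
    · rw [← hfac]
      apply sup_le _ le_sup_right
      intro m hm
      have hCMn : (C.subgroupOf M).Normal := by
        constructor
        intro c hc m'
        exact (Subgroup.mem_normalizer_iff.mp (hMNC m'.2) c).mp hc
      obtain ⟨a, ha, c, hc, hac⟩ := frattini_inf (T.subtype hTM) (C.subgroupOf M) ⟨m, hm⟩
      have haN : (a : H) ∈ Subgroup.normalizer (T₀ : Set H) := by
        rw [Subgroup.mem_normalizer_iff] at ha ⊢
        intro x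
        by_cases hx : x ∈ M
        · have := ha ⟨x, hx⟩
          rw [hT₀]
          exact this
        · constructor
          · intro hx'; exact absurd (hTM (hT₀T hx')) hx
          · intro hx'
            exfalso; apply hx
            have : x = (a : H)⁻¹ * ((a : H) * x * (a : H)⁻¹) * (a : H) := by group
            rw [this]
            exact M.mul_mem (M.mul_mem (M.inv_mem a.2) (hTM (hT₀T hx'))) a.2
      have hm' : m = (a : H) * (c : H) := congrArg Subtype.val hac
      rw [hm']
      exact Subgroup.mul_mem _ (Subgroup.mem_sup_left (by rw [hLs]; exact ⟨a.2, haN⟩))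
        (Subgroup.mem_sup_right hc)
    · exact sup_le ((hLsM.trans le_sup_left).trans hfac.le) le_sup_right
  refine ⟨?_, h2⟩
  obtain ⟨hYsLs, hYsn, hYsc, hYse, hYsD⟩ := pRedIn_largest p Ls
  have hT₀Ys : T₀ ≤ Subgroup.centralizer ((largestPReducedOf p Ls : Subgroup H) : Set H) := by
    apply hYsD T₀ (hT₀T.trans hTLs)
    · intro l hl d hd
      exact (Subgroup.mem_normalizer_iff.mp (hLsN hl) d).mp hd
    · intro d hd
      obtain ⟨k, hk⟩ := T.2 ⟨d, hT₀T hd⟩
      refine ⟨k, ?_⟩
      have : d ^ (p ^ k) = 1 := by simpa using congrArg Subtype.val hk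
      rw [this]; exact Subgroup.one_mem _
  have hYsT : largestPReducedOf p Ls ≤ T := by
    have hred := largestPReduced_isPReducedNormal p ↥Ls
    have hn : (largestPReduced p ↥Ls).Normal := hred.1
    have hp : IsPGroup p (largestPReduced p ↥Ls) := by
      rintro ⟨y, hy⟩
      exact ⟨1, Subtype.ext (by simpa using hred.2.1.2 y hy)⟩
    have h3 := hp.le_sylow_of_normal (T.subtype hTLs)
    intro y hy
    obtain ⟨y', hy', rfl⟩ := Subgroup.mem_map.mp hy
    exact h3 hy'
  apply le_antisymm
  · intro y hy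
    rw [hYom]
    refine ⟨?_, ?_, hYse y hy⟩
    · rw [hT₀]
      refine ⟨hYsT hy, ?_⟩
      show y ∈ Subgroup.centralizer (Y : Set H)
      rw [Subgroup.mem_centralizer_iff]
      intro v hv
      have hvT₀ : v ∈ T₀ := by rw [hYom] at hv; exact hv.1
      exact ((Subgroup.mem_centralizer_iff.mp (hT₀Ys hvT₀)) y hy).symm
    · rw [Subgroup.mem_centralizer_iff]
      intro h hh
      exact ((Subgroup.mem_centralizer_iff.mp (hT₀Ys hh)) y hy).symm
  · apply le_largestPReducedOf
    have hYT₀ : Y ≤ T₀ := by intro v hv; rw [hYom] at hv; exact hv.1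
    refine ⟨hYT₀.trans (hT₀T.trans hTLs), ?_, hYc, hYe, ?_⟩
    · intro l hl v hv
      rw [hYom] at hv ⊢
      exact conj_mem_omegaCenter (hLsN hl) hv
    · intro D hDLs hDn hDp
      have hDNC : D ≤ Subgroup.normalizer (C : Set H) := (hDLs.trans hLsM).trans hMNC
      have hK : (D ⊔ C) ⊓ L ≤ C := by
        apply hYD _ inf_le_right
        · intro l hl x hx
          refine ⟨?_, L.mul_mem (L.mul_mem hl hx.2) (L.inv_mem hl)⟩
          have hl' : l ∈ Ls ⊔ C := by rw [← h2]; exact Subgroup.mem_sup_left hl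
          have hnorm : Ls ⊔ C ≤ Subgroup.normalizer ((D ⊔ C : Subgroup H) : Set H) := by
            apply sup_le
            · intro g hg
              exact mem_normalizer_sup (le_normalizer_of_conj hDn hg) (hMNC (hLsM hg))
            · exact le_sup_right.trans Subgroup.le_normalizer
          exact (Subgroup.mem_normalizer_iff.mp (hnorm hl') x).mp hx.1
        · intro x hx
          obtain ⟨d, hd, c, hc, rfl⟩ := mem_sup_of_le_normalizer hDNC hx.1
          obtain ⟨k, hk⟩ := hDp d hd
          obtain ⟨c', hc', hpow⟩ := mul_pow_mem_of_normalizer (hDNC hd) hc (p ^ k)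
          exact ⟨k, by rw [hpow]; exact C.mul_mem hk hc'⟩
      intro d hd
      have hd' : d ∈ L ⊔ C := by rw [h2]; exact Subgroup.mem_sup_left (hDLs hd)
      obtain ⟨l, hl, c, hc, rfl⟩ := mem_sup_of_le_normalizer hLNC hd'
      have hlK : l ∈ (D ⊔ C) ⊓ L := by
        refine ⟨?_, hl⟩
        have : l = (l * c) * c⁻¹ := by group
        rw [this]
        exact Subgroup.mul_mem _ (Subgroup.mem_sup_left hd) (Subgroup.mem_sup_right (C.inv_mem hc))
      exact C.mul_mem (hK hlK) hc

end Cfsg.Agent.S2824
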