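import Cfsg.Statements.S2838
import Cfsg.Agent.Lib.Helper55.WeaklyClosed

set_option autoImplicit false
open Cfsg

namespace Cfsg.Agent.S2838

open Cfsg.Agent.Lib.Helper55.WeaklyClosed
open scoped commutatorElement

/-- mutual normalization gives the commutator condition. -/
theorem comm_le_of_normalize {H : Type*} [Group H] {Q P : Subgroup H}
    (h1 : Q ≤ Subgroup.normalizer (P : Set H)) (h2 : P ≤ Subgroup.normalizer (Q : Set H)) :
    ⁅Q, P⁆ ≤ Q ⊓ P := by
  rw [Subgroup.commutator_le]
  intro q hq x hx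
  refine ⟨?_, ?_⟩
  · have h3 := (Subgroup.mem_normalizer_iff.mp (h2 hx) q⁻¹).mp (Q.inv_mem hq)
    have e : ⁅q, x⁆ = q * (x * q⁻¹ * x⁻¹) := by
      rw [commutatorElement_def]; group
    rw [e]
    exact Q.mul_mem hq h3
  · have h3 := (Subgroup.mem_normalizer_iff.mp (h1 hq) x).mp hx
    rw [commutatorElement_def]
    exact P.mul_mem h3 (P.inv_mem hx)

/-- the commutator condition gives mutual normalization. -/
theorem normalize_of_comm_le {H : Type*} [Group H] {Q P : Subgroup H}
    (h : ⁅Q, P⁆ ≤ Q ⊓ P) :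
    Q ≤ Subgroup.normalizer (P : Set H) ∧ P ≤ Subgroup.normalizer (Q : Set H) := by
  rw [Subgroup.commutator_le] at h
  constructor
  · intro q hq
    rw [Subgroup.mem_normalizer_iff]
    intro x
    constructor
    · intro hx
      have h3 := (h q hq x hx).2
      rw [commutatorElement_def] at h3
      have e : q * x * q⁻¹ = q * x * q⁻¹ * x⁻¹ * x := by group
      rw [e]
      exact P.mul_mem h3 hx
    · intro hx
      have h3 := (h q⁻¹ (Q.inv_mem hq) _ hx).2
      rw [commutatorElement_def] at h3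
      have e : q⁻¹ * (q * x * q⁻¹) * q⁻¹⁻¹ * (q * x * q⁻¹)⁻¹ = x * (q * x * q⁻¹)⁻¹ := by group
      rw [e] at h3
      have := P.mul_mem h3 hx
      have e2 : x * (q * x * q⁻¹)⁻¹ * (q * x * q⁻¹) = x := by group
      rw [e2] at this
      exact this
  · intro x hx
    rw [Subgroup.mem_normalizer_iff]
    intro q
    constructor
    · intro hq
      have h3 := (h q⁻¹ (Q.inv_mem hq) x hx).1
      rw [commutatorElement_def] at h3
      have e : x * q * x⁻¹ = q * (q⁻¹ * x * q⁻¹⁻¹ * x⁻¹) := by group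
      rw [e]
      exact Q.mul_mem hq h3
    · intro hq
      have h3 := (h _ hq x⁻¹ (P.inv_mem hx)).1
      rw [commutatorElement_def] at h3
      have e : x * q * x⁻¹ * x⁻¹ * (x * q * x⁻¹)⁻¹ * x⁻¹⁻¹ = x * q * x⁻¹ * q⁻¹ := by group
      rw [e] at h3
      have := Q.mul_mem (Q.inv_mem h3) hq
      have e2 : (x * q * x⁻¹ * q⁻¹)⁻¹ * (x * q * x⁻¹) = q := by group
      rw [e2] at this
      exact this

variable {H : Type*} [Group H] [Finite H] {p : ℕ} [Fact p.Prime]

/-- if `Q` equals every conjugate with which it mutually normalizes, `Q` is normal in every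
Sylow subgroup containing it. -/
theorem sylow_le_normalizer (Q : Subgroup H)
    (hc : ∀ g : H, Q ≤ Subgroup.normalizer ((Q.map (MulAut.conj g).toMonoidHom : Subgroup H) : Set H) →
      Q.map (MulAut.conj g).toMonoidHom ≤ Subgroup.normalizer (Q : Set H) →
      Q.map (MulAut.conj g).toMonoidHom = Q)
    (T : Sylow p H) (hQT : Q ≤ T) : (T : Subgroup H) ≤ Subgroup.normalizer (Q : Set H) := by
  by_contra hcon
  -- `NT = N_T(Q)` as a subgroup of `T`
  obtain ⟨NT, hNT⟩ : ∃ NT : Subgroup (T : Subgroup H),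
      NT = (Subgroup.normalizer (Q : Set H)).subgroupOf (T : Subgroup H) := ⟨_, rfl⟩
  have hlt : NT < ⊤ := by
    rw [lt_top_iff_ne_top]
    intro htop
    apply hcon
    intro t ht
    have : (⟨t, ht⟩ : (T : Subgroup H)) ∈ NT := by rw [htop]; trivial
    rw [hNT, Subgroup.mem_subgroupOf] at this
    exact this
  have hnil : Group.IsNilpotent (T : Subgroup H) := T.2.isNilpotent
  have hnc := Group.normalizerCondition_of_isNilpotent (G := (T : Subgroup H)) NT hlt
  obtain ⟨x, hx1, hx2⟩ := SetLike.exists_of_lt hnc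
  -- `x ∈ T` normalizes `NT` but not `Q`
  have hxn : ∀ y : H, y ∈ T → y ∈ Subgroup.normalizer (Q : Set H) →
      (x : H) * y * (x : H)⁻¹ ∈ Subgroup.normalizer (Q : Set H) := by
    intro y hyT hyN
    have h1 := (Subgroup.mem_normalizer_iff.mp hx1 ⟨y, hyT⟩).mp
      (by rw [hNT, Subgroup.mem_subgroupOf]; exact hyN)
    rw [hNT, Subgroup.mem_subgroupOf] at h1
    exact h1
  have hxn' : ∀ y : H, y ∈ T → y ∈ Subgroup.normalizer (Q : Set H) →
      (x : H)⁻¹ * y * (x : H) ∈ Subgroup.normalizer (Q : Set H) := by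
    intro y hyT hyN
    have hx1' := Subgroup.inv_mem _ hx1
    have h1 := (Subgroup.mem_normalizer_iff.mp hx1' ⟨y, hyT⟩).mp
      (by rw [hNT, Subgroup.mem_subgroupOf]; exact hyN)
    rw [hNT, Subgroup.mem_subgroupOf] at h1
    simpa using h1
  have hQN : Q ≤ Subgroup.normalizer (Q : Set H) := Subgroup.le_normalizer
  have h1 : Q.map (MulAut.conj (x : H)).toMonoidHom = Q := by
    apply hc
    · intro q hq
      rw [mem_normalizer_conj_iff]
      exact hxn' q (hQT hq) (hQN hq)
    · rw [conj_le_iff]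
      intro q hq
      exact hxn q (hQT hq) (hQN hq)
  apply hx2
  rw [hNT, Subgroup.mem_subgroupOf]
  exact conj_eq_self_iff.mp h1

/-- For a nontrivial p-subgroup Q of a finite group H the following are equivalent: Q is a weakly closed subgroup (it is the only H-conjugate of itself inside some Sylow p-subgroup containing it); Q = P for every conjugate P of Q with [Q, P] ≤ Q ∩ P; Q is normal in N_H(R) for every p-subgroup R of H containing Q. -/
theorem result {H : Type*} [Group H] [Finite H] {p : ℕ} [Fact p.Prime] (Q : Subgroup H) (hQp : IsPGroup p ↥Q) (hQ1 : Q ≠ ⊥) : (Cfsg.IsWeaklyClosedSubgroup p Q ↔ ∀ g : H, ⁅Q, ((Q : Subgroup H).map (MulAut.conj (g : H)).toMonoidHom)⁆ ≤ Q ⊓ ((Q : Subgroup H).map (MulAut.conj (g : H)).toMonoidHom) → ((Q : Subgroup H).map (MulAut.conj (g : H)).toMonoidHom) = Q) ∧ (Cfsg.IsWeaklyClosedSubgroup p Q ↔ ∀ R : Subgroup H, IsPGroup p ↥R → Q ≤ R → Subgroup.normalizer ((R : Subgroup H) : Set H) ≤ Subgroup.normalizer ((Q : Subgroup H) : Set H)) := by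
  refine ⟨⟨?_, ?_⟩, ⟨?_, ?_⟩⟩
  · -- weakly closed ⟹ commutator condition
    intro hwc g hg
    obtain ⟨h1, h2⟩ := normalize_of_comm_le hg
    have hP : IsPGroup p (Q.map (MulAut.conj g).toMonoidHom : Subgroup H) :=
      hQp.map (MulAut.conj g).toMonoidHom
    have hR : IsPGroup p (Q ⊔ Q.map (MulAut.conj g).toMonoidHom : Subgroup H) :=
      hQp.to_sup_of_normal_right' hP h1
    exact wc_pgroup hwc hR le_sup_left g le_sup_right
  · -- commutator condition ⟹ weakly closed
    intro hc
    have hc' : ∀ g : H,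
        Q ≤ Subgroup.normalizer ((Q.map (MulAut.conj g).toMonoidHom : Subgroup H) : Set H) →
        Q.map (MulAut.conj g).toMonoidHom ≤ Subgroup.normalizer (Q : Set H) →
        Q.map (MulAut.conj g).toMonoidHom = Q :=
      fun g h1 h2 => hc g (comm_le_of_normalize h1 h2)
    obtain ⟨T, hQT⟩ := hQp.exists_le_sylow
    refine ⟨T, hQT, fun g hg => ?_⟩
    apply hc'
    · -- `Q ≤ T ≤ N(Q^g)`
      have hQT2 : Q ≤ ((g⁻¹ • T : Sylow p H) : Subgroup H) := by
        rw [sylow_smul_coe]
        intro q hq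
        rw [mem_conj, inv_inv]
        exact hg (conj_mem_conj g hq)
      have h2 := sylow_le_normalizer Q hc' (g⁻¹ • T) hQT2
      intro q hq
      rw [mem_normalizer_conj_iff]
      apply h2
      rw [sylow_smul_coe, mem_conj, inv_inv]
      have e : g * (g⁻¹ * q * g) * g⁻¹ = q := by group
      rw [e]
      exact hQT hq
    · exact hg.trans (sylow_le_normalizer Q hc' T hQT)
  · -- weakly closed ⟹ normalizer condition
    intro hwc R hR hQR
    exact wc_normalizer_le hwc hR hQR
  · -- normalizer condition ⟹ weakly closed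
    intro hN
    obtain ⟨T, hQT⟩ := hQp.exists_le_sylow
    refine ⟨T, hQT, fun g hg => ?_⟩
    have hTN : ∀ T' : Sylow p H, Q ≤ T' → (T' : Subgroup H) ≤ Subgroup.normalizer (Q : Set H) :=
      fun T' h => Subgroup.le_normalizer.trans (hN T' T'.2 h)
    have hQT2 : Q ≤ ((g⁻¹ • T : Sylow p H) : Subgroup H) := by
      rw [sylow_smul_coe]
      intro q hq
      rw [mem_conj, inv_inv]
      exact hg (conj_mem_conj g hq)
    -- `T` and `g⁻¹ T g` are Sylow subgroups of `N(Q)`, hence conjugate there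
    obtain ⟨n, hn⟩ := MulAction.exists_smul_eq (Subgroup.normalizer (Q : Set H))
      (T.subtype (hTN T hQT)) ((g⁻¹ • T).subtype (hTN _ hQT2))
    rw [Sylow.smul_subtype] at hn
    have hn2 : (n : H) • T = g⁻¹ • T := Sylow.subtype_injective hn
    have h3 : (g * (n : H)) • T = T := by
      rw [mul_smul, hn2, smul_smul, mul_inv_cancel, one_smul]
    have h4 : g * (n : H) ∈ Subgroup.normalizer ((T : Subgroup H) : Set H) :=
      Sylow.smul_eq_iff_mem_normalizer.mp h3
    have h5 := hN T T.2 hQT h4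
    have h6 := Subgroup.mul_mem _ h5 (Subgroup.inv_mem _ n.2)
    have e : g * (n : H) * (n : H)⁻¹ = g := by group
    rw [e] at h6
    exact conj_eq_self_iff.mpr h6

end Cfsg.Agent.S2838
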