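import Cfsg.Statements.S2845
import Cfsg.Agent.Lib.Helper48.CharP
import Cfsg.Agent.Lib.Helper48.Large

set_option autoImplicit false
open Cfsg

namespace Cfsg.Agent.S2845

open Subgroup Cfsg.Agent.Lib.Helper48.CharP Cfsg.Agent.Lib.Helper48.Large

/-- Let Q be a nontrivial large p-subgroup of the finite group H. Then for every subgroup L ≥ Q with O_p(L) ≠ 1, C_H(O_p(L)) is a p-group and L has characteristic p, and either the weak closure L° of Q in L equals Q or C_H(L°) = 1; for every subgroup R of H containing a Sylow p-subgroup of H with O_p(R) ≠ 1, C_H(O_p(R)) ≤ O_p(R); and H has parabolic characteristic p. -/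
theorem result {H : Type*} [Group H] [Finite H] {p : ℕ} [Fact p.Prime] (Q : Subgroup H) (hQp : IsPGroup p ↥Q) (hQ1 : Q ≠ ⊥) (hL : Cfsg.IsLarge Q) : (∀ L : Subgroup H, Q ≤ L → Cfsg.pCore p ↥L ≠ ⊥ → IsPGroup p ↥(Subgroup.centralizer (((Cfsg.pCoreOf p L) : Subgroup H) : Set H)) ∧ Subgroup.centralizer (Cfsg.pCore p ↥L : Set ↥L) ≤ Cfsg.pCore p ↥L ∧ (Cfsg.weakClosure Q L = Q ∨ Subgroup.centralizer (((Cfsg.weakClosure Q L) : Subgroup H) : Set H) = ⊥)) ∧ (∀ R : Subgroup H, Cfsg.IsParabolic p R → Cfsg.pCore p ↥R ≠ ⊥ → Subgroup.centralizer (((Cfsg.pCoreOf p R) : Subgroup H) : Set H) ≤ (Cfsg.pCoreOf p R)) ∧ Cfsg.IsOfParabolicCharacteristic p H := by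
  have hO : ∀ L : Subgroup H, Cfsg.pCore p ↥L ≠ ⊥ → O p L ≠ ⊥ := by
    intro L hL'
    unfold O
    rw [Ne, Subgroup.map_eq_bot_iff_of_injective _ L.subtype_injective]
    exact hL'
  refine ⟨?_, ?_, parabolicCharacteristic hQp hL⟩
  · intro L hQL hPL
    refine ⟨centralizer_O_isPGroup hQp hL hQL (hO L hPL), ?_, weakClosure_eq_or hQp hQ1 hL L hQL⟩
    rw [Cfsg.Agent.Lib.Helper48.CharP.charP_iff]
    exact chP_of_le hQp hL hQL (hO L hPL)
  · intro R hR hPR
    exact centralizer_O_le_of_parabolic hQp hL hR (hO R hPR)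

end Cfsg.Agent.S2845
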