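import Mathlib
import Cfsg.Statements.S4108

set_option autoImplicit false
open Cfsg

namespace Cfsg.Agent.S4108

open scoped Pointwise

theorem mem_conj_smul {K : Type*} [Group K] (g y : K) (H : Subgroup K) :
    y ∈ MulAut.conj g • H ↔ g⁻¹ * y * g ∈ H := by
  rw [Subgroup.mem_pointwise_smul_iff_inv_smul_mem]
  simp [MulAut.smul_def]

/-- A semidirect product `N ⋊ H` in which non-identity elements of `H` fix no non-identity
element of `N` is a Frobenius group with complement `H` and kernel `N`. -/
theorem frobenius_of_fpf {K : Type*} [Group K] [Finite K] (N H : Subgroup K) [N.Normal]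
    (hsup : N ⊔ H = ⊤) (hint : ∀ y, y ∈ N → y ∈ H → y = 1)
    (hfpf : ∀ h ∈ H, h ≠ 1 → ∀ n ∈ N, n * h = h * n → n = 1)
    (hN : N ≠ ⊥) (hH : H ≠ ⊥) :
    Cfsg.IsFrobeniusComplement H ∧ Cfsg.frobeniusKernel H = (N : Set K) := by
  have hdecomp : ∀ y : K, ∃ n ∈ N, ∃ u ∈ H, y = n * u := by
    intro y
    have hy : y ∈ N ⊔ H := by rw [hsup]; exact Subgroup.mem_top y
    rw [← SetLike.mem_coe, Subgroup.normal_mul] at hy
    obtain ⟨n, hn, u, hu, rfl⟩ := Set.mem_mul.1 hy
    exact ⟨n, hn, u, hu, rfl⟩
  have hnormal : ∀ m ∈ N, ∀ g : K, g * m * g⁻¹ ∈ N := fun m hm g =>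
    (inferInstance : N.Normal).conj_mem m hm g
  have hnormal' : ∀ m ∈ N, ∀ g : K, g⁻¹ * m * g ∈ N := by
    intro m hm g
    have := hnormal m hm g⁻¹
    simpa using this
  refine ⟨⟨hH, ?_, ?_⟩, ?_⟩
  · rintro rfl
    apply hN
    rw [eq_bot_iff]
    intro y hy
    exact Subgroup.mem_bot.2 (hint y hy (Subgroup.mem_top y))
  · intro g hg
    rw [eq_bot_iff]
    intro y hy
    obtain ⟨hy1, hy2⟩ := Subgroup.mem_inf.1 hy
    rw [mem_conj_smul] at hy2
    rw [Subgroup.mem_bot]
    obtain ⟨n, hn, h, hh, rfl⟩ := hdecomp g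
    have hn1 : n ≠ 1 := by
      rintro rfl
      apply hg
      simpa using hh
    have hy' : n⁻¹ * y * n ∈ H := by
      have : n⁻¹ * y * n = h * ((n * h)⁻¹ * y * (n * h)) * h⁻¹ := by group
      rw [this]
      exact H.mul_mem (H.mul_mem hh hy2) (H.inv_mem hh)
    have hmem : y⁻¹ * (n⁻¹ * y * n) ∈ N := by
      have : y⁻¹ * (n⁻¹ * y * n) = (y⁻¹ * n⁻¹ * y) * n := by group
      rw [this]
      exact N.mul_mem (hnormal' _ (N.inv_mem hn) y) hn
    have h1 := hint _ hmem (H.mul_mem (H.inv_mem hy1) hy')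
    have h2 : n * y = y * n := by
      have h3 : n⁻¹ * y * n = y := by
        have := inv_mul_eq_one.1 h1
        exact this.symm
      calc n * y = n * (n⁻¹ * y * n) := by rw [h3]
        _ = y * n := by group
    by_contra hy0
    exact hn1 (hfpf y hy1 hy0 n hn h2)
  · ext x
    constructor
    · rintro (rfl | hx)
      · exact N.one_mem
      · obtain ⟨n, hn, h, hh, rfl⟩ := hdecomp x
        by_cases hh1 : h = 1
        · rw [hh1, mul_one]; exact hn
        · exfalso
          let ψ : N → N := fun m => ⟨(m : K) * h * (m : K)⁻¹ * h⁻¹, by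
            have : (m : K) * h * (m : K)⁻¹ * h⁻¹ = (m : K) * (h * (m : K)⁻¹ * h⁻¹) := by group
            rw [this]
            exact N.mul_mem m.2 (hnormal _ (N.inv_mem m.2) h)⟩
          have hψinj : Function.Injective ψ := by
            intro c d hcd
            have h1 : (c : K) * h * (c : K)⁻¹ * h⁻¹ = (d : K) * h * (d : K)⁻¹ * h⁻¹ := congrArg Subtype.val hcd
            have h3 : (c : K) * h * (c : K)⁻¹ = (d : K) * h * (d : K)⁻¹ := by
              have := congrArg (fun z => z * h) h1
              simpa [mul_assoc] using this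
            have h2 : ((d : K)⁻¹ * c) * h = h * ((d : K)⁻¹ * c) := by
              calc ((d : K)⁻¹ * c) * h = (d : K)⁻¹ * ((c : K) * h * (c : K)⁻¹) * c := by group
                _ = (d : K)⁻¹ * ((d : K) * h * (d : K)⁻¹) * c := by rw [h3]
                _ = h * ((d : K)⁻¹ * c) := by group
            have h4 := hfpf h hh hh1 _ (N.mul_mem (N.inv_mem d.2) c.2) h2
            have h5 : (c : K) = d := by
              have := inv_mul_eq_one.1 h4
              exact this.symm
            exact Subtype.ext h5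
          have hψsurj : Function.Surjective ψ := Finite.injective_iff_surjective.1 hψinj
          obtain ⟨m, hm⟩ := hψsurj ⟨n, hn⟩
          have hm' : (m : K) * h * (m : K)⁻¹ * h⁻¹ = n := congrArg Subtype.val hm
          apply hx (m : K)
          rw [mem_conj_smul]
          have : (m : K)⁻¹ * (n * h) * (m : K) = h := by
            rw [← hm']; group
          rw [this]
          exact hh
    · intro hx
      by_cases hx1 : x = 1
      · left; exact hx1
      · right
        intro g hg
        rw [mem_conj_smul] at hg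
        have h1 := hint _ (hnormal' x hx g) hg
        apply hx1
        have : x = g * (g⁻¹ * x * g) * g⁻¹ := by group
        rw [this, h1]; group

/-- Let G be a finite group, p a prime and N a proper non-trivial normal p-subgroup such that for every x outside N all elements of the coset xN have the same order as x. Then every non-trivial subgroup H of G of order prime to p acts fixed-point-freely on N: NH is a Frobenius group with complement H and kernel N. -/
theorem result {G : Type*} [Group G] [Finite G] (N : Subgroup G) [N.Normal] (hN1 : N ≠ ⊥) (hN2 : N ≠ ⊤)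
    (heq : ∀ x : G, x ∉ N → ∀ n ∈ N, orderOf (x * n) = orderOf x)
    (p : ℕ) [Fact p.Prime] (hNp : IsPGroup p N) :
    ∀ H : Subgroup G, H ≠ ⊥ → (Nat.card H).Coprime p →
      Cfsg.IsFrobeniusComplement (H.subgroupOf (N ⊔ H)) ∧ Cfsg.frobeniusKernel (H.subgroupOf (N ⊔ H)) = (N.subgroupOf (N ⊔ H) : Set ↥(N ⊔ H)) := by
  intro H hH hcop
  have hpp : p.Prime := Fact.out
  -- N ∩ H = 1
  have hNH : ∀ y, y ∈ N → y ∈ H → y = 1 := by
    intro y hyN hyH
    obtain ⟨k, hk⟩ := hNp ⟨y, hyN⟩
    have hk' : y ^ (p ^ k) = 1 := by simpa using congrArg Subtype.val hk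
    have h1 : orderOf y ∣ p ^ k := orderOf_dvd_of_pow_eq_one hk'
    have h2 : orderOf y ∣ Nat.card H := Subgroup.orderOf_dvd_natCard H hyH
    have h3 : orderOf y ∣ Nat.gcd (p ^ k) (Nat.card H) := Nat.dvd_gcd h1 h2
    have h4 : Nat.gcd (p ^ k) (Nat.card H) = 1 := Nat.Coprime.pow_left k hcop.symm
    rw [h4] at h3
    exact orderOf_eq_one_iff.1 (Nat.dvd_one.1 h3)
  have hfpf : ∀ h ∈ H, h ≠ 1 → ∀ n ∈ N, n * h = h * n → n = 1 := by
    intro h hh hh1 n hn hnh
    have hhN : h ∉ N := fun hhN => hh1 (hNH h hhN hh)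
    have h1 := heq h hhN n hn
    obtain ⟨k, hk⟩ := hNp ⟨n, hn⟩
    have hk' : n ^ (p ^ k) = 1 := by simpa using congrArg Subtype.val hk
    have h2 : orderOf n ∣ p ^ k := orderOf_dvd_of_pow_eq_one hk'
    have h3 : orderOf h ∣ Nat.card H := Subgroup.orderOf_dvd_natCard H hh
    have hcop' : Nat.Coprime (orderOf h) (orderOf n) := by
      apply Nat.Coprime.coprime_dvd_left h3
      apply Nat.Coprime.coprime_dvd_right h2
      exact Nat.Coprime.pow_right k hcop
    have hcomm : Commute h n := hnh.symm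
    rw [hcomm.orderOf_mul_eq_mul_orderOf_of_coprime hcop'] at h1
    have hpos : 0 < orderOf h := orderOf_pos h
    have h5 : orderOf n = 1 := by
      have : orderOf h * orderOf n = orderOf h * 1 := by rw [h1, mul_one]
      exact Nat.eq_of_mul_eq_mul_left hpos this
    exact orderOf_eq_one_iff.1 h5
  have : (N.subgroupOf (N ⊔ H)).Normal := inferInstance
  apply frobenius_of_fpf (N.subgroupOf (N ⊔ H)) (H.subgroupOf (N ⊔ H))
  · rw [← Subgroup.subgroupOf_sup le_sup_left le_sup_right, Subgroup.subgroupOf_self]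
  · intro y hy1 hy2
    rw [Subgroup.mem_subgroupOf] at hy1 hy2
    exact Subtype.ext (hNH _ hy1 hy2)
  · intro h hh hh1 n hn hnh
    rw [Subgroup.mem_subgroupOf] at hh hn
    have hh1' : (h : G) ≠ 1 := fun h0 => hh1 (Subtype.ext h0)
    have hnh' : (n : G) * (h : G) = (h : G) * (n : G) := by
      have := congrArg Subtype.val hnh
      simpa using this
    exact Subtype.ext (hfpf _ hh hh1' _ hn hnh')
  · intro h
    apply hN1
    rw [eq_bot_iff]
    intro y hy
    have : (⟨y, (le_sup_left : N ≤ N ⊔ H) hy⟩ : ↥(N ⊔ H)) ∈ N.subgroupOf (N ⊔ H) := by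
      rw [Subgroup.mem_subgroupOf]; exact hy
    rw [h, Subgroup.mem_bot] at this
    rw [Subgroup.mem_bot]
    exact congrArg Subtype.val this
  · intro h
    apply hH
    rw [eq_bot_iff]
    intro y hy
    have : (⟨y, (le_sup_right : H ≤ N ⊔ H) hy⟩ : ↥(N ⊔ H)) ∈ H.subgroupOf (N ⊔ H) := by
      rw [Subgroup.mem_subgroupOf]; exact hy
    rw [h, Subgroup.mem_bot] at this
    rw [Subgroup.mem_bot]
    exact congrArg Subtype.val this

end Cfsg.Agent.S4108
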