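import Cfsg.Statements.S0199
import Mathlib
import Cfsg.Agent.Lib.Helper67.BaerSuzuki
-- import your own Cfsg.Agent.* helpers here

set_option autoImplicit false
open Cfsg

namespace Cfsg.Agent.S0199

/-- Baer–Suzuki Theorem: a p-subgroup X of a finite group such that X and any of its conjugates generate a p-group is contained in a normal p-subgroup. -/
theorem result {G : Type*} [Group G] [Finite G] {p : ℕ} [Fact p.Prime] (X : Subgroup G) (hX : IsPGroup p X) (h : ∀ g : G, IsPGroup p ↥(X ⊔ X.map (MulAut.conj g).toMonoidHom)) : ∃ N : Subgroup G, N.Normal ∧ IsPGroup p N ∧ X ≤ N := by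
  refine ⟨Subgroup.normalClosure (X : Set G), Subgroup.normalClosure_normal, ?_,
    Subgroup.le_normalClosure⟩
  unfold Subgroup.normalClosure
  apply Cfsg.Agent.Lib.Helper67.BaerSuzuki.isPGroup_closure
  · intro g x hx
    exact Group.conj_mem_conjugatesOfSet hx
  · intro a ha b hb
    rw [Group.mem_conjugatesOfSet_iff] at ha hb
    obtain ⟨x, hx, hxa⟩ := ha
    obtain ⟨y, hy, hyb⟩ := hb
    rw [isConj_iff] at hxa hyb
    obtain ⟨g, rfl⟩ := hxa
    obtain ⟨k, rfl⟩ := hyb
    have hP : IsPGroup p ↥((X ⊔ X.map (MulAut.conj (g⁻¹ * k)).toMonoidHom).map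
        (MulAut.conj g).toMonoidHom) := (h (g⁻¹ * k)).map _
    refine hP.to_le ?_
    rw [Subgroup.closure_le]
    intro z hz
    rcases hz with rfl | rfl
    · refine ⟨x, Subgroup.mem_sup_left hx, ?_⟩
      simp
    · refine ⟨g⁻¹ * k * y * (g⁻¹ * k)⁻¹, Subgroup.mem_sup_right ⟨y, hy, ?_⟩, ?_⟩
      · simp [mul_assoc]
      · simp [mul_assoc]

end Cfsg.Agent.S0199
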