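import Cfsg.Statements.S2839
import Cfsg.Agent.Lib.Helper55.WeaklyClosed

set_option autoImplicit false
open Cfsg

namespace Cfsg.Agent.S2839

open Cfsg.Agent.Lib.Helper55.WeaklyClosed

theorem map_conj_map {H H' : Type*} [Group H] [Group H'] (π : H →* H') (Q : Subgroup H) (g : H) :
    (Q.map π).map (MulAut.conj (π g)).toMonoidHom = (Q.map (MulAut.conj g).toMonoidHom).map π := by
  rw [Subgroup.map_map, Subgroup.map_map]
  congr 1
  ext x
  simp [MulAut.conj_apply]

/-- Let Q be a nontrivial p-subgroup of the finite group H that is a weakly closed subgroup, K a subgroup containing Q and N a normal subgroup of H. Then Q is a weakly closed subgroup of K; every H-conjugate of Q contained in K is a K-conjugate of Q; N_K(Q) contains a Sylow p-subgroup of K; N = N_N(Q)·O^p(N); and QN/N is a weakly closed subgroup of H/N. -/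
theorem result {H : Type*} [Group H] [Finite H] {p : ℕ} [Fact p.Prime] (Q : Subgroup H) (hQp : IsPGroup p ↥Q) (hQ1 : Q ≠ ⊥) (hwc : Cfsg.IsWeaklyClosedSubgroup p Q) (K : Subgroup H) (hQK : Q ≤ K) (N' : Subgroup H) [N'.Normal] : Cfsg.IsWeaklyClosedSubgroup p (Q.subgroupOf K) ∧ (∀ g : H, ((Q : Subgroup H).map (MulAut.conj (g : H)).toMonoidHom) ≤ K → ∃ k ∈ K, ((Q : Subgroup H).map (MulAut.conj (g : H)).toMonoidHom) = ((Q : Subgroup H).map (MulAut.conj (k : H)).toMonoidHom)) ∧ Cfsg.IsParabolic p ((Subgroup.normalizer ((Q : Subgroup H) : Set H)).subgroupOf K) ∧ (N' ⊓ Subgroup.normalizer ((Q : Subgroup H) : Set H)) ⊔ (Cfsg.pResidual p ↥N').map N'.subtype = N' ∧ Cfsg.IsWeaklyClosedSubgroup p (Q.map (QuotientGroup.mk' N')) := by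
  obtain ⟨T, hT⟩ := (hQp.comap_subtype (K := K)).exists_le_sylow
  have hR : IsPGroup p ((T : Subgroup K).map K.subtype) := T.2.map K.subtype
  have hQR : Q ≤ (T : Subgroup K).map K.subtype := fun x hx =>
    ⟨⟨x, hQK hx⟩, hT (Subgroup.mem_subgroupOf.mpr hx), rfl⟩
  refine ⟨⟨T, hT, fun k hk => ?_⟩, fun g hg => wc_conj_in hwc hQp hQK g hg, ⟨T, fun y hy => ?_⟩,
    ?_, ?_⟩
  · -- (a)
    have h1 : Q.map (MulAut.conj (k : H)).toMonoidHom = Q := by
      apply wc_pgroup hwc hR hQR
      rw [conj_le_iff]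
      intro q hq
      have h2 : k * (⟨q, hQK hq⟩ : K) * k⁻¹ ∈ (T : Subgroup K) :=
        hk (conj_mem_conj k (Subgroup.mem_subgroupOf.mpr hq))
      exact ⟨_, h2, rfl⟩
    ext y
    rw [mem_conj, Subgroup.mem_subgroupOf, Subgroup.mem_subgroupOf]
    have h3 := mem_conj (Q := Q) (g := (k : H)) (x := (y : H))
    rw [h1] at h3
    exact h3.symm
  · -- (c)
    rw [Subgroup.mem_subgroupOf]
    exact wc_le_normalizer hwc hR hQR ⟨y, hy, rfl⟩
  · -- (d)
    apply le_antisymm
    · exact sup_le inf_le_left (Subgroup.map_subtype_le _)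
    · intro n hn
      obtain ⟨T₀, hQT₀⟩ := hQp.exists_le_sylow
      have hidx := not_dvd_index_subgroupOf_normal T₀ N'
      obtain ⟨s, hs, m, hm, hsm⟩ :=
        exists_mul_pResidual (Fact.out : p.Prime) ((T₀ : Subgroup H).subgroupOf N') hidx ⟨n, hn⟩
      have hn2 : n = (s : H) * (m : H) := congrArg Subtype.val hsm
      rw [hn2]
      refine Subgroup.mul_mem_sup ⟨s.2, ?_⟩ ⟨m, hm, rfl⟩
      exact wc_le_normalizer hwc T₀.2 hQT₀ (Subgroup.mem_subgroupOf.mp hs)
  · -- (e)
    obtain ⟨T₀, hQT₀⟩ := hQp.exists_le_sylow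
    have hπ : Function.Surjective (QuotientGroup.mk' N') := QuotientGroup.mk'_surjective N'
    refine ⟨T₀.mapSurjective hπ, ?_, fun gbar hg => ?_⟩
    · rw [Sylow.coe_mapSurjective]
      exact Subgroup.map_mono hQT₀
    · obtain ⟨g, rfl⟩ := hπ gbar
      rw [map_conj_map, Sylow.coe_mapSurjective] at hg
      have h1 : Q.map (MulAut.conj g).toMonoidHom ≤ (T₀ : Subgroup H) ⊔ N' := by
        have := Subgroup.map_le_iff_le_comap.mp hg
        rw [Subgroup.comap_map_eq, QuotientGroup.ker_mk'] at this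
        exact this
      obtain ⟨k, hk, hk2⟩ := exists_conj_le_sylow_subgroup (T₀.subtype le_sup_left)
        (hQp.map (MulAut.conj g).toMonoidHom) h1
      have hmap : ((T₀.subtype (le_sup_left : (T₀ : Subgroup H) ≤ (T₀ : Subgroup H) ⊔ N') :
          Sylow p ((T₀ : Subgroup H) ⊔ N' : Subgroup H)) :
            Subgroup ((T₀ : Subgroup H) ⊔ N' : Subgroup H)).map
          ((T₀ : Subgroup H) ⊔ N' : Subgroup H).subtype = (T₀ : Subgroup H) := by
        rw [Sylow.coe_subtype]
        exact Subgroup.map_subgroupOf_eq_of_le le_sup_left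
      rw [hmap] at hk2
      have h2 : Q.map (MulAut.conj (k⁻¹ * g)).toMonoidHom = Q := by
        apply wc_pgroup hwc T₀.2 hQT₀
        rw [conj_le_iff]
        intro q hq
        have := hk2 _ (conj_mem_conj g hq)
        have e : k⁻¹ * g * q * (k⁻¹ * g)⁻¹ = k⁻¹ * (g * q * g⁻¹) * k := by group
        rw [e]
        exact this
      obtain ⟨t, ht, n, hn, rfl⟩ := Subgroup.mem_sup_of_normal_right.mp hk
      have ht2 : t ∈ Subgroup.normalizer (Q : Set H) := wc_le_normalizer hwc T₀.2 hQT₀ ht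
      have h3 : t * ((t * n)⁻¹ * g) ∈ Subgroup.normalizer (Q : Set H) :=
        Subgroup.mul_mem _ ht2 (conj_eq_self_iff.mp h2)
      have hπn : (QuotientGroup.mk' N') n = 1 := (QuotientGroup.eq_one_iff n).mpr hn
      have hπg : (QuotientGroup.mk' N') g = (QuotientGroup.mk' N') (t * ((t * n)⁻¹ * g)) := by
        simp only [map_mul, map_inv, hπn, mul_one]
        group
      rw [hπg, map_conj_map, conj_eq_self_iff.mpr h3]

end Cfsg.Agent.S2839
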