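import Cfsg.Statements.S2843
import Cfsg.Agent.Lib.Helper48.CharP
import Cfsg.Agent.Lib.Helper48.Large
import Cfsg.Agent.Lib.Helper48.Large2
import Cfsg.Agent.Lib.Helper24.Coprime
import Cfsg.Agent.Lib.Helper33.Conj

set_option autoImplicit false
open Cfsg

namespace Cfsg.Agent.S2843

open Subgroup Cfsg.Agent.Lib.Helper48.CharP Cfsg.Agent.Lib.Helper48.Large
  Cfsg.Agent.Lib.Helper48.Large2 Cfsg.Agent.Lib.Helper33.Conj
open scoped commutatorElement

/-- Let Q be a nontrivial large p-subgroup of the finite group H, Q ≤ L ≤ H, and Y a nontrivial p-subgroup of H normalized by L. Let L° be the weak closure of Q in L (generated by the conjugates of Q inside L). Then L° equals the weak closure of Q in L·C_H(Y), and [L°, C_H(Y)] ≤ O_p(L°); in particular C_H(Y) normalizes L°. -/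
theorem result {H : Type*} [Group H] [Finite H] {p : ℕ} [Fact p.Prime] (Q : Subgroup H) (hQp : IsPGroup p ↥Q) (hQ1 : Q ≠ ⊥) (hL : Cfsg.IsLarge Q) (L : Subgroup H) (hQL : Q ≤ L) (Y : Subgroup H) (hYp : IsPGroup p ↥Y) (hY1 : Y ≠ ⊥) (hLY : L ≤ Subgroup.normalizer ((Y : Subgroup H) : Set H)) : Cfsg.weakClosure Q L = Cfsg.weakClosure Q (L ⊔ Subgroup.centralizer ((Y : Subgroup H) : Set H)) ∧ ⁅Cfsg.weakClosure Q L, Subgroup.centralizer ((Y : Subgroup H) : Set H)⁆ ≤ (Cfsg.pCoreOf p (Cfsg.weakClosure Q L)) ∧ Subgroup.centralizer ((Y : Subgroup H) : Set H) ≤ Subgroup.normalizer (((Cfsg.weakClosure Q L) : Subgroup H) : Set H) := by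
  have hLC : L ≤ normalizer ((centralizer (Y : Set H) : Subgroup H) : Set H) :=
    fun l hl => mem_normalizer_centralizer (hLY hl)
  have hCN : ∀ g : H, Q.map (MulAut.conj g).toMonoidHom ≤ L → centralizer (Y : Set H) ≤
      normalizer ((Q.map (MulAut.conj g).toMonoidHom : Subgroup H) : Set H) := by
    intro g hg
    exact centralizer_le_normalizer (isPGroup_cj g hQp) (isLarge_cj hL g) hYp hY1 (hg.trans hLY)
  have hwL : Cfsg.weakClosure Q L ≤ L := by
    unfold Cfsg.weakClosure
    apply iSup_le
    rintro ⟨g, hg⟩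
    exact hg
  have h3 : centralizer (Y : Set H) ≤
      normalizer ((Cfsg.weakClosure Q L : Subgroup H) : Set H) := by
    intro c hc
    rw [mem_normalizer_iff_cj_eq]
    unfold Cfsg.weakClosure
    rw [Subgroup.map_iSup]
    apply iSup_congr
    rintro ⟨g, hg⟩
    exact cj_eq_of_mem_normalizer (hCN g hg hc)
  refine ⟨?_, ?_, h3⟩
  · unfold Cfsg.weakClosure
    apply le_antisymm
    · apply iSup_le
      rintro ⟨g, hg⟩
      exact le_iSup (fun g : {g : H // Q.map (MulAut.conj g).toMonoidHom ≤
        L ⊔ centralizer (Y : Set H)} => Q.map (MulAut.conj (g : H)).toMonoidHom)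
        ⟨g, hg.trans le_sup_left⟩
    · apply iSup_le
      rintro ⟨g, hg⟩
      exact le_iSup (fun g : {g : H // Q.map (MulAut.conj g).toMonoidHom ≤ L} =>
        Q.map (MulAut.conj (g : H)).toMonoidHom)
        ⟨g, cj_le_of_le_sup hQp hQ1 hL hQL hYp hY1 hLY g hg⟩
  · have hcomm : ⁅Cfsg.weakClosure Q L, centralizer (Y : Set H)⁆ ≤
        O p (centralizer (Y : Set H)) := by
      rw [Subgroup.commutator_le]
      intro x hx
      have hP : x ∈ L ∧ ∀ c ∈ centralizer (Y : Set H),
          ⁅x, c⁆ ∈ O p (centralizer (Y : Set H)) := by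
        unfold Cfsg.weakClosure at hx
        refine Subgroup.iSup_induction
          (S := fun g : {g : H // Q.map (MulAut.conj g).toMonoidHom ≤ L} =>
            Q.map (MulAut.conj (g : H)).toMonoidHom)
          (C := fun x => x ∈ L ∧ ∀ c ∈ centralizer (Y : Set H),
            ⁅x, c⁆ ∈ O p (centralizer (Y : Set H))) hx ?_ ?_ ?_
        · rintro ⟨g, hg⟩ x hx
          refine ⟨hg hx, ?_⟩
          intro c hc
          have hmem : ⁅x, c⁆ ∈ Q.map (MulAut.conj g).toMonoidHom ⊓ centralizer (Y : Set H) := by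
            rw [commutatorElement_def]
            refine mem_inf.mpr ⟨?_, ?_⟩
            · have h1 := (mem_normalizer_iff.mp (hCN g hg hc) x⁻¹).mp (inv_mem hx)
              have h2 := mul_mem hx h1
              have e : x * (c * x⁻¹ * c⁻¹) = x * c * x⁻¹ * c⁻¹ := by group
              rwa [e] at h2
            · exact mul_mem ((mem_normalizer_iff.mp (hLC (hg hx)) c).mp hc) (inv_mem hc)
          refine le_O inf_le_right ((isPGroup_cj g hQp).to_le inf_le_left) ?_ hmem
          intro c' hc'
          exact mem_normalizer_inf (hCN g hg hc') (le_normalizer hc')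
        · refine ⟨one_mem _, ?_⟩
          intro c _
          rw [commutatorElement_one_left]
          exact one_mem _
        · rintro x y ⟨hxL, hx⟩ ⟨hyL, hy⟩
          refine ⟨mul_mem hxL hyL, ?_⟩
          intro c hc
          have e : ⁅x * y, c⁆ = x * ⁅y, c⁆ * x⁻¹ * ⁅x, c⁆ := by
            simp only [commutatorElement_def]
            group
          rw [e]
          refine mul_mem ?_ (hx c hc)
          exact (mem_normalizer_iff.mp (normalizer_le_normalizer_O p _ (hLC hxL)) _).mp (hy c hc)
      exact hP.2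
    have hcomm2 : ⁅Cfsg.weakClosure Q L, centralizer (Y : Set H)⁆ ≤ Cfsg.weakClosure Q L :=
      Cfsg.Agent.Lib.Helper24.Coprime.commutator_le_of_le_normalizer h3
    show _ ≤ O p (Cfsg.weakClosure Q L)
    refine le_trans (le_inf hcomm2 hcomm) ?_
    apply le_O inf_le_left ((O_isPGroup p _).to_le inf_le_right)
    intro x hx
    exact mem_normalizer_inf (le_normalizer hx) (normalizer_le_normalizer_O p _ (hLC (hwL hx)))

end Cfsg.Agent.S2843
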