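import Cfsg.Statements.S3277
import Cfsg.Agent.S1230
import Cfsg.Agent.S0252
import Cfsg.Agent.S2879

set_option autoImplicit false
open Cfsg

namespace Cfsg.Agent.S3277

open Subgroup

theorem mem_smul_sylow {G : Type*} [Group G] {p : ℕ} (g x : G) (P : Sylow p G) :
    x ∈ ((g • P : Sylow p G) : Subgroup G) ↔ g⁻¹ * x * g ∈ (P : Subgroup G) := by
  rw [Sylow.smul_def, Sylow.pointwise_smul_def, Subgroup.mem_pointwise_smul_iff_inv_smul_mem]
  simp [MulAut.smul_def]

/-- a 2-subgroup can be conjugated into a given Sylow 2-subgroup -/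
theorem exists_conj_mem {G : Type*} [Group G] [Finite G] (S : Sylow 2 G) (D : Subgroup G)
    (hD : IsPGroup 2 D) : ∃ g : G, ∀ x ∈ D, g * x * g⁻¹ ∈ (S : Subgroup G) := by
  have : Fact (Nat.Prime 2) := ⟨Nat.prime_two⟩
  obtain ⟨Q, hQ⟩ := hD.exists_le_sylow
  obtain ⟨g, hg⟩ := MulAction.exists_smul_eq G S Q
  refine ⟨g⁻¹, fun x hx => ?_⟩
  have h1 : x ∈ ((g • S : Sylow 2 G) : Subgroup G) := by rw [hg]; exact hQ hx
  rw [mem_smul_sylow] at h1
  rw [inv_inv]; exact h1

theorem mem_zpowers_invol {G : Type*} [Group G] {x u : G} (hx : x * x = 1)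
    (hu : u ∈ zpowers x) : u = 1 ∨ u = x := by
  obtain ⟨i, rfl⟩ := mem_zpowers_iff.1 hu
  rcases Int.emod_two_eq_zero_or_one i with h | h
  · left
    have : i = 2 * (i / 2) := by omega
    rw [this, zpow_mul, zpow_two, hx, one_zpow]
  · right
    have : i = 2 * (i / 2) + 1 := by omega
    rw [this, zpow_add, zpow_mul, zpow_two, hx, one_zpow, one_mul, zpow_one]

/-- two involutions are conjugate, or some nontrivial involution commutes with both -/
theorem dihedral_alt {G : Type*} [Group G] [Finite G] {s t : G} (hs : s * s = 1)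
    (ht : t * t = 1) :
    (∃ h : G, h * s * h⁻¹ = t) ∨ ∃ c : G, c ≠ 1 ∧ c * c = 1 ∧ c * s = s * c ∧ c * t = t * c := by
  obtain ⟨ρ, hρ⟩ : ∃ ρ, ρ = s * t := ⟨_, rfl⟩
  have hsinv : s⁻¹ = s := inv_eq_of_mul_eq_one_left hs
  have htinv : t⁻¹ = t := inv_eq_of_mul_eq_one_left ht
  have h1 : s * ρ * s⁻¹ = ρ⁻¹ := by
    rw [hρ, mul_inv_rev, hsinv, htinv]
    calc s * (s * t) * s = (s * s) * t * s := by group
      _ = t * s := by rw [hs, one_mul]
  have h2 : t * ρ * t⁻¹ = ρ⁻¹ := by
    rw [hρ, mul_inv_rev, hsinv, htinv]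
    calc t * (s * t) * t = t * s * (t * t) := by group
      _ = t * s := by rw [ht, mul_one]
  have hpos : 0 < orderOf ρ := orderOf_pos ρ
  rcases Nat.even_or_odd' (orderOf ρ) with ⟨j, hj | hj⟩
  · right
    have hc2 : ρ ^ j * ρ ^ j = 1 := by rw [← pow_add, ← two_mul, ← hj, pow_orderOf_eq_one]
    have hcinv : (ρ ^ j)⁻¹ = ρ ^ j := inv_eq_of_mul_eq_one_left hc2
    refine ⟨ρ ^ j, ?_, hc2, ?_, ?_⟩
    · exact pow_ne_one_of_lt_orderOf (by omega) (by omega)
    · have h3 : s * ρ ^ j * s⁻¹ = ρ ^ j := by rw [← conj_pow, h1, inv_pow, hcinv]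
      calc ρ ^ j * s = (s * ρ ^ j * s⁻¹) * s := by rw [h3]
        _ = s * ρ ^ j := by group
    · have h3 : t * ρ ^ j * t⁻¹ = ρ ^ j := by rw [← conj_pow, h2, inv_pow, hcinv]
      calc ρ ^ j * t = (t * ρ ^ j * t⁻¹) * t := by rw [h3]
        _ = t * ρ ^ j := by group
  · left
    refine ⟨ρ ^ j, ?_⟩
    have h3 : s * (ρ ^ j)⁻¹ * s⁻¹ = ρ ^ j := by
      rw [← conj_inv, ← conj_pow, h1, inv_pow, inv_inv]
    have h4 : ρ ^ j * ρ ^ j = ρ⁻¹ := by
      apply eq_inv_of_mul_eq_one_left
      rw [← pow_add, ← pow_succ, ← two_mul, ← hj, pow_orderOf_eq_one]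
    calc ρ ^ j * s * (ρ ^ j)⁻¹ = ρ ^ j * (s * (ρ ^ j)⁻¹ * s⁻¹) * s := by group
      _ = ρ⁻¹ * s := by rw [h3, h4]
      _ = t := by rw [hρ, mul_inv_rev, hsinv, htinv, mul_assoc, hs, mul_one]

/-- the closure of a set of pairwise commuting involutions is elementary abelian -/
theorem elemAb_closure {G : Type*} [Group G] (s : Set G)
    (hcomm : ∀ a ∈ s, ∀ b ∈ s, a * b = b * a) (hinv : ∀ a ∈ s, a * a = 1) :
    IsMulCommutative (closure s) ∧ ∀ a ∈ closure s, a ^ 2 = 1 := by
  have hc : IsMulCommutative (closure s) := Subgroup.isMulCommutative_closure hcomm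
  refine ⟨hc, ?_⟩
  have hAcomm : ∀ y ∈ closure s, ∀ z ∈ closure s, y * z = z * y := by
    intro y hy z hz
    have := mul_comm' (⟨y, hy⟩ : closure s) ⟨z, hz⟩
    exact congrArg Subtype.val this
  intro a ha
  induction ha using Subgroup.closure_induction with
  | mem y hy => rw [pow_two]; exact hinv y hy
  | one => exact one_pow 2
  | mul y z hy hz ihy ihz =>
    have hc' : Commute y z := hAcomm y hy z hz
    rw [hc'.mul_pow, ihy, ihz, one_mul]
  | inv y hy ih => rw [inv_pow, ih, inv_one]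

/-- a group of order 4 and exponent 2 containing the distinct involutions `x`, `z` -/
theorem enum_four {G : Type*} [Group G] [Finite G] (V : Subgroup G) (hV4 : Nat.card V = 4)
    (hVcomm : ∀ a ∈ V, ∀ b ∈ V, a * b = b * a) {x z : G} (hx : orderOf x = 2) (hxV : x ∈ V)
    (hzV : z ∈ V) (hz1 : z ≠ 1) (hzx : z ≠ x) :
    ∀ v ∈ V, v = 1 ∨ v = x ∨ v = z ∨ v = x * z := by
  have hx2 : x * x = 1 := by rw [← pow_two, ← hx, pow_orderOf_eq_one]
  intro v hv
  have hcardzp : Nat.card (zpowers x) = 2 := by rw [Nat.card_zpowers, hx]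
  have hzpV : zpowers x ≤ V := zpowers_le.2 hxV
  by_cases hvx : v ∈ zpowers x
  · rcases mem_zpowers_invol hx2 hvx with h | h
    · left; exact h
    · right; left; exact h
  · have hzx' : z ∉ zpowers x := by
      intro h
      rcases mem_zpowers_invol hx2 h with h | h
      · exact hz1 h
      · exact hzx h
    have h1 := Cfsg.Agent.S2879.mem_of_index_two hzpV (by rw [hV4, hcardzp]) hzV hv hzx' hvx
    rcases mem_zpowers_invol hx2 h1 with h | h
    · right; right; left
      exact (inv_mul_eq_one.1 h).symm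
    · right; right; right
      have : v = z * x := by rw [← h]; group
      rw [this]; exact hVcomm z hzV x hxV

theorem caseI {G : Type*} [Group G] [Finite G] (x : G) (hx : orderOf x = 2)
    (hC4 : Nat.card ↥(centralizer ({x} : Set G)) = 4)
    (hCe : ∀ c ∈ centralizer ({x} : Set G), c ^ 2 = 1) (S : Sylow 2 G)
    (hVS : centralizer ({x} : Set G) ≤ (S : Subgroup G))
    (hne : centralizer ({x} : Set G) ≠ (S : Subgroup G)) :
    ∃ E : Subgroup G, E.Normal ∧ Cfsg.IsElementaryAbelian 2 E ∧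
      (Nat.card E = 2 ∨ Nat.card E = 4) := by
  classical
  have : Fact (Nat.Prime 2) := ⟨Nat.prime_two⟩
  obtain ⟨V, hV⟩ : ∃ V, V = centralizer ({x} : Set G) := ⟨_, rfl⟩
  rw [← hV] at hC4 hCe hVS hne
  have hmemV : ∀ c, c ∈ V ↔ c * x = x * c := by
    intro c
    rw [hV, mem_centralizer_iff]
    constructor
    · intro h; exact (h x rfl).symm
    · intro h y hy
      rw [Set.mem_singleton_iff] at hy
      rw [hy]; exact h.symm
  have hx2 : x * x = 1 := by rw [← pow_two, ← hx, pow_orderOf_eq_one]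
  have hx1 : x ≠ 1 := by
    intro h; rw [h, orderOf_one] at hx; omega
  have hxV : x ∈ V := (hmemV x).2 rfl
  have hVcomm : ∀ a ∈ V, ∀ b ∈ V, a * b = b * a := by
    intro a ha b hb
    have h1 := hCe a ha
    have h2 := hCe b hb
    have h3 := hCe (a * b) (mul_mem ha hb)
    have ha' : a⁻¹ = a := inv_eq_of_mul_eq_one_left (by rw [← pow_two]; exact h1)
    have hb' : b⁻¹ = b := inv_eq_of_mul_eq_one_left (by rw [← pow_two]; exact h2)
    have h4 : (a * b)⁻¹ = a * b := inv_eq_of_mul_eq_one_left (by rw [← pow_two]; exact h3)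
    rw [mul_inv_rev, ha', hb'] at h4
    exact h4.symm
  -- a central involution of `S`
  have hS2 : IsPGroup 2 (S : Subgroup G) := S.isPGroup'
  have hSnt : Nontrivial ↥(S : Subgroup G) :=
    ⟨⟨⟨x, hVS hxV⟩, 1, fun h => hx1 (congrArg Subtype.val h)⟩⟩
  have hcn : Nontrivial (center ↥(S : Subgroup G)) := hS2.center_nontrivial
  obtain ⟨⟨z₀, hz₀c⟩, hz₀1⟩ := exists_ne (1 : center ↥(S : Subgroup G))
  rw [mem_center_iff] at hz₀c
  obtain ⟨z, hz⟩ : ∃ z : G, z = (z₀ : G) := ⟨_, rfl⟩
  have hzS : z ∈ (S : Subgroup G) := by rw [hz]; exact z₀.2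
  have hz1 : z ≠ 1 := by
    intro h
    apply hz₀1
    apply Subtype.ext
    apply Subtype.ext
    rw [← hz, h]; rfl
  have hzc : ∀ s ∈ (S : Subgroup G), s * z = z * s := by
    intro s hs
    have := congrArg Subtype.val (hz₀c ⟨s, hs⟩)
    rw [hz]; exact this
  have hzV : z ∈ V := (hmemV z).2 (hzc x (hVS hxV)).symm
  have hzx : z ≠ x := by
    intro h
    apply hne
    apply le_antisymm hVS
    intro s hs
    rw [hmemV, ← h]; exact hzc s hs
  have hz2 : z * z = 1 := by rw [← pow_two]; exact hCe z hzV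
  have henum := enum_four V hC4 hVcomm hx hxV hzV hz1 hzx
  -- normalizer growth
  obtain ⟨d, hdS, hdV, hdN⟩ : ∃ d ∈ (S : Subgroup G), d ∉ V ∧ ∀ v ∈ V, d * v * d⁻¹ ∈ V := by
    have hnil : Group.IsNilpotent ↥(S : Subgroup G) := hS2.isNilpotent
    have hncond := Group.normalizerCondition_of_isNilpotent (G := ↥(S : Subgroup G))
    have hlt : V.subgroupOf (S : Subgroup G) < ⊤ := by
      rw [lt_top_iff_ne_top]
      intro h
      apply hne
      apply le_antisymm hVS
      intro s hs
      have : (⟨s, hs⟩ : ↥(S : Subgroup G)) ∈ V.subgroupOf (S : Subgroup G) := by rw [h]; trivial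
      exact mem_subgroupOf.1 this
    have h2 := hncond _ hlt
    obtain ⟨d', hd'N, hd'V⟩ := SetLike.exists_of_lt h2
    refine ⟨(d' : G), d'.2, fun h => hd'V (mem_subgroupOf.2 h), ?_⟩
    intro v hv
    rw [mem_normalizer_iff] at hd'N
    have := (hd'N ⟨v, hVS hv⟩).1 (mem_subgroupOf.2 hv)
    exact mem_subgroupOf.1 this
  obtain ⟨y, hy⟩ : ∃ y, y = d * x * d⁻¹ := ⟨_, rfl⟩
  have hyV : y ∈ V := by rw [hy]; exact hdN x hxV
  have hyx : y ≠ x := by
    intro h
    apply hdV
    rw [hmemV]
    rw [hy] at h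
    calc d * x = (d * x * d⁻¹) * d := by group
      _ = x * d := by rw [h]
  have hyz : y ≠ z := by
    intro h
    have h1 : d * z * d⁻¹ = z := by
      have := hzc d hdS
      calc d * z * d⁻¹ = (z * d) * d⁻¹ := by rw [this]
        _ = z := by group
    apply hzx
    have h2 : d * x * d⁻¹ = d * z * d⁻¹ := by rw [← hy, h, h1]
    have h3 : d * x = d * z := mul_right_cancel h2
    exact (mul_left_cancel h3).symm
  have hy1 : y ≠ 1 := by
    intro h
    apply hx1
    rw [hy] at h
    have : x = d⁻¹ * (d * x * d⁻¹) * d := by group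
    rw [this, h]; group
  have hyxz : y = x * z := by
    rcases henum y hyV with h | h | h | h
    · exact absurd h hy1
    · exact absurd h hyx
    · exact absurd h hyz
    · exact h
  -- the centralizer of `x * z` lies in `V`
  have hA : ∀ h : G, h * (x * z) = (x * z) * h → h ∈ V := by
    intro h hh
    rw [← hyxz, hy] at hh
    have h1 : d⁻¹ * h * d ∈ V := by
      rw [hmemV]
      calc d⁻¹ * h * d * x = d⁻¹ * (h * (d * x * d⁻¹)) * d := by group
        _ = d⁻¹ * ((d * x * d⁻¹) * h) * d := by rw [hh]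
        _ = x * (d⁻¹ * h * d) := by group
    have h2 := hdN _ h1
    have h3 : d * (d⁻¹ * h * d) * d⁻¹ = h := by group
    rwa [h3] at h2
  -- `x` is not conjugate to `z`
  have hC : ∀ g : G, g * z * g⁻¹ ≠ x := by
    intro g hg
    apply hne
    apply Subgroup.eq_of_le_of_card_ge hVS
    have hmap : ∀ s : ↥(S : Subgroup G), g * (s : G) * g⁻¹ ∈ V := by
      intro s
      rw [hmemV, ← hg]
      have := hzc s s.2
      calc g * ↑s * g⁻¹ * (g * z * g⁻¹) = g * (↑s * z) * g⁻¹ := by group
        _ = g * (z * ↑s) * g⁻¹ := by rw [this]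
        _ = g * z * g⁻¹ * (g * ↑s * g⁻¹) := by group
    exact Nat.card_le_card_of_injective
      (fun s : ↥(S : Subgroup G) => (⟨g * (s : G) * g⁻¹, hmap s⟩ : V))
      (by
        intro s t hst
        have h1 : g * (s : G) * g⁻¹ = g * (t : G) * g⁻¹ := congrArg Subtype.val hst
        apply Subtype.ext
        exact mul_left_cancel (mul_right_cancel h1))
  have hC' : ∀ g : G, g * z * g⁻¹ ≠ x * z := by
    intro g hg
    rw [← hyxz, hy] at hg
    apply hC (d⁻¹ * g)
    calc d⁻¹ * g * z * (d⁻¹ * g)⁻¹ = d⁻¹ * (g * z * g⁻¹) * d := by group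
      _ = x := by rw [hg]; group
  -- `z` commutes with its conjugates
  have hD : ∀ g : G, z * (g * z * g⁻¹) = (g * z * g⁻¹) * z := by
    intro g
    obtain ⟨z', hz'⟩ : ∃ z', z' = g * z * g⁻¹ := ⟨_, rfl⟩
    rw [← hz']
    have hz'2 : z' * z' = 1 := by
      rw [hz']
      calc g * z * g⁻¹ * (g * z * g⁻¹) = g * (z * z) * g⁻¹ := by group
        _ = 1 := by rw [hz2]; group
    have hz'1 : z' ≠ 1 := by
      intro h
      apply hz1
      rw [hz'] at h
      have : z = g⁻¹ * (g * z * g⁻¹) * g := by group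
      rw [this, h]; group
    have hz'V : z' ∈ V → z * z' = z' * z := by
      intro hv
      rcases henum z' hv with h | h | h | h
      · exact absurd h hz'1
      · exact absurd (hz'.symm.trans h) (hC g)
      · rw [h]
      · exact absurd (hz'.symm.trans h) (hC' g)
    rcases dihedral_alt hx2 hz'2 with ⟨h, hh⟩ | ⟨c, hc1, hc2, hcx, hcz'⟩
    · exfalso
      apply hC (h⁻¹ * g)
      calc h⁻¹ * g * z * (h⁻¹ * g)⁻¹ = h⁻¹ * (g * z * g⁻¹) * h := by group
        _ = h⁻¹ * (h * x * h⁻¹) * h := by rw [← hz', hh]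
        _ = x := by group
    · have hcV : c ∈ V := (hmemV c).2 hcx
      rcases henum c hcV with h | h | h | h
      · exact absurd h hc1
      · apply hz'V
        rw [hmemV, ← h]; exact hcz'.symm
      · rw [← h]; exact hcz'
      · apply hz'V
        apply hA
        rw [← h]; exact hcz'.symm
  -- the normal closure of `z`
  obtain ⟨E, hE⟩ : ∃ E, E = Subgroup.normalClosure ({z} : Set G) := ⟨_, rfl⟩
  have hEn : E.Normal := by rw [hE]; exact Subgroup.normalClosure_normal
  have hgen : ∀ w ∈ Group.conjugatesOfSet ({z} : Set G), ∃ g : G, w = g * z * g⁻¹ := by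
    intro w hw
    rw [Group.mem_conjugatesOfSet_iff] at hw
    obtain ⟨a, ha, hconj⟩ := hw
    rw [Set.mem_singleton_iff] at ha
    rw [isConj_iff] at hconj
    obtain ⟨g, hg⟩ := hconj
    exact ⟨g, by rw [← hg, ha]⟩
  have hEel := elemAb_closure (Group.conjugatesOfSet ({z} : Set G)) (by
      intro a ha b hb
      obtain ⟨g, rfl⟩ := hgen a ha
      obtain ⟨h, rfl⟩ := hgen b hb
      have := hD (g⁻¹ * h)
      calc g * z * g⁻¹ * (h * z * h⁻¹)
          = g * (z * (g⁻¹ * h * z * (g⁻¹ * h)⁻¹)) * g⁻¹ := by group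
        _ = g * ((g⁻¹ * h * z * (g⁻¹ * h)⁻¹) * z) * g⁻¹ := by rw [this]
        _ = h * z * h⁻¹ * (g * z * g⁻¹) := by group)
    (by
      intro a ha
      obtain ⟨g, rfl⟩ := hgen a ha
      calc g * z * g⁻¹ * (g * z * g⁻¹) = g * (z * z) * g⁻¹ := by group
        _ = 1 := by rw [hz2]; group)
  have hEel' : IsMulCommutative E ∧ ∀ a ∈ E, a ^ 2 = 1 := by rw [hE]; exact hEel
  have hzE : z ∈ E := by rw [hE]; exact Subgroup.subset_normalClosure (Set.mem_singleton z)
  have hEcomm : ∀ a ∈ E, ∀ b ∈ E, a * b = b * a := by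
    intro a ha b hb
    have := hEel'.1
    exact congrArg Subtype.val (mul_comm' (⟨a, ha⟩ : E) ⟨b, hb⟩)
  have hE2 : IsPGroup 2 E := by
    intro e
    refine ⟨1, ?_⟩
    apply Subtype.ext
    rw [pow_one]
    exact_mod_cast hEel'.2 e e.2
  obtain ⟨n, hn⟩ := IsPGroup.iff_card.1 hE2
  have hcard1 : Nat.card E ≠ 1 := by
    intro h
    have := Subgroup.card_eq_one.1 h
    rw [this, mem_bot] at hzE
    exact hz1 hzE
  have hle4 : Nat.card E ≤ 4 := by
    by_cases hxE : x ∈ E
    · have hEV : E ≤ V := by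
        intro e he
        rw [hmemV]; exact hEcomm e he x hxE
      calc Nat.card E ≤ Nat.card V := Subgroup.card_le_of_le hEV
        _ = 4 := hC4
    · have hxzE : x * z ∉ E := by
        intro h
        apply hxE
        have : x = (x * z) * z⁻¹ := by group
        rw [this]; exact mul_mem h (inv_mem hzE)
      have hfix : ∀ e ∈ E, x * e * x⁻¹ = e → e = 1 ∨ e = z := by
        intro e he hfix
        have heV : e ∈ V := by
          rw [hmemV]
          calc e * x = (x * e * x⁻¹) * x := by rw [hfix]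
            _ = x * e := by group
        rcases henum e heV with h | h | h | h
        · left; exact h
        · exact absurd (h ▸ he) hxE
        · right; exact h
        · exact absurd (h ▸ he) hxzE
      let φ : E →* E :=
        { toFun := fun e => ⟨(e : G) * (x * (e : G) * x⁻¹), mul_mem e.2 (hEn.conj_mem _ e.2 x)⟩
          map_one' := by apply Subtype.ext; simp
          map_mul' := by
            intro a b
            apply Subtype.ext
            show (a : G) * b * (x * (a * b) * x⁻¹) = a * (x * a * x⁻¹) * (b * (x * b * x⁻¹))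
            have h1 := hEcomm (b : G) b.2 (x * a * x⁻¹) (hEn.conj_mem _ a.2 x)
            calc (a : G) * b * (x * (a * b) * x⁻¹)
                = a * (b * (x * a * x⁻¹)) * (x * b * x⁻¹) := by group
              _ = a * ((x * a * x⁻¹) * b) * (x * b * x⁻¹) := by rw [h1]
              _ = a * (x * a * x⁻¹) * (b * (x * b * x⁻¹)) := by group }
      have hZ2 : Nat.card ((zpowers z).subgroupOf E) ≤ 2 := by
        have hle : zpowers z ≤ E := zpowers_le.2 hzE
        rw [Nat.card_congr (Subgroup.subgroupOfEquivOfLe hle).toEquiv, Nat.card_zpowers,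
          orderOf_eq_prime (by rw [pow_two]; exact hz2) hz1]
      have hker : φ.ker ≤ (zpowers z).subgroupOf E := by
        intro e he
        rw [MonoidHom.mem_ker] at he
        have h1 : (e : G) * (x * (e : G) * x⁻¹) = 1 := congrArg Subtype.val he
        have he2 : (e : G) * (e : G) = 1 := by rw [← pow_two]; exact hEel'.2 e e.2
        have h2 : x * (e : G) * x⁻¹ = e := by
          have : x * (e : G) * x⁻¹ = (e : G)⁻¹ := eq_inv_of_mul_eq_one_right h1
          rw [this]; exact inv_eq_of_mul_eq_one_left he2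
        rw [mem_subgroupOf]
        rcases hfix e e.2 h2 with h | h
        · rw [h]; exact one_mem _
        · rw [h]; exact mem_zpowers z
      have hrange : φ.range ≤ (zpowers z).subgroupOf E := by
        rintro _ ⟨e, rfl⟩
        rw [mem_subgroupOf]
        show (e : G) * (x * (e : G) * x⁻¹) ∈ zpowers z
        have h2 : x * ((e : G) * (x * (e : G) * x⁻¹)) * x⁻¹ = (e : G) * (x * (e : G) * x⁻¹) := by
          have h1 := hEcomm (e : G) e.2 (x * e * x⁻¹) (hEn.conj_mem _ e.2 x)
          calc x * ((e : G) * (x * (e : G) * x⁻¹)) * x⁻¹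
              = (x * e * x⁻¹) * ((x * x) * e * (x * x)⁻¹) := by group
            _ = (x * e * x⁻¹) * e := by rw [hx2]; group
            _ = e * (x * e * x⁻¹) := h1.symm
        rcases hfix _ (mul_mem e.2 (hEn.conj_mem _ e.2 x)) h2 with h | h
        · rw [h]; exact one_mem _
        · rw [h]; exact mem_zpowers z
      have h1 := Subgroup.card_mul_index φ.ker
      rw [Subgroup.index_ker] at h1
      have h2 : Nat.card φ.ker ≤ 2 := (Subgroup.card_le_of_le hker).trans hZ2
      have h3 : Nat.card φ.range ≤ 2 := (Subgroup.card_le_of_le hrange).trans hZ2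
      calc Nat.card E = Nat.card φ.ker * Nat.card φ.range := h1.symm
        _ ≤ 2 * 2 := Nat.mul_le_mul h2 h3
  refine ⟨E, hEn, hEel', ?_⟩
  rw [hn] at hcard1 hle4 ⊢
  have hn2 : n ≤ 2 := by
    by_contra hlt
    push Not at hlt
    have : 2 ^ 3 ≤ 2 ^ n := Nat.pow_le_pow_right (by norm_num) hlt
    omega
  interval_cases n
  · exact absurd rfl hcard1
  · left; rfl
  · right; rfl

theorem caseII {G : Type*} [Group G] [Finite G] (x : G) (hx : orderOf x = 2)
    (hC4 : Nat.card ↥(centralizer ({x} : Set G)) = 4)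
    (hCe : ∀ c ∈ centralizer ({x} : Set G), c ^ 2 = 1)
    (hnc : ¬ Cfsg.HasNormalPComplement 2 G)
    (hne : ∀ E : Subgroup G, E.Normal → Cfsg.IsElementaryAbelian 2 E →
      Nat.card ↥E ≠ 2 ∧ Nat.card ↥E ≠ 4)
    (S : Sylow 2 G) (hS : (S : Subgroup G) = centralizer ({x} : Set G)) :
    Nonempty (G ≃* ↥(alternatingGroup (Fin 5))) := by
  classical
  have : Fact (Nat.Prime 2) := ⟨Nat.prime_two⟩
  rw [← hS] at hC4 hCe
  have hmemS : ∀ c, c ∈ (S : Subgroup G) ↔ c * x = x * c := by
    intro c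
    rw [hS, mem_centralizer_iff]
    constructor
    · intro h; exact (h x rfl).symm
    · intro h y hy
      rw [Set.mem_singleton_iff] at hy
      rw [hy]; exact h.symm
  have hx2 : x * x = 1 := by rw [← pow_two, ← hx, pow_orderOf_eq_one]
  have hx1 : x ≠ 1 := by
    intro h; rw [h, orderOf_one] at hx; omega
  have hxS : x ∈ (S : Subgroup G) := (hmemS x).2 rfl
  have hScomm : ∀ a ∈ (S : Subgroup G), ∀ b ∈ (S : Subgroup G), a * b = b * a := by
    intro a ha b hb
    have h1 := hCe a ha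
    have h2 := hCe b hb
    have h3 := hCe (a * b) (mul_mem ha hb)
    have ha' : a⁻¹ = a := inv_eq_of_mul_eq_one_left (by rw [← pow_two]; exact h1)
    have hb' : b⁻¹ = b := inv_eq_of_mul_eq_one_left (by rw [← pow_two]; exact h2)
    have h4 : (a * b)⁻¹ = a * b := inv_eq_of_mul_eq_one_left (by rw [← pow_two]; exact h3)
    rw [mul_inv_rev, ha', hb'] at h4
    exact h4.symm
  -- `S` is not cyclic
  have hncyc : ¬ IsCyclic ↥(S : Subgroup G) := by
    intro hc
    obtain ⟨g, hg⟩ := IsCyclic.exists_ofOrder_eq_natCard (α := ↥(S : Subgroup G))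
    rw [hC4] at hg
    have h2 : g ^ 2 = 1 := by
      apply Subtype.ext
      exact_mod_cast hCe g g.2
    have := orderOf_dvd_of_pow_eq_one h2
    rw [hg] at this
    exact absurd this (by decide)
  have hSel : Cfsg.IsElementaryAbelian 2 (S : Subgroup G) :=
    ⟨⟨⟨fun a b => Subtype.ext (hScomm a a.2 b b.2)⟩⟩, hCe⟩
  have hnn : ¬ (S : Subgroup G).Normal := fun h => (hne _ h hSel).2 hC4
  -- fusion of the involutions of `S`
  obtain ⟨g, hgN, hgC⟩ : ∃ g ∈ normalizer ((S : Subgroup G) : Set G),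
      g ∉ centralizer ((S : Subgroup G) : Set G) := by
    by_contra hcon
    push Not at hcon
    apply hnc
    have hP : normalizer ((S : Subgroup G) : Set G) ≤ centralizer ((S : Subgroup G) : Set G) :=
      fun g hg => hcon g hg
    exact ⟨S, (MonoidHom.transferSylow S hP).ker, MonoidHom.normal_ker _,
      MonoidHom.ker_transferSylow_isComplement' S hP⟩
  have hgN' : ∀ v, v ∈ (S : Subgroup G) ↔ g * v * g⁻¹ ∈ (S : Subgroup G) :=
    mem_normalizer_iff.1 hgN
  have hgS : g ∉ (S : Subgroup G) := by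
    intro h
    apply hgC
    rw [mem_centralizer_iff]
    intro s hs
    exact hScomm s hs g h
  obtain ⟨y, hy⟩ : ∃ y, y = g * x * g⁻¹ := ⟨_, rfl⟩
  have hyS : y ∈ (S : Subgroup G) := by rw [hy]; exact (hgN' x).1 hxS
  have hyx : y ≠ x := by
    intro h
    apply hgS
    rw [hmemS]
    rw [hy] at h
    calc g * x = (g * x * g⁻¹) * g := by group
      _ = x * g := by rw [h]
  have hy1 : y ≠ 1 := by
    intro h
    apply hx1
    rw [hy] at h
    have : x = g⁻¹ * (g * x * g⁻¹) * g := by group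
    rw [this, h]; group
  have henum := enum_four (S : Subgroup G) hC4 hScomm hx hxS hyS hy1 hyx
  obtain ⟨w, hw⟩ : ∃ w, w = g * y * g⁻¹ := ⟨_, rfl⟩
  have hwS : w ∈ (S : Subgroup G) := by rw [hw]; exact (hgN' y).1 hyS
  have hw1 : w ≠ 1 := by
    intro h
    apply hy1
    rw [hw] at h
    have : y = g⁻¹ * (g * y * g⁻¹) * g := by group
    rw [this, h]; group
  have hwy : w ≠ y := by
    intro h
    apply hyx
    rw [hw] at h
    nth_rewrite 2 [hy] at h
    have h3 : g * y = g * x := mul_right_cancel h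
    exact mul_left_cancel h3
  have hwx : w ≠ x := by
    intro h
    apply hgS
    have hgg : g * g ∈ (S : Subgroup G) := by
      rw [hmemS]
      have h5 : g * (g * x * g⁻¹) * g⁻¹ = x := by rw [← hy, ← hw, h]
      calc g * g * x = (g * (g * x * g⁻¹) * g⁻¹) * (g * g) := by group
        _ = x * (g * g) := by rw [h5]
    have hg4 : g ^ 4 = 1 := by
      have := hCe (g * g) hgg
      calc g ^ 4 = (g * g) ^ 2 := by rw [← pow_two, ← pow_mul]
        _ = 1 := this
    have hzp : IsPGroup 2 (zpowers g) := by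
      intro u
      refine ⟨2, ?_⟩
      obtain ⟨i, hi⟩ := mem_zpowers_iff.1 u.2
      apply Subtype.ext
      show (u : G) ^ 2 ^ 2 = 1
      rw [← hi]
      norm_num
      rw [← zpow_natCast, ← zpow_mul, mul_comm, zpow_mul, zpow_natCast, hg4, one_zpow]
    have hle : zpowers g ≤ normalizer ((S : Subgroup G) : Set G) := zpowers_le.2 hgN
    have hK := IsPGroup.to_sup_of_normal_right' hzp S.isPGroup' hle
    have hmax := S.is_maximal' hK le_sup_right
    have h6 : g ∈ zpowers g ⊔ (S : Subgroup G) := le_sup_left (a := zpowers g) (mem_zpowers g)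
    rw [hmax] at h6
    exact h6
  have hwxy : w = x * y := by
    rcases henum w hwS with h | h | h | h
    · exact absurd h hw1
    · exact absurd h hwx
    · exact absurd h hwy
    · exact h
  have hfus : ∀ v ∈ (S : Subgroup G), v ≠ 1 → ∃ h : G, h * x * h⁻¹ = v := by
    intro v hv hv1
    rcases henum v hv with h | h | h | h
    · exact absurd h hv1
    · exact ⟨1, by rw [h]; group⟩
    · exact ⟨g, by rw [h, hy]⟩
    · exact ⟨g * g, by rw [h, ← hwxy, hw, hy]; group⟩
  have hall : ∀ t : G, orderOf t = 2 → ∃ k : G, k * x * k⁻¹ = t := by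
    intro t ht
    have hp : IsPGroup 2 (zpowers t) := by
      apply IsPGroup.of_card (n := 1)
      rw [Nat.card_zpowers, ht, pow_one]
    obtain ⟨g₁, hg₁⟩ := exists_conj_mem S (zpowers t) hp
    have h1 := hg₁ t (mem_zpowers t)
    have hne1 : g₁ * t * g₁⁻¹ ≠ 1 := by
      intro h
      have h2 : t = g₁⁻¹ * (g₁ * t * g₁⁻¹) * g₁ := by group
      rw [h] at h2
      have h3 : t = 1 := by rw [h2]; group
      rw [h3, orderOf_one] at ht
      omega
    obtain ⟨h, hh⟩ := hfus _ h1 hne1
    refine ⟨g₁⁻¹ * h, ?_⟩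
    calc g₁⁻¹ * h * x * (g₁⁻¹ * h)⁻¹ = g₁⁻¹ * (h * x * h⁻¹) * g₁ := by group
      _ = t := by rw [hh]; group
  have hCt : ∀ t : G, orderOf t = 2 → IsMulCommutative (centralizer ({t} : Set G)) ∧
      ∀ c ∈ centralizer ({t} : Set G), c ^ 2 = 1 := by
    intro t ht
    obtain ⟨k, hk⟩ := hall t ht
    have hconj : ∀ c ∈ centralizer ({t} : Set G), k⁻¹ * c * k ∈ (S : Subgroup G) := by
      intro c hc
      rw [mem_centralizer_iff] at hc
      have h1 := hc t rfl
      rw [hmemS]
      rw [← hk] at h1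
      calc k⁻¹ * c * k * x = k⁻¹ * (c * (k * x * k⁻¹)) * k := by group
        _ = k⁻¹ * ((k * x * k⁻¹) * c) * k := by rw [h1]
        _ = x * (k⁻¹ * c * k) := by group
    constructor
    · refine ⟨⟨fun a b => ?_⟩⟩
      apply Subtype.ext
      have h1 := hScomm _ (hconj a a.2) _ (hconj b b.2)
      show (a : G) * b = b * a
      calc (a : G) * b = k * ((k⁻¹ * a * k) * (k⁻¹ * b * k)) * k⁻¹ := by group
        _ = k * ((k⁻¹ * b * k) * (k⁻¹ * a * k)) * k⁻¹ := by rw [h1]
        _ = b * a := by group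
    · intro c hc
      have h1 := hCe _ (hconj c hc)
      calc c ^ 2 = k * (k⁻¹ * c * k) ^ 2 * k⁻¹ := by rw [pow_two, pow_two]; group
        _ = 1 := by rw [h1]; group
  obtain ⟨F, hfield, hfin, hFcard, ⟨iso⟩⟩ := Cfsg.Agent.S1230.result S hncyc hnn hCt
  have hF4 : Fintype.card F = 4 := by rw [hFcard]; exact hC4
  obtain ⟨iso2⟩ := Cfsg.Agent.S0252.result (F := F) hF4
  exact ⟨iso.trans iso2⟩

/-- Let G be a finite group containing an involution whose centralizer is elementary abelian of order 4. If G has no normal 2-complement and no normal elementary abelian 2-subgroup of order 2 or 4, then G is isomorphic to the alternating group of degree 5 (that is, to PSL(2, 5)). -/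
theorem result {G : Type*} [Group G] [Finite G] (x : G) (hx : orderOf x = 2)
    (hC4 : Nat.card ↥(Subgroup.centralizer ({x} : Set G)) = 4) (hCe : ∀ c ∈ Subgroup.centralizer ({x} : Set G), c ^ 2 = 1)
    (hnc : ¬ Cfsg.HasNormalPComplement 2 G)
    (hne : ∀ E : Subgroup G, E.Normal → Cfsg.IsElementaryAbelian 2 E → Nat.card ↥E ≠ 2 ∧ Nat.card ↥E ≠ 4) :
    Nonempty (G ≃* ↥(alternatingGroup (Fin 5))) := by
  have : Fact (Nat.Prime 2) := ⟨Nat.prime_two⟩
  have hV2 : IsPGroup 2 (Subgroup.centralizer ({x} : Set G)) := by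
    intro c
    refine ⟨1, ?_⟩
    apply Subtype.ext
    rw [pow_one]
    exact_mod_cast hCe c c.2
  obtain ⟨S, hS⟩ := hV2.exists_le_sylow
  by_cases hVS : Subgroup.centralizer ({x} : Set G) = (S : Subgroup G)
  · exact caseII x hx hC4 hCe hnc hne S hVS.symm
  · exfalso
    obtain ⟨E, hEn, hEel, hcard⟩ := caseI x hx hC4 hCe S hS hVS
    have h := hne E hEn hEel
    rcases hcard with h' | h'
    · exact h.1 h'
    · exact h.2 h'

end Cfsg.Agent.S3277
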