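import Cfsg.Statements.S4476
import Mathlib
import Cfsg.Agent.Lib.CT.Wedderburn
import Cfsg.Agent.Lib.CT.Orth
import Cfsg.Agent.Lib.CT.Ops
import Cfsg.Agent.Lib.CT.FSInd
import Cfsg.Agent.Lib.Helper74.FSCount

set_option autoImplicit false
open Cfsg

namespace Cfsg.Agent.S4476

open Cfsg.Agent.Lib.CT.Wedderburn Cfsg.Agent.Lib.CT.Orth Cfsg.Agent.Lib.CT.FSInd
open Cfsg.Agent.Lib.Helper74.FSCount
open scoped ComplexConjugate

universe u
variable {G : Type u} [Group G]

/-- the trivial character -/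
noncomputable def triv (G : Type u) [Group G] : IrrCharacter G :=
  ⟨fun _ => (1 : ℂ), Cfsg.Agent.Lib.CT.Ops.isIrrCharacter_one⟩

theorem charDegree_triv : charDegree ((triv G : IrrCharacter G) : G → ℂ) = 1 := by
  simp [triv, charDegree]

theorem fsInt_triv [Fintype G] : fsInt ((triv G : IrrCharacter G) : G → ℂ) = 1 := fsInt_one

/-- elements with `u * u = 1`: the identity and the involutions -/
theorem card_sq_one [Fintype G] :
    Nat.card {u : G // u * u = 1} = 1 + Nat.card {x : G // orderOf x = 2} := by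
  classical
  rw [Nat.card_eq_fintype_card, Nat.card_eq_fintype_card, Fintype.card_subtype,
    Fintype.card_subtype]
  have h : (Finset.univ.filter fun u : G => u * u = 1)
      = insert 1 (Finset.univ.filter fun x : G => orderOf x = 2) := by
    ext u
    simp only [Finset.mem_filter, Finset.mem_univ, true_and, Finset.mem_insert]
    rw [orderOf_eq_prime_iff (p := 2), pow_two]
    constructor
    · intro h
      by_cases h1 : u = 1
      · left; exact h1
      · right; exact ⟨h, h1⟩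
    · rintro (h | h)
      · rw [h, one_mul]
      · exact h.1
  rw [h, Finset.card_insert_of_notMem, add_comm]
  simp

/-- `∑ x, |C(x)| = k * |G|` -/
theorem sum_card_centralizer [Fintype G] [Fintype (IrrCharacter G)] :
    ∑ x : G, Nat.card (Subgroup.centralizer ({x} : Set G))
      = Fintype.card (IrrCharacter G) * Nat.card G := by
  have h1 : ∀ x : G, (Nat.card (Subgroup.centralizer ({x} : Set G)) : ℂ)
      = ∑ χ : IrrCharacter G, (χ : G → ℂ) x * conj ((χ : G → ℂ) x) := fun x =>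
    (second_orthogonality_sum_of_isConj x x (IsConj.refl x)).symm
  have h2 : ∀ χ : IrrCharacter G, ∑ x : G, (χ : G → ℂ) x * conj ((χ : G → ℂ) x)
      = (Nat.card G : ℂ) := by
    intro χ
    have h3 := irr_orthonormal χ χ
    rw [if_pos rfl, classInner] at h3
    have hne : (Nat.card G : ℂ) ≠ 0 := Nat.cast_ne_zero.mpr Nat.card_pos.ne'
    field_simp at h3
    exact h3
  have h4 : ((∑ x : G, Nat.card (Subgroup.centralizer ({x} : Set G)) : ℕ) : ℂ)
      = ((Fintype.card (IrrCharacter G) * Nat.card G : ℕ) : ℂ) := by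
    push_cast
    simp only [h1]
    rw [Finset.sum_comm]
    simp only [h2]
    simp
  exact_mod_cast h4

/-- Let G be a finite group of even order g with exactly t involutions, and put α = (g − 1)/t (a rational number). Then (a) some non-identity element x of G has at most α² conjugates; and (b) some non-principal real-valued irreducible character of G has degree at most α. -/
theorem result {G : Type*} [Group G] [Fintype G] (heven : Even (Nat.card G)) (t : ℕ) (ht : Nat.card {x : G // orderOf x = 2} = t) : (∃ x : G, x ≠ 1 ∧ ((Subgroup.centralizer ({x} : Set G)).index : ℚ) ≤ (((Nat.card G : ℚ) - 1) / t) ^ 2) ∧ ∃ χ : Cfsg.IrrCharacter G, (χ : G → ℂ) ≠ (fun _ => 1) ∧ (∀ g : G, ((χ : G → ℂ) g).im = 0) ∧ (Cfsg.charDegree (χ : G → ℂ) : ℚ) ≤ ((Nat.card G : ℚ) - 1) / t := by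
  classical
  have := finite_irrCharacter G
  let _ := Fintype.ofFinite (IrrCharacter G)
  -- t ≥ 1
  have ht1 : 1 ≤ t := by
    rw [← ht]
    have : Fact (Nat.Prime 2) := ⟨Nat.prime_two⟩
    have h2dvd : 2 ∣ Fintype.card G := by
      rw [← Nat.card_eq_fintype_card]; exact heven.two_dvd
    obtain ⟨x, hx⟩ := exists_prime_orderOf_dvd_card (G := G) 2 h2dvd
    exact Nat.card_pos_iff.2 ⟨⟨⟨x, hx⟩⟩, inferInstance⟩
  have hg2 : 2 ≤ Nat.card G := by
    have hpos : 0 < Nat.card G := Nat.card_pos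
    obtain ⟨m, hm⟩ := heven
    omega
  -- Frobenius–Schur count
  have hFS : ((1 + t : ℕ) : ℤ) = ∑ χ : IrrCharacter G,
      fsInt (χ : G → ℂ) * (charDegree (χ : G → ℂ) : ℤ) := by
    rw [← card_sq_eq_one, card_sq_one, ht]
  have hsplit : ∑ χ : IrrCharacter G, fsInt (χ : G → ℂ) * (charDegree (χ : G → ℂ) : ℤ)
      = 1 + ∑ χ ∈ (Finset.univ : Finset (IrrCharacter G)).erase (triv G),
          fsInt (χ : G → ℂ) * (charDegree (χ : G → ℂ) : ℤ) := by
    rw [← Finset.add_sum_erase _ _ (Finset.mem_univ (triv G)), fsInt_triv, charDegree_triv]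
    simp
  set E := (Finset.univ : Finset (IrrCharacter G)).erase (triv G) with hE
  set R := E.filter (fun χ : IrrCharacter G => fsInt (χ : G → ℂ) ≠ 0) with hR
  have ht_eq : (t : ℤ) = ∑ χ ∈ E, fsInt (χ : G → ℂ) * (charDegree (χ : G → ℂ) : ℤ) := by
    rw [hsplit] at hFS
    push_cast at hFS
    linarith
  have ht_le : (t : ℤ) ≤ ∑ χ ∈ R, (charDegree (χ : G → ℂ) : ℤ) := by
    rw [ht_eq, hR, Finset.sum_filter]
    apply Finset.sum_le_sum
    intro χ _
    by_cases h : fsInt (χ : G → ℂ) = 0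
    · simp [h]
    · simp only [ne_eq, h, not_false_eq_true, if_true]
      have h1 := fsInt_le_one (χ : G → ℂ)
      have h2 : (0 : ℤ) ≤ (charDegree (χ : G → ℂ) : ℤ) := Int.natCast_nonneg _
      nlinarith
  have hRE : R ⊆ E := Finset.filter_subset _ _
  -- sum of squares over E
  have hsq : ∑ χ ∈ E, (charDegree (χ : G → ℂ) : ℤ) ^ 2 = (Nat.card G : ℤ) - 1 := by
    have h1 := sum_charDegree_sq_sum (G := G)
    rw [← Finset.add_sum_erase _ _ (Finset.mem_univ (triv G)), charDegree_triv] at h1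
    have h2 : ((1 ^ 2 + ∑ χ ∈ E, charDegree (χ : G → ℂ) ^ 2 : ℕ) : ℤ) = (Nat.card G : ℤ) := by
      rw [h1]
    push_cast at h2
    linarith
  have hsqR : ∑ χ ∈ R, (charDegree (χ : G → ℂ) : ℤ) ^ 2 ≤ (Nat.card G : ℤ) - 1 := by
    rw [← hsq]
    exact Finset.sum_le_sum_of_subset_of_nonneg hRE (fun χ _ _ => sq_nonneg _)
  have hRreal : ∀ χ ∈ R, (χ : G → ℂ) ≠ (fun _ => 1) ∧ ∀ g : G, ((χ : G → ℂ) g).im = 0 := by
    intro χ hχ
    rw [hR, Finset.mem_filter, hE, Finset.mem_erase] at hχ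
    refine ⟨fun h => hχ.1.1 (Subtype.ext h), ?_⟩
    rw [← fsInd_ne_zero_iff_real χ.2]
    intro h0
    exact hχ.2 ((fsInt_eq_zero_iff χ.2).2 h0)
  have hgq : (0 : ℚ) < (Nat.card G : ℚ) - 1 := by
    have : (2 : ℚ) ≤ (Nat.card G : ℚ) := by exact_mod_cast hg2
    linarith
  have htq : (0 : ℚ) < (t : ℚ) := by exact_mod_cast ht1
  constructor
  · -- part (a)
    by_contra ha
    push Not at ha
    set α2 : ℚ := (((Nat.card G : ℚ) - 1) / t) ^ 2 with hα2
    have hα2pos : 0 < α2 := by positivity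
    -- number of characters
    set k : ℕ := Fintype.card (IrrCharacter G) with hk
    have hcardE : E.card = k - 1 := by
      rw [hE, Finset.card_erase_of_mem (Finset.mem_univ _), Finset.card_univ]
    have hk1 : 1 ≤ k := Fintype.card_pos_iff.2 ⟨triv G⟩
    -- Cauchy–Schwarz
    have hCS : (∑ χ ∈ E, (charDegree (χ : G → ℂ) : ℤ)) ^ 2
        ≤ (E.card : ℤ) * ∑ χ ∈ E, (charDegree (χ : G → ℂ) : ℤ) ^ 2 :=
      sq_sum_le_card_mul_sum_sq
    rw [hsq, hcardE] at hCS
    have hSR : ∑ χ ∈ R, (charDegree (χ : G → ℂ) : ℤ) ≤ ∑ χ ∈ E, (charDegree (χ : G → ℂ) : ℤ) :=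
      Finset.sum_le_sum_of_subset_of_nonneg hRE (fun χ _ _ => Int.natCast_nonneg _)
    have ht_sq : (t : ℤ) ^ 2 ≤ ((k - 1 : ℕ) : ℤ) * ((Nat.card G : ℤ) - 1) := by
      have h0 : (0 : ℤ) ≤ (t : ℤ) := Int.natCast_nonneg _
      have h1 : (t : ℤ) ≤ ∑ χ ∈ E, (charDegree (χ : G → ℂ) : ℤ) := le_trans ht_le hSR
      calc (t : ℤ) ^ 2 ≤ (∑ χ ∈ E, (charDegree (χ : G → ℂ) : ℤ)) ^ 2 := by nlinarith
        _ ≤ _ := hCS
    have ht_sq' : (t : ℚ) ^ 2 ≤ ((k : ℚ) - 1) * ((Nat.card G : ℚ) - 1) := by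
      have h1 : (((t : ℤ) ^ 2 : ℤ) : ℚ) ≤ ((((k - 1 : ℕ) : ℤ) * ((Nat.card G : ℤ) - 1) : ℤ) : ℚ) := by
        exact_mod_cast ht_sq
      push_cast [Nat.cast_sub hk1] at h1
      exact h1
    -- the sum of the centralizer orders over the non-identity elements
    have hc1 : Nat.card (Subgroup.centralizer ({1} : Set G)) = Nat.card G := by
      have : Subgroup.centralizer ({1} : Set G) = ⊤ := by
        ext y
        simp [Subgroup.mem_centralizer_iff]
      rw [this, Subgroup.card_top]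
    have hsumc : ∑ x ∈ (Finset.univ : Finset G).erase 1,
        (Nat.card (Subgroup.centralizer ({x} : Set G)) : ℚ)
        = ((k : ℚ) - 1) * (Nat.card G : ℚ) := by
      have h1 := sum_card_centralizer (G := G)
      rw [← Finset.add_sum_erase _ _ (Finset.mem_univ (1 : G)), hc1] at h1
      have h2 : ((Nat.card G + ∑ x ∈ (Finset.univ : Finset G).erase 1,
          Nat.card (Subgroup.centralizer ({x} : Set G)) : ℕ) : ℚ)
          = ((Fintype.card (IrrCharacter G) * Nat.card G : ℕ) : ℚ) := by rw [h1]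
      push_cast at h2
      rw [← hk] at h2
      linarith
    -- each term
    have hterm : ∀ x ∈ (Finset.univ : Finset G).erase 1,
        α2 * (Nat.card (Subgroup.centralizer ({x} : Set G)) : ℚ) < (Nat.card G : ℚ) := by
      intro x hx
      have hx1 : x ≠ 1 := (Finset.mem_erase.1 hx).1
      have h1 := ha x hx1
      have h2 : ((Subgroup.centralizer ({x} : Set G)).index : ℚ)
          * (Nat.card (Subgroup.centralizer ({x} : Set G)) : ℚ) = (Nat.card G : ℚ) := by
        exact_mod_cast Subgroup.index_mul_card (Subgroup.centralizer ({x} : Set G))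
      have h3 : (0 : ℚ) < (Nat.card (Subgroup.centralizer ({x} : Set G)) : ℚ) := by
        exact_mod_cast Nat.card_pos
      rw [← h2]
      exact mul_lt_mul_of_pos_right h1 h3
    have hne : ((Finset.univ : Finset G).erase 1).Nonempty := by
      rw [← Finset.card_pos, Finset.card_erase_of_mem (Finset.mem_univ _), Finset.card_univ,
        ← Nat.card_eq_fintype_card]
      omega
    have hsumlt := Finset.sum_lt_sum_of_nonempty hne hterm
    rw [← Finset.mul_sum, hsumc, Finset.sum_const, Finset.card_erase_of_mem (Finset.mem_univ _),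
      Finset.card_univ, ← Nat.card_eq_fintype_card, nsmul_eq_mul,
      Nat.cast_sub (le_trans (by norm_num) hg2)] at hsumlt
    -- now: α2 * ((k-1) * g) < (g - 1) * g
    have hgpos : (0 : ℚ) < (Nat.card G : ℚ) := by
      have : (2 : ℚ) ≤ (Nat.card G : ℚ) := by exact_mod_cast hg2
      linarith
    have h5 : α2 * ((k : ℚ) - 1) < (Nat.card G : ℚ) - 1 := by
      have h6 : α2 * ((k : ℚ) - 1) * (Nat.card G : ℚ) < ((Nat.card G : ℚ) - 1) * (Nat.card G : ℚ) := by
        push_cast at hsumlt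
        linarith
      exact lt_of_mul_lt_mul_right h6 hgpos.le
    have h7 : α2 * (t : ℚ) ^ 2 = ((Nat.card G : ℚ) - 1) ^ 2 := by
      rw [hα2]
      field_simp
    -- (g-1)^2 (k-1) = α2 t^2 (k-1) < (g-1) t^2
    have h8 : ((Nat.card G : ℚ) - 1) ^ 2 * ((k : ℚ) - 1) < ((Nat.card G : ℚ) - 1) * (t : ℚ) ^ 2 := by
      rw [← h7]
      have : (0 : ℚ) < (t : ℚ) ^ 2 := by positivity
      nlinarith
    have h9 : ((Nat.card G : ℚ) - 1) * ((k : ℚ) - 1) < (t : ℚ) ^ 2 := by
      have h10 : ((Nat.card G : ℚ) - 1) * (((Nat.card G : ℚ) - 1) * ((k : ℚ) - 1))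
          < ((Nat.card G : ℚ) - 1) * (t : ℚ) ^ 2 := by
        nlinarith
      exact lt_of_mul_lt_mul_left h10 hgq.le
    nlinarith
  · -- part (b)
    by_contra hb
    push Not at hb
    have hb' : ∀ χ ∈ R, (Nat.card G : ℤ) - 1 < (charDegree (χ : G → ℂ) : ℤ) * t := by
      intro χ hχ
      have h1 := hb χ (hRreal χ hχ).1 (hRreal χ hχ).2
      rw [div_lt_iff₀ htq] at h1
      have h2 : ((Nat.card G : ℤ) - 1 : ℚ) < (((charDegree (χ : G → ℂ) : ℤ) * t : ℤ) : ℚ) := by
        push_cast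
        exact h1
      exact_mod_cast h2
    have hRne : R.Nonempty := by
      by_contra hne
      rw [Finset.not_nonempty_iff_eq_empty] at hne
      rw [hne, Finset.sum_empty] at ht_le
      have : (1 : ℤ) ≤ t := by exact_mod_cast ht1
      linarith
    have h3 : ∑ χ ∈ R, ((Nat.card G : ℤ) - 1) * (charDegree (χ : G → ℂ) : ℤ)
        < ∑ χ ∈ R, (t : ℤ) * (charDegree (χ : G → ℂ) : ℤ) ^ 2 := by
      apply Finset.sum_lt_sum_of_nonempty hRne
      intro χ hχ
      have h4 := hb' χ hχ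
      have h5 : (0 : ℤ) < (charDegree (χ : G → ℂ) : ℤ) := by
        exact_mod_cast irr_charDegree_pos χ.2
      nlinarith
    rw [← Finset.mul_sum, ← Finset.mul_sum] at h3
    have h6 : (0 : ℤ) < (Nat.card G : ℤ) - 1 := by
      have : (2 : ℤ) ≤ (Nat.card G : ℤ) := by exact_mod_cast hg2
      linarith
    have h7 : (0 : ℤ) < (t : ℤ) := by exact_mod_cast ht1
    nlinarith

end Cfsg.Agent.S4476
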