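import Cfsg.Statements.S4478
import Mathlib
import Cfsg.Agent.Lib.CT.Wedderburn
import Cfsg.Agent.Lib.CT.Orth
import Cfsg.Agent.Lib.CT.FSInd
import Cfsg.Agent.Lib.Helper74.FSCount
import Cfsg.Agent.Lib.Helper74.DefectZero
import Cfsg.Agent.Lib.Helper80.Integrality
import Cfsg.Agent.S4476

set_option autoImplicit false
open Cfsg

namespace Cfsg.Agent.S4478

open Cfsg.Agent.Lib.CT.Wedderburn Cfsg.Agent.Lib.CT.Orth Cfsg.Agent.Lib.CT.FSInd
open Cfsg.Agent.Lib.Helper74.FSCount Cfsg.Agent.Lib.Helper74.DefectZero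
open Cfsg.Agent.Lib.Helper80.Integrality
open scoped ComplexConjugate

universe u
variable {G : Type u} [Group G]

/-- a character divisible by the full `p`-part of the group order vanishes on `p`-singular
elements -/
theorem vanish [Finite G] (χ : IrrCharacter G) (p : ℕ) (hp : p.Prime)
    (h : p ^ (Nat.card G).factorization p ∣ charDegree (χ : G → ℂ)) (x : G)
    (hx : p ∣ orderOf x) : (χ : G → ℂ) x = 0 := by
  obtain ⟨m, hm⟩ := charDegree_dvd_card χ
  refine irr_eq_zero_of_defect_zero hp χ m hm ?_ x hx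
  intro hpm
  have key : p ^ ((Nat.card G).factorization p + 1) ∣ Nat.card G := by
    obtain ⟨a, ha⟩ := h
    obtain ⟨b, hb⟩ := hpm
    refine ⟨a * b, ?_⟩
    calc Nat.card G = charDegree (χ : G → ℂ) * m := hm
      _ = p ^ (Nat.card G).factorization p * a * (p * b) := by rw [← ha, ← hb]
      _ = p ^ ((Nat.card G).factorization p + 1) * (a * b) := by ring
  exact Nat.pow_succ_factorization_not_dvd (Nat.card_pos (α := G)).ne' hp key

/-- uniqueness of square roots of odd order -/
theorem sqrt_unique [Finite G] (g : G) (hodd : Odd (orderOf g))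
    (h : ∀ u : G, u * u = g → Odd (orderOf u)) (u : G) :
    u * u = g ↔ u = g ^ ((orderOf g + 1) / 2) := by
  obtain ⟨k, hk⟩ := hodd
  have hk2 : (orderOf g + 1) / 2 = k + 1 := by omega
  rw [hk2]
  constructor
  · intro hu
    obtain ⟨j, hj⟩ := h u hu
    have hco : (orderOf u).Coprime 2 := by
      rw [hj]; exact (Nat.coprime_two_right.2 ⟨j, rfl⟩)
    have h1 : orderOf g = orderOf u := by
      rw [← hu, ← sq]; exact hco.orderOf_pow
    have hjk : j = k := by omega
    have h2 : u ^ (2 * j + 1) = 1 := by rw [← hj]; exact pow_orderOf_eq_one u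
    calc u = u ^ (2 * j + 1) * u := by rw [h2, one_mul]
      _ = (u * u) ^ (j + 1) := by rw [← sq, ← pow_mul, ← pow_succ]; congr 1
      _ = g ^ (k + 1) := by rw [hu, hjk]
  · intro hu
    have h2 : g ^ (2 * k + 1) = 1 := by rw [← hk]; exact pow_orderOf_eq_one g
    rw [hu, ← pow_add]
    calc g ^ (k + 1 + (k + 1)) = g ^ (2 * k + 1) * g := by rw [← pow_succ]; congr 1; omega
      _ = g := by rw [h2, one_mul]

/-- the Frobenius–Schur sum when `χ` vanishes wherever square roots are not unique -/
theorem fs_sum [Fintype G] (χ : IrrCharacter G) (hχ : (χ : G → ℂ) ≠ fun _ => 1)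
    (hv : ∀ g : G, g ≠ 1 → (χ : G → ℂ) g ≠ 0 →
      (Odd (orderOf g) ∧ ∀ u : G, u * u = g → Odd (orderOf u))) :
    ∑ u : G, (χ : G → ℂ) (u * u)
      = (Nat.card {x : G // orderOf x = 2} : ℂ) * (χ : G → ℂ) 1 := by
  classical
  have h1 : ∑ u : G, (χ : G → ℂ) (u * u) = ∑ g : G, sqrtCount g * (χ : G → ℂ) g := by
    unfold sqrtCount
    simp only [Finset.sum_mul]
    rw [Finset.sum_comm]
    refine Finset.sum_congr rfl fun u _ => ?_
    simp [ite_mul]
  have h2 : ∀ g : G, g ≠ 1 → sqrtCount g * (χ : G → ℂ) g = (χ : G → ℂ) g := by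
    intro g hg
    by_cases h0 : (χ : G → ℂ) g = 0
    · rw [h0, mul_zero]
    · obtain ⟨hodd, hu⟩ := hv g hg h0
      have : sqrtCount g = 1 := by
        unfold sqrtCount
        simp only [sqrt_unique g hodd hu]
        simp
      rw [this, one_mul]
  have h3 : sqrtCount (1 : G) = 1 + (Nat.card {x : G // orderOf x = 2} : ℂ) := by
    rw [sqrtCount_eq_card, Cfsg.Agent.S4476.card_sq_one]
    push_cast
    ring
  have h4 : ∑ g : G, (χ : G → ℂ) g = 0 := by
    have h5 := irr_orthonormal χ (Cfsg.Agent.S4476.triv G)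
    have hne : χ ≠ Cfsg.Agent.S4476.triv G := fun h => hχ (congrArg Subtype.val h)
    rw [if_neg hne, classInner] at h5
    have hcard : (Nat.card G : ℂ) ≠ 0 := Nat.cast_ne_zero.mpr Nat.card_pos.ne'
    rcases mul_eq_zero.1 h5 with h6 | h6
    · exact absurd (inv_eq_zero.1 h6) hcard
    · simpa [Cfsg.Agent.S4476.triv] using h6
  rw [h1, ← Finset.add_sum_erase _ _ (Finset.mem_univ (1 : G)), h3]
  have h6 : ∑ g ∈ (Finset.univ : Finset G).erase 1, sqrtCount g * (χ : G → ℂ) g
      = ∑ g ∈ (Finset.univ : Finset G).erase 1, (χ : G → ℂ) g :=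
    Finset.sum_congr rfl fun g hg => h2 g (Finset.ne_of_mem_erase hg)
  rw [h6]
  rw [← Finset.add_sum_erase _ _ (Finset.mem_univ (1 : G))] at h4
  linear_combination h4

/-- Let G be a finite group of even order and χ an irreducible character of G whose degree x is divisible by the full power of 2 dividing the order of G and, for every odd prime p such that G has an element of order 2p, by the full power of p dividing the order of G. Then all involutions of G are conjugate, the centralizer of every involution has order exactly x with x coprime to its index, and the Frobenius–Schur indicator of χ equals 1. -/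
theorem result {G : Type*} [Group G] [Fintype G] (heven : Even (Nat.card G)) (χ : Cfsg.IrrCharacter G) (h2 : 2 ^ (Nat.card G).factorization 2 ∣ Cfsg.charDegree (χ : G → ℂ)) (hp : ∀ p : ℕ, p.Prime → p ≠ 2 → (∃ g : G, orderOf g = 2 * p) → p ^ (Nat.card G).factorization p ∣ Cfsg.charDegree (χ : G → ℂ)) : (∀ s t : G, orderOf s = 2 → orderOf t = 2 → IsConj s t) ∧ (∀ s : G, orderOf s = 2 → Nat.card (Subgroup.centralizer ({s} : Set G)) = Cfsg.charDegree (χ : G → ℂ) ∧ (Nat.card (Subgroup.centralizer ({s} : Set G))).Coprime (Subgroup.centralizer ({s} : Set G)).index) ∧ (Nat.card G : ℂ)⁻¹ * ∑ g : G, (χ : G → ℂ) (g * g) = 1 := by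
  classical
  obtain ⟨x, hx⟩ : ∃ x : ℕ, x = charDegree (χ : G → ℂ) := ⟨_, rfl⟩
  obtain ⟨t, ht⟩ : ∃ t : ℕ, t = Nat.card {y : G // orderOf y = 2} := ⟨_, rfl⟩
  rw [← hx] at h2 hp ⊢
  have hGpos : 0 < Nat.card G := Nat.card_pos
  have hc := isCharacter_of_irr χ.2
  have hxpos : 0 < x := by rw [hx]; exact irr_charDegree_pos χ.2
  have hx1 : (x : ℂ) = (χ : G → ℂ) 1 := by rw [hx]; exact char_natCast_charDegree hc
  have h2G : 2 ∣ Nat.card G := heven.two_dvd
  have hf2 : 1 ≤ (Nat.card G).factorization 2 :=
    (Nat.Prime.dvd_iff_one_le_factorization Nat.prime_two hGpos.ne').1 h2G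
  have h2x : 2 ∣ x := dvd_trans (dvd_pow_self 2 (by omega)) h2
  have hχ : (χ : G → ℂ) ≠ fun _ => 1 := by
    intro h
    have h1 : (x : ℂ) = 1 := by rw [hx1, h]
    have h3 : x = 1 := by exact_mod_cast h1
    omega
  have hvan : ∀ p : ℕ, p.Prime → p ^ (Nat.card G).factorization p ∣ x → ∀ g : G,
      p ∣ orderOf g → (χ : G → ℂ) g = 0 := by
    intro p hpp hpx g hg
    exact vanish χ p hpp (by rw [← hx]; exact hpx) g hg
  have hv : ∀ g : G, g ≠ 1 → (χ : G → ℂ) g ≠ 0 →
      (Odd (orderOf g) ∧ ∀ u : G, u * u = g → Odd (orderOf u)) := by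
    intro g hg hne
    have hodd : Odd (orderOf g) := by
      by_contra hnodd
      rw [Nat.not_odd_iff_even] at hnodd
      exact hne (hvan 2 Nat.prime_two h2 g hnodd.two_dvd)
    refine ⟨hodd, fun u hu => ?_⟩
    by_contra hnodd
    rw [Nat.not_odd_iff_even] at hnodd
    have hou : orderOf u = 2 * orderOf g := by
      have h1 : orderOf (u ^ 2) = orderOf u / Nat.gcd (orderOf u) 2 := orderOf_pow u
      rw [sq, hu, Nat.gcd_eq_right hnodd.two_dvd] at h1
      obtain ⟨k, hk⟩ := hnodd.two_dvd
      rw [hk] at h1 ⊢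
      rw [Nat.mul_div_cancel_left _ (by norm_num : 0 < 2)] at h1
      rw [h1]
    have hog : orderOf g ≠ 1 := fun h => hg (orderOf_eq_one_iff.1 h)
    obtain ⟨p, hpp, hpg⟩ := Nat.exists_prime_and_dvd hog
    have hp2 : p ≠ 2 := by
      rintro rfl
      exact (Nat.not_even_iff_odd.2 hodd) (even_iff_two_dvd.2 hpg)
    obtain ⟨k, hk⟩ := hpg
    have hkpos : 0 < k := by
      rcases Nat.eq_zero_or_pos k with h | h
      · rw [h, mul_zero] at hk; exact absurd hk (orderOf_pos g).ne'
      · exact h
    have hord : orderOf (u ^ k) = 2 * p := by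
      rw [orderOf_pow u, hou, hk]
      have h3 : Nat.gcd (2 * (p * k)) k = k := Nat.gcd_eq_right ⟨2 * p, by ring⟩
      rw [h3]
      have h4 : 2 * (p * k) = (2 * p) * k := by ring
      rw [h4, Nat.mul_div_cancel _ hkpos]
    exact hne (hvan p hpp (hp p hpp hp2 ⟨u ^ k, hord⟩) g ⟨k, hk⟩)
  have hsum := fs_sum χ hχ hv
  rw [← ht, ← hx1] at hsum
  have hcardC : (Nat.card G : ℂ) ≠ 0 := Nat.cast_ne_zero.mpr hGpos.ne'
  have hfs : fsInd (χ : G → ℂ) = (((t : ℝ) * (x : ℝ) / (Nat.card G : ℝ) : ℝ) : ℂ) := by
    rw [fsInd_def, hsum]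
    push_cast
    field_simp
  have ht1 : 1 ≤ t := by
    have : Fact (Nat.Prime 2) := ⟨Nat.prime_two⟩
    have h2dvd : 2 ∣ Fintype.card G := by rw [← Nat.card_eq_fintype_card]; exact h2G
    obtain ⟨y, hy⟩ := exists_prime_orderOf_dvd_card (G := G) 2 h2dvd
    rw [ht]
    exact Nat.card_pos_iff.2 ⟨⟨⟨y, hy⟩⟩, inferInstance⟩
  have hpos : (0 : ℝ) < (t : ℝ) * (x : ℝ) / (Nat.card G : ℝ) := by
    have h1 : (0 : ℝ) < (t : ℝ) := by exact_mod_cast ht1
    have h3 : (0 : ℝ) < (x : ℝ) := by exact_mod_cast hxpos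
    have h4 : (0 : ℝ) < (Nat.card G : ℝ) := by exact_mod_cast hGpos
    positivity
  have hfs1 : fsInd (χ : G → ℂ) = 1 := by
    rcases fsInd_trichotomy' χ.2 with h | h | h
    · exfalso
      rw [hfs] at h
      have h5 : ((t : ℝ) * (x : ℝ) / (Nat.card G : ℝ) : ℝ) = 0 := by exact_mod_cast h
      linarith
    · exact h
    · exfalso
      rw [hfs] at h
      have h5 : ((t : ℝ) * (x : ℝ) / (Nat.card G : ℝ) : ℝ) = -1 := by exact_mod_cast h
      linarith
  have htx : t * x = Nat.card G := by
    rw [hfs1] at hfs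
    have h5 : ((t : ℝ) * (x : ℝ) / (Nat.card G : ℝ) : ℝ) = 1 := by exact_mod_cast hfs.symm
    have h4 : (0 : ℝ) < (Nat.card G : ℝ) := by exact_mod_cast hGpos
    rw [div_eq_one_iff_eq h4.ne'] at h5
    exact_mod_cast h5
  -- primes dividing the centralizer of an involution
  have hfull : ∀ s : G, orderOf s = 2 → ∀ p : ℕ, p.Prime →
      p ∣ Nat.card (Subgroup.centralizer ({s} : Set G)) →
      p ^ (Nat.card G).factorization p ∣ x := by
    intro s hs p hpp hpC
    by_cases hp2 : p = 2
    · subst hp2; exact h2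
    · apply hp p hpp hp2
      have : Fact p.Prime := ⟨hpp⟩
      obtain ⟨c, hc⟩ := exists_prime_orderOf_dvd_card' (G := Subgroup.centralizer ({s} : Set G))
        p hpC
      refine ⟨s * (c : G), ?_⟩
      have hcomm : Commute s (c : G) := by
        have h1 := c.2
        rw [Subgroup.mem_centralizer_singleton_iff] at h1
        exact h1.symm
      have hoc : orderOf (c : G) = p := by rw [Subgroup.orderOf_coe]; exact hc
      have hcop : (orderOf s).Coprime (orderOf (c : G)) := by
        rw [hs, hoc]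
        exact (Nat.coprime_primes Nat.prime_two hpp).2 (Ne.symm hp2)
      rw [hcomm.orderOf_mul_eq_mul_orderOf_of_coprime hcop, hs, hoc]
  have hCdvd : ∀ s : G, orderOf s = 2 → Nat.card (Subgroup.centralizer ({s} : Set G)) ∣ x := by
    intro s hs
    have hCpos : 0 < Nat.card (Subgroup.centralizer ({s} : Set G)) := Nat.card_pos
    have hCG : Nat.card (Subgroup.centralizer ({s} : Set G)) ∣ Nat.card G :=
      Subgroup.card_subgroup_dvd_card _
    rw [← Nat.factorization_le_iff_dvd hCpos.ne' hxpos.ne']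
    intro p
    by_cases hpp : p.Prime
    · by_cases hpC : p ∣ Nat.card (Subgroup.centralizer ({s} : Set G))
      · calc (Nat.card (Subgroup.centralizer ({s} : Set G))).factorization p
            ≤ (Nat.card G).factorization p :=
              (Nat.factorization_le_iff_dvd hCpos.ne' hGpos.ne').2 hCG p
          _ ≤ x.factorization p :=
              (hpp.pow_dvd_iff_le_factorization hxpos.ne').1 (hfull s hs p hpp hpC)
      · rw [Nat.factorization_eq_zero_of_not_dvd hpC]; exact Nat.zero_le _
    · rw [Nat.factorization_eq_zero_of_not_prime _ hpp]; exact Nat.zero_le _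
  -- counting the conjugates of an involution
  set Inv : Finset G := Finset.univ.filter (fun y : G => orderOf y = 2) with hInv
  have hInvcard : Inv.card = t := by
    rw [ht, Nat.card_eq_fintype_card, Fintype.card_subtype]
  have hmain : ∀ s : G, orderOf s = 2 →
      Nat.card (Subgroup.centralizer ({s} : Set G)) = x ∧
        (Inv.filter fun u => IsConj s u) = Inv := by
    intro s hs
    have hcount : (Finset.univ : Finset G).card
        = ∑ u ∈ Inv, ((Finset.univ : Finset G).filter fun h => h * s * h⁻¹ = u).card := by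
      apply Finset.card_eq_sum_card_fiberwise
      intro h _
      rw [Finset.mem_coe, hInv, Finset.mem_filter]
      refine ⟨Finset.mem_univ _, ?_⟩
      have : h * s * h⁻¹ = MulAut.conj h s := by simp
      show orderOf (h * s * h⁻¹) = 2
      rw [this, MulEquiv.orderOf_eq, hs]
    simp only [card_filter_conj_eq] at hcount
    rw [← Finset.sum_filter, Finset.sum_const, smul_eq_mul, Finset.card_univ,
      ← Nat.card_eq_fintype_card] at hcount
    have hKle : (Inv.filter fun u => IsConj s u).card ≤ t := by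
      rw [← hInvcard]; exact Finset.card_filter_le _ _
    have hCle : Nat.card (Subgroup.centralizer ({s} : Set G)) ≤ x :=
      Nat.le_of_dvd hxpos (hCdvd s hs)
    have hCpos : 0 < Nat.card (Subgroup.centralizer ({s} : Set G)) := Nat.card_pos
    have hCx : Nat.card (Subgroup.centralizer ({s} : Set G)) = x := by
      by_contra hne
      have hlt : Nat.card (Subgroup.centralizer ({s} : Set G)) < x := lt_of_le_of_ne hCle hne
      have h1 : (Inv.filter fun u => IsConj s u).card
          * Nat.card (Subgroup.centralizer ({s} : Set G)) < t * x := by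
        calc (Inv.filter fun u => IsConj s u).card
              * Nat.card (Subgroup.centralizer ({s} : Set G))
            ≤ t * Nat.card (Subgroup.centralizer ({s} : Set G)) :=
              Nat.mul_le_mul_right _ hKle
          _ < t * x := Nat.mul_lt_mul_of_pos_left hlt ht1
      omega
    refine ⟨hCx, ?_⟩
    apply Finset.eq_of_subset_of_card_le (Finset.filter_subset _ _)
    rw [hInvcard]
    rw [hCx] at hcount
    have h3 : (Inv.filter fun u => IsConj s u).card * x = t * x := by
      rw [← hcount, htx]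
    exact (Nat.eq_of_mul_eq_mul_right hxpos h3).ge
  refine ⟨?_, ?_, ?_⟩
  · intro s u hs hu
    have h1 := (hmain s hs).2
    have h3 : u ∈ Inv := by rw [hInv, Finset.mem_filter]; exact ⟨Finset.mem_univ _, hu⟩
    rw [← h1, Finset.mem_filter] at h3
    exact h3.2
  · intro s hs
    have hCx := (hmain s hs).1
    refine ⟨hCx, ?_⟩
    have hidx : (Subgroup.centralizer ({s} : Set G)).index = t := by
      have h1 := Subgroup.index_mul_card (Subgroup.centralizer ({s} : Set G))
      rw [hCx, ← htx] at h1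
      exact Nat.eq_of_mul_eq_mul_right hxpos h1
    rw [hCx, hidx]
    by_contra hnc
    obtain ⟨p, hpp, hpx, hpt⟩ := Nat.Prime.not_coprime_iff_dvd.1 hnc
    have h1 := hfull s hs p hpp (by rw [hCx]; exact hpx)
    have h3 : (Nat.card G).factorization p ≤ x.factorization p :=
      (hpp.pow_dvd_iff_le_factorization hxpos.ne').1 h1
    have h4 : (Nat.card G).factorization p = t.factorization p + x.factorization p := by
      rw [← htx, Nat.factorization_mul (by omega) hxpos.ne']
      rfl
    have h5 : 1 ≤ t.factorization p :=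
      (Nat.Prime.dvd_iff_one_le_factorization hpp (by omega)).1 hpt
    omega
  · exact hfs1

end Cfsg.Agent.S4478
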