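import Cfsg.Statements.S0262
import Cfsg.Agent.Lib.Helper35.SL2

set_option autoImplicit false
open Cfsg

namespace Cfsg.Agent.S0262

/-- For an odd prime r different from the characteristic, the Sylow r-subgroups of SL_2(q) are cyclic. -/
theorem result {F : Type*} [Field F] [Fintype F] (p : ℕ) [Fact p.Prime] [CharP F p] (r : ℕ) [Fact r.Prime] (hr : r ≠ 2) (hrp : r ≠ p) (R : Sylow r (Matrix.SpecialLinearGroup (Fin 2) F)) : IsCyclic (R : Subgroup (Matrix.SpecialLinearGroup (Fin 2) F)) := by
  let K := AlgebraicClosure F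
  let ρ : (R : Subgroup (Matrix.SpecialLinearGroup (Fin 2) F)) →* Matrix.SpecialLinearGroup (Fin 2) K :=
    (Matrix.SpecialLinearGroup.map (algebraMap F K)).comp
      (R : Subgroup (Matrix.SpecialLinearGroup (Fin 2) F)).subtype
  have hρ : Function.Injective ρ := by
    intro a b hab
    apply Subtype.ext
    apply Matrix.SpecialLinearGroup.ext
    intro i j
    have h1 := congrArg (fun M : Matrix.SpecialLinearGroup (Fin 2) K => M.1 i j) hab
    simp only [ρ, MonoidHom.comp_apply, Subgroup.subtype_apply] at h1
    exact (algebraMap F K).injective h1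
  have hrF : (r : F) ≠ 0 := by
    intro h
    have h1 := (CharP.cast_eq_zero_iff F p r).mp h
    exact hrp ((Nat.prime_dvd_prime_iff_eq Fact.out Fact.out).mp h1).symm
  have hrK : (r : K) ≠ 0 := by
    intro h
    apply hrF
    apply (algebraMap F K).injective
    rw [map_natCast, map_zero]
    exact h
  exact Cfsg.Agent.Lib.Helper35.SL2.isCyclic_of_odd_pgroup ρ hρ r hr hrK R.isPGroup'

end Cfsg.Agent.S0262
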