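import Mathlib
import Cfsg.Statements.S0236
-- import your own Cfsg.Agent.* helpers here

set_option autoImplicit false
open Cfsg

namespace Cfsg.Agent.S0236


/-- If x is an involution, the number of ordered pairs (u, v) of involutions with uv = x, plus one, equals the number of involutions in the centralizer of x. -/
theorem result {G : Type*} [Group G] [Finite G] (x : G) (hx : orderOf x = 2) : Nat.card {p : G × G // orderOf p.1 = 2 ∧ orderOf p.2 = 2 ∧ p.1 * p.2 = x} + 1 = Nat.card {t : G // orderOf t = 2 ∧ Commute t x} := by
  classical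
  rw [← Finite.card_option]
  apply Nat.card_congr
  have hx' := inv_eq_self_of_orderOf_eq_two hx
  have hsq : ∀ t : G, orderOf t = 2 → t * t = 1 := by
    intro t ht
    rw [← sq, ← ht]; exact pow_orderOf_eq_one t
  have hne : ∀ t : G, orderOf t = 2 → t ≠ 1 := by
    intro t ht h
    rw [h, orderOf_one] at ht
    omega
  have key1 : ∀ u v : G, orderOf u = 2 → orderOf v = 2 → u * v = x → Commute u x ∧ u ≠ x ∧ u * x = v := by
    intro u v hu hv huv
    have hu' := inv_eq_self_of_orderOf_eq_two hu
    have hv' := inv_eq_self_of_orderOf_eq_two hv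
    have hcomm : u * v = v * u := by
      have h1 : (u * v)⁻¹ = u * v := by rw [huv]; exact hx'
      rw [mul_inv_rev, hu', hv'] at h1
      exact h1.symm
    refine ⟨?_, ?_, ?_⟩
    · show u * x = x * u
      rw [← huv, ← mul_assoc, hsq u hu, one_mul, mul_assoc, ← hcomm, ← mul_assoc, hsq u hu, one_mul]
    · intro h
      apply hne v hv
      have : u * v = u * 1 := by rw [huv, mul_one, h]
      exact mul_left_cancel this
    · rw [← huv, ← mul_assoc, hsq u hu, one_mul]
  have key2 : ∀ t : G, orderOf t = 2 → Commute t x → t ≠ x → orderOf (t * x) = 2 := by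
    intro t ht hc hne'
    apply orderOf_eq_prime
    · rw [sq]
      calc t * x * (t * x) = t * (x * t) * x := by simp [mul_assoc]
        _ = t * (t * x) * x := by rw [hc.eq]
        _ = (t * t) * (x * x) := by simp [mul_assoc]
        _ = 1 := by rw [hsq t ht, hsq x hx, one_mul]
    · intro h
      apply hne'
      have : t = x⁻¹ := eq_inv_of_mul_eq_one_left h
      rw [this, hx']
  exact
  { toFun := fun o => match o with
      | none => ⟨x, hx, Commute.refl x⟩
      | some p => ⟨p.1.1, p.2.1, (key1 p.1.1 p.1.2 p.2.1 p.2.2.1 p.2.2.2).1⟩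
    invFun := fun t => if h : t.1 = x then none else some ⟨(t.1, t.1 * x), t.2.1, key2 t.1 t.2.1 t.2.2 h, by
        show t.1 * (t.1 * x) = x
        rw [← mul_assoc, hsq t.1 t.2.1, one_mul]⟩
    left_inv := by
      intro o
      cases o with
      | none => simp
      | some p =>
        obtain ⟨⟨u, v⟩, hu, hv, huv⟩ := p
        have h := key1 u v hu hv huv
        simp [h.2.1, h.2.2]
    right_inv := by
      intro t
      by_cases h : t.1 = x
      · simp only [h, dite_true]
        exact Subtype.ext h.symm
      · simp [h] }

end Cfsg.Agent.S0236
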