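import Mathlib
import Cfsg.Statements.S0238
import Cfsg.Agent.S0236
import Cfsg.Agent.S0237
-- import your own Cfsg.Agent.* helpers here

set_option autoImplicit false
open Cfsg

namespace Cfsg.Agent.S0238


/-- For every x in a finite group G, the number c of ordered pairs (u, v) of involutions with uv = x is at most |C_G(x)|; c = 0 when x is not conjugate to x⁻¹; and c + 2 ≤ |C_G(x)| when x is an involution. -/
theorem result {G : Type*} [Group G] [Finite G] (x : G) : Nat.card {p : G × G // orderOf p.1 = 2 ∧ orderOf p.2 = 2 ∧ p.1 * p.2 = x} ≤ Nat.card (Subgroup.centralizer ({x} : Set G)) ∧ (¬ IsConj x x⁻¹ → Nat.card {p : G × G // orderOf p.1 = 2 ∧ orderOf p.2 = 2 ∧ p.1 * p.2 = x} = 0) ∧ (orderOf x = 2 → Nat.card {p : G × G // orderOf p.1 = 2 ∧ orderOf p.2 = 2 ∧ p.1 * p.2 = x} + 2 ≤ Nat.card (Subgroup.centralizer ({x} : Set G))) := by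
  classical
  have hinv : ∀ u v : G, orderOf u = 2 → orderOf v = 2 → u * v = x → u * x * u⁻¹ = x⁻¹ := by
    intro u v hu hv huv
    have hu' := inv_eq_self_of_orderOf_eq_two hu
    have hv' := inv_eq_self_of_orderOf_eq_two hv
    have huu : u * u = 1 := by rw [← sq, ← hu]; exact pow_orderOf_eq_one u
    rw [← huv, mul_inv_rev, hu', hv']
    calc u * (u * v) * u = (u * u) * v * u := by simp [mul_assoc]
      _ = v * u := by rw [huu, one_mul]
  let f : {p : G × G // orderOf p.1 = 2 ∧ orderOf p.2 = 2 ∧ p.1 * p.2 = x} → {g : G // g * x * g⁻¹ = x⁻¹} :=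
    fun p => ⟨p.1.1, hinv p.1.1 p.1.2 p.2.1 p.2.2.1 p.2.2.2⟩
  have hf : Function.Injective f := by
    rintro ⟨⟨u, v⟩, hu, hv, huv⟩ ⟨⟨u', v'⟩, hu', hv', huv'⟩ h
    have h1 : u = u' := congrArg Subtype.val h
    subst h1
    have h2 : v = v' := mul_left_cancel (huv.trans huv'.symm)
    subst h2
    rfl
  have hle := Nat.card_le_card_of_injective f hf
  have hnreal : ¬ IsConj x x⁻¹ → Nat.card {p : G × G // orderOf p.1 = 2 ∧ orderOf p.2 = 2 ∧ p.1 * p.2 = x} = 0 := by
    intro hn
    rw [Nat.card_eq_zero]
    left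
    constructor
    rintro ⟨⟨u, v⟩, hu, hv, huv⟩
    exact hn (isConj_iff.mpr ⟨u, hinv u v hu hv huv⟩)
  refine ⟨?_, hnreal, ?_⟩
  · by_cases hr : IsConj x x⁻¹
    · rw [← Cfsg.Agent.S0237.result x hr]; exact hle
    · rw [hnreal hr]; exact Nat.zero_le _
  · intro hx
    have h1 := Cfsg.Agent.S0236.result x hx
    have hne : ∀ t : G, orderOf t = 2 → t ≠ 1 := by
      intro t ht h
      rw [h, orderOf_one] at ht
      omega
    let k : Option {t : G // orderOf t = 2 ∧ Commute t x} → Subgroup.centralizer ({x} : Set G) := fun o => match o with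
      | none => 1
      | some t => ⟨t.1, Subgroup.mem_centralizer_singleton_iff.mpr t.2.2.eq⟩
    have hk : Function.Injective k := by
      intro a b hab
      cases a with
      | none =>
        cases b with
        | none => rfl
        | some t => exact absurd (congrArg Subtype.val hab).symm (hne t.1 t.2.1)
      | some s =>
        cases b with
        | none => exact absurd (congrArg Subtype.val hab) (hne s.1 s.2.1)
        | some t =>
          have h3 : (k (some s)).1 = (k (some t)).1 := by rw [hab]
          exact congrArg some (Subtype.ext h3)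
    have h2 := Nat.card_le_card_of_injective k hk
    rw [Finite.card_option] at h2
    omega

end Cfsg.Agent.S0238
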