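import Cfsg.Statements.S0876
-- import your own Cfsg.Agent.* helpers here
import Mathlib
import Cfsg.Agent.S4604
import Cfsg.Agent.Lib.Helper16.LocalIdeal

set_option autoImplicit false
open Cfsg

namespace Cfsg.Agent.S0876

open scoped ComplexConjugate
open Cfsg.Agent.Lib.Helper16.LocalIdeal Cfsg.Agent.S4604

/-- A character takes congruent values at an element and at its `p`-regular part. -/
theorem congr_regular {G : Type*} [Group G] [Finite G] {p : ℕ} {M : Ideal Cfsg.AlgInt}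
    (hM : Cfsg.IsPModular p M) {χ : G → ℂ} (hχ : Cfsg.IsCharacter G χ) {x a : G}
    (ha : Cfsg.IsPPart p x a) : Cfsg.MemLocalIdeal M (χ x - χ (a⁻¹ * x)) := by
  obtain ⟨x', hax, hc, ⟨k, hk⟩, -⟩ := ha
  have hp : p.Prime := hM.1
  have hx' : a⁻¹ * x = x' := by rw [← hax, inv_mul_cancel_left]
  rw [hx']
  have hpow : x ^ (p ^ k) = x' ^ (p ^ k) := by
    rw [← hax, hc.mul_pow, ← hk, pow_orderOf_eq_one, one_mul]
  obtain ⟨γ₁, h1⟩ := frob_congr hχ p hp k x
  obtain ⟨γ₂, h2⟩ := frob_congr hχ p hp k x'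
  let X : Cfsg.AlgInt := ⟨χ x, Cfsg.Agent.Lib.Helper80.Integrality.isIntegral_of_isCharacter hχ x⟩
  let Y : Cfsg.AlgInt := ⟨χ x', Cfsg.Agent.Lib.Helper80.Integrality.isIntegral_of_isCharacter hχ x'⟩
  obtain ⟨r, hr⟩ := exists_add_pow_prime_pow_eq hp (X - Y) Y k
  rw [sub_add_cancel] at hr
  have h3 : X ^ (p ^ k) - Y ^ (p ^ k) = (p : Cfsg.AlgInt) * (γ₁ - γ₂) := by
    apply Subtype.ext
    push_cast
    change χ x ^ (p ^ k) - χ x' ^ (p ^ k) = (p : ℂ) * ((γ₁ : ℂ) - (γ₂ : ℂ))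
    rw [hpow] at h1
    linear_combination h1 - h2
  have h4 : (X - Y) ^ (p ^ k) = (p : Cfsg.AlgInt) * (γ₁ - γ₂ - (X - Y) * Y * r) := by
    linear_combination h3 - hr
  have h5 : (X - Y) ^ (p ^ k) ∈ M := by
    rw [h4]
    exact M.mul_mem_right _ hM.2.2
  have h6 : X - Y ∈ M := hM.2.1.isPrime.mem_of_pow_mem _ h5
  have h7 := memLocalIdeal_of_mem hM.2.1 (X - Y) h6
  exact h7

/-- Two `p`-regular elements on which all irreducible characters agree modulo the local
ideal are conjugate. -/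
theorem isConj_of_congr_local {G : Type*} [Group G] [Finite G] (p : ℕ) (M : Ideal Cfsg.AlgInt)
    (hM : Cfsg.IsPModular p M) (X Y : G)
    (hX : ¬ p ∣ orderOf X) (hY : ¬ p ∣ orderOf Y)
    (h : ∀ χ : Cfsg.IrrCharacter G, Cfsg.MemLocalIdeal M ((χ : G → ℂ) X - (χ : G → ℂ) Y)) :
    IsConj X Y := by
  classical
  have hp : p.Prime := hM.1
  have : Fact p.Prime := ⟨hp⟩
  have _instG : Fintype G := Fintype.ofFinite G
  have hfin := Cfsg.Agent.Lib.CT.Wedderburn.finite_irrCharacter G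
  have _instI : Fintype (Cfsg.IrrCharacter G) := Fintype.ofFinite _
  by_contra hnc
  let C : Subgroup G := Subgroup.centralizer ({X} : Set G)
  obtain ⟨Q₀⟩ : Nonempty (Sylow p C) := inferInstance
  let Q : Subgroup G := (Q₀ : Subgroup C).map C.subtype
  have _instQ : Fintype Q := Fintype.ofFinite Q
  have hQc : ∀ q ∈ Q, Commute X q := by
    rintro q ⟨c, -, rfl⟩
    have hc := c.2
    rw [Subgroup.mem_centralizer_singleton_iff] at hc
    exact hc.symm
  have hQp : ∀ q ∈ Q, ∃ k : ℕ, orderOf q = p ^ k := by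
    rintro q ⟨c, hc, rfl⟩
    obtain ⟨k, hk⟩ := Q₀.isPGroup' ⟨c, hc⟩
    have hk' : (C.subtype c) ^ (p ^ k) = 1 := by
      have := congrArg (fun z : (Q₀ : Subgroup C) => ((z : C) : G)) hk
      simpa using this
    exact (Nat.dvd_prime_pow hp).mp (orderOf_dvd_of_pow_eq_one hk') |>.imp fun j hj => hj.2
  have hcardQ : Nat.card Q = Nat.card (Q₀ : Subgroup C) :=
    Subgroup.card_map_of_injective C.subtype_injective
  have hidx : Nat.card (Q₀ : Subgroup C) * (Q₀ : Subgroup C).index = Nat.card C :=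
    Subgroup.card_mul_index _
  have hndvd : ¬ p ∣ (Q₀ : Subgroup C).index := Q₀.not_dvd_index
  have hQne : (Nat.card Q : ℂ) ≠ 0 := Nat.cast_ne_zero.mpr Nat.card_pos.ne'
  let c : Cfsg.IrrCharacter G → ℂ := fun χ =>
    conj ((Nat.card Q : ℂ)⁻¹ * ∑ q : Q, (χ : G → ℂ) (X * (q : G)))
  have hcint : ∀ χ : Cfsg.IrrCharacter G, IsIntegral ℤ (c χ) := fun χ =>
    map_isIntegral_int (starRingEnd ℂ)
      (isIntegral_avg (Cfsg.Agent.Lib.CT.Wedderburn.isCharacter_of_irr χ.2) X Q hQc)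
  have hsX : ∑ χ : Cfsg.IrrCharacter G, c χ * (χ : G → ℂ) X =
      (Nat.card Q : ℂ)⁻¹ * ((Finset.univ.filter (fun y : G => y * X * y⁻¹ = X)).card : ℂ) :=
    sum_coeff_mul p hp X hX Q hQc hQp X hX
  have hsY : ∑ χ : Cfsg.IrrCharacter G, c χ * (χ : G → ℂ) Y =
      (Nat.card Q : ℂ)⁻¹ * ((Finset.univ.filter (fun y : G => y * X * y⁻¹ = Y)).card : ℂ) :=
    sum_coeff_mul p hp X hX Q hQc hQp Y hY
  have hY0 : (Finset.univ.filter (fun y : G => y * X * y⁻¹ = Y)) = ∅ := by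
    rw [Finset.filter_eq_empty_iff]
    intro y _ hy
    exact hnc (isConj_iff.mpr ⟨y, hy⟩)
  have hXC : (Finset.univ.filter (fun y : G => y * X * y⁻¹ = X)).card = Nat.card C := by
    rw [Nat.card_eq_fintype_card, Fintype.card_subtype]
    congr 1
    ext y
    simp only [Finset.mem_filter, Finset.mem_univ, true_and, C,
      Subgroup.mem_centralizer_singleton_iff]
    constructor
    · intro h1
      calc y * X = (y * X * y⁻¹) * y := by group
        _ = X * y := by rw [h1]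
    · intro h1
      rw [h1]
      group
  rw [hY0, Finset.card_empty, Nat.cast_zero, mul_zero] at hsY
  rw [hXC, ← hidx, hcardQ] at hsX
  have h1 : ∑ χ : Cfsg.IrrCharacter G, c χ * ((χ : G → ℂ) X - (χ : G → ℂ) Y) =
      ((Q₀ : Subgroup C).index : ℂ) := by
    simp_rw [mul_sub]
    rw [Finset.sum_sub_distrib, hsX, hsY, sub_zero]
    rw [hcardQ] at hQne
    push_cast
    field_simp
  have h2 : Cfsg.MemLocalIdeal M (((Q₀ : Subgroup C).index : ℕ) : ℂ) := by
    rw [← h1]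
    apply mli_sum hM.2.1
    intro χ _
    exact mli_mul_left hM.2.1 (memLocalRing_of_isIntegral hM.2.1 (hcint χ)) (h χ)
  exact hndvd ((memLocalIdeal_natCast_iff hM _).mp h2)

/-- Let G be a finite group, p a prime and M a maximal ideal of the ring of algebraic integers containing p. Let x, y be elements with p-parts a and b (so a⁻¹ * x and b⁻¹ * y are their p-regular parts). Then a⁻¹ * x and b⁻¹ * y are conjugate in G if and only if, for every irreducible character χ, the difference χ x - χ y lies in the local ideal at M. -/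
theorem result {G : Type*} [Group G] [Finite G] (p : ℕ) (M : Ideal Cfsg.AlgInt) (hM : Cfsg.IsPModular p M) (x y a b : G) (ha : Cfsg.IsPPart p x a) (hb : Cfsg.IsPPart p y b) : IsConj (a⁻¹ * x) (b⁻¹ * y) ↔ ∀ χ : Cfsg.IrrCharacter G, Cfsg.MemLocalIdeal M ((χ : G → ℂ) x - (χ : G → ℂ) y) := by
  have hp : p.Prime := hM.1
  have hmax := hM.2.1
  have hxr : ¬ p ∣ orderOf (a⁻¹ * x) := by
    obtain ⟨x', hax, -, -, hx'⟩ := ha
    rw [← hax, inv_mul_cancel_left]
    exact hx'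
  have hyr : ¬ p ∣ orderOf (b⁻¹ * y) := by
    obtain ⟨y', hby, -, -, hy'⟩ := hb
    rw [← hby, inv_mul_cancel_left]
    exact hy'
  constructor
  · intro hconj χ
    have hχ := Cfsg.Agent.Lib.CT.Wedderburn.isCharacter_of_irr χ.2
    have h1 := congr_regular hM hχ ha
    have h2 := congr_regular hM hχ hb
    have h3 : (χ : G → ℂ) (a⁻¹ * x) = (χ : G → ℂ) (b⁻¹ * y) := by
      obtain ⟨c, hc⟩ := isConj_iff.mp hconj
      rw [← hc]
      exact (Cfsg.Agent.Lib.CT.Wedderburn.char_isClassFunction hχ (a⁻¹ * x) c).symm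
    have h4 : (χ : G → ℂ) x - (χ : G → ℂ) y =
        ((χ : G → ℂ) x - (χ : G → ℂ) (a⁻¹ * x)) - ((χ : G → ℂ) y - (χ : G → ℂ) (b⁻¹ * y)) := by
      rw [h3]; ring
    rw [h4]
    exact mli_sub hmax h1 h2
  · intro h
    apply isConj_of_congr_local p M hM _ _ hxr hyr
    intro χ
    have hχ := Cfsg.Agent.Lib.CT.Wedderburn.isCharacter_of_irr χ.2
    have h1 := congr_regular hM hχ ha
    have h2 := congr_regular hM hχ hb
    have h4 : (χ : G → ℂ) (a⁻¹ * x) - (χ : G → ℂ) (b⁻¹ * y) =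
        ((χ : G → ℂ) x - (χ : G → ℂ) y) - ((χ : G → ℂ) x - (χ : G → ℂ) (a⁻¹ * x)) +
          ((χ : G → ℂ) y - (χ : G → ℂ) (b⁻¹ * y)) := by ring
    rw [h4]
    exact mli_add hmax (mli_sub hmax (h χ) h1) h2

end Cfsg.Agent.S0876
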