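import Cfsg.Statements.S0289
import Mathlib
import Cfsg.Agent.Lib.Helper5.QuadCount

set_option autoImplicit false
open Cfsg

namespace Cfsg.Agent.S0289

/-- The hyperbolic quadratic form on F^(2m), m at least 1, has q^(2m-1) + q^m - q^(m-1) zeros (that is, (q^m - 1)(q^(m-1) + 1) non-zero isotropic vectors). -/
theorem result {F : Type*} [Field F] [Fintype F] {q : ℕ} (hF : Fintype.card F = q) (m : ℕ) (hm : 1 ≤ m) : Nat.card {v : Fin m ⊕ Fin m → F // Cfsg.quadFormPlus m F v = 0} = q ^ (2 * m - 1) + q ^ m - q ^ (m - 1) := by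
  have e : {v : Fin m ⊕ Fin m → F // Cfsg.quadFormPlus m F v = 0} ≃
      {p : (Fin m → F) × (Fin m → F) × Unit // ∑ i, p.1 i * p.2.1 i + (fun _ : Unit => (0 : F)) p.2.2 = 0} := by
    refine Equiv.subtypeEquiv
      { toFun := fun v => (fun i => v (Sum.inl i), fun i => v (Sum.inr i), ())
        invFun := fun p => Sum.elim p.1 p.2.1
        left_inv := by
          intro v
          ext (i | i) <;> rfl
        right_inv := by
          rintro ⟨x, y, u⟩
          rfl } ?_
    intro v
    simp [Cfsg.quadFormPlus]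
  have h := Cfsg.Agent.Lib.Helper5.QuadCount.card_zeros (F := F) m (V := Unit) (fun _ => (0 : F))
  rw [← Nat.card_congr e, hF] at h
  have h1 : Nat.card {v : Unit // (fun _ : Unit => (0 : F)) v = 0} = 1 := by
    simp
  rw [h1] at h
  simp only [Nat.card_unique, mul_one] at h
  obtain ⟨k, rfl⟩ : ∃ k, m = k + 1 := ⟨m - 1, by omega⟩
  have hq : 1 ≤ q := by rw [← hF]; exact Fintype.card_pos
  generalize Nat.card {v : Fin (k + 1) ⊕ Fin (k + 1) → F // Cfsg.quadFormPlus (k + 1) F v = 0} = N at h ⊢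
  have e1 : 2 * (k + 1) - 1 = 2 * k + 1 := by omega
  have e2 : k + 1 - 1 = k := by omega
  rw [e1, e2]
  have h2 : q * (N + q ^ k) = q * (q ^ (k + 1) + q ^ (2 * k + 1)) := by
    have e3 : 2 * (k + 1) = 2 * k + 2 := by ring
    rw [e3] at h
    ring_nf at h ⊢
    linarith
  have h3 : N + q ^ k = q ^ (k + 1) + q ^ (2 * k + 1) := Nat.eq_of_mul_eq_mul_left (by omega) h2
  omega

end Cfsg.Agent.S0289
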