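import Cfsg.Statements.S0290
import Mathlib
import Cfsg.Agent.Lib.Helper5.QuadCount

set_option autoImplicit false
open Cfsg

namespace Cfsg.Agent.S0290

/-- The minus-type quadratic form on F^(2m), m at least 1, has q^(2m-1) + q^(m-1) - q^m zeros (that is, (q^m + 1)(q^(m-1) - 1) non-zero isotropic vectors). -/
theorem result {F : Type*} [Field F] [Fintype F] {q : ℕ} (hF : Fintype.card F = q) (m : ℕ) (hm : 1 ≤ m) (a b : F) (hab : ∀ z₁ z₂ : F, z₁ ^ 2 + a * z₁ * z₂ + b * z₂ ^ 2 = 0 → z₁ = 0 ∧ z₂ = 0) : Nat.card {v : (Fin (m - 1) ⊕ Fin (m - 1)) ⊕ Fin 2 → F // Cfsg.quadFormMinus (m - 1) F a b v = 0} = q ^ (2 * m - 1) + q ^ (m - 1) - q ^ m := by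
  obtain ⟨k, rfl⟩ : ∃ k, m = k + 1 := ⟨m - 1, by omega⟩
  change Nat.card {v : (Fin k ⊕ Fin k) ⊕ Fin 2 → F // Cfsg.quadFormMinus k F a b v = 0} =
    q ^ (2 * (k + 1) - 1) + q ^ k - q ^ (k + 1)
  have e : {v : (Fin k ⊕ Fin k) ⊕ Fin 2 → F // Cfsg.quadFormMinus k F a b v = 0} ≃
      {p : (Fin k → F) × (Fin k → F) × (Fin 2 → F) // ∑ i, p.1 i * p.2.1 i +
        (fun z : Fin 2 → F => z 0 ^ 2 + a * z 0 * z 1 + b * z 1 ^ 2) p.2.2 = 0} := by
    refine Equiv.subtypeEquiv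
      { toFun := fun v => (fun i => v (Sum.inl (Sum.inl i)), fun i => v (Sum.inl (Sum.inr i)),
          fun j => v (Sum.inr j))
        invFun := fun p => Sum.elim (Sum.elim p.1 p.2.1) p.2.2
        left_inv := by
          intro v
          ext ((i | i) | i) <;> rfl
        right_inv := by
          rintro ⟨x, y, u⟩
          rfl } ?_
    intro v
    simp [Cfsg.quadFormMinus]
  have h := Cfsg.Agent.Lib.Helper5.QuadCount.card_zeros (F := F) k (V := Fin 2 → F)
    (fun z : Fin 2 → F => z 0 ^ 2 + a * z 0 * z 1 + b * z 1 ^ 2)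
  rw [← Nat.card_congr e, hF] at h
  have h1 : Nat.card {v : Fin 2 → F // (fun z : Fin 2 → F => z 0 ^ 2 + a * z 0 * z 1 + b * z 1 ^ 2) v = 0} = 1 := by
    have : Unique {v : Fin 2 → F // (fun z : Fin 2 → F => z 0 ^ 2 + a * z 0 * z 1 + b * z 1 ^ 2) v = 0} :=
      { default := ⟨0, by simp⟩
        uniq := by
          rintro ⟨v, hv⟩
          apply Subtype.ext
          obtain ⟨h0, h1⟩ := hab (v 0) (v 1) hv
          ext j
          fin_cases j
          · exact h0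
          · exact h1 }
    exact Nat.card_unique
  have h2 : Nat.card (Fin 2 → F) = q ^ 2 := by
    rw [Nat.card_eq_fintype_card, Fintype.card_fun, hF, Fintype.card_fin]
  rw [h1, h2] at h
  have hq : 1 ≤ q := by rw [← hF]; exact Fintype.card_pos
  generalize Nat.card {v : (Fin k ⊕ Fin k) ⊕ Fin 2 → F // Cfsg.quadFormMinus k F a b v = 0} = N at h ⊢
  have e1 : 2 * (k + 1) - 1 = 2 * k + 1 := by omega
  rw [e1]
  have h3 : q * (N + q ^ (k + 1)) = q * (q ^ k + q ^ (2 * k + 1)) := by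
    ring_nf at h ⊢
    linarith
  have h4 : N + q ^ (k + 1) = q ^ k + q ^ (2 * k + 1) := Nat.eq_of_mul_eq_mul_left (by omega) h3
  omega

end Cfsg.Agent.S0290
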