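import Cfsg.Statements.S0291
import Mathlib
import Cfsg.Agent.Lib.Helper5.QuadCount

set_option autoImplicit false
open Cfsg

namespace Cfsg.Agent.S0291

/-- For q odd, the form x_0^2 + sum_{i<m} x_i y_i on F^(2m+1) has exactly q^(2m) zeros. -/
theorem result {F : Type*} [Field F] [Fintype F] {q : ℕ} (hF : Fintype.card F = q) (hodd : Odd q) (m : ℕ) : Nat.card {v : Unit ⊕ (Fin m ⊕ Fin m) → F // Cfsg.quadFormOdd m F v = 0} = q ^ (2 * m) := by
  have e : {v : Unit ⊕ (Fin m ⊕ Fin m) → F // Cfsg.quadFormOdd m F v = 0} ≃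
      {p : (Fin m → F) × (Fin m → F) × F // ∑ i, p.1 i * p.2.1 i + (fun x : F => x ^ 2) p.2.2 = 0} := by
    refine Equiv.subtypeEquiv
      { toFun := fun v => (fun i => v (Sum.inr (Sum.inl i)), fun i => v (Sum.inr (Sum.inr i)),
          v (Sum.inl ()))
        invFun := fun p => Sum.elim (fun _ => p.2.2) (Sum.elim p.1 p.2.1)
        left_inv := by
          intro v
          ext (i | i | i) <;> rfl
        right_inv := by
          rintro ⟨x, y, u⟩
          rfl } ?_
    intro v
    simp [Cfsg.quadFormOdd, add_comm]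
  have h := Cfsg.Agent.Lib.Helper5.QuadCount.card_zeros (F := F) m (V := F) (fun x => x ^ 2)
  rw [← Nat.card_congr e, hF] at h
  have h1 : Nat.card {v : F // (fun x : F => x ^ 2) v = 0} = 1 := by
    have : Unique {v : F // (fun x : F => x ^ 2) v = 0} :=
      { default := ⟨0, by simp⟩
        uniq := by
          rintro ⟨v, hv⟩
          apply Subtype.ext
          simpa using hv }
    exact Nat.card_unique
  rw [h1, Nat.card_eq_fintype_card (α := F), hF] at h
  have hq : 1 ≤ q := by rw [← hF]; exact Fintype.card_pos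
  generalize Nat.card {v : Unit ⊕ (Fin m ⊕ Fin m) → F // Cfsg.quadFormOdd m F v = 0} = N at h ⊢
  have h2 : q * N = q * q ^ (2 * m) := by
    ring_nf at h ⊢
    linarith
  exact Nat.eq_of_mul_eq_mul_left (by omega) h2

end Cfsg.Agent.S0291
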