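import Cfsg.Statements.S2679
-- import your own Cfsg.Agent.* helpers here

set_option autoImplicit false
open Cfsg

namespace Cfsg.Agent.S2679

open Matrix

section Field

theorem exists_root {F K : Type*} [Field F] [Fintype F] [Field K] [Fintype K]
    (hKF : Fintype.card K = Fintype.card F ^ 2) (a c : F)
    (hac : ∀ z₁ z₂ : F, z₁ ^ 2 + a * z₁ * z₂ + c * z₂ ^ 2 = 0 → z₁ = 0 ∧ z₂ = 0) :
    ∃ (ι : F →+* K) (θ : K), θ ^ 2 + ι a * θ + ι c = 0 := by
  classical
  let f : Polynomial F := Polynomial.C 1 * Polynomial.X ^ 2 + Polynomial.C a * Polynomial.X + Polynomial.C c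
  have hdeg : f.natDegree = 2 := Polynomial.natDegree_quadratic one_ne_zero
  have hirr : Irreducible f := by
    apply Polynomial.irreducible_of_degree_le_three_of_not_isRoot
    · rw [hdeg]; decide
    · intro x hx
      have : x ^ 2 + a * x * 1 + c * 1 ^ 2 = 0 := by simpa [f, Polynomial.IsRoot] using hx
      exact one_ne_zero (hac x 1 this).2
  haveI : Fact (Irreducible f) := ⟨hirr⟩
  have hf0 : f ≠ 0 := hirr.ne_zero
  let pb := AdjoinRoot.powerBasis hf0
  have hfin : Module.finrank F (AdjoinRoot f) = 2 := by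
    rw [pb.finrank, AdjoinRoot.powerBasis_dim, hdeg]
  haveI : Module.Finite F (AdjoinRoot f) := pb.finite
  haveI : Finite (AdjoinRoot f) := Module.finite_of_finite F
  haveI : Fintype (AdjoinRoot f) := Fintype.ofFinite _
  have hcard : Fintype.card (AdjoinRoot f) = Fintype.card F ^ 2 := by
    rw [Module.card_eq_pow_finrank (K := F) (V := AdjoinRoot f), hfin]
  let φ : AdjoinRoot f ≃+* K := FiniteField.ringEquivOfCardEq (hcard.trans hKF.symm)
  refine ⟨φ.toRingHom.comp (AdjoinRoot.of f), φ (AdjoinRoot.root f), ?_⟩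
  have h0 := AdjoinRoot.eval₂_root f
  have h1 : (AdjoinRoot.root f) ^ 2 + AdjoinRoot.of f a * AdjoinRoot.root f + AdjoinRoot.of f c = 0 := by
    simpa [f, Polynomial.eval₂_add, Polynomial.eval₂_mul, Polynomial.eval₂_pow] using h0
  have h2 := congrArg φ h1
  simpa using h2

theorem decomp {F K : Type*} [Field F] [Fintype F] [Field K] [Fintype K]
    (hKF : Fintype.card K = Fintype.card F ^ 2) (a c : F)
    (hac : ∀ z₁ z₂ : F, z₁ ^ 2 + a * z₁ * z₂ + c * z₂ ^ 2 = 0 → z₁ = 0 ∧ z₂ = 0)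
    (ι : F →+* K) (θ : K) (hθ : θ ^ 2 + ι a * θ + ι c = 0) :
    Function.Bijective (fun st : F × F => ι st.1 + θ * ι st.2) := by
  rw [Fintype.bijective_iff_injective_and_card]
  refine ⟨?_, by rw [Fintype.card_prod, hKF, sq]⟩
  rintro ⟨s, t⟩ ⟨s', t'⟩ h
  have h : ι s + θ * ι t = ι s' + θ * ι t' := h
  by_cases htt : t = t'
  · subst htt
    have : ι s = ι s' := by simpa using h
    rw [ι.injective this]
  · exfalso
    have hne : t' - t ≠ 0 := sub_ne_zero.2 (Ne.symm htt)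
    have hne' : ι (t' - t) ≠ 0 := by
      rw [Ne, map_eq_zero]; exact hne
    have hθ' : θ = ι ((s - s') / (t' - t)) := by
      have h1 : θ * ι (t' - t) = ι (s - s') := by
        simp only [map_sub]; linear_combination -h
      rw [map_div₀, eq_div_iff hne']
      exact h1
    have h3 : ι (((s - s') / (t' - t)) ^ 2 + a * ((s - s') / (t' - t)) * 1 + c * 1 ^ 2) = 0 := by
      simp only [map_add, map_mul, map_pow, map_one]
      rw [← hθ']; linear_combination hθ
    have h4 := (hac _ 1 (ι.injective (by rw [h3, map_zero]))).2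
    exact one_ne_zero h4

theorem theta_ne {F K : Type*} [Field F] [Fintype F] [Field K] [Fintype K]
    (hKF : Fintype.card K = Fintype.card F ^ 2) (a c : F)
    (hac : ∀ z₁ z₂ : F, z₁ ^ 2 + a * z₁ * z₂ + c * z₂ ^ 2 = 0 → z₁ = 0 ∧ z₂ = 0)
    (ι : F →+* K) (θ : K) (hθ : θ ^ 2 + ι a * θ + ι c = 0) : θ ≠ -ι a - θ := by
  intro h
  have h1 : ι a + θ * ι 2 = ι 0 + θ * ι 0 := by
    simp only [map_zero, mul_zero, add_zero, map_ofNat]
    linear_combination h
  have h2 : ((a, 2) : F × F) = (0, 0) := (decomp hKF a c hac ι θ hθ).1 h1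
  have ha : a = 0 := (Prod.ext_iff.1 h2).1
  have h2' : (2 : F) = 0 := (Prod.ext_iff.1 h2).2
  have hchar : ringChar F = 2 := CharP.ringChar_of_prime_eq_zero Nat.prime_two (by exact_mod_cast h2')
  obtain ⟨d, hd⟩ := FiniteField.isSquare_of_char_two hchar c
  have h5 := (hac d 1 (by rw [ha, hd]; linear_combination (d ^ 2) * h2')).2
  exact one_ne_zero h5

end Field

section BaseChange

variable {F K : Type*} [Field F] [Field K] {ι₀ : Type} [Fintype ι₀] [DecidableEq ι₀]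

theorem base_change (ι : F →+* K) (θ : K) (hdecomp : ∀ z : K, ∃ s t : F, z = ι s + θ * ι t)
    (QF : (ι₀ → F) → F) (QK : (ι₀ → K) → K) (h1 : ∀ x, QK (ι ∘ x) = ι (QF x))
    (h2 : ∀ (u v : ι₀ → K) (t : K),
      QK (u + t • v) = QK u + t * (QK (u + v) - QK u - QK v) + t ^ 2 * QK v)
    (g : Matrix ι₀ ι₀ F) (hg : ∀ x, QF (g *ᵥ x) = QF x) (w : ι₀ → K) :
    QK (g.map ι *ᵥ w) = QK w := by
  choose x y hxy using fun i => hdecomp (w i)
  have hw : w = ι ∘ x + θ • (ι ∘ y) := by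
    funext i; simp [hxy i]
  have hmap : ∀ z : ι₀ → F, g.map ι *ᵥ (ι ∘ z) = ι ∘ (g *ᵥ z) := by
    intro z; funext i; exact (RingHom.map_mulVec ι g z i).symm
  have hadd : ∀ z z' : ι₀ → F, ι ∘ z + ι ∘ z' = ι ∘ (z + z') := by
    intro z z'; funext i; simp
  rw [hw, Matrix.mulVec_add, Matrix.mulVec_smul, hmap, hmap, h2, h2, hadd, hadd, h1, h1, h1, h1,
    h1, h1, ← Matrix.mulVec_add, hg, hg, hg]

theorem qm_map (k : ℕ) (ι : F →+* K) (a c : F) (x : (Fin k ⊕ Fin k) ⊕ Fin 2 → F) :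
    Cfsg.quadFormMinus k K (ι a) (ι c) (ι ∘ x) = ι (Cfsg.quadFormMinus k F a c x) := by
  simp [Cfsg.quadFormMinus, map_sum]

theorem qm_quad (k : ℕ) (a c : K) (u v : (Fin k ⊕ Fin k) ⊕ Fin 2 → K) (t : K) :
    Cfsg.quadFormMinus k K a c (u + t • v) =
      Cfsg.quadFormMinus k K a c u +
        t * (Cfsg.quadFormMinus k K a c (u + v) - Cfsg.quadFormMinus k K a c u -
          Cfsg.quadFormMinus k K a c v) + t ^ 2 * Cfsg.quadFormMinus k K a c v := by
  simp only [Cfsg.quadFormMinus, Pi.add_apply, Pi.smul_apply, smul_eq_mul]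
  have hs : ∑ i : Fin k, (u (Sum.inl (Sum.inl i)) + t * v (Sum.inl (Sum.inl i))) *
        (u (Sum.inl (Sum.inr i)) + t * v (Sum.inl (Sum.inr i))) =
      (∑ i : Fin k, u (Sum.inl (Sum.inl i)) * u (Sum.inl (Sum.inr i))) +
        t * ((∑ i : Fin k, (u (Sum.inl (Sum.inl i)) + v (Sum.inl (Sum.inl i))) *
            (u (Sum.inl (Sum.inr i)) + v (Sum.inl (Sum.inr i)))) -
          (∑ i : Fin k, u (Sum.inl (Sum.inl i)) * u (Sum.inl (Sum.inr i))) -
          (∑ i : Fin k, v (Sum.inl (Sum.inl i)) * v (Sum.inl (Sum.inr i)))) +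
        t ^ 2 * (∑ i : Fin k, v (Sum.inl (Sum.inl i)) * v (Sum.inl (Sum.inr i))) := by
    simp only [Finset.mul_sum, ← Finset.sum_sub_distrib, ← Finset.sum_add_distrib]
    apply Finset.sum_congr rfl
    intro i _
    ring
  rw [hs]
  ring

end BaseChange

section Coord

variable {K : Type*} [Field K] (k : ℕ) (θ θ' : K)

/-- the coordinate functionals of the change of variables -/
noncomputable def row : Fin (k + 1) ⊕ Fin (k + 1) → (((Fin k ⊕ Fin k) ⊕ Fin 2 → K) →ₗ[K] K) :=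
  Sum.elim
    (Fin.lastCases (LinearMap.proj (Sum.inr 0) - θ • LinearMap.proj (Sum.inr 1))
      (fun i => LinearMap.proj (Sum.inl (Sum.inl i))))
    (Fin.lastCases (LinearMap.proj (Sum.inr 0) - θ' • LinearMap.proj (Sum.inr 1))
      (fun i => LinearMap.proj (Sum.inl (Sum.inr i))))

/-- the change of variables -/
noncomputable def Lam : ((Fin k ⊕ Fin k) ⊕ Fin 2 → K) →ₗ[K] (Fin (k + 1) ⊕ Fin (k + 1) → K) :=
  LinearMap.pi (row k θ θ')

theorem Lam_inl_castSucc (v : (Fin k ⊕ Fin k) ⊕ Fin 2 → K) (i : Fin k) :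
    Lam k θ θ' v (Sum.inl i.castSucc) = v (Sum.inl (Sum.inl i)) := by
  simp [Lam, row]

theorem Lam_inl_last (v : (Fin k ⊕ Fin k) ⊕ Fin 2 → K) :
    Lam k θ θ' v (Sum.inl (Fin.last k)) = v (Sum.inr 0) - θ * v (Sum.inr 1) := by
  simp [Lam, row]

theorem Lam_inr_castSucc (v : (Fin k ⊕ Fin k) ⊕ Fin 2 → K) (i : Fin k) :
    Lam k θ θ' v (Sum.inr i.castSucc) = v (Sum.inl (Sum.inr i)) := by
  simp [Lam, row]

theorem Lam_inr_last (v : (Fin k ⊕ Fin k) ⊕ Fin 2 → K) :
    Lam k θ θ' v (Sum.inr (Fin.last k)) = v (Sum.inr 0) - θ' * v (Sum.inr 1) := by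
  simp [Lam, row]

theorem Lam_quad (a c : K) (h1 : θ + θ' = -a) (h2 : θ * θ' = c)
    (v : (Fin k ⊕ Fin k) ⊕ Fin 2 → K) :
    Cfsg.quadFormPlus (k + 1) K (Lam k θ θ' v) = Cfsg.quadFormMinus k K a c v := by
  simp only [Cfsg.quadFormPlus, Cfsg.quadFormMinus, Fin.sum_univ_castSucc, Lam_inl_castSucc,
    Lam_inr_castSucc, Lam_inl_last, Lam_inr_last]
  congr 1
  linear_combination (-(v (Sum.inr 0) * v (Sum.inr 1))) * h1 + (v (Sum.inr 1)) ^ 2 * h2

theorem Lam_injective (hne : θ ≠ θ') : Function.Injective (Lam k θ θ') := by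
  rw [← LinearMap.ker_eq_bot, LinearMap.ker_eq_bot']
  intro v hv
  have e0 := congrFun hv (Sum.inl (Fin.last k))
  have e1 := congrFun hv (Sum.inr (Fin.last k))
  rw [Lam_inl_last] at e0
  rw [Lam_inr_last] at e1
  simp only [Pi.zero_apply] at e0 e1
  have hv1 : v (Sum.inr 1) = 0 := by
    have : (θ' - θ) * v (Sum.inr 1) = 0 := by linear_combination e0 - e1
    rcases mul_eq_zero.1 this with h | h
    · exact absurd (sub_eq_zero.1 h).symm hne
    · exact h
  have hv0 : v (Sum.inr 0) = 0 := by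
    rw [hv1] at e0; simpa using e0
  funext r
  rcases r with (i | i) | j
  · have := congrFun hv (Sum.inl i.castSucc)
    rwa [Lam_inl_castSucc] at this
  · have := congrFun hv (Sum.inr i.castSucc)
    rwa [Lam_inr_castSucc] at this
  · fin_cases j
    · exact hv0
    · exact hv1

theorem exists_UV (hne : θ ≠ θ') :
    ∃ (U : Matrix (Fin (k + 1) ⊕ Fin (k + 1)) ((Fin k ⊕ Fin k) ⊕ Fin 2) K)
      (V : Matrix ((Fin k ⊕ Fin k) ⊕ Fin 2) (Fin (k + 1) ⊕ Fin (k + 1)) K),
      U * V = 1 ∧ V * U = 1 ∧ ∀ v, U *ᵥ v = Lam k θ θ' v := by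
  have hrank : Module.finrank K ((Fin k ⊕ Fin k) ⊕ Fin 2 → K) =
      Module.finrank K (Fin (k + 1) ⊕ Fin (k + 1) → K) := by
    simp only [Module.finrank_pi, Fintype.card_sum, Fintype.card_fin]
    omega
  let e := LinearEquiv.ofInjectiveOfFinrankEq (Lam k θ θ') (Lam_injective k θ θ' hne) hrank
  refine ⟨LinearMap.toMatrix' e.toLinearMap, LinearMap.toMatrix' e.symm.toLinearMap, ?_, ?_, ?_⟩
  · rw [← LinearMap.toMatrix'_comp, LinearEquiv.comp_symm, LinearMap.toMatrix'_id]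
  · rw [← LinearMap.toMatrix'_comp, LinearEquiv.symm_comp, LinearMap.toMatrix'_id]
  · intro v
    rw [LinearMap.toMatrix'_mulVec]
    rfl

end Coord

section Assemble

variable {F K : Type*} [Field F] [Field K]
variable {n₁ n₂ : Type} [Fintype n₁] [DecidableEq n₁] [Fintype n₂] [DecidableEq n₂]

/-- conjugation-type monoid hom attached to a pair of mutually inverse rectangular matrices -/
def conjHom (U : Matrix n₂ n₁ K) (V : Matrix n₁ n₂ K) (hUV : U * V = 1) (hVU : V * U = 1) :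
    Matrix n₁ n₁ K →* Matrix n₂ n₂ K where
  toFun X := U * X * V
  map_one' := by rw [Matrix.mul_one, hUV]
  map_mul' X Y := by
    have : U * X * V * (U * Y * V) = U * X * (V * U) * Y * V := by simp only [Matrix.mul_assoc]
    rw [this, hVU, Matrix.mul_one, Matrix.mul_assoc U X Y]

theorem embed (ι : F →+* K) (QF : (n₁ → F) → F) (QK : (n₁ → K) → K) (Q' : (n₂ → K) → K)
    (hbase : ∀ g : Matrix n₁ n₁ F, (∀ x, QF (g *ᵥ x) = QF x) → ∀ w, QK (g.map ι *ᵥ w) = QK w)
    (U : Matrix n₂ n₁ K) (V : Matrix n₁ n₂ K) (hUV : U * V = 1) (hVU : V * U = 1)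
    (hU : ∀ v, Q' (U *ᵥ v) = QK v) :
    ∃ φ : ↥(Cfsg.isometryGroup F QF) →* ↥(Cfsg.isometryGroup K Q'), Function.Injective φ := by
  let ψ : GL n₁ F →* GL n₂ K :=
    (Units.map (conjHom U V hUV hVU)).comp (Matrix.GeneralLinearGroup.map ι)
  have hψ : ∀ g : GL n₁ F, ((ψ g : GL n₂ K) : Matrix n₂ n₂ K) =
      U * (g : Matrix n₁ n₁ F).map ι * V := fun g => rfl
  have hmem : ∀ g : ↥(Cfsg.isometryGroup F QF),
      (ψ.comp (Cfsg.isometryGroup F QF).subtype) g ∈ Cfsg.isometryGroup K Q' := by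
    intro g u v
    show Q' ((ψ g.1 : Matrix n₂ n₂ K) *ᵥ u) = Q' u
    rw [hψ, ← Matrix.mulVec_mulVec, ← Matrix.mulVec_mulVec, hU, hbase ((g.1 : GL n₁ F) : Matrix n₁ n₁ F) (fun x => g.2 x x), ← hU,
      Matrix.mulVec_mulVec, hUV, Matrix.one_mulVec]
  refine ⟨(ψ.comp (Cfsg.isometryGroup F QF).subtype).codRestrict _ hmem, ?_⟩
  intro g g' h
  have h1 : ψ g.1 = ψ g'.1 := congrArg Subtype.val h
  have h2 : U * (g.1 : Matrix n₁ n₁ F).map ι * V = U * (g'.1 : Matrix n₁ n₁ F).map ι * V := by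
    rw [← hψ, ← hψ, h1]
  have h3 : (g.1 : Matrix n₁ n₁ F).map ι = (g'.1 : Matrix n₁ n₁ F).map ι := by
    have := congrArg (fun X => V * X * U) h2
    beta_reduce at this
    have e1 : ∀ X : Matrix n₁ n₁ K, V * (U * X * V) * U = (V * U) * X * (V * U) := by
      intro X; simp only [Matrix.mul_assoc]
    rw [e1, e1, hVU, Matrix.one_mul, Matrix.mul_one, Matrix.one_mul, Matrix.mul_one] at this
    exact this
  apply Subtype.ext
  apply Units.ext
  exact Matrix.map_injective ι.injective h3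

end Assemble



/-- An elliptic orthogonal group embeds in the hyperbolic orthogonal group of the same dimension over the quadratic extension: for a field F with q elements and a field K with q² elements there is an injective homomorphism from O⁻_2m(F) (isometries of Σ_(j<m−1) x_j y_j + z₁² + a z₁z₂ + c z₂², binary part anisotropic) to O⁺_2m(K) (isometries of Σ_(j<m) x_j y_j over K). -/
theorem result {F K : Type*} [Field F] [Fintype F] [Field K] [Fintype K] {q : ℕ} (hF : Fintype.card F = q) (hK : Fintype.card K = q ^ 2) {m : ℕ} (hm : 1 ≤ m) (a c : F) (hac : ∀ z₁ z₂ : F, z₁ ^ 2 + a * z₁ * z₂ + c * z₂ ^ 2 = 0 → z₁ = 0 ∧ z₂ = 0) : ∃ φ : ↥(Cfsg.isometryGroup F (Cfsg.quadFormMinus (m - 1) F a c)) →* ↥(Cfsg.isometryGroup K (Cfsg.quadFormPlus m K)), Function.Injective φ := by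
  obtain ⟨k, rfl⟩ : ∃ k, m = k + 1 := ⟨m - 1, by omega⟩
  have hKF : Fintype.card K = Fintype.card F ^ 2 := by rw [hK, hF]
  obtain ⟨ι, θ, hθ⟩ := exists_root hKF a c hac
  have hbij := decomp hKF a c hac ι θ hθ
  have hne := theta_ne hKF a c hac ι θ hθ
  obtain ⟨U, V, hUV, hVU, hU⟩ := exists_UV k θ (-ι a - θ) hne
  have hdecomp : ∀ z : K, ∃ s t : F, z = ι s + θ * ι t := fun z => by
    obtain ⟨⟨s, t⟩, h⟩ := hbij.2 z
    exact ⟨s, t, h.symm⟩
  exact embed ι (Cfsg.quadFormMinus k F a c) (Cfsg.quadFormMinus k K (ι a) (ι c))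
    (Cfsg.quadFormPlus (k + 1) K)
    (fun g hg w => base_change ι θ hdecomp _ _ (qm_map k ι a c) (qm_quad k (ι a) (ι c)) g hg w)
    U V hUV hVU (fun v => by
      rw [hU, Lam_quad k θ (-ι a - θ) (ι a) (ι c) (by ring) (by linear_combination -hθ)])

end Cfsg.Agent.S2679
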