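import Cfsg.Statements.S2641
import Cfsg.Agent.Lib.Helper45.GUOrth
import Cfsg.Agent.S2679

set_option autoImplicit false
open Cfsg

namespace Cfsg.Agent.S2641

open Cfsg.Agent.Lib.Helper45.GUOrth in
theorem fr_theta {F K : Type*} [Field F] [Fintype F] [Field K] [Fintype K] [Algebra F K]
    (h2 : Module.finrank F K = 2) (a b : F)
    (hab : ∀ z₁ z₂ : F, z₁ ^ 2 + a * z₁ * z₂ + b * z₂ ^ 2 = 0 → z₁ = 0 ∧ z₂ = 0) (θ : K)
    (hθ : θ ^ 2 + algebraMap F K a * θ + algebraMap F K b = 0) :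
    fr F K θ = -algebraMap F K a - θ := by
  have h1 : (fr F K θ) ^ 2 + algebraMap F K a * fr F K θ + algebraMap F K b = 0 := by
    have := congrArg (fr F K) hθ
    simpa using this
  have h3 : (fr F K θ - θ) * (fr F K θ + θ + algebraMap F K a) = 0 := by
    linear_combination h1 - hθ
  rcases mul_eq_zero.1 h3 with h | h
  · exfalso
    have hKF : Fintype.card K = Fintype.card F ^ 2 := by
      rw [Module.card_eq_pow_finrank (K := F) (V := K), h2]
    have hall : ∀ x : K, fr F K x = x := by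
      intro x
      obtain ⟨⟨s, t⟩, rfl⟩ := (Cfsg.Agent.S2679.decomp hKF a b hab (algebraMap F K) θ hθ).2 x
      simp [sub_eq_zero.1 h]
    have h1' : fr F K = 1 := AlgEquiv.ext hall
    have ho := FiniteField.orderOf_frobeniusAlgEquivOfAlgebraic F K
    rw [h2] at ho
    have ho' : orderOf (fr F K) = 1 := by rw [h1', orderOf_one]
    have : orderOf (fr F K) = 2 := ho
    omega
  · linear_combination h

open Cfsg.Agent.Lib.Helper45.GUOrth in
theorem exists_L {F K : Type*} [Field F] [Fintype F] [Field K] [Fintype K] [Algebra F K]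
    (h2 : Module.finrank F K = 2) (a b : F)
    (hab : ∀ z₁ z₂ : F, z₁ ^ 2 + a * z₁ * z₂ + b * z₂ ^ 2 = 0 → z₁ = 0 ∧ z₂ = 0) (θ : K)
    (hθ : θ ^ 2 + algebraMap F K a * θ + algebraMap F K b = 0) :
    ∃ L : (Fin 2 → F) ≃ₗ[F] K,
      ∀ x, Algebra.norm F (L x) = x 0 ^ 2 + a * x 0 * x 1 + b * x 1 ^ 2 := by
  have hKF : Fintype.card K = Fintype.card F ^ 2 := by
    rw [Module.card_eq_pow_finrank (K := F) (V := K), h2]
  have hbij := Cfsg.Agent.S2679.decomp hKF a b hab (algebraMap F K) θ hθ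
  let L₀ : (Fin 2 → F) →ₗ[F] K :=
    (Algebra.linearMap F K) ∘ₗ LinearMap.proj 0 -
      (LinearMap.mul F K θ) ∘ₗ (Algebra.linearMap F K) ∘ₗ LinearMap.proj 1
  have hL₀ : ∀ x : Fin 2 → F, L₀ x = algebraMap F K (x 0) - θ * algebraMap F K (x 1) := by
    intro x
    simp [L₀]
  have hL₀' : ∀ x : Fin 2 → F, L₀ x = algebraMap F K (x 0) + θ * algebraMap F K (-(x 1)) := by
    intro x
    rw [hL₀, map_neg]; ring
  have hbijL : Function.Bijective L₀ := by
    constructor
    · intro x y hxy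
      rw [hL₀', hL₀'] at hxy
      have := hbij.1 (a₁ := (x 0, -(x 1))) (a₂ := (y 0, -(y 1))) hxy
      rw [Prod.ext_iff] at this
      funext r
      fin_cases r
      · exact this.1
      · exact neg_injective this.2
    · intro z
      obtain ⟨⟨s, t⟩, hst⟩ := hbij.2 z
      refine ⟨![s, -t], ?_⟩
      rw [hL₀']
      simpa using hst
  refine ⟨LinearEquiv.ofBijective L₀ hbijL, ?_⟩
  intro x
  apply (algebraMap F K).injective
  rw [algebraMap_norm h2]
  show L₀ x * fr F K (L₀ x) = _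
  rw [hL₀]
  simp only [map_sub, map_mul, AlgEquiv.commutes, fr_theta h2 a b hab θ hθ, map_add, map_pow]
  linear_combination (-(algebraMap F K (x 1)) ^ 2) * hθ

/-- For m odd, the unitary group GU_m(q) (over the field with q² elements) embeds in the orthogonal group O⁻_2m(q) of an elliptic form (Σ_(i<m−1) x_i y_i plus an anisotropic binary form) over the field with q elements (there is an injective homomorphism). -/
theorem result {K F : Type*} [Field K] [Fintype K] [Field F] [Fintype F] {q : ℕ} (hK : Fintype.card K = q ^ 2) (hF : Fintype.card F = q) (m : ℕ) (hm : Odd m) (a b : F) (hab : ∀ z₁ z₂ : F, z₁ ^ 2 + a * z₁ * z₂ + b * z₂ ^ 2 = 0 → z₁ = 0 ∧ z₂ = 0) : ∃ φ : ↥(Cfsg.GU m K q) →* ↥(Cfsg.isometryGroup F (Cfsg.quadFormMinus (m - 1) F a b)), Function.Injective φ := by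
  subst hF
  obtain ⟨k, hk⟩ := hm
  obtain rfl : m = k + k + 1 := by omega
  obtain ⟨ι, θ, hθ⟩ := Cfsg.Agent.S2679.exists_root hK a b hab
  letI : Algebra F K := ι.toAlgebra
  have h2 : Module.finrank F K = 2 := Cfsg.Agent.Lib.Helper45.GUOrth.finrank_eq_two hK
  obtain ⟨L, hL⟩ := exists_L h2 a b hab θ hθ
  exact Cfsg.Agent.Lib.Helper45.GUOrth.gu_embeds_minus k L h2 a b hL

end Cfsg.Agent.S2641
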