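import Cfsg.Statements.S5752
import Cfsg.Agent.Lib.Helper51.TWa
import Cfsg.Agent.Lib.Helper51.TWb
import Cfsg.Agent.Lib.Helper51.TWc

set_option autoImplicit false
open Cfsg

namespace Cfsg.Agent.S5752

open Cfsg.Agent.Lib.Helper51.TWa Cfsg.Agent.Lib.Helper51.TWb Cfsg.Agent.Lib.Helper51.TWc

theorem normalizer_le_of_coatom {G : Type*} [Group G] {M : Subgroup G} (hmax : IsCoatom M)
    (hcore : M.normalCore = ⊥) (X : Subgroup G) (hXM : X ≤ M)
    (hn : M ≤ Subgroup.normalizer (X : Set G)) (hX : X ≠ ⊥) :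
    Subgroup.normalizer (X : Set G) ≤ M := by
  rcases eq_or_lt_of_le hn with h | h
  · exact h.ge
  · exfalso
    have htop : Subgroup.normalizer (X : Set G) = ⊤ := hmax.2 _ h
    have hXn : X.Normal := Subgroup.normalizer_eq_top_iff.1 htop
    have h1 : X ≤ M.normalCore := Subgroup.normal_le_normalCore.2 hXM
    rw [hcore] at h1
    exact hX (eq_bot_iff.2 h1)

/-- A form of the Thompson–Wielandt Theorem on primitive permutation groups. Let G be a finite group and M₁, M₂ two distinct conjugate maximal subgroups of G with trivial core in G; define two descending sequences of subgroups by A₀ = M₁, B₀ = M₂ and, for every i, A_{i+1} = the core in M₁ of A_i ∩ B_i and B_{i+1} = the core in M₂ of A_i ∩ B_i (the core in M of a subgroup Y ≤ M is the largest normal subgroup of M contained in Y). If A₂ and B₂ are both non-trivial, then for some prime p the subgroup generated by A₂ and B₂ is a p-group, and for each j the generalized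 Fitting subgroups of M_j and of its first core (A₁, resp. B₁) are their largest normal p-subgroups. -/
theorem result {G : Type*} [Group G] [Finite G] (M₁ M₂ : Subgroup G) (hmax : IsCoatom M₁) (g : G)
    (hconj : M₂ = M₁.map (MulAut.conj g).toMonoidHom) (hne : M₁ ≠ M₂) (hcore : M₁.normalCore = ⊥)
    (A B : ℕ → Subgroup G) (hA0 : A 0 = M₁) (hB0 : B 0 = M₂)
    (hA : ∀ i, A (i + 1) = ((A i ⊓ B i).subgroupOf M₁).normalCore.map M₁.subtype)
    (hB : ∀ i, B (i + 1) = ((A i ⊓ B i).subgroupOf M₂).normalCore.map M₂.subtype) (hA2 : A 2 ≠ ⊥) (hB2 : B 2 ≠ ⊥) :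
    ∃ p : ℕ, p.Prime ∧ IsPGroup p ↥(A 2 ⊔ B 2) ∧
      Cfsg.generalizedFittingSubgroup ↥M₁ = Cfsg.pCore p ↥M₁ ∧ Cfsg.generalizedFittingSubgroup ↥(A 1) = Cfsg.pCore p ↥(A 1) ∧
      Cfsg.generalizedFittingSubgroup ↥M₂ = Cfsg.pCore p ↥M₂ ∧ Cfsg.generalizedFittingSubgroup ↥(B 1) = Cfsg.pCore p ↥(B 1) := by
  have hmax₂ : IsCoatom M₂ := by
    have h1 := (OrderIso.isCoatom_iff (MulEquiv.mapSubgroup (MulAut.conj g)) M₁).2 hmax
    rw [hconj]
    exact h1
  have hcore₂ : M₂.normalCore = ⊥ := by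
    have h1 : M₂.normalCore ≤ M₁ := by
      intro x hx
      have h2 : g * x * g⁻¹ ∈ M₂ :=
        M₂.normalCore_le ((Subgroup.normalCore_normal M₂).conj_mem x hx g)
      rw [hconj] at h2
      obtain ⟨m, hm, hmx⟩ := h2
      have h3 : g * m * g⁻¹ = g * x * g⁻¹ := by simpa [MulAut.conj_apply] using hmx
      have h4 : m = x := by simpa using h3
      rw [← h4]; exact hm
    have h3 : M₂.normalCore ≤ M₁.normalCore := Subgroup.normal_le_normalCore.2 h1
    rw [hcore] at h3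
    exact eq_bot_iff.2 h3
  have hne1 : ¬ M₂ ≤ M₁ := by
    intro h
    rcases hmax₂.le_iff.1 h with h1 | h1
    · exact hmax.1 h1
    · exact hne h1
  have hne2 : ¬ M₁ ≤ M₂ := by
    intro h
    rcases hmax.le_iff.1 h with h1 | h1
    · exact hmax₂.1 h1
    · exact hne h1.symm
  have hA1 : A 1 = ((M₁ ⊓ M₂).subgroupOf M₁).normalCore.map M₁.subtype := by
    have h := hA 0
    rw [hA0, hB0] at h
    exact h
  have hB1 : B 1 = ((M₁ ⊓ M₂).subgroupOf M₂).normalCore.map M₂.subtype := by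
    have h := hB 0
    rw [hA0, hB0] at h
    exact h
  have c : Cfg M₁ M₂ (A 1) (B 1) (A 2) (B 2) :=
    cfg_of (normalizer_le_of_coatom hmax hcore) (normalizer_le_of_coatom hmax₂ hcore₂) hne1 hne2
      hA1 hB1 (hA 1) (hB 1)
  obtain ⟨i, hiA, hiB⟩ := common c Fam Fam_isFun Fam_comm Fam_nv hA2 hB2
  cases i with
  | none => exact (stepC c EG_isFun EG_enorm hiA hiB).elim
  | some r =>
    have hr : Fact (r : ℕ).Prime := ⟨r.2⟩
    have hvan₁ : ∀ j : Option Nat.Primes, j ≠ some r → Fam j M₁ = ⊥ := fun j hj =>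
      stepB c (Fam_isFun (some r)) (Fam_isFun j) (Fam_comm j (some r) hj) hiA hiB
    have hvan₂ : ∀ j : Option Nat.Primes, j ≠ some r → Fam j M₂ = ⊥ := fun j hj =>
      stepB c.symm (Fam_isFun (some r)) (Fam_isFun j) (Fam_comm j (some r) hj) hiB hiA
    have hvanA : ∀ j : Option Nat.Primes, j ≠ some r → Fam j (A 1) = ⊥ := fun j hj =>
      eq_bot_iff.2 (((Fam_isFun j).mono (A 1) M₁ c.A₁M c.A₁n).trans (le_of_eq (hvan₁ j hj)))
    have hvanB : ∀ j : Option Nat.Primes, j ≠ some r → Fam j (B 1) = ⊥ := fun j hj =>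
      eq_bot_iff.2 (((Fam_isFun j).mono (B 1) M₂ c.B₁M' c.B₁n).trans (le_of_eq (hvan₂ j hj)))
    have hcard : Nat.card (OG (r : ℕ) M₂) = Nat.card (OG (r : ℕ) M₁) := by
      rw [hconj]
      exact card_OG_conj (r : ℕ) M₁ g
    have hQ₂ : OG (r : ℕ) M₂ ≠ ⊥ := by
      intro h
      apply hiB
      rw [eq_bot_iff, ← h]
      exact (OG_isFun (r : ℕ)).mono (B 2) M₂ (c.B₂B.trans c.B₁M') c.B₂n
    have hQ₁ : OG (r : ℕ) M₁ ≠ ⊥ := by
      intro h
      apply hiA
      rw [eq_bot_iff, ← h]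
      exact (OG_isFun (r : ℕ)).mono (A 2) M₁ (c.A₂A.trans c.A₁M) c.A₂n
    have hpA : IsPGroup (r : ℕ) ↥(A 2) :=
      isPGroup_of_pp_eq_bot r.2 (stepD c (OG_isFun (r : ℕ)) (fun X H h1 h2 h3 => le_OG h1 h2 h3)
        (OG_isPGroup (r : ℕ)) (le_of_eq hcard) hQ₂)
    have hpB : IsPGroup (r : ℕ) ↥(B 2) :=
      isPGroup_of_pp_eq_bot r.2 (stepD c.symm (OG_isFun (r : ℕ))
        (fun X H h1 h2 h3 => le_OG h1 h2 h3) (OG_isPGroup (r : ℕ)) (le_of_eq hcard.symm) hQ₁)
    refine ⟨r, r.2, ?_, gfs_eq_of_fam M₁ r hvan₁, gfs_eq_of_fam (A 1) r hvanA,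
      gfs_eq_of_fam M₂ r hvan₂, gfs_eq_of_fam (B 1) r hvanB⟩
    exact IsPGroup.to_sup_of_normal_left' hpA hpB
      ((c.B₂B.trans c.B₁M).trans c.A₂n)

end Cfsg.Agent.S5752
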