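import Cfsg.Statements.S4466
-- import your own Cfsg.Agent.* helpers here
import Mathlib
import Cfsg.Agent.S4465
import Cfsg.Agent.Lib.Helper3.TDBasic
import Cfsg.Agent.Lib.Helper3.Orth
import Cfsg.Agent.Lib.Helper80.Burnside
import Cfsg.Agent.Lib.Helper80.Integrality
import Cfsg.Agent.Lib.CT.Kernel
import Cfsg.Agent.Lib.CT.LinChar
import Cfsg.Agent.Lib.CT.Ops
import Cfsg.Agent.Lib.CT.Wedderburn
import Cfsg.Agent.Lib.Helper78.GaloisPQ
import Cfsg.Agent.Lib.Helper78.HallBig

set_option autoImplicit false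
open Cfsg

namespace Cfsg.Agent.S4466

open Cfsg.Agent.Lib.CT.Kernel Cfsg.Agent.Lib.CT.Wedderburn Cfsg.Agent.Lib.CT.Ops
open scoped ComplexConjugate

universe u

/-- a 2x2 complex matrix of square one and determinant one has trace squared 4 -/
theorem trace_sq_of_involution (A : Matrix (Fin 2) (Fin 2) ℂ) (h1 : A * A = 1) (h2 : A.det = 1) :
    A.trace ^ 2 = 4 := by
  have e00 := congrFun (congrFun h1 0) 0
  have e11 := congrFun (congrFun h1 1) 1
  rw [Matrix.mul_apply, Fin.sum_univ_two] at e00 e11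
  rw [Matrix.det_fin_two] at h2
  rw [Matrix.trace_fin_two]
  simp only [Matrix.one_apply_eq] at e00 e11
  linear_combination e00 + e11 + 2 * h2

/-- In a nonabelian simple group, central elements are trivial. -/
theorem center_trivial {G : Type u} [Group G] [IsSimpleGroup G]
    (hnc : ¬ ∀ a b : G, a * b = b * a) {z : G} (hz : z ∈ Subgroup.center G) : z = 1 := by
  rcases (inferInstance : (Subgroup.center G).Normal).eq_bot_or_eq_top with h | h
  · rw [h] at hz
    exact Subgroup.mem_bot.1 hz
  · exfalso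
    apply hnc
    intro a b
    have ha : a ∈ Subgroup.center G := by rw [h]; exact Subgroup.mem_top a
    exact (Subgroup.mem_center_iff.1 ha b).symm

/-- In a nonabelian simple group, every nontrivial irreducible character is faithful of
degree different from one. -/
theorem faithful_of_ne {G : Type u} [Group G] [Finite G] [IsSimpleGroup G]
    (hnc : ¬ ∀ a b : G, a * b = b * a) (χ : IrrCharacter G)
    (hne : (χ : G → ℂ) ≠ fun _ => 1) :
    (∀ g : G, (χ : G → ℂ) g = (χ : G → ℂ) 1 → g = 1) ∧ charDegree (χ : G → ℂ) ≠ 1 := by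
  classical
  have := Fintype.ofFinite G
  have hχc : IsCharacter G (χ : G → ℂ) := isCharacter_of_irr χ.2
  have h1 : (χ : G → ℂ) 1 = (charDegree (χ : G → ℂ) : ℂ) :=
    Cfsg.Agent.Lib.Helper78.HallBig.apply_one_eq_charDegree hχc
  obtain ⟨N, hN, hmem⟩ := exists_normal_ker hχc
  have hfaith : ∀ g : G, (χ : G → ℂ) g = (χ : G → ℂ) 1 → g = 1 := by
    rcases hN.eq_bot_or_eq_top with h | h
    · intro g hg
      have : g ∈ N := (hmem g).2 hg
      rw [h] at this
      exact Subgroup.mem_bot.1 this
    · exfalso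
      have hall : ∀ g : G, (χ : G → ℂ) g = (χ : G → ℂ) 1 := by
        intro g
        apply (hmem g).1
        rw [h]
        exact Subgroup.mem_top g
      have ho := irr_orthonormal χ χ
      rw [if_pos rfl] at ho
      unfold classInner at ho
      have hs : ∑ g : G, (χ : G → ℂ) g * conj ((χ : G → ℂ) g)
          = (Nat.card G : ℂ) * ((charDegree (χ : G → ℂ) : ℂ) * (charDegree (χ : G → ℂ) : ℂ)) := by
        rw [Finset.sum_congr rfl (fun g _ => by rw [hall g, h1, Complex.conj_natCast])]
        rw [Finset.sum_const, Finset.card_univ, nsmul_eq_mul, Nat.card_eq_fintype_card]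
      rw [hs] at ho
      have hne0 : (Nat.card G : ℂ) ≠ 0 := Nat.cast_ne_zero.mpr Nat.card_pos.ne'
      rw [← mul_assoc, inv_mul_cancel₀ hne0, one_mul] at ho
      have hd : charDegree (χ : G → ℂ) * charDegree (χ : G → ℂ) = 1 := by exact_mod_cast ho
      have hd1 : charDegree (χ : G → ℂ) = 1 := Nat.eq_one_of_mul_eq_one_left hd
      apply hne
      funext g
      rw [hall g, h1, hd1, Nat.cast_one]
  refine ⟨hfaith, ?_⟩
  intro hd
  have h11 : (χ : G → ℂ) 1 = 1 := by rw [h1, hd, Nat.cast_one]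
  apply hnc
  intro a b
  have hn : ‖(χ : G → ℂ) a‖ = ((χ : G → ℂ) 1).re := by
    rw [Cfsg.Agent.Lib.CT.LinChar.linear_norm hχc h11 a, h11, Complex.one_re]
  have ha := mem_center_of_norm_eq hχc hfaith hn
  exact (Subgroup.mem_center_iff.1 ha b).symm

/-- A nonabelian simple group has no faithful irreducible character of degree two. -/
theorem deg_ne_two {G : Type u} [Group G] [Finite G] [IsSimpleGroup G]
    (hnc : ¬ ∀ a b : G, a * b = b * a) (χ : IrrCharacter G)
    (hfaith : ∀ g : G, (χ : G → ℂ) g = (χ : G → ℂ) 1 → g = 1) :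
    charDegree (χ : G → ℂ) ≠ 2 := by
  classical
  intro h2
  have hχc : IsCharacter G (χ : G → ℂ) := isCharacter_of_irr χ.2
  have h1 : (χ : G → ℂ) 1 = (charDegree (χ : G → ℂ) : ℂ) :=
    Cfsg.Agent.Lib.Helper78.HallBig.apply_one_eq_charDegree hχc
  have hdvd : 2 ∣ Nat.card G := by
    have := Cfsg.Agent.Lib.Helper80.Integrality.charDegree_dvd_card χ
    rwa [h2] at this
  have := Fact.mk Nat.prime_two
  obtain ⟨t, ht⟩ := exists_prime_orderOf_dvd_card' 2 hdvd
  obtain ⟨n, ρ, hρ⟩ := hχc
  have hn : n = 2 := by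
    have h3 : (χ : G → ℂ) 1 = (n : ℂ) := by
      rw [← hρ, Representation.char_one, Module.finrank_fin_fun]
    rw [h1, h2] at h3
    exact_mod_cast h3.symm
  subst hn
  let f : G →* ℂ := (LinearMap.det : ((Fin 2 → ℂ) →ₗ[ℂ] (Fin 2 → ℂ)) →* ℂ).comp ρ
  have hf : ∀ g, f g = 1 := by
    let f' : G →* ℂˣ := f.toHomUnits
    rcases (inferInstance : f'.ker.Normal).eq_bot_or_eq_top with h | h
    · exfalso
      apply hnc
      intro a b
      have h3 : f' (a * b) = f' (b * a) := by rw [map_mul, map_mul, mul_comm]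
      exact (MonoidHom.ker_eq_bot_iff f').1 h h3
    · intro g
      have h3 : g ∈ f'.ker := by rw [h]; exact Subgroup.mem_top g
      have h4 : f' g = 1 := MonoidHom.mem_ker.1 h3
      have h5 : ((f' g : ℂˣ) : ℂ) = f g := MonoidHom.coe_toHomUnits f g
      rw [← h5, h4, Units.val_one]
  set A : Matrix (Fin 2) (Fin 2) ℂ := LinearMap.toMatrix' (ρ t) with hA
  have hAA : A * A = 1 := by
    have h3 : ρ t * ρ t = 1 := by
      have h4 : t ^ 2 = 1 := by
        have := pow_orderOf_eq_one t
        rwa [ht] at this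
      rw [← map_mul, ← pow_two, h4, map_one]
    rw [hA, ← LinearMap.toMatrix'_mul, h3, LinearMap.toMatrix'_one]
  have hdet : A.det = 1 := by
    rw [hA, LinearMap.det_toMatrix']
    exact hf t
  have htr : (χ : G → ℂ) t = A.trace := by
    rw [← hρ]
    show LinearMap.trace ℂ _ (ρ t) = _
    rw [LinearMap.trace_eq_matrix_trace ℂ (Pi.basisFun ℂ (Fin 2)), LinearMap.toMatrix_eq_toMatrix']
  have hsq : ((χ : G → ℂ) t) ^ 2 = 4 := by
    rw [htr]
    exact trace_sq_of_involution A hAA hdet
  have hnorm : ‖(χ : G → ℂ) t‖ = ((χ : G → ℂ) 1).re := by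
    have h3 : ‖(χ : G → ℂ) t‖ ^ 2 = 2 ^ 2 := by
      rw [← norm_pow, hsq]
      norm_num
    have h4 : ‖(χ : G → ℂ) t‖ = 2 :=
      (sq_eq_sq₀ (norm_nonneg _) (by norm_num : (0 : ℝ) ≤ 2)).1 h3
    rw [h4, h1, h2]
    norm_num
  have htc := mem_center_of_norm_eq (isCharacter_of_irr χ.2) hfaith hnorm
  have ht1 := center_trivial hnc htc
  rw [ht1, orderOf_one] at ht
  omega

/-- A nonabelian simple group has a nonlinear irreducible character whose degree is not
a prime. -/
theorem simple_false {G : Type u} [Group G] [Finite G] [IsSimpleGroup G]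
    (hnc : ¬ ∀ a b : G, a * b = b * a)
    (h : ∀ χ : IrrCharacter G, charDegree (χ : G → ℂ) ≠ 1 → (charDegree (χ : G → ℂ)).Prime) :
    False := by
  classical
  have := Fintype.ofFinite G
  have : Finite (IrrCharacter G) := finite_irrCharacter G
  have := Fintype.ofFinite (IrrCharacter G)
  let χ₁ : IrrCharacter G := ⟨fun _ => 1, isIrrCharacter_one⟩
  have hF : ∀ χ : IrrCharacter G, χ ≠ χ₁ →
      (∀ g : G, (χ : G → ℂ) g = (χ : G → ℂ) 1 → g = 1) ∧ (charDegree (χ : G → ℂ)).Prime := by
    intro χ hχ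
    have hne : (χ : G → ℂ) ≠ fun _ => 1 := fun e => hχ (Subtype.ext e)
    obtain ⟨hf, hd⟩ := faithful_of_ne hnc χ hne
    exact ⟨hf, h χ hd⟩
  have h1 : ∀ χ : IrrCharacter G, (χ : G → ℂ) 1 = (charDegree (χ : G → ℂ) : ℂ) := fun χ =>
    Cfsg.Agent.Lib.Helper78.HallBig.apply_one_eq_charDegree (isCharacter_of_irr χ.2)
  have horth : ∀ g : G, g ≠ 1 →
      1 + ∑ χ ∈ Finset.univ.erase χ₁, (χ : G → ℂ) g * (charDegree (χ : G → ℂ) : ℂ) = 0 := by
    intro g hg
    have h2 := Cfsg.Agent.Lib.Helper3.Orth.second_orthogonality_sum g (1 : G)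
    rw [if_neg (by rw [isConj_one_left]; exact hg)] at h2
    rw [← Finset.add_sum_erase Finset.univ _ (Finset.mem_univ χ₁)] at h2
    have h3 : ((χ₁ : G → ℂ) g) * conj ((χ₁ : G → ℂ) 1) = 1 := by
      show (1 : ℂ) * conj (1 : ℂ) = 1
      simp
    rw [h3] at h2
    rw [← h2]
    congr 1
    apply Finset.sum_congr rfl
    intro χ _
    rw [h1 χ, Complex.conj_natCast]
  obtain ⟨g₀, hg₀⟩ := exists_ne (1 : G)
  have hne' : (Finset.univ.erase χ₁).Nonempty := by
    by_contra hcon
    rw [Finset.not_nonempty_iff_eq_empty] at hcon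
    have h2 := horth g₀ hg₀
    rw [hcon, Finset.sum_empty, add_zero] at h2
    exact one_ne_zero h2
  obtain ⟨χ₀, hχ₀mem, hmin⟩ := Finset.exists_min_image (Finset.univ.erase χ₁)
    (fun χ : IrrCharacter G => charDegree (χ : G → ℂ)) hne'
  have hχ₀ : χ₀ ≠ χ₁ := Finset.ne_of_mem_erase hχ₀mem
  obtain ⟨hfaith₀, hp⟩ := hF χ₀ hχ₀
  set p := charDegree (χ₀ : G → ℂ) with hpdef
  have hp2 : p ≠ 2 := deg_ne_two hnc χ₀ hfaith₀
  obtain ⟨A, hAb, hA1, hA2⟩ := Cfsg.Agent.S4465.result (χ₀ : G → ℂ) (isCharacter_of_irr χ₀.2)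
    hfaith₀ p rfl
  have hbig : ∀ χ : IrrCharacter G, χ ≠ χ₁ → charDegree (χ : G → ℂ) ≠ p →
      p + 1 < charDegree (χ : G → ℂ) := by
    intro χ hχ hd
    have hle : p ≤ charDegree (χ : G → ℂ) := hmin χ (Finset.mem_erase.2 ⟨hχ, Finset.mem_univ χ⟩)
    have hdp := (hF χ hχ).2
    have hodd : Odd p := hp.odd_of_ne_two hp2
    have hne1 : charDegree (χ : G → ℂ) ≠ p + 1 := by
      intro e
      rw [e] at hdp
      have hev : Even (p + 1) := hodd.add_one
      have := (Nat.Prime.even_iff hdp).1 hev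
      have := hp.two_le
      omega
    omega
  have hgood : ∃ g : G, g ≠ 1 ∧ ∀ χ : IrrCharacter G, χ ≠ χ₁ → charDegree (χ : G → ℂ) ≠ p →
      (χ : G → ℂ) g = 0 := by
    by_cases hcA : Nat.card A = 1
    · refine ⟨g₀, hg₀, ?_⟩
      intro χ hχ hd
      exfalso
      have h2 := hbig χ hχ hd
      have h3 := Cfsg.Agent.Lib.Helper80.Integrality.charDegree_dvd_card χ
      have h4 := Subgroup.card_mul_index A
      rw [hcA, one_mul] at h4
      rw [← h4] at h3
      have := hA2 _ (hF χ hχ).2 h3
      omega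
    · obtain ⟨q, hq, hqd⟩ := Nat.exists_prime_and_dvd hcA
      have := Fact.mk hq
      obtain ⟨a, ha⟩ := exists_prime_orderOf_dvd_card' (G := A) q hqd
      have hane : (a : G) ≠ 1 := by
        intro e
        have : a = 1 := Subtype.ext e
        rw [this, orderOf_one] at ha
        exact hq.one_lt.ne ha
      refine ⟨(a : G), hane, ?_⟩
      intro χ hχ hd
      have h2 := hbig χ hχ hd
      have hle : A ≤ Subgroup.centralizer ({(a : G)} : Set G) := by
        intro x hx
        rw [Subgroup.mem_centralizer_iff]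
        intro y hy
        rw [Set.mem_singleton_iff] at hy
        rw [hy]
        exact hAb _ a.2 _ hx
      have hdvd := Subgroup.index_dvd_of_le hle
      have hcop : Nat.Coprime (charDegree (χ : G → ℂ))
          (Subgroup.centralizer ({(a : G)} : Set G)).index := by
        rw [Nat.Prime.coprime_iff_not_dvd (hF χ hχ).2]
        intro h3
        have := hA2 _ (hF χ hχ).2 (h3.trans hdvd)
        omega
      rcases Cfsg.Agent.Lib.Helper80.Burnside.irr_eq_zero_or_norm_eq_of_coprime χ (a : G) hcop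
        with h3 | h3
      · exact h3
      · exfalso
        have h4 := mem_center_of_norm_eq (isCharacter_of_irr χ.2) (hF χ hχ).1 h3
        exact hane (center_trivial hnc h4)
  obtain ⟨g, hg, hgz⟩ := hgood
  have h2 := horth g hg
  set α : ℂ := ∑ χ ∈ Finset.univ.erase χ₁,
    (if charDegree (χ : G → ℂ) = p then (χ : G → ℂ) g else 0) with hα
  have hαint : IsIntegral ℤ α := by
    apply IsIntegral.sum
    intro χ _
    split_ifs
    · exact Cfsg.Agent.Lib.Helper80.Integrality.isIntegral_irrCharacter χ g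
    · exact isIntegral_zero
  have h3 : ∑ χ ∈ Finset.univ.erase χ₁, (χ : G → ℂ) g * (charDegree (χ : G → ℂ) : ℂ)
      = (p : ℂ) * α := by
    rw [hα, Finset.mul_sum]
    apply Finset.sum_congr rfl
    intro χ hχ
    have hχ' : χ ≠ χ₁ := Finset.ne_of_mem_erase hχ
    by_cases hd : charDegree (χ : G → ℂ) = p
    · rw [if_pos hd, hd, mul_comm]
    · rw [if_neg hd, hgz χ hχ' hd, zero_mul, mul_zero]
  rw [h3] at h2
  have hp0 : (p : ℂ) ≠ 0 := Nat.cast_ne_zero.mpr hp.pos.ne'
  have h4 : α = ((-(1 : ℚ) / (p : ℚ) : ℚ) : ℂ) := by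
    push_cast
    field_simp
    linear_combination h2
  rw [h4] at hαint
  obtain ⟨z, hz⟩ := Cfsg.Agent.Lib.Helper78.GaloisPQ.int_of_integral_rat _ hαint
  have hp0' : (p : ℚ) ≠ 0 := Nat.cast_ne_zero.mpr hp.pos.ne'
  have h5 : (z : ℚ) * (p : ℚ) = -1 := by
    rw [← hz]
    field_simp
  have h6 : z * (p : ℤ) = -1 := by exact_mod_cast h5
  have h7 : (p : ℤ) ∣ 1 := ⟨-z, by linarith⟩
  have h8 : p ∣ 1 := by exact_mod_cast h7
  have := Nat.le_of_dvd one_pos h8
  have := hp.two_le
  omega

/-- Induction on the order. -/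
theorem main : ∀ (n : ℕ) (G : Type u) [Group G] [Finite G], Nat.card G = n →
    (∀ χ : IrrCharacter G, charDegree (χ : G → ℂ) ≠ 1 → (charDegree (χ : G → ℂ)).Prime) →
    Group.IsSolvable G := by
  intro n
  induction n using Nat.strong_induction_on with
  | _ n ih =>
    intro G _ _ hn h
    by_cases hex : ∃ N : Subgroup G, N.Normal ∧ N ≠ ⊥ ∧ N ≠ ⊤
    · obtain ⟨N, hN, hbot, htop⟩ := hex
      have hcN : 1 < Nat.card N := by
        have h1 : Nat.card N ≠ 1 := fun e => hbot (Subgroup.card_eq_one.1 e)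
        have h2 : 0 < Nat.card N := Nat.card_pos
        omega
      have hidx : 1 < N.index := by
        have h1 : N.index ≠ 1 := fun e => htop (Subgroup.index_eq_one.1 e)
        have h2 : N.index ≠ 0 := Subgroup.index_ne_zero_of_finite
        omega
      have hmul := Subgroup.card_mul_index N
      have hlt1 : Nat.card N < n := by
        rw [← hn, ← hmul]
        nlinarith
      have hlt2 : Nat.card (G ⧸ N) < n := by
        rw [← Subgroup.index_eq_card, ← hn, ← hmul]
        nlinarith
      have hsN : Group.IsSolvable N := by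
        apply ih _ hlt1 N rfl
        intro θ hθ
        have := Fintype.ofFinite N
        obtain ⟨χ, -, hdvd, -⟩ := Cfsg.Agent.Lib.Helper3.TDBasic.exists_over N θ
        by_cases hχ : charDegree (χ : G → ℂ) = 1
        · rw [hχ] at hdvd
          exact absurd (Nat.dvd_one.1 hdvd) hθ
        · have hpr := h χ hχ
          rcases (Nat.dvd_prime hpr).1 hdvd with e | e
          · exact absurd e hθ
          · rw [e]
            exact hpr
      have hsQ : Group.IsSolvable (G ⧸ N) := by
        apply ih _ hlt2 (G ⧸ N) rfl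
        intro ψ hψ
        exact h ⟨fun g : G => (ψ : G ⧸ N → ℂ) (g : G ⧸ N), isIrrCharacter_inflation N ψ.2⟩ hψ
      exact Group.isSolvable_of_ker_le_range N.subtype (QuotientGroup.mk' N) (by simp)
    · push Not at hex
      by_cases hsub : Subsingleton G
      · exact Group.isSolvable_of_comm (fun a b => Subsingleton.elim _ _)
      · have hnt : Nontrivial G := not_subsingleton_iff_nontrivial.1 hsub
        have hsimple : IsSimpleGroup G :=
          { exists_pair_ne := hnt.exists_pair_ne
            eq_bot_or_eq_top_of_normal := by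
              intro N hN
              by_contra hc
              push Not at hc
              exact hc.2 (hex N hN hc.1) }
        by_cases hc : ∀ a b : G, a * b = b * a
        · exact Group.isSolvable_of_comm hc
        · exact (simple_false hc h).elim

/-- If every irreducible character of the finite group G of degree greater than one has prime degree, then G is solvable. -/
theorem result {G : Type*} [Group G] [Finite G] (h : ∀ χ : Cfsg.IrrCharacter G, Cfsg.charDegree (χ : G → ℂ) ≠ 1 → (Cfsg.charDegree (χ : G → ℂ)).Prime) : Group.IsSolvable G := by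
  exact main _ G rfl h

end Cfsg.Agent.S4466
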