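import Cfsg.Statements.S4518
import Cfsg.Agent.Lib.Helper81.CliffCorr
import Cfsg.Agent.Lib.Helper76.GaloisConj

set_option autoImplicit false
open Cfsg

namespace Cfsg.Agent.S4518

open Cfsg.Agent.Lib.Helper81.Irr Cfsg.Agent.Lib.Helper81.Basic Cfsg.Agent.Lib.Helper81.Expand
  Cfsg.Agent.Lib.Helper81.Mult Cfsg.Agent.Lib.Helper81.Cliff Cfsg.Agent.Lib.Helper81.CliffCorr

universe u

/-- The Galois conjugate `n ↦ θ (n ^ k)` of an irreducible character, for `k` coprime to the
group order. -/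
noncomputable def powI {H : Type u} [Group H] [Finite H] (k : ℕ) (hk : k.Coprime (Nat.card H))
    (θ : IrrCharacter H) : IrrCharacter H :=
  ⟨fun n => θ.1 (n ^ k), Cfsg.Agent.Lib.Helper76.GaloisConj.isIrrCharacter_pow θ.2 k hk⟩

theorem powI_apply {H : Type u} [Group H] [Finite H] (k : ℕ) (hk : k.Coprime (Nat.card H))
    (θ : IrrCharacter H) (n : H) : (powI k hk θ).1 n = θ.1 (n ^ k) := rfl

/-- Galois conjugation commutes with conjugation by group elements. -/
theorem powI_conjI {G : Type u} [Group G] (N : Subgroup G) [N.Normal] [Finite ↥N] (k : ℕ)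
    (hk : k.Coprime (Nat.card ↥N)) (g : G) (θ : IrrCharacter ↥N) :
    powI k hk (conjI N g θ) = conjI N g (powI k hk θ) := by
  apply Subtype.ext
  funext n
  rw [powI_apply, conjI_apply, conjI_apply, powI_apply, map_pow]

/-- If `χ` is fixed by the power map, the multiplicities of its restriction are invariant under
Galois conjugation. -/
theorem multC_res_powI {G : Type u} [Group G] (N : Subgroup G) [Fintype ↥N] (k : ℕ)
    (hk : k.Coprime (Nat.card ↥N)) (χ : G → ℂ) (hχ : ∀ g : G, χ (g ^ k) = χ g)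
    (θ : IrrCharacter ↥N) :
    multC (res N χ) (powI k hk θ) = multC (res N χ) θ := by
  rw [multC_def, multC_def]
  congr 1
  rw [← Equiv.sum_comp (powCoprime hk.symm) (fun n => res N χ n * θ.1 n⁻¹)]
  apply Finset.sum_congr rfl
  intro n _
  rw [powCoprime_apply, res_apply, res_apply, powI_apply, inv_pow]
  congr 1
  rw [Subgroup.coe_pow, hχ]

theorem result {G : Type*} [Group G] [Fintype G] (p : ℕ) [Fact p.Prime] (N : Subgroup G) [N.Normal] [Fintype N] (hidx : ¬ p ∣ N.index) (k e : ℕ) (hk : Nat.Coprime k (Nat.card G)) (hke : k ^ (p ^ e) ≡ 1 [MOD Nat.card G]) (χ : Cfsg.IrrCharacter G) (hχ : ∀ g : G, (χ : G → ℂ) (g ^ k) = (χ : G → ℂ) g) (θ : Cfsg.IrrCharacter N) (hθ : Cfsg.classInner (fun n : N => (χ : G → ℂ) n) (θ : N → ℂ) ≠ 0) : ∀ n : N, (θ : N → ℂ) (n ^ k) = (θ : N → ℂ) n := by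
  classical
  have : Finite (IrrCharacter G) := finite_irr
  have : Finite (IrrCharacter ↥N) := finite_irr
  let _ : Fintype (IrrCharacter G) := Fintype.ofFinite _
  let _ : Fintype (IrrCharacter ↥N) := Fintype.ofFinite _
  have hkN : k.Coprime (Nat.card ↥N) :=
    Nat.Coprime.coprime_dvd_right (Subgroup.card_subgroup_dvd_card N) hk
  have hpe : 1 ≤ p ^ e := Nat.one_le_pow _ _ (Fact.out : p.Prime).pos
  set kinv : ℕ := k ^ (p ^ e - 1) with hkinv
  have hkinvN : kinv.Coprime (Nat.card ↥N) := Nat.Coprime.pow_left _ hkN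
  have hkk : kinv * k = k ^ (p ^ e) := by
    rw [hkinv, ← pow_succ, Nat.sub_add_cancel hpe]
  have hpow1 : ∀ n : ↥N, n ^ (k ^ (p ^ e)) = n := by
    intro n
    have h1 : k ^ (p ^ e) ≡ 1 [MOD orderOf n] :=
      hke.of_dvd ((orderOf_dvd_natCard n).trans (Subgroup.card_subgroup_dvd_card N))
    have h2 := (pow_eq_pow_iff_modEq (x := n)).2 h1
    rw [h2, pow_one]
  -- the permutation induced by the power map
  let σ : Equiv.Perm (IrrCharacter ↥N) :=
    { toFun := powI k hkN
      invFun := powI kinv hkinvN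
      left_inv := by
        intro ϑ
        apply Subtype.ext
        funext n
        rw [powI_apply, powI_apply, ← pow_mul, hkk, hpow1]
      right_inv := by
        intro ϑ
        apply Subtype.ext
        funext n
        rw [powI_apply, powI_apply, ← pow_mul, mul_comm, hkk, hpow1] }
  have hσ : ∀ ϑ, σ ϑ = powI k hkN ϑ := fun ϑ => rfl
  have hσpow : ∀ (j : ℕ) (ϑ : IrrCharacter ↥N) (n : ↥N), ((σ ^ j) ϑ).1 n = ϑ.1 (n ^ (k ^ j)) := by
    intro j
    induction j with
    | zero => intro ϑ n; simp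
    | succ j ih =>
      intro ϑ n
      rw [pow_succ, Equiv.Perm.mul_apply, ih, hσ, powI_apply, ← pow_mul, pow_succ]
  have hσpe : σ ^ p ^ e = 1 := by
    ext ϑ : 1
    apply Subtype.ext
    funext n
    rw [hσpow, hpow1, Equiv.Perm.one_apply]
  -- the set of constituents
  have hconj : ∀ g h : G, χ.1 (h * g * h⁻¹) = χ.1 g := irr_conj χ
  have hθ' : multC (res N χ.1) θ ≠ 0 := by
    intro h0
    apply hθ
    unfold classInner
    rw [multC_def] at h0
    rw [← h0]
    congr 1
    apply Finset.sum_congr rfl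
    intro n _
    rw [res_apply, Cfsg.Agent.Lib.CT.Wedderburn.char_apply_inv (irr_isCharacter θ)]
  let P : IrrCharacter ↥N → Prop := fun ϑ => multC (res N χ.1) ϑ ≠ 0
  have hP : ∀ ϑ, P (σ ϑ) ↔ P ϑ := by
    intro ϑ
    show multC (res N χ.1) (σ ϑ) ≠ 0 ↔ multC (res N χ.1) ϑ ≠ 0
    rw [hσ, multC_res_powI N k hkN χ.1 hχ]
  let τ : Equiv.Perm {ϑ // P ϑ} := σ.subtypePerm hP
  have hτ : τ ^ p ^ e = 1 := by
    show (σ.subtypePerm hP) ^ p ^ e = 1
    rw [Equiv.Perm.subtypePerm_pow]
    ext ϑ : 2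
    simp [hσpe]
  -- cardinality
  have hcard : Fintype.card {ϑ // P ϑ} = (orb N θ).card := by
    apply Fintype.card_of_subtype
    intro ϑ
    rw [mem_orb]
    constructor
    · rintro ⟨g, rfl⟩
      show multC (res N χ.1) (conjI N g θ) ≠ 0
      rw [multC_res_conjI N χ.1 hconj]
      exact hθ'
    · intro h
      exact clifford_conj N χ θ ϑ hθ' h
  let _ := conjAct N
  have horb : (orb N θ).card = (MulAction.stabilizer G θ).index :=
    orb_card N θ (MulAction.stabilizer G θ) (fun g => by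
      rw [MulAction.mem_stabilizer_iff]; rfl)
  have hle : N ≤ MulAction.stabilizer G θ := by
    intro g hg
    rw [MulAction.mem_stabilizer_iff]
    exact conjI_of_mem N g hg θ
  have hnd : ¬ p ∣ Fintype.card {ϑ // P ϑ} := by
    rw [hcard, horb]
    intro h
    exact hidx (h.trans (Subgroup.index_dvd_of_le hle))
  obtain ⟨⟨ϑ₀, hϑ₀⟩, hfix⟩ := Equiv.Perm.exists_fixed_point_of_prime hnd hτ
  have hfix' : σ ϑ₀ = ϑ₀ := congrArg Subtype.val hfix
  obtain ⟨g, hg⟩ := clifford_conj N χ ϑ₀ θ hϑ₀ hθ'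
  have hfin : σ θ = θ := by
    rw [← hg, hσ, powI_conjI, ← hσ, hfix']
  intro n
  have := congrFun (congrArg Subtype.val hfin) n
  exact this

end Cfsg.Agent.S4518
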