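import Cfsg.Statements.S4873
import Cfsg.Agent.Lib.Helper81.OddIndex

set_option autoImplicit false
open Cfsg

namespace Cfsg.Agent.S4873

open Cfsg.Agent.Lib.Helper81.Irr Cfsg.Agent.Lib.Helper81.Basic Cfsg.Agent.Lib.Helper81.Expand
  Cfsg.Agent.Lib.Helper81.Mult Cfsg.Agent.Lib.Helper81.Cliff Cfsg.Agent.Lib.Helper81.OddIndex
open Cfsg.Agent.Lib.CT.FSInd

universe u

variable {G : Type u} [Group G]

/-- Multiplicity of the trivial character in a product of two irreducible characters, the second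
one invariant under inversion. -/
theorem mult_mul_triv [Fintype G] (χ₁ χ₂ : IrrCharacter G) (h2 : ∀ g, χ₂.1 g⁻¹ = χ₂.1 g) :
    multC (χ₁.1 * χ₂.1) (trivChar G) = if χ₁ = χ₂ then 1 else 0 := by
  rw [← multC_irr χ₁ χ₂, multC_def, multC_def]
  congr 1
  apply Finset.sum_congr rfl
  intro g _
  simp [trivChar, h2]

/-- Multiplicity of the trivial character in the restriction of a product, by Parseval. -/
theorem mult_res_mul_triv (N : Subgroup G) [Fintype ↥N] [Fintype (IrrCharacter ↥N)]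
    (χ₁ χ₂ : IrrCharacter G) (h2 : ∀ g, χ₂.1 g⁻¹ = χ₂.1 g) :
    multC (res N (χ₁.1 * χ₂.1)) (trivChar ↥N) =
      ∑ θ : IrrCharacter ↥N, multC (res N χ₁.1) θ * multC (res N χ₂.1) θ := by
  rw [← parseval (res N χ₁.1) (res N χ₂.1) (by
    intro g h
    simp only [res_apply, Subgroup.coe_mul, Subgroup.coe_inv]
    exact irr_conj χ₁ _ _), multC_def]
  congr 1
  apply Finset.sum_congr rfl
  intro n _
  simp [trivChar, res_apply, h2]

/-- Clifford: the sum over the irreducible characters of `N` of the products of multiplicities in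
two irreducible characters lying over `φ`. -/
theorem clifford_sum (N : Subgroup G) [N.Normal] [Fintype G] [Fintype ↥N]
    [Fintype (IrrCharacter G)] [Fintype (IrrCharacter ↥N)] [DecidableEq (IrrCharacter ↥N)]
    (φ : IrrCharacter ↥N) (χ₁ χ₂ : IrrCharacter G)
    (h1 : multC (res N χ₁.1) φ ≠ 0) :
    ∑ θ : IrrCharacter ↥N, multC (res N χ₁.1) θ * multC (res N χ₂.1) θ =
      (((Finset.univ.filter (fun θ : IrrCharacter ↥N => ∃ g : G, conjI N g φ = θ)).card *
        (mult (res N χ₁.1) φ * mult (res N χ₂.1) φ) : ℕ) : ℂ) := by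
  classical
  have hterm : ∀ θ : IrrCharacter ↥N, multC (res N χ₁.1) θ * multC (res N χ₂.1) θ =
      if (∃ g : G, conjI N g φ = θ) then
        ((mult (res N χ₁.1) φ * mult (res N χ₂.1) φ : ℕ) : ℂ) else 0 := by
    intro θ
    split_ifs with hθ
    · obtain ⟨g, rfl⟩ := hθ
      rw [multC_res_conjI N χ₁.1 (irr_conj χ₁) g φ, multC_res_conjI N χ₂.1 (irr_conj χ₂) g φ,
        Nat.cast_mul, mult_cast (isCharacter_res N (irr_isCharacter χ₁)),
        mult_cast (isCharacter_res N (irr_isCharacter χ₂))]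
    · have : multC (res N χ₁.1) θ = 0 := by
        by_contra hne
        exact hθ (clifford_conj N χ₁ φ θ h1 hne)
      rw [this, zero_mul]
  rw [Finset.sum_congr rfl (fun θ _ => hterm θ), ← Finset.sum_filter, Finset.sum_const,
    nsmul_eq_mul]
  push_cast
  congr 2

/-- Among the irreducible characters of `G` invariant under inversion, at most one lies over a
given irreducible character of a normal subgroup of odd index. -/
theorem unique_real_over (N : Subgroup G) [N.Normal] [Fintype G] [Fintype ↥N]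
    [Fintype (IrrCharacter G)] [Fintype (IrrCharacter ↥N)] (hodd : Odd N.index)
    (φ : IrrCharacter ↥N) (χ₁ χ₂ : IrrCharacter G)
    (hr1 : ∀ g, χ₁.1 g⁻¹ = χ₁.1 g) (hr2 : ∀ g, χ₂.1 g⁻¹ = χ₂.1 g)
    (h1 : multC (res N χ₁.1) φ ≠ 0) (h2 : multC (res N χ₂.1) φ ≠ 0) : χ₁ = χ₂ := by
  classical
  have hchar : ∀ a b : IrrCharacter G, IsCharacter G (a.1 * b.1) := fun a b =>
    Cfsg.Agent.Lib.CT.Ops.isCharacter_mul (irr_isCharacter a) (irr_isCharacter b)
  have hrealmul : ∀ a b : IrrCharacter G, (∀ g, a.1 g⁻¹ = a.1 g) → (∀ g, b.1 g⁻¹ = b.1 g) →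
      ∀ g, (a.1 * b.1) g⁻¹ = (a.1 * b.1) g := by
    intro a b ha hb g
    simp [ha, hb]
  -- the general parity statement
  have key : ∀ a b : IrrCharacter G, (∀ g, a.1 g⁻¹ = a.1 g) → (∀ g, b.1 g⁻¹ = b.1 g) →
      multC (res N a.1) φ ≠ 0 →
      ((Finset.univ.filter (fun θ : IrrCharacter ↥N => ∃ g : G, conjI N g φ = θ)).card *
        (mult (res N a.1) φ * mult (res N b.1) φ)) % 2 = (if a = b then 1 else 0) := by
    intro a b ha hb hab
    have hp := parity_res N hodd (hchar a b) (hrealmul a b ha hb)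
    have e1 : mult (res N (a.1 * b.1)) (trivChar ↥N) =
        (Finset.univ.filter (fun θ : IrrCharacter ↥N => ∃ g : G, conjI N g φ = θ)).card *
        (mult (res N a.1) φ * mult (res N b.1) φ) := by
      have : ((mult (res N (a.1 * b.1)) (trivChar ↥N) : ℕ) : ℂ) =
          (((Finset.univ.filter (fun θ : IrrCharacter ↥N => ∃ g : G, conjI N g φ = θ)).card *
            (mult (res N a.1) φ * mult (res N b.1) φ) : ℕ) : ℂ) := by
        rw [mult_cast (isCharacter_res N (hchar a b)), mult_res_mul_triv N a b hb,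
          clifford_sum N φ a b hab]
      exact_mod_cast this
    have e2 : mult (a.1 * b.1) (trivChar G) = if a = b then 1 else 0 := by
      have : ((mult (a.1 * b.1) (trivChar G) : ℕ) : ℂ) = ((if a = b then 1 else 0 : ℕ) : ℂ) := by
        rw [mult_cast (hchar a b), mult_mul_triv a b hb]
        split_ifs <;> simp
      exact_mod_cast this
    rw [e1, e2] at hp
    rw [hp]
    split_ifs <;> rfl
  by_contra hne
  have k11 := key χ₁ χ₁ hr1 hr1 h1
  have k22 := key χ₂ χ₂ hr2 hr2 h2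
  have k12 := key χ₁ χ₂ hr1 hr2 h1
  rw [if_pos rfl] at k11 k22
  rw [if_neg hne] at k12
  have o11 := Nat.odd_iff.mpr k11
  have o22 := Nat.odd_iff.mpr k22
  have e12 := Nat.even_iff.mpr k12
  rw [Nat.odd_mul, Nat.odd_mul] at o11 o22
  rw [Nat.even_mul, Nat.even_mul] at e12
  rcases e12 with h | h | h
  · exact (Nat.not_even_iff_odd.mpr o11.1) h
  · exact (Nat.not_even_iff_odd.mpr o11.2.1) h
  · exact (Nat.not_even_iff_odd.mpr o22.2.1) h

/-- Existence of a constituent with indicator one. -/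
theorem exists_fsInd_one [Fintype G] [Fintype (IrrCharacter G)] {Ψ : G → ℂ}
    (hΨ : IsCharacter G Ψ) (h1 : fsInd Ψ = 1) :
    ∃ χ : IrrCharacter G, fsInd χ.1 = 1 ∧ multC Ψ χ ≠ 0 := by
  classical
  by_contra hcon
  push Not at hcon
  have h2 := fsInd_expand hΨ
  rw [h1] at h2
  have h3 : ∀ χ : IrrCharacter G, ∃ b : ℕ, (mult Ψ χ : ℂ) * fsInd χ.1 = -(b : ℂ) := by
    intro χ
    rcases fsInd_trichotomy' χ.2 with h | h | h
    · exact ⟨0, by rw [h]; simp⟩
    · refine ⟨0, ?_⟩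
      have := hcon χ h
      rw [mult_cast hΨ, this]
      simp
    · exact ⟨mult Ψ χ, by rw [h]; ring⟩
  choose b hb using h3
  rw [Finset.sum_congr rfl (fun χ _ => hb χ), Finset.sum_neg_distrib, ← Nat.cast_sum] at h2
  have h4 := congrArg Complex.re h2
  simp only [Complex.one_re, Complex.neg_re, Complex.natCast_re] at h4
  have h5 : (0 : ℝ) ≤ ((∑ χ : IrrCharacter G, b χ : ℕ) : ℝ) := Nat.cast_nonneg _
  linarith

/-- Let N be a normal subgroup of odd index in the finite group G. Then every irreducible complex character of N with Frobenius–Schur indicator +1 lies under exactly one irreducible character of G with Frobenius–Schur indicator +1. -/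
theorem result {G : Type*} [Group G] [Finite G] (N : Subgroup G) [N.Normal] (hodd : Odd N.index) (φ : Cfsg.IrrCharacter ↥N) (hφ : (Nat.card ↥N : ℂ)⁻¹ * ∑ᶠ g : ↥N, (φ : ↥N → ℂ) (g * g) = 1) : ∃! χ : Cfsg.IrrCharacter G, (Nat.card G : ℂ)⁻¹ * ∑ᶠ g : G, (χ : G → ℂ) (g * g) = 1 ∧ (∑ᶠ n : ↥N, (χ : G → ℂ) n * (starRingEnd ℂ) ((φ : ↥N → ℂ) n)) ≠ 0 := by
  classical
  cases nonempty_fintype G
  haveI : Fintype ↥N := Fintype.ofFinite _
  have := finite_irr (G := G)
  cases nonempty_fintype (IrrCharacter G)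
  have := finite_irr (G := ↥N)
  cases nonempty_fintype (IrrCharacter ↥N)
  have key1 : ∀ χ : IrrCharacter G,
      (Nat.card G : ℂ)⁻¹ * ∑ᶠ g : G, (χ : G → ℂ) (g * g) = fsInd χ.1 := by
    intro χ
    rw [finsum_eq_sum_of_fintype]
    rfl
  have key2 : ∀ χ : IrrCharacter G,
      ∑ᶠ n : ↥N, (χ : G → ℂ) n * (starRingEnd ℂ) ((φ : ↥N → ℂ) n) =
        (Nat.card ↥N : ℂ) * multC (res N χ.1) φ := by
    intro χ
    rw [finsum_eq_sum_of_fintype, multC_def, ← mul_assoc, mul_inv_cancel₀ card_ne_zero, one_mul]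
    apply Finset.sum_congr rfl
    intro n _
    rw [res_apply, Cfsg.Agent.Lib.CT.Wedderburn.char_apply_inv (irr_isCharacter φ)]
  have key3 : ∀ χ : IrrCharacter G,
      (∑ᶠ n : ↥N, (χ : G → ℂ) n * (starRingEnd ℂ) ((φ : ↥N → ℂ) n)) ≠ 0 ↔
        multC (res N χ.1) φ ≠ 0 := by
    intro χ
    rw [key2]
    exact ⟨fun h h0 => h (by rw [h0, mul_zero]), fun h => mul_ne_zero card_ne_zero h⟩
  have hφ' : fsInd φ.1 = 1 := by
    rw [← hφ, finsum_eq_sum_of_fintype]
    rfl
  have hΨ : IsCharacter G (indFun N φ.1) :=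
    Cfsg.Agent.Lib.CT.IndChar.isCharacter_indFun N φ.1 (irr_isCharacter φ)
  obtain ⟨χ, hχ1, hχ2⟩ := exists_fsInd_one hΨ (by rw [fsInd_indFun N hodd, hφ'])
  rw [multC_indFun] at hχ2
  refine ⟨χ, ⟨by rw [key1]; exact hχ1, (key3 χ).mpr hχ2⟩, ?_⟩
  rintro ψ ⟨hψ1, hψ2⟩
  rw [key1] at hψ1
  rw [key3] at hψ2
  have hrψ : ∀ g, ψ.1 g⁻¹ = ψ.1 g :=
    (fsInd_ne_zero_iff' ψ.2).mp (by rw [hψ1]; exact one_ne_zero)
  have hrχ : ∀ g, χ.1 g⁻¹ = χ.1 g :=
    (fsInd_ne_zero_iff' χ.2).mp (by rw [hχ1]; exact one_ne_zero)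
  exact unique_real_over N hodd φ ψ χ hrψ hrχ hψ2 hχ2

end Cfsg.Agent.S4873
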