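import Cfsg.Statements.S4519
import Cfsg.Agent.Lib.Helper82.OddGal
import Cfsg.Agent.Lib.Helper82.OddGalExt

set_option autoImplicit false
open Cfsg

namespace Cfsg.Agent.S4519

open Cfsg.Agent.Lib.Helper81.Irr Cfsg.Agent.Lib.Helper81.Basic Cfsg.Agent.Lib.Helper81.Expand
  Cfsg.Agent.Lib.Helper81.Mult Cfsg.Agent.Lib.Helper81.Cliff
open Cfsg.Agent.Lib.Helper82.OddGal Cfsg.Agent.Lib.Helper82.OddGalExt

/-- Let N be a normal subgroup of odd index in the finite group G, and let k be coprime to the order of G with k ^ (2 ^ e) ≡ 1 modulo the order of G for some e and g ^ k = g⁻¹ for every element g of odd order (so g ↦ g ^ k induces a field automorphism of 2-power order inverting the roots of unity of odd order). If an irreducible character θ of N satisfies θ (n ^ k) = θ n for all n, then there is exactly one irreducible character χ of G with θ a constituent of its restriction to N and χ (g ^ k) = χ g for all g; moreover, if θ is invariant under conjugation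 by G, that χ restricts to θ. -/
theorem result {G : Type*} [Group G] [Fintype G] (N : Subgroup G) [hN : N.Normal] [Fintype N] (hidx : Odd N.index) (k e : ℕ) (hk : Nat.Coprime k (Nat.card G)) (hke : k ^ (2 ^ e) ≡ 1 [MOD Nat.card G]) (hk₂ : ∀ g : G, Odd (orderOf g) → g ^ k = g⁻¹) (θ : Cfsg.IrrCharacter N) (hθ : ∀ n : N, (θ : N → ℂ) (n ^ k) = (θ : N → ℂ) n) : ∃ χ : Cfsg.IrrCharacter G, (Cfsg.classInner (fun n : N => (χ : G → ℂ) n) (θ : N → ℂ) ≠ 0 ∧ (∀ g : G, (χ : G → ℂ) (g ^ k) = (χ : G → ℂ) g) ∧ ((∀ g : G, ∀ n : N, (θ : N → ℂ) ⟨g * n * g⁻¹, hN.conj_mem n n.2 g⟩ = (θ : N → ℂ) n) → ∀ n : N, (χ : G → ℂ) n = (θ : N → ℂ) n)) ∧ ∀ χ' : Cfsg.IrrCharacter G, Cfsg.classInner (fun n : N => (χ' : G → ℂ) n) (θ : N → ℂ) ≠ 0 → (∀ g : G, (χ' : G → ℂ) (g ^ k) = (χ' : G → ℂ) g) → χ' = χ := by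
  classical
  have : Finite (IrrCharacter G) := finite_irr
  have : Finite (IrrCharacter ↥N) := finite_irr
  let _ : Fintype (IrrCharacter G) := Fintype.ofFinite _
  let _ : Fintype (IrrCharacter ↥N) := Fintype.ofFinite _
  -- the pairing of the statement against the multiplicity
  have hpair : ∀ χ : IrrCharacter G,
      classInner (fun n : N => (χ : G → ℂ) n) (θ : N → ℂ) = multC (res N χ.1) θ := by
    intro χ
    unfold classInner
    rw [multC_def]
    congr 1
    apply Finset.sum_congr rfl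
    intro n _
    rw [res_apply, Cfsg.Agent.Lib.CT.Wedderburn.char_apply_inv (irr_isCharacter θ)]
  obtain ⟨χ, hχfix, hχ0⟩ := exists_fixed_over N hidx k e hk hke θ hθ
  have huniq : ∀ χ' : IrrCharacter G, multC (res N χ'.1) θ ≠ 0 →
      (∀ g : G, χ'.1 (g ^ k) = χ'.1 g) → χ' = χ := fun χ' h1 h2 =>
    unique_fixed_over N hidx k hk hk₂ θ χ' χ h2 hχfix h1 hχ0
  refine ⟨χ, ⟨?_, hχfix, ?_⟩, ?_⟩
  · rw [hpair]
    exact hχ0
  · intro hinv
    obtain ⟨χ₁, hχ₁, hχ₁fix⟩ := exists_fixed_extension N hidx k hk hk₂ θ hθ hinv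
    have h1 : multC (res N χ₁.1) θ ≠ 0 := by
      have h3 : res N χ₁.1 = θ.1 := funext hχ₁
      rw [h3, multC_irr, if_pos rfl]
      exact one_ne_zero
    have h2 := huniq χ₁ h1 hχ₁fix
    rw [← h2]
    exact hχ₁
  · intro χ' h1 h2
    rw [hpair] at h1
    exact huniq χ' h1 h2

end Cfsg.Agent.S4519
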