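import Cfsg.Statements.S4866
import Cfsg.Agent.Lib.Helper81.BrauerPerm

set_option autoImplicit false
open Cfsg

namespace Cfsg.Agent.S4866

open Cfsg.Agent.Lib.Helper81.Irr Cfsg.Agent.Lib.Helper81.Basic Cfsg.Agent.Lib.Helper81.Expand
  Cfsg.Agent.Lib.Helper81.BrauerPerm
open scoped ComplexConjugate

universe u

variable {G : Type u} [Group G] (K : Subgroup G) [K.Normal]

/-- Conjugation action of `G` on the irreducible characters of a normal subgroup. -/
noncomputable def actI (g : G) (θ : IrrCharacter ↥K) : IrrCharacter ↥K :=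
  ⟨fun k => θ.1 (MulAut.conjNormal g⁻¹ k),
    isIrrCharacter_comp θ.2 (MulAut.conjNormal g⁻¹ : ↥K ≃* ↥K).toMonoidHom
      (MulEquiv.surjective _)⟩

theorem actI_apply (g : G) (θ : IrrCharacter ↥K) (k : ↥K) :
    (actI K g θ).1 k = θ.1 (MulAut.conjNormal g⁻¹ k) := rfl

theorem actI_one (θ : IrrCharacter ↥K) : actI K 1 θ = θ := by
  apply Subtype.ext
  funext k
  simp [actI_apply]

theorem actI_mul (g h : G) (θ : IrrCharacter ↥K) :
    actI K (g * h) θ = actI K g (actI K h θ) := by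
  apply Subtype.ext
  funext k
  simp only [actI_apply]
  rw [mul_inv_rev, map_mul]
  rfl

theorem conjNormal_pow_apply (g : G) (n : ℕ) (k : ↥K) :
    ((MulAut.conjNormal g : MulAut ↥K) ^ n) k = MulAut.conjNormal (g ^ n) k := by
  rw [map_pow]

theorem irr_inv_eq_conj [Finite G] (θ : IrrCharacter ↥K) (k : ↥K) :
    θ.1 k⁻¹ = conj (θ.1 k) :=
  Cfsg.Agent.Lib.CT.Wedderburn.char_apply_inv
    (Cfsg.Agent.Lib.CT.Wedderburn.isCharacter_of_irr θ.2) k

theorem fix_iff [Finite G] (hodd : Odd K.index) (g : G) (θ : IrrCharacter ↥K) :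
    ((∀ k : ↥K, (θ.1 k).im = 0) ∧ actI K g θ = θ) ↔
      (fun x : ↥K => θ.1 (MulAut.conjNormal g⁻¹ x⁻¹)) = θ.1 := by
  constructor
  · rintro ⟨hreal, hfix⟩
    funext x
    have h1 : θ.1 (MulAut.conjNormal g⁻¹ x⁻¹) = (actI K g θ).1 x⁻¹ := rfl
    rw [h1, hfix, irr_inv_eq_conj]
    exact Complex.conj_eq_iff_im.mpr (hreal x)
  · intro h
    have hs : ∀ x : ↥K, θ.1 (MulAut.conjNormal g⁻¹ x⁻¹) = θ.1 x := fun x => congrFun h x
    set c : MulAut ↥K := MulAut.conjNormal g⁻¹ with hc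
    have h2 : ∀ x : ↥K, θ.1 (c (c x)) = θ.1 x := by
      intro x
      have h3 := hs (c x)⁻¹
      rw [inv_inv] at h3
      rw [h3, ← map_inv, hs]
    have h4 : ∀ t : ℕ, ∀ x : ↥K, θ.1 ((c ^ (2 * t)) x) = θ.1 x := by
      intro t
      induction t with
      | zero => intro x; simp
      | succ t ih =>
        intro x
        have h5 : c ^ (2 * (t + 1)) = c ^ (2 * t) * (c * c) := by
          rw [mul_add, pow_add, mul_one, pow_two]
        rw [h5, MulAut.mul_apply, MulAut.mul_apply, ih, h2]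
    obtain ⟨t, ht⟩ := hodd
    have h6 : ∀ x : ↥K, θ.1 x = θ.1 x⁻¹ := by
      intro x
      have h7 : θ.1 x⁻¹ = θ.1 ((c ^ (2 * t + 1)) x) := by
        rw [pow_succ, MulAut.mul_apply, h4]
        have := hs x⁻¹
        rw [inv_inv] at this
        exact this.symm
      rw [h7, hc, conjNormal_pow_apply, ← ht]
      have hmem : g⁻¹ ^ K.index ∈ K := K.pow_index_mem g⁻¹
      have h8 : (MulAut.conjNormal (g⁻¹ ^ K.index) x : ↥K) =
          (⟨g⁻¹ ^ K.index, hmem⟩ : ↥K) * x * (⟨g⁻¹ ^ K.index, hmem⟩ : ↥K)⁻¹ := by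
        apply Subtype.ext
        rw [MulAut.conjNormal_apply]
        rfl
      rw [h8, irr_conj]
    refine ⟨?_, ?_⟩
    · intro k
      have h9 := irr_inv_eq_conj K θ k
      rw [← h6] at h9
      exact Complex.conj_eq_iff_im.mp h9.symm
    · apply Subtype.ext
      funext k
      rw [actI_apply]
      have := hs k⁻¹
      rw [inv_inv] at this
      rw [this, ← h6]

theorem natCard_nested {α : Type*} (p : α → Prop) (q : Subtype p → Prop) (r : α → Prop)
    (h : ∀ a (ha : p a), q ⟨a, ha⟩ ↔ r a) :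
    Nat.card {x : Subtype p // q x} = Nat.card {a : α // p a ∧ r a} :=
  Nat.card_congr ((Equiv.subtypeSubtypeEquivSubtypeExists p q).trans
    (Equiv.subtypeEquivRight (fun a => by
      constructor
      · rintro ⟨ha, hq⟩; exact ⟨ha, (h a ha).mp hq⟩
      · rintro ⟨ha, hr⟩; exact ⟨ha, (h a ha).mpr hr⟩)))

/-- For odd index, inversion by an element of `G` can be realised inside `K`. -/
theorem inv_conj_iff (hodd : Odd K.index) (x : ↥K) :
    (∃ h : G, h * (x : G) * h⁻¹ = (x : G)⁻¹) ↔ IsConj x x⁻¹ := by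
  constructor
  · rintro ⟨h, hh⟩
    obtain ⟨t, ht⟩ := hodd
    have h1 : h * (x : G)⁻¹ * h⁻¹ = (x : G) := by
      calc h * (x : G)⁻¹ * h⁻¹ = (h * (x : G) * h⁻¹)⁻¹ := by group
        _ = (x : G) := by rw [hh, inv_inv]
    have h2 : Commute (h ^ 2) (x : G) := by
      have : h * h * (x : G) * (h * h)⁻¹ = (x : G) := by
        calc h * h * (x : G) * (h * h)⁻¹ = h * (h * (x : G) * h⁻¹) * h⁻¹ := by group
          _ = (x : G) := by rw [hh, h1]
      have h3 : h * h * (x : G) = (x : G) * (h * h) := by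
        calc h * h * (x : G) = (h * h * (x : G) * (h * h)⁻¹) * (h * h) := by group
          _ = (x : G) * (h * h) := by rw [this]
      rw [pow_two]
      exact h3
    have h4 : Commute (h ^ (2 * t)) (x : G) := by
      rw [pow_mul]; exact h2.pow_left t
    have h5 : h ^ K.index * (x : G) * (h ^ K.index)⁻¹ = (x : G)⁻¹ := by
      rw [ht, pow_succ]
      calc h ^ (2 * t) * h * (x : G) * (h ^ (2 * t) * h)⁻¹
          = h ^ (2 * t) * (h * (x : G) * h⁻¹) * (h ^ (2 * t))⁻¹ := by group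
        _ = h ^ (2 * t) * (x : G)⁻¹ * (h ^ (2 * t))⁻¹ := by rw [hh]
        _ = (x : G)⁻¹ := by
          rw [(h4.inv_right).eq]; group
    have hmem : h ^ K.index ∈ K := K.pow_index_mem h
    rw [isConj_iff]
    refine ⟨⟨h ^ K.index, hmem⟩, ?_⟩
    apply Subtype.ext
    exact h5
  · intro h
    rw [isConj_iff] at h
    obtain ⟨c, hc⟩ := h
    refine ⟨(c : G), ?_⟩
    have := congrArg (Subtype.val) hc
    simpa using this

open scoped Classical in
theorem count_inv [Fintype G] (hodd : Odd K.index) (x : ↥K) :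
    ∑ h : G, (if h * (x : G) * h⁻¹ = (x : G)⁻¹ then (1 : ℂ) else 0) =
      ∑ g : G, (if IsConj x x⁻¹ ∧ g * (x : G) * g⁻¹ = (x : G) then (1 : ℂ) else 0) := by
  by_cases hx : IsConj x x⁻¹
  · obtain ⟨h₀, hh₀⟩ := (inv_conj_iff K hodd x).mpr hx
    rw [← Equiv.sum_comp (Equiv.mulLeft h₀)]
    apply Finset.sum_congr rfl
    intro g _
    have : (h₀ * g * (x : G) * (h₀ * g)⁻¹ = (x : G)⁻¹) ↔ (g * (x : G) * g⁻¹ = (x : G)) := by
      constructor
      · intro h1
        have h2 : h₀ * (g * (x : G) * g⁻¹) * h₀⁻¹ = h₀ * (x : G) * h₀⁻¹ := by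
          rw [hh₀, ← h1]; group
        have h3 := congrArg (fun z => h₀⁻¹ * z * h₀) h2
        simpa [mul_assoc] using h3
      · intro h1
        calc h₀ * g * (x : G) * (h₀ * g)⁻¹ = h₀ * (g * (x : G) * g⁻¹) * h₀⁻¹ := by group
          _ = (x : G)⁻¹ := by rw [h1, hh₀]
    show (if h₀ * g * (x : G) * (h₀ * g)⁻¹ = (x : G)⁻¹ then (1 : ℂ) else 0) =
      (if IsConj x x⁻¹ ∧ g * (x : G) * g⁻¹ = (x : G) then (1 : ℂ) else 0)
    exact if_congr (this.trans ⟨fun h => ⟨hx, h⟩, fun h => h.2⟩) rfl rfl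
  · have h0 : ∀ h : G, ¬ (h * (x : G) * h⁻¹ = (x : G)⁻¹) := by
      intro h hh
      exact hx ((inv_conj_iff K hodd x).mp ⟨h, hh⟩)
    rw [Finset.sum_eq_zero (fun h _ => if_neg (h0 h)),
      Finset.sum_eq_zero (fun g _ => if_neg (fun hh => hx hh.1))]

open scoped Classical in
theorem count_pairs [Fintype G] [Fintype ↥K] (x : ↥K) :
    ∑ g : G, ∑ k : ↥K, (if k * x * k⁻¹ = MulAut.conjNormal g⁻¹ x⁻¹ then (1 : ℂ) else 0) =
      (Nat.card ↥K : ℂ) * ∑ h : G, (if h * (x : G) * h⁻¹ = (x : G)⁻¹ then (1 : ℂ) else 0) := by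
  rw [Finset.sum_comm]
  have h1 : ∀ k : ↥K, ∑ g : G, (if k * x * k⁻¹ = MulAut.conjNormal g⁻¹ x⁻¹ then (1 : ℂ) else 0) =
      ∑ h : G, (if h * (x : G) * h⁻¹ = (x : G)⁻¹ then (1 : ℂ) else 0) := by
    intro k
    rw [← Equiv.sum_comp (Equiv.mulRight (k : G))
      (fun h : G => (if h * (x : G) * h⁻¹ = (x : G)⁻¹ then (1 : ℂ) else 0))]
    apply Finset.sum_congr rfl
    intro g _
    have : (k * x * k⁻¹ = MulAut.conjNormal g⁻¹ x⁻¹) ↔
        (g * (k : G) * (x : G) * (g * (k : G))⁻¹ = (x : G)⁻¹) := by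
      rw [Subtype.ext_iff, MulAut.conjNormal_apply]
      simp only [Subgroup.coe_mul, InvMemClass.coe_inv, inv_inv]
      constructor
      · intro h2
        calc g * (k : G) * (x : G) * (g * (k : G))⁻¹ = g * ((k : G) * (x : G) * (k : G)⁻¹) * g⁻¹ := by
              group
          _ = (x : G)⁻¹ := by rw [h2]; group
      · intro h2
        calc (k : G) * (x : G) * (k : G)⁻¹ = g⁻¹ * (g * (k : G) * (x : G) * (g * (k : G))⁻¹) * g := by
              group
          _ = g⁻¹ * (x : G)⁻¹ * g := by rw [h2]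
    show (if k * x * k⁻¹ = MulAut.conjNormal g⁻¹ x⁻¹ then (1 : ℂ) else 0) =
      (if g * (k : G) * (x : G) * (g * (k : G))⁻¹ = (x : G)⁻¹ then (1 : ℂ) else 0)
    exact if_congr this rfl rfl
  rw [Finset.sum_congr rfl (fun k _ => h1 k)]
  simp only [Finset.sum_const, Finset.card_univ, nsmul_eq_mul, Nat.card_eq_fintype_card]

/-- The action on real-valued irreducible characters. -/
noncomputable def actX (g : G) (θ : {θ : IrrCharacter ↥K // ∀ k : ↥K, (θ.1 k).im = 0}) :
    {θ : IrrCharacter ↥K // ∀ k : ↥K, (θ.1 k).im = 0} :=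
  ⟨actI K g θ.1, fun k => θ.2 _⟩

/-- The action on real elements. -/
def actY (g : G) (x : {x : ↥K // IsConj x x⁻¹}) : {x : ↥K // IsConj x x⁻¹} :=
  ⟨MulAut.conjNormal g x.1, by
    have h := (MulAut.conjNormal g : ↥K ≃* ↥K).toMonoidHom.map_isConj x.2
    simpa using h⟩

theorem relX_eq :
    (fun θ η : {θ : IrrCharacter ↥K // ∀ k : ↥K, (θ.1 k).im = 0} =>
      ∃ g : G, ∀ k k' : ↥K, (k' : G) = g * (k : G) * g⁻¹ → η.1.1 k' = θ.1.1 k) =
    (fun a b => ∃ g : G, b = actX K g a) := by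
  funext θ η
  apply propext
  constructor
  · rintro ⟨g, hg⟩
    refine ⟨g, ?_⟩
    apply Subtype.ext
    apply Subtype.ext
    funext k'
    show η.1.1 k' = θ.1.1 (MulAut.conjNormal g⁻¹ k')
    apply hg
    rw [MulAut.conjNormal_apply]
    group
  · rintro ⟨g, rfl⟩
    refine ⟨g, ?_⟩
    intro k k' hk
    show θ.1.1 (MulAut.conjNormal g⁻¹ k') = θ.1.1 k
    have h1 : MulAut.conjNormal g⁻¹ k' = k := by
      apply Subtype.ext
      rw [MulAut.conjNormal_apply, hk]
      group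
    rw [h1]

theorem relY_eq :
    (fun x y : {x : ↥K // IsConj x x⁻¹} => ∃ g : G, (y.1 : G) = g * x.1 * g⁻¹) =
    (fun a b => ∃ g : G, b = actY K g a) := by
  funext x y
  apply propext
  constructor
  · rintro ⟨g, hg⟩
    refine ⟨g, ?_⟩
    apply Subtype.ext
    apply Subtype.ext
    rw [hg]
    exact (MulAut.conjNormal_apply g x.1).symm
  · rintro ⟨g, rfl⟩
    exact ⟨g, MulAut.conjNormal_apply g x.1⟩

theorem main [Finite G] (hodd : Odd K.index) :
    Nat.card (Quot (fun θ η : {θ : IrrCharacter ↥K // ∀ k : ↥K, (θ.1 k).im = 0} =>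
      ∃ g : G, ∀ k k' : ↥K, (k' : G) = g * (k : G) * g⁻¹ → η.1.1 k' = θ.1.1 k)) =
    Nat.card (Quot (fun x y : {x : ↥K // IsConj x x⁻¹} =>
      ∃ g : G, (y.1 : G) = g * x.1 * g⁻¹)) := by
  classical
  cases nonempty_fintype G
  have := finite_irr (G := ↥K)
  cases nonempty_fintype (IrrCharacter ↥K)
  rw [relX_eq, relY_eq]
  have hX := burnside_quot (actX K) (fun θ => Subtype.ext (actI_one K θ.1))
    (fun g h θ => Subtype.ext (actI_mul K g h θ.1))
  have hY := burnside_quot (actY K)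
    (fun x => Subtype.ext (by simp [actY]))
    (fun g h x => Subtype.ext (by simp [actY]))
  have hGne : (Nat.card G : ℂ) ≠ 0 := by
    simp [Nat.card_eq_fintype_card]
  have hKne : (Nat.card ↥K : ℂ) ≠ 0 := by
    simp [Nat.card_eq_fintype_card]
  have hXfix : ∀ g : G, (Nat.card ↥K : ℂ) *
      (Nat.card {θ : {θ : IrrCharacter ↥K // ∀ k : ↥K, (θ.1 k).im = 0} // actX K g θ = θ} : ℂ) =
      ∑ x : ↥K, ∑ k : ↥K, if k * x * k⁻¹ = MulAut.conjNormal g⁻¹ x⁻¹ then (1 : ℂ) else 0 := by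
    intro g
    have e1 : Nat.card {θ : {θ : IrrCharacter ↥K // ∀ k : ↥K, (θ.1 k).im = 0} //
        actX K g θ = θ} =
        Nat.card {χ : IrrCharacter ↥K // (fun x : ↥K => χ.1 (MulAut.conjNormal g⁻¹ x⁻¹)) = χ.1} := by
      rw [natCard_nested (fun θ : IrrCharacter ↥K => ∀ k : ↥K, (θ.1 k).im = 0)
        (fun θ => actX K g θ = θ) (fun θ => actI K g θ = θ)
        (by intro a ha; exact Subtype.ext_iff)]
      exact Nat.card_congr (Equiv.subtypeEquivRight (fun θ => fix_iff K hodd g θ))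
    rw [e1, brauer_perm (fun x : ↥K => MulAut.conjNormal g⁻¹ x⁻¹)
      (fun χ => isIrrCharacter_inv (actI K g χ).2), natCard_subtype_eq_sum,
      Fintype.sum_prod_type]
  have hYfix : ∀ g : G,
      (Nat.card {y : {x : ↥K // IsConj x x⁻¹} // actY K g y = y} : ℂ) =
      ∑ x : ↥K, if IsConj x x⁻¹ ∧ g * (x : G) * g⁻¹ = (x : G) then (1 : ℂ) else 0 := by
    intro g
    rw [natCard_nested (fun x : ↥K => IsConj x x⁻¹) (fun y => actY K g y = y)
      (fun x => g * (x : G) * g⁻¹ = (x : G))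
      (by
        intro a ha
        rw [Subtype.ext_iff, Subtype.ext_iff]
        show ((MulAut.conjNormal g a : ↥K) : G) = (a : G) ↔ _
        rw [MulAut.conjNormal_apply]),
      natCard_subtype_eq_sum]
  have h1 : (Nat.card ↥K : ℂ) * ((Nat.card (Quot (fun a b => ∃ g : G, b = actX K g a)) : ℂ) *
      (Nat.card G : ℂ)) = (Nat.card ↥K : ℂ) *
      ((Nat.card (Quot (fun a b => ∃ g : G, b = actY K g a)) : ℂ) * (Nat.card G : ℂ)) := by
    have hX' := congrArg (fun n : ℕ => (n : ℂ)) hX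
    have hY' := congrArg (fun n : ℕ => (n : ℂ)) hY
    simp only [Nat.cast_mul, Nat.cast_sum] at hX' hY'
    have hL : (∑ g : G, ∑ x : ↥K, ∑ k : ↥K,
        if k * x * k⁻¹ = MulAut.conjNormal g⁻¹ x⁻¹ then (1 : ℂ) else 0) =
        ∑ x : ↥K, (Nat.card ↥K : ℂ) *
          ∑ g : G, if IsConj x x⁻¹ ∧ g * (x : G) * g⁻¹ = (x : G) then (1 : ℂ) else 0 := by
      rw [Finset.sum_comm]
      apply Finset.sum_congr rfl
      intro x _
      rw [count_pairs K x, count_inv K hodd x]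
    have hR : (Nat.card ↥K : ℂ) * (∑ g : G, ∑ x : ↥K,
        if IsConj x x⁻¹ ∧ g * (x : G) * g⁻¹ = (x : G) then (1 : ℂ) else 0) =
        ∑ x : ↥K, (Nat.card ↥K : ℂ) *
          ∑ g : G, if IsConj x x⁻¹ ∧ g * (x : G) * g⁻¹ = (x : G) then (1 : ℂ) else 0 := by
      rw [Finset.sum_comm, Finset.mul_sum]
    rw [hX', hY', Finset.mul_sum, Finset.sum_congr rfl (fun g _ => hXfix g),
      Finset.sum_congr rfl (fun g _ => hYfix g), hL, hR]
  have h2 := mul_left_cancel₀ hKne h1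
  have h3 := mul_right_cancel₀ hGne h2
  exact_mod_cast h3


/-- Let K be a normal subgroup of odd index in the finite group G. Then G has as many orbits on the real-valued irreducible complex characters of K (acting by conjugation) as it has orbits on the conjugacy classes of K that are real in K; equivalently, the number of G-orbits of real-valued irreducible characters of K equals the number of G-conjugacy classes of elements of K that are conjugate in K to their inverses. -/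
theorem result {G : Type*} [Group G] [Finite G] (K : Subgroup G) [K.Normal] (hodd : Odd K.index) : Nat.card (Quot (fun θ η : {θ : Cfsg.IrrCharacter ↥K // (∀ k : ↥K, ((θ : ↥K → ℂ) k).im = 0)} => ∃ g : G, ∀ k k' : ↥K, (k' : G) = g * (k : G) * g⁻¹ → (η.1 : ↥K → ℂ) k' = (θ.1 : ↥K → ℂ) k)) = Nat.card (Quot (fun x y : {x : ↥K // IsConj x x⁻¹} => ∃ g : G, (y.1 : G) = g * x.1 * g⁻¹)) := by
  exact main K hodd

end Cfsg.Agent.S4866
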