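import Cfsg.Statements.S0434
import Cfsg.Agent.Lib.Helper92.M11Asm4
import Cfsg.Agent.Lib.Helper92.M11EX
import Cfsg.Agent.Lib.Helper69.M11R11
import Cfsg.Agent.Lib.Helper69.M11R5
import Cfsg.Agent.Lib.Helper33.M11DIV
import Cfsg.Agent.Lib.Helper33.M11NORM
import Cfsg.Agent.Lib.Helper3.M11M4
import Cfsg.Agent.Lib.Helper59.M11I3
import Cfsg.Agent.Lib.Helper99.M11TI
import Cfsg.Agent.Lib.Helper99.M11CONG

set_option autoImplicit false
open Cfsg

namespace Cfsg.Agent.S0434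

/-- Sylow 3-normalisers in a simple group of order 7920 have order 144 (so there are 55 Sylow 3-subgroups). -/
theorem result {G : Type*} [Group G] [Finite G] (hG : Cfsg.IsM11 G) (P : Sylow 3 G) : Nat.card (Subgroup.normalizer ((P : Subgroup G) : Set G)) = 144 := by
  have : IsSimpleGroup G := hG.1
  exact Cfsg.Agent.Lib.Helper92.M11Asm4.s0434_of Cfsg.Agent.Lib.Helper92.M11EX.main
    Cfsg.Agent.Lib.Helper69.M11R11.main Cfsg.Agent.Lib.Helper69.M11R5.main
    Cfsg.Agent.Lib.Helper33.M11DIV.main Cfsg.Agent.Lib.Helper33.M11NORM.main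
    Cfsg.Agent.Lib.Helper3.M11M4.main Cfsg.Agent.Lib.Helper59.M11I3.main
    Cfsg.Agent.Lib.Helper99.M11TI.main Cfsg.Agent.Lib.Helper99.M11CONG.main hG.2 P

end Cfsg.Agent.S0434
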