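import Cfsg.Statements.S3031
import Mathlib
import Cfsg.Agent.Lib.Helper50.PAct
import Cfsg.Agent.Lib.Helper4.TateCor
import Cfsg.Agent.Lib.Helper72.AlperinChain

set_option autoImplicit false
open Cfsg

namespace Cfsg.Agent.S3031

open Cfsg.Agent.Lib.Helper50
open scoped commutatorElement

section Aux

variable {G : Type*} [Group G] [Finite G] {p : ℕ} [Fact p.Prime]

theorem nat_eq_prime_of (hp : p.Prime) (a d : ℕ) (h1 : a ≤ p) (h3 : a ∣ p ^ d) (h4 : a ≠ 1) :
    a = p := by
  obtain ⟨j, hj, hj'⟩ := (Nat.dvd_prime_pow hp).mp h3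
  rw [hj'] at h1 h4 ⊢
  have hj1 : j ≠ 0 := by
    rintro rfl
    exact h4 (pow_zero p)
  have hj2 : j ≤ 1 := by
    by_contra hgt
    push Not at hgt
    have h5 : p ^ 2 ≤ p ^ j := Nat.pow_le_pow_right hp.pos hgt
    have h6 : p ^ 2 ≤ p := h5.trans h1
    nlinarith [hp.one_lt]
  have hj3 : j = 1 := by omega
  rw [hj3, pow_one]

/-- Members of the family are normal in `P`. -/
theorem le_normalizer_of_family (P : Sylow p G) (E : Subgroup G) (hEP : E ≤ (P : Subgroup G))
    (hE : ∀ g : G, E.map (MulAut.conj g).toMonoidHom ⊓ Subgroup.normalizer (E : Set G) ≤ E) :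
    (P : Subgroup G) ≤ Subgroup.normalizer (E : Set G) := by
  by_contra hnot
  have hne : Subgroup.normalizer (E : Set G) ⊓ (P : Subgroup G) ≠ (P : Subgroup G) := by
    intro h
    apply hnot
    rw [← h]
    exact inf_le_left
  obtain ⟨y, hyP, hyN, hyS⟩ := PAct.exists_mem_normalizer_not_mem (P : Subgroup G) _
    P.isPGroup' inf_le_right hne
  apply hyS
  refine Subgroup.mem_inf.mpr ⟨?_, hyP⟩
  apply Transfer.mem_normalizer_of_conj_mem
  intro e he
  apply hE y
  have h1 : e ∈ Subgroup.normalizer (E : Set G) ⊓ (P : Subgroup G) :=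
    Subgroup.mem_inf.mpr ⟨Subgroup.le_normalizer he, hEP he⟩
  exact Subgroup.mem_inf.mpr ⟨⟨e, he, rfl⟩,
    (Subgroup.mem_inf.mp (Transfer.conj_mem_of_mem_normalizer _ y hyN e h1)).1⟩

/-- An element normalizing `R ≤ P` normalizes `E ∩ R` for every member `E` of the family. -/
theorem mem_normalizer_inf_of_family (P : Sylow p G) (E : Subgroup G)
    (hEP : E ≤ (P : Subgroup G))
    (hE : ∀ g : G, E.map (MulAut.conj g).toMonoidHom ⊓ Subgroup.normalizer (E : Set G) ≤ E)
    (R : Subgroup G) (hRP : R ≤ (P : Subgroup G)) (c : G)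
    (hcR : c ∈ Subgroup.normalizer (R : Set G)) :
    c ∈ Subgroup.normalizer ((E ⊓ R : Subgroup G) : Set G) := by
  have hPE := le_normalizer_of_family P E hEP hE
  apply Transfer.mem_normalizer_of_conj_mem
  intro h hh
  obtain ⟨h1, h2⟩ := Subgroup.mem_inf.mp hh
  have h3 : c * h * c⁻¹ ∈ R := Transfer.conj_mem_of_mem_normalizer R c hcR h h2
  exact Subgroup.mem_inf.mpr
    ⟨hE c (Subgroup.mem_inf.mpr ⟨⟨h, h1, rfl⟩, hPE (hRP h3)⟩), h3⟩

/-- Elements of prime power order prime to `p (p - 1)` normalizing `R ≤ P` act trivially on `R`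
modulo every normal subgroup `M` of index `p` of `P`. -/
theorem key_step (P : Sylow p G) (d : ℕ) (hd : 1 ≤ d) (hdP : p ^ d < Nat.card (P : Subgroup G))
    (hfam : ∀ E : Subgroup G, E ≤ (P : Subgroup G) →
      (Nat.card E = p ^ d ∨ (p ^ d = 2 ∧ Nat.card E = 4)) →
        ∀ g : G, E.map (MulAut.conj g).toMonoidHom ⊓ Subgroup.normalizer (E : Set G) ≤ E)
    (M : Subgroup G) (hMP : M ≤ (P : Subgroup G))
    (hPM : (P : Subgroup G) ≤ Subgroup.normalizer (M : Set G))
    (hidx : M.relIndex (P : Subgroup G) = p)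
    (R : Subgroup G) (hRP : R ≤ (P : Subgroup G)) (c : G)
    (hcR : c ∈ Subgroup.normalizer (R : Set G))
    (hcp : (orderOf c).Coprime p) (hcp1 : (orderOf c).Coprime (p - 1))
    (hq : ∃ q k : ℕ, q.Prime ∧ orderOf c = q ^ k) :
    ∀ t ∈ R, t⁻¹ * (c * t * c⁻¹) ∈ M := by
  have hp : p.Prime := Fact.out
  have hRp : IsPGroup p R := P.isPGroup'.to_le hRP
  intro t ht
  by_cases hlt : p ^ d < Nat.card R
  · have h1 := PAct.centralizes_of_normalizes_fixed_order c hcp hcp1 hq d hd R hRp hcR hlt
      (fun E hER hcard => by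
        have h2 := mem_normalizer_inf_of_family P E (hER.trans hRP)
          (hfam E (hER.trans hRP) hcard) R hRP c hcR
        rwa [inf_eq_left.mpr hER] at h2)
    have h3 : t⁻¹ * (c * t * c⁻¹) = 1 := by
      rw [← h1 t ht]
      group
    rw [h3]
    exact M.one_mem
  · push Not at hlt
    by_cases hRM : R ≤ M
    · exact M.mul_mem (M.inv_mem (hRM ht))
        (hRM (Transfer.conj_mem_of_mem_normalizer R c hcR t ht))
    · have hMcard : p ^ d ≤ Nat.card M := by
        have h1 := Subgroup.relIndex_mul_relIndex ⊥ M (P : Subgroup G) bot_le hMP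
        rw [Subgroup.relIndex_bot_left, Subgroup.relIndex_bot_left, hidx] at h1
        obtain ⟨m, hm⟩ := (P.isPGroup'.to_le hMP).exists_card_eq
        rw [hm] at h1 ⊢
        rw [← h1, ← pow_succ] at hdP
        have h2 : d < m + 1 := (Nat.pow_lt_pow_iff_right hp.one_lt).mp hdP
        exact Nat.pow_le_pow_right hp.pos (by omega)
      have hR₂card : Nat.card (R ⊓ M : Subgroup G) ≤ p ^ d :=
        (Subgroup.card_le_of_le inf_le_left).trans hlt
      obtain ⟨E, hR₂E, hEM, hEcard⟩ := PAct.exists_between M (R ⊓ M)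
        (P.isPGroup'.to_le hMP) inf_le_right d hR₂card hMcard
      have hEP : E ≤ (P : Subgroup G) := hEM.trans hMP
      have hER : E ⊓ R = R ⊓ M :=
        le_antisymm (le_inf inf_le_right (inf_le_left.trans hEM)) (le_inf hR₂E inf_le_left)
      have hcR₂ : c ∈ Subgroup.normalizer ((R ⊓ M : Subgroup G) : Set G) := by
        have h2 := mem_normalizer_inf_of_family P E hEP (hfam E hEP (Or.inl hEcard)) R hRP c hcR
        rwa [hER] at h2
      have hRN : R ≤ Subgroup.normalizer ((R ⊓ M : Subgroup G) : Set G) := by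
        intro r hr
        apply Transfer.mem_normalizer_of_conj_mem
        intro y hy
        obtain ⟨hy1, hy2⟩ := Subgroup.mem_inf.mp hy
        exact Subgroup.mem_inf.mpr ⟨mul_mem (mul_mem hr hy1) (inv_mem hr),
          Transfer.conj_mem_of_mem_normalizer M r (hPM (hRP hr)) y hy2⟩
      have hidx2 : (R ⊓ M).relIndex R = p := by
        rw [Subgroup.inf_relIndex_left]
        have h1 : M.relIndex R ≤ M.relIndex (P : Subgroup G) :=
          Subgroup.relIndex_le_of_le_right hRP (by rw [hidx]; exact hp.ne_zero)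
        rw [hidx] at h1
        obtain ⟨r, hr⟩ := hRp.exists_card_eq
        have h3 : M.relIndex R ∣ p ^ r := hr ▸ Subgroup.relIndex_dvd_card M R
        have h4 : M.relIndex R ≠ 1 := by
          intro h
          rw [Subgroup.relIndex_eq_one] at h
          exact hRM h
        exact nat_eq_prime_of hp _ r h1 h3 h4
      have h5 := PAct.conj_mul_inv_mem_of_relIndex_prime R (R ⊓ M) hRN hidx2 c hcR hcR₂ hcp1
      exact (Subgroup.mem_inf.mp (h5 t ht)).2

/-- Commutators of elements of `P` lie in every normal subgroup of index `p`. -/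
theorem comm_mem_of_relIndex_prime (P M : Subgroup G)
    (hPM : P ≤ Subgroup.normalizer (M : Set G)) (hidx : M.relIndex P = p) :
    ∀ x ∈ P, ∀ y ∈ P, x * y * x⁻¹ * y⁻¹ ∈ M := by
  have hn : (M.subgroupOf P).Normal := Subgroup.normal_subgroupOf_of_le_normalizer hPM
  have hcard : Nat.card (↥P ⧸ M.subgroupOf P) = p := hidx
  have hcyc : IsCyclic (↥P ⧸ M.subgroupOf P) := isCyclic_of_prime_card hcard
  have hc : ∀ a b : ↥P ⧸ M.subgroupOf P, a * b = b * a := fun a b => by
    obtain ⟨g, hg⟩ := IsCyclic.exists_generator (α := ↥P ⧸ M.subgroupOf P)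
    obtain ⟨m, rfl⟩ := Subgroup.mem_zpowers_iff.mp (hg a)
    obtain ⟨n, rfl⟩ := Subgroup.mem_zpowers_iff.mp (hg b)
    rw [← zpow_add, ← zpow_add, add_comm]
  intro x hx y hy
  have h1 : (QuotientGroup.mk' (M.subgroupOf P))
      ((⟨x, hx⟩ : ↥P) * ⟨y, hy⟩ * (⟨x, hx⟩ : ↥P)⁻¹ * (⟨y, hy⟩ : ↥P)⁻¹) = 1 := by
    rw [map_mul, map_mul, map_mul, map_inv, map_inv,
      hc (QuotientGroup.mk' (M.subgroupOf P) ⟨x, hx⟩)]
    group
  have h2 := (QuotientGroup.eq_one_iff _).mp h1
  rw [Subgroup.mem_subgroupOf] at h2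
  exact h2

/-- Orders of elements are prime to `p - 1` when `p` is the smallest prime divisor of `|G|`. -/
theorem coprime_pred (hmin : ∀ q : ℕ, q.Prime → q ∣ Nat.card G → p ≤ q) (c : G) :
    (orderOf c).Coprime (p - 1) := by
  have hp : p.Prime := Fact.out
  apply Nat.coprime_of_dvd
  intro r hr hrc hrp
  have h1 : p ≤ r := hmin r hr (hrc.trans (orderOf_dvd_natCard c))
  have h2 : r ≤ p - 1 := Nat.le_of_dvd (by have := hp.two_le; omega) hrp
  have := hp.two_le
  omega

/-- The whole normalizer of `T ≤ P` acts trivially on `T` modulo `M`, provided `P ∩ N(T)` has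
index prime to `p` in `N(T)`. -/
theorem normalizer_acts_trivially (P : Sylow p G) (d : ℕ) (hd : 1 ≤ d)
    (hdP : p ^ d < Nat.card (P : Subgroup G))
    (hmin : ∀ q : ℕ, q.Prime → q ∣ Nat.card G → p ≤ q)
    (hfam : ∀ E : Subgroup G, E ≤ (P : Subgroup G) →
      (Nat.card E = p ^ d ∨ (p ^ d = 2 ∧ Nat.card E = 4)) →
        ∀ g : G, E.map (MulAut.conj g).toMonoidHom ⊓ Subgroup.normalizer (E : Set G) ≤ E)
    (M : Subgroup G) (hMP : M ≤ (P : Subgroup G))
    (hPM : (P : Subgroup G) ≤ Subgroup.normalizer (M : Set G))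
    (hidx : M.relIndex (P : Subgroup G) = p)
    (T : Subgroup G) (hTP : T ≤ (P : Subgroup G))
    (hT : ¬ p ∣ ((P : Subgroup G) ⊓ Subgroup.normalizer (T : Set G)).relIndex
      (Subgroup.normalizer (T : Set G))) :
    ∀ n ∈ Subgroup.normalizer (T : Set G), ∀ t ∈ T, t⁻¹ * (n * t * n⁻¹) ∈ M := by
  have hp : p.Prime := Fact.out
  let W : Subgroup G :=
    { carrier := {n | n ∈ Subgroup.normalizer (T : Set G) ∧ ∀ t ∈ T, t⁻¹ * (n * t * n⁻¹) ∈ M}
      mul_mem' := by
        rintro a b ⟨haN, ha⟩ ⟨hbN, hb⟩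
        refine ⟨mul_mem haN hbN, ?_⟩
        intro t ht
        have hm : t⁻¹ * (b * t * b⁻¹) ∈ M := hb t ht
        have hmT : t⁻¹ * (b * t * b⁻¹) ∈ T :=
          T.mul_mem (T.inv_mem ht) (Transfer.conj_mem_of_mem_normalizer T b hbN t ht)
        have h1 := ha _ hmT
        have h2 := M.mul_mem hm h1
        have h3 := M.mul_mem (ha t ht) h2
        have h4 : t⁻¹ * (a * b * t * (a * b)⁻¹) = t⁻¹ * (a * t * a⁻¹) *
            (t⁻¹ * (b * t * b⁻¹) * ((t⁻¹ * (b * t * b⁻¹))⁻¹ *
              (a * (t⁻¹ * (b * t * b⁻¹)) * a⁻¹))) := by group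
        rw [h4]
        exact h3
      one_mem' := by
        refine ⟨one_mem _, ?_⟩
        intro t ht
        have h1 : t⁻¹ * (1 * t * 1⁻¹) = 1 := by group
        rw [h1]
        exact M.one_mem
      inv_mem' := by
        rintro a ⟨haN, ha⟩
        refine ⟨inv_mem haN, ?_⟩
        intro t ht
        have ht' : a⁻¹ * t * a⁻¹⁻¹ ∈ T :=
          Transfer.conj_mem_of_mem_normalizer T a⁻¹ (inv_mem haN) t ht
        have h1 := M.inv_mem (ha _ ht')
        have h2 : t⁻¹ * (a⁻¹ * t * a⁻¹⁻¹) =
            ((a⁻¹ * t * a⁻¹⁻¹)⁻¹ * (a * (a⁻¹ * t * a⁻¹⁻¹) * a⁻¹))⁻¹ := by group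
        rw [h2]
        exact h1 }
  have hWmem : ∀ n : G, n ∈ W ↔ (n ∈ Subgroup.normalizer (T : Set G) ∧
      ∀ t ∈ T, t⁻¹ * (n * t * n⁻¹) ∈ M) := fun n => Iff.rfl
  -- `P ∩ N(T) ≤ W`
  have h1 : (P : Subgroup G) ⊓ Subgroup.normalizer (T : Set G) ≤ W := by
    intro s hs
    obtain ⟨hsP, hsN⟩ := Subgroup.mem_inf.mp hs
    rw [hWmem]
    refine ⟨hsN, ?_⟩
    intro t ht
    have h2 := comm_mem_of_relIndex_prime (P : Subgroup G) M hPM hidx t⁻¹
      ((P : Subgroup G).inv_mem (hTP ht)) s hsP
    have h3 : t⁻¹ * (s * t * s⁻¹) = t⁻¹ * s * t⁻¹⁻¹ * s⁻¹ := by group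
    rw [h3]
    exact h2
  -- elements of prime power order prime to `p`
  have h2 : ∀ c ∈ Subgroup.normalizer (T : Set G), (orderOf c).Coprime p →
      (∃ q k : ℕ, q.Prime ∧ orderOf c = q ^ k) → c ∈ W := by
    intro c hcN hcp hq
    rw [hWmem]
    exact ⟨hcN, key_step P d hd hdP hfam M hMP hPM hidx T hTP c hcN hcp (coprime_pred hmin c) hq⟩
  -- all elements of order prime to `p`
  have h3 : ∀ c ∈ Subgroup.normalizer (T : Set G), (orderOf c).Coprime p → c ∈ W := by
    intro c hcN hcp
    apply PAct.mem_of_primePow_parts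
    intro q hq
    have hdvd : q ^ (orderOf c).factorization q ∣ orderOf c := Nat.ordProj_dvd _ _
    have hne : orderOf c / q ^ (orderOf c).factorization q ≠ 0 := by
      intro h0
      have h4 := Nat.div_mul_cancel hdvd
      rw [h0, zero_mul] at h4
      exact (orderOf_pos c).ne' h4.symm
    have hord : orderOf (c ^ (orderOf c / q ^ (orderOf c).factorization q)) =
        q ^ (orderOf c).factorization q := by
      rw [orderOf_pow_of_dvd hne (Nat.div_dvd_of_dvd hdvd),
        Nat.div_div_self hdvd (orderOf_pos c).ne']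
    apply h2 _ (pow_mem hcN _)
    · exact Nat.Coprime.coprime_dvd_left (orderOf_pow_dvd _) hcp
    · exact ⟨q, _, hq, hord⟩
  -- the whole normalizer
  intro n hn t ht
  obtain ⟨s, hs, m, hm, hnm⟩ := Cfsg.Agent.Lib.Helper34.PResidual.exists_mul_of_not_dvd_index hp
    (((P : Subgroup G) ⊓ Subgroup.normalizer (T : Set G)).subgroupOf
      (Subgroup.normalizer (T : Set G))) hT ⟨n, hn⟩
  have hsW : (s : G) ∈ W := h1 (Subgroup.mem_subgroupOf.mp hs)
  have hmW : (m : G) ∈ W := by
    have hle : Cfsg.pResidual p ↥(Subgroup.normalizer (T : Set G)) ≤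
        W.comap (Subgroup.normalizer (T : Set G)).subtype := by
      unfold Cfsg.pResidual
      rw [Subgroup.closure_le]
      intro g hg
      have hg' : (orderOf g).Coprime p := hg
      rw [← Subgroup.orderOf_coe] at hg'
      exact h3 (g : G) g.2 hg'
    exact hle hm
  have hnW : n ∈ W := by
    have h4 : n = (s : G) * (m : G) := congrArg Subtype.val hnm
    rw [h4]
    exact W.mul_mem hsW hmW
  exact ((hWmem n).mp hnW).2 t ht

end Aux

/-- Let G be a finite group, p the smallest prime dividing |G| and P a Sylow p-subgroup. Suppose that P is cyclic, or that P has a subgroup D with 1 < |D| < |P| such that every subgroup E of P of order |D|, and also every subgroup E of P of order 4 when |D| = 2, satisfies g E g⁻¹ ∩ N_G(E) ≤ E for all g ∈ G (E is strongly closed in its normalizer with respect to G). Then G has a normal p-complement. -/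
theorem result {G : Type*} [Group G] [Finite G] {p : ℕ} [Fact p.Prime] (hdiv : p ∣ Nat.card G)
    (hmin : ∀ q : ℕ, q.Prime → q ∣ Nat.card G → p ≤ q) (P : Sylow p G)
    (h : IsCyclic ↥(P : Subgroup G) ∨ ∃ D : Subgroup G, D ≤ (P : Subgroup G) ∧ 1 < Nat.card D ∧ Nat.card D < Nat.card (P : Subgroup G) ∧
      ∀ E : Subgroup G, E ≤ (P : Subgroup G) → (Nat.card E = Nat.card D ∨ (Nat.card D = 2 ∧ Nat.card E = 4)) →
        ∀ g : G, E.map (MulAut.conj g).toMonoidHom ⊓ Subgroup.normalizer (E : Set G) ≤ E) :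
    Cfsg.HasNormalPComplement p G := by
  have hp : p.Prime := Fact.out
  rcases h with hcyc | ⟨D, hDP, hD1, hDlt, hfam⟩
  · -- cyclic Sylow subgroup for the smallest prime
    have hcard1 : Nat.card G ≠ 1 := by
      intro h1
      rw [h1] at hdiv
      exact hp.one_lt.ne' (Nat.dvd_one.mp hdiv)
    have hminFac : (Nat.card G).minFac = p :=
      le_antisymm (Nat.minFac_le_of_dvd hp.two_le hdiv)
        (hmin _ (Nat.minFac_prime hcard1) (Nat.minFac_dvd _))
    exact ⟨P, _, MonoidHom.normal_ker _, IsCyclic.isComplement' hminFac hcyc⟩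
  · obtain ⟨d, hd⟩ := (P.isPGroup'.to_le hDP).exists_card_eq
    rw [hd] at hD1 hDlt hfam
    have hd1 : 1 ≤ d := by
      rcases Nat.eq_zero_or_pos d with h0 | hpos
      · subst h0
        simp at hD1
      · exact hpos
    have hfin : (P : Subgroup G).FiniteIndex := inferInstance
    apply Cfsg.Agent.Lib.Helper4.TateCor.hasNormalPComplement_of_tate P
      (Subgroup.transferFocal (P : Subgroup G)).ker
    · -- `O^p(G)` lies in the kernel of the transfer into the `p`-group `P / P*`
      unfold Cfsg.pResidual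
      rw [Subgroup.closure_le]
      intro g hg
      have hg' : (orderOf g).Coprime p := hg
      show g ∈ (Subgroup.transferFocal (P : Subgroup G)).ker
      rw [MonoidHom.mem_ker]
      have hQ : IsPGroup p (↥(P : Subgroup G) ⧸ Subgroup.focalSubgroupOf (P : Subgroup G)) :=
        P.2.to_quotient _
      obtain ⟨k, hk⟩ := hQ (Subgroup.transferFocal (P : Subgroup G) g)
      have h1 : orderOf (Subgroup.transferFocal (P : Subgroup G) g) ∣ p ^ k :=
        orderOf_dvd_of_pow_eq_one hk
      have h2 : orderOf (Subgroup.transferFocal (P : Subgroup G) g) ∣ orderOf g :=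
        orderOf_map_dvd _ g
      exact orderOf_eq_one_iff.mp
        (Nat.eq_one_of_dvd_coprimes (Nat.Coprime.pow_right k hg') h2 h1)
    · intro M hMn hMidx x hx
      have hxN : (x : G) ∈ (Subgroup.transferFocal (P : Subgroup G)).ker := hx
      have hfoc : (x : G) ∈ Subgroup.focalSubgroup (P : Subgroup G) := by
        rw [← Subgroup.ker_transferFocal_inf_eq_focalSubgroup P]
        exact Subgroup.mem_inf.mpr ⟨hxN, x.2⟩
      -- the subgroup `M` inside `G`
      have hMP : M.map (P : Subgroup G).subtype ≤ (P : Subgroup G) := Subgroup.map_subtype_le M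
      have hPM : (P : Subgroup G) ≤
          Subgroup.normalizer ((M.map (P : Subgroup G).subtype : Subgroup G) : Set G) := by
        intro g hg
        apply Transfer.mem_normalizer_of_conj_mem
        rintro _ ⟨m, hm, rfl⟩
        exact ⟨(⟨g, hg⟩ : ↥(P : Subgroup G)) * m * (⟨g, hg⟩ : ↥(P : Subgroup G))⁻¹,
          hMn.conj_mem m hm _, rfl⟩
      have hidx : (M.map (P : Subgroup G).subtype).relIndex (P : Subgroup G) = p := by
        show ((M.map (P : Subgroup G).subtype).comap (P : Subgroup G).subtype).index = p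
        rw [Subgroup.comap_map_eq_self_of_injective (Subgroup.subtype_injective _)]
        exact hMidx
      have hle : Subgroup.focalSubgroup (P : Subgroup G) ≤ M.map (P : Subgroup G).subtype := by
        rw [Subgroup.focalSubgroup_def, Subgroup.closure_le]
        rintro g ⟨hgP, y, hyP, u, rfl⟩
        have hconj : (u⁻¹)⁻¹ * y * u⁻¹ ∈ (P : Subgroup G) := by
          have h1 : (u⁻¹)⁻¹ * y * u⁻¹ = (⁅y, u⁆)⁻¹ * y := by
            rw [commutatorElement_def]
            group
          rw [h1]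
          exact (P : Subgroup G).mul_mem ((P : Subgroup G).inv_mem hgP) hyP
        have key := Cfsg.Agent.Lib.Helper72.AlperinChain.alperin_induction P
          (fun a b => a * b⁻¹ ∈ M.map (P : Subgroup G).subtype)
          (fun a => by simp [Subgroup.one_mem])
          (fun a b c hab hbc => by
            have h1 : a * c⁻¹ = (a * b⁻¹) * (b * c⁻¹) := by group
            rw [h1]
            exact Subgroup.mul_mem _ hab hbc)
          (by
            intro Q w z hTame hw hz _
            have h1 := normalizer_acts_trivially P d hd1 hDlt hmin hfam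
              (M.map (P : Subgroup G).subtype) hMP hPM hidx
              ((P : Subgroup G) ⊓ (Q : Subgroup G)) inf_le_left hTame.1 z⁻¹ (inv_mem hz) w⁻¹
              (inv_mem hw)
            have h2 : w * (z⁻¹ * w * z)⁻¹ = w⁻¹⁻¹ * (z⁻¹ * w⁻¹ * z⁻¹⁻¹) := by group
            show w * (z⁻¹ * w * z)⁻¹ ∈ M.map (P : Subgroup G).subtype
            rw [h2]
            exact h1)
          y u⁻¹ hyP hconj
        have h2 : y * ((u⁻¹)⁻¹ * y * u⁻¹)⁻¹ = ⁅y, u⁆ := by
          rw [commutatorElement_def]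
          group
        have key' : y * ((u⁻¹)⁻¹ * y * u⁻¹)⁻¹ ∈ M.map (P : Subgroup G).subtype := key
        rw [h2] at key'
        exact key'
      obtain ⟨y, hy, hyx⟩ := hle hfoc
      have hyx' : y = x := Subtype.ext hyx
      rw [← hyx']
      exact hy

end Cfsg.Agent.S3031
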