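import Cfsg.Statements.S3917
import Mathlib

set_option autoImplicit false
open Cfsg

namespace Cfsg.Agent.S3917

/-- a cyclic subgroup killed by `n` has at most `n` elements -/
theorem card_le_of_cyclic_of_pow {G : Type*} [Group G] (H : Subgroup G) [Finite H]
    (hc : IsCyclic H) (n : ℕ) (hn : 0 < n) (h : ∀ x ∈ H, x ^ n = 1) : Nat.card H ≤ n := by
  classical
  have : Fintype H := Fintype.ofFinite H
  have h1 := IsCyclic.card_pow_eq_one_le (α := H) hn
  have h2 : (Finset.univ.filter (fun a : H => a ^ n = 1)) = Finset.univ := by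
    apply Finset.filter_true_of_mem
    intro a _
    exact Subtype.ext (by simpa using h a a.2)
  rw [h2, Finset.card_univ] at h1
  rwa [Nat.card_eq_fintype_card]

/-- a non-cyclic finite group has more than `n` solutions of `a ^ n = 1` for some `n` -/
theorem exists_pow_card_gt {G : Type*} [Group G] [Finite G] (h : ¬ IsCyclic G) :
    ∃ n, 0 < n ∧ n < Nat.card {a : G // a ^ n = 1} := by
  classical
  have : Fintype G := Fintype.ofFinite G
  by_contra hcon
  push Not at hcon
  apply h
  apply isCyclic_of_card_pow_eq_one_le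
  intro n hn
  have h1 := hcon n hn
  rwa [Nat.card_eq_fintype_card, Fintype.card_subtype] at h1

/-- A finite abelian group with self-centralizing non-cyclic subgroups -/
theorem result {G : Type*} [CommGroup G] [Finite G] (hX : (∀ H : Subgroup G, ¬ IsCyclic ↥H → Subgroup.centralizer (H : Set G) ≤ H)) :
    IsCyclic G ∨ ∃ p : ℕ, p.Prime ∧ Nat.card G = p ^ 2 ∧ Monoid.exponent G = p := by
  classical
  by_cases hcyc : IsCyclic G
  · exact Or.inl hcyc
  right
  -- every proper subgroup is cyclic
  have hprop : ∀ H : Subgroup G, ¬ IsCyclic ↥H → H = ⊤ := by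
    intro H hH
    rw [eq_top_iff]
    intro x _
    apply hX H hH
    rw [Subgroup.mem_centralizer_iff]
    intro y _
    exact mul_comm y x
  -- the subgroup of solutions of a ^ n = 1
  have hT : ∀ n : ℕ, 0 < n → n < Nat.card (powMonoidHom n : G →* G).ker →
      (powMonoidHom n : G →* G).ker = ⊤ := by
    intro n hn hlt
    apply hprop
    intro hc
    have := card_le_of_cyclic_of_pow _ hc n hn (fun x hx => by simpa using hx)
    omega
  have hex : ∃ n, 0 < n ∧ n < Nat.card (powMonoidHom n : G →* G).ker := by
    obtain ⟨n, hn, hlt⟩ := exists_pow_card_gt hcyc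
    refine ⟨n, hn, ?_⟩
    have e : Nat.card {a : G // a ^ n = 1} = Nat.card (powMonoidHom n : G →* G).ker :=
      Nat.card_congr (Equiv.subtypeEquivRight (fun a => by simp [MonoidHom.mem_ker]))
    rwa [← e]
  set n := Nat.find hex with hn
  obtain ⟨hn0, hnlt⟩ := Nat.find_spec hex
  have hn1 : n ≠ 1 := by
    intro h1
    rw [← hn, h1] at hnlt
    have h2 : (powMonoidHom 1 : G →* G).ker = ⊥ := by
      rw [eq_bot_iff]
      intro x hx
      simpa using hx
    rw [h2, Subgroup.card_bot] at hnlt
    omega
  obtain ⟨p, hp, hpn⟩ := Nat.exists_prime_and_dvd hn1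
  have : Fact p.Prime := ⟨hp⟩
  obtain ⟨m, hm⟩ := hpn
  have hm0 : 0 < m := by
    rcases Nat.eq_zero_or_pos m with h0 | h0
    · rw [h0, mul_zero] at hm
      rw [← hn] at hn0
      omega
    · exact h0
  have hmn : m < n := by
    have := hp.two_le
    rw [hm]
    nlinarith
  have hmle : Nat.card (powMonoidHom m : G →* G).ker ≤ m := by
    by_contra hcon
    exact Nat.find_min hex hmn ⟨hm0, by omega⟩
  have hrange : (powMonoidHom m : G →* G).range ≤ (powMonoidHom p : G →* G).ker := by
    rintro _ ⟨a, rfl⟩
    rw [MonoidHom.mem_ker]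
    have h1 : a ∈ (powMonoidHom n : G →* G).ker := by
      rw [hT n (by rw [← hn] at hn0; exact hn0) (by rw [← hn] at hnlt; exact hnlt)]
      trivial
    rw [MonoidHom.mem_ker] at h1
    simp only [powMonoidHom_apply] at h1 ⊢
    rw [← pow_mul, mul_comm, ← hm]
    exact h1
  have hcardG : Nat.card G = Nat.card (powMonoidHom m : G →* G).ker *
      Nat.card (powMonoidHom m : G →* G).range := by
    rw [← Subgroup.index_ker, Subgroup.card_mul_index]
  have hGn : n < Nat.card G := by
    have h1 := hT n (by rw [← hn] at hn0; exact hn0) (by rw [← hn] at hnlt; exact hnlt)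
    have h2 : n < Nat.card (powMonoidHom n : G →* G).ker := by rw [← hn] at hnlt; exact hnlt
    rw [h1, Subgroup.card_top] at h2
    exact h2
  have hplt : p < Nat.card (powMonoidHom p : G →* G).ker := by
    have h1 := Subgroup.card_le_of_le hrange
    by_contra hcon
    have h2 : Nat.card (powMonoidHom m : G →* G).range ≤ p := by omega
    have h3 : Nat.card G ≤ m * p := by
      rw [hcardG]
      exact Nat.mul_le_mul hmle h2
    rw [hm] at hGn
    nlinarith
  have hTp := hT p hp.pos hplt
  have hpow : ∀ g : G, g ^ p = 1 := by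
    intro g
    have h1 : g ∈ (powMonoidHom p : G →* G).ker := by rw [hTp]; trivial
    simpa using h1
  have hGp : p < Nat.card G := by
    rw [hTp, Subgroup.card_top] at hplt
    exact hplt
  have hexp : Monoid.exponent G = p := by
    have h1 : Monoid.exponent G ∣ p := Monoid.exponent_dvd_of_forall_pow_eq_one hpow
    rcases (Nat.dvd_prime hp).mp h1 with h2 | h2
    · rw [Monoid.exp_eq_one_iff] at h2
      have h3 : Nat.card G = 1 := Nat.card_unique
      have := hp.two_le
      omega
    · exact h2
  have hPG : IsPGroup p G := fun g => ⟨1, by rw [pow_one]; exact hpow g⟩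
  obtain ⟨k, hk⟩ := IsPGroup.iff_card.mp hPG
  refine ⟨p, hp, ?_, hexp⟩
  have hk2 : 2 ≤ k := by
    by_contra hcon
    have h1 : k = 0 ∨ k = 1 := by omega
    rcases h1 with h1 | h1
    · rw [hk, h1, pow_zero] at hGp
      have := hp.two_le
      omega
    · rw [hk, h1, pow_one] at hGp
      omega
  have hk3 : k ≤ 2 := by
    by_contra hcon
    obtain ⟨K, hK⟩ := Sylow.exists_subgroup_card_pow_prime (G := G) p (n := 2)
      (by rw [hk]; exact pow_dvd_pow p (by omega))
    have hKtop : K ≠ ⊤ := by
      intro h1
      rw [h1, Subgroup.card_top, hk] at hK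
      have := Nat.pow_right_injective hp.two_le hK
      omega
    have hKc : IsCyclic K := by
      by_contra h1
      exact hKtop (hprop K h1)
    have h2 := card_le_of_cyclic_of_pow K hKc p hp.pos (fun x _ => hpow x)
    rw [hK] at h2
    have := hp.two_le
    nlinarith
  have : k = 2 := by omega
  rw [hk, this]

end Cfsg.Agent.S3917
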