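import Cfsg.Statements.S3918
import Cfsg.Agent.Lib.Helper23.RankTwo
import Cfsg.Agent.Lib.Helper54.CyclicNormal

set_option autoImplicit false
open Cfsg

namespace Cfsg.Agent.S3918

open Cfsg.Agent.Lib.Helper23.RankTwo Cfsg.Agent.Lib.Helper24.PGroupBasic
open Cfsg.Agent.Lib.Helper54.UniqueSubgroup Cfsg.Agent.Lib.Helper54.CyclicNormal

/-- For `p` odd, a non-cyclic finite `p`-group has a normal elementary abelian subgroup of
order `p ^ 2`. -/
theorem exists_normal_sq {G : Type*} [Group G] [Finite G] {p : ℕ} [Fact p.Prime] (hp : p ≠ 2)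
    (hG : IsPGroup p G) (hnc : ¬ IsCyclic G) :
    ∃ B : Subgroup G, B.Normal ∧ Cfsg.IsElementaryAbelian p B ∧ Nat.card B = p ^ 2 := by
  have hpr : p.Prime := Fact.out
  have h1 : ¬ ∀ A : Subgroup G, A.Normal → IsMulCommutative A → IsCyclic A := by
    intro hn
    rcases cyclic_or_two hG hn with h | ⟨h, -⟩
    · exact hnc h
    · exact hp h
  push Not at h1
  obtain ⟨A, hAn, hAc, hAnc⟩ := h1
  have hA : ∀ a ∈ A, ∀ b ∈ A, a * b = b * a := by
    intro a ha b hb
    have := hAc.is_comm.comm ⟨a, ha⟩ ⟨b, hb⟩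
    exact congrArg Subtype.val this
  haveI := hAn
  haveI hOn : (omega A hA p).Normal := omega_normal A hA p
  have hOe : ∀ a ∈ omega A hA p, a ^ p = 1 := fun a ha => ha.2
  have hOle : omega A hA p ≤ A := fun a ha => ha.1
  -- the order of `Ω` is at least `p ^ 2`
  have hOcard : p ^ 2 ≤ Nat.card (omega A hA p) := by
    obtain ⟨k, hk⟩ := (hG.to_subgroup (omega A hA p)).exists_card_eq
    rw [hk]
    by_contra hlt
    have hk1 : k ≤ 1 := by
      by_contra hk2
      exact hlt (Nat.pow_le_pow_right hpr.pos (by omega))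
    have hcard_le : Nat.card (omega A hA p) ≤ p := by
      rw [hk]
      calc p ^ k ≤ p ^ 1 := Nat.pow_le_pow_right hpr.pos hk1
        _ = p := pow_one p
    apply hAnc
    refine isCyclic_of_odd hp (Nat.card A) A rfl (hG.to_subgroup A) ?_
    intro g h hg hh hg1
    have hg' : (g : G) ∈ omega A hA p := ⟨g.2, by exact_mod_cast congrArg Subtype.val hg⟩
    have hh' : (h : G) ∈ omega A hA p := ⟨h.2, by exact_mod_cast congrArg Subtype.val hh⟩
    have hgne : (g : G) ≠ 1 := fun h0 => hg1 (Subtype.ext h0)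
    have hord : orderOf (g : G) = p :=
      orderOf_eq_prime (by exact_mod_cast congrArg Subtype.val hg) hgne
    have hzle : Subgroup.zpowers (g : G) ≤ omega A hA p := Subgroup.zpowers_le.2 hg'
    have hzeq : Subgroup.zpowers (g : G) = omega A hA p := by
      apply Subgroup.eq_of_le_of_card_ge hzle
      rw [Nat.card_zpowers, hord]; exact hcard_le
    have : (h : G) ∈ Subgroup.zpowers (g : G) := hzeq ▸ hh'
    obtain ⟨i, hi⟩ := Subgroup.mem_zpowers_iff.1 this
    exact Subgroup.mem_zpowers_iff.2 ⟨i, Subtype.ext (by simpa using hi)⟩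
  obtain ⟨B, hBn, hBle, hBc⟩ := exists_normal_le_card hG (omega A hA p) hOe 2 hOcard
  refine ⟨B, hBn, ⟨⟨⟨fun x y => Subtype.ext ?_⟩⟩, fun b hb => hOe b (hBle hb)⟩, hBc⟩
  exact hA x (hOle (hBle x.2)) y (hOle (hBle y.2))

theorem result {G : Type*} [Group G] [Finite G] {p : ℕ} [Fact p.Prime] (hp : p ≠ 2) (hG : IsPGroup p G) (hna : ¬ IsMulCommutative G) :
    (∀ H : Subgroup G, ¬ IsCyclic ↥H → Subgroup.centralizer (H : Set G) ≤ H) ↔ Nat.card G = p ^ 3 := by
  have hpr : p.Prime := Fact.out
  obtain ⟨n, hn⟩ := hG.exists_card_eq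
  have hn3 : 3 ≤ n := by
    by_contra hlt
    apply hna
    have hn' : n = 0 ∨ n = 1 ∨ n = 2 := by omega
    rcases hn' with rfl | rfl | rfl
    · rw [pow_zero] at hn
      haveI : Subsingleton G := (Nat.card_eq_one_iff_unique.1 hn).1
      exact ⟨⟨fun a b => Subsingleton.elim _ _⟩⟩
    · rw [pow_one] at hn
      haveI : IsCyclic G := isCyclic_of_prime_card hn
      exact ⟨⟨fun a b => IsCyclic.commGroup.mul_comm a b⟩⟩
    · exact ⟨⟨fun a b => IsPGroup.commutative_of_card_eq_prime_sq hn a b⟩⟩
  constructor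
  · intro h
    have hnc : ¬ IsCyclic G := by
      intro hc
      exact hna ⟨⟨fun a b => IsCyclic.commGroup.mul_comm a b⟩⟩
    obtain ⟨B, hBn, hBe, hBc⟩ := exists_normal_sq hp hG hnc
    haveI := hBn
    have hBnc : ¬ IsCyclic B := not_isCyclic_of_exp B hBc hBe.2
    have hcent := h B hBnc
    have h1 := card_le_mul_card_inf_centralizer hG B hBe hBc ⊤
    have h2 : Nat.card ↥((⊤ : Subgroup G) ⊓ Subgroup.centralizer (B : Set G)) ≤ Nat.card B :=
      Subgroup.card_le_of_le (inf_le_right.trans hcent)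
    have h3 : Nat.card G ≤ p ^ 3 := by
      rw [Subgroup.card_top] at h1
      calc Nat.card G ≤ p * Nat.card ↥((⊤ : Subgroup G) ⊓ Subgroup.centralizer (B : Set G)) := h1
        _ ≤ p * Nat.card B := Nat.mul_le_mul_left p h2
        _ = p ^ 3 := by rw [hBc]; ring
    have h4 : p ^ 3 ≤ Nat.card G := by
      rw [hn]; exact Nat.pow_le_pow_right hpr.pos hn3
    exact le_antisymm h3 h4
  · intro hcard H hH x hx
    by_contra hxH
    have hHdvd : Nat.card H ∣ p ^ 3 := hcard ▸ Subgroup.card_subgroup_dvd_card H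
    obtain ⟨j, hj3, hj⟩ := (Nat.dvd_prime_pow hpr).1 hHdvd
    -- `H` has order `p ^ 2`
    have hj2 : j = 2 := by
      have hj' : j = 0 ∨ j = 1 ∨ j = 2 ∨ j = 3 := by omega
      rcases hj' with rfl | rfl | rfl | rfl
      · rw [pow_zero] at hj
        exfalso; apply hH
        rw [Subgroup.card_eq_one] at hj
        rw [hj]; infer_instance
      · rw [pow_one] at hj
        exact absurd (isCyclic_of_prime_card hj) hH
      · rfl
      · exfalso
        have : H = ⊤ := Subgroup.eq_top_of_card_eq H (by rw [hj, hcard])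
        exact hxH (this ▸ Subgroup.mem_top x)
    subst hj2
    have hHab : ∀ a b : H, a * b = b * a := IsPGroup.commutative_of_card_eq_prime_sq hj
    -- `K = H ⊔ ⟨x⟩` is everything
    have hlt : H < H ⊔ Subgroup.zpowers x := by
      refine lt_of_le_of_ne le_sup_left (fun h => hxH ?_)
      rw [h]
      exact (le_sup_right : Subgroup.zpowers x ≤ H ⊔ Subgroup.zpowers x) (Subgroup.mem_zpowers x)
    have hKtop : H ⊔ Subgroup.zpowers x = ⊤ := by
      have hKdvd : Nat.card ↥(H ⊔ Subgroup.zpowers x) ∣ p ^ 3 :=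
        hcard ▸ Subgroup.card_subgroup_dvd_card _
      obtain ⟨i, hi3, hi⟩ := (Nat.dvd_prime_pow hpr).1 hKdvd
      have hcl : Nat.card H < Nat.card ↥(H ⊔ Subgroup.zpowers x) := by
        by_contra hge
        push Not at hge
        exact hlt.ne (Subgroup.eq_of_le_of_card_ge hlt.le hge)
      rw [hj, hi] at hcl
      have hi' : 2 < i := (Nat.pow_lt_pow_iff_right hpr.one_lt).1 hcl
      have hi3' : i = 3 := by omega
      exact Subgroup.eq_top_of_card_eq _ (by rw [hi, hi3', hcard])
    apply hna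
    -- every element of `K` commutes with `H` and `x`
    have hcen : ∀ a ∈ H ⊔ Subgroup.zpowers x, ∀ h ∈ H, a * h = h * a := by
      intro a ha
      have hle : H ⊔ Subgroup.zpowers x ≤ Subgroup.centralizer (H : Set G) := by
        refine sup_le ?_ (Subgroup.zpowers_le.2 hx)
        intro b hb
        rw [Subgroup.mem_centralizer_iff]
        intro h hh
        exact congrArg Subtype.val (hHab ⟨h, hh⟩ ⟨b, hb⟩)
      intro h hh
      exact ((Subgroup.mem_centralizer_iff.1 (hle ha)) h hh).symm
    have hcenx : ∀ a ∈ H ⊔ Subgroup.zpowers x, a * x = x * a := by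
      intro a ha
      have hle : H ⊔ Subgroup.zpowers x ≤ Subgroup.centralizer ({x} : Set G) := by
        refine sup_le ?_ (Subgroup.zpowers_le.2 ?_)
        · intro b hb
          rw [Subgroup.mem_centralizer_iff]
          intro y hy
          rw [Set.mem_singleton_iff] at hy
          rw [hy]
          exact (Subgroup.mem_centralizer_iff.1 hx b hb).symm
        · rw [Subgroup.mem_centralizer_iff]
          intro y hy
          rw [Set.mem_singleton_iff] at hy
          rw [hy]
      exact ((Subgroup.mem_centralizer_iff.1 (hle ha)) x rfl).symm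
    refine ⟨⟨fun a b => ?_⟩⟩
    have ha : a ∈ H ⊔ Subgroup.zpowers x := hKtop ▸ Subgroup.mem_top a
    have hb : b ∈ H ⊔ Subgroup.zpowers x := hKtop ▸ Subgroup.mem_top b
    have hle : H ⊔ Subgroup.zpowers x ≤ Subgroup.centralizer ({a} : Set G) := by
      refine sup_le ?_ (Subgroup.zpowers_le.2 ?_)
      · intro h hh
        rw [Subgroup.mem_centralizer_iff]
        intro y hy
        rw [Set.mem_singleton_iff] at hy
        rw [hy]
        exact hcen a ha h hh
      · rw [Subgroup.mem_centralizer_iff]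
        intro y hy
        rw [Set.mem_singleton_iff] at hy
        rw [hy]
        exact hcenx a ha
    exact (Subgroup.mem_centralizer_iff.1 (hle hb)) a rfl

end Cfsg.Agent.S3918
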