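import Mathlib
import Cfsg.Statements.S4071

set_option autoImplicit false

namespace Cfsg.Agent.S4071

theorem backward {G : Type*} [Group G] [Finite G] (x : G) (A : Subgroup G) (p : ℕ) (hp : p.Prime)
    [hAn : A.Normal] (hAc : ∀ a ∈ A, ∀ b ∈ A, a * b = b * a) (k : ℕ) (hk : orderOf x = p ^ k)
    (hcomp : (Subgroup.zpowers x).IsComplement' A)
    (hxp : x ^ p ∈ Subgroup.center G) (hfpf : ∀ a : G, a ∈ A → a ≠ 1 → x * a * x⁻¹ ≠ a)
    (H : Subgroup G) (hH : ¬ IsMulCommutative H) : Subgroup.normalizer (H : Set G) = H := by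
  -- decomposition
  have hdec : ∀ g : G, ∃ i : ℤ, ∃ a ∈ A, g = x ^ i * a := by
    intro g
    obtain ⟨⟨⟨s, hs⟩, ⟨a, ha⟩⟩, hsa, _⟩ := (Subgroup.isComplement_iff_existsUnique.1 hcomp) g
    obtain ⟨i, rfl⟩ := Subgroup.mem_zpowers_iff.1 hs
    exact ⟨i, a, ha, hsa.symm⟩
  have hmk : ∀ (i : ℤ) (a : G), a ∈ A → ((x ^ i * a : G) : G ⧸ A) = ((x : G) : G ⧸ A) ^ i := by
    intro i a ha
    rw [QuotientGroup.mk_mul, (QuotientGroup.eq_one_iff a).2 ha, mul_one, QuotientGroup.mk_zpow]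
  -- Step 1
  have hstep1 : ∃ g ∈ H, x⁻¹ * g ∈ A := by
    have hnc : ∃ h₁ ∈ H, ∃ h₂ ∈ H, h₁ * h₂ ≠ h₂ * h₁ := by
      by_contra hcon
      push Not at hcon
      exact hH (isMulCommutative_iff_of_setLike.2 hcon)
    obtain ⟨h₁, hh₁, h₂, hh₂, hne⟩ := hnc
    have hex : ∃ h ∈ H, ∃ i : ℤ, ∃ a ∈ A, h = x ^ i * a ∧ ¬ (p : ℤ) ∣ i := by
      obtain ⟨i, a, ha, e1⟩ := hdec h₁
      obtain ⟨j, b, hb, e2⟩ := hdec h₂
      by_cases hi : (p : ℤ) ∣ i
      · by_cases hj : (p : ℤ) ∣ j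
        · exfalso
          apply hne
          obtain ⟨i', rfl⟩ := hi
          obtain ⟨j', rfl⟩ := hj
          have hci : ∀ g : G, g * x ^ ((p : ℤ) * i') = x ^ ((p : ℤ) * i') * g := by
            intro g
            have : x ^ ((p : ℤ) * i') ∈ Subgroup.center G := by
              rw [zpow_mul, zpow_natCast]; exact Subgroup.zpow_mem _ hxp _
            exact Subgroup.mem_center_iff.1 this g
          have hcj : ∀ g : G, g * x ^ ((p : ℤ) * j') = x ^ ((p : ℤ) * j') * g := by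
            intro g
            have : x ^ ((p : ℤ) * j') ∈ Subgroup.center G := by
              rw [zpow_mul, zpow_natCast]; exact Subgroup.zpow_mem _ hxp _
            exact Subgroup.mem_center_iff.1 this g
          rw [e1, e2]
          generalize x ^ ((p : ℤ) * i') = X at hci
          generalize x ^ ((p : ℤ) * j') = Y at hcj
          calc X * a * (Y * b) = X * (a * Y) * b := by group
            _ = X * (Y * a) * b := by rw [hcj a]
            _ = (X * Y) * (a * b) := by group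
            _ = (Y * X) * (b * a) := by rw [hcj X, hAc a ha b hb]
            _ = Y * (X * b) * a := by group
            _ = Y * (b * X) * a := by rw [hci b]
            _ = Y * b * (X * a) := by group
        · exact ⟨h₂, hh₂, j, b, hb, e2, hj⟩
      · exact ⟨h₁, hh₁, i, a, ha, e1, hi⟩
    obtain ⟨h, hhH, i, a, ha, e, hi⟩ := hex
    have hcop : IsCoprime ((p : ℤ) ^ k) i :=
      IsCoprime.pow_left (((Nat.prime_iff_prime_int.1 hp).coprime_iff_not_dvd).2 hi)
    obtain ⟨u, v, huv⟩ := hcop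
    have hxpk : x ^ ((p : ℤ) ^ k) = 1 := by
      have : x ^ (p ^ k) = 1 := by rw [← hk]; exact pow_orderOf_eq_one x
      rw [← Nat.cast_pow, zpow_natCast]; exact this
    have hx1 : x = (x ^ i) ^ v := by
      have : x ^ (u * (p : ℤ) ^ k + v * i) = x := by rw [huv, zpow_one]
      rw [zpow_add, zpow_mul', hxpk, one_zpow, one_mul, zpow_mul'] at this
      exact this.symm
    refine ⟨h ^ v, H.zpow_mem hhH v, ?_⟩
    rw [← QuotientGroup.eq, QuotientGroup.mk_zpow, e, hmk i a ha, ← zpow_mul, ← QuotientGroup.mk_zpow,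
      mul_comm, zpow_mul', ← hx1]
  obtain ⟨g, hgH, hga⟩ := hstep1
  -- Step 2
  have hstep2 : ∀ c ∈ A, g * c * g⁻¹ = c → c = 1 := by
    intro c hc hgc
    by_contra hc1
    apply hfpf c hc hc1
    have e : g = x * (x⁻¹ * g) := by group
    rw [e] at hgc
    have h2 : (x⁻¹ * g) * c = c * (x⁻¹ * g) := hAc _ hga _ hc
    calc x * c * x⁻¹ = x * (c * (x⁻¹ * g)) * (x * (x⁻¹ * g))⁻¹ := by group
      _ = x * ((x⁻¹ * g) * c) * (x * (x⁻¹ * g))⁻¹ := by rw [h2]
      _ = x * (x⁻¹ * g) * c * (x * (x⁻¹ * g))⁻¹ := by group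
      _ = c := hgc
  -- Step 3
  have hinj : ∀ c ∈ A, ∀ d ∈ A, c * g * c⁻¹ * g⁻¹ = d * g * d⁻¹ * g⁻¹ → c = d := by
    intro c hc d hd hcd
    have h1 : g * (d⁻¹ * c) * g⁻¹ = d⁻¹ * c := by
      have : c * g * c⁻¹ = d * g * d⁻¹ := by
        have := congrArg (fun z => z * g) hcd
        simpa using this
      calc g * (d⁻¹ * c) * g⁻¹ = d⁻¹ * (d * g * d⁻¹) * c * g⁻¹ := by group
        _ = d⁻¹ * (c * g * c⁻¹) * c * g⁻¹ := by rw [this]
        _ = d⁻¹ * c := by group
    have h2 := hstep2 (d⁻¹ * c) (A.mul_mem (A.inv_mem hd) hc) h1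
    calc c = d * (d⁻¹ * c) := by group
      _ = d := by rw [h2, mul_one]
  have hpsiA : ∀ c ∈ A, c * g * c⁻¹ * g⁻¹ ∈ A := by
    intro c hc
    have : g * c⁻¹ * g⁻¹ ∈ A := hAn.conj_mem _ (A.inv_mem hc) g
    have e : c * g * c⁻¹ * g⁻¹ = c * (g * c⁻¹ * g⁻¹) := by group
    rw [e]; exact A.mul_mem hc this
  let ψ : (H ⊓ A : Subgroup G) → (H ⊓ A : Subgroup G) := fun c =>
    ⟨(c : G) * g * (c : G)⁻¹ * g⁻¹,
      ⟨H.mul_mem (H.mul_mem (H.mul_mem c.2.1 hgH) (H.inv_mem c.2.1)) (H.inv_mem hgH), hpsiA c c.2.2⟩⟩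
  have hψinj : Function.Injective ψ := by
    intro c d hcd
    have := congrArg Subtype.val hcd
    exact Subtype.ext (hinj c c.2.2 d d.2.2 this)
  have hψsurj : Function.Surjective ψ := Finite.injective_iff_surjective.1 hψinj
  -- Step 4
  have hstep4 : ∀ a' ∈ A, a' ∈ Subgroup.normalizer (H : Set G) → a' ∈ H := by
    intro a' ha' hn
    have h1 : a' * g * a'⁻¹ ∈ H := (Subgroup.mem_normalizer_iff.1 hn g).1 hgH
    have h2 : a' * g * a'⁻¹ * g⁻¹ ∈ H ⊓ A := ⟨H.mul_mem h1 (H.inv_mem hgH), hpsiA a' ha'⟩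
    obtain ⟨b, hb⟩ := hψsurj ⟨_, h2⟩
    have h3 := congrArg Subtype.val hb
    have h4 : (b : G) = a' := hinj b b.2.2 a' ha' h3
    rw [← h4]; exact b.2.1
  -- Step 5
  apply le_antisymm _ Subgroup.le_normalizer
  intro n hn
  obtain ⟨j, a₁, ha₁, e⟩ := hdec n
  have hgx : ((g : G) : G ⧸ A) = ((x : G) : G ⧸ A) := (QuotientGroup.eq.2 hga).symm
  have h1 : (g ^ j)⁻¹ * n ∈ A := by
    rw [← QuotientGroup.eq, QuotientGroup.mk_zpow, hgx, e, hmk j a₁ ha₁]
  have h2 : (g ^ j)⁻¹ * n ∈ Subgroup.normalizer (H : Set G) :=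
    Subgroup.mul_mem _ (Subgroup.inv_mem _ (Subgroup.le_normalizer (H.zpow_mem hgH j))) hn
  have h3 := hstep4 _ h1 h2
  have : n = g ^ j * ((g ^ j)⁻¹ * n) := by group
  rw [this]
  exact H.mul_mem (H.zpow_mem hgH j) h3

theorem exists_normal_prime_index {G : Type*} [Group G] [Finite G] [Group.IsSolvable G] [Nontrivial G] :
    ∃ (M : Subgroup G) (p : ℕ), M.Normal ∧ p.Prime ∧ M.index = p := by
  have : Nonempty {M : Subgroup G // M.Normal ∧ M ≠ ⊤} := ⟨⟨⊥, inferInstance, bot_ne_top⟩⟩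
  obtain ⟨⟨M, hMn, hMtop⟩, hmax⟩ :=
    Finite.exists_max (fun M : {M : Subgroup G // M.Normal ∧ M ≠ ⊤} => Nat.card (M : Subgroup G))
  have := hMn
  have hsimple : IsSimpleGroup (G ⧸ M) := by
    have : Nontrivial (G ⧸ M) := by
      obtain ⟨g, hg⟩ : ∃ g : G, g ∉ M := by
        by_contra h
        push Not at h
        exact hMtop (eq_top_iff.2 (fun g _ => h g))
      exact ⟨⟨(g : G ⧸ M), 1, fun h => hg ((QuotientGroup.eq_one_iff g).1 h)⟩⟩
    refine ⟨fun K hK => ?_⟩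
    by_cases hKtop : K = ⊤
    · right; exact hKtop
    · left
      have h1 : K.comap (QuotientGroup.mk' M) ≠ ⊤ := by
        intro h
        apply hKtop
        rw [eq_top_iff]
        intro z _
        obtain ⟨g, rfl⟩ := QuotientGroup.mk'_surjective M z
        have : g ∈ K.comap (QuotientGroup.mk' M) := by rw [h]; trivial
        exact this
      have h2 := hmax ⟨K.comap (QuotientGroup.mk' M), hK.comap _, h1⟩
      have h3 : M ≤ K.comap (QuotientGroup.mk' M) := by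
        intro m hm
        show (QuotientGroup.mk' M m) ∈ K
        have : QuotientGroup.mk' M m = 1 := (QuotientGroup.eq_one_iff m).2 hm
        rw [this]; exact K.one_mem
      have h4 : M = K.comap (QuotientGroup.mk' M) := Subgroup.eq_of_le_of_card_ge h3 h2
      rw [eq_bot_iff]
      intro z hz
      obtain ⟨g, rfl⟩ := QuotientGroup.mk'_surjective M z
      have : g ∈ M := by rw [h4]; exact hz
      exact (Subgroup.mem_bot).2 ((QuotientGroup.eq_one_iff g).2 this)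
  have hcomm : ∀ a b : G ⧸ M, a * b = b * a := IsSimpleGroup.comm_iff_isSolvable.2 inferInstance
  have : IsMulCommutative (G ⧸ M) := isMulCommutative_iff.2 hcomm
  have hprime := Group.is_simple_iff_prime_card.1 hsimple
  exact ⟨M, Nat.card (G ⧸ M), hMn, hprime, Subgroup.index_eq_card M⟩

/-- The `n`-torsion of an abelian subgroup. -/
def tors {G : Type*} [Group G] (M : Subgroup G) (hM : ∀ a ∈ M, ∀ b ∈ M, a * b = b * a) (n : ℕ) :
    Subgroup G where
  carrier := {g | g ∈ M ∧ g ^ n = 1}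
  mul_mem' := by
    rintro a b ⟨ha, ha'⟩ ⟨hb, hb'⟩
    exact ⟨M.mul_mem ha hb, by rw [(show Commute a b from hM a ha b hb).mul_pow, ha', hb', one_mul]⟩
  one_mem' := ⟨M.one_mem, one_pow n⟩
  inv_mem' := by
    rintro a ⟨ha, ha'⟩
    exact ⟨M.inv_mem ha, by rw [inv_pow, ha', inv_one]⟩

theorem tors_normal {G : Type*} [Group G] (M : Subgroup G) [hMn : M.Normal]
    (hM : ∀ a ∈ M, ∀ b ∈ M, a * b = b * a) (n : ℕ) : (tors M hM n).Normal :=
  ⟨fun a ha g => ⟨hMn.conj_mem a ha.1 g, by rw [conj_pow, ha.2, mul_one, mul_inv_cancel]⟩⟩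

theorem comm_eq_one {G : Type*} [Group G] (A : Subgroup G) [hAn : A.Normal]
    (x : G) (p n : ℕ) (hcop : Nat.Coprime p n) (hxp : x ^ p ∈ Subgroup.center G)
    (hApow : ∀ a ∈ A, a ^ n = 1) (a : G) (ha : a ∈ A)
    (hd : x * (a * x * a⁻¹ * x⁻¹) = (a * x * a⁻¹ * x⁻¹) * x) : a * x * a⁻¹ * x⁻¹ = 1 := by
  have hdA : a * x * a⁻¹ * x⁻¹ ∈ A := by
    have : x * a⁻¹ * x⁻¹ ∈ A := hAn.conj_mem _ (A.inv_mem ha) x
    have e : a * x * a⁻¹ * x⁻¹ = a * (x * a⁻¹ * x⁻¹) := by group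
    rw [e]; exact A.mul_mem ha this
  have h1 : x * a * x⁻¹ = (a * x * a⁻¹ * x⁻¹)⁻¹ * a := by group
  generalize a * x * a⁻¹ * x⁻¹ = d at hd hdA h1 ⊢
  have h2 : ∀ j : ℕ, x ^ j * a * (x ^ j)⁻¹ = (d ^ j)⁻¹ * a := by
    intro j
    induction j with
    | zero => simp
    | succ j ih =>
      have hxd : x * (d ^ j)⁻¹ * x⁻¹ = (d ^ j)⁻¹ := by
        have hc : Commute x d := hd
        have hc2 : Commute x (d ^ j)⁻¹ := (hc.pow_right j).inv_right
        rw [hc2.eq]; group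
      calc x ^ (j + 1) * a * (x ^ (j + 1))⁻¹ = x * (x ^ j * a * (x ^ j)⁻¹) * x⁻¹ := by
            rw [pow_succ']; group
        _ = x * ((d ^ j)⁻¹ * a) * x⁻¹ := by rw [ih]
        _ = (x * (d ^ j)⁻¹ * x⁻¹) * (x * a * x⁻¹) := by group
        _ = (d ^ j)⁻¹ * (d⁻¹ * a) := by rw [hxd, h1]
        _ = (d ^ (j + 1))⁻¹ * a := by rw [pow_succ]; group
  have h3 := h2 p
  have h4 : x ^ p * a * (x ^ p)⁻¹ = a := by
    have := Subgroup.mem_center_iff.1 hxp a
    rw [← this]; group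
  rw [h4] at h3
  have h5 : d ^ p = 1 := by
    have h6 : (d ^ p)⁻¹ = 1 := by
      have := congrArg (fun z => z * a⁻¹) h3
      simpa using this.symm
    simpa using h6
  have h6 : d ^ n = 1 := hApow d hdA
  have h7 : orderOf d ∣ Nat.gcd p n :=
    Nat.dvd_gcd (orderOf_dvd_of_pow_eq_one h5) (orderOf_dvd_of_pow_eq_one h6)
  rw [Nat.Coprime.gcd_eq_one hcop, Nat.dvd_one] at h7
  exact orderOf_eq_one_iff.1 h7

theorem mem_normalizer_sup {G : Type*} [Group G] (X A : Subgroup G) [hAn : A.Normal] (t : G)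
    (ht : t ∈ Subgroup.normalizer (X : Set G)) :
    t ∈ Subgroup.normalizer ((X ⊔ A : Subgroup G) : Set G) := by
  have key : ∀ s ∈ Subgroup.normalizer (X : Set G), ∀ h ∈ X ⊔ A, s * h * s⁻¹ ∈ X ⊔ A := by
    intro s hs h hh
    have hh' : h ∈ (↑(X ⊔ A) : Set G) := hh
    rw [Subgroup.mul_normal] at hh'
    obtain ⟨y, hy, a, ha, rfl⟩ := Set.mem_mul.1 hh'
    have e : s * (y * a) * s⁻¹ = (s * y * s⁻¹) * (s * a * s⁻¹) := by group
    rw [e]
    exact Subgroup.mul_mem _ (Subgroup.mem_sup_left ((Subgroup.mem_normalizer_iff.1 hs y).1 hy))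
      (Subgroup.mem_sup_right (hAn.conj_mem a ha s))
  rw [Subgroup.mem_normalizer_iff]
  intro h
  constructor
  · exact key t ht h
  · intro hh
    have := key t⁻¹ (Subgroup.inv_mem _ ht) _ hh
    have e : t⁻¹ * (t * h * t⁻¹) * t⁻¹⁻¹ = h := by group
    rwa [e] at this

theorem forward {G : Type*} [Group G] [Finite G] [Group.IsSolvable G] (hnn : ¬ Group.IsNilpotent G)
    (hSN : ∀ H : Subgroup G, ¬ IsMulCommutative H → Subgroup.normalizer (H : Set G) = H) :
    ∃ (x : G) (A : Subgroup G) (p : ℕ), p.Prime ∧ A.Normal ∧ IsMulCommutative A ∧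
      (∃ k : ℕ, orderOf x = p ^ k) ∧
      ¬ p ∣ Nat.card A ∧ (Subgroup.zpowers x).IsComplement' A ∧ x ^ p ∈ Subgroup.center G ∧
      ∀ a : G, a ∈ A → a ≠ 1 → x * a * x⁻¹ ≠ a := by
  have hnt : Nontrivial G := by
    by_contra h
    rw [not_nontrivial_iff_subsingleton] at h
    exact hnn inferInstance
  obtain ⟨M, p, hMn, hp, hMp⟩ := exists_normal_prime_index (G := G)
  have hpF : Fact p.Prime := ⟨hp⟩
  have hMtop : M ≠ ⊤ := by
    intro h
    rw [h, Subgroup.index_top] at hMp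
    exact hp.one_lt.ne hMp
  have hMc : ∀ a ∈ M, ∀ b ∈ M, a * b = b * a := by
    by_contra hcon
    have h1 : ¬ IsMulCommutative M := fun h => hcon (isMulCommutative_iff_of_setLike.1 h)
    have h2 := hSN M h1
    rw [Subgroup.normalizer_eq_top] at h2
    exact hMtop h2.symm
  obtain ⟨e, n', hpn', hcard⟩ :=
    Nat.exists_eq_pow_mul_and_not_dvd (Nat.card_pos (α := M)).ne' p hp.ne_one
  have hcop : Nat.Coprime p n' := (Nat.Prime.coprime_iff_not_dvd hp).2 hpn'
  have hMpow : ∀ m ∈ M, m ^ (p ^ e * n') = 1 := by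
    intro m hm
    have h1 := pow_card_eq_one' (G := M) (x := ⟨m, hm⟩)
    rw [hcard] at h1
    have h2 := congrArg Subtype.val h1
    simpa using h2
  have hAn : (tors M hMc n').Normal := tors_normal M hMc n'
  have hMpn : (tors M hMc (p ^ e)).Normal := tors_normal M hMc (p ^ e)
  have hAM : tors M hMc n' ≤ M := fun a ha => ha.1
  have hAc : ∀ a ∈ tors M hMc n', ∀ b ∈ tors M hMc n', a * b = b * a :=
    fun a ha b hb => hMc a ha.1 b hb.1
  have hApow : ∀ a ∈ tors M hMc n', a ^ n' = 1 := fun a ha => ha.2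
  generalize hAdef : tors M hMc n' = A at hAn hAM hAc hApow
  have hMpP : IsPGroup p (tors M hMc (p ^ e)) := by
    intro g
    refine ⟨e, ?_⟩
    exact Subtype.ext (by simpa using g.2.2)
  have hMpM : tors M hMc (p ^ e) ≤ M := fun a ha => ha.1
  have hMle : M ≤ tors M hMc (p ^ e) ⊔ A := by
    intro m hm
    have hc : IsCoprime ((p ^ e : ℕ) : ℤ) (n' : ℤ) :=
      Nat.isCoprime_iff_coprime.2 (Nat.Coprime.pow_left e hcop)
    obtain ⟨u, v, huv⟩ := hc
    have e1 : m = (m ^ n') ^ v * (m ^ (p ^ e)) ^ u := by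
      rw [← zpow_natCast, ← zpow_natCast, ← zpow_mul, ← zpow_mul, ← zpow_add]
      have : (n' : ℤ) * v + ((p ^ e : ℕ) : ℤ) * u = 1 := by linarith
      rw [this, zpow_one]
    rw [e1]
    apply Subgroup.mul_mem
    · apply Subgroup.mem_sup_left
      apply Subgroup.zpow_mem
      refine ⟨M.pow_mem hm _, ?_⟩
      rw [← pow_mul, mul_comm]; exact hMpow m hm
    · apply Subgroup.mem_sup_right
      apply Subgroup.zpow_mem
      rw [← hAdef]
      refine ⟨M.pow_mem hm _, ?_⟩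
      rw [← pow_mul]; exact hMpow m hm
  generalize tors M hMc (p ^ e) = Mp at hMpn hMpP hMpM hMle
  have hpA : ¬ p ∣ Nat.card A := by
    intro hdiv
    obtain ⟨a, ha⟩ := exists_prime_orderOf_dvd_card' p hdiv
    have h1 : (a : G) ^ n' = 1 := hApow a a.2
    have h2 : orderOf (a : G) = p := by rw [Subgroup.orderOf_coe]; exact ha
    have : p ∣ n' := by rw [← h2]; exact orderOf_dvd_of_pow_eq_one h1
    exact hpn' this
  obtain ⟨y, hy⟩ : ∃ y : G, y ∉ M := by
    by_contra h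
    push Not at h
    exact hMtop (eq_top_iff.2 (fun g _ => h g))
  obtain ⟨a₀, b₀, hpb₀, hyo⟩ := Nat.exists_eq_pow_mul_and_not_dvd (orderOf_pos y).ne' p hp.ne_one
  have hxM : y ^ b₀ ∉ M := by
    intro hxm
    apply hy
    have hyp : y ^ p ∈ M := by
      have := Subgroup.pow_index_mem M y
      rwa [hMp] at this
    have hc : IsCoprime (b₀ : ℤ) (p : ℤ) :=
      Nat.isCoprime_iff_coprime.2 ((Nat.Prime.coprime_iff_not_dvd hp).2 hpb₀).symm
    obtain ⟨u, v, huv⟩ := hc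
    have e1 : y = (y ^ b₀) ^ u * (y ^ p) ^ v := by
      rw [← zpow_natCast, ← zpow_natCast, ← zpow_mul, ← zpow_mul, ← zpow_add]
      have : (b₀ : ℤ) * u + (p : ℤ) * v = 1 := by linarith
      rw [this, zpow_one]
    rw [e1]
    exact M.mul_mem (M.zpow_mem hxm u) (M.zpow_mem hyp v)
  have hxpow : (y ^ b₀) ^ (p ^ a₀) = 1 := by
    rw [← pow_mul, mul_comm, ← hyo, pow_orderOf_eq_one]
  generalize y ^ b₀ = x at hxM hxpow
  obtain ⟨k, hk⟩ : ∃ k, orderOf x = p ^ k := by
    obtain ⟨k, _, hk⟩ := (Nat.dvd_prime_pow hp).1 (orderOf_dvd_of_pow_eq_one hxpow)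
    exact ⟨k, hk⟩
  have hxP : IsPGroup p (Subgroup.zpowers x) := by
    apply IsPGroup.of_card (n := k)
    rw [Nat.card_zpowers, hk]
  have hTP : IsPGroup p (Subgroup.zpowers x ⊔ Mp : Subgroup G) := hxP.to_sup_of_normal_right hMpP
  have hxM_top : Subgroup.zpowers x ⊔ M = ⊤ := by
    rw [eq_top_iff]
    intro g _
    have hcardQ : Nat.card (G ⧸ M) = p := by rw [← Subgroup.index_eq_card]; exact hMp
    have hx1 : ((x : G) : G ⧸ M) ≠ 1 := fun h => hxM ((QuotientGroup.eq_one_iff x).1 h)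
    have h1 := mem_zpowers_of_prime_card hcardQ hx1 (g' := ((g : G) : G ⧸ M))
    obtain ⟨i, hi⟩ := Subgroup.mem_zpowers_iff.1 h1
    have h2 : (x ^ i)⁻¹ * g ∈ M := by
      rw [← QuotientGroup.eq, QuotientGroup.mk_zpow]; exact hi
    have h3 : g = x ^ i * ((x ^ i)⁻¹ * g) := by group
    rw [h3]
    exact Subgroup.mul_mem _ (Subgroup.mem_sup_left (Subgroup.zpow_mem _ (Subgroup.mem_zpowers x) i))
      (Subgroup.mem_sup_right h2)
  have hTA : (Subgroup.zpowers x ⊔ Mp) ⊔ A = ⊤ := by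
    rw [eq_top_iff, ← hxM_top, sup_assoc]
    exact sup_le_sup_left hMle _
  have hTA_disj : ∀ g ∈ (Subgroup.zpowers x ⊔ Mp : Subgroup G), g ∈ A → g = 1 := by
    intro g hgT hgA
    obtain ⟨j, hj⟩ := hTP ⟨g, hgT⟩
    have h1 : g ^ (p ^ j) = 1 := by simpa using congrArg Subtype.val hj
    have h2 : g ^ n' = 1 := hApow g hgA
    have h3 : orderOf g ∣ Nat.gcd (p ^ j) n' :=
      Nat.dvd_gcd (orderOf_dvd_of_pow_eq_one h1) (orderOf_dvd_of_pow_eq_one h2)
    rw [Nat.Coprime.gcd_eq_one (Nat.Coprime.pow_left j hcop), Nat.dvd_one] at h3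
    exact orderOf_eq_one_iff.1 h3
  have hxpM : x ^ p ∈ M := by
    have := Subgroup.pow_index_mem M x
    rwa [hMp] at this
  have hcase : ∃ a ∈ A, x * a ≠ a * x := by
    by_contra hcon
    push Not at hcon
    apply hnn
    have hAcen : A ≤ Subgroup.center G := by
      intro a ha
      rw [Subgroup.mem_center_iff]
      have h1 : (⊤ : Subgroup G) ≤ Subgroup.centralizer {a} := by
        rw [← hTA]
        refine sup_le (sup_le ?_ ?_) ?_
        · rw [Subgroup.zpowers_le, Subgroup.mem_centralizer_singleton_iff]; exact hcon a ha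
        · intro m hm; rw [Subgroup.mem_centralizer_singleton_iff]; exact hMc m (hMpM hm) a (hAM ha)
        · intro b hb; rw [Subgroup.mem_centralizer_singleton_iff]; exact hAc b hb a ha
      intro g
      exact Subgroup.mem_centralizer_singleton_iff.1 (h1 (Subgroup.mem_top g))
    have hsurj : Function.Surjective
        ((QuotientGroup.mk' A).comp (Subgroup.zpowers x ⊔ Mp : Subgroup G).subtype) := by
      intro z
      obtain ⟨g, rfl⟩ := QuotientGroup.mk'_surjective A z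
      have hg : g ∈ (↑((Subgroup.zpowers x ⊔ Mp) ⊔ A) : Set G) := by rw [hTA]; trivial
      rw [Subgroup.mul_normal] at hg
      obtain ⟨t, ht, a, ha, rfl⟩ := Set.mem_mul.1 hg
      refine ⟨⟨t, ht⟩, ?_⟩
      show (QuotientGroup.mk' A) t = (QuotientGroup.mk' A) (t * a)
      have h1 : (QuotientGroup.mk' A) a = 1 := (QuotientGroup.eq_one_iff a).2 ha
      rw [map_mul, h1, mul_one]
    have hQP : IsPGroup p (G ⧸ A) := hTP.of_surjective _ hsurj
    have hQnil : Group.IsNilpotent (G ⧸ A) := hQP.isNilpotent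
    exact Subgroup.isNilpotent_of_ker_le_center (QuotientGroup.mk' A)
      (by rw [QuotientGroup.ker_mk']; exact hAcen)
  obtain ⟨a₁, ha₁, hxa₁⟩ := hcase
  have hHna : ¬ IsMulCommutative (Subgroup.zpowers x ⊔ A : Subgroup G) := by
    intro h
    exact hxa₁ (isMulCommutative_iff_of_setLike.1 h x (Subgroup.mem_sup_left (Subgroup.mem_zpowers x))
      a₁ (Subgroup.mem_sup_right ha₁))
  have hHsn := hSN _ hHna
  have hxT : Subgroup.zpowers x ≤ Subgroup.zpowers x ⊔ Mp := le_sup_left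
  have hTx : Subgroup.zpowers x ⊔ Mp ≤ Subgroup.zpowers x := by
    by_contra hcon
    have hTnil : Group.IsNilpotent (Subgroup.zpowers x ⊔ Mp : Subgroup G) := hTP.isNilpotent
    have hX : (Subgroup.zpowers x).subgroupOf (Subgroup.zpowers x ⊔ Mp) < ⊤ := by
      rw [lt_top_iff_ne_top]
      intro h
      exact hcon (Subgroup.subgroupOf_eq_top.1 h)
    have hnc := Group.normalizerCondition_of_isNilpotent
      (G := (Subgroup.zpowers x ⊔ Mp : Subgroup G)) _ hX
    obtain ⟨t, htn, htX⟩ := SetLike.exists_of_lt hnc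
    have htG : (t : G) ∈ Subgroup.normalizer ((Subgroup.zpowers x : Subgroup G) : Set G) := by
      rw [Subgroup.mem_normalizer_iff]
      intro g
      constructor
      · intro hg
        have h1 := (Subgroup.mem_normalizer_iff.1 htn ⟨g, hxT hg⟩).1 (Subgroup.mem_subgroupOf.2 hg)
        simpa using Subgroup.mem_subgroupOf.1 h1
      · intro hg
        have hgT : g ∈ (Subgroup.zpowers x ⊔ Mp : Subgroup G) := by
          have h1 : (t : G)⁻¹ * ((t : G) * g * (t : G)⁻¹) * (t : G) ∈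
              (Subgroup.zpowers x ⊔ Mp : Subgroup G) :=
            Subgroup.mul_mem _ (Subgroup.mul_mem _ (Subgroup.inv_mem _ t.2) (hxT hg)) t.2
          have e : (t : G)⁻¹ * ((t : G) * g * (t : G)⁻¹) * (t : G) = g := by group
          rwa [e] at h1
        have h1 := (Subgroup.mem_normalizer_iff.1 htn ⟨g, hgT⟩).2
          (Subgroup.mem_subgroupOf.2 (by simpa using hg))
        simpa using Subgroup.mem_subgroupOf.1 h1
    have htH := mem_normalizer_sup (Subgroup.zpowers x) A (t : G) htG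
    rw [hHsn] at htH
    have htH' : (t : G) ∈ (↑(Subgroup.zpowers x ⊔ A) : Set G) := htH
    rw [Subgroup.mul_normal] at htH'
    obtain ⟨s, hs, a, ha, hsa⟩ := Set.mem_mul.1 htH'
    have haT : a ∈ (Subgroup.zpowers x ⊔ Mp : Subgroup G) := by
      have : a = s⁻¹ * (t : G) := by rw [← hsa]; group
      rw [this]; exact Subgroup.mul_mem _ (Subgroup.inv_mem _ (hxT hs)) t.2
    have ha1 := hTA_disj a haT ha
    rw [ha1, mul_one] at hsa
    apply htX
    rw [Subgroup.mem_subgroupOf, ← hsa]; exact hs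
  have hxA_top : Subgroup.zpowers x ⊔ A = ⊤ := by
    rw [eq_top_iff, ← hTA]; exact sup_le_sup_right hTx _
  have hdisj : Disjoint (Subgroup.zpowers x) A := by
    rw [Subgroup.disjoint_def]
    intro g hg hgA
    exact hTA_disj g (Subgroup.mem_sup_left hg) hgA
  have hcompl : (Subgroup.zpowers x).IsComplement' A := by
    apply Subgroup.isComplement'_of_disjoint_and_mul_eq_univ hdisj
    rw [← Subgroup.mul_normal, hxA_top]; rfl
  have hxpc : x ^ p ∈ Subgroup.center G := by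
    rw [Subgroup.mem_center_iff]
    have h1 : (⊤ : Subgroup G) ≤ Subgroup.centralizer {x ^ p} := by
      rw [← hxA_top]
      refine sup_le ?_ ?_
      · rw [Subgroup.zpowers_le, Subgroup.mem_centralizer_singleton_iff]
        exact (pow_succ' x p).symm.trans (pow_succ x p)
      · intro b hb; rw [Subgroup.mem_centralizer_singleton_iff]; exact hMc b (hAM hb) _ hxpM
    intro g
    exact Subgroup.mem_centralizer_singleton_iff.1 (h1 (Subgroup.mem_top g))
  let D : Subgroup G :=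
    { carrier := {d | ∃ a ∈ A, d = a * x * a⁻¹ * x⁻¹}
      one_mem' := ⟨1, A.one_mem, by group⟩
      mul_mem' := by
        rintro _ _ ⟨a, ha, rfl⟩ ⟨b, hb, rfl⟩
        refine ⟨a * b, A.mul_mem ha hb, ?_⟩
        have h1 : x * a⁻¹ * x⁻¹ ∈ A := hAn.conj_mem _ (A.inv_mem ha) x
        have h2 : (x * a⁻¹ * x⁻¹) * b = b * (x * a⁻¹ * x⁻¹) := hAc _ h1 _ hb
        have h3 : a⁻¹ * b⁻¹ = b⁻¹ * a⁻¹ := hAc _ (A.inv_mem ha) _ (A.inv_mem hb)
        calc a * x * a⁻¹ * x⁻¹ * (b * x * b⁻¹ * x⁻¹)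
            = a * ((x * a⁻¹ * x⁻¹) * b) * x * b⁻¹ * x⁻¹ := by group
          _ = a * (b * (x * a⁻¹ * x⁻¹)) * x * b⁻¹ * x⁻¹ := by rw [h2]
          _ = a * b * x * (a⁻¹ * b⁻¹) * x⁻¹ := by group
          _ = a * b * x * (b⁻¹ * a⁻¹) * x⁻¹ := by rw [h3]
          _ = a * b * x * (a * b)⁻¹ * x⁻¹ := by group
      inv_mem' := by
        rintro _ ⟨a, ha, rfl⟩
        refine ⟨a⁻¹, A.inv_mem ha, ?_⟩
        have h1 : x * a * x⁻¹ ∈ A := hAn.conj_mem _ ha x
        have h2 : (x * a * x⁻¹) * a⁻¹ = a⁻¹ * (x * a * x⁻¹) := hAc _ h1 _ (A.inv_mem ha)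
        calc (a * x * a⁻¹ * x⁻¹)⁻¹ = (x * a * x⁻¹) * a⁻¹ := by group
          _ = a⁻¹ * (x * a * x⁻¹) := h2
          _ = a⁻¹ * x * a⁻¹⁻¹ * x⁻¹ := by group }
  have hDmem : ∀ d, d ∈ D ↔ ∃ a ∈ A, d = a * x * a⁻¹ * x⁻¹ := fun d => Iff.rfl
  have hDA : D ≤ A := by
    rintro _ ⟨a, ha, rfl⟩
    have h1 : x * a⁻¹ * x⁻¹ ∈ A := hAn.conj_mem _ (A.inv_mem ha) x
    have e : a * x * a⁻¹ * x⁻¹ = a * (x * a⁻¹ * x⁻¹) := by group
    rw [e]; exact A.mul_mem ha h1
  have hDn : D.Normal := by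
    rw [← Subgroup.normalizer_eq_top_iff, eq_top_iff, ← hxA_top]
    refine sup_le ?_ ?_
    · rw [Subgroup.zpowers_le, Subgroup.mem_normalizer_iff]
      intro h
      constructor
      · rintro ⟨a, ha, rfl⟩
        exact ⟨x * a * x⁻¹, hAn.conj_mem _ ha x, by group⟩
      · rintro ⟨a, ha, hh⟩
        refine ⟨x⁻¹ * a * x, ?_, ?_⟩
        · have := hAn.conj_mem _ ha x⁻¹
          simpa using this
        · calc h = x⁻¹ * (x * h * x⁻¹) * x := by group
            _ = x⁻¹ * (a * x * a⁻¹ * x⁻¹) * x := by rw [hh]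
            _ = x⁻¹ * a * x * x * (x⁻¹ * a * x)⁻¹ * x⁻¹ := by group
    · intro a' ha'
      rw [Subgroup.mem_normalizer_iff]
      intro h
      constructor
      · intro hh
        have h1 : a' * h = h * a' := hAc a' ha' h (hDA hh)
        have e : a' * h * a'⁻¹ = h := by rw [h1]; group
        rw [e]; exact hh
      · intro hh
        have hhA : h ∈ A := by
          have h1 := hAn.conj_mem _ (hDA hh) a'⁻¹
          have e : a'⁻¹ * (a' * h * a'⁻¹) * a'⁻¹⁻¹ = h := by group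
          rwa [e] at h1
        have h1 : a' * h = h * a' := hAc a' ha' h hhA
        have e : a' * h * a'⁻¹ = h := by rw [h1]; group
        rwa [e] at hh
  have hH2 : ¬ IsMulCommutative (Subgroup.zpowers x ⊔ D : Subgroup G) := by
    intro h
    apply hxa₁
    have hd : a₁ * x * a₁⁻¹ * x⁻¹ ∈ D := ⟨a₁, ha₁, rfl⟩
    have hcomm := isMulCommutative_iff_of_setLike.1 h x
      (Subgroup.mem_sup_left (Subgroup.mem_zpowers x)) _ (Subgroup.mem_sup_right hd)
    have h1 := comm_eq_one A x p n' hcop hxpc hApow a₁ ha₁ hcomm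
    have e : a₁ * x = (a₁ * x * a₁⁻¹ * x⁻¹) * (x * a₁) := by group
    rw [e, h1, one_mul]
  have hH2sn := hSN _ hH2
  refine ⟨x, A, p, hp, hAn, isMulCommutative_iff_of_setLike.2 hAc, ⟨k, hk⟩, hpA, hcompl, hxpc, ?_⟩
  intro c hc hc1 hxc
  apply hc1
  have hxc' : x * c = c * x := by
    calc x * c = (x * c * x⁻¹) * x := by group
      _ = c * x := by rw [hxc]
  have hcn : c ∈ Subgroup.normalizer ((Subgroup.zpowers x ⊔ D : Subgroup G) : Set G) := by
    have hcent : (Subgroup.zpowers x ⊔ D : Subgroup G) ≤ Subgroup.centralizer {c} := by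
      refine sup_le ?_ ?_
      · rw [Subgroup.zpowers_le, Subgroup.mem_centralizer_singleton_iff]; exact hxc'
      · intro d hd; rw [Subgroup.mem_centralizer_singleton_iff]; exact hAc d (hDA hd) c hc
    rw [Subgroup.mem_normalizer_iff]
    intro h
    constructor
    · intro hh
      have h1 := Subgroup.mem_centralizer_singleton_iff.1 (hcent hh)
      have e : c * h * c⁻¹ = h := by rw [← h1]; group
      rw [e]; exact hh
    · intro hh
      have h1 := Subgroup.mem_centralizer_singleton_iff.1 (hcent hh)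
      have e : h = c * h * c⁻¹ := by
        calc h = c⁻¹ * (c * h * c⁻¹ * c) := by group
          _ = c⁻¹ * (c * (c * h * c⁻¹)) := by rw [h1]
          _ = c * h * c⁻¹ := by group
      rw [e]; exact hh
  rw [hH2sn] at hcn
  have hcn' : c ∈ (↑(Subgroup.zpowers x ⊔ D) : Set G) := hcn
  rw [Subgroup.mul_normal] at hcn'
  obtain ⟨s, hs, d, hd, hsd⟩ := Set.mem_mul.1 hcn'
  have hsA : s ∈ A := by
    have : s = c * d⁻¹ := by rw [← hsd]; group
    rw [this]; exact A.mul_mem hc (A.inv_mem (hDA hd))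
  have hs1 : s = 1 := hTA_disj s (Subgroup.mem_sup_left hs) hsA
  rw [hs1, one_mul] at hsd
  obtain ⟨a, ha, hda⟩ := hd
  rw [← hsd, hda]
  apply comm_eq_one A x p n' hcop hxpc hApow a ha
  rw [← hda, hsd]; exact hxc'

theorem result {G : Type*} [Group G] [Finite G]
    [Group.IsSolvable G] (hnn : ¬ Group.IsNilpotent G) :
    (∀ H : Subgroup G, ¬ IsMulCommutative H → Subgroup.normalizer (H : Set G) = H) ↔
    ∃ (x : G) (A : Subgroup G) (p : ℕ), p.Prime ∧ A.Normal ∧ IsMulCommutative A ∧ (∃ k : ℕ, orderOf x = p ^ k) ∧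
      ¬ p ∣ Nat.card A ∧ (Subgroup.zpowers x).IsComplement' A ∧ x ^ p ∈ Subgroup.center G ∧
      ∀ a : G, a ∈ A → a ≠ 1 → x * a * x⁻¹ ≠ a := by
  constructor
  · exact forward hnn
  · rintro ⟨x, A, p, hp, hAn, hAc, ⟨k, hk⟩, _, hcomp, hxp, hfpf⟩ H hH
    exact backward x A p hp (isMulCommutative_iff_of_setLike.1 hAc) k hk hcomp hxp hfpf H hH

end Cfsg.Agent.S4071
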