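import Cfsg.Statements.S4341
import Cfsg.Agent.Lib.Helper64.Index

set_option autoImplicit false
open Cfsg

namespace Cfsg.Agent.S4341

open Cfsg.Agent.Lib.Helper64.Index Cfsg.Agent.Lib.Helper64.Sylow

variable {G : Type*} [Group G]

/-- `[BH : H] = [B : B ∩ H]` when `H` normalizes `B`. -/
theorem relIndex_sup_of_le_normalizer [Finite G] (H B : Subgroup G)
    (hH : H ≤ Subgroup.normalizer (B : Set G)) :
    H.relIndex (B ⊔ H) = H.relIndex B := by
  have hB : B ≤ Subgroup.normalizer (B : Set G) := Subgroup.le_normalizer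
  have hsup : B ⊔ H ≤ Subgroup.normalizer (B : Set G) := sup_le hB hH
  rw [← Subgroup.relIndex_subgroupOf hsup, Subgroup.subgroupOf_sup hB hH,
    relIndex_sup_of_normal, Subgroup.relIndex_subgroupOf hB]

theorem card_sylow_eq [Finite G] {p : ℕ} [Fact p.Prime] (P : Sylow p G) (K : Subgroup G)
    [K.Normal] :
    Nat.card (Sylow p G) = Nat.card (Sylow p (G ⧸ K)) *
      (Subgroup.normalizer ((P : Subgroup G) : Set G)).relIndex K := by
  rw [card_sylow_quotient P K, P.card_eq_index_normalizer,
    ← relIndex_sup_of_normal (Subgroup.normalizer ((P : Subgroup G) : Set G)) K, mul_comm]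
  exact (Subgroup.relIndex_mul_index le_sup_right).symm

theorem card_sylow_normal [Finite G] {p : ℕ} [Fact p.Prime] (P : Sylow p G) (K : Subgroup G)
    [K.Normal] :
    Nat.card (Sylow p K) =
      (Subgroup.normalizer (((P : Subgroup G) ⊓ K : Subgroup G) : Set G)).relIndex K := by
  obtain ⟨Q, hQ⟩ := exists_sylow_subgroupOf_normal P K
  rw [Q.card_eq_index_normalizer]
  have h2 := Subgroup.subgroupOf_normalizer_eq (inf_le_right : (P : Subgroup G) ⊓ K ≤ K)
  rw [Subgroup.inf_subgroupOf_right] at h2
  show (Subgroup.normalizer ((Q : Subgroup K) : Set K)).index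
    = ((Subgroup.normalizer (((P : Subgroup G) ⊓ K : Subgroup G) : Set G)).subgroupOf K).index
  rw [h2, hQ]

theorem card_sylow_subgroup_eq [Finite G] {p : ℕ} [Fact p.Prime] (P : Sylow p G)
    (L : Subgroup G) (hPL : (P : Subgroup G) ≤ L) :
    Nat.card (Sylow p L) = (Subgroup.normalizer ((P : Subgroup G) : Set G)).relIndex L := by
  rw [(P.subtype hPL).card_eq_index_normalizer]
  have h2 := Subgroup.subgroupOf_normalizer_eq hPL
  show _ = ((Subgroup.normalizer ((P : Subgroup G) : Set G)).subgroupOf _).index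
  rw [h2]
  rfl

theorem card_sylow_quotient_pgroup [Finite G] {p : ℕ} [Fact p.Prime] (P : Sylow p G)
    (D : Subgroup G) [D.Normal] (hD : D ≤ P) :
    Nat.card (Sylow p (G ⧸ D)) = Nat.card (Sylow p G) := by
  rw [card_sylow_quotient P D, P.card_eq_index_normalizer]
  congr 1
  exact sup_eq_right.2 (hD.trans Subgroup.le_normalizer)

/-- Let K be a normal subgroup of a finite group G, p a prime and P a Sylow p-subgroup of G; let N be the normalizer of P ∩ K inside the subgroup PK. Then the number of Sylow p-subgroups of G equals the product of the numbers of Sylow p-subgroups of G/K, of K, and of N/(P ∩ K). (The normality of P ∩ K in N, which always holds, is assumed as a hypothesis so that the quotient can be formed.) -/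
theorem result {G : Type*} [Group G] [Finite G]
    (p : ℕ) [Fact p.Prime] (K : Subgroup G) [K.Normal] (P : Sylow p G) (N : Subgroup G)
    (hN : N = ((P : Subgroup G) ⊔ K) ⊓ Subgroup.normalizer (((P : Subgroup G) ⊓ K : Subgroup G) : Set G))
    [hn : (((P : Subgroup G) ⊓ K).subgroupOf N).Normal] :
    Nat.card (Sylow p G) =
      Nat.card (Sylow p (G ⧸ K)) * Nat.card (Sylow p K) * Nat.card (Sylow p (N ⧸ ((P : Subgroup G) ⊓ K).subgroupOf N)) := by
  have hKtop : Subgroup.normalizer (K : Set G) = ⊤ := Subgroup.normalizer_eq_top K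
  have hN₀ND : Subgroup.normalizer ((P : Subgroup G) : Set G)
      ≤ Subgroup.normalizer (((P : Subgroup G) ⊓ K : Subgroup G) : Set G) := by
    refine le_trans ?_ Subgroup.inf_normalizer_le_normalizer_inf
    rw [hKtop]
    exact le_inf le_rfl le_top
  have hPN₀ : (P : Subgroup G) ≤ Subgroup.normalizer ((P : Subgroup G) : Set G) :=
    Subgroup.le_normalizer
  have hPN : (P : Subgroup G) ≤ N := by
    rw [hN]; exact le_inf le_sup_left (hPN₀.trans hN₀ND)
  have hDP : ((P : Subgroup G) ⊓ K).subgroupOf N ≤ ((P.subtype hPN : Sylow p N) : Subgroup N) := by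
    intro x hx
    rw [Subgroup.mem_subgroupOf] at hx
    exact hx.1
  rw [card_sylow_eq P K, card_sylow_normal P K, card_sylow_quotient_pgroup (P.subtype hPN) _ hDP,
    card_sylow_subgroup_eq P N hPN, mul_assoc]
  congr 1
  have hBN : K ⊓ Subgroup.normalizer (((P : Subgroup G) ⊓ K : Subgroup G) : Set G) ≤ N := by
    rw [hN]; exact inf_le_inf_right _ le_sup_right
  have e1 : (Subgroup.normalizer ((P : Subgroup G) : Set G)).relIndex K
      = (Subgroup.normalizer ((P : Subgroup G) : Set G)).relIndex
          (K ⊓ Subgroup.normalizer (((P : Subgroup G) ⊓ K : Subgroup G) : Set G))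
        * (Subgroup.normalizer (((P : Subgroup G) ⊓ K : Subgroup G) : Set G)).relIndex K := by
    have h := Subgroup.relIndex_inf_mul_relIndex (Subgroup.normalizer ((P : Subgroup G) : Set G))
      (Subgroup.normalizer (((P : Subgroup G) ⊓ K : Subgroup G) : Set G)) K
    rw [inf_eq_left.2 hN₀ND] at h
    rw [← h, inf_comm]
  have hHB : N ⊓ Subgroup.normalizer ((P : Subgroup G) : Set G) ≤ Subgroup.normalizer
      ((K ⊓ Subgroup.normalizer (((P : Subgroup G) ⊓ K : Subgroup G) : Set G) : Subgroup G) : Set G) := by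
    refine le_trans ?_ Subgroup.inf_normalizer_le_normalizer_inf
    rw [hKtop]
    refine le_inf le_top ?_
    refine le_trans ?_ Subgroup.le_normalizer
    rw [hN]
    exact inf_le_left.trans inf_le_right
  have hsup : K ⊓ Subgroup.normalizer (((P : Subgroup G) ⊓ K : Subgroup G) : Set G)
      ⊔ N ⊓ Subgroup.normalizer ((P : Subgroup G) : Set G) = N := by
    apply le_antisymm (sup_le hBN inf_le_left)
    intro x hx
    have hx' := hx
    rw [hN] at hx'
    obtain ⟨hx1, hx2⟩ := hx'
    obtain ⟨u, hu, k, hk, rfl⟩ := Subgroup.mem_sup_of_normal_right.1 hx1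
    have hu2 : u ∈ Subgroup.normalizer (((P : Subgroup G) ⊓ K : Subgroup G) : Set G) :=
      hN₀ND (hPN₀ hu)
    have hk2 : k ∈ Subgroup.normalizer (((P : Subgroup G) ⊓ K : Subgroup G) : Set G) := by
      have := Subgroup.mul_mem _ (Subgroup.inv_mem _ hu2) hx2
      simpa using this
    exact Subgroup.mul_mem _ (Subgroup.mem_sup_right ⟨hPN hu, hPN₀ hu⟩)
      (Subgroup.mem_sup_left ⟨hk, hk2⟩)
  have e2 : (Subgroup.normalizer ((P : Subgroup G) : Set G)).relIndex N
      = (Subgroup.normalizer ((P : Subgroup G) : Set G)).relIndex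
          (K ⊓ Subgroup.normalizer (((P : Subgroup G) ⊓ K : Subgroup G) : Set G)) := by
    have h1 := relIndex_sup_of_le_normalizer _ _ hHB
    rw [hsup, Subgroup.inf_relIndex_left] at h1
    rw [h1, ← Subgroup.inf_relIndex_right (N ⊓ Subgroup.normalizer ((P : Subgroup G) : Set G)),
      inf_comm N, inf_assoc, inf_eq_right.2 hBN, Subgroup.inf_relIndex_right]
  rw [e1, e2, mul_comm]

end Cfsg.Agent.S4341
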