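import Cfsg.Statements.S2202
import Cfsg.Agent.Lib.Helper25.AICGlue
import Cfsg.Agent.Lib.Helper25.AICStepG
import Cfsg.Agent.Lib.Helper25.AICStepH
import Cfsg.Agent.Lib.Helper25.AICCaseC
import Cfsg.Agent.Lib.Helper25.AICCaseD
import Cfsg.Agent.Lib.Helper25.AICCaseE
import Cfsg.Agent.Lib.Helper23.AICPL1
import Cfsg.Agent.Lib.Helper99.AICPL1b
import Cfsg.Agent.Lib.Helper99.AICPL2
import Cfsg.Agent.Lib.Helper23.AICPL2b
import Cfsg.Agent.Lib.Helper6.AICPL3
import Cfsg.Agent.Lib.Helper23.AICPL4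
import Cfsg.Agent.Lib.Helper67.AICPL5
import Cfsg.Agent.Lib.Helper95.AICQuotA
import Cfsg.Agent.Lib.Helper95.AICQuotB
import Cfsg.Agent.Lib.Helper95.AICQuotC
import Cfsg.Agent.Lib.Helper67.AICStepC
import Cfsg.Agent.Lib.Helper95.AICSub
import Cfsg.Agent.Lib.Helper78.AICD2a
import Cfsg.Agent.Lib.Helper78.AICD2b
import Cfsg.Agent.Lib.Helper78.AICD2c
import Cfsg.Agent.Lib.Helper78.AICD2d
import Cfsg.Agent.Lib.Helper30.AICD2e
import Cfsg.Agent.Lib.Helper6.AICStepE
import Cfsg.Agent.Lib.Helper72.AICStepF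
import Cfsg.Agent.Lib.Helper60.AICCharNum
import Cfsg.Agent.Lib.Helper60.AICCharPairs
import Cfsg.Agent.Lib.Helper95.AICCharProp
import Cfsg.Agent.Lib.Helper16.AICFin1
import Cfsg.Agent.Lib.Helper16.AICFin2a
import Cfsg.Agent.Lib.Helper38.AICSplitA
import Cfsg.Agent.Lib.Helper66.AICSplitB
import Cfsg.Agent.Lib.Helper66.AICSplitC

set_option autoImplicit false
open Cfsg

namespace Cfsg.Agent.S2202

universe u

open Cfsg.Agent.Lib.Helper25.AICSpec Cfsg.Agent.Lib.Helper25.AICGlue in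
theorem aicLocal : LocalProp.{u} :=
  localProp Cfsg.Agent.Lib.Helper23.AICPL1.main Cfsg.Agent.Lib.Helper99.AICPL1b.main
    Cfsg.Agent.Lib.Helper99.AICPL2.main Cfsg.Agent.Lib.Helper23.AICPL2b.main
    Cfsg.Agent.Lib.Helper6.AICPL3.main Cfsg.Agent.Lib.Helper23.AICPL4.main
    Cfsg.Agent.Lib.Helper67.AICPL5.main

open Cfsg.Agent.Lib.Helper25.AICSpec Cfsg.Agent.Lib.Helper25.AICGlue in
theorem aicCaseC : CaseC.{u} :=
  Cfsg.Agent.Lib.Helper25.AICCaseC.main Cfsg.Agent.Lib.Helper95.AICQuotA.main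
    Cfsg.Agent.Lib.Helper95.AICQuotB.main Cfsg.Agent.Lib.Helper67.AICStepC.main

open Cfsg.Agent.Lib.Helper25.AICSpec Cfsg.Agent.Lib.Helper25.AICGlue in
theorem aicStepD2 : StepD2.{u} :=
  stepD2 Cfsg.Agent.Lib.Helper78.AICD2a.main Cfsg.Agent.Lib.Helper78.AICD2b.main
    Cfsg.Agent.Lib.Helper78.AICD2c.main Cfsg.Agent.Lib.Helper78.AICD2d.main
    Cfsg.Agent.Lib.Helper30.AICD2e.main

open Cfsg.Agent.Lib.Helper25.AICSpec Cfsg.Agent.Lib.Helper25.AICGlue in
theorem aicCaseD : CaseD.{u} :=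
  Cfsg.Agent.Lib.Helper25.AICCaseD.main Cfsg.Agent.Lib.Helper95.AICSub.main aicStepD2

open Cfsg.Agent.Lib.Helper25.AICSpec Cfsg.Agent.Lib.Helper25.AICGlue in
theorem aicChar : CharProp.{u} :=
  Cfsg.Agent.Lib.Helper95.AICCharProp.main Cfsg.Agent.Lib.Helper60.AICCharNum.main
    Cfsg.Agent.Lib.Helper60.AICCharPairs.main

open Cfsg.Agent.Lib.Helper25.AICSpec Cfsg.Agent.Lib.Helper25.AICGlue in
theorem aicCaseE : CaseE.{u} :=
  Cfsg.Agent.Lib.Helper25.AICCaseE.main Cfsg.Agent.Lib.Helper6.AICStepE.main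
    Cfsg.Agent.Lib.Helper72.AICStepF.main Cfsg.Agent.Lib.Helper25.AICStepG.main
    Cfsg.Agent.Lib.Helper25.AICStepH.main aicChar Cfsg.Agent.Lib.Helper16.AICFin1.main

open Cfsg.Agent.Lib.Helper25.AICSpec Cfsg.Agent.Lib.Helper25.AICGlue in
theorem aicMain : MainProp.{u} := mainProp aicLocal aicCaseC aicCaseD aicCaseE

open Cfsg.Agent.Lib.Helper25.AICSpec Cfsg.Agent.Lib.Helper25.AICGlue in
theorem aicFin2a : Fin2a.{u} :=
  Cfsg.Agent.Lib.Helper16.AICFin2a.main aicLocal Cfsg.Agent.Lib.Helper95.AICQuotA.main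
    Cfsg.Agent.Lib.Helper95.AICQuotB.main Cfsg.Agent.Lib.Helper95.AICQuotC.main

/-- Finite groups in which the centralizer of every involution is abelian. Let G be a finite group of even order in which the centralizer of every element of order 2 is abelian. Then the Sylow 2-subgroups of G are cyclic, or a Sylow 2-subgroup of G is normal, or G is isomorphic to the direct product of SL₂(F) for a finite field F of characteristic two and an abelian group of odd order. -/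
theorem result {G : Type*} [Group G] [Finite G] (heven : Even (Nat.card G)) (h : ∀ t : G, orderOf t = 2 → IsMulCommutative ↥(Subgroup.centralizer ({t} : Set G))) :
    (∀ P : Sylow 2 G, IsCyclic ↥P) ∨ (∀ P : Sylow 2 G, (P : Subgroup G).Normal) ∨
    (∃ (F : Type) (_ : Field F) (_ : Fintype F) (A : Type) (_ : CommGroup A) (_ : Finite A), CharP F 2 ∧ Odd (Nat.card A) ∧ Nonempty (G ≃* Matrix.SpecialLinearGroup (Fin 2) F × A)) := by
  exact Cfsg.Agent.Lib.Helper25.AICGlue.final aicMain aicLocal aicFin2a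
    Cfsg.Agent.Lib.Helper38.AICSplitA.main Cfsg.Agent.Lib.Helper66.AICSplitB.main
    Cfsg.Agent.Lib.Helper66.AICSplitC.main heven h

end Cfsg.Agent.S2202
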