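import Cfsg.Statements.S2540
import Mathlib
import Cfsg.Agent.S0249
import Cfsg.Agent.Lib.Helper5.SLGen

set_option autoImplicit false
open Cfsg

namespace Cfsg.Agent.S2540

open Matrix
open scoped commutatorElement

section
variable {F : Type*} [Field F] {n : ℕ}

/-- If `A (1+E) A⁻¹ (1-E)` is scalar for an elementary matrix `E`, then `A` commutes with `E`. -/
lemma commute_single_of_scalar (A B : Matrix (Fin n) (Fin n) F) (hAB : A * B = 1) (hBA : B * A = 1)
    (i j : Fin n) (hij : i ≠ j) (r : F)
    (h : A * (1 + single i j (1 : F)) * B * (1 + single i j (-1 : F)) = Matrix.scalar (Fin n) r) :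
    Commute (single i j (1 : F)) A := by
  set E : Matrix (Fin n) (Fin n) F := single i j (1 : F) with hE
  have hEE : E * E = 0 := by
    rw [hE, single_mul_single_of_ne _ _ _ _ hij.symm]
  have hneg : single i j (-1 : F) = -E := by
    rw [hE, ← single_neg]
  rw [hneg] at h
  have hinv : (1 + -E) * (1 + E) = 1 := by
    have h0 : (1 + -E) * (1 + E) = 1 - E * E := by noncomm_ring
    rw [h0, hEE, sub_zero]
  -- A (1+E) B = r (1+E)
  have h1 : A * (1 + E) * B = Matrix.scalar (Fin n) r * (1 + E) := by
    rw [← h, Matrix.mul_assoc _ (1 + -E) (1 + E), hinv, Matrix.mul_one]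
  have h2 : A * E * B = Matrix.scalar (Fin n) r * (1 + E) - 1 := by
    rw [← h1, mul_add, add_mul, Matrix.mul_one, hAB]
    abel
  have hXX : (A * E * B) * (A * E * B) = 0 := by
    have : (A * E * B) * (A * E * B) = A * (E * (B * A) * E) * B := by
      simp only [Matrix.mul_assoc]
    rw [this, hBA, Matrix.mul_one, hEE, Matrix.mul_zero, Matrix.zero_mul]
  have hY : Matrix.scalar (Fin n) r * (1 + E) - 1 = (r - 1) • (1 : Matrix (Fin n) (Fin n) F) + r • E := by
    rw [mul_add, Matrix.mul_one, Matrix.scalar_apply, ← Matrix.smul_one_eq_diagonal, Matrix.smul_mul,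
      Matrix.one_mul, sub_smul, one_smul]
    abel
  have hr : r = 1 := by
    rw [h2, hY] at hXX
    have h3 : ((r - 1) • (1 : Matrix (Fin n) (Fin n) F) + r • E) * ((r - 1) • (1 : Matrix (Fin n) (Fin n) F) + r • E)
        = ((r - 1) * (r - 1)) • (1 : Matrix (Fin n) (Fin n) F) + (2 * r * (r - 1)) • E := by
      rw [add_mul, mul_add, mul_add]
      simp only [Matrix.smul_mul, Matrix.mul_smul, Matrix.one_mul, Matrix.mul_one, hEE, smul_zero,
        add_zero, smul_smul]
      rw [add_assoc, ← add_smul]
      congr 2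
      ring
    rw [h3] at hXX
    have h4 := congrFun (congrFun hXX i) i
    have hEii : E i i = 0 := by
      rw [hE, Matrix.single_apply_of_ne]
      rintro ⟨-, h⟩
      exact hij h.symm
    simp only [Matrix.add_apply, Matrix.smul_apply, Matrix.one_apply_eq, hEii, smul_eq_mul, mul_one,
      mul_zero, add_zero, Matrix.zero_apply] at h4
    have h5 : r - 1 = 0 := by
      rcases mul_eq_zero.mp h4 with h | h <;> exact h
    exact sub_eq_zero.mp h5
  rw [hY, hr] at h2
  simp only [sub_self, zero_smul, one_smul, zero_add] at h2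
  -- A E B = E so A E = E A
  show E * A = A * E
  calc E * A = (A * E * B) * A := by rw [h2]
    _ = A * E * (B * A) := by simp only [Matrix.mul_assoc]
    _ = A * E := by rw [hBA, Matrix.mul_one]

/-- the dichotomy when PSL is simple and SL is perfect -/
lemma dichotomy (hsimple : IsSimpleGroup (Matrix.ProjectiveSpecialLinearGroup (Fin n) F))
    (hperf : commutator (Matrix.SpecialLinearGroup (Fin n) F) = ⊤)
    (G : Subgroup (Matrix.GeneralLinearGroup (Fin n) F))
    (hG : ∀ s : Matrix.SpecialLinearGroup (Fin n) F, ∀ g ∈ G,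
      (Matrix.SpecialLinearGroup.toGL s) * g * (Matrix.SpecialLinearGroup.toGL s)⁻¹ ∈ G) :
    (∀ g ∈ G, ∃ c : F, (g : Matrix (Fin n) (Fin n) F) = c • (1 : Matrix (Fin n) (Fin n) F)) ∨
      (Matrix.SpecialLinearGroup.toGL : Matrix.SpecialLinearGroup (Fin n) F →* _).range ≤ G := by
  classical
  let N : Subgroup (SpecialLinearGroup (Fin n) F) := G.comap SpecialLinearGroup.toGL
  have hNnormal : N.Normal := by
    constructor
    intro x hx s
    show SpecialLinearGroup.toGL (s * x * s⁻¹) ∈ G
    rw [map_mul, map_mul, map_inv]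
    exact hG s _ hx
  let π := QuotientGroup.mk' (Subgroup.center (SpecialLinearGroup (Fin n) F))
  have hmapnormal : (N.map π).Normal :=
    Subgroup.Normal.map hNnormal π (QuotientGroup.mk'_surjective _)
  rcases hmapnormal.eq_bot_or_eq_top with hbot | htop
  · left
    have hNle : N ≤ Subgroup.center (SpecialLinearGroup (Fin n) F) := by
      intro x hx
      have : π x ∈ N.map π := Subgroup.mem_map_of_mem π hx
      rw [hbot, Subgroup.mem_bot] at this
      exact (QuotientGroup.eq_one_iff x).mp this
    intro g hg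
    have hcomm : Pairwise fun i j => Commute (single i j (1 : F)) (g : Matrix (Fin n) (Fin n) F) := by
      intro i j hij
      let τ : SpecialLinearGroup (Fin n) F := SpecialLinearGroup.transvection hij (1 : F)
      have h1 : SpecialLinearGroup.toGL τ * g⁻¹ * (SpecialLinearGroup.toGL τ)⁻¹ ∈ G :=
        hG τ _ (G.inv_mem hg)
      have h2 : g * (SpecialLinearGroup.toGL τ * g⁻¹ * (SpecialLinearGroup.toGL τ)⁻¹) ∈ G :=
        G.mul_mem hg h1
      have hAB : (g : Matrix (Fin n) (Fin n) F) * ((g⁻¹ : GL (Fin n) F) : Matrix (Fin n) (Fin n) F) = 1 := by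
        rw [← Units.val_mul, mul_inv_cancel, Units.val_one]
      have hBA : ((g⁻¹ : GL (Fin n) F) : Matrix (Fin n) (Fin n) F) * (g : Matrix (Fin n) (Fin n) F) = 1 := by
        rw [← Units.val_mul, inv_mul_cancel, Units.val_one]
      have hdet : ((g : Matrix (Fin n) (Fin n) F) * (1 + single i j (1 : F)) *
          ((g⁻¹ : GL (Fin n) F) : Matrix (Fin n) (Fin n) F) * (1 + single i j (-1 : F))).det = 1 := by
        have hd1 : (1 + single i j (1 : F) : Matrix (Fin n) (Fin n) F).det = 1 := by
          have := (SpecialLinearGroup.transvection hij (1 : F)).2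
          exact this
        have hd2 : (1 + single i j (-1 : F) : Matrix (Fin n) (Fin n) F).det = 1 := by
          have := (SpecialLinearGroup.transvection hij (-1 : F)).2
          exact this
        rw [Matrix.det_mul, Matrix.det_mul, Matrix.det_mul, hd1, hd2, mul_one, mul_one,
          ← Matrix.det_mul, hAB, Matrix.det_one]
      let c' : SpecialLinearGroup (Fin n) F := ⟨_, hdet⟩
      have hc' : SpecialLinearGroup.toGL c' =
          g * (SpecialLinearGroup.toGL τ * g⁻¹ * (SpecialLinearGroup.toGL τ)⁻¹) := by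
        apply Units.ext
        rw [← map_inv, SpecialLinearGroup.transvection_inv]
        simp only [Units.val_mul, SpecialLinearGroup.coe_GL_coe_matrix]
        show (g : Matrix (Fin n) (Fin n) F) * (1 + single i j (1 : F)) *
            ((g⁻¹ : GL (Fin n) F) : Matrix (Fin n) (Fin n) F) * (1 + single i j (-1 : F)) =
          (g : Matrix (Fin n) (Fin n) F) * ((1 + single i j (1 : F)) *
            ((g⁻¹ : GL (Fin n) F) : Matrix (Fin n) (Fin n) F) * (1 + single i j (-1 : F)))
        simp only [Matrix.mul_assoc]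
      have hc'N : c' ∈ N := by
        show SpecialLinearGroup.toGL c' ∈ G
        rw [hc']
        exact h2
      obtain ⟨r, -, hr⟩ := Matrix.SpecialLinearGroup.mem_center_iff.mp (hNle hc'N)
      exact commute_single_of_scalar _ _ hAB hBA i j hij r hr.symm
    obtain ⟨c, hc⟩ := mem_range_scalar_of_commute_single hcomm
    refine ⟨c, ?_⟩
    rw [← hc, Matrix.scalar_apply, Matrix.smul_one_eq_diagonal]
  · right
    -- every commutator lies in N
    have hcommN : commutator (SpecialLinearGroup (Fin n) F) ≤ N := by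
      rw [commutator_def, Subgroup.commutator_le]
      intro a _ b _
      have ha : π a ∈ N.map π := by rw [htop]; trivial
      obtain ⟨a', ha', haa'⟩ := ha
      have hza : a'⁻¹ * a ∈ Subgroup.center (SpecialLinearGroup (Fin n) F) := by
        have := QuotientGroup.eq.mp haa'
        exact this
      set za := a'⁻¹ * a with hzadef
      have haeq : a = a' * za := by rw [hzadef]; group
      have hconj : a * b * a⁻¹ = a' * b * a'⁻¹ := by
        have h1 : za * b = b * za := (Subgroup.mem_center_iff.mp hza b).symm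
        rw [haeq, _root_.mul_inv_rev]
        calc a' * za * b * (za⁻¹ * a'⁻¹) = a' * (za * b) * za⁻¹ * a'⁻¹ := by simp only [mul_assoc]
          _ = a' * (b * za) * za⁻¹ * a'⁻¹ := by rw [h1]
          _ = a' * b * a'⁻¹ := by simp only [mul_assoc, mul_inv_cancel_left]
      rw [commutatorElement_def, hconj]
      have h1 : b * a'⁻¹ * b⁻¹ ∈ N := hNnormal.conj_mem _ (N.inv_mem ha') b
      have h2 : a' * (b * a'⁻¹ * b⁻¹) ∈ N := N.mul_mem ha' h1
      simpa [mul_assoc] using h2
    rw [hperf] at hcommN
    rintro _ ⟨s, rfl⟩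
    exact hcommN (Subgroup.mem_top s)

end

theorem result {F : Type*} [Field F] [Fintype F] (n : ℕ) (hn : 1 ≤ n) (hex : ¬ (n = 2 ∧ Fintype.card F ≤ 3)) (G : Subgroup (Matrix.GeneralLinearGroup (Fin n) F)) (hG : ∀ s : Matrix.SpecialLinearGroup (Fin n) F, ∀ g ∈ G, (Matrix.SpecialLinearGroup.toGL s) * g * (Matrix.SpecialLinearGroup.toGL s)⁻¹ ∈ G) : (∀ g ∈ G, ∃ c : F, (g : Matrix (Fin n) (Fin n) F) = c • (1 : Matrix (Fin n) (Fin n) F)) ∨ (Matrix.SpecialLinearGroup.toGL : Matrix.SpecialLinearGroup (Fin n) F →* _).range ≤ G := by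
  rcases Nat.lt_or_ge n 3 with hlt | hge
  · interval_cases n
    · -- n = 1: everything is scalar
      left
      intro g _
      refine ⟨(g : Matrix (Fin 1) (Fin 1) F) 0 0, ?_⟩
      ext i j
      fin_cases i; fin_cases j
      simp
    · -- n = 2, at least 4 elements
      have h4 : 4 ≤ Fintype.card F := by
        by_contra hcon
        exact hex ⟨rfl, by omega⟩
      have h4' : 4 ≤ Nat.card F := by rwa [Nat.card_eq_fintype_card]
      have hsimple := Matrix.ProjectiveSpecialLinearGroup.rank_two_simple (F := F) h4'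
      obtain ⟨x, hx⟩ : IsCyclic Fˣ := by infer_instance
      have hx2 : (x : F) ^ 2 ≠ 1 := by
        intro h
        have h1 : x ^ 2 = 1 := Units.ext (by simpa using h)
        have h2 : orderOf x ≤ 2 := orderOf_le_of_pow_eq_one zero_lt_two h1
        have h3 : orderOf x = Nat.card Fˣ := orderOf_eq_card_of_forall_mem_zpowers hx
        have h5 : Nat.card F = Nat.card Fˣ + 1 := Nat.card_eq_card_units_add_one F
        omega
      have hperf := Matrix.SL2.commutator_eq_top (F := F) (Units.ne_zero x) hx2
      exact dichotomy hsimple hperf G hG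
  · have hsimple := Cfsg.Agent.S0249.result (F := F) n hge
    have hperf : commutator (Matrix.SpecialLinearGroup (Fin n) F) = ⊤ :=
      Cfsg.Agent.Lib.Helper5.SLGen.commutator_eq_top_of_three (by simpa using hge)
    exact dichotomy hsimple hperf G hG

end Cfsg.Agent.S2540
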