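import Cfsg.Statements.S5997
-- import your own Cfsg.Agent.* helpers here

set_option autoImplicit false
open scoped MatrixGroups
open Cfsg

namespace Cfsg.Agent.S5997

set_option linter.unusedVariables false
set_option linter.unusedSectionVars false
set_option linter.unnecessarySeqFocus false
set_option linter.unusedTactic false
set_option linter.unreachableTactic false

section mat
open Matrix
variable {F : Type*} [Field F]

/-- Cayley-Hamilton for two by two matrices -/
lemma ch2 (M : Matrix (Fin 2) (Fin 2) F) :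
    M * M = M.trace • M - M.det • (1 : Matrix (Fin 2) (Fin 2) F) := by
  ext i j
  fin_cases i <;> fin_cases j <;>
    simp [Matrix.mul_apply, Fin.sum_univ_two, Matrix.trace, Matrix.det_fin_two] <;> ring

/-- a matrix commuting with two non-commuting matrices is scalar -/
lemma scalar_of_comm (A B C : Matrix (Fin 2) (Fin 2) F) (hA : A * C = C * A)
    (hB : B * C = C * B) (hAB : A * B ≠ B * A) : ∃ z : F, C = z • (1 : Matrix (Fin 2) (Fin 2) F) := by
  by_contra hns
  apply hAB
  have hA00 := congrFun (congrFun hA 0) 0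
  have hA01 := congrFun (congrFun hA 0) 1
  have hA10 := congrFun (congrFun hA 1) 0
  have hB00 := congrFun (congrFun hB 0) 0
  have hB01 := congrFun (congrFun hB 0) 1
  have hB10 := congrFun (congrFun hB 1) 0
  simp only [Matrix.mul_apply, Fin.sum_univ_two] at hA00 hA01 hA10 hB00 hB01 hB10
  have hC : C 0 1 ≠ 0 ∨ C 1 0 ≠ 0 ∨ C 0 0 - C 1 1 ≠ 0 := by
    by_contra h
    push Not at h
    apply hns
    refine ⟨C 0 0, ?_⟩
    ext i j
    fin_cases i <;> fin_cases j <;> simp [h.1, h.2.1]
    linear_combination -h.2.2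
  ext i j
  rcases hC with h | h | h
  · apply mul_left_cancel₀ (pow_ne_zero 2 h)
    fin_cases i <;> fin_cases j <;> simp only [Matrix.mul_apply, Fin.sum_univ_two, Fin.zero_eta, Fin.mk_one]
    · linear_combination (B 0 1 * C 0 1) * hA00 - (A 0 1 * C 0 1) * hB00
    · linear_combination (B 0 1 * C 0 1) * hA01 - (A 0 1 * C 0 1) * hB01
    · linear_combination -((B 0 0 - B 1 1) * C 0 1) * hA00 - (B 1 0 * C 0 1) * hA01 + (A 0 1 * C 1 0) * hB01 + (A 0 1 * (C 0 0 - C 1 1)) * hB00
    · linear_combination -(B 0 1 * C 0 1) * hA00 + (A 0 1 * C 0 1) * hB00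
  · apply mul_left_cancel₀ (pow_ne_zero 2 h)
    fin_cases i <;> fin_cases j <;> simp only [Matrix.mul_apply, Fin.sum_univ_two, Fin.zero_eta, Fin.mk_one]
    · linear_combination (B 1 0 * C 1 0) * hA00 - (A 1 0 * C 1 0) * hB00
    · linear_combination -(B 0 1 * C 1 0) * hA10 - ((B 0 0 - B 1 1) * C 1 0) * hA00 + (A 1 0 * (C 0 0 - C 1 1)) * hB00 + (A 1 0 * C 0 1) * hB10
    · linear_combination (B 1 0 * C 1 0) * hA10 - (A 1 0 * C 1 0) * hB10
    · linear_combination -(B 1 0 * C 1 0) * hA00 + (A 1 0 * C 1 0) * hB00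
  · apply mul_left_cancel₀ (pow_ne_zero 2 h)
    fin_cases i <;> fin_cases j <;> simp only [Matrix.mul_apply, Fin.sum_univ_two, Fin.zero_eta, Fin.mk_one]
    · linear_combination -(B 1 0 * (C 0 0 - C 1 1)) * hA01 - (B 0 1 * (C 0 0 - C 1 1)) * hA10 + ((A 0 0 - A 1 1) * C 0 1) * hB10 + ((A 0 0 - A 1 1) * C 1 0) * hB01
    · linear_combination ((B 0 0 - B 1 1) * (C 0 0 - C 1 1)) * hA01 - ((A 0 0 - A 1 1) * (C 0 0 - C 1 1)) * hB01
    · linear_combination ((B 0 0 - B 1 1) * (C 0 0 - C 1 1)) * hA10 - ((A 0 0 - A 1 1) * (C 0 0 - C 1 1)) * hB10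
    · linear_combination (B 0 1 * (C 0 0 - C 1 1)) * hA10 + (B 1 0 * (C 0 0 - C 1 1)) * hA01 - ((A 0 0 - A 1 1) * C 1 0) * hB01 - ((A 0 0 - A 1 1) * C 0 1) * hB10

/-- a non-degenerate binary quadratic form over a finite field of odd order represents `1` -/
lemma exists_form [Fintype F] (hodd : Fintype.card F % 2 = 1) (h2 : (2 : F) ≠ 0) (a b c d : F)
    (hdet : a * d - b * c = 1) (hns : b ≠ 0 ∨ c ≠ 0 ∨ a ≠ d) (hdisc : (a + d) ^ 2 - 4 ≠ 0) :
    ∃ s t : F, c * s ^ 2 + (d - a) * s * t - b * t ^ 2 = 1 := by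
  have h4 : (4 : F) ≠ 0 := by
    have : (4 : F) = 2 * 2 := by norm_num
    rw [this]; exact mul_ne_zero h2 h2
  by_cases hc : c = 0
  · by_cases hb : b = 0
    · have had : a ≠ d := by
        rcases hns with h | h | h
        · exact absurd hb h
        · exact absurd hc h
        · exact h
      have hda : d - a ≠ 0 := sub_ne_zero.2 (Ne.symm had)
      refine ⟨1, (d - a)⁻¹, ?_⟩
      rw [hc, hb]
      field_simp
      ring
    · -- complete the square in `t`
      have hk : ((a + d) ^ 2 - 4) / (4 * b) ≠ 0 := div_ne_zero hdisc (mul_ne_zero h4 hb)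
      obtain ⟨t', s, hts⟩ := FiniteField.exists_root_sum_quadratic
        (f := Polynomial.C (-b) * Polynomial.X ^ 2 + Polynomial.C 0 * Polynomial.X + Polynomial.C 0)
        (g := Polynomial.C (((a + d) ^ 2 - 4) / (4 * b)) * Polynomial.X ^ 2 +
          Polynomial.C 0 * Polynomial.X + Polynomial.C (-1))
        (Polynomial.degree_quadratic (neg_ne_zero.2 hb)) (Polynomial.degree_quadratic hk) hodd
      simp only [Polynomial.eval_add, Polynomial.eval_mul, Polynomial.eval_C, Polynomial.eval_pow,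
        Polynomial.eval_X, zero_mul, add_zero] at hts
      refine ⟨s, t' + (d - a) * s / (2 * b), ?_⟩
      field_simp at hts ⊢
      linear_combination hts - 4 * s ^ 2 * hdet
  · -- complete the square in `s`
    have hk : -(((a + d) ^ 2 - 4) / (4 * c)) ≠ 0 :=
      neg_ne_zero.2 (div_ne_zero hdisc (mul_ne_zero h4 hc))
    obtain ⟨s', t, hst⟩ := FiniteField.exists_root_sum_quadratic
      (f := Polynomial.C c * Polynomial.X ^ 2 + Polynomial.C 0 * Polynomial.X + Polynomial.C 0)
      (g := Polynomial.C (-(((a + d) ^ 2 - 4) / (4 * c))) * Polynomial.X ^ 2 +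
        Polynomial.C 0 * Polynomial.X + Polynomial.C (-1))
      (Polynomial.degree_quadratic hc) (Polynomial.degree_quadratic hk) hodd
    simp only [Polynomial.eval_add, Polynomial.eval_mul, Polynomial.eval_C, Polynomial.eval_pow,
      Polynomial.eval_X, zero_mul, add_zero] at hst
    refine ⟨s' - (d - a) * t / (2 * c), t, ?_⟩
    field_simp at hst ⊢
    linear_combination hst + 4 * t ^ 2 * hdet

/-- a non-scalar matrix of determinant one is conjugate, by a matrix of determinant one, to the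
companion matrix of its characteristic polynomial -/
lemma exists_conj_companion [Fintype F] (hodd : Fintype.card F % 2 = 1) (h2 : (2 : F) ≠ 0)
    (X : Matrix (Fin 2) (Fin 2) F) (hdet : X.det = 1)
    (hns : ∀ z : F, X ≠ z • (1 : Matrix (Fin 2) (Fin 2) F)) (hdisc : X.trace ^ 2 - 4 ≠ 0) :
    ∃ G : Matrix (Fin 2) (Fin 2) F, G.det = 1 ∧ X * G = G * !![0, -1; 1, X.trace] := by
  have hdet' : X 0 0 * X 1 1 - X 0 1 * X 1 0 = 1 := by rw [← hdet, Matrix.det_fin_two]
  have htr : X.trace = X 0 0 + X 1 1 := by simp [Matrix.trace, Fin.sum_univ_two]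
  have hns' : X 0 1 ≠ 0 ∨ X 1 0 ≠ 0 ∨ X 0 0 ≠ X 1 1 := by
    by_contra h
    push Not at h
    apply hns (X 0 0)
    ext i j
    fin_cases i <;> fin_cases j <;> simp [h.1, h.2.1]
    exact h.2.2.symm
  obtain ⟨s, t, hst⟩ := exists_form hodd h2 (X 0 0) (X 0 1) (X 1 0) (X 1 1) hdet' hns'
    (by rw [← htr]; exact hdisc)
  refine ⟨!![s, X 0 0 * s + X 0 1 * t; t, X 1 0 * s + X 1 1 * t], ?_, ?_⟩
  · rw [Matrix.det_fin_two_of]
    linear_combination hst
  · rw [htr]
    ext i j
    fin_cases i <;> fin_cases j <;> simp [Matrix.mul_apply, Fin.sum_univ_two]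
    · linear_combination (-s) * hdet'
    · linear_combination (-t) * hdet'

/-- if `a • X = b • 1` with `X` not scalar then `a = 0` -/
lemma coeff_zero_of_smul_eq (X : Matrix (Fin 2) (Fin 2) F)
    (hns : ∀ z : F, X ≠ z • (1 : Matrix (Fin 2) (Fin 2) F))
    (a b : F) (h : a • X = b • (1 : Matrix (Fin 2) (Fin 2) F)) : a = 0 := by
  by_contra ha
  apply hns (a⁻¹ * b)
  calc X = a⁻¹ • (a • X) := by rw [smul_smul, inv_mul_cancel₀ ha, one_smul]
    _ = (a⁻¹ * b) • 1 := by rw [h, smul_smul]

/-- trace and determinant from a quadratic relation -/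
lemma tr_det_of_quad (X : Matrix (Fin 2) (Fin 2) F)
    (hns : ∀ z : F, X ≠ z • (1 : Matrix (Fin 2) (Fin 2) F))
    (a b : F) (h : X * X = a • X + b • (1 : Matrix (Fin 2) (Fin 2) F)) :
    X.trace = a ∧ X.det = -b := by
  have h1 : (X.trace - a) • X = (X.det + b) • (1 : Matrix (Fin 2) (Fin 2) F) := by
    have hc := ch2 X
    rw [h] at hc
    have h2 : X.trace • X = a • X + b • (1 : Matrix (Fin 2) (Fin 2) F) +
        X.det • (1 : Matrix (Fin 2) (Fin 2) F) := by
      rw [hc]; abel
    rw [sub_smul, add_smul, h2]; abel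
  have h0 := coeff_zero_of_smul_eq X hns _ _ h1
  rw [h0, zero_smul] at h1
  have h3 : X.det + b = 0 := by
    have := congrFun (congrFun h1 0) 0
    simpa using this.symm
  exact ⟨sub_eq_zero.1 h0, by linear_combination h3⟩

/-- an element of order three normalizing the quaternion group -/
lemma quat_norm (h2 : (2 : F) ≠ 0) (I J : Matrix (Fin 2) (Fin 2) F) (hII : I * I = -1)
    (hJJ : J * J = -1) (hJI : J * I = -(I * J)) :
    ∃ M : Matrix (Fin 2) (Fin 2) F, M.det = 1 ∧ M.trace = -1 ∧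
      (∀ z : F, M ≠ z • (1 : Matrix (Fin 2) (Fin 2) F)) ∧
      M * I = (I * J) * M ∧ M * J = I * M := by
  have h4 : (4 : F) ≠ 0 := by
    have : (4 : F) = 2 * 2 := by norm_num
    rw [this]; exact mul_ne_zero h2 h2
  obtain ⟨K, hK⟩ : ∃ K, K = I * J := ⟨_, rfl⟩
  have hIJ : I * J = K := hK.symm
  have hJI' : J * I = -K := by rw [hJI, hIJ]
  have hIK : I * K = -J := by rw [hK, ← mul_assoc, hII, neg_mul, one_mul]
  have hKJ : K * J = -I := by rw [hK, mul_assoc, hJJ, mul_neg, mul_one]
  have hKI : K * I = J := by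
    rw [hK, mul_assoc, hJI, mul_neg, ← mul_assoc, hII, neg_mul, one_mul, neg_neg]
  have hJK : J * K = I := by
    rw [hK, ← mul_assoc, hJI, neg_mul, mul_assoc, hJJ, mul_neg, mul_one, neg_neg]
  have hKK : K * K = -1 := by
    calc K * K = (K * I) * J := by rw [mul_assoc, hIJ]
      _ = J * J := by rw [hKI]
      _ = -1 := hJJ
  obtain ⟨M', hM'⟩ : ∃ M', M' = -1 + I + J + K := ⟨_, rfl⟩
  have hMI : M' * I = K * M' := by
    rw [hM']
    simp only [add_mul, mul_add, neg_mul, mul_neg, one_mul, mul_one, hII, hJI', hKI, hKJ, hKK]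
    abel
  have hMJ : M' * J = I * M' := by
    rw [hM']
    simp only [add_mul, mul_add, neg_mul, mul_neg, one_mul, mul_one, hII, hIJ, hJJ, hKJ, hIK]
    abel
  have hMM : M' * M' = (-2 : F) • M' + (-4 : F) • (1 : Matrix (Fin 2) (Fin 2) F) := by
    rw [hM']
    simp only [add_mul, mul_add, neg_mul, mul_neg, one_mul, mul_one, hII, hIJ, hJJ, hKJ, hIK,
      hJI', hKI, hKK, hJK]
    module
  have hns' : ∀ z : F, M' ≠ z • (1 : Matrix (Fin 2) (Fin 2) F) := by
    intro z hz
    have e1 : z • J = z • I := by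
      have := hMJ
      rw [hz] at this
      simpa using this
    have e2 : z * z + 2 * z + 4 = 0 := by
      have := hMM
      rw [hz] at this
      have := congrFun (congrFun this 0) 0
      simp at this
      linear_combination this
    have hz0 : z ≠ 0 := by
      rintro rfl
      apply h4
      linear_combination e2
    have e3 : J = I := by
      have := congrArg (fun A => z⁻¹ • A) e1
      simpa [smul_smul, inv_mul_cancel₀ hz0] using this
    rw [e3, hII] at hJI
    have := congrFun (congrFun hJI 0) 0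
    simp at this
    apply h2
    linear_combination -this
  obtain ⟨htr, hdet⟩ := tr_det_of_quad M' hns' _ _ hMM
  refine ⟨(2⁻¹ : F) • M', ?_, ?_, ?_, ?_, ?_⟩
  · rw [Matrix.det_smul, hdet, Fintype.card_fin]
    field_simp
    norm_num
  · rw [Matrix.trace_smul, htr, smul_eq_mul]
    field_simp
  · intro z hz
    apply hns' (2 * z)
    have := congrArg (fun A => (2 : F) • A) hz
    simpa [smul_smul, mul_inv_cancel₀ h2] using this
  · rw [Matrix.smul_mul, Matrix.mul_smul, hMI, hIJ]
  · rw [Matrix.smul_mul, Matrix.mul_smul, hMJ]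

lemma mem_SL_iff (g : GL (Fin 2) F) :
    g ∈ Cfsg.Geo.specialLinear (Fin 2) F ↔ (g : Matrix (Fin 2) (Fin 2) F).det = 1 := by
  unfold Cfsg.Geo.specialLinear
  rw [MonoidHom.mem_ker]
  constructor
  · intro h
    have := congrArg Units.val h
    simpa using this
  · intro h
    apply Units.ext
    simpa using h

/-- non-scalar elements of determinant one with the same trace (and non-zero discriminant) are
conjugate under the special linear group -/
lemma exists_conj [Fintype F] (hodd : Fintype.card F % 2 = 1) (h2 : (2 : F) ≠ 0)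
    (x y : GL (Fin 2) F) (hx : (x : Matrix (Fin 2) (Fin 2) F).det = 1)
    (hy : (y : Matrix (Fin 2) (Fin 2) F).det = 1)
    (htr : (x : Matrix (Fin 2) (Fin 2) F).trace = (y : Matrix (Fin 2) (Fin 2) F).trace)
    (hxns : ∀ z : F, (x : Matrix (Fin 2) (Fin 2) F) ≠ z • (1 : Matrix (Fin 2) (Fin 2) F))
    (hyns : ∀ z : F, (y : Matrix (Fin 2) (Fin 2) F) ≠ z • (1 : Matrix (Fin 2) (Fin 2) F))
    (hdisc : (x : Matrix (Fin 2) (Fin 2) F).trace ^ 2 - 4 ≠ 0) :
    ∃ g ∈ Cfsg.Geo.specialLinear (Fin 2) F, g⁻¹ * x * g = y := by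
  obtain ⟨G₁, hG₁, hXG⟩ := exists_conj_companion hodd h2 _ hx hxns hdisc
  obtain ⟨G₂, hG₂, hYG⟩ := exists_conj_companion hodd h2 _ hy hyns (by rw [← htr]; exact hdisc)
  rw [← htr] at hYG
  have hCdet : (!![0, -1; 1, (x : Matrix (Fin 2) (Fin 2) F).trace] : Matrix (Fin 2) (Fin 2) F).det = 1 := by
    rw [Matrix.det_fin_two_of]; ring
  let g₁ : GL (Fin 2) F := Matrix.GeneralLinearGroup.mkOfDetNeZero G₁ (by rw [hG₁]; exact one_ne_zero)
  let g₂ : GL (Fin 2) F := Matrix.GeneralLinearGroup.mkOfDetNeZero G₂ (by rw [hG₂]; exact one_ne_zero)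
  let c : GL (Fin 2) F := Matrix.GeneralLinearGroup.mkOfDetNeZero _ (by rw [hCdet]; exact one_ne_zero)
  have h1 : x * g₁ = g₁ * c := Units.ext hXG
  have h2' : y * g₂ = g₂ * c := Units.ext hYG
  refine ⟨g₁ * g₂⁻¹, ?_, ?_⟩
  · have hg₁ : g₁ ∈ Cfsg.Geo.specialLinear (Fin 2) F := (mem_SL_iff g₁).2 hG₁
    have hg₂ : g₂ ∈ Cfsg.Geo.specialLinear (Fin 2) F := (mem_SL_iff g₂).2 hG₂
    exact Subgroup.mul_mem _ hg₁ (Subgroup.inv_mem _ hg₂)
  · have e1 : g₁⁻¹ * x * g₁ = c := by rw [mul_assoc, h1, inv_mul_cancel_left]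
    have e2 : y = g₂ * c * g₂⁻¹ := by rw [← h2', mul_inv_cancel_right]
    rw [e2, ← e1]; group

end mat

lemma five_le_of_prime {r : ℕ} (hr : r.Prime) (h2 : r ≠ 2) (h3 : r ≠ 3) : 5 ≤ r := by
  by_contra h
  push Not at h
  have := hr.two_le
  interval_cases r
  · exact h2 rfl
  · exact h3 rfl
  · exact absurd hr (by decide)

lemma not_dvd_six {r : ℕ} (hr : r.Prime) (h5 : 5 ≤ r) : ¬ r ∣ 6 := by
  intro h
  have h6 : r ∣ 2 * 3 := h
  rcases (Nat.Prime.dvd_mul hr).1 h6 with h | h
  · have := Nat.le_of_dvd (by norm_num) h; omega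
  · have := Nat.le_of_dvd (by norm_num) h; omega

lemma not_dvd_four {r : ℕ} (hr : r.Prime) (h5 : 5 ≤ r) : ¬ r ∣ 4 := by
  intro h
  have h6 : r ∣ 2 * 2 := h
  rcases (Nat.Prime.dvd_mul hr).1 h6 with h | h
  · have := Nat.le_of_dvd (by norm_num) h; omega
  · have := Nat.le_of_dvd (by norm_num) h; omega

/-- Elements of prime order of PSL_2(p) and the normalizer of a quaternion subgroup. Here `T = PSL_2(F)` for the field `F` with `p` elements, `p ≥ 5` prime; `R` is a subgroup of GL_2(F) isomorphic to the quaternion group of order 8 (an absolutely irreducible 2-group of symplectic type), and `H` is the subgroup of matrices of determinant 1 normalizing `R` — a subgroup of type 2^{1+2}.O₂⁻(2), isomorphic modulo scalars to A₄ or S₄ (maximality is not assumed). Ω is the set of cosets of `H` in `T`, so an element of `T` of prime order `r` (a matrix `x` of determinant 1 with `x^r` scalar, `x` not scalar) fixes a point of Ω exactly when some conjugate of `x` by a matrix of determinant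 1 normalizes `R`. Let `r` be a prime dividing the index of `H`. Then every element of `T` of order `r` fixes a point of Ω if and only if `r = 2` or `r = 3`. -/
theorem result {F : Type*} [Field F] [Fintype F] {p : ℕ} [Fact p.Prime] [CharP F p] (hF : Fintype.card F = p) (hp : 5 ≤ p)
    (R : Subgroup (GL (Fin 2) F)) (hR : Nonempty (↥R ≃* QuaternionGroup 2))
    (r : ℕ) [Fact r.Prime]
    (hΩ : r ∣ (Cfsg.Geo.subgroupNormalizer R).relIndex (Cfsg.Geo.specialLinear (Fin 2) F)) :
    (∀ x ∈ Cfsg.Geo.specialLinear (Fin 2) F, (∃ z : F, ((x ^ r : GL (Fin 2) F) : Matrix (Fin 2) (Fin 2) F) = z • (1 : Matrix (Fin 2) (Fin 2) F)) →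
      (∀ z : F, (x : Matrix (Fin 2) (Fin 2) F) ≠ z • (1 : Matrix (Fin 2) (Fin 2) F)) →
      ∃ g ∈ Cfsg.Geo.specialLinear (Fin 2) F, g⁻¹ * x * g ∈ Cfsg.Geo.subgroupNormalizer R) ↔ (r = 2 ∨ r = 3) := by
  classical
  obtain ⟨e⟩ := hR
  have hpp : p.Prime := Fact.out
  have hrp : r.Prime := Fact.out
  have h2 : (2 : F) ≠ 0 := by
    intro h
    have h' : ((2 : ℕ) : F) = 0 := by exact_mod_cast h
    rw [CharP.cast_eq_zero_iff F p] at h'
    have := Nat.le_of_dvd (by norm_num) h'
    omega
  have h3 : (3 : F) ≠ 0 := by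
    intro h
    have h' : ((3 : ℕ) : F) = 0 := by exact_mod_cast h
    rw [CharP.cast_eq_zero_iff F p] at h'
    have := Nat.le_of_dvd (by norm_num) h'
    omega
  have h4 : (4 : F) ≠ 0 := by
    have : (4 : F) = 2 * 2 := by norm_num
    rw [this]; exact mul_ne_zero h2 h2
  have hodd : Fintype.card F % 2 = 1 := by
    rw [hF]
    rcases hpp.eq_two_or_odd with h | h
    · omega
    · exact h
  -- the quaternion group inside `GL`
  let φ : QuaternionGroup 2 →* GL (Fin 2) F := R.subtype.comp e.symm.toMonoidHom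
  have hφR : ∀ u, φ u ∈ R := fun u => (e.symm u).2
  have hφinj : Function.Injective φ := fun u v h => e.symm.injective (Subtype.ext h)
  have hφsurj : ∀ h ∈ R, ∃ u, φ u = h := fun h hh => ⟨e ⟨h, hh⟩, by simp [φ]⟩
  obtain ⟨Ig, hIg⟩ : ∃ Ig, Ig = φ (QuaternionGroup.a 1) := ⟨_, rfl⟩
  obtain ⟨Jg, hJg⟩ : ∃ Jg, Jg = φ (QuaternionGroup.xa 0) := ⟨_, rfl⟩
  obtain ⟨Zg, hZg⟩ : ∃ Zg, Zg = φ (QuaternionGroup.a 2) := ⟨_, rfl⟩
  have hIgR : Ig ∈ R := hIg ▸ hφR _
  have hJgR : Jg ∈ R := hJg ▸ hφR _
  have hZgR : Zg ∈ R := hZg ▸ hφR _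
  have hIIg : Ig * Ig = Zg := by
    rw [hIg, hZg, ← map_mul]; exact congrArg φ (by decide)
  have hJJg : Jg * Jg = Zg := by
    rw [hJg, hZg, ← map_mul]; exact congrArg φ (by decide)
  have hIJg : Ig * Jg = Zg * (Jg * Ig) := by
    rw [hIg, hJg, hZg, ← map_mul, ← map_mul, ← map_mul]; exact congrArg φ (by decide)
  have hZZg : Zg * Zg = 1 := by
    rw [hZg, ← map_mul, ← map_one φ]; exact congrArg φ (by decide)
  have hZcg : ∀ h ∈ R, Zg * h = h * Zg := by
    intro h hh
    obtain ⟨u, rfl⟩ := hφsurj h hh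
    rw [hZg, ← map_mul, ← map_mul]
    have : ∀ y : QuaternionGroup 2, QuaternionGroup.a 2 * y = y * QuaternionGroup.a 2 := by decide
    exact congrArg φ (this u)
  have hgen : ∀ h ∈ R, ∃ i j : ℕ, h = Jg ^ i * Ig ^ j := by
    intro h hh
    obtain ⟨u, rfl⟩ := hφsurj h hh
    have : ∀ y : QuaternionGroup 2, ∃ i : Fin 2, ∃ j : Fin 4,
        y = (QuaternionGroup.xa 0) ^ i.val * (QuaternionGroup.a 1) ^ j.val := by decide
    obtain ⟨i, j, hij⟩ := this u
    refine ⟨i.val, j.val, ?_⟩
    rw [hij, hIg, hJg, map_mul, map_pow, map_pow]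
  have hIJneg : Ig * Jg ≠ Jg * Ig := by
    rw [hIg, hJg, ← map_mul, ← map_mul]
    intro h
    exact absurd (hφinj h) (by decide)
  have hZne : Zg ≠ 1 := by
    rw [hZg, ← map_one φ]
    intro h
    exact absurd (hφinj h) (by decide)
  -- matrices
  obtain ⟨I, hI⟩ : ∃ I : Matrix (Fin 2) (Fin 2) F, I = (Ig : Matrix (Fin 2) (Fin 2) F) := ⟨_, rfl⟩
  obtain ⟨J, hJ⟩ : ∃ J : Matrix (Fin 2) (Fin 2) F, J = (Jg : Matrix (Fin 2) (Fin 2) F) := ⟨_, rfl⟩
  obtain ⟨Z, hZ⟩ : ∃ Z : Matrix (Fin 2) (Fin 2) F, Z = (Zg : Matrix (Fin 2) (Fin 2) F) := ⟨_, rfl⟩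
  have hIZ : I * Z = Z * I := by
    rw [hI, hZ]; exact (congrArg Units.val (hZcg Ig hIgR)).symm
  have hJZ : J * Z = Z * J := by
    rw [hJ, hZ]; exact (congrArg Units.val (hZcg Jg hJgR)).symm
  have hIJne : I * J ≠ J * I := by
    rw [hI, hJ]
    intro h
    exact hIJneg (Units.ext h)
  obtain ⟨z, hz⟩ := scalar_of_comm I J Z hIZ hJZ hIJne
  have hZZ : Z * Z = 1 := by
    rw [hZ]; exact congrArg Units.val hZZg
  have hzz : z * z = 1 := by
    rw [hz] at hZZ
    have := congrFun (congrFun hZZ 0) 0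
    simpa using this
  have hZ1 : Z = -1 := by
    rcases mul_self_eq_one_iff.1 hzz with h | h
    · exfalso
      apply hZne
      apply Units.ext
      rw [← hZ, hz, h, one_smul]; rfl
    · rw [hz, h]; simp
  have hZcen : ∀ y : GL (Fin 2) F, Zg * y = y * Zg := by
    intro y
    apply Units.ext
    show (Zg : Matrix (Fin 2) (Fin 2) F) * y = y * (Zg : Matrix (Fin 2) (Fin 2) F)
    rw [← hZ, hZ1]; simp
  have hII : I * I = -1 := by
    rw [← hZ1, hI, hZ]; exact congrArg Units.val hIIg
  have hJJ : J * J = -1 := by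
    rw [← hZ1, hJ, hZ]; exact congrArg Units.val hJJg
  have hJI : J * I = -(I * J) := by
    have : I * J = Z * (J * I) := by
      rw [hI, hJ, hZ]; exact congrArg Units.val hIJg
    rw [this, hZ1]; simp
  have hIns : ∀ z : F, I ≠ z • (1 : Matrix (Fin 2) (Fin 2) F) := by
    intro z hz
    apply hIJne
    rw [hz]; simp
  obtain ⟨hItr, hIdet⟩ := tr_det_of_quad I hIns 0 (-1) (by rw [hII]; simp)
  rw [neg_neg] at hIdet
  have hRN : R ≤ Cfsg.Geo.subgroupNormalizer R := Subgroup.le_normalizer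
  constructor
  · -- only the primes two and three
    intro hall
    by_contra hr
    push Not at hr
    have hr5 : 5 ≤ r := five_le_of_prime hrp hr.1 hr.2
    have hdvd : r ∣ Nat.card ↥(Cfsg.Geo.specialLinear (Fin 2) F) := by
      have h1 : (Cfsg.Geo.subgroupNormalizer R).relIndex (Cfsg.Geo.specialLinear (Fin 2) F) ∣
          Nat.card ↥(Cfsg.Geo.specialLinear (Fin 2) F) := by
        rw [Subgroup.relIndex]; exact Subgroup.index_dvd_card _
      exact hΩ.trans h1
    obtain ⟨x, hx⟩ := exists_prime_orderOf_dvd_card' r hdvd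
    have hxr : (x : GL (Fin 2) F) ^ r = 1 := by
      rw [← Subgroup.coe_pow, ← hx, pow_orderOf_eq_one]; rfl
    have hxdet := (mem_SL_iff (x : GL (Fin 2) F)).1 x.2
    have hxns : ∀ z : F, ((x : GL (Fin 2) F) : Matrix (Fin 2) (Fin 2) F) ≠
        z • (1 : Matrix (Fin 2) (Fin 2) F) := by
      intro z hz
      have hz2 : z * z = 1 := by
        rw [hz, Matrix.det_smul, Fintype.card_fin, Matrix.det_one] at hxdet
        linear_combination hxdet
      have hx2 : x ^ 2 = 1 := by
        apply Subtype.ext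
        apply Units.ext
        show (((x : GL (Fin 2) F) ^ 2 : GL (Fin 2) F) : Matrix (Fin 2) (Fin 2) F) = 1
        rw [pow_two, Units.val_mul, hz]
        simp only [Matrix.smul_mul, Matrix.mul_smul, one_mul]
        rw [smul_smul, hz2, one_smul]
      have := orderOf_dvd_of_pow_eq_one hx2
      rw [hx] at this
      have := Nat.le_of_dvd (by norm_num) this
      omega
    obtain ⟨g, hg, hc⟩ := hall (x : GL (Fin 2) F) x.2 ⟨1, by rw [hxr]; simp⟩ hxns
    obtain ⟨c, hc_def⟩ : ∃ c, c = g⁻¹ * (x : GL (Fin 2) F) * g := ⟨_, rfl⟩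
    rw [← hc_def] at hc
    have hcr : c ^ r = 1 := by
      have : c = g⁻¹ * (x : GL (Fin 2) F) * g⁻¹⁻¹ := by rw [inv_inv, hc_def]
      rw [this, conj_pow, hxr]; simp
    have hcN : ∀ h ∈ R, c * h * c⁻¹ ∈ R := fun h hh => ((Subgroup.mem_normalizer_iff.1 hc) h).1 hh
    let f : Function.End ↥R := fun h => ⟨c * h * c⁻¹, hcN h h.2⟩
    have hfpow : ∀ n : ℕ, ∀ h : ↥R, (((f ^ n) h : ↥R) : GL (Fin 2) F) = c ^ n * h * (c ^ n)⁻¹ := by
      intro n
      induction n with
      | zero =>
        intro h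
        rw [pow_zero, pow_zero]
        show (h : GL (Fin 2) F) = 1 * h * 1⁻¹
        simp
      | succ n ih =>
        intro h
        rw [pow_succ', Function.End.mul_def]
        show c * (((f ^ n) h : ↥R) : GL (Fin 2) F) * c⁻¹ = _
        rw [ih, pow_succ']; group
    have hfr : f ^ r ^ 1 = 1 := by
      rw [pow_one]
      funext h
      apply Subtype.ext
      show (((f ^ r) h : ↥R) : GL (Fin 2) F) = ((h : ↥R) : GL (Fin 2) F)
      rw [hfpow, hcr]; simp
    haveI : Fintype ↥R := Fintype.ofEquiv _ e.symm.toEquiv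
    have hmod := Equiv.Perm.card_fixedPoints_modEq (p := r) (n := 1) hfr
    have hcard8 : Nat.card ↥R = 8 := by
      rw [Nat.card_congr e.toEquiv, Nat.card_eq_fintype_card, QuaternionGroup.card]
    have hfc : Fintype.card ↥R = 8 := by rw [← Nat.card_eq_fintype_card, hcard8]
    let Cc : Subgroup ↥R := (Subgroup.centralizer {c}).subgroupOf R
    have hfix : Fintype.card (Function.fixedPoints f) = Nat.card Cc := by
      rw [← Nat.card_eq_fintype_card]
      apply Nat.card_congr
      apply Equiv.subtypeEquivRight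
      intro h
      rw [Function.mem_fixedPoints, Function.IsFixedPt, Subgroup.mem_subgroupOf,
        Subgroup.mem_centralizer_iff]
      constructor
      · intro hh y hy
        rw [Set.mem_singleton_iff] at hy
        subst hy
        have := congrArg Subtype.val hh
        exact mul_inv_eq_iff_eq_mul.1 this
      · intro hh
        apply Subtype.ext
        show c * (h : GL (Fin 2) F) * c⁻¹ = h
        rw [hh c rfl]; group
    rw [hfc, hfix] at hmod
    have hCdvd : Nat.card Cc ∣ 8 := by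
      rw [← hcard8]; exact Subgroup.card_subgroup_dvd_card Cc
    have hZC : (⟨Zg, hZgR⟩ : ↥R) ∈ Cc := by
      rw [Subgroup.mem_subgroupOf, Subgroup.mem_centralizer_iff]
      intro y hy
      rw [Set.mem_singleton_iff] at hy
      subst hy
      exact (hZcen _).symm
    have hCne : Nat.card Cc ≠ 1 := by
      intro h1
      have := Subgroup.eq_bot_of_card_eq Cc h1
      rw [this, Subgroup.mem_bot] at hZC
      exact hZne (congrArg Subtype.val hZC)
    have hCtop : Cc = ⊤ := by
      apply Subgroup.eq_top_of_card_eq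
      rw [hcard8]
      obtain ⟨k, hk⟩ : ∃ k, Nat.card Cc = k := ⟨_, rfl⟩
      rw [hk] at hmod hCdvd hCne ⊢
      have hk8 : k ≤ 8 := Nat.le_of_dvd (by norm_num) hCdvd
      interval_cases k
      · omega
      · exact absurd rfl hCne
      · exfalso
        have := (Nat.modEq_iff_dvd' (by norm_num)).1 hmod.symm
        exact not_dvd_six hrp hr5 this
      · omega
      · exfalso
        have := (Nat.modEq_iff_dvd' (by norm_num)).1 hmod.symm
        exact not_dvd_four hrp hr5 this
      · omega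
      · omega
      · omega
      · rfl
    have hcI : Ig * c = c * Ig := by
      have : (⟨Ig, hIgR⟩ : ↥R) ∈ Cc := by rw [hCtop]; exact Subgroup.mem_top _
      rw [Subgroup.mem_subgroupOf, Subgroup.mem_centralizer_iff] at this
      exact (this c rfl).symm
    have hcJ : Jg * c = c * Jg := by
      have : (⟨Jg, hJgR⟩ : ↥R) ∈ Cc := by rw [hCtop]; exact Subgroup.mem_top _
      rw [Subgroup.mem_subgroupOf, Subgroup.mem_centralizer_iff] at this
      exact (this c rfl).symm
    obtain ⟨zc, hzc⟩ := scalar_of_comm I J (c : Matrix (Fin 2) (Fin 2) F)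
      (by rw [hI]; exact congrArg Units.val hcI) (by rw [hJ]; exact congrArg Units.val hcJ) hIJne
    have hccen : ∀ y : GL (Fin 2) F, c * y = y * c := by
      intro y
      apply Units.ext
      show (c : Matrix (Fin 2) (Fin 2) F) * y = y * (c : Matrix (Fin 2) (Fin 2) F)
      rw [hzc]; simp
    have hxc : (x : GL (Fin 2) F) = c := by
      have h5 : (x : GL (Fin 2) F) = g * c * g⁻¹ := by rw [hc_def]; group
      rw [h5, ← hccen g, mul_inv_cancel_right]
    exact hxns zc (by rw [hxc]; exact hzc)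
  · -- the primes two and three
    intro hr x hx hxr hxns
    obtain ⟨z, hz⟩ := hxr
    have hxdet := (mem_SL_iff x).1 hx
    obtain ⟨X, hX⟩ : ∃ X : Matrix (Fin 2) (Fin 2) F, X = (x : Matrix (Fin 2) (Fin 2) F) := ⟨_, rfl⟩
    rw [← hX] at hxdet hxns
    rcases hr with rfl | rfl
    · have hz' : X * X = z • (1 : Matrix (Fin 2) (Fin 2) F) := by
        rw [← hz, pow_two, hX]; rfl
      obtain ⟨hXtr, -⟩ := tr_det_of_quad X hxns 0 z (by rw [hz']; simp)
      obtain ⟨g, hg, hgx⟩ := exists_conj hodd h2 x Ig (by rw [← hX]; exact hxdet)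
        (by rw [← hI]; exact hIdet) (by rw [← hX, ← hI, hXtr, hItr])
        (by rw [← hX]; exact hxns) (by rw [← hI]; exact hIns)
        (by
          rw [← hX, hXtr]
          have : (0 : F) ^ 2 - 4 = -4 := by ring
          rw [this]; exact neg_ne_zero.2 h4)
      exact ⟨g, hg, by rw [hgx]; exact hRN hIgR⟩
    · have hz' : X * X * X = z • (1 : Matrix (Fin 2) (Fin 2) F) := by
        rw [← hz, pow_succ, pow_two, hX]; rfl
      have ch : X * X = X.trace • X - 1 := by
        rw [ch2 X, hxdet, one_smul]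
      have e1 : (X.trace * X.trace - 1) • X = (z + X.trace) • (1 : Matrix (Fin 2) (Fin 2) F) := by
        have h1 : X * X * X = X.trace • (X.trace • X - 1) - X := by
          calc X * X * X = (X.trace • X - 1) * X := by rw [← ch]
            _ = X.trace • (X * X) - X := by rw [sub_mul, Matrix.smul_mul, one_mul]
            _ = X.trace • (X.trace • X - 1) - X := by rw [ch]
        rw [hz'] at h1
        rw [add_smul, h1]
        module
      have e2 := coeff_zero_of_smul_eq X hxns _ _ e1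
      have e3 : X.trace * X.trace = 1 := by linear_combination e2
      obtain ⟨M, hMdet, hMtr, hMns, hMI, hMJ⟩ := quat_norm h2 I J hII hJJ hJI
      obtain ⟨g₀, hg₀⟩ : ∃ g₀ : GL (Fin 2) F, (g₀ : Matrix (Fin 2) (Fin 2) F) = M :=
        ⟨Matrix.GeneralLinearGroup.mkOfDetNeZero M (by rw [hMdet]; exact one_ne_zero), rfl⟩
      have hgI : g₀ * Ig = (Ig * Jg) * g₀ := by
        apply Units.ext
        show (g₀ : Matrix (Fin 2) (Fin 2) F) * Ig = (Ig * Jg) * (g₀ : Matrix (Fin 2) (Fin 2) F)
        rw [hg₀, ← hI, ← hJ]; exact hMI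
      have hgJ : g₀ * Jg = Ig * g₀ := by
        apply Units.ext
        show (g₀ : Matrix (Fin 2) (Fin 2) F) * Jg = Ig * (g₀ : Matrix (Fin 2) (Fin 2) F)
        rw [hg₀, ← hI, ← hJ]; exact hMJ
      have hg₀3 : g₀ * g₀ * g₀ = 1 := by
        apply Units.ext
        show (g₀ : Matrix (Fin 2) (Fin 2) F) * g₀ * g₀ = 1
        rw [hg₀]
        have c2 : M * M = -M - 1 := by rw [ch2 M, hMtr, hMdet]; simp
        rw [c2, sub_mul, neg_mul, c2, one_mul]; abel
      have hg₀N : g₀ ∈ Cfsg.Geo.subgroupNormalizer R := by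
        have hpres : ∀ h ∈ R, g₀ * h * g₀⁻¹ ∈ R := by
          intro h hh
          obtain ⟨i, j, rfl⟩ := hgen h hh
          have e1 : g₀ * Jg * g₀⁻¹ = Ig := by rw [hgJ, mul_inv_cancel_right]
          have e2 : g₀ * Ig * g₀⁻¹ = Ig * Jg := by rw [hgI, mul_inv_cancel_right]
          have : g₀ * (Jg ^ i * Ig ^ j) * g₀⁻¹ = (g₀ * Jg * g₀⁻¹) ^ i * (g₀ * Ig * g₀⁻¹) ^ j := by
            rw [conj_pow, conj_pow, conj_mul]
          rw [this, e1, e2]
          exact R.mul_mem (R.pow_mem hIgR _) (R.pow_mem (R.mul_mem hIgR hJgR) _)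
        show g₀ ∈ Subgroup.normalizer (R : Set (GL (Fin 2) F))
        rw [Subgroup.mem_normalizer_iff]
        intro h
        constructor
        · exact hpres h
        · intro hh
          have := hpres _ (hpres _ hh)
          have e3 : g₀ * (g₀ * (g₀ * h * g₀⁻¹) * g₀⁻¹) * g₀⁻¹ =
              (g₀ * g₀ * g₀) * h * (g₀ * g₀ * g₀)⁻¹ := by group
          rw [e3, hg₀3] at this
          simpa using this
      have hdisc : ∀ t : F, t = -1 → t ^ 2 - 4 ≠ 0 := by
        rintro t rfl
        have : (-1 : F) ^ 2 - 4 = -3 := by ring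
        rw [this]; exact neg_ne_zero.2 h3
      rcases mul_self_eq_one_iff.1 e3 with h1 | h1
      · -- trace one: pass to the negative
        have hZx : ((Zg * x : GL (Fin 2) F) : Matrix (Fin 2) (Fin 2) F) = -X := by
          rw [Units.val_mul, ← hZ, hZ1, hX]; simp
        obtain ⟨g, hg, hgx⟩ := exists_conj hodd h2 (Zg * x) g₀
          (by rw [hZx, Matrix.det_neg, Fintype.card_fin, hxdet]; norm_num)
          (by rw [hg₀]; exact hMdet)
          (by rw [hZx, hg₀, Matrix.trace_neg, h1, hMtr])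
          (by
            intro z hz
            apply hxns (-z)
            rw [hZx] at hz
            rw [neg_smul, ← hz, neg_neg])
          (by rw [hg₀]; exact hMns)
          (by rw [hZx, Matrix.trace_neg, h1]; exact hdisc _ rfl)
        refine ⟨g, hg, ?_⟩
        have : g⁻¹ * x * g = Zg⁻¹ * g₀ := by
          rw [← hgx]
          have := hZcen g⁻¹
          have h5 : g⁻¹ * (Zg * x) * g = (g⁻¹ * Zg) * x * g := by group
          rw [h5, ← this]; group
        rw [this]
        exact Subgroup.mul_mem _ (Subgroup.inv_mem _ (hRN hZgR)) hg₀N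
      · obtain ⟨g, hg, hgx⟩ := exists_conj hodd h2 x g₀ (by rw [← hX]; exact hxdet)
          (by rw [hg₀]; exact hMdet) (by rw [← hX, hg₀, h1, hMtr])
          (by rw [← hX]; exact hxns) (by rw [hg₀]; exact hMns)
          (by rw [← hX, h1]; exact hdisc _ rfl)
        exact ⟨g, hg, by rw [hgx]; exact hg₀N⟩

end Cfsg.Agent.S5997
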