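import Cfsg.Statements.S5941
import Cfsg.Agent.Lib.Helper98.SL2Field

set_option autoImplicit false
open Cfsg

set_option linter.style.haveILetI false
set_option linter.unnecessarySeqFocus false
set_option linter.unreachableTactic false
set_option linter.unusedTactic false
set_option linter.unusedVariables false

namespace Cfsg.Agent.S5941

open Matrix MatrixGroups
open Cfsg.Agent.Lib.Helper98.SL2Sub Cfsg.Agent.Lib.Helper98.SL2Field

section sl
variable {F : Type*} [Field F]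

/-- matrices that are `F`-multiples of matrices over `k` -/
def Pk (k : Subfield F) : Subgroup SL(2, F) where
  carrier := {g | ∃ c : F, c ≠ 0 ∧ c * g.1 0 0 ∈ k ∧ c * g.1 0 1 ∈ k ∧ c * g.1 1 0 ∈ k ∧
    c * g.1 1 1 ∈ k}
  mul_mem' := by
    rintro g g' ⟨c, hc, h1, h2, h3, h4⟩ ⟨c', hc', h1', h2', h3', h4'⟩
    refine ⟨c * c', mul_ne_zero hc hc', ?_, ?_, ?_, ?_⟩
    · rw [mul00]
      have : c * c' * (g.1 0 0 * g'.1 0 0 + g.1 0 1 * g'.1 1 0) =
        (c * g.1 0 0) * (c' * g'.1 0 0) + (c * g.1 0 1) * (c' * g'.1 1 0) := by ring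
      rw [this]; exact k.add_mem (k.mul_mem h1 h1') (k.mul_mem h2 h3')
    · rw [mul01]
      have : c * c' * (g.1 0 0 * g'.1 0 1 + g.1 0 1 * g'.1 1 1) =
        (c * g.1 0 0) * (c' * g'.1 0 1) + (c * g.1 0 1) * (c' * g'.1 1 1) := by ring
      rw [this]; exact k.add_mem (k.mul_mem h1 h2') (k.mul_mem h2 h4')
    · rw [mul10]
      have : c * c' * (g.1 1 0 * g'.1 0 0 + g.1 1 1 * g'.1 1 0) =
        (c * g.1 1 0) * (c' * g'.1 0 0) + (c * g.1 1 1) * (c' * g'.1 1 0) := by ring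
      rw [this]; exact k.add_mem (k.mul_mem h3 h1') (k.mul_mem h4 h3')
    · rw [mul11]
      have : c * c' * (g.1 1 0 * g'.1 0 1 + g.1 1 1 * g'.1 1 1) =
        (c * g.1 1 0) * (c' * g'.1 0 1) + (c * g.1 1 1) * (c' * g'.1 1 1) := by ring
      rw [this]; exact k.add_mem (k.mul_mem h3 h2') (k.mul_mem h4 h4')
  one_mem' := by
    refine ⟨1, one_ne_zero, ?_, ?_, ?_, ?_⟩
    · rw [one00, mul_one]; exact k.one_mem
    · rw [one01, mul_zero]; exact k.zero_mem
    · rw [one10, mul_zero]; exact k.zero_mem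
    · rw [one11, mul_one]; exact k.one_mem
  inv_mem' := by
    rintro g ⟨c, hc, h1, h2, h3, h4⟩
    refine ⟨c, hc, ?_, ?_, ?_, ?_⟩
    · rw [inv00]; exact h4
    · rw [inv01, mul_neg]; exact k.neg_mem h2
    · rw [inv10, mul_neg]; exact k.neg_mem h3
    · rw [inv11]; exact h1

lemma Sk_le_Pk (k : Subfield F) : Sk k ≤ Pk k := by
  rintro g ⟨h1, h2, h3, h4⟩
  exact ⟨1, one_ne_zero, by rwa [one_mul], by rwa [one_mul], by rwa [one_mul], by rwa [one_mul]⟩

lemma d_mem_Pk (k : Subfield F) (a : F) (ha : a ≠ 0) (ha2 : a ^ 2 ∈ k) : d a ha ∈ Pk k := by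
  refine ⟨a, ha, ?_, ?_, ?_, ?_⟩
  · rw [d00, ← sq]; exact ha2
  · rw [d01, mul_zero]; exact k.zero_mem
  · rw [d10, mul_zero]; exact k.zero_mem
  · rw [d11, mul_inv_cancel₀ ha]; exact k.one_mem

lemma Pk_ne_top (k : Subfield F) (t : F) (ht : t ∉ k) : Pk k ≠ ⊤ := by
  intro h
  have : u t ∈ Pk k := by rw [h]; trivial
  obtain ⟨c, hc, h00, h01, -, -⟩ := this
  rw [u00, mul_one] at h00
  rw [u01] at h01
  apply ht
  have : t = (c * t) / c := by field_simp
  rw [this]
  exact k.div_mem h01 h00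

/-- **Maximality of the image of `PGL(2, k)`** when `[F : k] = 2` in odd characteristic. -/
theorem Pk_max (k : Subfield F)
    (h2 : (2 : F) ≠ 0)
    (hsqrt : ∀ s ∈ k, ∃ σ : F, σ ^ 2 = s)
    (hspan : ∀ ω : F, ω ∉ k → ∀ z : F, ∃ x ∈ k, ∃ y ∈ k, z = x + y * ω)
    (K : Subgroup SL(2, F)) (hle : Pk k ≤ K) (hne : ¬ K ≤ Pk k) : K = ⊤ := by
  have hSk : Sk k ≤ K := (Sk_le_Pk k).trans hle
  have hw : (w : SL(2, F)) ∈ K := hSk w_mem_Sk
  have hl1 : l 1 ∈ K := hSk (l_mem_Sk k.one_mem)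
  -- Step 1: some element moves `∞` outside the projective line over `k`
  have step1 : ∃ g ∈ K, g.1 1 0 ≠ 0 ∧ g.1 0 0 / g.1 1 0 ∉ k := by
    by_contra hcon
    push Not at hcon
    have hR : ∀ g ∈ K, ∃ c : F, c ≠ 0 ∧ c * g.1 0 0 ∈ k ∧ c * g.1 1 0 ∈ k := by
      intro g hg
      by_cases hc : g.1 1 0 = 0
      · have ha : g.1 0 0 ≠ 0 := by
          intro h0
          have := det_eq g
          rw [h0, hc] at this
          simp at this
        exact ⟨(g.1 0 0)⁻¹, inv_ne_zero ha, by rw [inv_mul_cancel₀ ha]; exact k.one_mem,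
          by rw [hc, mul_zero]; exact k.zero_mem⟩
      · exact ⟨(g.1 1 0)⁻¹, inv_ne_zero hc, by rw [inv_mul_eq_div]; exact hcon g hg hc,
          by rw [inv_mul_cancel₀ hc]; exact k.one_mem⟩
    apply hne
    intro g hg
    obtain ⟨c1, hc1, ha1, hc1'⟩ := hR g hg
    obtain ⟨c2, hc2, hb2, hd2⟩ := hR (g * w) (K.mul_mem hg hw)
    obtain ⟨c3, hc3, hab3, hcd3⟩ := hR (g * l 1) (K.mul_mem hg hl1)
    simp only [mul00, mul10, w00, w10, l00, l10, mul_zero, zero_add, mul_neg, mul_one,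
      neg_mem_iff] at hb2 hd2 hab3 hcd3
    have hdet := det_eq g
    have h12 : c1 * c2 ∈ k := by
      have : c1 * c2 = (c1 * g.1 0 0) * (c2 * g.1 1 1) - (c2 * g.1 0 1) * (c1 * g.1 1 0) := by
        linear_combination (-(c1 * c2)) * hdet
      rw [this]; exact k.sub_mem (k.mul_mem ha1 hd2) (k.mul_mem hb2 hc1')
    have h32 : c3 * c2 ∈ k := by
      have : c3 * c2 = (c3 * (g.1 0 0 + g.1 0 1)) * (c2 * g.1 1 1) -
          (c2 * g.1 0 1) * (c3 * (g.1 1 0 + g.1 1 1)) := by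
        linear_combination (-(c3 * c2)) * hdet
      rw [this]; exact k.sub_mem (k.mul_mem hab3 hd2) (k.mul_mem hb2 hcd3)
    have h13 : c1 * c3 ∈ k := by
      have : c1 * c3 = (c1 * g.1 0 0) * (c3 * (g.1 1 0 + g.1 1 1)) -
          (c1 * g.1 1 0) * (c3 * (g.1 0 0 + g.1 0 1)) := by
        linear_combination (-(c1 * c3)) * hdet
      rw [this]; exact k.sub_mem (k.mul_mem ha1 hcd3) (k.mul_mem hc1' hab3)
    have hρ : c1 / c2 ∈ k := by
      have : c1 / c2 = (c1 * c3) / (c3 * c2) := by field_simp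
      rw [this]; exact k.div_mem h13 h32
    refine ⟨c1, hc1, ha1, ?_, hc1', ?_⟩
    · have : c1 * g.1 0 1 = (c1 / c2) * (c2 * g.1 0 1) := by field_simp
      rw [this]; exact k.mul_mem hρ hb2
    · have : c1 * g.1 1 1 = (c1 / c2) * (c2 * g.1 1 1) := by field_simp
      rw [this]; exact k.mul_mem hρ hd2
  -- Step 2: an upper triangular element of `K` outside `Pk k`
  have step2 : ∃ n ∈ K, n.1 1 0 = 0 ∧ n ∉ Pk k := by
    obtain ⟨g, hg, hc, hω⟩ := step1
    obtain ⟨f, hf, e, he, hfe⟩ := hspan _ hω ((g.1 0 0 / g.1 1 0) ^ 2)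
    generalize hωdef : g.1 0 0 / g.1 1 0 = ω at hω hfe
    have ha : g.1 0 0 = ω * g.1 1 0 := by rw [← hωdef]; field_simp
    obtain ⟨y, hy, hy2⟩ : ∃ y ∈ k, e + 2 * y ≠ 0 := by
      by_cases he0 : e = 0
      · exact ⟨1, k.one_mem, by rw [he0]; simpa using h2⟩
      · exact ⟨0, k.zero_mem, by simpa using he0⟩
    obtain ⟨D, hD⟩ : ∃ D, D = y * (e + y) - f := ⟨_, rfl⟩
    have hDk : D ∈ k := by rw [hD]; exact k.sub_mem (k.mul_mem hy (k.add_mem he hy)) hf
    have hD0 : D ≠ 0 := by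
      intro h0
      have h1 : (ω + y) * (ω - e - y) = 0 := by linear_combination hfe - h0 + hD
      rcases mul_eq_zero.1 h1 with h | h
      · apply hω; rw [eq_neg_of_add_eq_zero_left h]; exact k.neg_mem hy
      · apply hω
        have : ω = e + y := by linear_combination h
        rw [this]; exact k.add_mem he hy
    obtain ⟨τ, hτ⟩ := hsqrt D hDk
    have hτ0 : τ ≠ 0 := by
      rintro rfl
      apply hD0
      rw [← hτ]; ring
    have hττ : τ⁻¹ * τ⁻¹ * D = 1 := by rw [← hτ]; field_simp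
    let S : SL(2, F) := ⟨!![τ⁻¹ * (e + y), τ⁻¹ * f; τ⁻¹, τ⁻¹ * y], by
      rw [Matrix.det_fin_two_of]
      linear_combination hττ - (τ⁻¹ * τ⁻¹) * hD⟩
    have hS00 : S.1 0 0 = τ⁻¹ * (e + y) := rfl
    have hS01 : S.1 0 1 = τ⁻¹ * f := rfl
    have hS10 : S.1 1 0 = τ⁻¹ := rfl
    have hS11 : S.1 1 1 = τ⁻¹ * y := rfl
    have hS : S ∈ Pk k := by
      refine ⟨τ, hτ0, ?_, ?_, ?_, ?_⟩
      · rw [hS00, mul_inv_cancel_left₀ hτ0]; exact k.add_mem he hy
      · rw [hS01, mul_inv_cancel_left₀ hτ0]; exact hf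
      · rw [hS10, mul_inv_cancel₀ hτ0]; exact k.one_mem
      · rw [hS11, mul_inv_cancel_left₀ hτ0]; exact hy
    have hdet := det_eq g
    rw [ha] at hdet
    have hnK : g⁻¹ * S * g ∈ K := K.mul_mem (K.mul_mem (K.inv_mem hg) (hle hS)) hg
    have hn10 : (g⁻¹ * S * g).1 1 0 = 0 := by
      simp only [mul10, mul11, inv10, inv11, hS00, hS01, hS10, hS11]
      rw [ha]
      linear_combination (τ⁻¹ * (g.1 1 0) ^ 2) * hfe
    have hn00 : (g⁻¹ * S * g).1 0 0 = τ⁻¹ * (ω + y) := by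
      simp only [mul00, mul01, inv00, inv01, hS00, hS01, hS10, hS11]
      rw [ha]
      linear_combination (-(τ⁻¹ * g.1 1 0 * g.1 1 1)) * hfe + (τ⁻¹ * (ω + y)) * hdet
    refine ⟨g⁻¹ * S * g, hnK, hn10, ?_⟩
    rintro ⟨μ, hμ0, m00, -, -, m11⟩
    have hn11 : (g⁻¹ * S * g).1 0 0 * (g⁻¹ * S * g).1 1 1 = 1 := by
      have := det_eq (g⁻¹ * S * g)
      rw [hn10, mul_zero, sub_zero] at this
      exact this
    have hn11' : (g⁻¹ * S * g).1 1 1 ≠ 0 := right_ne_zero_of_mul_eq_one hn11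
    have hα2 : ((g⁻¹ * S * g).1 0 0) ^ 2 ∈ k := by
      have : ((g⁻¹ * S * g).1 0 0) ^ 2 =
          (μ * (g⁻¹ * S * g).1 0 0) / (μ * (g⁻¹ * S * g).1 1 1) := by
        field_simp
        linear_combination ((g⁻¹ * S * g).1 0 0) * hn11
      rw [this]; exact k.div_mem m00 m11
    rw [hn00] at hα2
    have h3 : (ω + y) ^ 2 ∈ k := by
      have : (ω + y) ^ 2 = (τ⁻¹ * (ω + y)) ^ 2 * D := by
        linear_combination (-(ω + y) ^ 2) * hττ
      rw [this]; exact k.mul_mem hα2 hDk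
    apply hω
    have : ω = ((ω + y) ^ 2 - f - y ^ 2) / (e + 2 * y) := by
      rw [eq_div_iff hy2]
      linear_combination (-1 : F) * hfe
    rw [this]
    exact k.div_mem (k.sub_mem (k.sub_mem h3 hf) (k.pow_mem hy 2))
      (k.add_mem he (k.mul_mem (by
        have : (2 : F) = 1 + 1 := by norm_num
        rw [this]; exact k.add_mem k.one_mem k.one_mem) hy))
  -- Step 3: an upper elementary matrix outside `k`
  have step3 : ∃ t, t ∉ k ∧ u t ∈ K := by
    obtain ⟨n, hnK, hn10, hnP⟩ := step2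
    have hn11 : n.1 0 0 * n.1 1 1 = 1 := by
      have := det_eq n
      rw [hn10, mul_zero, sub_zero] at this
      exact this
    have hα0 : n.1 0 0 ≠ 0 := left_ne_zero_of_mul_eq_one hn11
    have hinv : n.1 1 1 = (n.1 0 0)⁻¹ := eq_inv_of_mul_eq_one_right hn11
    by_cases hα2 : (n.1 0 0) ^ 2 ∈ k
    · have hdP : d (n.1 0 0) hα0 ∈ Pk k := d_mem_Pk k _ hα0 hα2
      have hnd : n = d (n.1 0 0) hα0 * u (n.1 0 1 / n.1 0 0) := by
        apply sl2_ext <;> simp [mul00, mul01, mul10, mul11, hn10, hinv]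
        field_simp
      refine ⟨n.1 0 1 / n.1 0 0, ?_, ?_⟩
      · intro hmem
        apply hnP
        rw [hnd]
        exact (Pk k).mul_mem hdP (Sk_le_Pk k (u_mem_Sk hmem))
      · have : u (n.1 0 1 / n.1 0 0) = (d (n.1 0 0) hα0)⁻¹ * n := by
          rw [eq_inv_mul_iff_mul_eq]; exact hnd.symm
        rw [this]
        exact K.mul_mem (K.inv_mem (hle hdP)) hnK
    · refine ⟨(n.1 0 0) ^ 2, hα2, ?_⟩
      have : u ((n.1 0 0) ^ 2) = n * u 1 * n⁻¹ := by
        apply sl2_ext <;> simp [mul00, mul01, mul10, mul11, inv00, inv01, inv10, inv11, hn10]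
        · exact hn11.symm
        · ring
        · rw [mul_comm]; exact hn11.symm
      rw [this]
      exact K.mul_mem (K.mul_mem hnK (hSk (u_mem_Sk k.one_mem))) (K.inv_mem hnK)
  -- Step 4: all elementary matrices
  obtain ⟨t, ht, htK⟩ := step3
  have hu : ∀ z, u z ∈ K := by
    intro z
    obtain ⟨x, hx, y, hy, rfl⟩ := hspan t ht z
    rw [← u_mul]
    refine K.mul_mem (hSk (u_mem_Sk hx)) ?_
    by_cases hy0 : y = 0
    · rw [hy0, zero_mul, u_zero]; exact K.one_mem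
    · obtain ⟨σ, hσ⟩ := hsqrt y hy
      have hσ0 : σ ≠ 0 := by
        rintro rfl
        apply hy0
        rw [← hσ]; ring
      have hd : d σ hσ0 ∈ K := hle (d_mem_Pk k σ hσ0 (by rw [hσ]; exact hy))
      have : u (y * t) = d σ hσ0 * u t * (d σ hσ0)⁻¹ := by rw [d_u_d, hσ]
      rw [this]; exact K.mul_mem (K.mul_mem hd htK) (K.inv_mem hd)
  apply eq_top_of_u_l K hu
  intro z
  have := w_u_w (F := F) (-z)
  rw [neg_neg] at this
  rw [← this]
  exact K.mul_mem (K.mul_mem hw (hu _)) (K.inv_mem hw)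

end sl

section pgl
variable {K F : Type*} [Field K] [Field F]

/-- the map `PGL(2, K) → PGL(2, F)` induced by a field embedding -/
noncomputable def pglMap (ι : K →+* F) :
    Matrix.ProjGenLinGroup (Fin 2) K →* Matrix.ProjGenLinGroup (Fin 2) F :=
  QuotientGroup.map _ _ (Matrix.GeneralLinearGroup.map ι)
    (Matrix.GeneralLinearGroup.map_center_le ι)

lemma pglMap_mk (ι : K →+* F) (g : GL (Fin 2) K) :
    pglMap ι (Matrix.ProjGenLinGroup.mk g) =
      Matrix.ProjGenLinGroup.mk (Matrix.GeneralLinearGroup.map ι g) := rfl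

lemma scalar_entry (r : Fˣ) (i j : Fin 2) :
    ((Matrix.GeneralLinearGroup.scalar (Fin 2) r : GL (Fin 2) F) : Matrix (Fin 2) (Fin 2) F) i j =
      if i = j then (r : F) else 0 := by
  rw [Matrix.GeneralLinearGroup.coe_scalar, Matrix.scalar_apply, Matrix.diagonal_apply]

lemma mul_scalar_entry (g : GL (Fin 2) F) (r : Fˣ) (i j : Fin 2) :
    ((g * Matrix.GeneralLinearGroup.scalar (Fin 2) r : GL (Fin 2) F) :
      Matrix (Fin 2) (Fin 2) F) i j = (g : Matrix (Fin 2) (Fin 2) F) i j * r := by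
  rw [Matrix.GeneralLinearGroup.coe_mul, Matrix.GeneralLinearGroup.coe_scalar,
    Matrix.scalar_apply, Matrix.mul_diagonal]

lemma pglMap_injective (ι : K →+* F) : Function.Injective (pglMap ι) := by
  rw [injective_iff_map_eq_one]
  intro x hx
  induction x using Matrix.ProjGenLinGroup.induction_on with | mk g =>
  rw [pglMap_mk, Matrix.ProjGenLinGroup.mk_eq_one,
    Matrix.GeneralLinearGroup.center_eq_range_scalar] at hx
  obtain ⟨r, hr⟩ := hx
  rw [Matrix.ProjGenLinGroup.mk_eq_one, Matrix.GeneralLinearGroup.center_eq_range_scalar]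
  have hent : ∀ i j : Fin 2, (if i = j then (r : F) else 0) =
      ι ((g : Matrix (Fin 2) (Fin 2) K) i j) := by
    intro i j
    rw [← scalar_entry, hr]
    exact Matrix.GeneralLinearGroup.map_apply ι i j g
  have h00 := hent 0 0
  have h01 := hent 0 1
  have h10 := hent 1 0
  have h11 := hent 1 1
  simp only [if_true] at h00 h11
  rw [if_neg (by decide)] at h01 h10
  have hg0 : (g : Matrix (Fin 2) (Fin 2) K) 0 0 ≠ 0 := by
    intro h
    rw [h, map_zero] at h00
    exact r.ne_zero h00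
  refine ⟨Units.mk0 _ hg0, ?_⟩
  apply Matrix.GeneralLinearGroup.ext
  intro i j
  rw [Matrix.GeneralLinearGroup.coe_scalar, Matrix.scalar_apply, Matrix.diagonal_apply]
  fin_cases i <;> fin_cases j
  · simp
  · simp
    exact ι.injective (by rw [map_zero, ← h01])
  · simp
    exact ι.injective (by rw [map_zero, ← h10])
  · simp
    exact ι.injective (by rw [← h00, ← h11])

theorem map_toPGL_eq (ι : K →+* F) (hsqrt : ∀ s ∈ ι.fieldRange, ∃ σ : F, σ ^ 2 = s) :
    ((Pk ι.fieldRange).map (QuotientGroup.mk' (Subgroup.center SL(2, F)))).map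
      (Matrix.ProjectiveSpecialLinearGroup.toPGL) = (pglMap ι).range := by
  ext x
  constructor
  · rintro ⟨_, ⟨g, hg, rfl⟩, rfl⟩
    obtain ⟨c, hc, ⟨m00, h00⟩, ⟨m01, h01⟩, ⟨m10, h10⟩, ⟨m11, h11⟩⟩ := hg
    have hdet : ι (m00 * m11 - m01 * m10) = c ^ 2 := by
      rw [map_sub, map_mul, map_mul, h00, h01, h10, h11]
      linear_combination (c ^ 2) * det_eq g
    have hdet0 : Matrix.det !![m00, m01; m10, m11] ≠ 0 := by
      rw [Matrix.det_fin_two_of]
      intro h0
      rw [h0, map_zero] at hdet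
      exact hc ((pow_eq_zero_iff (two_ne_zero)).1 hdet.symm)
    refine ⟨Matrix.ProjGenLinGroup.mk (Matrix.GeneralLinearGroup.mkOfDetNeZero _ hdet0), ?_⟩
    rw [pglMap_mk, QuotientGroup.mk'_apply, Matrix.ProjectiveSpecialLinearGroup.toPGL_mk, eq_comm,
      Matrix.ProjGenLinGroup.mk_eq_mk_iff]
    refine ⟨Units.mk0 c hc, ?_⟩
    apply Matrix.GeneralLinearGroup.ext
    intro i j
    rw [mul_scalar_entry, Matrix.SpecialLinearGroup.coe_GL_coe_matrix]
    have hm : (Matrix.GeneralLinearGroup.map ι (Matrix.GeneralLinearGroup.mkOfDetNeZero _ hdet0) :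
        Matrix (Fin 2) (Fin 2) F) i j = ι ((!![m00, m01; m10, m11] : Matrix (Fin 2) (Fin 2) K) i j) :=
      Matrix.GeneralLinearGroup.map_apply ι i j _
    rw [hm]
    fin_cases i <;> fin_cases j
    · show g.1 0 0 * c = ι m00
      rw [h00, mul_comm]
    · show g.1 0 1 * c = ι m01
      rw [h01, mul_comm]
    · show g.1 1 0 * c = ι m10
      rw [h10, mul_comm]
    · show g.1 1 1 * c = ι m11
      rw [h11, mul_comm]
  · rintro ⟨x, rfl⟩
    induction x using Matrix.ProjGenLinGroup.induction_on with | mk M =>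
    rw [pglMap_mk]
    have hδ : (M : Matrix (Fin 2) (Fin 2) K).det ≠ 0 := Matrix.GeneralLinearGroup.det_ne_zero M
    obtain ⟨σ, hσ⟩ := hsqrt (ι (M : Matrix (Fin 2) (Fin 2) K).det) ⟨_, rfl⟩
    have hσ0 : σ ≠ 0 := by
      rintro rfl
      apply hδ
      apply ι.injective
      rw [← hσ, map_zero]; ring
    have hdet : ι ((M : Matrix (Fin 2) (Fin 2) K) 0 0) * ι ((M : Matrix (Fin 2) (Fin 2) K) 1 1) -
        ι ((M : Matrix (Fin 2) (Fin 2) K) 0 1) * ι ((M : Matrix (Fin 2) (Fin 2) K) 1 0) = σ ^ 2 := by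
      rw [hσ, Matrix.det_fin_two, map_sub, map_mul, map_mul]
    have hσσ : σ⁻¹ * σ⁻¹ * σ ^ 2 = 1 := by field_simp
    let g : SL(2, F) := ⟨!![σ⁻¹ * ι ((M : Matrix (Fin 2) (Fin 2) K) 0 0),
        σ⁻¹ * ι ((M : Matrix (Fin 2) (Fin 2) K) 0 1);
        σ⁻¹ * ι ((M : Matrix (Fin 2) (Fin 2) K) 1 0),
        σ⁻¹ * ι ((M : Matrix (Fin 2) (Fin 2) K) 1 1)], by
      rw [Matrix.det_fin_two_of]
      linear_combination (σ⁻¹ * σ⁻¹) * hdet + hσσ⟩
    have hg00 : g.1 0 0 = σ⁻¹ * ι ((M : Matrix (Fin 2) (Fin 2) K) 0 0) := rfl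
    have hg01 : g.1 0 1 = σ⁻¹ * ι ((M : Matrix (Fin 2) (Fin 2) K) 0 1) := rfl
    have hg10 : g.1 1 0 = σ⁻¹ * ι ((M : Matrix (Fin 2) (Fin 2) K) 1 0) := rfl
    have hg11 : g.1 1 1 = σ⁻¹ * ι ((M : Matrix (Fin 2) (Fin 2) K) 1 1) := rfl
    have hgP : g ∈ Pk ι.fieldRange := by
      refine ⟨σ, hσ0, ⟨(M : Matrix (Fin 2) (Fin 2) K) 0 0, ?_⟩,
        ⟨(M : Matrix (Fin 2) (Fin 2) K) 0 1, ?_⟩, ⟨(M : Matrix (Fin 2) (Fin 2) K) 1 0, ?_⟩,
        ⟨(M : Matrix (Fin 2) (Fin 2) K) 1 1, ?_⟩⟩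
      · rw [hg00, mul_inv_cancel_left₀ hσ0]
      · rw [hg01, mul_inv_cancel_left₀ hσ0]
      · rw [hg10, mul_inv_cancel_left₀ hσ0]
      · rw [hg11, mul_inv_cancel_left₀ hσ0]
    refine ⟨QuotientGroup.mk' _ g, Subgroup.mem_map_of_mem _ hgP, ?_⟩
    rw [QuotientGroup.mk'_apply, Matrix.ProjectiveSpecialLinearGroup.toPGL_mk,
      Matrix.ProjGenLinGroup.mk_eq_mk_iff]
    refine ⟨Units.mk0 σ hσ0, ?_⟩
    apply Matrix.GeneralLinearGroup.ext
    intro i j
    rw [mul_scalar_entry, Matrix.SpecialLinearGroup.coe_GL_coe_matrix]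
    have hm : (Matrix.GeneralLinearGroup.map ι M : Matrix (Fin 2) (Fin 2) F) i j =
        ι ((M : Matrix (Fin 2) (Fin 2) K) i j) := Matrix.GeneralLinearGroup.map_apply ι i j _
    rw [hm]
    fin_cases i <;> fin_cases j
    · show g.1 0 0 * σ = _
      rw [hg00, mul_comm, mul_inv_cancel_left₀ hσ0]; rfl
    · show g.1 0 1 * σ = _
      rw [hg01, mul_comm, mul_inv_cancel_left₀ hσ0]; rfl
    · show g.1 1 0 * σ = _
      rw [hg10, mul_comm, mul_inv_cancel_left₀ hσ0]; rfl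
    · show g.1 1 1 * σ = _
      rw [hg11, mul_comm, mul_inv_cancel_left₀ hσ0]; rfl

/-- the image of `Pk` in `PSL(2, F)` is isomorphic to `PGL(2, K)` -/
noncomputable def pglIso (ι : K →+* F) (hsqrt : ∀ s ∈ ι.fieldRange, ∃ σ : F, σ ^ 2 = s) :
    ((Pk ι.fieldRange).map (QuotientGroup.mk' (Subgroup.center SL(2, F)))) ≃*
      Matrix.ProjGenLinGroup (Fin 2) K :=
  ((Subgroup.equivMapOfInjective _ _ Matrix.ProjectiveSpecialLinearGroup.toPGL_injective).trans
    (MulEquiv.subgroupCongr (map_toPGL_eq ι hsqrt))).trans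
      (MonoidHom.ofInjective (pglMap_injective ι)).symm

end pgl

/-- Let K and F be finite fields of odd characteristic with #F = (#K)². Then PSL_2(F) has a maximal subgroup isomorphic to PGL_2(K). -/
theorem result {F K : Type*} [Field F] [Fintype F] [Field K] [Fintype K] (q : ℕ) (hK : Fintype.card K = q) (hF : Fintype.card F = q ^ 2) (hq : Odd q) : ∃ H : Subgroup (Matrix.ProjectiveSpecialLinearGroup (Fin 2) F), IsCoatom H ∧ Nonempty (H ≃* Matrix.ProjGenLinGroup (Fin 2) K) := by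
  classical
  have hF' : Nat.card F = Nat.card K ^ 2 := by
    rw [Nat.card_eq_fintype_card, Nat.card_eq_fintype_card, hK, hF]
  obtain ⟨ι⟩ := exists_ringHom 2 hF'
  set k := ι.fieldRange with hk
  have hkc : Nat.card k = q := by
    have e : K ≃ k := Equiv.ofBijective (fun x => ⟨ι x, x, rfl⟩)
      ⟨fun x y h => ι.injective (congrArg Subtype.val h), fun ⟨y, x, hx⟩ => ⟨x, Subtype.ext hx⟩⟩
    rw [← Nat.card_congr e, Nat.card_eq_fintype_card, hK]
  have hq2 : 2 ≤ q := by rw [← hK]; exact Fintype.one_lt_card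
  have hch : ringChar F ≠ 2 := by
    intro h
    have h1 := FiniteField.even_card_of_char_two h
    rw [hF] at h1
    have h2 : Odd (q ^ 2) := hq.pow
    rw [Nat.odd_iff] at h2
    omega
  have h2 : (2 : F) ≠ 0 := Ring.two_ne_zero hch
  haveI : Fintype k := Fintype.ofFinite k
  have hsqrt : ∀ s ∈ k, ∃ σ : F, σ ^ 2 = s := by
    intro s hs
    by_cases hs0 : s = 0
    · exact ⟨0, by rw [hs0]; ring⟩
    · have h1 : s ^ (q - 1) = 1 := by
        have h := FiniteField.pow_card_sub_one_eq_one (⟨s, hs⟩ : k)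
          (fun h => hs0 (congrArg Subtype.val h))
        rw [← Nat.card_eq_fintype_card, hkc] at h
        have h' := congrArg Subtype.val h
        simpa using h'
      have hsq : IsSquare s := by
        rw [FiniteField.isSquare_iff hch hs0, hF]
        obtain ⟨m, hm⟩ := hq
        have h3 : q ^ 2 / 2 = (q - 1) * (m + 1) := by
          subst hm
          have : (2 * m + 1) ^ 2 = 2 * ((2 * m + 1 - 1) * (m + 1)) + 1 := by
            simp only [Nat.add_sub_cancel]
            ring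
          rw [this]
          omega
        rw [h3, pow_mul, h1, one_pow]
      obtain ⟨σ, hσ⟩ := hsq
      exact ⟨σ, by rw [hσ]; ring⟩
  have hspan : ∀ ω : F, ω ∉ k → ∀ z : F, ∃ x ∈ k, ∃ y ∈ k, z = x + y * ω := by
    intro ω hω
    let φ : k × k → F := fun p => p.1 + p.2 * ω
    have hinj : Function.Injective φ := by
      rintro ⟨x, y⟩ ⟨x', y'⟩ h
      simp only [φ] at h
      by_cases hy : y = y'
      · subst hy
        have : (x : F) = x' := by linear_combination h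
        rw [Subtype.ext this]
      · exfalso
        apply hω
        have hne : (y : F) - y' ≠ 0 := sub_ne_zero.2 (fun h => hy (Subtype.ext h))
        have : ω = ((x' : F) - x) / (y - y') := by
          rw [eq_div_iff hne]
          linear_combination h
        rw [this]
        exact k.div_mem (k.sub_mem x'.2 x.2) (k.sub_mem y.2 y'.2)
    have hbij : Function.Bijective φ := by
      rw [Fintype.bijective_iff_injective_and_card]
      refine ⟨hinj, ?_⟩
      rw [Fintype.card_prod, ← Nat.card_eq_fintype_card (α := k), hkc, hF]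
      ring
    intro z
    obtain ⟨⟨x, y⟩, hxy⟩ := hbij.2 z
    exact ⟨x, x.2, y, y.2, hxy.symm⟩
  have hex : ∃ x, x ∉ k := by
    by_contra h
    push Not at h
    have h1 : Nat.card k = Nat.card F := Nat.card_congr (Equiv.subtypeUnivEquiv h)
    rw [hkc, Nat.card_eq_fintype_card, hF] at h1
    nlinarith
  refine ⟨(Pk k).map (QuotientGroup.mk' (Subgroup.center SL(2, F))), ?_, ⟨pglIso ι hsqrt⟩⟩
  apply isCoatom_map _ (QuotientGroup.mk'_surjective _)
  · rw [QuotientGroup.ker_mk']; exact (center_le_Sk k).trans (Sk_le_Pk k)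
  · obtain ⟨x, hx⟩ := hex
    exact ⟨Pk_ne_top k x hx, fun K' hlt => Pk_max k h2 hsqrt hspan K' hlt.le hlt.not_ge⟩

end Cfsg.Agent.S5941
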