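import Cfsg.Statements.S0805
import Cfsg.Agent.Lib.Helper46.NatSL2
import Cfsg.Agent.Lib.Helper5.SL2Card
import Cfsg.Agent.Lib.Helper38.SLCard
import Cfsg.Agent.S0265

set_option autoImplicit false
open Cfsg

namespace Cfsg.Agent.S0805

section Helpers

open Matrix

variable {F K : Type*} [Field F] [Field K]

theorem mapMatrix_eq_scalar_imp (ι : K →+* F) (A : Matrix (Fin 2) (Fin 2) K) (c : F)
    (h : ι.mapMatrix A = c • (1 : Matrix (Fin 2) (Fin 2) F)) :
    A = (A 0 0) • (1 : Matrix (Fin 2) (Fin 2) K) ∧ ι (A 0 0) = c := by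
  have hinj := ι.injective
  have h00 := congrFun (congrFun h 0) 0
  have h01 := congrFun (congrFun h 0) 1
  have h10 := congrFun (congrFun h 1) 0
  have h11 := congrFun (congrFun h 1) 1
  simp only [RingHom.mapMatrix_apply, Matrix.map_apply, Matrix.smul_apply, Matrix.one_apply_eq,
    smul_eq_mul, mul_one] at h00 h11
  simp only [RingHom.mapMatrix_apply, Matrix.map_apply, Matrix.smul_apply, smul_eq_mul] at h01 h10
  have e01 : A 0 1 = 0 := by
    apply hinj
    rw [h01, map_zero]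
    simp
  have e10 : A 1 0 = 0 := by
    apply hinj
    rw [h10, map_zero]
    simp
  have e11 : A 1 1 = A 0 0 := by
    apply hinj
    rw [h11, h00]
  refine ⟨?_, h00⟩
  ext i j
  fin_cases i <;> fin_cases j <;> simp [e01, e10, e11]

theorem ker_psl (ι : K →+* F) :
    ((QuotientGroup.mk' (Subgroup.center (Matrix.SpecialLinearGroup (Fin 2) F))).comp
      (Matrix.SpecialLinearGroup.map ι)).ker
      = Subgroup.center (Matrix.SpecialLinearGroup (Fin 2) K) := by
  ext A
  rw [MonoidHom.mem_ker, MonoidHom.comp_apply, QuotientGroup.mk'_apply, QuotientGroup.eq_one_iff,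
    Matrix.SpecialLinearGroup.mem_center_iff, Matrix.SpecialLinearGroup.mem_center_iff]
  have hcoe : ((Matrix.SpecialLinearGroup.map ι A : Matrix.SpecialLinearGroup (Fin 2) F) :
      Matrix (Fin 2) (Fin 2) F) = ι.mapMatrix (A : Matrix (Fin 2) (Fin 2) K) := rfl
  constructor
  · rintro ⟨r, hr, h⟩
    rw [hcoe, Matrix.scalar_apply, ← Matrix.smul_one_eq_diagonal] at h
    obtain ⟨h1, h2⟩ := mapMatrix_eq_scalar_imp ι _ r h.symm
    refine ⟨(A : Matrix (Fin 2) (Fin 2) K) 0 0, ?_, ?_⟩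
    · apply ι.injective
      rw [map_pow, h2, hr, map_one]
    · rw [Matrix.scalar_apply, ← Matrix.smul_one_eq_diagonal]
      exact h1.symm
  · rintro ⟨r, hr, h⟩
    refine ⟨ι r, by rw [← map_pow, hr, map_one], ?_⟩
    rw [hcoe, ← h]
    ext i j
    rw [RingHom.mapMatrix_apply, Matrix.map_apply, Matrix.scalar_apply, Matrix.scalar_apply,
      Matrix.diagonal_apply, Matrix.diagonal_apply]
    by_cases hij : i = j <;> simp [hij]

/-- pairs `(A, s)` with `s² = ι (det A)` -/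
def E (ι : K →+* F) : Subgroup (GL (Fin 2) K × Fˣ) where
  carrier := {x | ((x.2 : Fˣ) : F) ^ 2 = ι ((x.1 : GL (Fin 2) K) : Matrix (Fin 2) (Fin 2) K).det}
  mul_mem' := by
    intro x y hx hy
    simp only [Set.mem_setOf_eq, Prod.fst_mul, Prod.snd_mul, Units.val_mul, Matrix.det_mul,
      map_mul, mul_pow] at *
    rw [hx, hy]
  one_mem' := by simp
  inv_mem' := by
    intro x hx
    simp only [Set.mem_setOf_eq, Prod.fst_inv, Prod.snd_inv] at *
    rw [Matrix.coe_units_inv, Matrix.det_nonsing_inv, Units.val_inv_eq_inv_val, inv_pow, hx,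
      Ring.inverse_eq_inv', map_inv₀]

theorem mem_E (ι : K →+* F) (x : GL (Fin 2) K × Fˣ) :
    x ∈ E ι ↔ ((x.2 : Fˣ) : F) ^ 2 = ι ((x.1 : GL (Fin 2) K) : Matrix (Fin 2) (Fin 2) K).det :=
  Iff.rfl

/-- the matrix `s⁻¹ • ι(A)` -/
def thmat (ι : K →+* F) (x : GL (Fin 2) K × Fˣ) : Matrix (Fin 2) (Fin 2) F :=
  ((x.2 : Fˣ) : F)⁻¹ • ι.mapMatrix ((x.1 : GL (Fin 2) K) : Matrix (Fin 2) (Fin 2) K)

theorem thmat_det (ι : K →+* F) (x : GL (Fin 2) K × Fˣ) (hx : x ∈ E ι) : (thmat ι x).det = 1 := by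
  rw [thmat, Matrix.det_smul, ← RingHom.map_det, ← (mem_E ι x).mp hx]
  simp only [Fintype.card_fin]
  have : ((x.2 : Fˣ) : F) ≠ 0 := x.2.ne_zero
  field_simp

theorem thmat_mul (ι : K →+* F) (x y : GL (Fin 2) K × Fˣ) :
    thmat ι (x * y) = thmat ι x * thmat ι y := by
  simp only [thmat, Prod.fst_mul, Prod.snd_mul, Units.val_mul, map_mul, Matrix.smul_mul,
    Matrix.mul_smul, smul_smul, mul_inv]
  rw [mul_comm]

theorem thmat_one (ι : K →+* F) : thmat ι 1 = 1 := by
  simp [thmat]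

/-- `(A, s) ↦ s⁻¹ • ι(A)` as a hom into `SL₂(F)` -/
def theta (ι : K →+* F) : E ι →* Matrix.SpecialLinearGroup (Fin 2) F where
  toFun x := ⟨thmat ι (x : GL (Fin 2) K × Fˣ), thmat_det ι _ x.2⟩
  map_one' := Subtype.ext (thmat_one ι)
  map_mul' x y := Subtype.ext (thmat_mul ι _ _)

theorem theta_val (ι : K →+* F) (x : E ι) :
    ((theta ι x : Matrix.SpecialLinearGroup (Fin 2) F) : Matrix (Fin 2) (Fin 2) F)
      = thmat ι (x : GL (Fin 2) K × Fˣ) := rfl

theorem exists_ringHom [Fintype F] [Fintype K] (m : ℕ) (hK : Fintype.card K ^ m = Fintype.card F) :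
    Nonempty (K →+* F) := by
  obtain ⟨p, hcK, n, hp, hn⟩ := FiniteField.card' K
  haveI : Fact p.Prime := ⟨hp⟩
  have hKc : Fintype.card K = p ^ (n : ℕ) := hn
  have hFc : Fintype.card F = p ^ ((n : ℕ) * m) := by rw [← hK, hKc, pow_mul]
  haveI : CharP F p := Cfsg.Agent.Lib.Helper46.NatSL2.charP_of_card hFc
  letI : Algebra (ZMod p) K := ZMod.algebra _ p
  letI : Algebra (ZMod p) F := ZMod.algebra _ p
  have h1 : Module.finrank (ZMod p) K = n := by
    have := Module.card_eq_pow_finrank (K := ZMod p) (V := K)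
    rw [ZMod.card, hKc] at this
    exact (Nat.pow_right_injective hp.two_le this).symm
  have h2 : Module.finrank (ZMod p) F = n * m := by
    have := Module.card_eq_pow_finrank (K := ZMod p) (V := F)
    rw [ZMod.card, hFc] at this
    exact (Nat.pow_right_injective hp.two_le this).symm
  have hdvd : Module.finrank (ZMod p) K ∣ Module.finrank (ZMod p) F := by
    rw [h1, h2]; exact Dvd.intro _ rfl
  obtain ⟨f⟩ := FiniteField.nonempty_algHom_of_finrank_dvd hdvd
  exact ⟨f.toRingHom⟩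

theorem part1 (ι : K →+* F) :
    ∃ H : Subgroup (Matrix.ProjectiveSpecialLinearGroup (Fin 2) F),
      Nonempty (H ≃* Matrix.ProjectiveSpecialLinearGroup (Fin 2) K) := by
  let ψ := (QuotientGroup.mk' (Subgroup.center (Matrix.SpecialLinearGroup (Fin 2) F))).comp
      (Matrix.SpecialLinearGroup.map ι)
  refine ⟨ψ.range, ⟨?_⟩⟩
  exact (QuotientGroup.quotientKerEquivRange ψ).symm.trans
    (QuotientGroup.quotientMulEquivOfEq (ker_psl ι))

theorem arith_even (k m : ℕ) (hk : Odd k) (hm : Even m) : ∃ c, k ^ m / 2 = (k - 1) * c := by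
  obtain ⟨m', rfl⟩ := hm
  have ht : Odd (k ^ m') := hk.pow
  obtain ⟨u, hu⟩ := ht
  obtain ⟨d, hd⟩ : k - 1 ∣ k ^ m' - 1 := by
    exact Nat.sub_one_dvd_pow_sub_one k m'
  have hd' : 2 * u = (k - 1) * d := by omega
  refine ⟨d * (u + 1), ?_⟩
  rw [pow_add, hu]
  have : (2 * u + 1) * (2 * u + 1) = 2 * ((2 * u) * (u + 1)) + 1 := by ring
  rw [this, hd']
  have h2 : (2 * ((k - 1) * d * (u + 1)) + 1) / 2 = (k - 1) * d * (u + 1) := by omega
  rw [h2, mul_assoc]

theorem exists_sqrt [Fintype F] [Fintype K] (ι : K →+* F) (m : ℕ)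
    (hK : Fintype.card K ^ m = Fintype.card F) (hodd : Odd (Fintype.card F)) (hm : Even m)
    (d : K) (hd : d ≠ 0) : ∃ s : Fˣ, ((s : Fˣ) : F) ^ 2 = ι d := by
  have hkodd : Odd (Fintype.card K) := by
    rcases Nat.even_or_odd (Fintype.card K) with h | h
    · exfalso
      have : Even (Fintype.card K ^ m) := Nat.even_pow.mpr ⟨h, by
        rintro rfl
        rw [pow_zero] at hK
        have := Fintype.one_lt_card (α := F)
        omega⟩
      rw [hK] at this
      exact (Nat.not_even_iff_odd.mpr hodd) this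
    · exact h
  obtain ⟨c, hc⟩ := arith_even _ m hkodd hm
  have hchar : ringChar F ≠ 2 := by
    intro h2
    have := FiniteField.even_card_of_char_two h2
    rcases hodd with ⟨u, hu⟩
    omega
  have hne : ι d ≠ 0 := by
    rw [Ne, map_eq_zero]; exact hd
  have hsq : IsSquare (ι d) := by
    rw [FiniteField.isSquare_iff hchar hne, ← hK, hc, pow_mul, ← map_pow,
      FiniteField.pow_card_sub_one_eq_one d hd, map_one, one_pow]
  obtain ⟨s, hs⟩ := hsq
  have hs0 : s ≠ 0 := by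
    rintro rfl
    rw [mul_zero] at hs
    exact hne hs
  exact ⟨Units.mk0 s hs0, by rw [Units.val_mk0, hs, sq]⟩

/-- projection `E → GL₂(K)` -/
def pi1 (ι : K →+* F) : E ι →* GL (Fin 2) K := (MonoidHom.fst _ _).comp (E ι).subtype

theorem pi1_surj [Fintype F] [Fintype K] (ι : K →+* F) (m : ℕ)
    (hK : Fintype.card K ^ m = Fintype.card F) (hodd : Odd (Fintype.card F)) (hm : Even m) :
    Function.Surjective (pi1 ι) := by
  intro A
  have hdet : ((A : GL (Fin 2) K) : Matrix (Fin 2) (Fin 2) K).det ≠ 0 :=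
    (Matrix.GeneralLinearGroup.det A).ne_zero
  obtain ⟨s, hs⟩ := exists_sqrt ι m hK hodd hm _ hdet
  exact ⟨⟨(A, s), hs⟩, rfl⟩

/-- `E → PSL₂(F)` -/
def thbar (ι : K →+* F) : E ι →* Matrix.ProjectiveSpecialLinearGroup (Fin 2) F :=
  (QuotientGroup.mk' (Subgroup.center _)).comp (theta ι)

theorem thbar_eq_one_iff (ι : K →+* F) (x : E ι) :
    thbar ι x = 1 ↔ ∃ c : K, (((x : GL (Fin 2) K × Fˣ).1 : GL (Fin 2) K) :
      Matrix (Fin 2) (Fin 2) K) = c • (1 : Matrix (Fin 2) (Fin 2) K) := by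
  rw [thbar, MonoidHom.comp_apply, QuotientGroup.mk'_apply, QuotientGroup.eq_one_iff,
    Matrix.SpecialLinearGroup.mem_center_iff]
  have hs0 : (((x : GL (Fin 2) K × Fˣ).2 : Fˣ) : F) ≠ 0 := Units.ne_zero _
  constructor
  · rintro ⟨r, hr, h⟩
    rw [theta_val, Matrix.scalar_apply, ← Matrix.smul_one_eq_diagonal, thmat] at h
    have h' : ι.mapMatrix (((x : GL (Fin 2) K × Fˣ).1 : GL (Fin 2) K) :
        Matrix (Fin 2) (Fin 2) K) = ((((x : GL (Fin 2) K × Fˣ).2 : Fˣ) : F) * r) •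
          (1 : Matrix (Fin 2) (Fin 2) F) := by
      rw [mul_smul, h, smul_smul, mul_inv_cancel₀ hs0, one_smul]
    exact ⟨_, (mapMatrix_eq_scalar_imp ι _ _ h').1⟩
  · rintro ⟨c, hc⟩
    have hx := (mem_E ι _).mp x.2
    rw [hc] at hx
    simp only [Matrix.det_smul, Fintype.card_fin, Matrix.det_one, mul_one, map_pow] at hx
    refine ⟨(((x : GL (Fin 2) K × Fˣ).2 : Fˣ) : F)⁻¹ * ι c, ?_, ?_⟩
    · rw [Fintype.card_fin, mul_pow, inv_pow, hx]
      have hc0 : ι c ≠ 0 := by
        intro h0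
        rw [h0] at hx
        simp at hx
      field_simp
    · rw [theta_val, Matrix.scalar_apply, ← Matrix.smul_one_eq_diagonal, thmat, hc, mul_smul]
      congr 1
      ext i j
      rw [RingHom.mapMatrix_apply, Matrix.map_apply, Matrix.smul_apply, Matrix.smul_apply,
        Matrix.one_apply, Matrix.one_apply]
      by_cases hij : i = j <;> simp [hij]

theorem ker_pi1_le (ι : K →+* F) : (pi1 ι).ker ≤ (thbar ι).ker := by
  intro x hx
  rw [MonoidHom.mem_ker] at hx ⊢
  rw [thbar_eq_one_iff]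
  refine ⟨1, ?_⟩
  have : (x : GL (Fin 2) K × Fˣ).1 = 1 := hx
  rw [this]
  simp

theorem part2_mpr [Fintype F] [Fintype K] (ι : K →+* F) (m : ℕ)
    (hK : Fintype.card K ^ m = Fintype.card F) (hodd : Odd (Fintype.card F)) (hm : Even m) :
    ∃ H : Subgroup (Matrix.ProjectiveSpecialLinearGroup (Fin 2) F),
      Nonempty (H ≃* Matrix.ProjGenLinGroup (Fin 2) K) := by
  have hsurj := pi1_surj ι m hK hodd hm
  let χ : GL (Fin 2) K →* Matrix.ProjectiveSpecialLinearGroup (Fin 2) F :=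
    (pi1 ι).liftOfSurjective hsurj ⟨thbar ι, ker_pi1_le ι⟩
  have hχ : ∀ x : E ι, χ (pi1 ι x) = thbar ι x := fun x =>
    MonoidHom.liftOfRightInverse_comp_apply _ _ _ ⟨thbar ι, ker_pi1_le ι⟩ x
  have hker : χ.ker = Subgroup.center (GL (Fin 2) K) := by
    ext A
    obtain ⟨x, rfl⟩ := hsurj A
    rw [MonoidHom.mem_ker, hχ, thbar_eq_one_iff,
      Matrix.GeneralLinearGroup.mem_center_iff_val_mem_range_scalar]
    constructor
    · rintro ⟨c, hc⟩
      refine ⟨c, ?_⟩
      rw [Matrix.scalar_apply, ← Matrix.smul_one_eq_diagonal]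
      exact hc.symm
    · rintro ⟨c, hc⟩
      refine ⟨c, ?_⟩
      rw [Matrix.scalar_apply, ← Matrix.smul_one_eq_diagonal] at hc
      exact hc.symm
  refine ⟨χ.range, ⟨?_⟩⟩
  exact (QuotientGroup.quotientKerEquivRange χ).symm.trans
    (QuotientGroup.quotientMulEquivOfEq hker)

theorem geom_parity (y : ℕ) (hy : y % 2 = 1) (m : ℕ) :
    (∑ i ∈ Finset.range m, y ^ i) % 2 = m % 2 := by
  induction m with
  | zero => simp
  | succ m ih =>
    rw [Finset.sum_range_succ, Nat.add_mod, ih, Nat.pow_mod, hy, one_pow]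
    omega

theorem arith_odd (k m N : ℕ) (hk : Odd k) (hk2 : 2 ≤ k) (hm : Odd m)
    (h : N * 2 = k ^ m * ((k ^ m) ^ 2 - 1)) (hd : k * (k ^ 2 - 1) ∣ N) : False := by
  obtain ⟨a, rfl⟩ := hd
  obtain ⟨y, hy⟩ : ∃ y, k ^ 2 = y + 1 := ⟨k ^ 2 - 1, by
    have : 0 < k ^ 2 := by positivity
    omega⟩
  have hy0 : 0 < y := by nlinarith
  have hg := geom_sum_mul_add y m
  rw [← hy, ← pow_mul, mul_comm 2 m, pow_mul] at hg
  rw [← hg, hy, Nat.add_sub_cancel, Nat.add_sub_cancel] at h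
  have h' : k * a * 2 = k ^ m * ∑ i ∈ Finset.range m, (y + 1) ^ i := by
    apply Nat.eq_of_mul_eq_mul_right hy0
    calc k * a * 2 * y = k * y * a * 2 := by ring
      _ = k ^ m * ((∑ i ∈ Finset.range m, (y + 1) ^ i) * y) := h
      _ = _ := by ring
  have hk1 : k % 2 = 1 := Nat.odd_iff.mp hk
  have hy1 : (y + 1) % 2 = 1 := by
    rw [← hy, Nat.pow_mod, hk1]
  have hc := geom_parity (y + 1) hy1 m
  rw [Nat.odd_iff.mp hm] at hc
  have h2 : (k ^ m * ∑ i ∈ Finset.range m, (y + 1) ^ i) % 2 = 1 := by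
    rw [Nat.mul_mod, hc, Nat.pow_mod, hk1]; simp
  omega

theorem part2_mp [Fintype F] [Fintype K] (m : ℕ)
    (hK : Fintype.card K ^ m = Fintype.card F) (hodd : Odd (Fintype.card F))
    (H : Subgroup (Matrix.ProjectiveSpecialLinearGroup (Fin 2) F))
    (e : H ≃* Matrix.ProjGenLinGroup (Fin 2) K) : Even m := by
  by_contra hm
  rw [Nat.not_even_iff_odd] at hm
  have h1 : Nat.card H = Fintype.card K * (Fintype.card K ^ 2 - 1) := by
    rw [Nat.card_congr e.toEquiv, Cfsg.Agent.S0265.result, Cfsg.Agent.Lib.Helper38.SLCard.card_SL2]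
  have h2 := Cfsg.Agent.Lib.Helper5.SL2Card.card_PSL_two (F := F) rfl
  have h3 : Nat.card H ∣ Nat.card (Matrix.ProjectiveSpecialLinearGroup (Fin 2) F) :=
    Subgroup.card_subgroup_dvd_card H
  have hkodd : Odd (Fintype.card K) := by
    rcases Nat.even_or_odd (Fintype.card K) with h | h
    · exfalso
      have : Even (Fintype.card K ^ m) := Nat.even_pow.mpr ⟨h, by
        rintro rfl
        exact (Nat.not_odd_iff_even.mpr (by decide)) hm⟩
      rw [hK] at this
      exact (Nat.not_even_iff_odd.mpr hodd) this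
    · exact h
  have hgcd : Nat.gcd 2 (Fintype.card F - 1) = 2 := by
    apply Nat.gcd_eq_left
    obtain ⟨u, hu⟩ := hodd
    rw [hu]
    exact ⟨u, by omega⟩
  rw [hgcd, ← hK] at h2
  rw [h1] at h3
  exact arith_odd _ m _ hkodd Fintype.one_lt_card hm h2 h3

end Helpers


/-- Subfield subgroups: let F be a finite field of odd order q and K a finite field with |K|^m = q, m ≥ 1. Then PSL_2(F) has a subgroup isomorphic to PSL_2(K), and has a subgroup isomorphic to PGL_2(K) if and only if m is even. -/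
theorem result {F K : Type*} [Field F] [Fintype F] [Field K] [Fintype K] {q : ℕ} (hF : Fintype.card F = q) (hodd : Odd q) (m : ℕ) (hm : 1 ≤ m) (hK : Fintype.card K ^ m = q) : (∃ H : Subgroup (Matrix.ProjectiveSpecialLinearGroup (Fin 2) F), Nonempty (H ≃* Matrix.ProjectiveSpecialLinearGroup (Fin 2) K)) ∧ ((∃ H : Subgroup (Matrix.ProjectiveSpecialLinearGroup (Fin 2) F), Nonempty (H ≃* Matrix.ProjGenLinGroup (Fin 2) K)) ↔ Even m) := by
  subst hF
  obtain ⟨ι⟩ := exists_ringHom m hK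
  refine ⟨part1 ι, ?_, fun hm => part2_mpr ι m hK hodd hm⟩
  rintro ⟨H, ⟨e⟩⟩
  exact part2_mp m hK hodd H e

end Cfsg.Agent.S0805
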