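import Cfsg.Statements.S3639
import Cfsg.Agent.Lib.Helper61.PrimeGraph

set_option autoImplicit false
open Cfsg

namespace Cfsg.Agent.S3639

open Cfsg.Agent.Lib.Helper61.PrimeGraph
open scoped Matrix

/-- The matrix of the form `altForm4`. -/
def J4 (R : Type*) [CommRing R] : Matrix (Fin 4) (Fin 4) R :=
  !![0, 0, 0, 1; 0, 0, 1, 0; 0, 1, 0, 0; 1, 0, 0, 0]

theorem J4_mul_J4 (R : Type*) [CommRing R] : J4 R * J4 R = 1 := by
  ext i j
  fin_cases i <;> fin_cases j <;> simp [J4, Matrix.mul_apply, Fin.sum_univ_four]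

theorem J4_transpose (R : Type*) [CommRing R] : (J4 R)ᵀ = J4 R := by
  ext i j
  fin_cases i <;> fin_cases j <;> simp [J4]

theorem AJAt_apply {R : Type*} [CommRing R] (A : Matrix (Fin 4) (Fin 4) R) (k l : Fin 4) :
    (A * J4 R * Aᵀ) k l = A k 0 * A l 3 + A k 1 * A l 2 + A k 2 * A l 1 + A k 3 * A l 0 := by
  simp [Matrix.mul_apply, Fin.sum_univ_four, J4]
  ring

theorem AtJA_apply {R : Type*} [CommRing R] (A : Matrix (Fin 4) (Fin 4) R) (i j : Fin 4) :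
    (Aᵀ * J4 R * A) i j = A 0 i * A 3 j + A 1 i * A 2 j + A 2 i * A 1 j + A 3 i * A 0 j := by
  simp [Matrix.mul_apply, Fin.sum_univ_four, J4]
  ring

/-- Preserving the form gives the matrix relation. -/
theorem form_rel {R : Type*} [CommRing R] (A : Matrix (Fin 4) (Fin 4) R)
    (h : ∀ u v, Cfsg.Lie.altForm4 (A *ᵥ u) (A *ᵥ v) = Cfsg.Lie.altForm4 u v) :
    Aᵀ * J4 R * A = J4 R := by
  ext i j
  rw [AtJA_apply]
  have h1 := h (Pi.single i 1) (Pi.single j 1)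
  simp only [Cfsg.Lie.altForm4, Matrix.mulVec_single_one, Matrix.col_apply] at h1
  rw [h1]
  fin_cases i <;> fin_cases j <;> simp [J4]

/-- The inverse of a form-preserving matrix. -/
theorem inv_rel {R : Type*} [CommRing R] (A : Matrix (Fin 4) (Fin 4) R)
    (hA : Aᵀ * J4 R * A = J4 R) : A * (J4 R * Aᵀ * J4 R) = 1 := by
  have h1 : (J4 R * Aᵀ * J4 R) * A = 1 := by
    rw [Matrix.mul_assoc, Matrix.mul_assoc, ← Matrix.mul_assoc Aᵀ, hA, J4_mul_J4]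
  exact mul_eq_one_comm.1 h1

/-- The dual relation. -/
theorem dual_rel {R : Type*} [CommRing R] (A : Matrix (Fin 4) (Fin 4) R)
    (hA : Aᵀ * J4 R * A = J4 R) : A * J4 R * Aᵀ = J4 R := by
  have h1 := inv_rel A hA
  have h2 : A * J4 R * Aᵀ * J4 R * J4 R = J4 R := by
    have : A * J4 R * Aᵀ * J4 R = 1 := by
      rw [← h1]; simp only [Matrix.mul_assoc]
    rw [this, Matrix.one_mul]
  rwa [Matrix.mul_assoc, J4_mul_J4, Matrix.mul_one] at h2

theorem det_eq_one {F : Type*} [Field F] (h2 : (2 : F) = 0) (A : Matrix (Fin 4) (Fin 4) F)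
    (hA : Aᵀ * J4 F * A = J4 F) : A.det = 1 := by
  have h1 := congrArg Matrix.det hA
  rw [Matrix.det_mul, Matrix.det_mul, Matrix.det_transpose] at h1
  have hJ : (J4 F).det * (J4 F).det = 1 := by
    rw [← Matrix.det_mul, J4_mul_J4, Matrix.det_one]
  have hJ0 : (J4 F).det ≠ 0 := by
    intro h
    rw [h] at hJ
    simp at hJ
  have h3 : (A.det - 1) ^ 2 * (J4 F).det = 0 := by
    linear_combination h1 + (1 - A.det) * (J4 F).det * h2
  have h4 : (A.det - 1) ^ 2 = 0 := by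
    rcases mul_eq_zero.1 h3 with h | h
    · exact h
    · exact absurd h hJ0
  have h5 : A.det - 1 = 0 := by simpa using h4
  linear_combination h5

theorem trace_adjugate {F : Type*} [Field F] (h2 : (2 : F) = 0) (A : Matrix (Fin 4) (Fin 4) F)
    (hA : Aᵀ * J4 F * A = J4 F) : A.adjugate.trace = A.trace := by
  have h1 := inv_rel A hA
  have h3 : A.adjugate = J4 F * Aᵀ * J4 F := by
    have h4 : A.adjugate * A = 1 := by
      rw [Matrix.adjugate_mul, det_eq_one h2 A hA, one_smul]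
    calc A.adjugate = A.adjugate * (A * (J4 F * Aᵀ * J4 F)) := by rw [h1, Matrix.mul_one]
      _ = (A.adjugate * A) * (J4 F * Aᵀ * J4 F) := (Matrix.mul_assoc _ _ _).symm
      _ = J4 F * Aᵀ * J4 F := by rw [h4, Matrix.one_mul]
  rw [h3, Matrix.trace_mul_comm, ← Matrix.mul_assoc, J4_mul_J4, Matrix.one_mul, Matrix.trace_transpose]

theorem star4_apply {R : Type*} [CommRing R] (A : Matrix (Fin 4) (Fin 4) R) (p r : Fin 4) :
    Cfsg.Lie.star4 A p r =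
      A (Cfsg.Lie.pairOf p).1 (Cfsg.Lie.pairOf r).1 * A (Cfsg.Lie.pairOf p).2 (Cfsg.Lie.pairOf r).2
      - A (Cfsg.Lie.pairOf p).2 (Cfsg.Lie.pairOf r).1 * A (Cfsg.Lie.pairOf p).1 (Cfsg.Lie.pairOf r).2 := rfl

theorem cb2 {R : Type*} [CommRing R] (h2 : (2 : R) = 0) (A B : Matrix (Fin 4) (Fin 4) R)
    (k l i j : Fin 4)
    (hX : A k 0 * A l 3 + A k 1 * A l 2 + A k 2 * A l 1 + A k 3 * A l 0 = 0)
    (hY : B 0 i * B 3 j + B 1 i * B 2 j + B 2 i * B 1 j + B 3 i * B 0 j = 0) :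
    (A * B) k i * (A * B) l j - (A * B) l i * (A * B) k j =
      (A k 0 * A l 1 - A l 0 * A k 1) * (B 0 i * B 1 j - B 1 i * B 0 j)
      + (A k 0 * A l 2 - A l 0 * A k 2) * (B 0 i * B 2 j - B 2 i * B 0 j)
      + (A k 1 * A l 3 - A l 1 * A k 3) * (B 1 i * B 3 j - B 3 i * B 1 j)
      + (A k 2 * A l 3 - A l 2 * A k 3) * (B 2 i * B 3 j - B 3 i * B 2 j) := by
  simp only [Matrix.mul_apply, Fin.sum_univ_four]
  linear_combination (B 0 i * B 3 j - B 3 i * B 0 j) * hX + (A k 1 * A l 2 - A l 1 * A k 2) * hY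
    - ((A l 0 * A k 3 + A l 1 * A k 2 + (A k 1 * A l 2 - A l 1 * A k 2)) * (B 0 i * B 3 j - B 3 i * B 0 j)
      + (A k 1 * A l 2 - A l 1 * A k 2) * (B 3 i * B 0 j + B 2 i * B 1 j)) * h2

theorem J4_pair {R : Type*} [CommRing R] (p : Fin 4) :
    J4 R (Cfsg.Lie.pairOf p).1 (Cfsg.Lie.pairOf p).2 = 0 := by
  fin_cases p <;> simp [J4, Cfsg.Lie.pairOf]

theorem star4_mul {R : Type*} [CommRing R] (h2 : (2 : R) = 0) (A B : Matrix (Fin 4) (Fin 4) R)
    (hA : A * J4 R * Aᵀ = J4 R) (hB : Bᵀ * J4 R * B = J4 R) :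
    Cfsg.Lie.star4 (A * B) = Cfsg.Lie.star4 A * Cfsg.Lie.star4 B := by
  ext p r
  rw [Matrix.mul_apply, Fin.sum_univ_four]
  have hX : A (Cfsg.Lie.pairOf p).1 0 * A (Cfsg.Lie.pairOf p).2 3 + A (Cfsg.Lie.pairOf p).1 1 * A (Cfsg.Lie.pairOf p).2 2
      + A (Cfsg.Lie.pairOf p).1 2 * A (Cfsg.Lie.pairOf p).2 1 + A (Cfsg.Lie.pairOf p).1 3 * A (Cfsg.Lie.pairOf p).2 0 = 0 := by
    rw [← AJAt_apply, hA, J4_pair]
  have hY : B 0 (Cfsg.Lie.pairOf r).1 * B 3 (Cfsg.Lie.pairOf r).2 + B 1 (Cfsg.Lie.pairOf r).1 * B 2 (Cfsg.Lie.pairOf r).2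
      + B 2 (Cfsg.Lie.pairOf r).1 * B 1 (Cfsg.Lie.pairOf r).2 + B 3 (Cfsg.Lie.pairOf r).1 * B 0 (Cfsg.Lie.pairOf r).2 = 0 := by
    rw [← AtJA_apply, hB, J4_pair]
  exact cb2 h2 A B _ _ _ _ hX hY

theorem star4_one {R : Type*} [CommRing R] : Cfsg.Lie.star4 (1 : Matrix (Fin 4) (Fin 4) R) = 1 := by
  ext p r
  rw [star4_apply]
  simp only [Matrix.one_apply]
  fin_cases p <;> fin_cases r <;> simp [Cfsg.Lie.pairOf]

/-- The defining property of the Suzuki group. -/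
def SzP {F : Type*} [Field F] (e : ℕ) (g : GL (Fin 4) F) : Prop :=
  g ∈ Cfsg.Lie.Sp4 F ∧
    Cfsg.Lie.star4 (g : Matrix (Fin 4) (Fin 4) F) = (g : Matrix (Fin 4) (Fin 4) F).map (fun x => x ^ e)

theorem mem_Sp4_rel {F : Type*} [Field F] (g : GL (Fin 4) F) (hg : g ∈ Cfsg.Lie.Sp4 F) :
    (g : Matrix (Fin 4) (Fin 4) F)ᵀ * J4 F * (g : Matrix (Fin 4) (Fin 4) F) = J4 F :=
  form_rel _ hg

theorem szP_all {F : Type*} [Field F] (h2 : (2 : F) = 0) (e : ℕ) (θ : F →+* F)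
    (hθ : ∀ x, θ x = x ^ e) : ∀ g ∈ Cfsg.Lie.Sz F e, SzP e g := by
  have hfun : (fun x : F => x ^ e) = ⇑θ := funext fun x => (hθ x).symm
  intro g hg
  unfold Cfsg.Lie.Sz at hg
  refine Subgroup.closure_induction (p := fun g _ => SzP e g) ?_ ?_ ?_ ?_ hg
  · intro x hx
    exact hx
  · refine ⟨one_mem _, ?_⟩
    rw [hfun, Units.val_one, star4_one, Matrix.map_one _ θ.map_zero θ.map_one]
  · intro x y _ _ hx hy
    refine ⟨mul_mem hx.1 hy.1, ?_⟩
    have h1 := hx.2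
    have h3 := hy.2
    rw [hfun] at h1 h3 ⊢
    rw [Units.val_mul, star4_mul h2 _ _ (dual_rel _ (mem_Sp4_rel x hx.1)) (mem_Sp4_rel y hy.1),
      h1, h3, Matrix.map_mul]
  · intro x _ hx
    refine ⟨inv_mem hx.1, ?_⟩
    have h1 := hx.2
    rw [hfun] at h1 ⊢
    have hBA : ((x⁻¹ : GL (Fin 4) F) : Matrix (Fin 4) (Fin 4) F) * (x : Matrix (Fin 4) (Fin 4) F) = 1 := by
      rw [← Units.val_mul, inv_mul_cancel, Units.val_one]
    have h4 : Cfsg.Lie.star4 ((x⁻¹ : GL (Fin 4) F) : Matrix (Fin 4) (Fin 4) F)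
        * Cfsg.Lie.star4 (x : Matrix (Fin 4) (Fin 4) F) = 1 := by
      rw [← star4_mul h2 _ _ (dual_rel _ (mem_Sp4_rel x⁻¹ (inv_mem hx.1))) (mem_Sp4_rel x hx.1),
        hBA, star4_one]
    have h5 : ((x⁻¹ : GL (Fin 4) F) : Matrix (Fin 4) (Fin 4) F).map θ
        * (x : Matrix (Fin 4) (Fin 4) F).map θ = 1 := by
      rw [← Matrix.map_mul, hBA, Matrix.map_one _ θ.map_zero θ.map_one]
    rw [h1] at h4
    have h6 := mul_eq_one_comm.1 h4
    calc Cfsg.Lie.star4 ((x⁻¹ : GL (Fin 4) F) : Matrix (Fin 4) (Fin 4) F)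
        = (((x⁻¹ : GL (Fin 4) F) : Matrix (Fin 4) (Fin 4) F).map θ * (x : Matrix (Fin 4) (Fin 4) F).map θ)
          * Cfsg.Lie.star4 ((x⁻¹ : GL (Fin 4) F) : Matrix (Fin 4) (Fin 4) F) := by rw [h5, Matrix.one_mul]
      _ = ((x⁻¹ : GL (Fin 4) F) : Matrix (Fin 4) (Fin 4) F).map θ := by
          rw [Matrix.mul_assoc, h6, Matrix.mul_one]

/-- Second coefficient of the characteristic polynomial of a `4 × 4` matrix. -/
def c2 {R : Type*} [CommRing R] (A : Matrix (Fin 4) (Fin 4) R) : R :=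
  (A 0 0 * A 1 1 - A 0 1 * A 1 0) + (A 0 0 * A 2 2 - A 0 2 * A 2 0) + (A 0 0 * A 3 3 - A 0 3 * A 3 0)
  + (A 1 1 * A 2 2 - A 1 2 * A 2 1) + (A 1 1 * A 3 3 - A 1 3 * A 3 1) + (A 2 2 * A 3 3 - A 2 3 * A 3 2)

theorem det4 {R : Type*} [CommRing R] (A : Matrix (Fin 4) (Fin 4) R) :
    A.det = A 0 0 * (A 1 1 * A 2 2 * A 3 3 - A 1 1 * A 2 3 * A 3 2 - A 1 2 * A 2 1 * A 3 3 + A 1 2 * A 2 3 * A 3 1 + A 1 3 * A 2 1 * A 3 2 - A 1 3 * A 2 2 * A 3 1)
      - A 0 1 * (A 1 0 * A 2 2 * A 3 3 - A 1 0 * A 2 3 * A 3 2 - A 1 2 * A 2 0 * A 3 3 + A 1 2 * A 2 3 * A 3 0 + A 1 3 * A 2 0 * A 3 2 - A 1 3 * A 2 2 * A 3 0)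
      + A 0 2 * (A 1 0 * A 2 1 * A 3 3 - A 1 0 * A 2 3 * A 3 1 - A 1 1 * A 2 0 * A 3 3 + A 1 1 * A 2 3 * A 3 0 + A 1 3 * A 2 0 * A 3 1 - A 1 3 * A 2 1 * A 3 0)
      - A 0 3 * (A 1 0 * A 2 1 * A 3 2 - A 1 0 * A 2 2 * A 3 1 - A 1 1 * A 2 0 * A 3 2 + A 1 1 * A 2 2 * A 3 0 + A 1 2 * A 2 0 * A 3 1 - A 1 2 * A 2 1 * A 3 0) := by
  rw [Matrix.det_succ_row_zero]
  simp [Fin.sum_univ_succ, Matrix.det_fin_three, Fin.succAbove]
  ring

theorem adj00 {R : Type*} [CommRing R] (A : Matrix (Fin 4) (Fin 4) R) :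
    A.adjugate 0 0 = A 1 1 * A 2 2 * A 3 3 - A 1 1 * A 2 3 * A 3 2 - A 1 2 * A 2 1 * A 3 3 + A 1 2 * A 2 3 * A 3 1 + A 1 3 * A 2 1 * A 3 2 - A 1 3 * A 2 2 * A 3 1 := by
  rw [Matrix.adjugate_fin_succ_eq_det_submatrix]
  simp [Matrix.det_fin_three]

theorem adj11 {R : Type*} [CommRing R] (A : Matrix (Fin 4) (Fin 4) R) :
    A.adjugate 1 1 = A 0 0 * A 2 2 * A 3 3 - A 0 0 * A 2 3 * A 3 2 - A 0 2 * A 2 0 * A 3 3 + A 0 2 * A 2 3 * A 3 0 + A 0 3 * A 2 0 * A 3 2 - A 0 3 * A 2 2 * A 3 0 := by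
  rw [Matrix.adjugate_fin_succ_eq_det_submatrix]
  simp [Matrix.det_fin_three, Fin.succAbove]

theorem adj22 {R : Type*} [CommRing R] (A : Matrix (Fin 4) (Fin 4) R) :
    A.adjugate 2 2 = A 0 0 * A 1 1 * A 3 3 - A 0 0 * A 1 3 * A 3 1 - A 0 1 * A 1 0 * A 3 3 + A 0 1 * A 1 3 * A 3 0 + A 0 3 * A 1 0 * A 3 1 - A 0 3 * A 1 1 * A 3 0 := by
  rw [Matrix.adjugate_fin_succ_eq_det_submatrix]
  simp [Matrix.det_fin_three, Fin.succAbove]
  ring

theorem adj33 {R : Type*} [CommRing R] (A : Matrix (Fin 4) (Fin 4) R) :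
    A.adjugate 3 3 = A 0 0 * A 1 1 * A 2 2 - A 0 0 * A 1 2 * A 2 1 - A 0 1 * A 1 0 * A 2 2 + A 0 1 * A 1 2 * A 2 0 + A 0 2 * A 1 0 * A 2 1 - A 0 2 * A 1 1 * A 2 0 := by
  rw [Matrix.adjugate_fin_succ_eq_det_submatrix]
  simp [Matrix.det_fin_three, Fin.succAbove]
  ring

/-- Cayley-Hamilton for `4 × 4` matrices, with explicit coefficients. -/
theorem ch4 {R : Type*} [CommRing R] (A : Matrix (Fin 4) (Fin 4) R) :
    A ^ 4 - A.trace • A ^ 3 + c2 A • A ^ 2 - A.adjugate.trace • A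
      + A.det • (1 : Matrix (Fin 4) (Fin 4) R) = 0 := by
  ext i j
  simp only [Matrix.trace, Matrix.diag, Fin.sum_univ_four, adj00, adj11, adj22, adj33, det4, c2,
    pow_succ, pow_zero, one_mul, Matrix.add_apply, Matrix.sub_apply, Matrix.smul_apply,
    Matrix.mul_apply, smul_eq_mul, Matrix.zero_apply]
  fin_cases i <;> fin_cases j <;> simp <;> ring

theorem pow_mulVec_fixed {R : Type*} [CommRing R] (A : Matrix (Fin 4) (Fin 4) R) (v : Fin 4 → R)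
    (hAv : A *ᵥ v = v) (n : ℕ) : (A ^ n) *ᵥ v = v := by
  induction n with
  | zero => simp
  | succ n ih => rw [pow_succ, ← Matrix.mulVec_mulVec, hAv, ih]

/-- A form-preserving matrix with the Suzuki trace relation and a nonzero fixed vector
has order dividing 4 (characteristic 2). -/
theorem pow_four_eq_one {F : Type*} [Field F] (h2 : (2 : F) = 0) (θ : F →+* F)
    (A : Matrix (Fin 4) (Fin 4) F) (hA : Aᵀ * J4 F * A = J4 F)
    (hstar : Cfsg.Lie.star4 A = A.map θ) (v : Fin 4 → F) (hv : v ≠ 0) (hAv : A *ᵥ v = v) :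
    A ^ 4 = 1 := by
  have hdet := det_eq_one h2 A hA
  have hadj := trace_adjugate h2 A hA
  have hch := ch4 A
  rw [hdet, hadj] at hch
  have hc2 : c2 A = θ A.trace := by
    have h3 : (Cfsg.Lie.star4 A).trace = (A.map θ).trace := by rw [hstar]
    have h4 : (A.map θ).trace = θ A.trace := by
      simp [Matrix.trace, Fin.sum_univ_four]
    have h5 : (Cfsg.Lie.star4 A).trace
        = c2 A - (A 0 0 * A 3 3 - A 0 3 * A 3 0) - (A 1 1 * A 2 2 - A 1 2 * A 2 1) := by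
      simp only [Matrix.trace, Matrix.diag, Fin.sum_univ_four, star4_apply, c2]
      simp [Cfsg.Lie.pairOf]
      ring
    have r03 : A 0 0 * A 3 3 + A 1 0 * A 2 3 + A 2 0 * A 1 3 + A 3 0 * A 0 3 = 1 := by
      rw [← AtJA_apply, hA]; simp [J4]
    have r12 : A 1 0 * A 2 3 + A 1 1 * A 2 2 + A 1 2 * A 2 1 + A 1 3 * A 2 0 = 1 := by
      rw [← AJAt_apply, dual_rel A hA]; simp [J4]
    rw [← h4, ← h3, h5]
    linear_combination r03 + r12 + (1 - A 1 0 * A 2 3 - A 2 0 * A 1 3 - A 0 3 * A 3 0 - A 1 2 * A 2 1) * h2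
  have hv4 : ((2 : F) - 2 * A.trace + c2 A) • v = 0 := by
    have h6 := congrArg (fun M : Matrix (Fin 4) (Fin 4) F => M *ᵥ v) hch
    simp only [Matrix.add_mulVec, Matrix.sub_mulVec, Matrix.smul_mulVec, pow_mulVec_fixed A v hAv,
      Matrix.one_mulVec, Matrix.zero_mulVec, hAv] at h6
    rw [← h6]
    module
  have hc0 : c2 A = 0 := by
    obtain ⟨i, hi⟩ : ∃ i, v i ≠ 0 := by
      by_contra hcon
      push Not at hcon
      exact hv (funext hcon)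
    have h7 := congrFun hv4 i
    simp only [Pi.smul_apply, smul_eq_mul, Pi.zero_apply] at h7
    rcases mul_eq_zero.1 h7 with h8 | h8
    · linear_combination h8 + (A.trace - 1) * h2
    · exact absurd h8 hi
  have htr : A.trace = 0 := by
    rw [hc0] at hc2
    exact (map_eq_zero θ).1 hc2.symm
  rw [htr, hc0] at hch
  simp only [zero_smul, sub_zero, add_zero, one_smul] at hch
  have h9 : A ^ 4 = -1 := eq_neg_of_add_eq_zero_left hch
  rw [h9]
  ext i j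
  simp only [Matrix.neg_apply, Matrix.one_apply]
  split_ifs
  · linear_combination -h2
  · simp

/-- The matrix `J4` as an element of `GL`. -/
def J4GL (F : Type*) [Field F] : GL (Fin 4) F := ⟨J4 F, J4 F, J4_mul_J4 F, J4_mul_J4 F⟩

theorem J4GL_mem {F : Type*} [Field F] (h2 : (2 : F) = 0) (e : ℕ) (he : e ≠ 0) :
    J4GL F ∈ Cfsg.Lie.Sz F e := by
  apply Subgroup.subset_closure
  refine ⟨?_, ?_⟩
  · intro u v
    show Cfsg.Lie.altForm4 (J4 F *ᵥ u) (J4 F *ᵥ v) = Cfsg.Lie.altForm4 u v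
    simp [Cfsg.Lie.altForm4, J4, Matrix.mulVec, dotProduct, Fin.sum_univ_four]
    ring
  · show Cfsg.Lie.star4 (J4 F) = (J4 F).map (fun x => x ^ e)
    ext p r
    rw [star4_apply]
    fin_cases p <;> fin_cases r <;> simp [Cfsg.Lie.pairOf, J4, he]
    all_goals linear_combination -h2

theorem two_dvd_card {F : Type*} [Field F] [Finite F] (h2 : (2 : F) = 0) (e : ℕ) (he : e ≠ 0) :
    2 ∣ Nat.card (Cfsg.Lie.Sz F e) := by
  let u : Cfsg.Lie.Sz F e := ⟨J4GL F, J4GL_mem h2 e he⟩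
  have hu2 : u ^ 2 = 1 := by
    apply Subtype.ext
    apply Units.ext
    show (J4 F) ^ 2 = 1
    rw [pow_two, J4_mul_J4]
  have hu1 : u ≠ 1 := by
    intro h
    have h3 := congrArg (fun m : Cfsg.Lie.Sz F e => ((m : GL (Fin 4) F) : Matrix (Fin 4) (Fin 4) F) 0 0) h
    simp [u, J4GL, J4] at h3
  have hord : orderOf u = 2 := orderOf_eq_prime hu2 hu1
  have h3 := orderOf_dvd_natCard u
  rwa [hord] at h3


/-- Let S be the Suzuki group over the field with q = 2^(2m+1) ≥ 8 elements. Then there are finite groups of arbitrarily large order with the same prime graph as S. -/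
theorem result {F : Type*} [Field F] [Fintype F] {m : ℕ} (hm : 1 ≤ m) (hF : Fintype.card F = 2 ^ (2 * m + 1)) (N : ℕ) :
    ∃ (H : Type) (_ : Group H) (_ : Fintype H), N < Fintype.card H ∧ ((∀ r : ℕ, r.Prime → (r ∣ Nat.card ↥(Cfsg.Lie.Sz F (2 ^ (m + 1))) ↔ r ∣ Nat.card H)) ∧
      (∀ r s : ℕ, r.Prime → s.Prime → r ≠ s → ((∃ x : ↥(Cfsg.Lie.Sz F (2 ^ (m + 1))), orderOf x = r * s) ↔ (∃ y : H, orderOf y = r * s)))) := by
  have : CharP F 2 := by
    obtain ⟨p, hp⟩ := CharP.exists F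
    have := hp
    obtain ⟨n, hpn, hcard⟩ := FiniteField.card F p
    have hp2 : p = 2 := by
      have h1 : p ∣ 2 ^ (2 * m + 1) := by
        rw [← hF, hcard]
        exact dvd_pow_self p n.ne_zero
      exact (Nat.prime_dvd_prime_iff_eq hpn Nat.prime_two).1 (hpn.dvd_of_dvd_pow h1)
    subst hp2
    exact hp
  have h2 : (2 : F) = 0 := by
    have := CharP.cast_eq_zero F 2
    exact_mod_cast this
  have h2' : ((2 : ℕ) : F) = 0 := CharP.cast_eq_zero F 2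
  have he : (2 : ℕ) ^ (m + 1) ≠ 0 := by positivity
  let θ : F →+* F := iterateFrobenius F 2 (m + 1)
  have hθ : ∀ x, θ x = x ^ 2 ^ (m + 1) := fun x => iterateFrobenius_def 2 (m + 1) x
  let ρ : Cfsg.Lie.Sz F (2 ^ (m + 1)) →* Matrix (Fin 4) (Fin 4) F :=
    (Units.coeHom (Matrix (Fin 4) (Fin 4) F)).comp (Subgroup.subtype _)
  obtain ⟨H, hG, hFin, hN, hS⟩ := exists_large_samePG_matrix ρ 2 Nat.prime_two h2'
    (SamePG.of_mulEquiv (MulEquiv.refl _)) (two_dvd_card h2 _ he)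
    (by
      intro g x hx hgx r hr hr2 hord
      exfalso
      have hP := szP_all h2 (2 ^ (m + 1)) θ hθ g.1 g.2
      have hA := mem_Sp4_rel g.1 hP.1
      have hstar : Cfsg.Lie.star4 ((g : GL (Fin 4) F) : Matrix (Fin 4) (Fin 4) F)
          = ((g : GL (Fin 4) F) : Matrix (Fin 4) (Fin 4) F).map θ := by
        rw [hP.2]
        congr 1
      have h4 := pow_four_eq_one h2 θ _ hA hstar x hx hgx
      have hg4 : g ^ 4 = 1 := by
        apply Subtype.ext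
        apply Units.ext
        simpa using h4
      have hdvd : r ∣ 2 ^ 2 := by
        rw [← hord]
        exact orderOf_dvd_of_pow_eq_one hg4
      exact hr2 ((Nat.prime_dvd_prime_iff_eq hr Nat.prime_two).1 (hr.dvd_of_dvd_pow hdvd))) N
  exact ⟨H, hG, hFin, hN, hS⟩

end Cfsg.Agent.S3639
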