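import Cfsg.Statements.S3866
import Mathlib

set_option autoImplicit false
open Cfsg

namespace Cfsg.Agent.S3866

/-- Let A be a commutative normal subgroup of the finite group G with G generated by A and an element x. Then a ↦ x a x⁻¹ a⁻¹ is a surjective homomorphism from A onto the commutator subgroup of G whose kernel is the centralizer of x in A; in particular the commutator subgroup has order equal to the index in A of that centralizer. -/
theorem result {G : Type*} [Group G] [Finite G] (A : Subgroup G) [A.Normal] (hA : IsMulCommutative A) (x : G) (hgen : A ⊔ Subgroup.zpowers x = ⊤) : (∀ a ∈ A, x * a * x⁻¹ * a⁻¹ ∈ commutator G) ∧ (∀ c ∈ commutator G, ∃ a ∈ A, x * a * x⁻¹ * a⁻¹ = c) ∧ (∀ a ∈ A, ∀ b ∈ A, x * (a * b) * x⁻¹ * (a * b)⁻¹ = (x * a * x⁻¹ * a⁻¹) * (x * b * x⁻¹ * b⁻¹)) ∧ Nat.card (commutator G) * Nat.card ↥(A ⊓ Subgroup.centralizer ({x} : Set G)) = Nat.card A := by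
  have comm : ∀ a ∈ A, ∀ b ∈ A, a * b = b * a := by
    intro a ha b hb
    exact congrArg Subtype.val (mul_comm' (⟨a, ha⟩ : A) ⟨b, hb⟩)
  have hconj : ∀ a ∈ A, x * a * x⁻¹ ∈ A := fun a ha => ‹A.Normal›.conj_mem a ha x
  have hf_mem : ∀ a ∈ A, x * a * x⁻¹ * a⁻¹ ∈ A :=
    fun a ha => A.mul_mem (hconj a ha) (A.inv_mem ha)
  have hmul : ∀ a ∈ A, ∀ b ∈ A, x * (a * b) * x⁻¹ * (a * b)⁻¹
      = (x * a * x⁻¹ * a⁻¹) * (x * b * x⁻¹ * b⁻¹) := by
    intro a ha b hb
    calc x * (a * b) * x⁻¹ * (a * b)⁻¹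
        = (x * a * x⁻¹) * ((x * b * x⁻¹ * b⁻¹) * a⁻¹) := by group
      _ = (x * a * x⁻¹) * (a⁻¹ * (x * b * x⁻¹ * b⁻¹)) := by
          rw [comm _ (hf_mem b hb) a⁻¹ (A.inv_mem ha)]
      _ = _ := by group
  let f : A →* A :=
    { toFun := fun a => ⟨x * a * x⁻¹ * a⁻¹, hf_mem a a.2⟩
      map_one' := by ext; simp
      map_mul' := fun a b => by ext; exact hmul a a.2 b b.2 }
  have hfval : ∀ a : A, ((f a : A) : G) = x * a * x⁻¹ * (a : G)⁻¹ := fun a => rfl
  let B : Subgroup G := f.range.map A.subtype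
  have hB : ∀ g, g ∈ B ↔ ∃ a ∈ A, x * a * x⁻¹ * a⁻¹ = g := by
    intro g
    constructor
    · rintro ⟨_, ⟨a, rfl⟩, rfl⟩
      exact ⟨a, a.2, rfl⟩
    · rintro ⟨a, ha, rfl⟩
      exact ⟨f ⟨a, ha⟩, ⟨⟨a, ha⟩, rfl⟩, rfl⟩
  have hBA : B ≤ A := by
    intro g hg
    obtain ⟨a, ha, rfl⟩ := (hB g).1 hg
    exact hf_mem a ha
  have hBn : B.Normal := by
    rw [← Subgroup.normalizer_eq_top_iff, eq_top_iff, ← hgen, sup_le_iff]
    constructor
    · rw [Subgroup.le_normalizer_iff]
      intro a ha b hb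
      have hbA := hBA hb
      have : a * b * a⁻¹ = b := by
        rw [comm a ha b hbA]; group
      rw [this]; exact hb
    · rw [Subgroup.zpowers_le]
      rw [Subgroup.mem_normalizer_iff_map_conj_eq]
      apply le_antisymm
      · rintro _ ⟨b, hb, rfl⟩
        obtain ⟨a, ha, rfl⟩ := (hB b).1 hb
        refine (hB _).2 ⟨x * a * x⁻¹, hconj a ha, ?_⟩
        simp only [MulAut.conj_apply, MonoidHom.coe_coe]
        group
      · intro b hb
        obtain ⟨a, ha, rfl⟩ := (hB b).1 hb
        have ha' : x⁻¹ * a * x ∈ A := by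
          have := ‹A.Normal›.conj_mem a ha x⁻¹
          simpa using this
        refine ⟨x * (x⁻¹ * a * x) * x⁻¹ * (x⁻¹ * a * x)⁻¹, ?_, ?_⟩
        · exact (hB _).2 ⟨_, ha', rfl⟩
        · simp only [MulAut.conj_apply, MonoidHom.coe_coe]
          group
  have hcomB : commutator G ≤ B := by
    rw [← Subgroup.Normal.quotient_commutative_iff_commutator_le]
    -- the quotient is generated by commuting elements
    let π := QuotientGroup.mk' B
    let S : Set (G ⧸ B) := π '' ((A : Set G) ∪ {x})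
    have hS : ∀ s ∈ S, ∀ t ∈ S, s * t = t * s := by
      have hxa : ∀ a ∈ A, π x * π a = π a * π x := by
        intro a ha
        rw [← map_mul, ← map_mul]
        apply (QuotientGroup.eq).2
        have : (x * a)⁻¹ * (a * x) ∈ B := by
          have h1 : x * a * x⁻¹ * a⁻¹ ∈ B := (hB _).2 ⟨a, ha, rfl⟩
          have h2 : (x * a)⁻¹ * (a * x) = (a⁻¹ * x⁻¹) * (x * a * x⁻¹ * a⁻¹)⁻¹ * (a⁻¹ * x⁻¹)⁻¹ := by
            group
          rw [h2]
          exact hBn.conj_mem _ (B.inv_mem h1) _
        exact this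
      rintro _ ⟨s, hs, rfl⟩ _ ⟨t, ht, rfl⟩
      rcases hs with hs | hs <;> rcases ht with ht | ht
      · rw [← map_mul, ← map_mul, comm s hs t ht]
      · rw [Set.mem_singleton_iff] at ht; subst ht
        exact (hxa s hs).symm
      · rw [Set.mem_singleton_iff] at hs; subst hs
        exact hxa t ht
      · rw [Set.mem_singleton_iff] at hs ht; subst hs; subst ht; rfl
    have hclS : Subgroup.closure S = ⊤ := by
      have h1 : Subgroup.closure ((A : Set G) ∪ {x}) = ⊤ := by
        rw [Subgroup.closure_union, Subgroup.closure_eq, ← Subgroup.zpowers_eq_closure, hgen]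
      rw [← MonoidHom.map_closure, h1, ← MonoidHom.range_eq_map, MonoidHom.range_eq_top]
      exact QuotientGroup.mk'_surjective B
    have hc := Subgroup.isMulCommutative_closure hS
    rw [hclS] at hc
    constructor
    constructor
    intro a b
    have := mul_comm' (⟨a, Subgroup.mem_top a⟩ : (⊤ : Subgroup (G ⧸ B))) ⟨b, Subgroup.mem_top b⟩
    exact congrArg Subtype.val this
  have hBcom : B ≤ commutator G := by
    intro g hg
    obtain ⟨a, ha, rfl⟩ := (hB g).1 hg
    have h := Subgroup.commutator_mem_commutator (Subgroup.mem_top x) (Subgroup.mem_top a)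
    rw [commutatorElement_def] at h
    rw [commutator_def]
    exact h
  have hBeq : commutator G = B := le_antisymm hcomB hBcom
  refine ⟨fun a ha => hBcom ((hB _).2 ⟨a, ha, rfl⟩), fun c hc => (hB c).1 (hcomB hc), hmul, ?_⟩
  -- cardinalities
  have hker : Nat.card f.ker = Nat.card ↥(A ⊓ Subgroup.centralizer ({x} : Set G)) := by
    apply Nat.card_congr
    refine
      { toFun := fun a => ⟨(a : A), ⟨(a : A).2, ?_⟩⟩
        invFun := fun a => ⟨⟨a, a.2.1⟩, ?_⟩
        left_inv := fun a => rfl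
        right_inv := fun a => rfl }
    · have h := a.2
      rw [MonoidHom.mem_ker] at h
      have h' := congrArg (Subtype.val) h
      rw [hfval] at h'
      refine Subgroup.mem_centralizer_iff.2 ?_
      intro y hy
      rw [Set.mem_singleton_iff] at hy; subst hy
      have h'' : y * (a : A) * y⁻¹ * ((a : A) : G)⁻¹ = 1 := h'
      have : y * ((a : A) : G) = ((a : A) : G) * y := by
        calc y * ((a : A) : G) = (y * (a : A) * y⁻¹ * ((a : A) : G)⁻¹) * ((a : A) : G) * y := by group
          _ = _ := by rw [h'']; group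
      exact this
    · rw [MonoidHom.mem_ker]
      apply Subtype.ext
      rw [hfval]
      have h : (a : G) ∈ Subgroup.centralizer ({x} : Set G) := a.2.2
      have h1 := (Subgroup.mem_centralizer_iff.1 h) x rfl
      show x * (a : G) * x⁻¹ * (a : G)⁻¹ = 1
      rw [h1]; group
  have hrange : Nat.card f.range = Nat.card (commutator G) := by
    rw [hBeq]
    exact (Nat.card_congr (Subgroup.equivMapOfInjective f.range A.subtype A.subtype_injective).toEquiv)
  rw [← hker, ← hrange]
  have h1 := Subgroup.card_eq_card_quotient_mul_card_subgroup f.ker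
  have h2 := Nat.card_congr (QuotientGroup.quotientKerEquivRange f).toEquiv
  rw [h1, h2]

end Cfsg.Agent.S3866
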