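import Cfsg.Statements.S3879
import Cfsg.Agent.S3866
-- import your own Cfsg.Agent.* helpers here

set_option autoImplicit false
open Cfsg

namespace Cfsg.Agent.S3879

/-- Number theory: for `p` odd, if `r` has `p`-power order `p^t` modulo `p^m`, then
`p^t * gcd(p^m, r-1) = p^m`. -/
theorem pow_mul_gcd {p : ℕ} (hp : p.Prime) (hp2 : p ≠ 2) (m r t : ℕ)
    (h : orderOf (r : ZMod (p ^ m)) = p ^ t) : p ^ t * Nat.gcd (p ^ m) (r - 1) = p ^ m := by
  have hfp : Fact p.Prime := ⟨hp⟩
  rcases Nat.eq_zero_or_pos m with rfl | hm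
  · -- ZMod 1
    have h1 : (r : ZMod (p ^ 0)) = 1 := by
      have := (ZMod.natCast_eq_natCast_iff r 1 (p ^ 0)).2 (by simp [Nat.ModEq, Nat.mod_one])
      rw [this]
      exact Nat.cast_one
    rw [h1, orderOf_one] at h
    rw [← h]; simp
  -- r ≡ 1 mod p
  have hr1 : (r : ZMod p) = 1 := by
    have h1 : (r : ZMod (p ^ m)) ^ (p ^ t) = 1 := by rw [← h]; exact pow_orderOf_eq_one _
    have h2 : (r : ZMod p) ^ (p ^ t) = 1 := by
      have := congrArg (ZMod.castHom (dvd_pow_self p hm.ne') (ZMod p)) h1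
      rw [map_pow, map_natCast, map_one] at this
      exact this
    rwa [ZMod.pow_card_pow] at h2
  have hr0 : 1 ≤ r := by
    rcases Nat.eq_zero_or_pos r with rfl | h0
    · exfalso
      simp at hr1
    · exact h0
  have hpd : p ∣ r - 1 := by
    have h1 : ((r - 1 : ℕ) : ZMod p) = 0 := by
      rw [Nat.cast_sub hr0, hr1]; simp
    exact (ZMod.natCast_eq_zero_iff _ _).1 h1
  by_cases hdvd : p ^ m ∣ r - 1
  · have h1 : (r : ZMod (p ^ m)) = 1 := by
      have h2 : ((r - 1 : ℕ) : ZMod (p ^ m)) = 0 := (ZMod.natCast_eq_zero_iff _ _).2 hdvd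
      rw [Nat.cast_sub hr0] at h2
      simpa [sub_eq_zero] using h2
    rw [h1, orderOf_one] at h
    rw [← h, Nat.gcd_eq_left hdvd, one_mul]
  · have hd0 : r - 1 ≠ 0 := by
      intro h0
      rw [h0] at hdvd
      exact hdvd (dvd_zero _)
    obtain ⟨k, u, hu, hku⟩ := Nat.exists_eq_pow_mul_and_not_dvd hd0 p hp.ne_one
    have hk0 : k ≠ 0 := by
      rintro rfl
      rw [pow_zero, one_mul] at hku
      rw [hku] at hpd
      exact hu hpd
    have hkm : k < m := by
      by_contra hkm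
      push Not at hkm
      apply hdvd
      rw [hku]
      exact (pow_dvd_pow p hkm).trans (dvd_mul_right _ _)
    obtain ⟨n, rfl⟩ : ∃ n, m = n + k := ⟨m - k, by omega⟩
    have hr : (r : ZMod (p ^ (n + k))) = 1 + (p : ZMod (p ^ (n + k))) ^ k * ((u : ℤ) : ZMod (p ^ (n + k))) := by
      have h1 : r = 1 + p ^ k * u := by omega
      conv_lhs => rw [h1]
      push_cast
      ring
    have hord := ZMod.orderOf_one_add_mul_prime_pow hp k hk0 (by
      have h3 : 3 ≤ p := by
        have := hp.two_le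
        omega
      have h4 : 3 * k ≤ p * k := Nat.mul_le_mul_right k h3
      omega) (u : ℤ) (by
        intro hdv
        exact hu (Int.natCast_dvd_natCast.1 hdv)) n
    rw [← hr, h] at hord
    rw [hord, hku]
    have hg : Nat.gcd (p ^ (n + k)) (p ^ k * u) = p ^ k := by
      rw [pow_add, mul_comm (p ^ n) (p ^ k), Nat.gcd_mul_left]
      have : Nat.gcd (p ^ n) u = 1 := by
        apply Nat.Coprime.pow_left
        exact (Nat.Prime.coprime_iff_not_dvd hp).2 hu
      rw [this, mul_one]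
    rw [hg, ← pow_add]

/-- Let p be an odd prime and G a finite metacyclic p-group (G has a cyclic normal subgroup with cyclic quotient). Then the index of the center of G is the square of the order of the derived subgroup: |G : Z(G)| = |G'|². -/
theorem result {G : Type*} [Group G] [Finite G] {p : ℕ} [Fact p.Prime] (hp : p ≠ 2) (hG : IsPGroup p G) (hmc : Cfsg.IsMetacyclic G) : (Subgroup.center G).index = Nat.card ↥(commutator G) ^ 2 := by
  classical
  have hpp : p.Prime := Fact.out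
  obtain ⟨N, hNn, hNc, hQc⟩ := hmc
  -- generator a of N
  obtain ⟨a', ha'⟩ := hNc.exists_generator
  obtain ⟨a, haa'⟩ : ∃ a : G, a = (a' : G) := ⟨_, rfl⟩
  have haN : a ∈ N := by rw [haa']; exact a'.2
  have hNa : ∀ n ∈ N, n ∈ Subgroup.zpowers a := by
    intro n hn
    obtain ⟨i, hi⟩ := Subgroup.mem_zpowers_iff.1 (ha' ⟨n, hn⟩)
    refine Subgroup.mem_zpowers_iff.2 ⟨i, ?_⟩
    have := congrArg Subtype.val hi
    rw [haa']
    simpa using this
  have hNcomm : ∀ n₁ ∈ N, ∀ n₂ ∈ N, n₁ * n₂ = n₂ * n₁ := by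
    intro n₁ h₁ n₂ h₂
    obtain ⟨i, rfl⟩ := Subgroup.mem_zpowers_iff.1 (hNa n₁ h₁)
    obtain ⟨j, rfl⟩ := Subgroup.mem_zpowers_iff.1 (hNa n₂ h₂)
    exact Commute.zpow_zpow_self a i j
  have hNcommI : IsMulCommutative N := ⟨⟨fun x y => Subtype.ext (hNcomm x x.2 y y.2)⟩⟩
  -- generator b of G modulo N
  obtain ⟨g₀, hg₀⟩ := hQc.exists_generator
  obtain ⟨b, rfl⟩ := QuotientGroup.mk_surjective g₀
  have hgen : ∀ g : G, ∃ i : ℤ, ∃ n ∈ N, g = b ^ i * n := by
    intro g
    obtain ⟨i, hi⟩ := Subgroup.mem_zpowers_iff.1 (hg₀ (g : G ⧸ N))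
    refine ⟨i, (b ^ i)⁻¹ * g, ?_, by group⟩
    rw [← QuotientGroup.eq, QuotientGroup.mk_zpow]
    exact hi
  -- the exponent r = d + 1
  have hbab : b * a * b⁻¹ ∈ N := hNn.conj_mem a haN b
  obtain ⟨r₀, hr₀⟩ : ∃ r₀ : ℕ, a ^ r₀ = b * a * b⁻¹ :=
    mem_powers_iff_mem_zpowers.2 (hNa _ hbab)
  have hMpos : 0 < orderOf a := orderOf_pos a
  obtain ⟨d, hd⟩ : ∃ d : ℕ, d + 1 = r₀ + orderOf a := ⟨r₀ + orderOf a - 1, by omega⟩
  have hr : a ^ (d + 1) = b * a * b⁻¹ := by
    rw [hd, pow_add, pow_orderOf_eq_one, mul_one, hr₀]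
  have hconj : ∀ n ∈ N, b * n * b⁻¹ = n ^ (d + 1) := by
    intro n hn
    obtain ⟨i, rfl⟩ := Subgroup.mem_zpowers_iff.1 (hNa n hn)
    calc b * a ^ i * b⁻¹ = (b * a * b⁻¹) ^ i := (conj_zpow).symm
      _ = (a ^ (d + 1)) ^ i := by rw [hr]
      _ = (a ^ i) ^ (d + 1) := by
        rw [← zpow_natCast a (d + 1), ← zpow_mul, mul_comm, zpow_mul, zpow_natCast]
  have hconj_pow : ∀ (i : ℕ) (n : G), n ∈ N → b ^ i * n * (b ^ i)⁻¹ = n ^ ((d + 1) ^ i) := by
    intro i
    induction i with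
    | zero => intro n hn; simp
    | succ i ih =>
      intro n hn
      have h1 : b ^ (i + 1) * n * (b ^ (i + 1))⁻¹ = b * (b ^ i * n * (b ^ i)⁻¹) * b⁻¹ := by
        rw [pow_succ']; group
      rw [h1, ih n hn, hconj _ (pow_mem hn _), ← pow_mul, pow_succ]
  -- the centralizer of N
  have hmemC : ∀ g : G, g ∈ Subgroup.centralizer (N : Set G) ↔ ∀ n ∈ N, n * g = g * n := by
    intro g
    rw [Subgroup.mem_centralizer_iff]
    rfl
  have hNC : N ≤ Subgroup.centralizer (N : Set G) := by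
    intro n hn
    rw [hmemC]
    intro n' hn'
    exact hNcomm n' hn' n hn
  have hCcomm : ∀ c₁ ∈ Subgroup.centralizer (N : Set G), ∀ c₂ ∈ Subgroup.centralizer (N : Set G),
      c₁ * c₂ = c₂ * c₁ := by
    intro c₁ hc₁ c₂ hc₂
    obtain ⟨i, n₁, hn₁, rfl⟩ := hgen c₁
    obtain ⟨j, n₂, hn₂, rfl⟩ := hgen c₂
    have hbi : b ^ i ∈ Subgroup.centralizer (N : Set G) := by
      have h := mul_mem hc₁ (inv_mem (hNC hn₁))
      rwa [mul_inv_cancel_right] at h
    have hbj : b ^ j ∈ Subgroup.centralizer (N : Set G) := by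
      have h := mul_mem hc₂ (inv_mem (hNC hn₂))
      rwa [mul_inv_cancel_right] at h
    have h1 : n₁ * b ^ j = b ^ j * n₁ := (hmemC _).1 hbj n₁ hn₁
    have h2 : n₂ * b ^ i = b ^ i * n₂ := (hmemC _).1 hbi n₂ hn₂
    have h3 : b ^ i * b ^ j = b ^ j * b ^ i := Commute.zpow_zpow_self b i j
    have h4 : n₁ * n₂ = n₂ * n₁ := hNcomm n₁ hn₁ n₂ hn₂
    calc b ^ i * n₁ * (b ^ j * n₂) = b ^ i * (n₁ * b ^ j) * n₂ := by simp only [mul_assoc]
      _ = b ^ i * (b ^ j * n₁) * n₂ := by rw [h1]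
      _ = (b ^ i * b ^ j) * (n₁ * n₂) := by simp only [mul_assoc]
      _ = (b ^ j * b ^ i) * (n₂ * n₁) := by rw [h3, h4]
      _ = b ^ j * (b ^ i * n₂) * n₁ := by simp only [mul_assoc]
      _ = b ^ j * (n₂ * b ^ i) * n₁ := by rw [h2]
      _ = b ^ j * n₂ * (b ^ i * n₁) := by simp only [mul_assoc]
  have hC : IsMulCommutative (Subgroup.centralizer (N : Set G)) :=
    ⟨⟨fun x y => Subtype.ext (hCcomm x x.2 y y.2)⟩⟩
  have hCgen : Subgroup.centralizer (N : Set G) ⊔ Subgroup.zpowers b = ⊤ := by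
    rw [eq_top_iff]
    intro g _
    obtain ⟨i, n, hn, rfl⟩ := hgen g
    exact mul_mem ((le_sup_right : Subgroup.zpowers b ≤ _) (zpow_mem (Subgroup.mem_zpowers b) i))
      ((le_sup_left : Subgroup.centralizer (N : Set G) ≤ _) (hNC hn))
  have hNgen : N ⊔ Subgroup.zpowers b = ⊤ := by
    rw [eq_top_iff]
    intro g _
    obtain ⟨i, n, hn, rfl⟩ := hgen g
    exact mul_mem ((le_sup_right : Subgroup.zpowers b ≤ _) (zpow_mem (Subgroup.mem_zpowers b) i))
      ((le_sup_left : N ≤ _) hn)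
  -- |G'| |Z(G)| = |C_G(N)|
  obtain ⟨-, -, -, hcard1⟩ := Cfsg.Agent.S3866.result (Subgroup.centralizer (N : Set G)) hC b hCgen
  have hZ : Subgroup.centralizer (N : Set G) ⊓ Subgroup.centralizer ({b} : Set G) =
      Subgroup.center G := by
    ext z
    constructor
    · rintro ⟨hz1, hz2⟩
      rw [Subgroup.mem_center_iff]
      intro g
      obtain ⟨i, n, hn, rfl⟩ := hgen g
      have h1 : n * z = z * n := (hmemC z).1 hz1 n hn
      have h2 : b * z = z * b := (Subgroup.mem_centralizer_iff.1 hz2) b rfl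
      have h3 : b ^ i * z = z * b ^ i := Commute.zpow_left h2 i
      calc b ^ i * n * z = b ^ i * (n * z) := by rw [mul_assoc]
        _ = b ^ i * (z * n) := by rw [h1]
        _ = (b ^ i * z) * n := by rw [mul_assoc]
        _ = z * b ^ i * n := by rw [h3]
        _ = z * (b ^ i * n) := by rw [mul_assoc]
    · intro hz
      rw [Subgroup.mem_center_iff] at hz
      exact ⟨Subgroup.mem_centralizer_iff.2 (fun h _ => hz h),
        Subgroup.mem_centralizer_iff.2 (fun h _ => hz h)⟩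
  rw [hZ] at hcard1
  -- G' is generated by a^d
  obtain ⟨h2a, h2b, -, -⟩ := Cfsg.Agent.S3866.result N hNcommI b hNgen
  have hG' : commutator G = Subgroup.zpowers (a ^ d) := by
    apply le_antisymm
    · intro c hc
      obtain ⟨n, hn, rfl⟩ := h2b c hc
      rw [hconj n hn]
      obtain ⟨i, rfl⟩ := Subgroup.mem_zpowers_iff.1 (hNa n hn)
      refine Subgroup.mem_zpowers_iff.2 ⟨i, ?_⟩
      rw [pow_succ, mul_inv_cancel_right, ← zpow_natCast (a ^ i) d, ← zpow_mul, mul_comm,
        zpow_mul, zpow_natCast]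
    · rw [Subgroup.zpowers_le]
      have := h2a a haN
      rw [hconj a haN, pow_succ, mul_inv_cancel_right] at this
      exact this
  have hcardG' : Nat.card (commutator G) = orderOf a / Nat.gcd (orderOf a) d := by
    rw [hG', Nat.card_zpowers, orderOf_pow]
  -- |G : C_G(N)| is the order of r modulo |N|
  have hidxC : ∀ M : ℕ, orderOf a = M →
      (Subgroup.centralizer (N : Set G)).index = orderOf (((d + 1 : ℕ)) : ZMod M) := by
    intro M hM
    have htop : Subgroup.zpowers ((b : G) : G ⧸ Subgroup.centralizer (N : Set G)) = ⊤ := by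
      rw [eq_top_iff]
      intro x _
      obtain ⟨g, rfl⟩ := QuotientGroup.mk_surjective x
      obtain ⟨i, n, hn, rfl⟩ := hgen g
      refine Subgroup.mem_zpowers_iff.2 ⟨i, ?_⟩
      rw [QuotientGroup.mk_mul, (QuotientGroup.eq_one_iff n).2 (hNC hn), mul_one,
        QuotientGroup.mk_zpow]
    have h1 : (Subgroup.centralizer (N : Set G)).index =
        orderOf ((b : G) : G ⧸ Subgroup.centralizer (N : Set G)) := by
      rw [Subgroup.index_eq_card, ← Nat.card_zpowers, htop, Subgroup.card_top]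
    rw [h1, orderOf_eq_orderOf_iff]
    intro i
    rw [← QuotientGroup.mk_pow, QuotientGroup.eq_one_iff]
    have h2 : b ^ i ∈ Subgroup.centralizer (N : Set G) ↔ a ^ ((d + 1) ^ i) = a ^ 1 := by
      rw [pow_one]
      constructor
      · intro h
        have h3 := (hmemC _).1 h a haN
        rw [← hconj_pow i a haN, ← h3, mul_inv_cancel_right]
      · intro h
        rw [hmemC]
        intro n hn
        have h3 := hconj_pow i n hn
        have h4 : n ^ ((d + 1) ^ i) = n := by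
          obtain ⟨j, rfl⟩ := Subgroup.mem_zpowers_iff.1 (hNa n hn)
          rw [← zpow_natCast (a ^ j), ← zpow_mul, mul_comm, zpow_mul, zpow_natCast, h]
        rw [h4] at h3
        calc n * b ^ i = (b ^ i * n * (b ^ i)⁻¹) * b ^ i := by rw [h3]
          _ = b ^ i * n := by group
    rw [h2, pow_eq_pow_iff_modEq, hM, ← ZMod.natCast_eq_natCast_iff]
    push_cast
    rfl
  -- orders are powers of p
  obtain ⟨m, hm⟩ : ∃ m : ℕ, orderOf a = p ^ m := by
    obtain ⟨k, hk⟩ := hG a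
    obtain ⟨m, -, hm⟩ := (Nat.dvd_prime_pow hpp).1 (orderOf_dvd_of_pow_eq_one hk)
    exact ⟨m, hm⟩
  obtain ⟨t, ht⟩ : ∃ t : ℕ, (Subgroup.centralizer (N : Set G)).index = p ^ t := by
    obtain ⟨k, hk⟩ := IsPGroup.iff_card.1 hG
    have h1 : (Subgroup.centralizer (N : Set G)).index ∣ p ^ k := by
      rw [← hk]; exact Subgroup.index_dvd_card _
    obtain ⟨t, -, ht⟩ := (Nat.dvd_prime_pow hpp).1 h1
    exact ⟨t, ht⟩
  have h3 := hidxC (p ^ m) hm
  rw [ht] at h3
  have h4 := pow_mul_gcd hpp hp m (d + 1) t h3.symm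
  rw [Nat.add_sub_cancel] at h4
  have h5 : Nat.card (commutator G) = p ^ t := by
    rw [hcardG', hm]
    apply Nat.div_eq_of_eq_mul_left
    · exact Nat.gcd_pos_of_pos_left _ (pow_pos hpp.pos m)
    · exact h4.symm
  -- assemble
  have h6 := Subgroup.card_mul_index (Subgroup.center G)
  have h7 := Subgroup.card_mul_index (Subgroup.centralizer (N : Set G))
  rw [← hcard1, ht, ← h6, h5] at h7
  have hpos : 0 < Nat.card (Subgroup.center G) := Nat.card_pos
  have h8 : Nat.card (Subgroup.center G) * (p ^ t * p ^ t) =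
      Nat.card (Subgroup.center G) * (Subgroup.center G).index := by
    rw [← h7]; ring
  rw [h5, pow_two]
  exact (Nat.eq_of_mul_eq_mul_left hpos h8).symm

end Cfsg.Agent.S3879
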