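-- Statement S0420: a simple group of order 7920 is the concrete Mathieu group M11.
-- Blueprint: Cfsg/Agent/Lib/Helper68/M11UStmt.lean; assembly: Cfsg/Agent/Lib/Helper68/M11UAsm.lean.
import Cfsg.Statements.S0420
import Cfsg.Agent.Lib.Helper68.M11UAsm
import Cfsg.Agent.Lib.Helper68.M11Facts
import Cfsg.Agent.Lib.Helper93.MUCENT3
import Cfsg.Agent.Lib.Helper51.MUINVERT
import Cfsg.Agent.Lib.Helper93.MUINVCOSET
import Cfsg.Agent.Lib.Helper57.MUTHREE
import Cfsg.Agent.Lib.Helper93.MUSTAB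
import Cfsg.Agent.Lib.Helper9.MUKERQ
import Cfsg.Agent.Lib.Helper9.MUUNIQ
import Cfsg.Agent.Lib.Helper1.MUCONJCOSET
import Cfsg.Agent.Lib.Helper58.MUREGQ
import Cfsg.Agent.Lib.Helper1.MUSUMPROD
import Cfsg.Agent.Lib.Helper1.MUMONO
import Cfsg.Agent.Lib.Helper1.MUFIXVEC
import Cfsg.Agent.Lib.Helper92.MUCOL2
import Cfsg.Agent.Lib.Helper76.MUCHARP
import Cfsg.Agent.Lib.Helper76.MUCHART
import Cfsg.Agent.Lib.Helper76.MUCHARQ4
import Cfsg.Agent.Lib.Helper79.MUCHARQ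
import Cfsg.Agent.Lib.Helper65.MUORDER720
import Cfsg.Agent.Lib.Helper93.MUFIX5
import Cfsg.Agent.Lib.Helper71.MUTWOTRANS
import Cfsg.Agent.Lib.Helper71.MUFIX3
import Cfsg.Agent.Lib.Helper71.MUSTAB3
import Cfsg.Agent.Lib.Helper95.MUFIX2
import Cfsg.Agent.Lib.Helper95.MUFIXLE3
import Cfsg.Agent.Lib.Helper58.MUSHARP4
import Cfsg.Agent.Lib.Helper52.MUTHIRD
import Cfsg.Agent.Lib.Helper58.MUSTEINER

set_option autoImplicit false
open scoped Pointwise
open Cfsg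

namespace Cfsg.Agent.S0420

open Cfsg.Agent.Lib.Helper68.M11UStmt in
/-- The assembly of the pieces of the blueprint `Cfsg.Agent.Lib.Helper68.M11UStmt`. -/
theorem result_aux.{u} {G : Type u} [Group G] [Finite G] [IsSimpleGroup G]
    (hG : Nat.card G = 7920) (d : Finset Cfsg.GolayPt) (hd : d ∈ Cfsg.dodecads)
    (p : Cfsg.GolayPt) (hp : p ∈ d) :
    Nonempty (G ≃* ↥(MulAction.stabilizer Cfsg.M24 d ⊓ MulAction.stabilizer Cfsg.M24 p)) := by
  have hConj : InvConj.{u} := Cfsg.Agent.Lib.Helper68.M11Facts.invConj_main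
  have hMin : MinIndex.{u} := Cfsg.Agent.Lib.Helper68.M11Facts.minIndex_main
  have hCent3 : CentSyl3.{u} := Cfsg.Agent.Lib.Helper93.MUCENT3.main
  have hInvert : InvertT.{u} := Cfsg.Agent.Lib.Helper51.MUINVERT.main
  have hInvCoset : InvCoset.{u} := Cfsg.Agent.Lib.Helper93.MUINVCOSET.main hCent3
  have hThree : ThreeInv.{u} := Cfsg.Agent.Lib.Helper57.MUTHREE.main hConj hInvert hInvCoset
  have hStab : StabT.{u} := Cfsg.Agent.Lib.Helper93.MUSTAB.main hInvCoset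
  have hKer : KerQ.{u} := Cfsg.Agent.Lib.Helper9.MUKERQ.main hThree hStab
  have hUniq : UniqInv.{u} := Cfsg.Agent.Lib.Helper9.MUUNIQ.main hCent3 hInvCoset
  have hCC : ConjCoset.{u} := Cfsg.Agent.Lib.Helper1.MUCONJCOSET.main
  have hReg : RegQ.{u} := Cfsg.Agent.Lib.Helper58.MUREGQ.main
  have hSum : SumProd.{u} := Cfsg.Agent.Lib.Helper1.MUSUMPROD.main
  have hMono : Mono.{u} := Cfsg.Agent.Lib.Helper1.MUMONO.main
  have hFix : FixVec.{u} := Cfsg.Agent.Lib.Helper1.MUFIXVEC.main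
  have hCol : Col2.{u} := Cfsg.Agent.Lib.Helper92.MUCOL2.main
  have hCP : CharP.{u} := Cfsg.Agent.Lib.Helper76.MUCHARP.main hMono
  have hCT : CharT.{u} := Cfsg.Agent.Lib.Helper76.MUCHART.main hMono hSum hCC
  have hCQ4 : CharQ4.{u} := Cfsg.Agent.Lib.Helper76.MUCHARQ4.main hMono hSum hCC
  have hCQ : CharQ.{u} := Cfsg.Agent.Lib.Helper79.MUCHARQ.main hMono hSum hCC hCQ4
  have hOrd : Order720.{u} := Cfsg.Agent.Lib.Helper65.MUORDER720.main hMin hSum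
  have hFix5 : Fix5.{u} := Cfsg.Agent.Lib.Helper93.MUFIX5.main
  have hTwo : TwoTrans.{u} := Cfsg.Agent.Lib.Helper71.MUTWOTRANS.main hFix5
  have hFix3 : Fix3.{u} := Cfsg.Agent.Lib.Helper71.MUFIX3.main hTwo
  have hStab3 : Stab3.{u} := Cfsg.Agent.Lib.Helper71.MUSTAB3.main hTwo hFix3
  have hFix2 : Fix2.{u} := Cfsg.Agent.Lib.Helper95.MUFIX2.main hConj hStab3
  have hFL : FixLe3.{u} := Cfsg.Agent.Lib.Helper95.MUFIXLE3.main hFix5 hFix3 hFix2
  have hS4 : Sharp4.{u} := Cfsg.Agent.Lib.Helper58.MUSHARP4.main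
  have hTh : Third.{u} := Cfsg.Agent.Lib.Helper52.MUTHIRD.main
  have hSt : SteinerOfThird.{u} := Cfsg.Agent.Lib.Helper58.MUSTEINER.main
  exact Cfsg.Agent.Lib.Helper68.M11UAsm.s0420_of hThree hKer hUniq hReg hSum hFix hCol hCP hCT hCQ
    hOrd hFL hS4 hTh hSt hG d hd p hp

/-- Simple groups of order 7920 are all isomorphic to the concrete smallest Mathieu group. -/
theorem result {G : Type*} [Group G] [Finite G] (hG : Cfsg.IsM11 G) (d : Finset Cfsg.GolayPt) (hd : d ∈ Cfsg.dodecads) (p : Cfsg.GolayPt) (hp : p ∈ d) : Nonempty (G ≃* ↥(MulAction.stabilizer Cfsg.M24 d ⊓ MulAction.stabilizer Cfsg.M24 p)) := by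
  have : IsSimpleGroup G := hG.1
  exact result_aux hG.2 d hd p hp

end Cfsg.Agent.S0420
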