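import Cfsg.Statements.S2490
import Mathlib
import Cfsg.Agent.Lib.Helper71.Graph7920
import Cfsg.Agent.S0215

set_option autoImplicit false
open Cfsg

namespace Cfsg.Agent.S2490

open Subgroup MulAction
open Cfsg.Agent.Lib.Helper17
open Cfsg.Agent.Lib.Helper71.Graph7920

set_option linter.unusedSectionVars false
set_option linter.unusedVariables false

/-- Connectivity of the prime graph on `{2, 3, 5, 11}`, phrased through invariant predicates. -/
def Conn (G : Type*) [Group G] : Prop :=
  ∀ f : ℕ → Prop, (∀ r s : ℕ, r.Prime → s.Prime → r ∣ 7920 → s ∣ 7920 →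
    (∃ g : G, orderOf g = r * s) → (f r ↔ f s)) → ((f 2 ↔ f 3) ∧ (f 2 ↔ f 5) ∧ (f 2 ↔ f 11))

section
variable {G : Type*} [Group G] [Finite G]

theorem c_2 (hord : Nat.card G = 7920) (N : Subgroup G) [N.Normal] (hd : Nat.card N = 2) :
    Conn G := by
  have : Fact (Nat.Prime 2) := ⟨by norm_num⟩
  have : Fact (Nat.Prime 3) := ⟨by norm_num⟩
  have : Fact (Nat.Prime 5) := ⟨by norm_num⟩
  have : Fact (Nat.Prime 11) := ⟨by norm_num⟩
  have e1 : ∃ g : G, orderOf g = 2 * 3 :=
    edge_frat (r := 2) (s := 3) (by decide) N 7920 1 1 1 hord (hd.trans (by decide)) (by decide)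
      (hall_of_dec 1 2 (3 ^ 1) 7920 (by decide) (by decide +kernel)) (by decide)
  have e2 : ∃ g : G, orderOf g = 2 * 5 :=
    edge_frat (r := 2) (s := 5) (by decide) N 7920 1 1 1 hord (hd.trans (by decide)) (by decide)
      (hall_of_dec 1 2 (5 ^ 1) 7920 (by decide) (by decide +kernel)) (by decide)
  have e3 : ∃ g : G, orderOf g = 2 * 11 :=
    edge_frat (r := 2) (s := 11) (by decide) N 7920 1 1 1 hord (hd.trans (by decide)) (by decide)
      (hall_of_dec 1 2 (11 ^ 1) 7920 (by decide) (by decide +kernel)) (by decide)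
  intro f hf
  have h1 := hf 2 3 (by norm_num) (by norm_num) (by norm_num) (by norm_num) e1
  have h2 := hf 2 5 (by norm_num) (by norm_num) (by norm_num) (by norm_num) e2
  have h3 := hf 2 11 (by norm_num) (by norm_num) (by norm_num) (by norm_num) e3
  tauto

theorem c_3 (hord : Nat.card G = 7920) (N : Subgroup G) [N.Normal] (hd : Nat.card N = 3) :
    Conn G := by
  have : Fact (Nat.Prime 2) := ⟨by norm_num⟩
  have : Fact (Nat.Prime 3) := ⟨by norm_num⟩
  have : Fact (Nat.Prime 5) := ⟨by norm_num⟩
  have : Fact (Nat.Prime 11) := ⟨by norm_num⟩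
  have e1 : ∃ g : G, orderOf g = 3 * 2 :=
    edge_frat (r := 3) (s := 2) (by decide) N 7920 1 1 2 hord (hd.trans (by decide)) (by decide)
      (hall_of_dec 1 3 (2 ^ 2) 7920 (by decide) (by decide +kernel)) (by decide)
  have e2 : ∃ g : G, orderOf g = 3 * 5 :=
    edge_frat (r := 3) (s := 5) (by decide) N 7920 1 1 1 hord (hd.trans (by decide)) (by decide)
      (hall_of_dec 1 3 (5 ^ 1) 7920 (by decide) (by decide +kernel)) (by decide)
  have e3 : ∃ g : G, orderOf g = 3 * 11 :=
    edge_frat (r := 3) (s := 11) (by decide) N 7920 1 1 1 hord (hd.trans (by decide)) (by decide)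
      (hall_of_dec 1 3 (11 ^ 1) 7920 (by decide) (by decide +kernel)) (by decide)
  intro f hf
  have h1 := hf 3 2 (by norm_num) (by norm_num) (by norm_num) (by norm_num) e1
  have h2 := hf 3 5 (by norm_num) (by norm_num) (by norm_num) (by norm_num) e2
  have h3 := hf 3 11 (by norm_num) (by norm_num) (by norm_num) (by norm_num) e3
  tauto

theorem c_4 (hord : Nat.card G = 7920) (N : Subgroup G) [N.Normal] (hd : Nat.card N = 4) :
    Conn G := by
  have : Fact (Nat.Prime 2) := ⟨by norm_num⟩
  have : Fact (Nat.Prime 3) := ⟨by norm_num⟩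
  have : Fact (Nat.Prime 5) := ⟨by norm_num⟩
  have : Fact (Nat.Prime 11) := ⟨by norm_num⟩
  have e1 : ∃ g : G, orderOf g = 2 * 3 :=
    edge_frat (r := 2) (s := 3) (by decide) N 7920 2 1 2 hord (hd.trans (by decide)) (by decide)
      (hall_of_dec 1 2 (3 ^ 2) 7920 (by decide) (by decide +kernel)) (by decide)
  have e2 : ∃ g : G, orderOf g = 2 * 5 :=
    edge_frat (r := 2) (s := 5) (by decide) N 7920 2 1 1 hord (hd.trans (by decide)) (by decide)
      (hall_of_dec 1 2 (5 ^ 1) 7920 (by decide) (by decide +kernel)) (by decide)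
  have e3 : ∃ g : G, orderOf g = 2 * 11 :=
    edge_frat (r := 2) (s := 11) (by decide) N 7920 2 1 1 hord (hd.trans (by decide)) (by decide)
      (hall_of_dec 1 2 (11 ^ 1) 7920 (by decide) (by decide +kernel)) (by decide)
  intro f hf
  have h1 := hf 2 3 (by norm_num) (by norm_num) (by norm_num) (by norm_num) e1
  have h2 := hf 2 5 (by norm_num) (by norm_num) (by norm_num) (by norm_num) e2
  have h3 := hf 2 11 (by norm_num) (by norm_num) (by norm_num) (by norm_num) e3
  tauto

theorem c_5 (hord : Nat.card G = 7920) (N : Subgroup G) [N.Normal] (hd : Nat.card N = 5) :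
    Conn G := by
  have : Fact (Nat.Prime 2) := ⟨by norm_num⟩
  have : Fact (Nat.Prime 3) := ⟨by norm_num⟩
  have : Fact (Nat.Prime 5) := ⟨by norm_num⟩
  have : Fact (Nat.Prime 11) := ⟨by norm_num⟩
  have e1 : ∃ g : G, orderOf g = 5 * 2 :=
    edge_frat (r := 5) (s := 2) (by decide) N 7920 1 1 3 hord (hd.trans (by decide)) (by decide)
      (hall_of_dec 1 5 (2 ^ 3) 7920 (by decide) (by decide +kernel)) (by decide)
  have e2 : ∃ g : G, orderOf g = 5 * 3 :=
    edge_frat (r := 5) (s := 3) (by decide) N 7920 1 1 1 hord (hd.trans (by decide)) (by decide)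
      (hall_of_dec 1 5 (3 ^ 1) 7920 (by decide) (by decide +kernel)) (by decide)
  have e3 : ∃ g : G, orderOf g = 5 * 11 :=
    edge_frat (r := 5) (s := 11) (by decide) N 7920 1 1 1 hord (hd.trans (by decide)) (by decide)
      (hall_of_dec 1 5 (11 ^ 1) 7920 (by decide) (by decide +kernel)) (by decide)
  intro f hf
  have h1 := hf 5 2 (by norm_num) (by norm_num) (by norm_num) (by norm_num) e1
  have h2 := hf 5 3 (by norm_num) (by norm_num) (by norm_num) (by norm_num) e2
  have h3 := hf 5 11 (by norm_num) (by norm_num) (by norm_num) (by norm_num) e3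
  tauto

theorem c_6 (hord : Nat.card G = 7920) (N : Subgroup G) [N.Normal] (hd : Nat.card N = 6) :
    Conn G := by
  have : Fact (Nat.Prime 2) := ⟨by norm_num⟩
  have : Fact (Nat.Prime 3) := ⟨by norm_num⟩
  have : Fact (Nat.Prime 5) := ⟨by norm_num⟩
  have : Fact (Nat.Prime 11) := ⟨by norm_num⟩
  have e1 : ∃ g : G, orderOf g = 3 * 2 :=
    edge_frat (r := 3) (s := 2) (by decide) N 7920 1 2 2 hord (hd.trans (by decide)) (by decide)
      (hall_of_dec 2 3 (2 ^ 2) 7920 (by decide) (by decide +kernel)) (by decide)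
  have e2 : ∃ g : G, orderOf g = 3 * 5 :=
    edge_frat (r := 3) (s := 5) (by decide) N 7920 1 2 1 hord (hd.trans (by decide)) (by decide)
      (hall_of_dec 2 3 (5 ^ 1) 7920 (by decide) (by decide +kernel)) (by decide)
  have e3 : ∃ g : G, orderOf g = 3 * 11 :=
    edge_frat (r := 3) (s := 11) (by decide) N 7920 1 2 1 hord (hd.trans (by decide)) (by decide)
      (hall_of_dec 2 3 (11 ^ 1) 7920 (by decide) (by decide +kernel)) (by decide)
  intro f hf
  have h1 := hf 3 2 (by norm_num) (by norm_num) (by norm_num) (by norm_num) e1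
  have h2 := hf 3 5 (by norm_num) (by norm_num) (by norm_num) (by norm_num) e2
  have h3 := hf 3 11 (by norm_num) (by norm_num) (by norm_num) (by norm_num) e3
  tauto

theorem c_8 (hord : Nat.card G = 7920) (N : Subgroup G) [N.Normal] (hd : Nat.card N = 8) :
    Conn G := by
  have : Fact (Nat.Prime 2) := ⟨by norm_num⟩
  have : Fact (Nat.Prime 3) := ⟨by norm_num⟩
  have : Fact (Nat.Prime 5) := ⟨by norm_num⟩
  have : Fact (Nat.Prime 11) := ⟨by norm_num⟩
  have e1 : ∃ g : G, orderOf g = 2 * 3 :=
    edge_frat (r := 2) (s := 3) (by decide) N 7920 3 1 1 hord (hd.trans (by decide)) (by decide)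
      (hall_of_dec 1 2 (3 ^ 1) 7920 (by decide) (by decide +kernel)) (by decide)
  have e2 : ∃ g : G, orderOf g = 2 * 5 :=
    edge_frat (r := 2) (s := 5) (by decide) N 7920 3 1 1 hord (hd.trans (by decide)) (by decide)
      (hall_of_dec 1 2 (5 ^ 1) 7920 (by decide) (by decide +kernel)) (by decide)
  have e3 : ∃ g : G, orderOf g = 2 * 11 :=
    edge_frat (r := 2) (s := 11) (by decide) N 7920 3 1 1 hord (hd.trans (by decide)) (by decide)
      (hall_of_dec 1 2 (11 ^ 1) 7920 (by decide) (by decide +kernel)) (by decide)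
  intro f hf
  have h1 := hf 2 3 (by norm_num) (by norm_num) (by norm_num) (by norm_num) e1
  have h2 := hf 2 5 (by norm_num) (by norm_num) (by norm_num) (by norm_num) e2
  have h3 := hf 2 11 (by norm_num) (by norm_num) (by norm_num) (by norm_num) e3
  tauto

theorem c_9 (hord : Nat.card G = 7920) (N : Subgroup G) [N.Normal] (hd : Nat.card N = 9) :
    Conn G := by
  have : Fact (Nat.Prime 2) := ⟨by norm_num⟩
  have : Fact (Nat.Prime 3) := ⟨by norm_num⟩
  have : Fact (Nat.Prime 5) := ⟨by norm_num⟩
  have : Fact (Nat.Prime 11) := ⟨by norm_num⟩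
  have e1 : ∃ g : G, orderOf g = 3 * 2 :=
    edge_frat (r := 3) (s := 2) (by decide) N 7920 2 1 4 hord (hd.trans (by decide)) (by decide)
      (hall_of_dec 1 3 (2 ^ 4) 7920 (by decide) (by decide +kernel)) (by decide)
  have e2 : ∃ g : G, orderOf g = 3 * 5 :=
    edge_frat (r := 3) (s := 5) (by decide) N 7920 2 1 1 hord (hd.trans (by decide)) (by decide)
      (hall_of_dec 1 3 (5 ^ 1) 7920 (by decide) (by decide +kernel)) (by decide)
  have e3 : ∃ g : G, orderOf g = 3 * 11 :=
    edge_frat (r := 3) (s := 11) (by decide) N 7920 2 1 1 hord (hd.trans (by decide)) (by decide)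
      (hall_of_dec 1 3 (11 ^ 1) 7920 (by decide) (by decide +kernel)) (by decide)
  intro f hf
  have h1 := hf 3 2 (by norm_num) (by norm_num) (by norm_num) (by norm_num) e1
  have h2 := hf 3 5 (by norm_num) (by norm_num) (by norm_num) (by norm_num) e2
  have h3 := hf 3 11 (by norm_num) (by norm_num) (by norm_num) (by norm_num) e3
  tauto

theorem c_10 (hord : Nat.card G = 7920) (N : Subgroup G) [N.Normal] (hd : Nat.card N = 10) :
    Conn G := by
  have : Fact (Nat.Prime 2) := ⟨by norm_num⟩
  have : Fact (Nat.Prime 3) := ⟨by norm_num⟩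
  have : Fact (Nat.Prime 5) := ⟨by norm_num⟩
  have : Fact (Nat.Prime 11) := ⟨by norm_num⟩
  have e1 : ∃ g : G, orderOf g = 5 * 2 :=
    edge_frat (r := 5) (s := 2) (by decide) N 7920 1 2 3 hord (hd.trans (by decide)) (by decide)
      (hall_of_dec 2 5 (2 ^ 3) 7920 (by decide) (by decide +kernel)) (by decide)
  have e2 : ∃ g : G, orderOf g = 5 * 3 :=
    edge_frat (r := 5) (s := 3) (by decide) N 7920 1 2 1 hord (hd.trans (by decide)) (by decide)
      (hall_of_dec 2 5 (3 ^ 1) 7920 (by decide) (by decide +kernel)) (by decide)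
  have e3 : ∃ g : G, orderOf g = 5 * 11 :=
    edge_frat (r := 5) (s := 11) (by decide) N 7920 1 2 1 hord (hd.trans (by decide)) (by decide)
      (hall_of_dec 2 5 (11 ^ 1) 7920 (by decide) (by decide +kernel)) (by decide)
  intro f hf
  have h1 := hf 5 2 (by norm_num) (by norm_num) (by norm_num) (by norm_num) e1
  have h2 := hf 5 3 (by norm_num) (by norm_num) (by norm_num) (by norm_num) e2
  have h3 := hf 5 11 (by norm_num) (by norm_num) (by norm_num) (by norm_num) e3
  tauto

theorem c_12 (hord : Nat.card G = 7920) (N : Subgroup G) [N.Normal] (hd : Nat.card N = 12) :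
    Conn G := by
  have : Fact (Nat.Prime 2) := ⟨by norm_num⟩
  have : Fact (Nat.Prime 3) := ⟨by norm_num⟩
  have : Fact (Nat.Prime 5) := ⟨by norm_num⟩
  have : Fact (Nat.Prime 11) := ⟨by norm_num⟩
  have e1 : ∃ g : G, orderOf g = 2 * 5 :=
    edge_frat (r := 2) (s := 5) (by decide) N 7920 2 3 1 hord (hd.trans (by decide)) (by decide)
      (hall_of_dec 3 2 (5 ^ 1) 7920 (by decide) (by decide +kernel)) (by decide)
  have e2 : ∃ g : G, orderOf g = 2 * 11 :=
    edge_frat (r := 2) (s := 11) (by decide) N 7920 2 3 1 hord (hd.trans (by decide)) (by decide)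
      (hall_of_dec 3 2 (11 ^ 1) 7920 (by decide) (by decide +kernel)) (by decide)
  have e3 : ∃ g : G, orderOf g = 3 * 2 :=
    edge_frat (r := 3) (s := 2) (by decide) N 7920 1 4 2 hord (hd.trans (by decide)) (by decide)
      (hall_of_dec 4 3 (2 ^ 2) 7920 (by decide) (by decide +kernel)) (by decide)
  intro f hf
  have h1 := hf 2 5 (by norm_num) (by norm_num) (by norm_num) (by norm_num) e1
  have h2 := hf 2 11 (by norm_num) (by norm_num) (by norm_num) (by norm_num) e2
  have h3 := hf 3 2 (by norm_num) (by norm_num) (by norm_num) (by norm_num) e3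
  tauto

theorem c_15 (hord : Nat.card G = 7920) (N : Subgroup G) [N.Normal] (hd : Nat.card N = 15) :
    Conn G := by
  have : Fact (Nat.Prime 2) := ⟨by norm_num⟩
  have : Fact (Nat.Prime 3) := ⟨by norm_num⟩
  have : Fact (Nat.Prime 5) := ⟨by norm_num⟩
  have : Fact (Nat.Prime 11) := ⟨by norm_num⟩
  have e1 : ∃ g : G, orderOf g = 5 * 3 :=
    edge_frat (r := 5) (s := 3) (by decide) N 7920 1 3 1 hord (hd.trans (by decide)) (by decide)
      (hall_of_dec 3 5 (3 ^ 1) 7920 (by decide) (by decide +kernel)) (by decide)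
  have e2 : ∃ g : G, orderOf g = 5 * 2 :=
    edge_frat (r := 5) (s := 2) (by decide) N 7920 1 3 3 hord (hd.trans (by decide)) (by decide)
      (hall_of_dec 3 5 (2 ^ 3) 7920 (by decide) (by decide +kernel)) (by decide)
  have e3 : ∃ g : G, orderOf g = 5 * 11 :=
    edge_frat (r := 5) (s := 11) (by decide) N 7920 1 3 1 hord (hd.trans (by decide)) (by decide)
      (hall_of_dec 3 5 (11 ^ 1) 7920 (by decide) (by decide +kernel)) (by decide)
  intro f hf
  have h1 := hf 5 3 (by norm_num) (by norm_num) (by norm_num) (by norm_num) e1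
  have h2 := hf 5 2 (by norm_num) (by norm_num) (by norm_num) (by norm_num) e2
  have h3 := hf 5 11 (by norm_num) (by norm_num) (by norm_num) (by norm_num) e3
  tauto

theorem c_18 (hord : Nat.card G = 7920) (N : Subgroup G) [N.Normal] (hd : Nat.card N = 18) :
    Conn G := by
  have : Fact (Nat.Prime 2) := ⟨by norm_num⟩
  have : Fact (Nat.Prime 3) := ⟨by norm_num⟩
  have : Fact (Nat.Prime 5) := ⟨by norm_num⟩
  have : Fact (Nat.Prime 11) := ⟨by norm_num⟩
  have e1 : ∃ g : G, orderOf g = 3 * 2 :=
    edge_frat (r := 3) (s := 2) (by decide) N 7920 2 2 4 hord (hd.trans (by decide)) (by decide)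
      (hall_of_dec 2 3 (2 ^ 4) 7920 (by decide) (by decide +kernel)) (by decide)
  have e2 : ∃ g : G, orderOf g = 3 * 5 :=
    edge_frat (r := 3) (s := 5) (by decide) N 7920 2 2 1 hord (hd.trans (by decide)) (by decide)
      (hall_of_dec 2 3 (5 ^ 1) 7920 (by decide) (by decide +kernel)) (by decide)
  have e3 : ∃ g : G, orderOf g = 3 * 11 :=
    edge_frat (r := 3) (s := 11) (by decide) N 7920 2 2 1 hord (hd.trans (by decide)) (by decide)
      (hall_of_dec 2 3 (11 ^ 1) 7920 (by decide) (by decide +kernel)) (by decide)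
  intro f hf
  have h1 := hf 3 2 (by norm_num) (by norm_num) (by norm_num) (by norm_num) e1
  have h2 := hf 3 5 (by norm_num) (by norm_num) (by norm_num) (by norm_num) e2
  have h3 := hf 3 11 (by norm_num) (by norm_num) (by norm_num) (by norm_num) e3
  tauto

theorem c_20 (hord : Nat.card G = 7920) (N : Subgroup G) [N.Normal] (hd : Nat.card N = 20) :
    Conn G := by
  have : Fact (Nat.Prime 2) := ⟨by norm_num⟩
  have : Fact (Nat.Prime 3) := ⟨by norm_num⟩
  have : Fact (Nat.Prime 5) := ⟨by norm_num⟩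
  have : Fact (Nat.Prime 11) := ⟨by norm_num⟩
  have e1 : ∃ g : G, orderOf g = 5 * 2 :=
    edge_frat (r := 5) (s := 2) (by decide) N 7920 1 4 3 hord (hd.trans (by decide)) (by decide)
      (hall_of_dec 4 5 (2 ^ 3) 7920 (by decide) (by decide +kernel)) (by decide)
  have e2 : ∃ g : G, orderOf g = 5 * 3 :=
    edge_frat (r := 5) (s := 3) (by decide) N 7920 1 4 1 hord (hd.trans (by decide)) (by decide)
      (hall_of_dec 4 5 (3 ^ 1) 7920 (by decide) (by decide +kernel)) (by decide)
  have e3 : ∃ g : G, orderOf g = 5 * 11 :=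
    edge_frat (r := 5) (s := 11) (by decide) N 7920 1 4 1 hord (hd.trans (by decide)) (by decide)
      (hall_of_dec 4 5 (11 ^ 1) 7920 (by decide) (by decide +kernel)) (by decide)
  intro f hf
  have h1 := hf 5 2 (by norm_num) (by norm_num) (by norm_num) (by norm_num) e1
  have h2 := hf 5 3 (by norm_num) (by norm_num) (by norm_num) (by norm_num) e2
  have h3 := hf 5 11 (by norm_num) (by norm_num) (by norm_num) (by norm_num) e3
  tauto

theorem c_22 (hord : Nat.card G = 7920) (N : Subgroup G) [N.Normal] (hd : Nat.card N = 22) :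
    Conn G := by
  have : Fact (Nat.Prime 2) := ⟨by norm_num⟩
  have : Fact (Nat.Prime 3) := ⟨by norm_num⟩
  have : Fact (Nat.Prime 5) := ⟨by norm_num⟩
  have : Fact (Nat.Prime 11) := ⟨by norm_num⟩
  have e1 : ∃ g : G, orderOf g = 11 * 2 :=
    edge_frat (r := 11) (s := 2) (by decide) N 7920 1 2 2 hord (hd.trans (by decide)) (by decide)
      (hall_of_dec 2 11 (2 ^ 2) 7920 (by decide) (by decide +kernel)) (by decide)
  have e2 : ∃ g : G, orderOf g = 11 * 3 :=
    edge_frat (r := 11) (s := 3) (by decide) N 7920 1 2 1 hord (hd.trans (by decide)) (by decide)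
      (hall_of_dec 2 11 (3 ^ 1) 7920 (by decide) (by decide +kernel)) (by decide)
  have e3 : ∃ g : G, orderOf g = 2 * 5 :=
    edge_frat (r := 2) (s := 5) (by decide) N 7920 1 11 1 hord (hd.trans (by decide)) (by decide)
      (hall_of_dec 11 2 (5 ^ 1) 7920 (by decide) (by decide +kernel)) (by decide)
  intro f hf
  have h1 := hf 11 2 (by norm_num) (by norm_num) (by norm_num) (by norm_num) e1
  have h2 := hf 11 3 (by norm_num) (by norm_num) (by norm_num) (by norm_num) e2
  have h3 := hf 2 5 (by norm_num) (by norm_num) (by norm_num) (by norm_num) e3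
  tauto

theorem c_24 (hord : Nat.card G = 7920) (N : Subgroup G) [N.Normal] (hd : Nat.card N = 24) :
    Conn G := by
  have : Fact (Nat.Prime 2) := ⟨by norm_num⟩
  have : Fact (Nat.Prime 3) := ⟨by norm_num⟩
  have : Fact (Nat.Prime 5) := ⟨by norm_num⟩
  have : Fact (Nat.Prime 11) := ⟨by norm_num⟩
  have e1 : ∃ g : G, orderOf g = 2 * 3 :=
    edge_frat (r := 2) (s := 3) (by decide) N 7920 3 3 1 hord (hd.trans (by decide)) (by decide)
      (hall_of_dec 3 2 (3 ^ 1) 7920 (by decide) (by decide +kernel)) (by decide)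
  have e2 : ∃ g : G, orderOf g = 2 * 5 :=
    edge_frat (r := 2) (s := 5) (by decide) N 7920 3 3 1 hord (hd.trans (by decide)) (by decide)
      (hall_of_dec 3 2 (5 ^ 1) 7920 (by decide) (by decide +kernel)) (by decide)
  have e3 : ∃ g : G, orderOf g = 2 * 11 :=
    edge_frat (r := 2) (s := 11) (by decide) N 7920 3 3 1 hord (hd.trans (by decide)) (by decide)
      (hall_of_dec 3 2 (11 ^ 1) 7920 (by decide) (by decide +kernel)) (by decide)
  intro f hf
  have h1 := hf 2 3 (by norm_num) (by norm_num) (by norm_num) (by norm_num) e1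
  have h2 := hf 2 5 (by norm_num) (by norm_num) (by norm_num) (by norm_num) e2
  have h3 := hf 2 11 (by norm_num) (by norm_num) (by norm_num) (by norm_num) e3
  tauto

theorem c_30 (hord : Nat.card G = 7920) (N : Subgroup G) [N.Normal] (hd : Nat.card N = 30) :
    Conn G := by
  have : Fact (Nat.Prime 2) := ⟨by norm_num⟩
  have : Fact (Nat.Prime 3) := ⟨by norm_num⟩
  have : Fact (Nat.Prime 5) := ⟨by norm_num⟩
  have : Fact (Nat.Prime 11) := ⟨by norm_num⟩
  have e1 : ∃ g : G, orderOf g = 5 * 2 :=
    edge_frat (r := 5) (s := 2) (by decide) N 7920 1 6 3 hord (hd.trans (by decide)) (by decide)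
      (hall_of_dec 6 5 (2 ^ 3) 7920 (by decide) (by decide +kernel)) (by decide)
  have e2 : ∃ g : G, orderOf g = 5 * 3 :=
    edge_frat (r := 5) (s := 3) (by decide) N 7920 1 6 1 hord (hd.trans (by decide)) (by decide)
      (hall_of_dec 6 5 (3 ^ 1) 7920 (by decide) (by decide +kernel)) (by decide)
  have e3 : ∃ g : G, orderOf g = 5 * 11 :=
    edge_frat (r := 5) (s := 11) (by decide) N 7920 1 6 1 hord (hd.trans (by decide)) (by decide)
      (hall_of_dec 6 5 (11 ^ 1) 7920 (by decide) (by decide +kernel)) (by decide)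
  intro f hf
  have h1 := hf 5 2 (by norm_num) (by norm_num) (by norm_num) (by norm_num) e1
  have h2 := hf 5 3 (by norm_num) (by norm_num) (by norm_num) (by norm_num) e2
  have h3 := hf 5 11 (by norm_num) (by norm_num) (by norm_num) (by norm_num) e3
  tauto

theorem c_33 (hord : Nat.card G = 7920) (N : Subgroup G) [N.Normal] (hd : Nat.card N = 33) :
    Conn G := by
  have : Fact (Nat.Prime 2) := ⟨by norm_num⟩
  have : Fact (Nat.Prime 3) := ⟨by norm_num⟩
  have : Fact (Nat.Prime 5) := ⟨by norm_num⟩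
  have : Fact (Nat.Prime 11) := ⟨by norm_num⟩
  have e1 : ∃ g : G, orderOf g = 11 * 3 :=
    edge_frat (r := 11) (s := 3) (by decide) N 7920 1 3 1 hord (hd.trans (by decide)) (by decide)
      (hall_of_dec 3 11 (3 ^ 1) 7920 (by decide) (by decide +kernel)) (by decide)
  have e2 : ∃ g : G, orderOf g = 11 * 2 :=
    edge_frat (r := 11) (s := 2) (by decide) N 7920 1 3 2 hord (hd.trans (by decide)) (by decide)
      (hall_of_dec 3 11 (2 ^ 2) 7920 (by decide) (by decide +kernel)) (by decide)
  have e3 : ∃ g : G, orderOf g = 3 * 5 :=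
    edge_frat (r := 3) (s := 5) (by decide) N 7920 1 11 1 hord (hd.trans (by decide)) (by decide)
      (hall_of_dec 11 3 (5 ^ 1) 7920 (by decide) (by decide +kernel)) (by decide)
  intro f hf
  have h1 := hf 11 3 (by norm_num) (by norm_num) (by norm_num) (by norm_num) e1
  have h2 := hf 11 2 (by norm_num) (by norm_num) (by norm_num) (by norm_num) e2
  have h3 := hf 3 5 (by norm_num) (by norm_num) (by norm_num) (by norm_num) e3
  tauto

theorem c_36 (hord : Nat.card G = 7920) (N : Subgroup G) [N.Normal] (hd : Nat.card N = 36) :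
    Conn G := by
  have : Fact (Nat.Prime 2) := ⟨by norm_num⟩
  have : Fact (Nat.Prime 3) := ⟨by norm_num⟩
  have : Fact (Nat.Prime 5) := ⟨by norm_num⟩
  have : Fact (Nat.Prime 11) := ⟨by norm_num⟩
  have e1 : ∃ g : G, orderOf g = 3 * 5 :=
    edge_frat (r := 3) (s := 5) (by decide) N 7920 2 4 1 hord (hd.trans (by decide)) (by decide)
      (hall_of_dec 4 3 (5 ^ 1) 7920 (by decide) (by decide +kernel)) (by decide)
  have e2 : ∃ g : G, orderOf g = 3 * 11 :=
    edge_frat (r := 3) (s := 11) (by decide) N 7920 2 4 1 hord (hd.trans (by decide)) (by decide)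
      (hall_of_dec 4 3 (11 ^ 1) 7920 (by decide) (by decide +kernel)) (by decide)
  have e3 : ∃ g : G, orderOf g = 2 * 5 :=
    edge_frat (r := 2) (s := 5) (by decide) N 7920 2 9 1 hord (hd.trans (by decide)) (by decide)
      (hall_of_dec 9 2 (5 ^ 1) 7920 (by decide) (by decide +kernel)) (by decide)
  intro f hf
  have h1 := hf 3 5 (by norm_num) (by norm_num) (by norm_num) (by norm_num) e1
  have h2 := hf 3 11 (by norm_num) (by norm_num) (by norm_num) (by norm_num) e2
  have h3 := hf 2 5 (by norm_num) (by norm_num) (by norm_num) (by norm_num) e3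
  tauto

theorem c_40 (hord : Nat.card G = 7920) (N : Subgroup G) [N.Normal] (hd : Nat.card N = 40) :
    Conn G := by
  have : Fact (Nat.Prime 2) := ⟨by norm_num⟩
  have : Fact (Nat.Prime 3) := ⟨by norm_num⟩
  have : Fact (Nat.Prime 5) := ⟨by norm_num⟩
  have : Fact (Nat.Prime 11) := ⟨by norm_num⟩
  have e1 : ∃ g : G, orderOf g = 2 * 3 :=
    edge_frat (r := 2) (s := 3) (by decide) N 7920 3 5 1 hord (hd.trans (by decide)) (by decide)
      (hall_of_dec 5 2 (3 ^ 1) 7920 (by decide) (by decide +kernel)) (by decide)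
  have e2 : ∃ g : G, orderOf g = 2 * 11 :=
    edge_frat (r := 2) (s := 11) (by decide) N 7920 3 5 1 hord (hd.trans (by decide)) (by decide)
      (hall_of_dec 5 2 (11 ^ 1) 7920 (by decide) (by decide +kernel)) (by decide)
  have e3 : ∃ g : G, orderOf g = 5 * 2 :=
    edge_frat (r := 5) (s := 2) (by decide) N 7920 1 8 3 hord (hd.trans (by decide)) (by decide)
      (hall_of_dec 8 5 (2 ^ 3) 7920 (by decide) (by decide +kernel)) (by decide)
  intro f hf
  have h1 := hf 2 3 (by norm_num) (by norm_num) (by norm_num) (by norm_num) e1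
  have h2 := hf 2 11 (by norm_num) (by norm_num) (by norm_num) (by norm_num) e2
  have h3 := hf 5 2 (by norm_num) (by norm_num) (by norm_num) (by norm_num) e3
  tauto

theorem c_44 (hord : Nat.card G = 7920) (N : Subgroup G) [N.Normal] (hd : Nat.card N = 44) :
    Conn G := by
  have : Fact (Nat.Prime 2) := ⟨by norm_num⟩
  have : Fact (Nat.Prime 3) := ⟨by norm_num⟩
  have : Fact (Nat.Prime 5) := ⟨by norm_num⟩
  have : Fact (Nat.Prime 11) := ⟨by norm_num⟩
  have e1 : ∃ g : G, orderOf g = 11 * 2 :=
    edge_frat (r := 11) (s := 2) (by decide) N 7920 1 4 2 hord (hd.trans (by decide)) (by decide)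
      (hall_of_dec 4 11 (2 ^ 2) 7920 (by decide) (by decide +kernel)) (by decide)
  have e2 : ∃ g : G, orderOf g = 11 * 3 :=
    edge_frat (r := 11) (s := 3) (by decide) N 7920 1 4 1 hord (hd.trans (by decide)) (by decide)
      (hall_of_dec 4 11 (3 ^ 1) 7920 (by decide) (by decide +kernel)) (by decide)
  have e3 : ∃ g : G, orderOf g = 2 * 5 :=
    edge_frat (r := 2) (s := 5) (by decide) N 7920 2 11 1 hord (hd.trans (by decide)) (by decide)
      (hall_of_dec 11 2 (5 ^ 1) 7920 (by decide) (by decide +kernel)) (by decide)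
  intro f hf
  have h1 := hf 11 2 (by norm_num) (by norm_num) (by norm_num) (by norm_num) e1
  have h2 := hf 11 3 (by norm_num) (by norm_num) (by norm_num) (by norm_num) e2
  have h3 := hf 2 5 (by norm_num) (by norm_num) (by norm_num) (by norm_num) e3
  tauto

theorem c_45 (hord : Nat.card G = 7920) (N : Subgroup G) [N.Normal] (hd : Nat.card N = 45) :
    Conn G := by
  have : Fact (Nat.Prime 2) := ⟨by norm_num⟩
  have : Fact (Nat.Prime 3) := ⟨by norm_num⟩
  have : Fact (Nat.Prime 5) := ⟨by norm_num⟩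
  have : Fact (Nat.Prime 11) := ⟨by norm_num⟩
  have e1 : ∃ g : G, orderOf g = 3 * 2 :=
    edge_frat (r := 3) (s := 2) (by decide) N 7920 2 5 4 hord (hd.trans (by decide)) (by decide)
      (hall_of_dec 5 3 (2 ^ 4) 7920 (by decide) (by decide +kernel)) (by decide)
  have e2 : ∃ g : G, orderOf g = 3 * 5 :=
    edge_frat (r := 3) (s := 5) (by decide) N 7920 2 5 1 hord (hd.trans (by decide)) (by decide)
      (hall_of_dec 5 3 (5 ^ 1) 7920 (by decide) (by decide +kernel)) (by decide)
  have e3 : ∃ g : G, orderOf g = 3 * 11 :=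
    edge_frat (r := 3) (s := 11) (by decide) N 7920 2 5 1 hord (hd.trans (by decide)) (by decide)
      (hall_of_dec 5 3 (11 ^ 1) 7920 (by decide) (by decide +kernel)) (by decide)
  intro f hf
  have h1 := hf 3 2 (by norm_num) (by norm_num) (by norm_num) (by norm_num) e1
  have h2 := hf 3 5 (by norm_num) (by norm_num) (by norm_num) (by norm_num) e2
  have h3 := hf 3 11 (by norm_num) (by norm_num) (by norm_num) (by norm_num) e3
  tauto

theorem c_48 (hord : Nat.card G = 7920) (N : Subgroup G) [N.Normal] (hd : Nat.card N = 48) :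
    Conn G := by
  have : Fact (Nat.Prime 2) := ⟨by norm_num⟩
  have : Fact (Nat.Prime 3) := ⟨by norm_num⟩
  have : Fact (Nat.Prime 5) := ⟨by norm_num⟩
  have : Fact (Nat.Prime 11) := ⟨by norm_num⟩
  have e1 : ∃ g : G, orderOf g = 2 * 11 :=
    edge_frat (r := 2) (s := 11) (by decide) N 7920 4 3 1 hord (hd.trans (by decide)) (by decide)
      (hall_of_dec 3 2 (11 ^ 1) 7920 (by decide) (by decide +kernel)) (by decide)
  have e2 : ∃ g : G, orderOf g = 3 * 5 :=
    edge_frat (r := 3) (s := 5) (by decide) N 7920 1 16 1 hord (hd.trans (by decide)) (by decide)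
      (hall_of_dec 16 3 (5 ^ 1) 7920 (by decide) (by decide +kernel)) (by decide)
  have e3 : ∃ g : G, orderOf g = 3 * 11 :=
    edge_frat (r := 3) (s := 11) (by decide) N 7920 1 16 1 hord (hd.trans (by decide)) (by decide)
      (hall_of_dec 16 3 (11 ^ 1) 7920 (by decide) (by decide +kernel)) (by decide)
  intro f hf
  have h1 := hf 2 11 (by norm_num) (by norm_num) (by norm_num) (by norm_num) e1
  have h2 := hf 3 5 (by norm_num) (by norm_num) (by norm_num) (by norm_num) e2
  have h3 := hf 3 11 (by norm_num) (by norm_num) (by norm_num) (by norm_num) e3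
  tauto

theorem c_55 (hord : Nat.card G = 7920) (N : Subgroup G) [N.Normal] (hd : Nat.card N = 55) :
    Conn G := by
  have : Fact (Nat.Prime 2) := ⟨by norm_num⟩
  have : Fact (Nat.Prime 3) := ⟨by norm_num⟩
  have : Fact (Nat.Prime 5) := ⟨by norm_num⟩
  have : Fact (Nat.Prime 11) := ⟨by norm_num⟩
  have e1 : ∃ g : G, orderOf g = 11 * 2 :=
    edge_frat (r := 11) (s := 2) (by decide) N 7920 1 5 2 hord (hd.trans (by decide)) (by decide)
      (hall_of_dec 5 11 (2 ^ 2) 7920 (by decide) (by decide +kernel)) (by decide)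
  have e2 : ∃ g : G, orderOf g = 11 * 3 :=
    edge_frat (r := 11) (s := 3) (by decide) N 7920 1 5 1 hord (hd.trans (by decide)) (by decide)
      (hall_of_dec 5 11 (3 ^ 1) 7920 (by decide) (by decide +kernel)) (by decide)
  have e3 : ∃ g : G, orderOf g = 5 * 2 :=
    edge_frat (r := 5) (s := 2) (by decide) N 7920 1 11 3 hord (hd.trans (by decide)) (by decide)
      (hall_of_dec 11 5 (2 ^ 3) 7920 (by decide) (by decide +kernel)) (by decide)
  intro f hf
  have h1 := hf 11 2 (by norm_num) (by norm_num) (by norm_num) (by norm_num) e1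
  have h2 := hf 11 3 (by norm_num) (by norm_num) (by norm_num) (by norm_num) e2
  have h3 := hf 5 2 (by norm_num) (by norm_num) (by norm_num) (by norm_num) e3
  tauto

theorem c_60 (hord : Nat.card G = 7920) (N : Subgroup G) [N.Normal] (hd : Nat.card N = 60) :
    Conn G := by
  have : Fact (Nat.Prime 2) := ⟨by norm_num⟩
  have : Fact (Nat.Prime 3) := ⟨by norm_num⟩
  have : Fact (Nat.Prime 5) := ⟨by norm_num⟩
  have : Fact (Nat.Prime 11) := ⟨by norm_num⟩
  have e1 : ∃ g : G, orderOf g = 5 * 2 :=
    edge_frat (r := 5) (s := 2) (by decide) N 7920 1 12 3 hord (hd.trans (by decide)) (by decide)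
      (hall_of_dec 12 5 (2 ^ 3) 7920 (by decide) (by decide +kernel)) (by decide)
  have e2 : ∃ g : G, orderOf g = 5 * 3 :=
    edge_frat (r := 5) (s := 3) (by decide) N 7920 1 12 1 hord (hd.trans (by decide)) (by decide)
      (hall_of_dec 12 5 (3 ^ 1) 7920 (by decide) (by decide +kernel)) (by decide)
  have e3 : ∃ g : G, orderOf g = 5 * 11 :=
    edge_frat (r := 5) (s := 11) (by decide) N 7920 1 12 1 hord (hd.trans (by decide)) (by decide)
      (hall_of_dec 12 5 (11 ^ 1) 7920 (by decide) (by decide +kernel)) (by decide)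
  intro f hf
  have h1 := hf 5 2 (by norm_num) (by norm_num) (by norm_num) (by norm_num) e1
  have h2 := hf 5 3 (by norm_num) (by norm_num) (by norm_num) (by norm_num) e2
  have h3 := hf 5 11 (by norm_num) (by norm_num) (by norm_num) (by norm_num) e3
  tauto

theorem c_66 (hord : Nat.card G = 7920) (N : Subgroup G) [N.Normal] (hd : Nat.card N = 66) :
    Conn G := by
  have : Fact (Nat.Prime 2) := ⟨by norm_num⟩
  have : Fact (Nat.Prime 3) := ⟨by norm_num⟩
  have : Fact (Nat.Prime 5) := ⟨by norm_num⟩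
  have : Fact (Nat.Prime 11) := ⟨by norm_num⟩
  have e1 : ∃ g : G, orderOf g = 11 * 2 :=
    edge_frat (r := 11) (s := 2) (by decide) N 7920 1 6 2 hord (hd.trans (by decide)) (by decide)
      (hall_of_dec 6 11 (2 ^ 2) 7920 (by decide) (by decide +kernel)) (by decide)
  have e2 : ∃ g : G, orderOf g = 11 * 3 :=
    edge_frat (r := 11) (s := 3) (by decide) N 7920 1 6 1 hord (hd.trans (by decide)) (by decide)
      (hall_of_dec 6 11 (3 ^ 1) 7920 (by decide) (by decide +kernel)) (by decide)
  have e3 : ∃ g : G, orderOf g = 3 * 5 :=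
    edge_frat (r := 3) (s := 5) (by decide) N 7920 1 22 1 hord (hd.trans (by decide)) (by decide)
      (hall_of_dec 22 3 (5 ^ 1) 7920 (by decide) (by decide +kernel)) (by decide)
  intro f hf
  have h1 := hf 11 2 (by norm_num) (by norm_num) (by norm_num) (by norm_num) e1
  have h2 := hf 11 3 (by norm_num) (by norm_num) (by norm_num) (by norm_num) e2
  have h3 := hf 3 5 (by norm_num) (by norm_num) (by norm_num) (by norm_num) e3
  tauto

theorem c_72 (hord : Nat.card G = 7920) (N : Subgroup G) [N.Normal] (hd : Nat.card N = 72) :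
    Conn G := by
  have : Fact (Nat.Prime 2) := ⟨by norm_num⟩
  have : Fact (Nat.Prime 3) := ⟨by norm_num⟩
  have : Fact (Nat.Prime 5) := ⟨by norm_num⟩
  have : Fact (Nat.Prime 11) := ⟨by norm_num⟩
  have e1 : ∃ g : G, orderOf g = 3 * 5 :=
    edge_frat (r := 3) (s := 5) (by decide) N 7920 2 8 1 hord (hd.trans (by decide)) (by decide)
      (hall_of_dec 8 3 (5 ^ 1) 7920 (by decide) (by decide +kernel)) (by decide)
  have e2 : ∃ g : G, orderOf g = 3 * 11 :=
    edge_frat (r := 3) (s := 11) (by decide) N 7920 2 8 1 hord (hd.trans (by decide)) (by decide)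
      (hall_of_dec 8 3 (11 ^ 1) 7920 (by decide) (by decide +kernel)) (by decide)
  have e3 : ∃ g : G, orderOf g = 2 * 5 :=
    edge_frat (r := 2) (s := 5) (by decide) N 7920 3 9 1 hord (hd.trans (by decide)) (by decide)
      (hall_of_dec 9 2 (5 ^ 1) 7920 (by decide) (by decide +kernel)) (by decide)
  intro f hf
  have h1 := hf 3 5 (by norm_num) (by norm_num) (by norm_num) (by norm_num) e1
  have h2 := hf 3 11 (by norm_num) (by norm_num) (by norm_num) (by norm_num) e2
  have h3 := hf 2 5 (by norm_num) (by norm_num) (by norm_num) (by norm_num) e3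
  tauto

theorem c_80 (hord : Nat.card G = 7920) (N : Subgroup G) [N.Normal] (hd : Nat.card N = 80) :
    Conn G := by
  have : Fact (Nat.Prime 2) := ⟨by norm_num⟩
  have : Fact (Nat.Prime 3) := ⟨by norm_num⟩
  have : Fact (Nat.Prime 5) := ⟨by norm_num⟩
  have : Fact (Nat.Prime 11) := ⟨by norm_num⟩
  have e1 : ∃ g : G, orderOf g = 2 * 3 :=
    edge_frat (r := 2) (s := 3) (by decide) N 7920 4 5 2 hord (hd.trans (by decide)) (by decide)
      (hall_of_dec 5 2 (3 ^ 2) 7920 (by decide) (by decide +kernel)) (by decide)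
  have e2 : ∃ g : G, orderOf g = 2 * 11 :=
    edge_frat (r := 2) (s := 11) (by decide) N 7920 4 5 1 hord (hd.trans (by decide)) (by decide)
      (hall_of_dec 5 2 (11 ^ 1) 7920 (by decide) (by decide +kernel)) (by decide)
  have e3 : ∃ g : G, orderOf g = 5 * 3 :=
    edge_frat (r := 5) (s := 3) (by decide) N 7920 1 16 1 hord (hd.trans (by decide)) (by decide)
      (hall_of_dec 16 5 (3 ^ 1) 7920 (by decide) (by decide +kernel)) (by decide)
  intro f hf
  have h1 := hf 2 3 (by norm_num) (by norm_num) (by norm_num) (by norm_num) e1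
  have h2 := hf 2 11 (by norm_num) (by norm_num) (by norm_num) (by norm_num) e2
  have h3 := hf 5 3 (by norm_num) (by norm_num) (by norm_num) (by norm_num) e3
  tauto

theorem c_88 (hord : Nat.card G = 7920) (N : Subgroup G) [N.Normal] (hd : Nat.card N = 88) :
    Conn G := by
  have : Fact (Nat.Prime 2) := ⟨by norm_num⟩
  have : Fact (Nat.Prime 3) := ⟨by norm_num⟩
  have : Fact (Nat.Prime 5) := ⟨by norm_num⟩
  have : Fact (Nat.Prime 11) := ⟨by norm_num⟩
  have e1 : ∃ g : G, orderOf g = 11 * 2 :=
    edge_frat (r := 11) (s := 2) (by decide) N 7920 1 8 2 hord (hd.trans (by decide)) (by decide)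
      (hall_of_dec 8 11 (2 ^ 2) 7920 (by decide) (by decide +kernel)) (by decide)
  have e2 : ∃ g : G, orderOf g = 11 * 3 :=
    edge_frat (r := 11) (s := 3) (by decide) N 7920 1 8 1 hord (hd.trans (by decide)) (by decide)
      (hall_of_dec 8 11 (3 ^ 1) 7920 (by decide) (by decide +kernel)) (by decide)
  have e3 : ∃ g : G, orderOf g = 2 * 5 :=
    edge_frat (r := 2) (s := 5) (by decide) N 7920 3 11 1 hord (hd.trans (by decide)) (by decide)
      (hall_of_dec 11 2 (5 ^ 1) 7920 (by decide) (by decide +kernel)) (by decide)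
  intro f hf
  have h1 := hf 11 2 (by norm_num) (by norm_num) (by norm_num) (by norm_num) e1
  have h2 := hf 11 3 (by norm_num) (by norm_num) (by norm_num) (by norm_num) e2
  have h3 := hf 2 5 (by norm_num) (by norm_num) (by norm_num) (by norm_num) e3
  tauto

theorem c_90 (hord : Nat.card G = 7920) (N : Subgroup G) [N.Normal] (hd : Nat.card N = 90) :
    Conn G := by
  have : Fact (Nat.Prime 2) := ⟨by norm_num⟩
  have : Fact (Nat.Prime 3) := ⟨by norm_num⟩
  have : Fact (Nat.Prime 5) := ⟨by norm_num⟩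
  have : Fact (Nat.Prime 11) := ⟨by norm_num⟩
  have e1 : ∃ g : G, orderOf g = 3 * 11 :=
    edge_frat (r := 3) (s := 11) (by decide) N 7920 2 10 1 hord (hd.trans (by decide)) (by decide)
      (hall_of_dec 10 3 (11 ^ 1) 7920 (by decide) (by decide +kernel)) (by decide)
  have e2 : ∃ g : G, orderOf g = 5 * 2 :=
    edge_frat (r := 5) (s := 2) (by decide) N 7920 1 18 3 hord (hd.trans (by decide)) (by decide)
      (hall_of_dec 18 5 (2 ^ 3) 7920 (by decide) (by decide +kernel)) (by decide)
  have e3 : ∃ g : G, orderOf g = 5 * 3 :=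
    edge_frat (r := 5) (s := 3) (by decide) N 7920 1 18 1 hord (hd.trans (by decide)) (by decide)
      (hall_of_dec 18 5 (3 ^ 1) 7920 (by decide) (by decide +kernel)) (by decide)
  intro f hf
  have h1 := hf 3 11 (by norm_num) (by norm_num) (by norm_num) (by norm_num) e1
  have h2 := hf 5 2 (by norm_num) (by norm_num) (by norm_num) (by norm_num) e2
  have h3 := hf 5 3 (by norm_num) (by norm_num) (by norm_num) (by norm_num) e3
  tauto

theorem c_99 (hord : Nat.card G = 7920) (N : Subgroup G) [N.Normal] (hd : Nat.card N = 99) :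
    Conn G := by
  have : Fact (Nat.Prime 2) := ⟨by norm_num⟩
  have : Fact (Nat.Prime 3) := ⟨by norm_num⟩
  have : Fact (Nat.Prime 5) := ⟨by norm_num⟩
  have : Fact (Nat.Prime 11) := ⟨by norm_num⟩
  have e1 : ∃ g : G, orderOf g = 11 * 3 :=
    edge_frat (r := 11) (s := 3) (by decide) N 7920 1 9 1 hord (hd.trans (by decide)) (by decide)
      (hall_of_dec 9 11 (3 ^ 1) 7920 (by decide) (by decide +kernel)) (by decide)
  have e2 : ∃ g : G, orderOf g = 11 * 2 :=
    edge_frat (r := 11) (s := 2) (by decide) N 7920 1 9 2 hord (hd.trans (by decide)) (by decide)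
      (hall_of_dec 9 11 (2 ^ 2) 7920 (by decide) (by decide +kernel)) (by decide)
  have e3 : ∃ g : G, orderOf g = 3 * 5 :=
    edge_frat (r := 3) (s := 5) (by decide) N 7920 2 11 1 hord (hd.trans (by decide)) (by decide)
      (hall_of_dec 11 3 (5 ^ 1) 7920 (by decide) (by decide +kernel)) (by decide)
  intro f hf
  have h1 := hf 11 3 (by norm_num) (by norm_num) (by norm_num) (by norm_num) e1
  have h2 := hf 11 2 (by norm_num) (by norm_num) (by norm_num) (by norm_num) e2
  have h3 := hf 3 5 (by norm_num) (by norm_num) (by norm_num) (by norm_num) e3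
  tauto

theorem c_110 (hord : Nat.card G = 7920) (N : Subgroup G) [N.Normal] (hd : Nat.card N = 110) :
    Conn G := by
  have : Fact (Nat.Prime 2) := ⟨by norm_num⟩
  have : Fact (Nat.Prime 3) := ⟨by norm_num⟩
  have : Fact (Nat.Prime 5) := ⟨by norm_num⟩
  have : Fact (Nat.Prime 11) := ⟨by norm_num⟩
  have e1 : ∃ g : G, orderOf g = 11 * 2 :=
    edge_frat (r := 11) (s := 2) (by decide) N 7920 1 10 2 hord (hd.trans (by decide)) (by decide)
      (hall_of_dec 10 11 (2 ^ 2) 7920 (by decide) (by decide +kernel)) (by decide)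
  have e2 : ∃ g : G, orderOf g = 11 * 3 :=
    edge_frat (r := 11) (s := 3) (by decide) N 7920 1 10 1 hord (hd.trans (by decide)) (by decide)
      (hall_of_dec 10 11 (3 ^ 1) 7920 (by decide) (by decide +kernel)) (by decide)
  have e3 : ∃ g : G, orderOf g = 5 * 2 :=
    edge_frat (r := 5) (s := 2) (by decide) N 7920 1 22 3 hord (hd.trans (by decide)) (by decide)
      (hall_of_dec 22 5 (2 ^ 3) 7920 (by decide) (by decide +kernel)) (by decide)
  intro f hf
  have h1 := hf 11 2 (by norm_num) (by norm_num) (by norm_num) (by norm_num) e1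
  have h2 := hf 11 3 (by norm_num) (by norm_num) (by norm_num) (by norm_num) e2
  have h3 := hf 5 2 (by norm_num) (by norm_num) (by norm_num) (by norm_num) e3
  tauto

theorem c_120 (hord : Nat.card G = 7920) (N : Subgroup G) [N.Normal] (hd : Nat.card N = 120) :
    Conn G := by
  have : Fact (Nat.Prime 2) := ⟨by norm_num⟩
  have : Fact (Nat.Prime 3) := ⟨by norm_num⟩
  have : Fact (Nat.Prime 5) := ⟨by norm_num⟩
  have : Fact (Nat.Prime 11) := ⟨by norm_num⟩
  have e1 : ∃ g : G, orderOf g = 2 * 3 :=
    edge_frat (r := 2) (s := 3) (by decide) N 7920 3 15 1 hord (hd.trans (by decide)) (by decide)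
      (hall_of_dec 15 2 (3 ^ 1) 7920 (by decide) (by decide +kernel)) (by decide)
  have e2 : ∃ g : G, orderOf g = 2 * 11 :=
    edge_frat (r := 2) (s := 11) (by decide) N 7920 3 15 1 hord (hd.trans (by decide)) (by decide)
      (hall_of_dec 15 2 (11 ^ 1) 7920 (by decide) (by decide +kernel)) (by decide)
  have e3 : ∃ g : G, orderOf g = 5 * 2 :=
    edge_frat (r := 5) (s := 2) (by decide) N 7920 1 24 3 hord (hd.trans (by decide)) (by decide)
      (hall_of_dec 24 5 (2 ^ 3) 7920 (by decide) (by decide +kernel)) (by decide)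
  intro f hf
  have h1 := hf 2 3 (by norm_num) (by norm_num) (by norm_num) (by norm_num) e1
  have h2 := hf 2 11 (by norm_num) (by norm_num) (by norm_num) (by norm_num) e2
  have h3 := hf 5 2 (by norm_num) (by norm_num) (by norm_num) (by norm_num) e3
  tauto

theorem c_132 (hord : Nat.card G = 7920) (N : Subgroup G) [N.Normal] (hd : Nat.card N = 132) :
    Conn G := by
  have : Fact (Nat.Prime 2) := ⟨by norm_num⟩
  have : Fact (Nat.Prime 3) := ⟨by norm_num⟩
  have : Fact (Nat.Prime 5) := ⟨by norm_num⟩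
  have : Fact (Nat.Prime 11) := ⟨by norm_num⟩
  have e1 : ∃ g : G, orderOf g = 11 * 2 :=
    edge_frat (r := 11) (s := 2) (by decide) N 7920 1 12 2 hord (hd.trans (by decide)) (by decide)
      (hall_of_dec 12 11 (2 ^ 2) 7920 (by decide) (by decide +kernel)) (by decide)
  have e2 : ∃ g : G, orderOf g = 11 * 3 :=
    edge_frat (r := 11) (s := 3) (by decide) N 7920 1 12 1 hord (hd.trans (by decide)) (by decide)
      (hall_of_dec 12 11 (3 ^ 1) 7920 (by decide) (by decide +kernel)) (by decide)
  have e3 : ∃ g : G, orderOf g = 2 * 5 :=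
    edge_frat (r := 2) (s := 5) (by decide) N 7920 2 33 1 hord (hd.trans (by decide)) (by decide)
      (hall_of_dec 33 2 (5 ^ 1) 7920 (by decide) (by decide +kernel)) (by decide)
  intro f hf
  have h1 := hf 11 2 (by norm_num) (by norm_num) (by norm_num) (by norm_num) e1
  have h2 := hf 11 3 (by norm_num) (by norm_num) (by norm_num) (by norm_num) e2
  have h3 := hf 2 5 (by norm_num) (by norm_num) (by norm_num) (by norm_num) e3
  tauto

theorem c_144 (hord : Nat.card G = 7920) (N : Subgroup G) [N.Normal] (hd : Nat.card N = 144) :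
    Conn G := by
  have : Fact (Nat.Prime 2) := ⟨by norm_num⟩
  have : Fact (Nat.Prime 3) := ⟨by norm_num⟩
  have : Fact (Nat.Prime 5) := ⟨by norm_num⟩
  have : Fact (Nat.Prime 11) := ⟨by norm_num⟩
  have e1 : ∃ g : G, orderOf g = 2 * 11 :=
    edge_frat (r := 2) (s := 11) (by decide) N 7920 4 9 1 hord (hd.trans (by decide)) (by decide)
      (hall_of_dec 9 2 (11 ^ 1) 7920 (by decide) (by decide +kernel)) (by decide)
  have e2 : ∃ g : G, orderOf g = 3 * 5 :=
    edge_frat (r := 3) (s := 5) (by decide) N 7920 2 16 1 hord (hd.trans (by decide)) (by decide)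
      (hall_of_dec 16 3 (5 ^ 1) 7920 (by decide) (by decide +kernel)) (by decide)
  have e3 : ∃ g : G, orderOf g = 3 * 11 :=
    edge_frat (r := 3) (s := 11) (by decide) N 7920 2 16 1 hord (hd.trans (by decide)) (by decide)
      (hall_of_dec 16 3 (11 ^ 1) 7920 (by decide) (by decide +kernel)) (by decide)
  intro f hf
  have h1 := hf 2 11 (by norm_num) (by norm_num) (by norm_num) (by norm_num) e1
  have h2 := hf 3 5 (by norm_num) (by norm_num) (by norm_num) (by norm_num) e2
  have h3 := hf 3 11 (by norm_num) (by norm_num) (by norm_num) (by norm_num) e3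
  tauto

theorem c_165 (hord : Nat.card G = 7920) (N : Subgroup G) [N.Normal] (hd : Nat.card N = 165) :
    Conn G := by
  have : Fact (Nat.Prime 2) := ⟨by norm_num⟩
  have : Fact (Nat.Prime 3) := ⟨by norm_num⟩
  have : Fact (Nat.Prime 5) := ⟨by norm_num⟩
  have : Fact (Nat.Prime 11) := ⟨by norm_num⟩
  have e1 : ∃ g : G, orderOf g = 11 * 2 :=
    edge_frat (r := 11) (s := 2) (by decide) N 7920 1 15 2 hord (hd.trans (by decide)) (by decide)
      (hall_of_dec 15 11 (2 ^ 2) 7920 (by decide) (by decide +kernel)) (by decide)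
  have e2 : ∃ g : G, orderOf g = 11 * 3 :=
    edge_frat (r := 11) (s := 3) (by decide) N 7920 1 15 1 hord (hd.trans (by decide)) (by decide)
      (hall_of_dec 15 11 (3 ^ 1) 7920 (by decide) (by decide +kernel)) (by decide)
  have e3 : ∃ g : G, orderOf g = 5 * 2 :=
    edge_frat (r := 5) (s := 2) (by decide) N 7920 1 33 3 hord (hd.trans (by decide)) (by decide)
      (hall_of_dec 33 5 (2 ^ 3) 7920 (by decide) (by decide +kernel)) (by decide)
  intro f hf
  have h1 := hf 11 2 (by norm_num) (by norm_num) (by norm_num) (by norm_num) e1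
  have h2 := hf 11 3 (by norm_num) (by norm_num) (by norm_num) (by norm_num) e2
  have h3 := hf 5 2 (by norm_num) (by norm_num) (by norm_num) (by norm_num) e3
  tauto

theorem c_180 (hord : Nat.card G = 7920) (N : Subgroup G) [N.Normal] (hd : Nat.card N = 180) :
    Conn G := by
  have : Fact (Nat.Prime 2) := ⟨by norm_num⟩
  have : Fact (Nat.Prime 3) := ⟨by norm_num⟩
  have : Fact (Nat.Prime 5) := ⟨by norm_num⟩
  have : Fact (Nat.Prime 11) := ⟨by norm_num⟩
  have e1 : ∃ g : G, orderOf g = 3 * 11 :=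
    edge_frat (r := 3) (s := 11) (by decide) N 7920 2 20 1 hord (hd.trans (by decide)) (by decide)
      (hall_of_dec 20 3 (11 ^ 1) 7920 (by decide) (by decide +kernel)) (by decide)
  have e2 : ∃ g : G, orderOf g = 5 * 11 :=
    edge_frat (r := 5) (s := 11) (by decide) N 7920 1 36 1 hord (hd.trans (by decide)) (by decide)
      (hall_of_dec 36 5 (11 ^ 1) 7920 (by decide) (by decide +kernel)) (by decide)
  have e3 : ∃ g : G, orderOf g = 2 * 11 :=
    edge_frat (r := 2) (s := 11) (by decide) N 7920 2 45 1 hord (hd.trans (by decide)) (by decide)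
      (hall_of_dec 45 2 (11 ^ 1) 7920 (by decide) (by decide +kernel)) (by decide)
  intro f hf
  have h1 := hf 3 11 (by norm_num) (by norm_num) (by norm_num) (by norm_num) e1
  have h2 := hf 5 11 (by norm_num) (by norm_num) (by norm_num) (by norm_num) e2
  have h3 := hf 2 11 (by norm_num) (by norm_num) (by norm_num) (by norm_num) e3
  tauto

theorem c_198 (hord : Nat.card G = 7920) (N : Subgroup G) [N.Normal] (hd : Nat.card N = 198) :
    Conn G := by
  have : Fact (Nat.Prime 2) := ⟨by norm_num⟩
  have : Fact (Nat.Prime 3) := ⟨by norm_num⟩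
  have : Fact (Nat.Prime 5) := ⟨by norm_num⟩
  have : Fact (Nat.Prime 11) := ⟨by norm_num⟩
  have e1 : ∃ g : G, orderOf g = 11 * 2 :=
    edge_frat (r := 11) (s := 2) (by decide) N 7920 1 18 2 hord (hd.trans (by decide)) (by decide)
      (hall_of_dec 18 11 (2 ^ 2) 7920 (by decide) (by decide +kernel)) (by decide)
  have e2 : ∃ g : G, orderOf g = 11 * 3 :=
    edge_frat (r := 11) (s := 3) (by decide) N 7920 1 18 1 hord (hd.trans (by decide)) (by decide)
      (hall_of_dec 18 11 (3 ^ 1) 7920 (by decide) (by decide +kernel)) (by decide)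
  have e3 : ∃ g : G, orderOf g = 3 * 5 :=
    edge_frat (r := 3) (s := 5) (by decide) N 7920 2 22 1 hord (hd.trans (by decide)) (by decide)
      (hall_of_dec 22 3 (5 ^ 1) 7920 (by decide) (by decide +kernel)) (by decide)
  intro f hf
  have h1 := hf 11 2 (by norm_num) (by norm_num) (by norm_num) (by norm_num) e1
  have h2 := hf 11 3 (by norm_num) (by norm_num) (by norm_num) (by norm_num) e2
  have h3 := hf 3 5 (by norm_num) (by norm_num) (by norm_num) (by norm_num) e3
  tauto

theorem c_220 (hord : Nat.card G = 7920) (N : Subgroup G) [N.Normal] (hd : Nat.card N = 220) :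
    Conn G := by
  have : Fact (Nat.Prime 2) := ⟨by norm_num⟩
  have : Fact (Nat.Prime 3) := ⟨by norm_num⟩
  have : Fact (Nat.Prime 5) := ⟨by norm_num⟩
  have : Fact (Nat.Prime 11) := ⟨by norm_num⟩
  have e1 : ∃ g : G, orderOf g = 11 * 2 :=
    edge_frat (r := 11) (s := 2) (by decide) N 7920 1 20 2 hord (hd.trans (by decide)) (by decide)
      (hall_of_dec 20 11 (2 ^ 2) 7920 (by decide) (by decide +kernel)) (by decide)
  have e2 : ∃ g : G, orderOf g = 11 * 3 :=
    edge_frat (r := 11) (s := 3) (by decide) N 7920 1 20 1 hord (hd.trans (by decide)) (by decide)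
      (hall_of_dec 20 11 (3 ^ 1) 7920 (by decide) (by decide +kernel)) (by decide)
  have e3 : ∃ g : G, orderOf g = 5 * 2 :=
    edge_frat (r := 5) (s := 2) (by decide) N 7920 1 44 3 hord (hd.trans (by decide)) (by decide)
      (hall_of_dec 44 5 (2 ^ 3) 7920 (by decide) (by decide +kernel)) (by decide)
  intro f hf
  have h1 := hf 11 2 (by norm_num) (by norm_num) (by norm_num) (by norm_num) e1
  have h2 := hf 11 3 (by norm_num) (by norm_num) (by norm_num) (by norm_num) e2
  have h3 := hf 5 2 (by norm_num) (by norm_num) (by norm_num) (by norm_num) e3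
  tauto

theorem c_240 (hord : Nat.card G = 7920) (N : Subgroup G) [N.Normal] (hd : Nat.card N = 240) :
    Conn G := by
  have : Fact (Nat.Prime 2) := ⟨by norm_num⟩
  have : Fact (Nat.Prime 3) := ⟨by norm_num⟩
  have : Fact (Nat.Prime 5) := ⟨by norm_num⟩
  have : Fact (Nat.Prime 11) := ⟨by norm_num⟩
  have e1 : ∃ g : G, orderOf g = 2 * 11 :=
    edge_frat (r := 2) (s := 11) (by decide) N 7920 4 15 1 hord (hd.trans (by decide)) (by decide)
      (hall_of_dec 15 2 (11 ^ 1) 7920 (by decide) (by decide +kernel)) (by decide)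
  have e2 : ∃ g : G, orderOf g = 5 * 3 :=
    edge_frat (r := 5) (s := 3) (by decide) N 7920 1 48 1 hord (hd.trans (by decide)) (by decide)
      (hall_of_dec 48 5 (3 ^ 1) 7920 (by decide) (by decide +kernel)) (by decide)
  have e3 : ∃ g : G, orderOf g = 5 * 11 :=
    edge_frat (r := 5) (s := 11) (by decide) N 7920 1 48 1 hord (hd.trans (by decide)) (by decide)
      (hall_of_dec 48 5 (11 ^ 1) 7920 (by decide) (by decide +kernel)) (by decide)
  intro f hf
  have h1 := hf 2 11 (by norm_num) (by norm_num) (by norm_num) (by norm_num) e1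
  have h2 := hf 5 3 (by norm_num) (by norm_num) (by norm_num) (by norm_num) e2
  have h3 := hf 5 11 (by norm_num) (by norm_num) (by norm_num) (by norm_num) e3
  tauto

theorem c_264 (hord : Nat.card G = 7920) (N : Subgroup G) [N.Normal] (hd : Nat.card N = 264) :
    Conn G := by
  have : Fact (Nat.Prime 2) := ⟨by norm_num⟩
  have : Fact (Nat.Prime 3) := ⟨by norm_num⟩
  have : Fact (Nat.Prime 5) := ⟨by norm_num⟩
  have : Fact (Nat.Prime 11) := ⟨by norm_num⟩
  have e1 : ∃ g : G, orderOf g = 11 * 2 :=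
    edge_frat (r := 11) (s := 2) (by decide) N 7920 1 24 2 hord (hd.trans (by decide)) (by decide)
      (hall_of_dec 24 11 (2 ^ 2) 7920 (by decide) (by decide +kernel)) (by decide)
  have e2 : ∃ g : G, orderOf g = 11 * 3 :=
    edge_frat (r := 11) (s := 3) (by decide) N 7920 1 24 1 hord (hd.trans (by decide)) (by decide)
      (hall_of_dec 24 11 (3 ^ 1) 7920 (by decide) (by decide +kernel)) (by decide)
  have e3 : ∃ g : G, orderOf g = 2 * 5 :=
    edge_frat (r := 2) (s := 5) (by decide) N 7920 3 33 1 hord (hd.trans (by decide)) (by decide)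
      (hall_of_dec 33 2 (5 ^ 1) 7920 (by decide) (by decide +kernel)) (by decide)
  intro f hf
  have h1 := hf 11 2 (by norm_num) (by norm_num) (by norm_num) (by norm_num) e1
  have h2 := hf 11 3 (by norm_num) (by norm_num) (by norm_num) (by norm_num) e2
  have h3 := hf 2 5 (by norm_num) (by norm_num) (by norm_num) (by norm_num) e3
  tauto

theorem c_330 (hord : Nat.card G = 7920) (N : Subgroup G) [N.Normal] (hd : Nat.card N = 330) :
    Conn G := by
  have : Fact (Nat.Prime 2) := ⟨by norm_num⟩
  have : Fact (Nat.Prime 3) := ⟨by norm_num⟩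
  have : Fact (Nat.Prime 5) := ⟨by norm_num⟩
  have : Fact (Nat.Prime 11) := ⟨by norm_num⟩
  have e1 : ∃ g : G, orderOf g = 11 * 2 :=
    edge_frat (r := 11) (s := 2) (by decide) N 7920 1 30 2 hord (hd.trans (by decide)) (by decide)
      (hall_of_dec 30 11 (2 ^ 2) 7920 (by decide) (by decide +kernel)) (by decide)
  have e2 : ∃ g : G, orderOf g = 11 * 3 :=
    edge_frat (r := 11) (s := 3) (by decide) N 7920 1 30 1 hord (hd.trans (by decide)) (by decide)
      (hall_of_dec 30 11 (3 ^ 1) 7920 (by decide) (by decide +kernel)) (by decide)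
  have e3 : ∃ g : G, orderOf g = 5 * 2 :=
    edge_frat (r := 5) (s := 2) (by decide) N 7920 1 66 3 hord (hd.trans (by decide)) (by decide)
      (hall_of_dec 66 5 (2 ^ 3) 7920 (by decide) (by decide +kernel)) (by decide)
  intro f hf
  have h1 := hf 11 2 (by norm_num) (by norm_num) (by norm_num) (by norm_num) e1
  have h2 := hf 11 3 (by norm_num) (by norm_num) (by norm_num) (by norm_num) e2
  have h3 := hf 5 2 (by norm_num) (by norm_num) (by norm_num) (by norm_num) e3
  tauto

theorem c_360 (hord : Nat.card G = 7920) (N : Subgroup G) [N.Normal] (hd : Nat.card N = 360) :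
    Conn G := by
  have : Fact (Nat.Prime 2) := ⟨by norm_num⟩
  have : Fact (Nat.Prime 3) := ⟨by norm_num⟩
  have : Fact (Nat.Prime 5) := ⟨by norm_num⟩
  have : Fact (Nat.Prime 11) := ⟨by norm_num⟩
  have e1 : ∃ g : G, orderOf g = 3 * 11 :=
    edge_frat (r := 3) (s := 11) (by decide) N 7920 2 40 1 hord (hd.trans (by decide)) (by decide)
      (hall_of_dec 40 3 (11 ^ 1) 7920 (by decide) (by decide +kernel)) (by decide)
  have e2 : ∃ g : G, orderOf g = 2 * 11 :=
    edge_frat (r := 2) (s := 11) (by decide) N 7920 3 45 1 hord (hd.trans (by decide)) (by decide)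
      (hall_of_dec 45 2 (11 ^ 1) 7920 (by decide) (by decide +kernel)) (by decide)
  have e3 : ∃ g : G, orderOf g = 5 * 11 :=
    edge_frat (r := 5) (s := 11) (by decide) N 7920 1 72 1 hord (hd.trans (by decide)) (by decide)
      (hall_of_dec 72 5 (11 ^ 1) 7920 (by decide) (by decide +kernel)) (by decide)
  intro f hf
  have h1 := hf 3 11 (by norm_num) (by norm_num) (by norm_num) (by norm_num) e1
  have h2 := hf 2 11 (by norm_num) (by norm_num) (by norm_num) (by norm_num) e2
  have h3 := hf 5 11 (by norm_num) (by norm_num) (by norm_num) (by norm_num) e3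
  tauto

theorem c_396 (hord : Nat.card G = 7920) (N : Subgroup G) [N.Normal] (hd : Nat.card N = 396) :
    Conn G := by
  have : Fact (Nat.Prime 2) := ⟨by norm_num⟩
  have : Fact (Nat.Prime 3) := ⟨by norm_num⟩
  have : Fact (Nat.Prime 5) := ⟨by norm_num⟩
  have : Fact (Nat.Prime 11) := ⟨by norm_num⟩
  have e1 : ∃ g : G, orderOf g = 11 * 2 :=
    edge_frat (r := 11) (s := 2) (by decide) N 7920 1 36 2 hord (hd.trans (by decide)) (by decide)
      (hall_of_dec 36 11 (2 ^ 2) 7920 (by decide) (by decide +kernel)) (by decide)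
  have e2 : ∃ g : G, orderOf g = 11 * 3 :=
    edge_frat (r := 11) (s := 3) (by decide) N 7920 1 36 1 hord (hd.trans (by decide)) (by decide)
      (hall_of_dec 36 11 (3 ^ 1) 7920 (by decide) (by decide +kernel)) (by decide)
  have e3 : ∃ g : G, orderOf g = 3 * 5 :=
    edge_frat (r := 3) (s := 5) (by decide) N 7920 2 44 1 hord (hd.trans (by decide)) (by decide)
      (hall_of_dec 44 3 (5 ^ 1) 7920 (by decide) (by decide +kernel)) (by decide)
  intro f hf
  have h1 := hf 11 2 (by norm_num) (by norm_num) (by norm_num) (by norm_num) e1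
  have h2 := hf 11 3 (by norm_num) (by norm_num) (by norm_num) (by norm_num) e2
  have h3 := hf 3 5 (by norm_num) (by norm_num) (by norm_num) (by norm_num) e3
  tauto

theorem c_440 (hord : Nat.card G = 7920) (N : Subgroup G) [N.Normal] (hd : Nat.card N = 440) :
    Conn G := by
  have : Fact (Nat.Prime 2) := ⟨by norm_num⟩
  have : Fact (Nat.Prime 3) := ⟨by norm_num⟩
  have : Fact (Nat.Prime 5) := ⟨by norm_num⟩
  have : Fact (Nat.Prime 11) := ⟨by norm_num⟩
  have e1 : ∃ g : G, orderOf g = 11 * 2 :=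
    edge_frat (r := 11) (s := 2) (by decide) N 7920 1 40 2 hord (hd.trans (by decide)) (by decide)
      (hall_of_dec 40 11 (2 ^ 2) 7920 (by decide) (by decide +kernel)) (by decide)
  have e2 : ∃ g : G, orderOf g = 11 * 3 :=
    edge_frat (r := 11) (s := 3) (by decide) N 7920 1 40 1 hord (hd.trans (by decide)) (by decide)
      (hall_of_dec 40 11 (3 ^ 1) 7920 (by decide) (by decide +kernel)) (by decide)
  have e3 : ∃ g : G, orderOf g = 5 * 2 :=
    edge_frat (r := 5) (s := 2) (by decide) N 7920 1 88 3 hord (hd.trans (by decide)) (by decide)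
      (hall_of_dec 88 5 (2 ^ 3) 7920 (by decide) (by decide +kernel)) (by decide)
  intro f hf
  have h1 := hf 11 2 (by norm_num) (by norm_num) (by norm_num) (by norm_num) e1
  have h2 := hf 11 3 (by norm_num) (by norm_num) (by norm_num) (by norm_num) e2
  have h3 := hf 5 2 (by norm_num) (by norm_num) (by norm_num) (by norm_num) e3
  tauto

theorem c_495 (hord : Nat.card G = 7920) (N : Subgroup G) [N.Normal] (hd : Nat.card N = 495) :
    Conn G := by
  have : Fact (Nat.Prime 2) := ⟨by norm_num⟩
  have : Fact (Nat.Prime 3) := ⟨by norm_num⟩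
  have : Fact (Nat.Prime 5) := ⟨by norm_num⟩
  have : Fact (Nat.Prime 11) := ⟨by norm_num⟩
  have e1 : ∃ g : G, orderOf g = 11 * 2 :=
    edge_frat (r := 11) (s := 2) (by decide) N 7920 1 45 2 hord (hd.trans (by decide)) (by decide)
      (hall_of_dec 45 11 (2 ^ 2) 7920 (by decide) (by decide +kernel)) (by decide)
  have e2 : ∃ g : G, orderOf g = 3 * 2 :=
    edge_frat (r := 3) (s := 2) (by decide) N 7920 2 55 4 hord (hd.trans (by decide)) (by decide)
      (hall_of_dec 55 3 (2 ^ 4) 7920 (by decide) (by decide +kernel)) (by decide)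
  have e3 : ∃ g : G, orderOf g = 5 * 2 :=
    edge_frat (r := 5) (s := 2) (by decide) N 7920 1 99 3 hord (hd.trans (by decide)) (by decide)
      (hall_of_dec 99 5 (2 ^ 3) 7920 (by decide) (by decide +kernel)) (by decide)
  intro f hf
  have h1 := hf 11 2 (by norm_num) (by norm_num) (by norm_num) (by norm_num) e1
  have h2 := hf 3 2 (by norm_num) (by norm_num) (by norm_num) (by norm_num) e2
  have h3 := hf 5 2 (by norm_num) (by norm_num) (by norm_num) (by norm_num) e3
  tauto

theorem c_528 (hord : Nat.card G = 7920) (N : Subgroup G) [N.Normal] (hd : Nat.card N = 528) :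
    Conn G := by
  have : Fact (Nat.Prime 2) := ⟨by norm_num⟩
  have : Fact (Nat.Prime 3) := ⟨by norm_num⟩
  have : Fact (Nat.Prime 5) := ⟨by norm_num⟩
  have : Fact (Nat.Prime 11) := ⟨by norm_num⟩
  have e1 : ∃ g : G, orderOf g = 11 * 2 :=
    edge_frat (r := 11) (s := 2) (by decide) N 7920 1 48 2 hord (hd.trans (by decide)) (by decide)
      (hall_of_dec 48 11 (2 ^ 2) 7920 (by decide) (by decide +kernel)) (by decide)
  have e2 : ∃ g : G, orderOf g = 11 * 3 :=
    edge_frat (r := 11) (s := 3) (by decide) N 7920 1 48 1 hord (hd.trans (by decide)) (by decide)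
      (hall_of_dec 48 11 (3 ^ 1) 7920 (by decide) (by decide +kernel)) (by decide)
  have e3 : ∃ g : G, orderOf g = 3 * 5 :=
    edge_frat (r := 3) (s := 5) (by decide) N 7920 1 176 1 hord (hd.trans (by decide)) (by decide)
      (hall_of_dec 176 3 (5 ^ 1) 7920 (by decide) (by decide +kernel)) (by decide)
  intro f hf
  have h1 := hf 11 2 (by norm_num) (by norm_num) (by norm_num) (by norm_num) e1
  have h2 := hf 11 3 (by norm_num) (by norm_num) (by norm_num) (by norm_num) e2
  have h3 := hf 3 5 (by norm_num) (by norm_num) (by norm_num) (by norm_num) e3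
  tauto

theorem c_660 (hord : Nat.card G = 7920) (N : Subgroup G) [N.Normal] (hd : Nat.card N = 660) :
    Conn G := by
  have : Fact (Nat.Prime 2) := ⟨by norm_num⟩
  have : Fact (Nat.Prime 3) := ⟨by norm_num⟩
  have : Fact (Nat.Prime 5) := ⟨by norm_num⟩
  have : Fact (Nat.Prime 11) := ⟨by norm_num⟩
  have e1 : ∃ g : G, orderOf g = 11 * 2 :=
    edge_frat (r := 11) (s := 2) (by decide) N 7920 1 60 2 hord (hd.trans (by decide)) (by decide)
      (hall_of_dec 60 11 (2 ^ 2) 7920 (by decide) (by decide +kernel)) (by decide)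
  have e2 : ∃ g : G, orderOf g = 11 * 3 :=
    edge_frat (r := 11) (s := 3) (by decide) N 7920 1 60 1 hord (hd.trans (by decide)) (by decide)
      (hall_of_dec 60 11 (3 ^ 1) 7920 (by decide) (by decide +kernel)) (by decide)
  have e3 : ∃ g : G, orderOf g = 5 * 2 :=
    edge_frat (r := 5) (s := 2) (by decide) N 7920 1 132 3 hord (hd.trans (by decide)) (by decide)
      (hall_of_dec 132 5 (2 ^ 3) 7920 (by decide) (by decide +kernel)) (by decide)
  intro f hf
  have h1 := hf 11 2 (by norm_num) (by norm_num) (by norm_num) (by norm_num) e1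
  have h2 := hf 11 3 (by norm_num) (by norm_num) (by norm_num) (by norm_num) e2
  have h3 := hf 5 2 (by norm_num) (by norm_num) (by norm_num) (by norm_num) e3
  tauto

theorem c_720 (hord : Nat.card G = 7920) (N : Subgroup G) [N.Normal] (hd : Nat.card N = 720) :
    Conn G := by
  have : Fact (Nat.Prime 2) := ⟨by norm_num⟩
  have : Fact (Nat.Prime 3) := ⟨by norm_num⟩
  have : Fact (Nat.Prime 5) := ⟨by norm_num⟩
  have : Fact (Nat.Prime 11) := ⟨by norm_num⟩
  have e1 : ∃ g : G, orderOf g = 2 * 11 :=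
    edge_frat (r := 2) (s := 11) (by decide) N 7920 4 45 1 hord (hd.trans (by decide)) (by decide)
      (hall_of_dec 45 2 (11 ^ 1) 7920 (by decide) (by decide +kernel)) (by decide)
  have e2 : ∃ g : G, orderOf g = 3 * 11 :=
    edge_frat (r := 3) (s := 11) (by decide) N 7920 2 80 1 hord (hd.trans (by decide)) (by decide)
      (hall_of_dec 80 3 (11 ^ 1) 7920 (by decide) (by decide +kernel)) (by decide)
  have e3 : ∃ g : G, orderOf g = 5 * 11 :=
    edge_frat (r := 5) (s := 11) (by decide) N 7920 1 144 1 hord (hd.trans (by decide)) (by decide)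
      (hall_of_dec 144 5 (11 ^ 1) 7920 (by decide) (by decide +kernel)) (by decide)
  intro f hf
  have h1 := hf 2 11 (by norm_num) (by norm_num) (by norm_num) (by norm_num) e1
  have h2 := hf 3 11 (by norm_num) (by norm_num) (by norm_num) (by norm_num) e2
  have h3 := hf 5 11 (by norm_num) (by norm_num) (by norm_num) (by norm_num) e3
  tauto

theorem c_792 (hord : Nat.card G = 7920) (N : Subgroup G) [N.Normal] (hd : Nat.card N = 792) :
    Conn G := by
  have : Fact (Nat.Prime 2) := ⟨by norm_num⟩
  have : Fact (Nat.Prime 3) := ⟨by norm_num⟩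
  have : Fact (Nat.Prime 5) := ⟨by norm_num⟩
  have : Fact (Nat.Prime 11) := ⟨by norm_num⟩
  have e1 : ∃ g : G, orderOf g = 11 * 2 :=
    edge_frat (r := 11) (s := 2) (by decide) N 7920 1 72 2 hord (hd.trans (by decide)) (by decide)
      (hall_of_dec 72 11 (2 ^ 2) 7920 (by decide) (by decide +kernel)) (by decide)
  have e2 : ∃ g : G, orderOf g = 11 * 3 :=
    edge_frat (r := 11) (s := 3) (by decide) N 7920 1 72 1 hord (hd.trans (by decide)) (by decide)
      (hall_of_dec 72 11 (3 ^ 1) 7920 (by decide) (by decide +kernel)) (by decide)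
  have e3 : ∃ g : G, orderOf g = 3 * 5 :=
    edge_frat (r := 3) (s := 5) (by decide) N 7920 2 88 1 hord (hd.trans (by decide)) (by decide)
      (hall_of_dec 88 3 (5 ^ 1) 7920 (by decide) (by decide +kernel)) (by decide)
  intro f hf
  have h1 := hf 11 2 (by norm_num) (by norm_num) (by norm_num) (by norm_num) e1
  have h2 := hf 11 3 (by norm_num) (by norm_num) (by norm_num) (by norm_num) e2
  have h3 := hf 3 5 (by norm_num) (by norm_num) (by norm_num) (by norm_num) e3
  tauto

theorem c_880 (hord : Nat.card G = 7920) (N : Subgroup G) [N.Normal] (hd : Nat.card N = 880) :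
    Conn G := by
  have : Fact (Nat.Prime 2) := ⟨by norm_num⟩
  have : Fact (Nat.Prime 3) := ⟨by norm_num⟩
  have : Fact (Nat.Prime 5) := ⟨by norm_num⟩
  have : Fact (Nat.Prime 11) := ⟨by norm_num⟩
  have e1 : ∃ g : G, orderOf g = 2 * 3 :=
    edge_frat (r := 2) (s := 3) (by decide) N 7920 4 55 2 hord (hd.trans (by decide)) (by decide)
      (hall_of_dec 55 2 (3 ^ 2) 7920 (by decide) (by decide +kernel)) (by decide)
  have e2 : ∃ g : G, orderOf g = 11 * 2 :=
    edge_frat (r := 11) (s := 2) (by decide) N 7920 1 80 2 hord (hd.trans (by decide)) (by decide)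
      (hall_of_dec 80 11 (2 ^ 2) 7920 (by decide) (by decide +kernel)) (by decide)
  have e3 : ∃ g : G, orderOf g = 5 * 3 :=
    edge_frat (r := 5) (s := 3) (by decide) N 7920 1 176 1 hord (hd.trans (by decide)) (by decide)
      (hall_of_dec 176 5 (3 ^ 1) 7920 (by decide) (by decide +kernel)) (by decide)
  intro f hf
  have h1 := hf 2 3 (by norm_num) (by norm_num) (by norm_num) (by norm_num) e1
  have h2 := hf 11 2 (by norm_num) (by norm_num) (by norm_num) (by norm_num) e2
  have h3 := hf 5 3 (by norm_num) (by norm_num) (by norm_num) (by norm_num) e3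
  tauto

theorem c_1320 (hord : Nat.card G = 7920) (N : Subgroup G) [N.Normal] (hd : Nat.card N = 1320) :
    Conn G := by
  have : Fact (Nat.Prime 2) := ⟨by norm_num⟩
  have : Fact (Nat.Prime 3) := ⟨by norm_num⟩
  have : Fact (Nat.Prime 5) := ⟨by norm_num⟩
  have : Fact (Nat.Prime 11) := ⟨by norm_num⟩
  have e1 : ∃ g : G, orderOf g = 11 * 2 :=
    edge_frat (r := 11) (s := 2) (by decide) N 7920 1 120 2 hord (hd.trans (by decide)) (by decide)
      (hall_of_dec 120 11 (2 ^ 2) 7920 (by decide) (by decide +kernel)) (by decide)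
  have e2 : ∃ g : G, orderOf g = 11 * 3 :=
    edge_frat (r := 11) (s := 3) (by decide) N 7920 1 120 1 hord (hd.trans (by decide)) (by decide)
      (hall_of_dec 120 11 (3 ^ 1) 7920 (by decide) (by decide +kernel)) (by decide)
  have e3 : ∃ g : G, orderOf g = 5 * 2 :=
    edge_frat (r := 5) (s := 2) (by decide) N 7920 1 264 3 hord (hd.trans (by decide)) (by decide)
      (hall_of_dec 264 5 (2 ^ 3) 7920 (by decide) (by decide +kernel)) (by decide)
  intro f hf
  have h1 := hf 11 2 (by norm_num) (by norm_num) (by norm_num) (by norm_num) e1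
  have h2 := hf 11 3 (by norm_num) (by norm_num) (by norm_num) (by norm_num) e2
  have h3 := hf 5 2 (by norm_num) (by norm_num) (by norm_num) (by norm_num) e3
  tauto

theorem c_2640 (hord : Nat.card G = 7920) (N : Subgroup G) [N.Normal] (hd : Nat.card N = 2640) :
    Conn G := by
  have : Fact (Nat.Prime 2) := ⟨by norm_num⟩
  have : Fact (Nat.Prime 3) := ⟨by norm_num⟩
  have : Fact (Nat.Prime 5) := ⟨by norm_num⟩
  have : Fact (Nat.Prime 11) := ⟨by norm_num⟩
  have e1 : ∃ g : G, orderOf g = 11 * 2 :=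
    edge_frat (r := 11) (s := 2) (by decide) N 7920 1 240 2 hord (hd.trans (by decide)) (by decide)
      (hall_of_dec 240 11 (2 ^ 2) 7920 (by decide) (by decide +kernel)) (by decide)
  have e2 : ∃ g : G, orderOf g = 11 * 3 :=
    edge_frat (r := 11) (s := 3) (by decide) N 7920 1 240 1 hord (hd.trans (by decide)) (by decide)
      (hall_of_dec 240 11 (3 ^ 1) 7920 (by decide) (by decide +kernel)) (by decide)
  have e3 : ∃ g : G, orderOf g = 5 * 3 :=
    edge_frat (r := 5) (s := 3) (by decide) N 7920 1 528 1 hord (hd.trans (by decide)) (by decide)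
      (hall_of_dec 528 5 (3 ^ 1) 7920 (by decide) (by decide +kernel)) (by decide)
  intro f hf
  have h1 := hf 11 2 (by norm_num) (by norm_num) (by norm_num) (by norm_num) e1
  have h2 := hf 11 3 (by norm_num) (by norm_num) (by norm_num) (by norm_num) e2
  have h3 := hf 5 3 (by norm_num) (by norm_num) (by norm_num) (by norm_num) e3
  tauto

theorem min_contra (hord : Nat.card G = 7920) (N : Subgroup G)
    (hmin : ∀ K : Subgroup G, K.Normal → K ≠ ⊥ → K ≠ ⊤ → Nat.card N ≤ Nat.card K)
    (K : Subgroup G) (hK1 : K.Normal) (k : ℕ) (hK3 : Nat.card K = k) (h1 : 1 < k)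
    (h2 : k < Nat.card N) (h3 : k < 7920) : False := by
  have hb : K ≠ ⊥ := by
    intro hb
    rw [hb, Subgroup.card_bot] at hK3
    omega
  have ht : K ≠ ⊤ := by
    intro ht
    rw [ht, Subgroup.card_top, hord] at hK3
    omega
  have := hmin K hK1 hb ht
  omega

theorem c11_aux (hord : Nat.card G = 7920) (N : Subgroup G) [hNn : N.Normal]
    (hd : Nat.card N = 11) :
    (∃ g : G, orderOf g = 11 * 5) ∨ (∃ g : G, orderOf g = 3 * 5) := by
  have : Fact (Nat.Prime 3) := ⟨by norm_num⟩
  have : Fact (Nat.Prime 5) := ⟨by norm_num⟩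
  have : Fact (Nat.Prime 11) := ⟨by norm_num⟩
  have hCn : (centralizer (N : Set G)).Normal := inferInstance
  by_cases h5 : 5 ∣ Nat.card (centralizer (N : Set G))
  · left
    obtain ⟨y, hyC, hy5⟩ := Sylow2.exists_mem_orderOf_eq_prime (centralizer (N : Set G)) 5 h5
    obtain ⟨x, hxN, hx11⟩ := Sylow2.exists_mem_orderOf_eq_prime N 11 (by rw [hd])
    have hc : Commute x y := (mem_centralizer_iff.mp hyC) x hxN
    refine ⟨x * y, ?_⟩
    rw [hc.orderOf_mul_eq_mul_orderOf_of_coprime (by rw [hx11, hy5]; norm_num), hx11, hy5]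
  · right
    obtain ⟨Y, hYc⟩ := _root_.Sylow.exists_subgroup_card_pow_prime 3
      (show 3 ^ 2 ∣ Nat.card G by rw [hord]; norm_num)
    have hYn : Y ≤ normalizer (N : Set G) := by
      rw [normalizer_eq_top_iff.mpr hNn]
      exact le_top
    obtain ⟨x, hx, hx1, y, hy, hy1, hc⟩ := exists_commuting N Y hYn (by rw [hYc, hd]; decide)
    have hxo : orderOf x = 11 := by
      have h1 := Sylow2.orderOf_dvd_card_of_mem hx
      rw [hd] at h1
      rcases (Nat.dvd_prime (by norm_num : Nat.Prime 11)).mp h1 with h | h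
      · exact absurd (orderOf_eq_one_iff.mp h) hx1
      · exact h
    have hNz : N = zpowers x := by
      symm
      apply Subgroup.eq_of_le_of_card_ge (zpowers_le.mpr hx)
      rw [Nat.card_zpowers, hxo, hd]
    have hyC : y ∈ centralizer (N : Set G) := by
      rw [mem_centralizer_iff]
      intro w hw
      have hw' : w ∈ zpowers x := by
        rw [← hNz]
        exact hw
      obtain ⟨k, rfl⟩ := mem_zpowers_iff.mp hw'
      exact (hc.zpow_left k)
    have h3C : 3 ∣ Nat.card (centralizer (N : Set G)) := by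
      have h1 := Sylow2.orderOf_dvd_card_of_mem hyC
      have h2 := Sylow2.orderOf_dvd_card_of_mem hy
      rw [hYc] at h2
      obtain ⟨i, -, hi2⟩ := (Nat.dvd_prime_pow Nat.prime_three).mp h2
      have hi0 : i ≠ 0 := by
        rintro rfl
        rw [pow_zero, orderOf_eq_one_iff] at hi2
        exact hy1 hi2
      exact dvd_trans (by rw [hi2]; exact dvd_pow_self 3 hi0) h1
    obtain ⟨S⟩ : Nonempty (_root_.Sylow 3 (centralizer (N : Set G))) := inferInstance
    have hSb : (S : Subgroup (centralizer (N : Set G))) ≠ ⊥ := S.ne_bot_of_dvd_card h3C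
    obtain ⟨j, hj⟩ := S.isPGroup'.exists_card_eq
    have hj0 : j ≠ 0 := by
      rintro rfl
      rw [pow_zero] at hj
      exact hSb (Subgroup.card_eq_one.mp hj)
    have hj2 : j ≤ 2 := by
      have hdvd : 3 ^ j ∣ 7920 := by
        rw [← hj, ← hord]
        exact dvd_trans (Subgroup.card_subgroup_dvd_card _)
          (Subgroup.card_subgroup_dvd_card (centralizer (N : Set G)))
      by_contra hlt
      push Not at hlt
      have h27 : 3 ^ 3 ∣ 7920 := dvd_trans (pow_dvd_pow 3 hlt) hdvd
      norm_num at h27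
    have h5i : 5 ∣ (centralizer (N : Set G)).index := by
      have h1 := (centralizer (N : Set G)).card_mul_index
      rw [hord] at h1
      have h2 : 5 ∣ Nat.card (centralizer (N : Set G)) * (centralizer (N : Set G)).index := by
        rw [h1]
        norm_num
      exact ((Nat.Prime.dvd_mul (by norm_num)).mp h2).resolve_left h5
    have h5M := dvd_trans h5i (frat_index_dvd (centralizer (N : Set G)) S)
    apply edge_of_normalizer (r := 3) (s := 5) (by decide) _
      (isPGroup_map_sylow (centralizer (N : Set G)) S) 1 (by rwa [pow_one])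
    rw [card_map_sylow, hj, pow_one]
    interval_cases j
    · exact absurd rfl hj0
    · decide
    · decide

theorem c_11 (hord : Nat.card G = 7920) (N : Subgroup G) [N.Normal] (hd : Nat.card N = 11) :
    Conn G := by
  have : Fact (Nat.Prime 2) := ⟨by norm_num⟩
  have : Fact (Nat.Prime 3) := ⟨by norm_num⟩
  have : Fact (Nat.Prime 5) := ⟨by norm_num⟩
  have : Fact (Nat.Prime 11) := ⟨by norm_num⟩
  have e1 : ∃ g : G, orderOf g = 11 * 2 :=
    edge_frat (r := 11) (s := 2) (by decide) N 7920 1 1 2 hord (hd.trans (by decide)) (by decide)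
      (hall_of_dec 1 11 (2 ^ 2) 7920 (by decide) (by decide +kernel)) (by decide)
  have e2 : ∃ g : G, orderOf g = 11 * 3 :=
    edge_frat (r := 11) (s := 3) (by decide) N 7920 1 1 1 hord (hd.trans (by decide)) (by decide)
      (hall_of_dec 1 11 (3 ^ 1) 7920 (by decide) (by decide +kernel)) (by decide)
  intro f hf
  have h1 := hf 11 2 (by norm_num) (by norm_num) (by norm_num) (by norm_num) e1
  have h2 := hf 11 3 (by norm_num) (by norm_num) (by norm_num) (by norm_num) e2
  rcases c11_aux hord N hd with e3 | e3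
  · have h3 := hf 11 5 (by norm_num) (by norm_num) (by norm_num) (by norm_num) e3
    tauto
  · have h3 := hf 3 5 (by norm_num) (by norm_num) (by norm_num) (by norm_num) e3
    tauto

theorem c_16 (hord : Nat.card G = 7920) (N : Subgroup G) [N.Normal] (hd : Nat.card N = 16) :
    Conn G := by
  have : Fact (Nat.Prime 2) := ⟨by norm_num⟩
  have : Fact (Nat.Prime 3) := ⟨by norm_num⟩
  have : Fact (Nat.Prime 5) := ⟨by norm_num⟩
  have : Fact (Nat.Prime 11) := ⟨by norm_num⟩
  have e1 : ∃ g : G, orderOf g = 2 * 3 :=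
    edge_frat (r := 2) (s := 3) (by decide) N 7920 4 1 2 hord (hd.trans (by decide)) (by decide)
      (hall_of_dec 1 2 (3 ^ 2) 7920 (by decide) (by decide +kernel)) (by decide)
  have e2 : ∃ g : G, orderOf g = 2 * 11 :=
    edge_frat (r := 2) (s := 11) (by decide) N 7920 4 1 1 hord (hd.trans (by decide)) (by decide)
      (hall_of_dec 1 2 (11 ^ 1) 7920 (by decide) (by decide +kernel)) (by decide)
  have hq : Nat.card (G ⧸ N) = 5 ^ 1 * 99 := by
    have h1 := Subgroup.card_eq_card_quotient_mul_card_subgroup N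
    rw [hord, hd] at h1
    omega
  have e3 : ∃ g : G, orderOf g = 5 * 3 :=
    lift_edge N (5 * 3) (edge_sylow (X := G ⧸ N) (r := 5) (s := 3) (by decide) 1 99 2 hq (by decide)
      (hall_of_dec 99 5 (3 ^ 2) (5 ^ 1 * 99) (by decide) (by decide +kernel)) (by decide))
  intro f hf
  have h1 := hf 2 3 (by norm_num) (by norm_num) (by norm_num) (by norm_num) e1
  have h2 := hf 2 11 (by norm_num) (by norm_num) (by norm_num) (by norm_num) e2
  have h3 := hf 5 3 (by norm_num) (by norm_num) (by norm_num) (by norm_num) e3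
  tauto

theorem c_176 (hord : Nat.card G = 7920) (N : Subgroup G) [N.Normal] (hd : Nat.card N = 176) :
    Conn G := by
  have : Fact (Nat.Prime 2) := ⟨by norm_num⟩
  have : Fact (Nat.Prime 3) := ⟨by norm_num⟩
  have : Fact (Nat.Prime 5) := ⟨by norm_num⟩
  have : Fact (Nat.Prime 11) := ⟨by norm_num⟩
  have e1 : ∃ g : G, orderOf g = 2 * 3 :=
    edge_frat (r := 2) (s := 3) (by decide) N 7920 4 11 2 hord (hd.trans (by decide)) (by decide)
      (hall_of_dec 11 2 (3 ^ 2) 7920 (by decide) (by decide +kernel)) (by decide)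
  have e2 : ∃ g : G, orderOf g = 11 * 2 :=
    edge_frat (r := 11) (s := 2) (by decide) N 7920 1 16 2 hord (hd.trans (by decide)) (by decide)
      (hall_of_dec 16 11 (2 ^ 2) 7920 (by decide) (by decide +kernel)) (by decide)
  have hq : Nat.card (G ⧸ N) = 5 ^ 1 * 9 := by
    have h1 := Subgroup.card_eq_card_quotient_mul_card_subgroup N
    rw [hord, hd] at h1
    omega
  have e3 : ∃ g : G, orderOf g = 5 * 3 :=
    lift_edge N (5 * 3) (edge_sylow (X := G ⧸ N) (r := 5) (s := 3) (by decide) 1 9 2 hq (by decide)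
      (hall_of_dec 9 5 (3 ^ 2) (5 ^ 1 * 9) (by decide) (by decide +kernel)) (by decide))
  intro f hf
  have h1 := hf 2 3 (by norm_num) (by norm_num) (by norm_num) (by norm_num) e1
  have h2 := hf 11 2 (by norm_num) (by norm_num) (by norm_num) (by norm_num) e2
  have h3 := hf 5 3 (by norm_num) (by norm_num) (by norm_num) (by norm_num) e3
  tauto

theorem key110 : ∀ n < 111, n ∣ 110 → n % 3 = 1 → n = 1 ∨ n = 10 ∨ n = 22 ∨ n = 55 := by
  decide +kernel

theorem c_990 (hord : Nat.card G = 7920) (N : Subgroup G) [N.Normal] (hd : Nat.card N = 990) :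
    Conn G := by
  have : Fact (Nat.Prime 2) := ⟨by norm_num⟩
  have : Fact (Nat.Prime 3) := ⟨by norm_num⟩
  have : Fact (Nat.Prime 5) := ⟨by norm_num⟩
  have : Fact (Nat.Prime 11) := ⟨by norm_num⟩
  have e1 : ∃ g : G, orderOf g = 5 * 2 :=
    edge_frat (r := 5) (s := 2) (by decide) N 7920 1 198 3 hord (hd.trans (by decide)) (by decide)
      (hall_of_dec 198 5 (2 ^ 3) 7920 (by decide) (by decide +kernel)) (by decide)
  have e2 : ∃ g : G, orderOf g = 11 * 2 :=
    edge_frat (r := 11) (s := 2) (by decide) N 7920 1 90 2 hord (hd.trans (by decide)) (by decide)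
      (hall_of_dec 90 11 (2 ^ 2) 7920 (by decide) (by decide +kernel)) (by decide)
  have hN3 : Nat.card N = 3 ^ 2 * 110 := hd.trans (by decide)
  have hn1 := Sylow.card_sylow_dvd (p := 3) hN3 (by decide)
  have hn2 := Sylow.card_sylow_mod (G := N) 3
  have hlt : Nat.card (_root_.Sylow 3 N) < 111 := Nat.lt_succ_of_le (Nat.le_of_dvd (by norm_num) hn1)
  have e3 : (∃ g : G, orderOf g = 3 * 11) ∨ (∃ g : G, orderOf g = 3 * 5) ∨
      (∃ g : G, orderOf g = 3 * 2) := by
    rcases key110 _ hlt hn1 hn2 with h | h | h | h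
    · exact Or.inl (edge_frat_n (r := 3) (s := 11) (by decide) N 7920 2 110 1 1 hord hN3
        (by decide) h (by decide) (by decide))
    · exact Or.inl (edge_frat_n (r := 3) (s := 11) (by decide) N 7920 2 110 1 10 hord hN3
        (by decide) h (by decide) (by decide))
    · exact Or.inr (Or.inl (edge_frat_n (r := 3) (s := 5) (by decide) N 7920 2 110 1 22 hord hN3
        (by decide) h (by decide) (by decide)))
    · exact Or.inr (Or.inr (edge_frat_n (r := 3) (s := 2) (by decide) N 7920 2 110 4 55 hord hN3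
        (by decide) h (by decide) (by decide)))
  intro f hf
  have h1 := hf 5 2 (by norm_num) (by norm_num) (by norm_num) (by norm_num) e1
  have h2 := hf 11 2 (by norm_num) (by norm_num) (by norm_num) (by norm_num) e2
  rcases e3 with e3 | e3 | e3
  · have h3 := hf 3 11 (by norm_num) (by norm_num) (by norm_num) (by norm_num) e3
    tauto
  · have h3 := hf 3 5 (by norm_num) (by norm_num) (by norm_num) (by norm_num) e3
    tauto
  · have h3 := hf 3 2 (by norm_num) (by norm_num) (by norm_num) (by norm_num) e3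
    tauto

theorem key144 : ∀ n < 145, n ∣ 144 → n % 11 = 1 → n = 1 ∨ n = 12 ∨ n = 144 := by
  decide +kernel

theorem c_1584 (hord : Nat.card G = 7920) (N : Subgroup G) [N.Normal] (hd : Nat.card N = 1584)
    (hmin : ∀ K : Subgroup G, K.Normal → K ≠ ⊥ → K ≠ ⊤ → Nat.card N ≤ Nat.card K) :
    Conn G := by
  have : Fact (Nat.Prime 2) := ⟨by norm_num⟩
  have : Fact (Nat.Prime 3) := ⟨by norm_num⟩
  have : Fact (Nat.Prime 5) := ⟨by norm_num⟩
  have : Fact (Nat.Prime 11) := ⟨by norm_num⟩
  have e1 : ∃ g : G, orderOf g = 3 * 5 :=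
    edge_frat (r := 3) (s := 5) (by decide) N 7920 2 176 1 hord (hd.trans (by decide)) (by decide)
      (hall_of_dec 176 3 (5 ^ 1) 7920 (by decide) (by decide +kernel)) (by decide)
  have hN11 : Nat.card N = 11 ^ 1 * 144 := hd.trans (by decide)
  have hn1 := Sylow.card_sylow_dvd (p := 11) hN11 (by decide)
  have hn2 := Sylow.card_sylow_mod (G := N) 11
  have hlt : Nat.card (_root_.Sylow 11 N) < 145 :=
    Nat.lt_succ_of_le (Nat.le_of_dvd (by norm_num) hn1)
  have e23 : (∃ g : G, orderOf g = 11 * 3) ∧ (∃ g : G, orderOf g = 11 * 2) := by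
    rcases key144 _ hlt hn1 hn2 with h | h | h
    · exact ⟨edge_frat_n (r := 11) (s := 3) (by decide) N 7920 1 144 1 1 hord hN11
        (by decide) h (by decide) (by decide),
        edge_frat_n (r := 11) (s := 2) (by decide) N 7920 1 144 2 1 hord hN11
        (by decide) h (by decide) (by decide)⟩
    · exact ⟨edge_frat_n (r := 11) (s := 3) (by decide) N 7920 1 144 1 12 hord hN11
        (by decide) h (by decide) (by decide),
        edge_frat_n (r := 11) (s := 2) (by decide) N 7920 1 144 2 12 hord hN11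
        (by decide) h (by decide) (by decide)⟩
    · exfalso
      obtain ⟨K, hK1, hK2, hK3⟩ := burnside_of_card (p := 11) N 1 144 hN11 (by decide)
        (by decide) h
      exact min_contra hord N hmin K hK1 144 hK3 (by norm_num) (by rw [hd]; norm_num)
        (by norm_num)
  obtain ⟨e2, e3⟩ := e23
  intro f hf
  have h1 := hf 3 5 (by norm_num) (by norm_num) (by norm_num) (by norm_num) e1
  have h2 := hf 11 3 (by norm_num) (by norm_num) (by norm_num) (by norm_num) e2
  have h3 := hf 11 2 (by norm_num) (by norm_num) (by norm_num) (by norm_num) e3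
  tauto

theorem key396 : ∀ n < 397, n ∣ 396 → n % 5 = 1 →
    n = 1 ∨ n = 6 ∨ n = 11 ∨ n = 36 ∨ n = 66 ∨ n = 396 := by
  decide +kernel

theorem key220 : ∀ n < 221, n ∣ 220 → n % 3 = 1 →
    n = 1 ∨ n = 4 ∨ n = 10 ∨ n = 22 ∨ n = 55 ∨ n = 220 := by
  decide +kernel

theorem c_1980 (hord : Nat.card G = 7920) (N : Subgroup G) [N.Normal] (hd : Nat.card N = 1980)
    (hmin : ∀ K : Subgroup G, K.Normal → K ≠ ⊥ → K ≠ ⊤ → Nat.card N ≤ Nat.card K) :
    Conn G := by
  have : Fact (Nat.Prime 2) := ⟨by norm_num⟩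
  have : Fact (Nat.Prime 3) := ⟨by norm_num⟩
  have : Fact (Nat.Prime 5) := ⟨by norm_num⟩
  have : Fact (Nat.Prime 11) := ⟨by norm_num⟩
  have e1 : ∃ g : G, orderOf g = 11 * 2 :=
    edge_frat (r := 11) (s := 2) (by decide) N 7920 1 180 2 hord (hd.trans (by decide)) (by decide)
      (hall_of_dec 180 11 (2 ^ 2) 7920 (by decide) (by decide +kernel)) (by decide)
  have hN5 : Nat.card N = 5 ^ 1 * 396 := hd.trans (by decide)
  have hm1 := Sylow.card_sylow_dvd (p := 5) hN5 (by decide)
  have hm2 := Sylow.card_sylow_mod (G := N) 5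
  have hmlt : Nat.card (_root_.Sylow 5 N) < 397 :=
    Nat.lt_succ_of_le (Nat.le_of_dvd (by norm_num) hm1)
  have e5 : (∃ g : G, orderOf g = 5 * 2) ∨ (∃ g : G, orderOf g = 5 * 11) := by
    rcases key396 _ hmlt hm1 hm2 with h | h | h | h | h | h
    · exact Or.inl (edge_frat_n (r := 5) (s := 2) (by decide) N 7920 1 396 3 1 hord hN5
        (by decide) h (by decide) (by decide))
    · exact Or.inl (edge_frat_n (r := 5) (s := 2) (by decide) N 7920 1 396 3 6 hord hN5
        (by decide) h (by decide) (by decide))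
    · exact Or.inl (edge_frat_n (r := 5) (s := 2) (by decide) N 7920 1 396 3 11 hord hN5
        (by decide) h (by decide) (by decide))
    · exact Or.inr (edge_frat_n (r := 5) (s := 11) (by decide) N 7920 1 396 1 36 hord hN5
        (by decide) h (by decide) (by decide))
    · exact Or.inl (edge_frat_n (r := 5) (s := 2) (by decide) N 7920 1 396 3 66 hord hN5
        (by decide) h (by decide) (by decide))
    · exfalso
      obtain ⟨K, hK1, hK2, hK3⟩ := burnside_of_card (p := 5) N 1 396 hN5 (by decide)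
        (by decide) h
      exact min_contra hord N hmin K hK1 396 hK3 (by norm_num) (by rw [hd]; norm_num)
        (by norm_num)
  have hN3 : Nat.card N = 3 ^ 2 * 220 := hd.trans (by decide)
  have hn1 := Sylow.card_sylow_dvd (p := 3) hN3 (by decide)
  have hn2 := Sylow.card_sylow_mod (G := N) 3
  have hnlt : Nat.card (_root_.Sylow 3 N) < 221 :=
    Nat.lt_succ_of_le (Nat.le_of_dvd (by norm_num) hn1)
  have e3 : (∃ g : G, orderOf g = 3 * 11) ∨ (∃ g : G, orderOf g = 3 * 5) ∨
      (∃ g : G, orderOf g = 3 * 2) := by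
    rcases key220 _ hnlt hn1 hn2 with h | h | h | h | h | h
    · exact Or.inl (edge_frat_n (r := 3) (s := 11) (by decide) N 7920 2 220 1 1 hord hN3
        (by decide) h (by decide) (by decide))
    · exact Or.inl (edge_frat_n (r := 3) (s := 11) (by decide) N 7920 2 220 1 4 hord hN3
        (by decide) h (by decide) (by decide))
    · exact Or.inl (edge_frat_n (r := 3) (s := 11) (by decide) N 7920 2 220 1 10 hord hN3
        (by decide) h (by decide) (by decide))
    · exact Or.inr (Or.inl (edge_frat_n (r := 3) (s := 5) (by decide) N 7920 2 220 1 22 hord hN3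
        (by decide) h (by decide) (by decide)))
    · exact Or.inr (Or.inr (edge_frat_n (r := 3) (s := 2) (by decide) N 7920 2 220 4 55 hord hN3
        (by decide) h (by decide) (by decide)))
    · exfalso
      obtain ⟨K, hK1, hK2, hK3⟩ := burnside_of_card (p := 3) N 2 220 hN3 (by decide)
        (by decide) h
      exact min_contra hord N hmin K hK1 220 hK3 (by norm_num) (by rw [hd]; norm_num)
        (by norm_num)
  intro f hf
  have h1 := hf 11 2 (by norm_num) (by norm_num) (by norm_num) (by norm_num) e1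
  rcases e5 with e5 | e5 <;> rcases e3 with e3 | e3 | e3
  · have h2 := hf 5 2 (by norm_num) (by norm_num) (by norm_num) (by norm_num) e5
    have h3 := hf 3 11 (by norm_num) (by norm_num) (by norm_num) (by norm_num) e3
    tauto
  · have h2 := hf 5 2 (by norm_num) (by norm_num) (by norm_num) (by norm_num) e5
    have h3 := hf 3 5 (by norm_num) (by norm_num) (by norm_num) (by norm_num) e3
    tauto
  · have h2 := hf 5 2 (by norm_num) (by norm_num) (by norm_num) (by norm_num) e5
    have h3 := hf 3 2 (by norm_num) (by norm_num) (by norm_num) (by norm_num) e3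
    tauto
  · have h2 := hf 5 11 (by norm_num) (by norm_num) (by norm_num) (by norm_num) e5
    have h3 := hf 3 11 (by norm_num) (by norm_num) (by norm_num) (by norm_num) e3
    tauto
  · have h2 := hf 5 11 (by norm_num) (by norm_num) (by norm_num) (by norm_num) e5
    have h3 := hf 3 5 (by norm_num) (by norm_num) (by norm_num) (by norm_num) e3
    tauto
  · have h2 := hf 5 11 (by norm_num) (by norm_num) (by norm_num) (by norm_num) e5
    have h3 := hf 3 2 (by norm_num) (by norm_num) (by norm_num) (by norm_num) e3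
    tauto

theorem c_3960 (hord : Nat.card G = 7920) (N : Subgroup G) [N.Normal] (hd : Nat.card N = 3960)
    (hmin : ∀ K : Subgroup G, K.Normal → K ≠ ⊥ → K ≠ ⊤ → Nat.card N ≤ Nat.card K) :
    Conn G := by
  exfalso
  have hidx : N.index = 2 := by
    have h1 := N.card_mul_index
    rw [hord, hd] at h1
    omega
  have hs : IsSimpleGroup N := by
    apply simple_of_index_two_min N hidx hmin
    · intro m hm
      rw [hd] at hm
      have h2 : m ≤ 62 ∨ 63 ≤ m := by omega
      rcases h2 with h2 | h2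
      · nlinarith
      · nlinarith
    · rw [hd]
      norm_num
  exact no_simple_3960 (X := N)
    (fun P u hu huP hiso => Cfsg.Agent.S0215.result P u hu huP hiso) hd

theorem divs_small : ∀ k < 90, k ∣ 7920 →
    k ∈ ([1, 2, 3, 4, 5, 6, 8, 9, 10, 11, 12, 15, 16, 18, 20, 22, 24, 30, 33, 36, 40, 44, 45, 48, 55, 60, 66, 72, 80, 88] : List ℕ) := by
  decide +kernel

theorem divs (d : ℕ) (hd : d ∣ 7920) :
    d ∈ ([1, 2, 3, 4, 5, 6, 8, 9, 10, 11, 12, 15, 16, 18, 20, 22, 24, 30, 33, 36, 40, 44, 45, 48, 55, 60, 66, 72, 80, 88, 90, 99, 110, 120, 132, 144, 165, 176, 180, 198, 220, 240, 264, 330, 360, 396, 440, 495, 528, 660, 720, 792, 880, 990, 1320, 1584, 1980, 2640, 3960, 7920] : List ℕ) := by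
  by_cases h : d < 90
  · have h0 := divs_small d h hd
    simp only [List.mem_cons, List.mem_nil_iff, or_false] at h0
    rcases h0 with h1 | h1 | h1 | h1 | h1 | h1 | h1 | h1 | h1 | h1 | h1 | h1 | h1 | h1 | h1 | h1 | h1 | h1 | h1 | h1 | h1 | h1 | h1 | h1 | h1 | h1 | h1 | h1 | h1 | h1 <;> (rw [h1]; decide)
  · have hk1 : 7920 / d ∣ 7920 := Nat.div_dvd_of_dvd hd
    have hk2 : 7920 / d < 90 := by
      have h90 : 90 ≤ d := by omega
      have h2 : 7920 / d ≤ 7920 / 90 := Nat.div_le_div_left h90 (by norm_num)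
      have h3 : 7920 / 90 < 90 := by norm_num
      omega
    have hk3 : 7920 / (7920 / d) = d := Nat.div_div_self hd (by norm_num)
    have h0 := divs_small _ hk2 hk1
    simp only [List.mem_cons, List.mem_nil_iff, or_false] at h0
    rcases h0 with h1 | h1 | h1 | h1 | h1 | h1 | h1 | h1 | h1 | h1 | h1 | h1 | h1 | h1 | h1 | h1 | h1 | h1 | h1 | h1 | h1 | h1 | h1 | h1 | h1 | h1 | h1 | h1 | h1 | h1 <;> (rw [← hk3, h1]; decide)

theorem conn_of_normal (hord : Nat.card G = 7920) (N : Subgroup G) [N.Normal] (hNb : N ≠ ⊥)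
    (hNt : N ≠ ⊤)
    (hmin : ∀ K : Subgroup G, K.Normal → K ≠ ⊥ → K ≠ ⊤ → Nat.card N ≤ Nat.card K) : Conn G := by
  have hdvd : Nat.card N ∣ 7920 := by
    rw [← hord]
    exact Subgroup.card_subgroup_dvd_card N
  have h1 : Nat.card N ≠ 1 := fun h => hNb (Subgroup.card_eq_one.mp h)
  have h2 : Nat.card N ≠ 7920 := fun h => hNt ((Subgroup.card_eq_iff_eq_top N).mp (h.trans hord.symm))
  have hmem := divs _ hdvd
  simp only [List.mem_cons, List.mem_nil_iff, or_false] at hmem
  rcases hmem with h | h | h | h | h | h | h | h | h | h | h | h | h | h | h | h | h | h | h | h | h | h | h | h | h | h | h | h | h | h | h | h | h | h | h | h | h | h | h | h | h | h | h | h | h | h | h | h | h | h | h | h | h | h | h | h | h | h | h | h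
  · exact absurd h h1
  · exact c_2 hord N h
  · exact c_3 hord N h
  · exact c_4 hord N h
  · exact c_5 hord N h
  · exact c_6 hord N h
  · exact c_8 hord N h
  · exact c_9 hord N h
  · exact c_10 hord N h
  · exact c_11 hord N h
  · exact c_12 hord N h
  · exact c_15 hord N h
  · exact c_16 hord N h
  · exact c_18 hord N h
  · exact c_20 hord N h
  · exact c_22 hord N h
  · exact c_24 hord N h
  · exact c_30 hord N h
  · exact c_33 hord N h
  · exact c_36 hord N h
  · exact c_40 hord N h
  · exact c_44 hord N h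
  · exact c_45 hord N h
  · exact c_48 hord N h
  · exact c_55 hord N h
  · exact c_60 hord N h
  · exact c_66 hord N h
  · exact c_72 hord N h
  · exact c_80 hord N h
  · exact c_88 hord N h
  · exact c_90 hord N h
  · exact c_99 hord N h
  · exact c_110 hord N h
  · exact c_120 hord N h
  · exact c_132 hord N h
  · exact c_144 hord N h
  · exact c_165 hord N h
  · exact c_176 hord N h
  · exact c_180 hord N h
  · exact c_198 hord N h
  · exact c_220 hord N h
  · exact c_240 hord N h
  · exact c_264 hord N h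
  · exact c_330 hord N h
  · exact c_360 hord N h
  · exact c_396 hord N h
  · exact c_440 hord N h
  · exact c_495 hord N h
  · exact c_528 hord N h
  · exact c_660 hord N h
  · exact c_720 hord N h
  · exact c_792 hord N h
  · exact c_880 hord N h
  · exact c_990 hord N h
  · exact c_1320 hord N h
  · exact c_1584 hord N h hmin
  · exact c_1980 hord N h hmin
  · exact c_2640 hord N h
  · exact c_3960 hord N h hmin
  · exact absurd h h2


end

theorem prime_dvd_7920 (p : ℕ) (hp : p.Prime) (h : p ∣ 7920) :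
    p = 2 ∨ p = 3 ∨ p = 5 ∨ p = 11 := by
  have h' : p ∣ 2 ^ 4 * 3 ^ 2 * 5 * 11 := by
    have e : (7920 : ℕ) = 2 ^ 4 * 3 ^ 2 * 5 * 11 := by norm_num
    rwa [e] at h
  rcases (Nat.Prime.dvd_mul hp).mp h' with h1 | h1
  · rcases (Nat.Prime.dvd_mul hp).mp h1 with h2 | h2
    · rcases (Nat.Prime.dvd_mul hp).mp h2 with h3 | h3
      · exact Or.inl ((Nat.prime_dvd_prime_iff_eq hp Nat.prime_two).mp (hp.dvd_of_dvd_pow h3))
      · exact Or.inr (Or.inl
          ((Nat.prime_dvd_prime_iff_eq hp Nat.prime_three).mp (hp.dvd_of_dvd_pow h3)))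
    · exact Or.inr (Or.inr (Or.inl ((Nat.prime_dvd_prime_iff_eq hp (by norm_num)).mp h2)))
  · exact Or.inr (Or.inr (Or.inr ((Nat.prime_dvd_prime_iff_eq hp (by norm_num)).mp h1)))

theorem main {G : Type*} [Group G] [Finite G] (hord : Nat.card G = 7920)
    (hdisc : (∃ A : Set ℕ, (∃ a ∈ A, a.Prime ∧ a ∣ Nat.card G) ∧ (∃ b ∉ A, b.Prime ∧ b ∣ Nat.card G) ∧
      ∀ a ∈ A, ∀ b ∉ A, a.Prime → b.Prime → a ∣ Nat.card G → b ∣ Nat.card G → ¬ ∃ g : G, orderOf g = a * b)) :
    IsSimpleGroup G := by
  by_contra hns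
  have hnt : Nontrivial G := Finite.one_lt_card_iff_nontrivial.mp (by rw [hord]; norm_num)
  have hex0 : ∃ N0 : Subgroup G, N0.Normal ∧ N0 ≠ ⊥ ∧ N0 ≠ ⊤ := by
    by_contra hno
    push Not at hno
    apply hns
    refine ⟨fun H hH => ?_⟩
    by_contra h
    push Not at h
    exact h.2 (hno H hH h.1)
  classical
  have hex : ∃ n, ∃ K : Subgroup G, K.Normal ∧ K ≠ ⊥ ∧ K ≠ ⊤ ∧ Nat.card K = n := by
    obtain ⟨N0, h1, h2, h3⟩ := hex0
    exact ⟨_, N0, h1, h2, h3, rfl⟩
  obtain ⟨N, hNn, hNb, hNt, hNc⟩ := Nat.find_spec hex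
  have hmin : ∀ K : Subgroup G, K.Normal → K ≠ ⊥ → K ≠ ⊤ → Nat.card N ≤ Nat.card K := by
    intro K hK1 hK2 hK3
    rw [hNc]
    exact Nat.find_min' hex ⟨K, hK1, hK2, hK3, rfl⟩
  have hconn : Conn G := conn_of_normal hord N hNb hNt hmin
  obtain ⟨A, ⟨a, haA, hap, had⟩, ⟨b, hbA, hbp, hbd⟩, hno⟩ := hdisc
  rw [hord] at had hbd hno
  have hf := hconn (fun r => r ∈ A) (by
    intro r s hr hs hrd hsd he
    constructor
    · intro hrA
      by_contra hsA
      exact hno r hrA s hsA hr hs hrd hsd he
    · intro hsA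
      by_contra hrA
      obtain ⟨g, hg⟩ := he
      exact hno s hsA r hrA hs hr hsd hrd ⟨g, by rw [hg, mul_comm]⟩)
  obtain ⟨f1, f2, f3⟩ := hf
  rcases prime_dvd_7920 a hap had with rfl | rfl | rfl | rfl <;>
    rcases prime_dvd_7920 b hbp hbd with rfl | rfl | rfl | rfl <;> tauto

/-- Let G be a finite group of order 7920 = 2⁴·3²·5·11 (the order of the smallest Mathieu group) and suppose its prime graph (vertices the prime divisors of the order, distinct p, q joined when there is an element of order pq) is disconnected: the prime divisors split into two non-empty parts with no element of order pq for p in one part and q in the other. Then G is simple. -/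
theorem result {G : Type*} [Group G] [Finite G] (hord : Nat.card G = 7920)
    (hdisc : (∃ A : Set ℕ, (∃ a ∈ A, a.Prime ∧ a ∣ Nat.card G) ∧ (∃ b ∉ A, b.Prime ∧ b ∣ Nat.card G) ∧
      ∀ a ∈ A, ∀ b ∉ A, a.Prime → b.Prime → a ∣ Nat.card G → b ∣ Nat.card G → ¬ ∃ g : G, orderOf g = a * b)) :
    IsSimpleGroup G := by
  exact main hord hdisc

end Cfsg.Agent.S2490
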