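import Cfsg.Statements.S3888
import Cfsg.Agent.Lib.Helper70.Blackburn4
import Cfsg.Agent.Lib.Helper70.BlackburnBeta
import Cfsg.Agent.S4143
import Cfsg.Agent.S3771
import Cfsg.Agent.S1335
import Cfsg.Agent.S0639
import Cfsg.Agent.S0128
import Cfsg.Agent.S0126

set_option autoImplicit false
open Cfsg

namespace Cfsg.Agent.S3888

open Subgroup
open scoped commutatorElement
open Cfsg.Agent.Lib.Helper70.OmegaSmall

universe u

/-- Commutators with elements of a normal elementary abelian subgroup of order `p²` of a
`p`-group are central of order dividing `p`. -/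
theorem comm_central {p : ℕ} [hp : Fact p.Prime] {G : Type u} [Group G] [Finite G]
    (hGp : IsPGroup p G) (N : Subgroup G) [hNn : N.Normal] (hNc : Nat.card N = p ^ 2)
    (hNp : ∀ t ∈ N, t ^ p = 1) (u : G) (hu : u ∈ N) (g : G) :
    (∀ h : G, ⁅u, g⁆ * h = h * ⁅u, g⁆) ∧ ⁅u, g⁆ ^ p = 1 := by
  have hpp := hp.out
  have hNne : N ≠ ⊥ := by
    intro h
    rw [h, Subgroup.card_bot] at hNc
    have : 1 < p ^ 2 := Nat.one_lt_pow (by norm_num) hpp.one_lt
    omega
  obtain ⟨z₀, hz₀N, hz₀c, hz₀o⟩ := exists_central_of_normal hGp N hNne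
  obtain ⟨Z₀, hZ₀def⟩ : ∃ Z₀ : Subgroup G, Z₀ = zpowers z₀ := ⟨_, rfl⟩
  have hZ₀card : Nat.card Z₀ = p := by rw [hZ₀def, Nat.card_zpowers, hz₀o]
  have hZ₀N : Z₀ ≤ N := by rw [hZ₀def, zpowers_le]; exact hz₀N
  have hZ₀c : ∀ z ∈ Z₀, ∀ g : G, z * g = g * z := by
    intro z hz g
    rw [hZ₀def] at hz
    obtain ⟨k, rfl⟩ := mem_zpowers_iff.mp hz
    have c : Commute z₀ g := (mem_center_iff.mp hz₀c g).symm
    exact (c.zpow_left k).eq
  have hZ₀n : Z₀.Normal := ⟨fun z hz g => by
    rw [← hZ₀c z hz g, mul_inv_cancel_right]; exact hz⟩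
  have hcomm : ∀ u ∈ N, ∀ g : G, ⁅g, u⁆ ∈ Z₀ := by
    have hT : (N.map (QuotientGroup.mk' Z₀)).Normal :=
      Subgroup.Normal.map hNn _ (QuotientGroup.mk'_surjective Z₀)
    have hTcard : Nat.card (N.map (QuotientGroup.mk' Z₀)) = p := by
      have h1 := card_map_mk_mul Z₀ N hZ₀N
      rw [hZ₀card, hNc, pow_two] at h1
      exact Nat.eq_of_mul_eq_mul_right hpp.pos h1
    have hTne : N.map (QuotientGroup.mk' Z₀) ≠ ⊥ := by
      intro h
      rw [h, Subgroup.card_bot] at hTcard
      exact hpp.one_lt.ne hTcard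
    obtain ⟨t, htT, htc, hto⟩ := exists_central_of_normal (hGp.to_quotient Z₀) _ hTne
    have ht1 : t ≠ 1 := by
      intro h
      rw [h, orderOf_one] at hto
      exact hpp.one_lt.ne hto
    have hle := Cfsg.Agent.S0637.le_of_mem_of_card _ _ hTcard t htT htc ht1
    intro u hu g
    rw [← QuotientGroup.eq_one_iff]
    have h1 : ((⁅g, u⁆ : G) : G ⧸ Z₀)
        = ⁅(QuotientGroup.mk' Z₀ g), (QuotientGroup.mk' Z₀ u)⁆ := rfl
    rw [h1]
    exact commutatorElement_eq_one_iff_commute.mpr
      (mem_center_iff.mp (hle (mem_map_of_mem _ hu)) _)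
  have h1 : ⁅u, g⁆ ∈ Z₀ := by
    rw [← commutatorElement_inv]
    exact Z₀.inv_mem (hcomm u hu g)
  exact ⟨hZ₀c _ h1, hNp _ (hZ₀N h1)⟩

/-- The classification of the p-groups of rank at most two for odd p. Let p be an odd prime and G a group of order p^n with no elementary abelian subgroup of order p³. Then one of the following holds: G is metacyclic; n ≥ 3 and G is generated by elements x, y, z with x^p = y^p = z^(p^(n−2)) = 1, z commuting with x and y, and x⁻¹yx = y z^(p^(n−3)); n ≥ 4 and G is generated by elements x, y, z with x^p = y^p = z^(p^(n−2)) = 1, yz = zy, x⁻¹yx = y z^(s p^(n−3)) and x⁻¹zx = yz, where s = 1 or s is a quadratic non-residue modulo p; or p = 3 and G has maximal class (nilpotency class n − 1). -/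
theorem result {G : Type*} [Group G] [Finite G] {p : ℕ} [Fact p.Prime] (hp : p ≠ 2) (n : ℕ) (hG : Nat.card G = p ^ n)
    (hrk : Cfsg.PRankLE p 2 G) :
    Cfsg.IsMetacyclic G ∨
    (3 ≤ n ∧ ∃ x y z : G, Subgroup.closure ({x, y, z} : Set G) = ⊤ ∧ x ^ p = 1 ∧ y ^ p = 1 ∧ z ^ p ^ (n - 2) = 1 ∧
        x * z = z * x ∧ y * z = z * y ∧ x⁻¹ * y * x = y * z ^ p ^ (n - 3)) ∨
    (4 ≤ n ∧ ∃ (s : ℕ) (x y z : G), (s = 1 ∨ ¬ IsSquare (s : ZMod p)) ∧ Subgroup.closure ({x, y, z} : Set G) = ⊤ ∧
        x ^ p = 1 ∧ y ^ p = 1 ∧ z ^ p ^ (n - 2) = 1 ∧ y * z = z * y ∧ x⁻¹ * y * x = y * z ^ (s * p ^ (n - 3)) ∧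
        x⁻¹ * z * x = y * z) ∨
    (p = 3 ∧ 2 ≤ n ∧ (⊤ : Subgroup G).lowerCentralSeries (n - 2) ≠ ⊥) := by
  classical
  have hpp : p.Prime := Fact.out
  have hGp : IsPGroup p G := IsPGroup.of_card hG
  have : Group.IsNilpotent G := hGp.isNilpotent
  have hmaxcl : Group.nilpotencyClass G = n - 1 → 2 ≤ n →
      (⊤ : Subgroup G).lowerCentralSeries (n - 2) ≠ ⊥ := by
    intro hcl hn2 hbot
    rw [Subgroup.lowerCentralSeries_eq_bot_iff_nilpotencyClass_le] at hbot
    omega
  by_cases h3 : 3 < p
  · have hmul : ∀ g : G, g ∈ Subgroup.closure {x : G | x ^ p = 1} → g ^ p = 1 := fun g hg =>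
      Cfsg.Agent.S0128.result h3 hGp (fun E hE => hrk E hE.1 hE.2) g hg
    obtain ⟨W, hWmem⟩ : ∃ W : Subgroup G, ∀ x : G, x ∈ W ↔ x ^ p = 1 :=
      ⟨Subgroup.closure {x : G | x ^ p = 1},
        fun x => ⟨hmul x, fun h => Subgroup.subset_closure h⟩⟩
    have hWle : Nat.card W ≤ p ^ 3 := by
      apply Cfsg.Agent.S3771.result (hGp.to_subgroup W)
        (Cfsg.Agent.S1335.pRankLE_of_injective p 2 W.subtype W.subtype_injective hrk)
      intro x
      have := (hWmem x).mp x.2
      exact Subtype.ext (by simpa using this)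
    by_cases hW2 : Nat.card W ≤ p ^ 2
    · left
      have hO : Nat.card (Cfsg.omegaOne p (⊤ : Subgroup G)) ≤ p ^ 2 := by
        have : Cfsg.omegaOne p (⊤ : Subgroup G) = W := by
          apply le_antisymm
          · unfold Cfsg.omegaOne
            rw [Subgroup.closure_le]
            rintro x ⟨-, hx⟩
            exact (hWmem x).mpr hx
          · intro x hx
            exact Subgroup.subset_closure ⟨Subgroup.mem_top x, (hWmem x).mp hx⟩
        rw [this]; exact hW2
      exact Cfsg.Agent.S0639.result h3 hGp hO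
    · have hWc : Nat.card W = p ^ 3 := by
        obtain ⟨k, hk⟩ := (IsPGroup.iff_card).mp (hGp.to_subgroup W)
        rw [hk] at hW2 hWle ⊢
        have hk3 : k ≤ 3 := (Nat.pow_le_pow_iff_right hpp.one_lt).mp hWle
        have hk2 : ¬ k ≤ 2 := fun h => hW2 (Nat.pow_le_pow_right hpp.pos h)
        have : k = 3 := by omega
        rw [this]
      have hWn : W.Normal := ⟨fun w hw g => by
        rw [hWmem, conj_pow, (hWmem w).mp hw, mul_one, mul_inv_cancel]⟩
      rcases Cfsg.Agent.Lib.Helper70.Blackburn4.structI hp n hG hrk W hWc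
        (fun w hw => (hWmem w).mp hw) with h | h
      · right; left; exact h
      · right; right; left; exact h
  · have hp3 : p = 3 := by
      have := hpp.two_le
      omega
    by_cases hE : ∃ E : Subgroup G, p ^ 3 ≤ Nat.card E ∧ ∀ x ∈ E, x ^ p = 1
    · obtain ⟨E, hEge, hEp⟩ := hE
      have hEc : Nat.card E = p ^ 3 := by
        refine le_antisymm ?_ hEge
        apply Cfsg.Agent.S3771.result (hGp.to_subgroup E)
          (Cfsg.Agent.S1335.pRankLE_of_injective p 2 E.subtype E.subtype_injective hrk)
        intro x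
        exact Subtype.ext (by simpa using hEp x x.2)
      have hn3 : 3 ≤ n := by
        have h1 : Nat.card E ≤ Nat.card G := Subgroup.card_le_card_group E
        rw [hEc, hG] at h1
        exact (Nat.pow_le_pow_iff_right hpp.one_lt).mp h1
      by_cases hcen : centralizer (E : Set G) ≤ E
      · right; right; right
        have hEna : ¬ IsMulCommutative E := by
          intro hcomm
          have h1 := hrk E hcomm hEp
          rw [hEc] at h1
          have h2 : p ^ 2 < p ^ 3 := Nat.pow_lt_pow_right hpp.one_lt (by norm_num)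
          omega
        have hcl := Cfsg.Agent.S4143.result n hG E hEc hEna hcen
        exact ⟨hp3, by omega, hmaxcl hcl (by omega)⟩
      · obtain ⟨k₀, hk₀C, hk₀E⟩ := SetLike.not_le_iff_exists.mp hcen
        obtain ⟨H, hHdef⟩ : ∃ H : Subgroup G, H = normalizer (E : Set G) := ⟨_, rfl⟩
        have hEH : E ≤ H := by rw [hHdef]; exact le_normalizer
        have hΩ : ∀ t ∈ H, t ^ p = 1 → t ∈ E := by
          subst hHdef
          have : (E.subgroupOf (normalizer (E : Set G))).Normal :=
            Subgroup.normal_in_normalizer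
          have hk₀H : k₀ ∈ normalizer (E : Set G) := centralizer_le_normalizer _ hk₀C
          have hcard : Nat.card (E.subgroupOf (normalizer (E : Set G))) = p ^ 3 := by
            rw [← hEc]
            exact Nat.card_congr (Subgroup.subgroupOfEquivOfLe hEH).toEquiv
          have key := Cfsg.Agent.Lib.Helper70.Blackburn4.omega_of hp
            (hGp.to_subgroup (normalizer (E : Set G)))
            (Cfsg.Agent.S1335.pRankLE_of_injective p 2 (normalizer (E : Set G)).subtype
              (Subgroup.subtype_injective _) hrk)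
            (E.subgroupOf (normalizer (E : Set G))) hcard
            (fun w hw => Subtype.ext (by simpa using hEp w (mem_subgroupOf.mp hw)))
            ⟨k₀, hk₀H⟩
            (fun w hw => Subtype.ext (mem_centralizer_iff.mp hk₀C w (mem_subgroupOf.mp hw)))
            (fun h => hk₀E (mem_subgroupOf.mp h))
          intro t ht htp
          have := key ⟨t, ht⟩ (Subtype.ext (by simpa using htp))
          exact mem_subgroupOf.mp this
        have hNH : normalizer (H : Set G) = H := by
          refine le_antisymm ?_ le_normalizer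
          intro g hg
          rw [hHdef]
          apply Cfsg.Agent.S0639.mem_normalizer_of_conj E g
          intro e he
          have h1 : g * e * g⁻¹ ∈ H := (mem_normalizer_iff.mp hg e).mp (hEH he)
          exact hΩ _ h1 (by rw [conj_pow, hEp e he, mul_one, mul_inv_cancel])
        have hHtop : H = ⊤ :=
          normalizerCondition_iff_only_full_group_self_normalizing.mp
            Group.normalizerCondition_of_isNilpotent H hNH
        have hEn : E.Normal := by
          rw [← normalizer_eq_top_iff, ← hHdef]; exact hHtop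
        rcases Cfsg.Agent.Lib.Helper70.Blackburn4.structI hp n hG hrk E hEc hEp with h | h
        · right; left; exact h
        · right; right; left; exact h
    · by_cases hcyc : IsCyclic G
      · left
        exact ⟨⊤, inferInstance, inferInstance,
          isCyclic_of_surjective (QuotientGroup.mk' ⊤) (QuotientGroup.mk'_surjective ⊤)⟩
      · obtain ⟨N, hNn, ⟨hNcomm, hNp⟩, hNc⟩ := Cfsg.Agent.S0126.result hp hGp hcyc
        have hNab : ∀ a ∈ N, ∀ b ∈ N, a * b = b * a := by
          intro a ha b hb
          have := hNcomm.is_comm.comm ⟨a, ha⟩ ⟨b, hb⟩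
          exact congrArg Subtype.val this
        have hn2 : 2 ≤ n := by
          have h1 : Nat.card N ≤ Nat.card G := Subgroup.card_le_card_group N
          rw [hNc, hG] at h1
          exact (Nat.pow_le_pow_iff_right hpp.one_lt).mp h1
        have hNall : ∀ t : G, t ^ p = 1 → t ∈ N := by
          intro t ht
          by_contra htN
          apply hE
          refine ⟨N ⊔ zpowers t, ?_, ?_⟩
          · have hlt : N < N ⊔ zpowers t := by
              refine lt_of_le_of_ne le_sup_left ?_
              intro h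
              apply htN
              rw [h]
              exact mem_sup_right (mem_zpowers t)
            have h1 := Cfsg.Agent.S0128.mul_card_le_of_lt hGp hlt
            rw [hNc] at h1
            calc p ^ 3 = p * p ^ 2 := by ring
              _ ≤ _ := h1
          · intro x hx
            have hx' : x ∈ ((N ⊔ zpowers t : Subgroup G) : Set G) := hx
            rw [Subgroup.normal_mul] at hx'
            obtain ⟨u, hu, v, hv, rfl⟩ := Set.mem_mul.mp hx'
            obtain ⟨k, rfl⟩ := mem_zpowers_iff.mp hv
            obtain ⟨hc, hcp⟩ := comm_central hGp N hNc hNp u hu (t ^ k)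
            have hform := Cfsg.Agent.Lib.Helper70.PCentral.mul_pow_central u (t ^ k) hc p
            have hdvd : p ∣ p.choose 2 :=
              Nat.Prime.dvd_choose_self hpp (by norm_num) (by have := hpp.two_le; omega)
            obtain ⟨q, hq⟩ := hdvd
            have htk : (t ^ k) ^ p = 1 := by
              rw [← zpow_natCast, ← zpow_mul, mul_comm, zpow_mul, zpow_natCast, ht, one_zpow]
            rw [hform, hNp u hu, htk, inv_pow, hq, pow_mul, hcp, one_pow, inv_one, mul_one,
              mul_one]
        rcases Cfsg.Agent.Lib.Helper70.BlackburnBeta.beta hp n hG N hNc hNab hNp hNall with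
          h | h
        · left; exact h
        · right; right; right
          exact ⟨hp3, hn2, hmaxcl h hn2⟩

end Cfsg.Agent.S3888
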