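import Cfsg.Statements.S3919
import Cfsg.Agent.Lib.Helper54.CyclicNormal
import Cfsg.Agent.Lib.Helper54.MaxClass

set_option autoImplicit false
open Cfsg

namespace Cfsg.Agent.S3919

open Subgroup
open scoped commutatorElement
open Cfsg.Agent.Lib.Helper54.UniqueSubgroup
open Cfsg.Agent.Lib.Helper54.FpfNorm
open Cfsg.Agent.Lib.Helper54.CyclicNormal
open Cfsg.Agent.Lib.Helper54.MaxClass

universe u

theorem isCyclic_of_le_zpowers {G : Type u} [Group G] {H : Subgroup G} {a : G}
    (h : H ≤ zpowers a) : IsCyclic H :=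
  isCyclic_of_surjective (Subgroup.subgroupOfEquivOfLe h) (Subgroup.subgroupOfEquivOfLe h).surjective

theorem zpow_of_sq_eq_one {G : Type u} [Group G] {w : G} (hw : w ^ 2 = 1) (i : ℤ) :
    w ^ i = 1 ∨ w ^ i = w := by
  rcases Int.emod_two_eq_zero_or_one i with h | h
  · left
    obtain ⟨j, hj⟩ : ∃ j, i = 2 * j := ⟨i / 2, by omega⟩
    rw [hj, zpow_mul, zpow_ofNat, hw, one_zpow]
  · right
    obtain ⟨j, hj⟩ : ∃ j, i = 2 * j + 1 := ⟨i / 2, by omega⟩
    rw [hj, zpow_add, zpow_mul, zpow_ofNat, hw, one_zpow, one_mul, zpow_one]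

/-- In a `2`-group of maximal class every noncyclic subgroup contains its centralizer. -/
theorem centralizer_le_of_maxclass {G : Type u} [Group G] [Finite G] {m : ℕ}
    (hcard : Nat.card G = 2 ^ (m + 3)) (hlcs : (⊤ : Subgroup G).lowerCentralSeries (m + 1) ≠ ⊥)
    (H : Subgroup G) (hH : ¬ IsCyclic H) : centralizer (H : Set G) ≤ H := by
  have : Fact (Nat.Prime 2) := ⟨Nat.prime_two⟩
  have hG : IsPGroup 2 G := IsPGroup.of_card hcard
  obtain ⟨a, ha⟩ := exists_orderOf_of_lcs_ne_bot m G hcard hlcs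
  have hZcard : Nat.card (center G) = 2 :=
    card_center_of_lcs_ne_bot (n := m + 3) hcard (by omega) hlcs
  have hidx : (zpowers a).index = 2 := by
    have := (zpowers a).card_mul_index
    rw [Nat.card_zpowers, ha, hcard, pow_succ 2 (m + 2)] at this
    exact Nat.eq_of_mul_eq_mul_left (by positivity) this
  have hN : (zpowers a).Normal := normal_of_index_eq_two hidx
  set z : G := a ^ 2 ^ (m + 1) with hz
  have hz1 : z ≠ 1 := by
    apply pow_ne_one_of_lt_orderOf (by positivity)
    rw [ha]; exact Nat.pow_lt_pow_right (by norm_num) (by omega)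
  have hz2 : z ^ 2 = 1 := by rw [hz, ← pow_mul, ← pow_succ, ← ha, pow_orderOf_eq_one]
  have hhalf : ∀ c : G, c ∈ zpowers a → c ^ 2 = 1 → c ≠ 1 → c = z := fun c hc hc2 hc1 =>
    Cfsg.Agent.Lib.Helper54.Quaternion.eq_pow_half_of_mem_zpowers (k := 2 ^ (m + 1))
      (by rw [ha, pow_succ']) (orderOf_eq_prime hc2 hc1) hc
  have hzc : z ∈ center G := by
    rw [mem_center_iff]; intro g
    have h1 : g * z * g⁻¹ ∈ zpowers a := hN.conj_mem z (pow_mem (mem_zpowers a) _) g
    have h2 : (g * z * g⁻¹) ^ 2 = 1 := by rw [conj_pow, hz2, mul_one, mul_inv_cancel]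
    have h3 : g * z * g⁻¹ ≠ 1 := by
      intro h; apply hz1
      have : z = g⁻¹ * (g * z * g⁻¹) * g := by group
      rw [this, h]; group
    have h4 := hhalf _ h1 h2 h3
    calc g * z = g * z * g⁻¹ * g := by group
      _ = z * g := by rw [h4]
  have hcen : ∀ c ∈ center G, c = 1 ∨ c = z := by
    intro c hc
    have hle : zpowers z ≤ center G := zpowers_le.2 hzc
    have heq : zpowers z = center G :=
      eq_of_le_of_card_ge hle (by rw [hZcard, Nat.card_zpowers, orderOf_eq_prime hz2 hz1])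
    rw [← heq] at hc
    obtain ⟨i, rfl⟩ := mem_zpowers_iff.1 hc
    exact zpow_of_sq_eq_one hz2 i
  have hkey : ∀ c y : G, c ∈ zpowers a → y ∉ zpowers a → Commute c y → c ∈ center G := by
    intro c y hc hy hcy
    rw [mem_center_iff]; intro g
    by_cases hg : g ∈ zpowers a
    · exact (commute_of_mem_zpowers hg hc).eq
    · have h1 : g * y ∈ zpowers a := (mul_mem_iff_of_index_two hidx).2 (iff_of_false hg hy)
      have h2 : Commute (g * y) c := commute_of_mem_zpowers h1 hc
      have h3 : g = g * y * y⁻¹ := by group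
      rw [h3]
      exact (h2.mul_left hcy.symm.inv_left).eq
  have hex : ∃ y ∈ H, y ∉ zpowers a := by
    by_contra hall
    push Not at hall
    exact hH (isCyclic_of_le_zpowers hall)
  obtain ⟨y, hyH, hyA⟩ := hex
  have hzH : z ∈ H := by
    by_contra hzH
    apply hH
    have hinter : ∀ c ∈ H, c ∈ zpowers a → c = 1 := by
      intro c hcH hcA
      by_contra hc1
      obtain ⟨j, hj1, hj2⟩ := exists_pow_prime hG hc1
      have h3 := hhalf _ (pow_mem hcA j) hj2 hj1
      exact hzH (h3 ▸ pow_mem hcH j)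
    apply isCyclic_of_le_zpowers (a := y)
    intro h hh
    by_cases hhA : h ∈ zpowers a
    · rw [hinter h hh hhA]; exact one_mem _
    · have h1 : h * y ∈ zpowers a := (mul_mem_iff_of_index_two hidx).2 (iff_of_false hhA hyA)
      have h2 := hinter (h * y) (mul_mem hh hyH) h1
      have h3 : h = y⁻¹ := eq_inv_of_mul_eq_one_left h2
      rw [h3]; exact inv_mem (mem_zpowers y)
  intro g hg
  rw [mem_centralizer_iff] at hg
  have hgy : Commute g y := (hg y hyH).symm
  by_cases hgA : g ∈ zpowers a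
  · rcases hcen g (hkey g y hgA hyA hgy) with h | h
    · rw [h]; exact one_mem _
    · rw [h]; exact hzH
  · have h1 : g * y ∈ zpowers a := (mul_mem_iff_of_index_two hidx).2 (iff_of_false hgA hyA)
    have h2 : Commute (g * y) y := hgy.mul_left (Commute.refl y)
    rcases hcen (g * y) (hkey (g * y) y h1 hyA h2) with h | h
    · have : g = y⁻¹ := eq_inv_of_mul_eq_one_left h
      rw [this]; exact inv_mem hyH
    · have : g = z * y⁻¹ := by rw [← h]; group
      rw [this]; exact mul_mem hzH (inv_mem hyH)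

/-- The dihedral, semidihedral and quaternion groups have maximal class. -/
theorem lcs_ne_bot_of_data {G : Type u} [Group G] [Finite G] (hG : IsPGroup 2 G) {a x : G}
    {m : ℕ} (ha : orderOf a = 2 ^ (m + 1)) (hN : (zpowers a).Normal) (hm : 1 ≤ m)
    (h : (x * a * x⁻¹ = a⁻¹) ∨ (2 ≤ m ∧ x * a * x⁻¹ = a⁻¹ * a ^ 2 ^ m)) :
    (⊤ : Subgroup G).lowerCentralSeries m ≠ ⊥ := by
  have : Fact (Nat.Prime 2) := ⟨Nat.prime_two⟩
  have hinv : ∀ (b : G) (k : ℕ), x * b * x⁻¹ = b⁻¹ → b ∈ (⊤ : Subgroup G).lowerCentralSeries k →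
      b * b ∈ (⊤ : Subgroup G).lowerCentralSeries (k + 1) := by
    intro b k hb hbk
    have h1 : ⁅b, x⁆ = b * b := by
      rw [commutatorElement_def]
      calc b * x * b⁻¹ * x⁻¹ = b * (x * b * x⁻¹)⁻¹ := by group
        _ = b * b := by rw [hb, inv_inv]
    rw [← h1]
    exact Subgroup.commutator_mem_commutator hbk (Subgroup.mem_top x)
  obtain ⟨ε, hε, hxa⟩ : ∃ ε : G, (ε = 1 ∨ (2 ≤ m ∧ ε = a ^ 2 ^ m)) ∧ x * a * x⁻¹ = a⁻¹ * ε := by
    rcases h with h | ⟨h2, h⟩
    · exact ⟨1, Or.inl rfl, by rw [h, mul_one]⟩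
    · exact ⟨_, Or.inr ⟨h2, rfl⟩, h⟩
  have hzA : a ^ 2 ^ m ∈ zpowers a := pow_mem (mem_zpowers a) _
  have hzp : (a ^ 2 ^ m) ^ 2 = 1 := pow_pow_eq_one ha
  have hεA : ε ∈ zpowers a := by
    rcases hε with rfl | ⟨-, rfl⟩
    exacts [one_mem _, hzA]
  have hεε : ε * ε = 1 := by
    rcases hε with rfl | ⟨-, rfl⟩
    · exact one_mul 1
    · rw [← pow_two]; exact hzp
  have hεx : x * ε * x⁻¹ = ε := by
    rcases hε with rfl | ⟨-, rfl⟩
    · simp
    · exact conj_eq_of_pow_eq_one hG ha hN hzA hzp x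
  have hεa : Commute ε a := commute_of_mem_zpowers hεA (mem_zpowers a)
  have hεinv : ε⁻¹ = ε := inv_eq_of_mul_eq_one_left hεε
  have hb1 : a ^ 2 * ε ∈ (⊤ : Subgroup G).lowerCentralSeries 1 := by
    have h1 : ⁅a, x⁆ = a ^ 2 * ε := by
      rw [commutatorElement_def]
      calc a * x * a⁻¹ * x⁻¹ = a * (x * a * x⁻¹)⁻¹ := by group
        _ = a ^ 2 * ε := by
          rw [hxa, mul_inv_rev, inv_inv, hεinv, hεa.eq, ← mul_assoc, pow_two]
    rw [← h1]
    exact Subgroup.commutator_mem_commutator (Subgroup.mem_top a) (Subgroup.mem_top x)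
  have hb1inv : x * (a ^ 2 * ε) * x⁻¹ = (a ^ 2 * ε)⁻¹ := by
    calc x * (a ^ 2 * ε) * x⁻¹ = (x * a * x⁻¹) ^ 2 * (x * ε * x⁻¹) := by rw [conj_pow]; group
      _ = (a⁻¹ * ε) ^ 2 * ε := by rw [hxa, hεx]
      _ = (a ^ 2 * ε)⁻¹ := by
        rw [(hεa.symm.inv_left).mul_pow, pow_two ε, hεε, mul_one, mul_inv_rev, hεinv, inv_pow]
        exact ((hεa.pow_right 2).inv_right).eq.symm
  have hb2 : a ^ 2 ^ (0 + 2) ∈ (⊤ : Subgroup G).lowerCentralSeries (0 + 2) := by
    have h1 := hinv _ 1 hb1inv hb1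
    have h2 : a ^ 2 * ε * (a ^ 2 * ε) = a ^ 2 ^ (0 + 2) := by
      calc a ^ 2 * ε * (a ^ 2 * ε) = a ^ 2 * (ε * a ^ 2) * ε := by group
        _ = a ^ 2 * (a ^ 2 * ε) * ε := by rw [(hεa.pow_right 2).eq]
        _ = a ^ 2 * a ^ 2 * (ε * ε) := by group
        _ = a ^ 2 ^ (0 + 2) := by rw [hεε, mul_one, ← pow_add]; norm_num
    rw [h2] at h1; exact h1
  have hbk : ∀ k : ℕ, a ^ 2 ^ (k + 2) ∈ (⊤ : Subgroup G).lowerCentralSeries (k + 2) := by
    intro k
    induction k with
    | zero => exact hb2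
    | succ k ih =>
      have h1 : x * a ^ 2 ^ (k + 2) * x⁻¹ = (a ^ 2 ^ (k + 2))⁻¹ := by
        rw [← conj_pow, hxa, (hεa.symm.inv_left).mul_pow, pow_succ' 2 (k + 1), pow_mul ε, pow_two ε,
          hεε, one_pow, mul_one, inv_pow, ← pow_succ']
      have h2 := hinv _ (k + 2) h1 ih
      rw [← pow_two, ← pow_mul, ← pow_succ] at h2
      exact h2
  by_cases hm1 : m = 1
  · subst hm1
    have hε1 : ε = 1 := by
      rcases hε with h | ⟨h, -⟩
      · exact h
      · omega
    rw [hε1, mul_one] at hb1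
    intro hbot
    rw [hbot, Subgroup.mem_bot] at hb1
    have := orderOf_dvd_of_pow_eq_one hb1
    rw [ha] at this
    norm_num at this
  · obtain ⟨k, rfl⟩ : ∃ k, m = k + 2 := ⟨m - 2, by omega⟩
    intro hbot
    have h1 := hbk k
    rw [hbot, Subgroup.mem_bot] at h1
    exact pow_ne_one ha h1

/-- A `2`-group in which noncyclic subgroups contain their centralizers and which has a
noncyclic normal abelian subgroup has order at most `8`. -/
theorem card_le_of_normal_noncyclic {G : Type u} [Group G] [Finite G] (hG : IsPGroup 2 G)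
    (hsc : ∀ H : Subgroup G, ¬ IsCyclic ↥H → centralizer (H : Set G) ≤ H)
    (A : Subgroup G) (hAn : A.Normal) (hAc : IsMulCommutative A) (hAnc : ¬ IsCyclic A) :
    Nat.card G ≤ 8 := by
  have : Fact (Nat.Prime 2) := ⟨Nat.prime_two⟩
  have hnui : ¬ UI 2 A := fun h =>
    hAnc (isCyclic_of_comm (hG.to_subgroup A) h (fun x y => mul_comm' x y))
  have hAcomm : ∀ w ∈ A, ∀ w' ∈ A, Commute w w' := fun w hw w' hw' =>
    congrArg Subtype.val (mul_comm' (⟨w, hw⟩ : A) ⟨w', hw'⟩)
  let V : Subgroup G :=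
    { carrier := {w | w ∈ A ∧ w ^ 2 = 1}
      mul_mem' := fun {w w'} hw hw' =>
        ⟨mul_mem hw.1 hw'.1, by rw [(hAcomm w hw.1 w' hw'.1).mul_pow, hw.2, hw'.2, one_mul]⟩
      one_mem' := ⟨one_mem _, one_pow _⟩
      inv_mem' := fun {w} hw => ⟨inv_mem hw.1, by rw [inv_pow, hw.2, inv_one]⟩ }
  have hVmem : ∀ w : G, w ∈ V ↔ w ∈ A ∧ w ^ 2 = 1 := fun w => Iff.rfl
  haveI hVn : V.Normal := by
    refine ⟨fun w hw g => ?_⟩
    rw [hVmem] at hw ⊢
    exact ⟨hAn.conj_mem w hw.1 g, by rw [conj_pow, hw.2, mul_one, mul_inv_cancel]⟩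
  obtain ⟨u, v, -, hu2, hv2, hu1, hvu⟩ := exists_pair_of_not_ui (hG.to_subgroup A) hnui
  have huV : (u : G) ∈ V := ⟨u.2, by exact_mod_cast congrArg Subtype.val hu2⟩
  have hvV : (v : G) ∈ V := ⟨v.2, by exact_mod_cast congrArg Subtype.val hv2⟩
  have hu1' : (u : G) ≠ 1 := fun h => hu1 (Subtype.ext h)
  have hVne : V ≠ ⊥ := fun h => hu1' (by rw [h, Subgroup.mem_bot] at huV; exact huV)
  obtain ⟨v0, hv0V, hv01, hv0c⟩ :=
    Cfsg.Agent.Lib.Helper53.PGroupBasics.exists_center_mem_normal hG V hVne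
  have hv02 : v0 ^ 2 = 1 := hv0V.2
  have hex : ∃ u' ∈ V, u' ∉ zpowers v0 := by
    by_contra hall
    push Not at hall
    obtain ⟨i, hi⟩ := mem_zpowers_iff.1 (hall _ huV)
    obtain ⟨j, hj⟩ := mem_zpowers_iff.1 (hall _ hvV)
    have huv0 : (u : G) = v0 := by
      rcases zpow_of_sq_eq_one hv02 i with h | h
      · exact absurd (hi ▸ h) hu1'
      · rw [← hi, h]
    apply hvu
    rw [mem_zpowers_iff]
    refine ⟨j, Subtype.ext ?_⟩
    rw [Subgroup.coe_zpow, huv0, hj]
  obtain ⟨u', hu'V, hu'v0⟩ := hex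
  have hu'2 : u' ^ 2 = 1 := hu'V.2
  have hu'1 : u' ≠ 1 := fun h => hu'v0 (h ▸ one_mem _)
  haveI hv0N : (zpowers v0).Normal := by
    refine ⟨fun w hw g => ?_⟩
    have : g * w * g⁻¹ = w := by
      have h1 : Commute g w := by
        obtain ⟨i, rfl⟩ := mem_zpowers_iff.1 hw
        exact (Commute.zpow_right (Subgroup.mem_center_iff.1 hv0c g) i)
      rw [h1.eq, mul_inv_cancel_right]
    rw [this]; exact hw
  set W : Subgroup G := zpowers u' ⊔ zpowers v0 with hW
  have hu'v0c : Commute u' v0 := (Subgroup.mem_center_iff.1 hv0c u')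
  have hWel : ∀ w ∈ W, w = 1 ∨ w = u' ∨ w = v0 ∨ w = u' * v0 := by
    intro w hw
    obtain ⟨s, hs, t, ht, rfl⟩ := mem_sup_of_normal_right.1 hw
    obtain ⟨i, rfl⟩ := mem_zpowers_iff.1 hs
    obtain ⟨j, rfl⟩ := mem_zpowers_iff.1 ht
    rcases zpow_of_sq_eq_one hu'2 i with h | h <;> rcases zpow_of_sq_eq_one hv02 j with h' | h' <;>
      rw [h, h']
    · left; exact one_mul 1
    · right; right; left; exact one_mul _
    · right; left; exact mul_one _
    · right; right; right; rfl
  have hu'W : u' ∈ W := mem_sup_left (mem_zpowers u')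
  have hv0W : v0 ∈ W := mem_sup_right (mem_zpowers v0)
  have hWnc : ¬ IsCyclic W := by
    intro hcyc
    obtain ⟨g, hg⟩ := hcyc.exists_generator
    have hg2 : (g : G) ^ 2 = 1 := by
      rcases hWel g g.2 with h | h | h | h <;> rw [h]
      · exact one_pow 2
      · exact hu'2
      · exact hv02
      · rw [hu'v0c.mul_pow, hu'2, hv02, one_mul]
    have hgen : ∀ w ∈ W, w ≠ 1 → w = (g : G) := by
      intro w hw hw1
      obtain ⟨i, hi⟩ := mem_zpowers_iff.1 (hg ⟨w, hw⟩)
      have hi' : (g : G) ^ i = w := by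
        have := congrArg Subtype.val hi
        rwa [Subgroup.coe_zpow] at this
      rcases zpow_of_sq_eq_one hg2 i with h | h
      · exact absurd (hi' ▸ h) hw1
      · rw [← hi', h]
    apply hu'v0
    rw [hgen u' hu'W hu'1, ← hgen v0 hv0W hv01]
    exact mem_zpowers v0
  have hCW := hsc W hWnc
  have hCu' : centralizer ({u'} : Set G) ≤ W := by
    intro g hg
    apply hCW
    rw [mem_centralizer_singleton_iff] at hg
    rw [mem_centralizer_iff]
    intro w hw
    have hgv0 : Commute g v0 := Subgroup.mem_center_iff.1 hv0c g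
    rcases hWel w hw with h | h | h | h <;> rw [h]
    · simp
    · exact hg.symm
    · exact hgv0.eq.symm
    · exact ((Commute.mul_right (show Commute g u' from hg) hgv0).eq).symm
  have hWcard : Nat.card W ≤ 4 := by
    have h1 : Nat.card W = Nat.card (zpowers v0) * (zpowers v0).relIndex (zpowers u') := by
      rw [hW, ← relIndex_bot_left, ← relIndex_mul_relIndex ⊥ (zpowers v0) (zpowers u' ⊔ zpowers v0)
        bot_le le_sup_right, relIndex_bot_left, relIndex_sup_right]
    have h2 : (zpowers v0).relIndex (zpowers u') ∣ Nat.card (zpowers u') := relIndex_dvd_card _ _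
    rw [Nat.card_zpowers, orderOf_eq_prime hu'2 hu'1] at h2
    have h3 := Nat.le_of_dvd (by norm_num) h2
    rw [h1, Nat.card_zpowers, orderOf_eq_prime hv02 hv01]
    omega
  have hVW : V ≤ W := by
    intro w hw
    apply hCW
    rw [mem_centralizer_iff]
    intro w' hw'
    rcases hWel w' hw' with h | h | h | h <;> rw [h]
    · simp
    · exact (hAcomm u' hu'V.1 w hw.1).eq
    · exact (hAcomm v0 hv0V.1 w hw.1).eq
    · exact (hAcomm _ (mul_mem hu'V.1 hv0V.1) w hw.1).eq
  have hconj : ∀ g : G, g * u' * g⁻¹ = u' ∨ g * u' * g⁻¹ = u' * v0 := by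
    intro g
    have h1 : g * u' * g⁻¹ ∈ W := hVW (hVn.conj_mem u' hu'V g)
    rcases hWel _ h1 with h | h | h | h
    · exfalso; apply hu'1
      have : u' = g⁻¹ * (g * u' * g⁻¹) * g := by group
      rw [this, h]; group
    · left; exact h
    · exfalso; apply hu'v0
      have : u' = g⁻¹ * (g * u' * g⁻¹) * g := by group
      rw [this, h]
      have h2 : Commute g⁻¹ v0 := Subgroup.mem_center_iff.1 hv0c g⁻¹
      rw [h2.eq, inv_mul_cancel_right]
      exact mem_zpowers v0
    · right; exact h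
  by_cases hall : ∀ g : G, g ∈ centralizer ({u'} : Set G)
  · have h1 : Nat.card G ≤ Nat.card W := by
      rw [← Nat.card_congr (Equiv.Set.univ G)]
      exact Nat.card_mono (Set.toFinite _) (fun g _ => hCu' (hall g))
    omega
  · push Not at hall
    obtain ⟨x0, hx0⟩ := hall
    have hnc : ∀ b : G, b ∉ centralizer ({u'} : Set G) → b * u' * b⁻¹ = u' * v0 := by
      intro b hb
      rcases hconj b with h | h
      · exfalso; apply hb
        rw [mem_centralizer_singleton_iff]
        exact (mul_inv_eq_iff_eq_mul.1 h)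
      · exact h
    have hidx : (centralizer ({u'} : Set G)).index = 2 := by
      rw [index_eq_two_iff]
      refine ⟨x0, fun b => ?_⟩
      by_cases hb : b ∈ centralizer ({u'} : Set G)
      · refine Or.inr ⟨hb, fun h => hx0 ?_⟩
        have := mul_mem (inv_mem hb) h
        rwa [inv_mul_cancel_left] at this
      · refine Or.inl ⟨?_, hb⟩
        rw [mem_centralizer_singleton_iff]
        have h1 := hnc b hb
        have h2 := hnc x0 hx0
        have hbv0 : Commute b v0 := Subgroup.mem_center_iff.1 hv0c b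
        have h3 : b * x0 * u' * (b * x0)⁻¹ = u' := by
          calc b * x0 * u' * (b * x0)⁻¹ = b * (x0 * u' * x0⁻¹) * b⁻¹ := by group
            _ = b * (u' * v0) * b⁻¹ := by rw [h2]
            _ = (b * u' * b⁻¹) * (b * v0 * b⁻¹) := by group
            _ = u' * v0 * v0 := by rw [h1, hbv0.eq, mul_inv_cancel_right]
            _ = u' := by rw [mul_assoc, ← pow_two, hv02, mul_one]
        exact mul_inv_eq_iff_eq_mul.1 h3
    have h1 := (centralizer ({u'} : Set G)).card_mul_index
    rw [hidx] at h1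
    have h2 : Nat.card (centralizer ({u'} : Set G)) ≤ Nat.card W :=
      Subgroup.card_le_of_le hCu'
    omega

/-- Say that a group has self-centralizing non-cyclic subgroups when every non-cyclic subgroup H satisfies C_G(H) ≤ H. A finite non-abelian 2-group G of order 2^n has self-centralizing non-cyclic subgroups if and only if G has nilpotency class n − 1 (that is, G is dihedral, semidihedral or generalized quaternion). -/
theorem result {G : Type*} [Group G] [Finite G] (hna : ¬ IsMulCommutative G) (n : ℕ) (hG : Nat.card G = 2 ^ n) :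
    (∀ H : Subgroup G, ¬ IsCyclic ↥H → Subgroup.centralizer (H : Set G) ≤ H) ↔ (⊤ : Subgroup G).lowerCentralSeries (n - 2) ≠ ⊥ := by
  have : Fact (Nat.Prime 2) := ⟨Nat.prime_two⟩
  have hP : IsPGroup 2 G := IsPGroup.of_card hG
  have hn3 : 3 ≤ n := by
    by_contra hlt
    apply hna
    have hle : n = 0 ∨ n = 1 ∨ n = 2 := by omega
    rcases hle with rfl | rfl | rfl
    · have : Subsingleton G := (Nat.card_eq_one_iff_unique.1 (by simpa using hG)).1
      exact ⟨⟨fun a b => Subsingleton.elim _ _⟩⟩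
    · have : IsCyclic G := isCyclic_of_prime_card (p := 2) (by simpa using hG)
      exact IsCyclic.isMulCommutative
    · exact IsPGroup.isMulCommutative_of_card_eq_prime_sq (p := 2) hG
  obtain ⟨m, rfl⟩ : ∃ m, n = m + 3 := ⟨n - 3, by omega⟩
  have h1 : m + 3 - 2 = m + 1 := by omega
  rw [h1]
  constructor
  · intro hsc
    by_cases hn : ∀ A : Subgroup G, A.Normal → IsMulCommutative A → IsCyclic A
    · rcases cyclic_or_two hP hn with hcyc | ⟨-, a, x, k, hk1, ha, hN, hC, hcard, hx, hcases⟩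
      · exact absurd (IsCyclic.isMulCommutative) hna
      · have hkm : k = m + 1 := by
          rw [hG] at hcard
          have := Nat.pow_right_injective (le_refl 2) hcard
          omega
        subst hkm
        exact lcs_ne_bot_of_data hP ha hN (by omega)
          (hcases.imp (fun h => h.1) (fun h => ⟨h.1, h.2.1⟩))
    · push Not at hn
      obtain ⟨A, hAn, hAc, hAnc⟩ := hn
      have h8 := card_le_of_normal_noncyclic hP hsc A hAn hAc hAnc
      rw [hG] at h8
      have hm0 : m = 0 := by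
        by_contra hm
        have : 2 ^ 4 ≤ 2 ^ (m + 3) := Nat.pow_le_pow_right (by norm_num) (by omega)
        omega
      subst hm0
      intro hbot
      apply hna
      refine ⟨⟨fun a b => ?_⟩⟩
      have : ⁅a, b⁆ ∈ (⊤ : Subgroup G).lowerCentralSeries (0 + 1) :=
        Subgroup.commutator_mem_commutator (Subgroup.mem_top a) (Subgroup.mem_top b)
      rw [hbot, Subgroup.mem_bot, commutatorElement_eq_one_iff_mul_comm] at this
      exact this
  · intro hlcs H hH
    exact centralizer_le_of_maxclass hG hlcs H hH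

end Cfsg.Agent.S3919
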