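import Cfsg.Statements.S3278
import Cfsg.Agent.S3279
import Cfsg.Agent.S3277
import Cfsg.Agent.Lib.Helper17.KleinA5
import Cfsg.Agent.Lib.Helper17.KleinA5b
import Cfsg.Agent.Lib.CT.Knorr

set_option autoImplicit false
set_option linter.style.haveILetI false
open Cfsg

namespace Cfsg.Agent.S3278

open Cfsg.Agent.Lib.Helper17.KleinA5 Cfsg.Agent.Lib.Helper17.KleinA5b in
/-- Let G be a finite simple group with an involution x such that a Sylow 2-subgroup of C_G(x) is a Klein four-group which is normal in C_G(x). Then G is isomorphic to the alternating group of degree 5 (that is, to PSL(2, 5)). -/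
theorem result {G : Type*} [Group G] [Finite G] [IsSimpleGroup G] (x : G) (hx : orderOf x = 2)
    (S₀ : Subgroup G) (hle : S₀ ≤ Subgroup.centralizer ({x} : Set G)) (hK : IsKleinFour ↥S₀)
    (hodd : ¬ 2 ∣ S₀.relIndex (Subgroup.centralizer ({x} : Set G))) (hn : (S₀.subgroupOf (Subgroup.centralizer ({x} : Set G))).Normal) :
    Nonempty (G ≃* ↥(alternatingGroup (Fin 5))) := by
  classical
  haveI : Fact (Nat.Prime 2) := ⟨Nat.prime_two⟩
  have hS₀card : Nat.card S₀ = 4 := hK.card_four
  have hS₀exp : ∀ s ∈ S₀, s * s = 1 := by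
    intro s hs
    have h1 : (⟨s, hs⟩ : S₀) ^ Monoid.exponent S₀ = 1 := Monoid.pow_exponent_eq_one _
    rw [hK.exponent_two] at h1
    have h2 := congrArg (fun t : S₀ => (t : G)) h1
    simpa [pow_two] using h2
  have hxx : x ^ 2 = 1 := by rw [← hx]; exact pow_orderOf_eq_one x
  have hxC : x ∈ Subgroup.centralizer ({x} : Set G) := by
    rw [Subgroup.mem_centralizer_singleton_iff]
  -- involutions of `C(x)` lie in `S₀`
  have hinv : ∀ z ∈ Subgroup.centralizer ({x} : Set G), orderOf z = 2 → z ∈ S₀ := by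
    intro z hz hz2
    refine mem_of_two_pow hn hodd z hz 1 ?_
    rw [pow_one, ← hz2]
    exact pow_orderOf_eq_one z
  have hxS₀ : x ∈ S₀ := hinv x hxC hx
  -- at most three involutions in `C(x)`
  have h3 : Nat.card {u : ↥(Subgroup.centralizer ({x} : Set G)) // orderOf u = 2} ≤ 3 := by
    haveI : Fintype S₀ := Fintype.ofFinite _
    haveI : Fintype {u : ↥(Subgroup.centralizer ({x} : Set G)) // orderOf u = 2} :=
      Fintype.ofFinite _
    have hf : Function.Injective
        (fun u : {u : ↥(Subgroup.centralizer ({x} : Set G)) // orderOf u = 2} =>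
          (⟨(u.1 : G), hinv u.1.1 u.1.2 (by rw [Subgroup.orderOf_coe]; exact u.2)⟩ : S₀)) := by
      intro u v huv
      have h1 := congrArg (fun t : S₀ => (t : G)) huv
      exact Subtype.ext (Subtype.ext h1)
    have hnot : (1 : S₀) ∉ Set.range
        (fun u : {u : ↥(Subgroup.centralizer ({x} : Set G)) // orderOf u = 2} =>
          (⟨(u.1 : G), hinv u.1.1 u.1.2 (by rw [Subgroup.orderOf_coe]; exact u.2)⟩ : S₀)) := by
      rintro ⟨u, hu⟩
      have h1 := congrArg (fun t : S₀ => (t : G)) hu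
      have h2 : (u.1 : G) = 1 := h1
      have h3 : orderOf (u.1 : G) = 2 := by rw [Subgroup.orderOf_coe]; exact u.2
      rw [h2, orderOf_one] at h3
      omega
    have h4 := Fintype.card_lt_of_injective_of_notMem _ hf hnot
    rw [← Nat.card_eq_fintype_card, ← Nat.card_eq_fintype_card, hS₀card] at h4
    omega
  obtain ⟨⟨S, hS⟩, hone⟩ := Cfsg.Agent.S3279.result x hx h3
  -- `S = S₀`
  have hSS₀ : (S : Subgroup G) ≤ S₀ := by
    intro s hs
    obtain ⟨j, hj⟩ := S.isPGroup' ⟨s, hs⟩
    have hj' : s ^ (2 ^ j) = 1 := by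
      have := congrArg (fun t : (S : Subgroup G) => (t : G)) hj
      simpa using this
    exact mem_of_two_pow hn hodd s (hS hs) j hj'
  have hScard : Nat.card (S : Subgroup G) = 4 := by
    have hp : IsPGroup 2 S₀ := IsPGroup.of_card (n := 2) (by rw [hS₀card]; norm_num)
    obtain ⟨Q, hQ⟩ := hp.exists_le_sylow
    have h1 : Nat.card (Q : Subgroup G) = Nat.card (S : Subgroup G) := by
      rw [Sylow.card_eq_multiplicity Q, Sylow.card_eq_multiplicity S]
    have h2 : Nat.card S₀ ≤ Nat.card (Q : Subgroup G) :=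
      Nat.le_of_dvd Nat.card_pos (Subgroup.card_dvd_of_le hQ)
    have h3 : Nat.card (S : Subgroup G) ≤ Nat.card S₀ :=
      Nat.le_of_dvd Nat.card_pos (Subgroup.card_dvd_of_le hSS₀)
    omega
  have hSeq : (S : Subgroup G) = S₀ :=
    Subgroup.eq_of_le_of_card_ge hSS₀ (by rw [hScard, hS₀card])
  have hexp : ∀ s ∈ (S : Subgroup G), s * s = 1 := fun s hs => hS₀exp s (hSS₀ hs)
  have hxS : x ∈ (S : Subgroup G) := by rw [hSeq]; exact hxS₀
  have hZ : ∀ z ∈ Subgroup.centralizer ({x} : Set G), orderOf z = 2 → z ∈ (S : Subgroup G) := by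
    intro z hz hz2
    rw [hSeq]
    exact hinv z hz hz2
  obtain ⟨M, hM⟩ := Cfsg.Agent.Lib.CT.Knorr.exists_isPModular 2 Nat.prime_two
  obtain ⟨hc, hb⟩ := index_bound M hM S hScard hexp hone x hxS hx hZ
  have hcomm := Cfsg.Agent.Lib.Helper75.KleinFour.sylow_comm S hexp
  have hC4 : Nat.card ↥(Subgroup.centralizer ({x} : Set G)) = 4 := by
    rw [← hc]
    exact card_centralizer_eq_four S hScard hcomm (by rw [hc]; exact hb)
  have hCeq : (S : Subgroup G) = Subgroup.centralizer ({x} : Set G) :=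
    Subgroup.eq_of_le_of_card_ge hS (by rw [hScard, hC4])
  have hCe : ∀ c ∈ Subgroup.centralizer ({x} : Set G), c ^ 2 = 1 := by
    intro c hc'
    rw [← hCeq] at hc'
    rw [pow_two]
    exact hexp c hc'
  have hG4 : Nat.card G ≠ 4 := card_ne_four
  have hdvd4 : 4 ∣ Nat.card G := by
    rw [← hScard]
    exact Subgroup.card_subgroup_dvd_card _
  have hnc : ¬ Cfsg.HasNormalPComplement 2 G := by
    rintro ⟨Q, N, hN, hcomp⟩
    have hmul := hcomp.card_mul_card
    have hQ4 : Nat.card (Q : Subgroup G) = 4 := by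
      rw [Sylow.card_eq_multiplicity Q, ← Sylow.card_eq_multiplicity S, hScard]
    rw [hQ4] at hmul
    rcases hN.eq_bot_or_eq_top with h | h
    · rw [h, Subgroup.card_bot] at hmul
      exact hG4 (by omega)
    · rw [h, Subgroup.card_top] at hmul
      have : 0 < Nat.card G := Nat.card_pos
      omega
  have hne : ∀ E : Subgroup G, E.Normal → Cfsg.IsElementaryAbelian 2 E →
      Nat.card ↥E ≠ 2 ∧ Nat.card ↥E ≠ 4 := by
    intro E hE _
    rcases hE.eq_bot_or_eq_top with h | h
    · rw [h, Subgroup.card_bot]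
      exact ⟨by norm_num, by norm_num⟩
    · rw [h, Subgroup.card_top]
      refine ⟨?_, hG4⟩
      intro h2
      rw [h2] at hdvd4
      norm_num at hdvd4
  exact Cfsg.Agent.S3277.result x hx hC4 hCe hnc hne

end Cfsg.Agent.S3278
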