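import Cfsg.Statements.S1163
import Cfsg.Agent.Lib.Helper65.SzIso
import Cfsg.Agent.Lib.Helper6.Sz8

set_option autoImplicit false
open Cfsg

namespace Cfsg.Agent.S1163

open MulAction
open Cfsg.Agent.Lib.Helper6.Sz0 Cfsg.Agent.Lib.Helper6.Sz1 Cfsg.Agent.Lib.Helper6.Sz2
  Cfsg.Agent.Lib.Helper6.Sz3 Cfsg.Agent.Lib.Helper6.Sz4 Cfsg.Agent.Lib.Helper6.Sz5
  Cfsg.Agent.Lib.Helper6.Sz6 Cfsg.Agent.Lib.Helper6.Sz7 Cfsg.Agent.Lib.Helper6.Sz8

/-- abstract statement: a Sylow 2-subgroup acting regularly off a fixed point of a doubly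
transitive action -/
theorem abstract_main {G : Type*} [Group G] [Finite G] {Ω : Type*} [MulAction G Ω] (o : Ω)
    (U : Subgroup G)
    (hSyl : Nat.card U = 2 ^ (Nat.card G).factorization 2)
    (hU1 : U ≠ ⊥)
    (hUo : ∀ u ∈ U, u • o = o)
    (hnorm : ∀ g : G, g • o = o → ∀ u ∈ U, g * u * g⁻¹ ∈ U)
    (hreg : ∀ x y : Ω, x ≠ o → y ≠ o → ∃! u : U, (u : G) • x = y)
    (h2t : MulAction.IsMultiplyPretransitive G Ω 2) :
    ∃ S : Sylow 2 G,
      Subgroup.normalizer ((S : Subgroup G) : Set G) = MulAction.stabilizer G o ∧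
      MulAction.IsMultiplyPretransitive G (G ⧸ Subgroup.normalizer ((S : Subgroup G) : Set G)) 2 ∧
      ∀ x y : G ⧸ Subgroup.normalizer ((S : Subgroup G) : Set G),
        x ≠ QuotientGroup.mk 1 → y ≠ QuotientGroup.mk 1 →
          ∃! s : ↥(S : Subgroup G), (s : G) • x = y := by
  have : Fact (Nat.Prime 2) := ⟨Nat.prime_two⟩
  have hN : Subgroup.normalizer (U : Set G) = MulAction.stabilizer G o := by
    ext g
    rw [Subgroup.mem_normalizer_iff, MulAction.mem_stabilizer_iff]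
    constructor
    · intro hg
      by_contra hne
      obtain ⟨u0, hu01⟩ := (Subgroup.ne_bot_iff_exists_ne_one).mp hU1
      have hfix : ∀ u ∈ U, u • (g • o) = g • o := by
        intro u hu
        have h1 : g⁻¹ * u * g ∈ U := by
          rw [hg]
          have : g * (g⁻¹ * u * g) * g⁻¹ = u := by group
          rw [this]
          exact hu
        have h2 := hUo _ h1
        calc u • (g • o) = g • ((g⁻¹ * u * g) • o) := by
              rw [← mul_smul, ← mul_smul]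
              congr 1
              group
          _ = g • o := by rw [h2]
      obtain ⟨w, _, hw⟩ := hreg (g • o) (g • o) hne hne
      have e1 := hw u0 (hfix _ u0.2)
      have e2 := hw 1 (by simp)
      apply hu01
      rw [e1, e2]
    · intro hg h
      constructor
      · intro hh
        exact hnorm g hg h hh
      · intro hh
        have hg' : g⁻¹ • o = o := by
          rw [inv_smul_eq_iff, hg]
        have := hnorm g⁻¹ hg' _ hh
        have e : g⁻¹ * (g * h * g⁻¹) * g⁻¹⁻¹ = h := by group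
        rw [e] at this
        exact this
  refine ⟨Sylow.ofCard U hSyl, ?_, ?_, ?_⟩
  all_goals rw [Sylow.coe_ofCard, hN]
  · rw [MulAction.is_two_pretransitive_iff]
    intro a b c d hab hcd
    have hinj := MulAction.injective_ofQuotientStabilizer G o
    obtain ⟨g, h1, h2⟩ := MulAction.is_two_pretransitive_iff.mp h2t (hinj.ne hab) (hinj.ne hcd)
    refine ⟨g, ?_, ?_⟩
    · apply hinj
      rw [MulAction.ofQuotientStabilizer_smul, h1]
    · apply hinj
      rw [MulAction.ofQuotientStabilizer_smul, h2]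
  · intro x y hx hy
    have hinj := MulAction.injective_ofQuotientStabilizer G o
    have e1 : MulAction.ofQuotientStabilizer G o (QuotientGroup.mk 1) = o := by
      rw [MulAction.ofQuotientStabilizer_mk, one_smul]
    have hx' : MulAction.ofQuotientStabilizer G o x ≠ o := by
      intro h
      exact hx (hinj (h.trans e1.symm))
    have hy' : MulAction.ofQuotientStabilizer G o y ≠ o := by
      intro h
      exact hy (hinj (h.trans e1.symm))
    obtain ⟨u, hu, huniq⟩ := hreg _ _ hx' hy'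
    refine ⟨u, ?_, ?_⟩
    · apply hinj
      rw [MulAction.ofQuotientStabilizer_smul]
      exact hu
    · intro v hv
      apply huniq
      show (v : G) • _ = _
      rw [← MulAction.ofQuotientStabilizer_smul, hv]

variable {F : Type*} [Field F] [Fintype F] {m : ℕ}

/-- the point stabiliser normalises the unipotent subgroup -/
theorem conj_mem_Usub (hm : 1 ≤ m) (hF : Fintype.card F = 2 ^ (2 * m + 1))
    (g : Cfsg.Sz F m) (hg : g • ainf F m = ainf F m) (u : Cfsg.Sz F m) (hu : u ∈ Usub hF) :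
    g * u * g⁻¹ ∈ Usub hF := by
  obtain ⟨a, b, rfl⟩ := hu
  let g' : Bt F m := ⟨g, hg⟩
  let u' : Bt F m := ⟨uS hF a b, uS_ainf hF a b⟩
  have hk : g' * u' * g'⁻¹ ∈ (chi hm hF).ker := by
    rw [MonoidHom.mem_ker, map_mul, map_mul, map_inv]
    have h1 : chi hm hF u' = 1 := by
      apply Units.ext
      show (UmMat m a b) 0 0 = 1
      simp [UmMat]
    rw [h1]
    simp
  obtain ⟨c, d, hcd⟩ := mem_ker_chi hm hF _ hk
  exact ⟨c, d, Subtype.ext hcd⟩

/-- the unipotent subgroup is regular on the affine points -/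
theorem reg_Usub (hF : Fintype.card F = 2 ^ (2 * m + 1)) (x y : Cfsg.suzukiOvoid F m)
    (hx : x ≠ ainf F m) (hy : y ≠ ainf F m) :
    ∃ a b : F, uS hF a b • x = y ∧ ∀ a' b', uS hF a' b' • x = y → a' = a ∧ b' = b := by
  rcases ovoid_cases x with rfl | ⟨a, b, rfl⟩
  · exact absurd rfl hx
  rcases ovoid_cases y with rfl | ⟨c, d, rfl⟩
  · exact absurd rfl hy
  refine ⟨c - a, d - b - sg m (c - a) * a, ?_, ?_⟩
  · rw [uS_apt]
    congr 1 <;> ring
  · intro a' b' h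
    rw [uS_apt] at h
    obtain ⟨h1, h2⟩ := apt_inj h
    have : a' = c - a := by linear_combination h1
    subst this
    exact ⟨rfl, by linear_combination h2⟩

/-- For the Suzuki group Sz(q), q = 2^(2m+1) ≥ 8, realised as the elements g of Sp₄(F) with g* = g^θ (θ the 2^(m+1)-th power map, so that θ² is squaring): `|Sz(q)| = q² (q - 1) (q² + 1)`, and there is a Sylow 2-subgroup `S` whose normaliser `H` has order `q²(q-1)` and index `q² + 1`, the action of `Sz(q)` on the cosets of `H` is doubly transitive, and `S` acts regularly on the cosets other than `H` itself. -/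
theorem result {F : Type*} [Field F] [Fintype F] {m : ℕ} (hm : 1 ≤ m) (hF : Fintype.card F = 2 ^ (2 * m + 1)) :
    Nat.card ↥(Cfsg.Lie.Sz F (2 ^ (m + 1))) = (2 ^ (2 * m + 1)) ^ 2 * (2 ^ (2 * m + 1) - 1) * ((2 ^ (2 * m + 1)) ^ 2 + 1) ∧
    ∃ S : Sylow 2 ↥(Cfsg.Lie.Sz F (2 ^ (m + 1))),
      Nat.card (Subgroup.normalizer ((S : Subgroup ↥(Cfsg.Lie.Sz F (2 ^ (m + 1)))) : Set ↥(Cfsg.Lie.Sz F (2 ^ (m + 1))))) = (2 ^ (2 * m + 1)) ^ 2 * (2 ^ (2 * m + 1) - 1) ∧
      (Subgroup.normalizer ((S : Subgroup ↥(Cfsg.Lie.Sz F (2 ^ (m + 1)))) : Set ↥(Cfsg.Lie.Sz F (2 ^ (m + 1))))).index = (2 ^ (2 * m + 1)) ^ 2 + 1 ∧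
      MulAction.IsMultiplyPretransitive ↥(Cfsg.Lie.Sz F (2 ^ (m + 1))) (↥(Cfsg.Lie.Sz F (2 ^ (m + 1))) ⧸ Subgroup.normalizer ((S : Subgroup ↥(Cfsg.Lie.Sz F (2 ^ (m + 1)))) : Set ↥(Cfsg.Lie.Sz F (2 ^ (m + 1))))) 2 ∧
      ∀ x y : ↥(Cfsg.Lie.Sz F (2 ^ (m + 1))) ⧸ Subgroup.normalizer ((S : Subgroup ↥(Cfsg.Lie.Sz F (2 ^ (m + 1)))) : Set ↥(Cfsg.Lie.Sz F (2 ^ (m + 1)))),
        x ≠ (QuotientGroup.mk 1) → y ≠ (QuotientGroup.mk 1) → ∃! s : ↥(S : Subgroup ↥(Cfsg.Lie.Sz F (2 ^ (m + 1)))), (s : ↥(Cfsg.Lie.Sz F (2 ^ (m + 1)))) • x = y := by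
  classical
  have : Fact (Nat.Prime 2) := ⟨Nat.prime_two⟩
  let e : ↥(Cfsg.Lie.Sz F (2 ^ (m + 1))) ≃* ↥(Cfsg.Sz F m) :=
    Cfsg.Agent.Lib.Helper65.SzIso.iso hm hF
  have hfin : Finite ↥(Cfsg.Lie.Sz F (2 ^ (m + 1))) := Finite.of_equiv _ e.symm.toEquiv
  let act : MulAction ↥(Cfsg.Lie.Sz F (2 ^ (m + 1))) ↥(Cfsg.suzukiOvoid F m) :=
    MulAction.compHom _ e.toMonoidHom
  have hsmul : ∀ (g : ↥(Cfsg.Lie.Sz F (2 ^ (m + 1)))) (p : ↥(Cfsg.suzukiOvoid F m)),
      g • p = e g • p := fun g p => rfl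
  have hcardG : Nat.card ↥(Cfsg.Lie.Sz F (2 ^ (m + 1))) =
      (2 ^ (2 * m + 1)) ^ 2 * (2 ^ (2 * m + 1) - 1) * ((2 ^ (2 * m + 1)) ^ 2 + 1) := by
    rw [Nat.card_congr e.toEquiv, card_Sz hm hF]
    ring
  let U : Subgroup ↥(Cfsg.Lie.Sz F (2 ^ (m + 1))) := (Usub hF).comap e.toMonoidHom
  have hmemU : ∀ u : ↥(Cfsg.Lie.Sz F (2 ^ (m + 1))), u ∈ U ↔ e u ∈ Usub hF := fun u => Iff.rfl
  have hcardU : Nat.card U = (2 ^ (2 * m + 1)) ^ 2 := by
    rw [← card_Usub hF]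
    apply Nat.card_congr
    refine Equiv.ofBijective (fun u : U => (⟨e u.1, u.2⟩ : Usub hF)) ⟨?_, ?_⟩
    · intro u v h
      apply Subtype.ext
      apply e.injective
      exact congrArg Subtype.val h
    · rintro ⟨v, hv⟩
      refine ⟨⟨e.symm v, ?_⟩, ?_⟩
      · rw [hmemU, e.apply_symm_apply]
        exact hv
      · apply Subtype.ext
        exact e.apply_symm_apply v
  have hSyl : Nat.card U = 2 ^ (Nat.card ↥(Cfsg.Lie.Sz F (2 ^ (m + 1)))).factorization 2 := by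
    rw [hcardU, Nat.card_congr e.toEquiv, factorization_card_Sz hm hF, ← pow_mul]
    congr 1
    ring
  have hU1 : U ≠ ⊥ := by
    rw [← Subgroup.one_lt_card_iff_ne_bot, hcardU]
    exact Nat.one_lt_pow (by norm_num) (Nat.one_lt_pow (by omega) (by norm_num))
  have hUo : ∀ u ∈ U, u • ainf F m = ainf F m := by
    intro u hu
    obtain ⟨a, b, hab⟩ := (hmemU u).mp hu
    rw [hsmul, hab, uS_ainf]
  have hnorm : ∀ g : ↥(Cfsg.Lie.Sz F (2 ^ (m + 1))), g • ainf F m = ainf F m →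
      ∀ u ∈ U, g * u * g⁻¹ ∈ U := by
    intro g hg u hu
    rw [hmemU, map_mul, map_mul, map_inv]
    exact conj_mem_Usub hm hF (e g) hg (e u) ((hmemU u).mp hu)
  have hreg : ∀ x y : ↥(Cfsg.suzukiOvoid F m), x ≠ ainf F m → y ≠ ainf F m →
      ∃! u : U, (u : ↥(Cfsg.Lie.Sz F (2 ^ (m + 1)))) • x = y := by
    intro x y hx hy
    obtain ⟨a, b, hab, huniq⟩ := reg_Usub hF x y hx hy
    refine ⟨⟨e.symm (uS hF a b), ?_⟩, ?_, ?_⟩
    · rw [hmemU, e.apply_symm_apply]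
      exact ⟨a, b, rfl⟩
    · show e.symm (uS hF a b) • x = y
      rw [hsmul, e.apply_symm_apply]
      exact hab
    · intro v hv
      obtain ⟨a', b', hv'⟩ := (hmemU v.1).mp v.2
      have hv2 : (v : ↥(Cfsg.Lie.Sz F (2 ^ (m + 1)))) • x = y := hv
      rw [hsmul, hv'] at hv2
      obtain ⟨rfl, rfl⟩ := huniq a' b' hv2
      apply Subtype.ext
      show (v : ↥(Cfsg.Lie.Sz F (2 ^ (m + 1)))) = e.symm (uS hF a' b')
      rw [← hv', e.symm_apply_apply]
  have h2t : MulAction.IsMultiplyPretransitive ↥(Cfsg.Lie.Sz F (2 ^ (m + 1)))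
      ↥(Cfsg.suzukiOvoid F m) 2 := by
    rw [MulAction.is_two_pretransitive_iff]
    intro a b c d hab hcd
    obtain ⟨g, h1, h2⟩ := MulAction.is_two_pretransitive_iff.mp (two_trans hF) hab hcd
    refine ⟨e.symm g, ?_, ?_⟩
    · rw [hsmul, e.apply_symm_apply, h1]
    · rw [hsmul, e.apply_symm_apply, h2]
  obtain ⟨S, hN, h4, h5⟩ := abstract_main (ainf F m) U hSyl hU1 hUo hnorm hreg h2t
  have hpt : MulAction.IsPretransitive ↥(Cfsg.Lie.Sz F (2 ^ (m + 1))) ↥(Cfsg.suzukiOvoid F m) :=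
    MulAction.isPretransitive_of_is_two_pretransitive
  have hidx : (Subgroup.normalizer ((S : Subgroup ↥(Cfsg.Lie.Sz F (2 ^ (m + 1)))) :
      Set ↥(Cfsg.Lie.Sz F (2 ^ (m + 1))))).index = (2 ^ (2 * m + 1)) ^ 2 + 1 := by
    rw [hN, MulAction.index_stabilizer_of_transitive, card_ovoid, hF]
  refine ⟨hcardG, S, ?_, hidx, h4, h5⟩
  have h := Subgroup.card_mul_index (Subgroup.normalizer
    ((S : Subgroup ↥(Cfsg.Lie.Sz F (2 ^ (m + 1)))) : Set ↥(Cfsg.Lie.Sz F (2 ^ (m + 1)))))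
  rw [hidx, hcardG] at h
  exact Nat.eq_of_mul_eq_mul_right (Nat.succ_pos _) h

end Cfsg.Agent.S1163
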