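import Cfsg.Statements.S4488
import Cfsg.Agent.Lib.Helper76.PRational
import Cfsg.Agent.S4604
import Cfsg.Agent.Lib.CT.Ops
import Cfsg.Agent.Lib.CT.PairCount
import Cfsg.Agent.Lib.CT.Wedderburn
import Cfsg.Agent.Lib.Helper3.Spectral
import Cfsg.Agent.Lib.Helper80.Integrality
import Mathlib

set_option autoImplicit false
open Cfsg

namespace Cfsg.Agent.S4488

open Polynomial

/-- The sum of the powers `μ ^ j`, `j < p ^ (k+1)` prime to `p`, of a `p ^ (k+1)`-th root of
unity. -/
theorem sum_coprime_pow (p : ℕ) (hp : p.Prime) (k : ℕ) (μ : ℂ) (hμ : μ ^ (p ^ (k + 1)) = 1) :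
    ∑ j ∈ (Finset.range (p ^ (k + 1))).filter (fun j => ¬ p ∣ j), μ ^ j =
      (if μ = 1 then (p : ℂ) ^ (k + 1) else 0) - (if μ ^ p = 1 then (p : ℂ) ^ k else 0) := by
  have hsplit := Finset.sum_filter_add_sum_filter_not (Finset.range (p ^ (k + 1)))
    (fun j => p ∣ j) (fun j => μ ^ j)
  have hmult : ∑ j ∈ (Finset.range (p ^ (k + 1))).filter (fun j => p ∣ j), μ ^ j =
      ∑ l ∈ Finset.range (p ^ k), (μ ^ p) ^ l := by
    have himg : (Finset.range (p ^ (k + 1))).filter (fun j => p ∣ j) =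
        (Finset.range (p ^ k)).image (fun l => p * l) := by
      ext j
      simp only [Finset.mem_filter, Finset.mem_range, Finset.mem_image]
      constructor
      · rintro ⟨hj, l, rfl⟩
        refine ⟨l, ?_, rfl⟩
        have h1 : p * l < p * p ^ k := by
          rw [pow_succ, mul_comm (p ^ k)] at hj
          exact hj
        exact Nat.lt_of_mul_lt_mul_left h1
      · rintro ⟨l, hl, rfl⟩
        refine ⟨?_, dvd_mul_right p l⟩
        calc p * l < p * p ^ k := Nat.mul_lt_mul_of_pos_left hl hp.pos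
          _ = p ^ (k + 1) := by rw [pow_succ, mul_comm]
    rw [himg, Finset.sum_image (fun a _ b _ h => Nat.eq_of_mul_eq_mul_left hp.pos h)]
    apply Finset.sum_congr rfl
    intro l _
    rw [pow_mul]
  have hgeom1 : ∑ j ∈ Finset.range (p ^ (k + 1)), μ ^ j =
      if μ = 1 then (p : ℂ) ^ (k + 1) else 0 := by
    split_ifs with h
    · rw [h]
      simp
    · have h1 := geom_sum_mul μ (p ^ (k + 1))
      rw [hμ, sub_self] at h1
      exact (mul_eq_zero.mp h1).resolve_right (sub_ne_zero.mpr h)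
  have hgeom2 : ∑ l ∈ Finset.range (p ^ k), (μ ^ p) ^ l =
      if μ ^ p = 1 then (p : ℂ) ^ k else 0 := by
    split_ifs with h
    · rw [h]
      simp
    · have h1 := geom_sum_mul (μ ^ p) (p ^ k)
      have h2 : (μ ^ p) ^ (p ^ k) = 1 := by
        rw [← pow_mul, mul_comm, ← pow_succ]
        exact hμ
      rw [h2, sub_self] at h1
      exact (mul_eq_zero.mp h1).resolve_right (sub_ne_zero.mpr h)
  rw [← hgeom1, ← hgeom2, ← hmult, ← hsplit]
  ring

/-- A rational number that is an algebraic integer is an integer. -/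
theorem int_of_integral_rat (q : ℚ) (h : IsIntegral ℤ (q : ℂ)) : ∃ z : ℤ, q = (z : ℚ) := by
  have h1 : IsIntegral ℤ q := by
    have h2 : (q : ℂ) = algebraMap ℚ ℂ q := rfl
    rw [h2] at h
    exact (isIntegral_algebraMap_iff (algebraMap ℚ ℂ).injective).mp h
  obtain ⟨z, hz⟩ := IsIntegrallyClosed.isIntegral_iff.mp h1
  exact ⟨z, by rw [← hz]; rfl⟩

/-- Values of a `p`-rational character on nontrivial `p`-elements outside the kernel:
`χ(x) = χ(1) - p t` with `1 ≤ t ≤ χ(1)/(p-1)`. -/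
theorem value_form {G : Type*} [Group G] [Finite G] (p : ℕ) (hp : p.Prime) {χ : G → ℂ}
    (hχ : IsCharacter G χ) (r : ℕ) (hr : 0 < r) (hpr : ¬ p ∣ r)
    (hrat : ∀ g : G, χ g ∈
      IntermediateField.adjoin ℚ ({Complex.exp (2 * Real.pi * Complex.I / r)} : Set ℂ))
    (x : G) (k : ℕ) (hx : orderOf x = p ^ (k + 1)) (hne : χ x ≠ χ 1) :
    ∃ t : ℕ, 1 ≤ t ∧ t * (p - 1) ≤ charDegree χ ∧
      χ x = (charDegree χ : ℂ) - (p : ℂ) * (t : ℂ) := by
  classical
  have hdeg0 := Cfsg.Agent.Lib.CT.Wedderburn.char_natCast_charDegree hχ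
  have hfrob := Cfsg.Agent.S4604.frob_congr hχ p hp (k + 1) x
  have hchar := hχ
  obtain ⟨n, ρ, rfl⟩ := hχ
  obtain ⟨b, μ, hb, hμ⟩ := Cfsg.Agent.Lib.Helper3.Spectral.exists_eigenbasis ρ x
  rw [hx] at hμ
  generalize Module.finrank ℂ (Fin n → ℂ) = d at b μ hb hμ
  have hpow : ∀ j : ℕ, ρ.character (x ^ j) = ∑ i, μ i ^ j := by
    intro j
    have hk : ∀ i, ρ (x ^ j) (b i) = μ i ^ j • b i := by
      intro i
      rw [map_pow]
      induction j with
      | zero => simp
      | succ j ih =>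
        rw [pow_succ, Module.End.mul_apply, hb, map_smul, ih, smul_smul, pow_succ, mul_comm]
    exact Cfsg.Agent.Lib.Helper3.Spectral.trace_eq_sum_of_eigenbasis b (ρ (x ^ j))
      (fun i => μ i ^ j) hk
  have hone : ρ.character 1 = (d : ℂ) := by
    have := hpow 0
    rw [pow_zero] at this
    rw [this]
    simp
  have hdeg : charDegree ρ.character = d := by
    have : (charDegree ρ.character : ℂ) = (d : ℂ) := by rw [hdeg0, hone]
    exact_mod_cast this
  have hcopr : (orderOf x).Coprime r := by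
    rw [hx]
    exact Nat.Coprime.pow_left _ ((Nat.Prime.coprime_iff_not_dvd hp).mpr hpr)
  have hconst : ∀ j : ℕ, ¬ p ∣ j → ρ.character (x ^ j) = ρ.character x := by
    intro j hj
    apply Cfsg.Agent.Lib.Helper76.PRational.character_pow_eq ρ x r hr hcopr (hrat x) j
    rw [hx]
    exact Nat.Coprime.pow_right _ ((Nat.Prime.coprime_iff_not_dvd hp).mpr hj).symm
  set z := ρ.character x with hz
  set a₀ := (Finset.univ.filter (fun i => μ i = 1)).card with ha₀
  set b₀ := (Finset.univ.filter (fun i => μ i ^ p = 1)).card with hb₀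
  have hab : a₀ ≤ b₀ := by
    apply Finset.card_le_card
    intro i hi
    rw [Finset.mem_filter] at hi ⊢
    exact ⟨hi.1, by rw [hi.2, one_pow]⟩
  have hbd : b₀ ≤ d := by
    have := Finset.card_le_univ (Finset.univ.filter (fun i => μ i ^ p = 1))
    rwa [Fintype.card_fin] at this
  have hpk : ((p : ℂ) ^ k) ≠ 0 := pow_ne_zero _ (Nat.cast_ne_zero.mpr hp.pos.ne')
  -- the averaged identity
  have hmain : ((p : ℂ) - 1) * z = (p : ℂ) * a₀ - b₀ := by
    have h1 : ∑ j ∈ (Finset.range (p ^ (k + 1))).filter (fun j => ¬ p ∣ j), ρ.character (x ^ j) =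
        ((p : ℂ) ^ (k + 1) - (p : ℂ) ^ k) * z := by
      have hcard := sum_coprime_pow p hp k 1 (one_pow _)
      simp only [one_pow, if_true, Finset.sum_const, nsmul_eq_mul, mul_one] at hcard
      rw [← hcard, ← nsmul_eq_mul, ← Finset.sum_const]
      apply Finset.sum_congr rfl
      intro j hj
      exact hconst j (Finset.mem_filter.mp hj).2
    have h2 : ∑ j ∈ (Finset.range (p ^ (k + 1))).filter (fun j => ¬ p ∣ j), ρ.character (x ^ j) =
        (p : ℂ) ^ (k + 1) * a₀ - (p : ℂ) ^ k * b₀ := by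
      simp_rw [hpow]
      rw [Finset.sum_comm]
      simp_rw [sum_coprime_pow p hp k _ (hμ _)]
      rw [Finset.sum_sub_distrib, Finset.sum_ite, Finset.sum_ite, Finset.sum_const,
        Finset.sum_const, Finset.sum_const, Finset.sum_const]
      simp only [nsmul_eq_mul, smul_zero, add_zero]
      rw [mul_comm, mul_comm (b₀ : ℂ)]
    have h3 : (p : ℂ) ^ k * (((p : ℂ) - 1) * z) = (p : ℂ) ^ k * ((p : ℂ) * a₀ - b₀) := by
      have := h1.symm.trans h2
      rw [pow_succ] at this
      linear_combination this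
    exact mul_left_cancel₀ hpk h3
  -- integrality
  have hp1 : ((p : ℂ) - 1) ≠ 0 := by
    intro h
    have h' : (p : ℂ) = 1 := by linear_combination h
    have : (p : ℕ) = 1 := by exact_mod_cast h'
    exact hp.one_lt.ne' this
  have hzint : IsIntegral ℤ z := Cfsg.Agent.Lib.Helper80.Integrality.isIntegral_character ρ x
  obtain ⟨z', hz'⟩ := int_of_integral_rat (((p : ℚ) * a₀ - b₀) / ((p : ℚ) - 1)) (by
    have : z = ((((p : ℚ) * a₀ - b₀) / ((p : ℚ) - 1) : ℚ) : ℂ) := by
      push_cast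
      rw [eq_div_iff hp1, mul_comm]
      exact hmain
    rw [← this]
    exact hzint)
  have hzz : z = (z' : ℂ) := by
    have h1 : ((((p : ℚ) * a₀ - b₀) / ((p : ℚ) - 1) : ℚ) : ℂ) = ((z' : ℚ) : ℂ) := by rw [hz']
    push_cast at h1
    rw [← h1, eq_div_iff hp1, mul_comm]
    exact hmain
  have hmainZ : ((p : ℤ) - 1) * z' = (p : ℤ) * a₀ - b₀ := by
    have : ((((p : ℤ) - 1) * z' : ℤ) : ℂ) = (((p : ℤ) * a₀ - b₀ : ℤ) : ℂ) := by
      push_cast
      rw [← hzz]
      exact hmain
    exact_mod_cast this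
  -- the congruence modulo p
  obtain ⟨γ, hγ⟩ := hfrob
  rw [← hx, pow_orderOf_eq_one, hone, hzz] at hγ
  have hpne : (p : ℂ) ≠ 0 := Nat.cast_ne_zero.mpr hp.pos.ne'
  obtain ⟨w, hw⟩ := int_of_integral_rat (((z' ^ (orderOf x) - d : ℤ) : ℚ) / (p : ℚ)) (by
    have : (γ : ℂ) = ((((z' ^ (orderOf x) - d : ℤ) : ℚ) / (p : ℚ) : ℚ) : ℂ) := by
      push_cast
      rw [eq_div_iff hpne, mul_comm]
      exact hγ.symm
    rw [← this]
    exact γ.2)
  have hpQ : (p : ℚ) ≠ 0 := Nat.cast_ne_zero.mpr hp.pos.ne'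
  have hwZ : z' ^ (orderOf x) - d = (p : ℤ) * w := by
    rw [div_eq_iff hpQ] at hw
    have : (((z' ^ (orderOf x) - d : ℤ)) : ℚ) = (((p : ℤ) * w : ℤ) : ℚ) := by
      rw [hw]
      push_cast
      ring
    exact_mod_cast this
  have hmodp : (p : ℤ) ∣ (d : ℤ) - z' := by
    have hpFact : Fact p.Prime := ⟨hp⟩
    rw [← ZMod.intCast_eq_intCast_iff_dvd_sub]
    have h1 : ((z' ^ (orderOf x) - d : ℤ) : ZMod p) = 0 := by
      rw [hwZ]
      push_cast
      simp
    push_cast at h1
    rw [hx, ZMod.pow_card_pow] at h1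
    have h2 : ((z' : ℤ) : ZMod p) = ((d : ℕ) : ZMod p) := sub_eq_zero.mp h1
    rw [h2]
    simp
  obtain ⟨t', ht'⟩ := hmodp
  -- bounds
  have hp1Z : (0 : ℤ) < (p : ℤ) - 1 := by
    have : (1 : ℤ) < (p : ℤ) := by exact_mod_cast hp.one_lt
    linarith
  have hpZ : (0 : ℤ) < (p : ℤ) := by exact_mod_cast hp.pos
  have habZ : (a₀ : ℤ) ≤ (b₀ : ℤ) := by exact_mod_cast hab
  have hbdZ : (b₀ : ℤ) ≤ (d : ℤ) := by exact_mod_cast hbd
  have hzle : z' ≤ d := by
    have h1 : ((p : ℤ) - 1) * z' ≤ ((p : ℤ) - 1) * d := by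
      rw [hmainZ]
      nlinarith
    exact le_of_mul_le_mul_left h1 hp1Z
  have hzne : z' ≠ d := by
    intro h
    apply hne
    rw [hone, hzz, h]
    simp
  have ht'pos : 0 < t' := by
    have h1 : 0 < (d : ℤ) - z' := by
      have := lt_of_le_of_ne hzle hzne
      linarith
    rw [ht'] at h1
    by_contra hc
    rw [not_lt] at hc
    nlinarith
  have hlow : -(d : ℤ) ≤ ((p : ℤ) - 1) * z' := by
    rw [hmainZ]
    have : (0 : ℤ) ≤ (p : ℤ) * a₀ := by positivity
    linarith
  have hzt : z' = d - (p : ℤ) * t' := by linarith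
  have hbound : t' * ((p : ℤ) - 1) ≤ d := by
    have h1 : (p : ℤ) * (t' * ((p : ℤ) - 1)) ≤ (p : ℤ) * d := by
      rw [hzt] at hlow
      nlinarith
    exact le_of_mul_le_mul_left h1 hpZ
  have htn : ((t'.toNat : ℕ) : ℤ) = t' := Int.toNat_of_nonneg ht'pos.le
  refine ⟨t'.toNat, ?_, ?_, ?_⟩
  · omega
  · rw [hdeg]
    have h1 : (((t'.toNat * (p - 1) : ℕ)) : ℤ) ≤ ((d : ℕ) : ℤ) := by
      rw [Nat.cast_mul, htn, Nat.cast_sub hp.one_le]
      exact_mod_cast hbound
    exact_mod_cast h1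
  · rw [hdeg, hzz]
    have h1 : (z' : ℂ) = ((d - (p : ℤ) * t' : ℤ) : ℂ) := by rw [← hzt]
    have h2 : ((t'.toNat : ℕ) : ℂ) = (t' : ℂ) := by
      have h3 : (((t'.toNat : ℕ) : ℤ) : ℂ) = (t' : ℂ) := by rw [htn]
      rw [← h3, Int.cast_natCast]
    rw [h1, h2]
    push_cast
    ring

/-- Powers of a character are characters. -/
theorem isCharacter_pow' {G : Type*} [Group G] {χ : G → ℂ} (hχ : IsCharacter G χ) (j : ℕ) :
    IsCharacter G (fun g => χ g ^ j) := by
  induction j with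
  | zero =>
    simp only [pow_zero]
    exact Cfsg.Agent.Lib.CT.Ops.isCharacter_one
  | succ j ih =>
    have := Cfsg.Agent.Lib.CT.Ops.isCharacter_mul ih hχ
    have h2 : (fun g => χ g ^ j) * χ = fun g => χ g ^ (j + 1) := by
      funext g
      simp [pow_succ]
    rwa [h2] at this

/-- Sums over a subgroup of integer polynomials in a character are divisible by the order of
the subgroup. -/
theorem exists_int_sum_aeval {G : Type*} [Group G] [Finite G] {χ : G → ℂ} (hχ : IsCharacter G χ)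
    (Q : Subgroup G) [Fintype Q] (f : Polynomial ℤ) :
    ∃ z : ℤ, ∑ x : Q, Polynomial.aeval (χ (x : G)) f = (Nat.card Q : ℂ) * (z : ℂ) := by
  induction f using Polynomial.induction_on' with
  | add f g hf hg =>
    obtain ⟨z1, h1⟩ := hf
    obtain ⟨z2, h2⟩ := hg
    refine ⟨z1 + z2, ?_⟩
    simp only [map_add]
    rw [Finset.sum_add_distrib, h1, h2]
    push_cast
    ring
  | monomial j c =>
    obtain ⟨m, hm⟩ := Cfsg.Agent.Lib.CT.PairCount.char_sum_subgroup (isCharacter_pow' hχ j) Q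
    refine ⟨c * m, ?_⟩
    simp only [Polynomial.aeval_monomial]
    rw [← Finset.mul_sum, hm]
    push_cast
    simp only [eq_intCast]
    ring

/-- Let the finite group G have a faithful p-rational character χ of degree n (all values of χ lie in the field generated over ℚ by a root of unity of order prime to p), and let p^a be the order of a Sylow p-subgroup of G. Then a ≤ Σ_{i ≥ 0} ⌊n / ((p − 1)·p^i)⌋ (a finite sum; the terms vanish once (p − 1)p^i > n). -/
theorem result {G : Type*} [Group G] [Finite G] (p : ℕ) (hp : p.Prime) (χ : G → ℂ) (hχ : Cfsg.IsCharacter G χ) (hfaith : ∀ g : G, χ g = χ 1 → g = 1) (hrat : (∃ r : ℕ, 0 < r ∧ ¬ p ∣ r ∧ ∀ g : G, χ g ∈ IntermediateField.adjoin ℚ ({Complex.exp (2 * Real.pi * Complex.I / r)} : Set ℂ))) (n : ℕ) (hn : Cfsg.charDegree χ = n) : (Nat.card G).factorization p ≤ ∑ i ∈ Finset.range (n + 1), n / ((p - 1) * p ^ i) := by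
  classical
  have hpF : Fact p.Prime := ⟨hp⟩
  obtain ⟨r, hr, hpr, hrat⟩ := hrat
  obtain ⟨P⟩ : Nonempty (Sylow p G) := inferInstance
  have _instP : Fintype (P : Subgroup G) := Fintype.ofFinite _
  have hPcard : Nat.card (P : Subgroup G) = p ^ (Nat.card G).factorization p :=
    Sylow.card_eq_multiplicity P
  have hχ1 : χ 1 = (n : ℂ) := by
    rw [← hn]
    exact (Cfsg.Agent.Lib.CT.Wedderburn.char_natCast_charDegree hχ).symm
  set T := n / (p - 1) with hT
  let f : Polynomial ℤ := ∏ t ∈ Finset.Ico 1 (T + 1),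
    (Polynomial.X - Polynomial.C ((n : ℤ) - (p : ℤ) * (t : ℤ)))
  have hf : ∀ z : ℂ, Polynomial.aeval z f =
      ∏ t ∈ Finset.Ico 1 (T + 1), (z - ((n : ℂ) - (p : ℂ) * (t : ℂ))) := by
    intro z
    simp only [f, map_prod, map_sub, Polynomial.aeval_X, Polynomial.aeval_C]
    apply Finset.prod_congr rfl
    intro t _
    congr 1
    simp
  have hval : ∀ x : (P : Subgroup G), x ≠ 1 → Polynomial.aeval (χ (x : G)) f = 0 := by
    intro x hx1
    obtain ⟨k0, hk0⟩ := P.isPGroup' x
    have hxG : (x : G) ≠ 1 := fun h => hx1 (Subtype.ext h)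
    have hord : ∃ k, orderOf (x : G) = p ^ (k + 1) := by
      have h1 : (x : G) ^ (p ^ k0) = 1 := by exact_mod_cast congrArg Subtype.val hk0
      obtain ⟨j, hj, hj2⟩ := (Nat.dvd_prime_pow hp).mp (orderOf_dvd_of_pow_eq_one h1)
      rcases Nat.eq_zero_or_pos j with h0 | hpos
      · exfalso
        rw [h0, pow_zero] at hj2
        exact hxG (orderOf_eq_one_iff.mp hj2)
      · refine ⟨j - 1, ?_⟩
        rw [hj2]
        congr 1
        omega
    obtain ⟨k, hk⟩ := hord
    have hne : χ (x : G) ≠ χ 1 := fun h => hxG (hfaith _ h)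
    obtain ⟨t, ht1, ht2, ht3⟩ := value_form p hp hχ r hr hpr hrat (x : G) k hk hne
    rw [hn] at ht2 ht3
    rw [hf]
    apply Finset.prod_eq_zero (i := t)
    · rw [Finset.mem_Ico]
      refine ⟨ht1, ?_⟩
      have hp2 := hp.two_le
      have : t ≤ n / (p - 1) := (Nat.le_div_iff_mul_le (by omega)).mpr ht2
      omega
    · rw [ht3]
      ring
  have hval1 : Polynomial.aeval (χ ((1 : (P : Subgroup G)) : G)) f =
      ((p ^ T * T.factorial : ℕ) : ℂ) := by
    rw [hf, Subgroup.coe_one, hχ1]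
    have h1 : ∀ t ∈ Finset.Ico 1 (T + 1),
        ((n : ℂ) - ((n : ℂ) - (p : ℂ) * (t : ℂ))) = (p : ℂ) * (t : ℂ) := by
      intros
      ring
    rw [Finset.prod_congr rfl h1, Finset.prod_mul_distrib, Finset.prod_const, Nat.card_Ico,
      ← Finset.prod_Ico_id_eq_factorial T]
    push_cast
    simp
  obtain ⟨z, hz⟩ := exists_int_sum_aeval hχ (P : Subgroup G) f
  have hsum : ∑ x : (P : Subgroup G), Polynomial.aeval (χ (x : G)) f =
      ((p ^ T * T.factorial : ℕ) : ℂ) := by
    rw [Finset.sum_eq_single (1 : (P : Subgroup G)) (fun x _ hx => hval x hx)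
      (fun h => absurd (Finset.mem_univ _) h), hval1]
  rw [hsum, hPcard] at hz
  have hdvd : p ^ (Nat.card G).factorization p ∣ p ^ T * T.factorial := by
    have h1 : ((p ^ T * T.factorial : ℕ) : ℤ) =
        ((p ^ (Nat.card G).factorization p : ℕ) : ℤ) * z := by exact_mod_cast hz
    exact Int.natCast_dvd_natCast.mp ⟨z, h1⟩
  have hle : (Nat.card G).factorization p ≤ (p ^ T * T.factorial).factorization p :=
    (Nat.Prime.pow_dvd_iff_le_factorization hp
      (Nat.mul_ne_zero (pow_ne_zero _ hp.pos.ne') (Nat.factorial_ne_zero T))).mp hdvd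
  have hfac : (p ^ T * T.factorial).factorization p =
      T + ∑ i ∈ Finset.Ico 1 (n + 1), T / p ^ i := by
    rw [Nat.factorization_mul (pow_ne_zero _ hp.pos.ne') (Nat.factorial_ne_zero T),
      Finsupp.add_apply, Nat.Prime.factorization_pow hp, Finsupp.single_eq_same]
    congr 1
    apply Nat.factorization_factorial hp
    have hTn : T ≤ n := Nat.div_le_self n (p - 1)
    calc Nat.log p T ≤ T := Nat.log_le_self p T
      _ < n + 1 := by omega
  rw [hfac] at hle
  refine hle.trans (le_of_eq ?_)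
  rw [Finset.range_eq_Ico, Finset.sum_eq_sum_Ico_succ_bot (Nat.succ_pos n)]
  congr 1
  · simp [hT]
  · apply Finset.sum_congr rfl
    intro i _
    rw [hT, Nat.div_div_eq_div_mul]

end Cfsg.Agent.S4488
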