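import Mathlib
import Cfsg.Statements.S4452
import Cfsg.Agent.Lib.Helper4.GlauSolv
import Cfsg.Agent.Lib.Helper4.CopCount
-- import your own Cfsg.Agent.* helpers here

set_option autoImplicit false
open Cfsg

namespace Cfsg.Agent.S4452


/-- Let the finite group G be the product of a normal subgroup K and a solvable subgroup H of coprime orders, and let N = N_G(H). Then the number of irreducible characters of G of degree coprime to the order of H equals the number of irreducible characters of N of degree coprime to the order of H. (The two sets are in fact in a canonical bijection; only the equality of their sizes is stated here.) -/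
theorem result {G : Type*} [Group G] [Finite G] (K H : Subgroup G) [K.Normal] (hKH : K ⊔ H = ⊤) (hcop : (Nat.card K).Coprime (Nat.card H)) (hsolv : Group.IsSolvable H) : Nat.card {χ : Cfsg.IrrCharacter G // (Cfsg.charDegree (χ : G → ℂ)).Coprime (Nat.card H)} = Nat.card {η : Cfsg.IrrCharacter (Subgroup.normalizer (H : Set G)) // (Cfsg.charDegree (η : Subgroup.normalizer (H : Set G) → ℂ)).Coprime (Nat.card H)} := by
  classical
  haveI : Group.IsSolvable H := hsolv
  have hK : K.Normal := inferInstance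
  have hHN : H ≤ Subgroup.normalizer (H : Set G) := Subgroup.le_normalizer
  have hdisj : K ⊓ H = ⊥ := (Subgroup.disjoint_of_coprime_natCard hcop).eq_bot
  have hdec : ∀ g : G, ∃ k ∈ K, ∃ h ∈ H, g = k * h := by
    intro g
    have hg : g ∈ K ⊔ H := by
      rw [hKH]
      trivial
    obtain ⟨k, hk, h, hh, rfl⟩ := Subgroup.mem_sup_of_normal_left.1 hg
    exact ⟨k, hk, h, hh, rfl⟩
  -- elements of `K ∩ N` commute with `H`
  have hcomm : ∀ n ∈ Subgroup.normalizer (H : Set G), n ∈ K → ∀ h ∈ H, h * n * h⁻¹ = n := by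
    intro n hnN hnK h hh
    have h1 : n * h⁻¹ * n⁻¹ ∈ H := (Subgroup.mem_normalizer_iff.1 hnN h⁻¹).1 (H.inv_mem hh)
    have h2 : h * n * h⁻¹ * n⁻¹ ∈ K ⊓ H := by
      constructor
      · exact K.mul_mem (hK.conj_mem n hnK h) (K.inv_mem hnK)
      · have h3 : h * n * h⁻¹ * n⁻¹ = h * (n * h⁻¹ * n⁻¹) := by group
        rw [h3]
        exact H.mul_mem hh h1
    rw [hdisj, Subgroup.mem_bot] at h2
    exact mul_inv_eq_one.1 h2
  -- the `G` side
  have hG := Cfsg.Agent.Lib.Helper4.CopCount.count_coprime K H hdec hcop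
  -- the `N` side
  let K' : Subgroup (Subgroup.normalizer (H : Set G)) :=
    K.subgroupOf (Subgroup.normalizer (H : Set G))
  let H' : Subgroup (Subgroup.normalizer (H : Set G)) :=
    H.subgroupOf (Subgroup.normalizer (H : Set G))
  haveI hK' : K'.Normal := Subgroup.Normal.subgroupOf hK _
  have hdec' : ∀ n : Subgroup.normalizer (H : Set G), ∃ k ∈ K', ∃ h ∈ H', n = k * h := by
    intro n
    obtain ⟨k, hk, h, hh, hn⟩ := hdec (n : G)
    have hkN : k ∈ Subgroup.normalizer (H : Set G) := by
      have h1 : k = (n : G) * h⁻¹ := by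
        rw [hn]
        group
      rw [h1]
      exact Subgroup.mul_mem _ n.2 (Subgroup.inv_mem _ (hHN hh))
    exact ⟨⟨k, hkN⟩, Subgroup.mem_subgroupOf.2 hk, ⟨h, hHN hh⟩, Subgroup.mem_subgroupOf.2 hh,
      Subtype.ext hn⟩
  have hcardH' : Nat.card H' = Nat.card H :=
    Nat.card_congr (Subgroup.subgroupOfEquivOfLe hHN).toEquiv
  let ι : K' →* K := MonoidHom.codRestrict
    ((Subgroup.subtype (Subgroup.normalizer (H : Set G))).comp K'.subtype) K
    (fun k' => Subgroup.mem_subgroupOf.1 k'.2)
  have hι : Function.Injective ι := by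
    intro a b hab
    apply Subtype.ext
    apply Subtype.ext
    have h1 : ((ι a : K) : G) = ((ι b : K) : G) := congrArg Subtype.val hab
    exact h1
  have hcardK' : Nat.card K' ∣ Nat.card K := Subgroup.card_dvd_of_injective ι hι
  have hcop' : (Nat.card K').Coprime (Nat.card H') := by
    rw [hcardH']
    exact hcop.coprime_dvd_left hcardK'
  have hN := Cfsg.Agent.Lib.Helper4.CopCount.count_coprime K' H' hdec' hcop'
  rw [hcardH'] at hN
  have hlin : Nat.card (H' →* ℂˣ) = Nat.card (H →* ℂˣ) :=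
    Nat.card_congr (MulEquiv.monoidHomCongrLeftEquiv (Subgroup.subgroupOfEquivOfLe hHN))
  -- all characters of `K'` are invariant
  have hΘN : Nat.card {θ : IrrCharacter K' // ∀ (n : Subgroup.normalizer (H : Set G)) (k : K'),
      θ.1 ⟨n * k * n⁻¹, hK'.conj_mem (k : Subgroup.normalizer (H : Set G)) k.2 n⟩ = θ.1 k} =
      Nat.card (IrrCharacter K') := by
    apply Nat.card_congr
    apply Equiv.subtypeUnivEquiv
    intro θ n k
    obtain ⟨k₀, hk₀, h, hh, rfl⟩ := hdec' n
    have h1 : (⟨k₀ * h * k * (k₀ * h)⁻¹,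
        hK'.conj_mem (k : Subgroup.normalizer (H : Set G)) k.2 (k₀ * h)⟩ : K') =
        ⟨k₀, hk₀⟩ * k * ⟨k₀, hk₀⟩⁻¹ := by
      apply Subtype.ext
      apply Subtype.ext
      show ((k₀ : G) * (h : G)) * ((k : Subgroup.normalizer (H : Set G)) : G) *
        ((k₀ : G) * (h : G))⁻¹ =
        (k₀ : G) * ((k : Subgroup.normalizer (H : Set G)) : G) * (k₀ : G)⁻¹
      have h2 := hcomm ((k : Subgroup.normalizer (H : Set G)) : G)
        (k : Subgroup.normalizer (H : Set G)).2 (Subgroup.mem_subgroupOf.1 k.2) (h : G)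
        (Subgroup.mem_subgroupOf.1 hh)
      calc ((k₀ : G) * (h : G)) * ((k : Subgroup.normalizer (H : Set G)) : G) *
          ((k₀ : G) * (h : G))⁻¹
          = (k₀ : G) * ((h : G) * ((k : Subgroup.normalizer (H : Set G)) : G) * (h : G)⁻¹) *
            (k₀ : G)⁻¹ := by group
        _ = (k₀ : G) * ((k : Subgroup.normalizer (H : Set G)) : G) * (k₀ : G)⁻¹ := by rw [h2]
    exact (congrArg θ.1 h1).trans (Cfsg.Agent.Lib.Helper81.Irr.irr_conj θ k ⟨k₀, hk₀⟩)
  -- the action of `H` on `K`
  let φ : H →* MulAut K := (MulAut.conjNormal (H := K)).comp H.subtype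
  let A : Subgroup (MulAut K) := φ.range
  have hrange : ∀ k : K, k ∈ ι.range ↔ ∀ a ∈ A, a k = k := by
    intro k
    constructor
    · rintro ⟨k', rfl⟩ _ ⟨h, rfl⟩
      apply Subtype.ext
      show (h : G) * ((k' : Subgroup.normalizer (H : Set G)) : G) * (h : G)⁻¹ =
        ((k' : Subgroup.normalizer (H : Set G)) : G)
      exact hcomm _ (k' : Subgroup.normalizer (H : Set G)).2 (Subgroup.mem_subgroupOf.1 k'.2)
        h h.2
    · intro hk
      have h1 : ∀ h ∈ H, h * (k : G) * h⁻¹ = k := fun h hh =>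
        congrArg Subtype.val (hk (φ ⟨h, hh⟩) ⟨_, rfl⟩)
      have hkN : (k : G) ∈ Subgroup.normalizer (H : Set G) := by
        rw [Subgroup.mem_normalizer_iff]
        intro h
        constructor
        · intro hh
          have h2 : (k : G) * h * (k : G)⁻¹ = h := by
            have h3 := h1 h hh
            calc (k : G) * h * (k : G)⁻¹ = (h * (k : G) * h⁻¹) * h * (k : G)⁻¹ := by rw [h3]
              _ = h := by group
          rw [h2]
          exact hh
        · intro hh
          have h3 := h1 _ hh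
          have h5 : h * (k : G) * h⁻¹ = k := by
            calc h * (k : G) * h⁻¹
                = (k : G)⁻¹ * (((k : G) * h * (k : G)⁻¹) * (k : G) * ((k : G) * h * (k : G)⁻¹)⁻¹) *
                  (k : G) := by group
              _ = k := by
                rw [h3]
                group
          have h4 : h = (k : G) * h * (k : G)⁻¹ := by
            calc h = (h * (k : G) * h⁻¹) * h * (k : G)⁻¹ := by group
              _ = (k : G) * h * (k : G)⁻¹ := by rw [h5]
          rw [h4]
          exact hh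
      exact ⟨⟨⟨k, hkN⟩, Subgroup.mem_subgroupOf.2 k.2⟩, Subtype.ext rfl⟩
  have hAsolv : Group.IsSolvable A := solvable_of_surjective φ.rangeRestrict_surjective
  have hAcop : (Nat.card K).Coprime (Nat.card A) :=
    hcop.coprime_dvd_right (Subgroup.card_range_dvd φ)
  have hcount := Cfsg.Agent.Lib.Helper4.GlauSolv.card_invariant_solv A ι hAsolv hAcop hι hrange
  have hΘG : Nat.card {θ : IrrCharacter K // ∀ (g : G) (k : K),
      θ.1 ⟨g * k * g⁻¹, hK.conj_mem (k : G) k.2 g⟩ = θ.1 k} = Nat.card (IrrCharacter K') := by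
    rw [← hcount]
    apply Nat.card_congr
    apply Equiv.subtypeEquivRight
    intro θ
    constructor
    · rintro h _ ⟨x, rfl⟩ k
      exact h (x : G) k
    · intro h g k
      obtain ⟨k₀, hk₀, x, hx, rfl⟩ := hdec g
      have h1 : (⟨k₀ * x * k * (k₀ * x)⁻¹, hK.conj_mem (k : G) k.2 (k₀ * x)⟩ : K) =
          ⟨k₀, hk₀⟩ * (φ ⟨x, hx⟩ k) * ⟨k₀, hk₀⟩⁻¹ := by
        apply Subtype.ext
        show k₀ * x * (k : G) * (k₀ * x)⁻¹ = k₀ * (x * (k : G) * x⁻¹) * k₀⁻¹
        group
      rw [h1, Cfsg.Agent.Lib.Helper81.Irr.irr_conj θ, h (φ ⟨x, hx⟩) ⟨_, rfl⟩ k]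
  rw [hG, hN, hlin, hΘN, hΘG]

end Cfsg.Agent.S4452
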