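import Cfsg.Statements.S4889
import Cfsg.Agent.Lib.Helper75.OTFinal
import Cfsg.Agent.Lib.Helper75.OtBRA
import Cfsg.Agent.S4687
import Cfsg.Agent.Lib.Helper77.BPAb
import Cfsg.Agent.Lib.Helper16.BPLocal
import Cfsg.Agent.Lib.Helper10.DecRK1
import Cfsg.Agent.Lib.Helper59.OtTF
import Cfsg.Agent.Lib.Helper59.OtAR2
import Cfsg.Agent.Lib.Helper47.OTGEN
import Cfsg.Agent.Lib.Helper57.OtAR
import Cfsg.Agent.Lib.Helper79.OtN1
import Cfsg.Agent.Lib.Helper79.OtN2
import Cfsg.Agent.Lib.Helper79.OtBRO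
import Cfsg.Agent.Lib.Helper65.OtBRI
import Cfsg.Agent.Lib.Helper29.OTBRM
import Cfsg.Agent.Lib.Helper30.OTBRK
import Cfsg.Agent.Lib.Helper81.OTK1
import Cfsg.Agent.Lib.Helper81.OTBRX
import Cfsg.Agent.Lib.Helper99.OtLOC
import Cfsg.Agent.Lib.Helper49.OtBRW
import Cfsg.Agent.Lib.Helper63.OtBRD

set_option autoImplicit false
open Cfsg

namespace Cfsg.Agent.S4889

/-- Let G be a finite group, p a prime, M a maximal ideal of the algebraic integers containing p, and B a p-block of G that has an abelian defect group and in which every irreducible character has height zero. Then all irreducible characters of B have the same degree if and only if B is a nilpotent block. -/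
theorem result {G : Type*} [Group G] [Finite G] (p : ℕ) [Fact p.Prime] (M : Ideal Cfsg.AlgInt) (hM : Cfsg.IsPModular p M) (B : Set (Cfsg.IrrCharacter G)) (hB : Cfsg.IsPBlock M B) (D : Subgroup G) (hD : Cfsg.IsDefectGroup p M B D) (hDab : IsMulCommutative ↥D) (h0 : ∀ χ : Cfsg.IrrCharacter G, χ ∈ B → Cfsg.blockHeight p B (χ : G → ℂ) = 0) : (∃ d : ℕ, ∀ χ : Cfsg.IrrCharacter G, χ ∈ B → Cfsg.charDegree (χ : G → ℂ) = d) ↔ Cfsg.IsNilpotentBlock p M B := by
  classical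
  letI : Fintype G := Fintype.ofFinite G
  have hab : ∀ x ∈ D, ∀ y ∈ D, x * y = y * x := by
    intro x hx y hy
    have h := hDab.is_comm.comm (⟨x, hx⟩ : D) ⟨y, hy⟩
    exact congrArg Subtype.val h
  obtain ⟨c, hmax⟩ := Cfsg.Agent.Lib.Helper16.BPLocal.exists_maximal_pair hM B hB D hD
  have hS := Cfsg.Agent.S4687.result p M hM B D c hmax hab
  have hBRI : Cfsg.Agent.Lib.Helper75.OTStmt.BRI :=
    Cfsg.Agent.Lib.Helper65.OtBRI.main Cfsg.Agent.Lib.Helper29.OTBRM.main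
      Cfsg.Agent.Lib.Helper30.OTBRK.main Cfsg.Agent.Lib.Helper79.OtBRO.main
  have hBR : Cfsg.Agent.Lib.Helper75.OTStmt.BR :=
    Cfsg.Agent.Lib.Helper75.OtBRA.main hBRI Cfsg.Agent.Lib.Helper99.OtLOC.main
      Cfsg.Agent.Lib.Helper49.OtBRW.main Cfsg.Agent.Lib.Helper81.OTBRX.main
      Cfsg.Agent.Lib.Helper63.OtBRD.main
  constructor
  · rintro ⟨n, hn⟩
    rw [hS]
    exact Cfsg.Agent.Lib.Helper75.OTFinal.forward Cfsg.Agent.Lib.Helper59.OtTF.main
      Cfsg.Agent.Lib.Helper47.OTGEN.main Cfsg.Agent.Lib.Helper57.OtAR.main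
      Cfsg.Agent.Lib.Helper59.OtAR2.main Cfsg.Agent.Lib.Helper79.OtN1.main
      Cfsg.Agent.Lib.Helper79.OtN2.main Cfsg.Agent.Lib.Helper81.OTK1.main hBR p hM B hB D
      hD hab h0 c hmax n hn
  · intro hnil
    obtain ⟨hl, hk⟩ := Cfsg.Agent.Lib.Helper77.BPAb.abelian_nilpotent hM hmax hab (hS.1 hnil)
    exact Cfsg.Agent.Lib.Helper10.DecRK1.equal_degrees_of_rank_one p M hM B hB D hD hl hk

end Cfsg.Agent.S4889
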