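import Cfsg.Statements.S4637
import Cfsg.Agent.Lib.Helper77.BPKlein2
import Cfsg.Agent.Lib.Helper77.BPKlein3

set_option autoImplicit false
open Cfsg

namespace Cfsg.Agent.S4637

open Cfsg.Agent.Lib.Helper77.LocalRing Cfsg.Agent.Lib.Helper77.BPNormal
  Cfsg.Agent.Lib.Helper77.BPSub Cfsg.Agent.Lib.Helper77.BPSubpair
  Cfsg.Agent.Lib.Helper77.BPInd Cfsg.Agent.Lib.Helper77.BPCyc Cfsg.Agent.Lib.Helper77.BPAb
  Cfsg.Agent.Lib.Helper77.BPKlein1 Cfsg.Agent.Lib.Helper77.BPKlein2
  Cfsg.Agent.Lib.Helper77.BPKlein3 Cfsg.Agent.Lib.Helper16.ZR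

/-- Let B be a block of the finite group G relative to a maximal ideal M of the algebraic integers containing 2, with a Klein four defect group P. Let c be a block of C_G(P) inducing B, T the stabilizer of c in N_G(P) and e the index of C_G(P) in T (the inertial index). Then e is 1 or 3, B contains exactly four irreducible characters, and the 2-regular rank of B (its number of irreducible Brauer characters) equals e. -/
theorem result {G : Type*} [Group G] [Finite G] (M : Ideal Cfsg.AlgInt) (hM : Cfsg.IsPModular 2 M) (B : Set (Cfsg.IrrCharacter G)) (hB : Cfsg.IsPBlock M B) (P : Subgroup G) (hPD : Cfsg.IsDefectGroup 2 M B P) (hV : IsKleinFour P) (c : Set (Cfsg.IrrCharacter (Subgroup.centralizer (P : Set G)))) (hc : Cfsg.IsInducedBlock M (Subgroup.centralizer (P : Set G)) c B) (T : Subgroup G) (hT : ∀ g : G, g ∈ T ↔ (g ∈ Subgroup.normalizer (P : Set G) ∧ Cfsg.StabilizesBlock (Subgroup.centralizer (P : Set G)) c g)) (e : ℕ) (he : (Subgroup.centralizer (P : Set G)).relIndex T = e)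 : (e = 1 ∨ e = 3) ∧ Nat.card B = 4 ∧ Cfsg.blockRank 2 B = e := by
  classical
  haveI : Fact (Nat.Prime 2) := ⟨Nat.prime_two⟩
  have hMp := isPrime_of_isPModular hM
  have hPp : IsPGroup 2 P := isPGroup_of_isDefectGroup hPD
  obtain ⟨hsq, hcomm, ⟨u, hu, hu1⟩, helems⟩ := klein_elems hV
  have hpair : IsBrauerPairOf 2 M B P c :=
    (isBrauerPairOf_iff_isInducedBlock hM P hPp c B).mpr hc
  have hmax : IsMaximalBrauerPair 2 M B P c := isMaximal_of_isDefectGroup hM hpair hPD
  have hPe : IsBrauerPair 2 M P c := hpair.1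
  obtain ⟨he13, hfree, htrans⟩ := inertial hM hmax hV T hT
  have hcardP : Nat.card P = 4 := hV.card_four
  rw [he] at he13
  by_cases he1 : e = 1
  · -- the nilpotent case
    have hTC : T ≤ Subgroup.centralizer (P : Set G) :=
      Subgroup.relIndex_eq_one.mp (he.trans he1)
    have hnil : ∀ x ∈ Subgroup.normalizer (P : Set G),
        StabilizesBlock (Subgroup.centralizer (P : Set G)) c x →
          x ∈ Subgroup.centralizer (P : Set G) :=
      fun x hxN hxs => hTC ((hT x).mpr ⟨hxN, hxs⟩)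
    obtain ⟨hl, hk⟩ := abelian_nilpotent hM hmax hcomm hnil
    exact ⟨Or.inl he1, by rw [hk, hcardP], by rw [hl, he1]⟩
  · have he3 : e = 3 := he13.resolve_left he1
    have hne : (Subgroup.centralizer (P : Set G)).relIndex T ≠ 1 := by
      rw [he]
      exact he1
    have htr := htrans hne
    -- the local block at `u`
    have hQP : Subgroup.zpowers u ≤ P := Subgroup.zpowers_le.mpr hu
    obtain ⟨f, hle⟩ := exists_subpair hM P c hPe (Subgroup.zpowers u) hQP
    have hfb : IsPBlock M f :=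
      (isBrauerPair_of_le ⟨Subgroup.zpowers u, f⟩ ⟨P, c⟩ hle hPe).2
    obtain ⟨hfl, hfk, hfreg⟩ := local_block hM hmax hcomm hu (by
      intro t htN hts htu
      apply hfree t ((hT t).mpr ⟨htN, hts⟩) u hu hu1
      rw [htu, mul_inv_cancel_right]) f hle
    obtain ⟨β, hfβ, hβind, huniq, hcount⟩ := count_two hM hmax hu hu1 (by
      intro v hv hv1
      obtain ⟨t, ht, htv⟩ := htr u hu hu1 v hv hv1
      exact ⟨t, ((hT t).mp ht).1, ((hT t).mp ht).2, htv⟩) f hle
    -- transfer the properties of `f` to `β`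
    obtain ⟨hβb, hβl, hβk, hβreg⟩ := heq_transfer (centralizer_zpowers_eq u) f β hfβ
      (fun K b => IsPBlock M b ∧ blockRank 2 b = 1 ∧ Nat.card b = 4 ∧
        ∀ ψ ∈ b, ∀ ψ' ∈ b, ∀ y : K, ¬ 2 ∣ orderOf y → (ψ : K → ℂ) y = (ψ' : K → ℂ) y)
      ⟨hfb, hfl, by rw [hfk, hcardP], hfreg⟩
    have hu2 : orderOf u = 2 := orderOf_eq_prime (by rw [pow_two]; exact hsq u hu) hu1
    have hβmem : ∀ ψ : IrrCharacter (Subgroup.centralizer ({u} : Set G)), ψ ∈ β ↔
        IsInducedBlock M (Subgroup.centralizer ({u} : Set G))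
          (blockOf M (ψ : Subgroup.centralizer ({u} : Set G) → ℂ)) B := by
      intro ψ
      constructor
      · intro hψ
        rw [← isPBlock_eq_blockOf hMp hβb hψ]
        exact hβind
      · intro h
        rw [← huniq _ h]
        exact mem_blockOf_self hMp ψ
    have hlow := card_ge_four M hM B hB u hu2 β hβb hβmem hβk hβl hβreg
    have hupp := upper_bound hM hmax hcomm hu f hle (by rw [hfl]; norm_num)
    rw [hcardP] at hupp
    rw [hβl] at hcount
    have hk : Nat.card B = 4 := le_antisymm hupp hlow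
    refine ⟨Or.inr he3, hk, ?_⟩
    omega

end Cfsg.Agent.S4637
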