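import Cfsg.Statements.S0428
import Cfsg.Agent.Lib.Helper8.S3622Graph

set_option autoImplicit false
open Cfsg

namespace Cfsg.Agent.S0428

open Finset Cfsg.Agent.Lib.Helper8.Steiner Cfsg.Agent.Lib.Helper8.S3622
  Cfsg.Agent.Lib.Helper8.S3622Graph

section counts

variable {α : Type*} [Fintype α] [DecidableEq α]

/-- 21 blocks through a point -/
lemma card_through_point (hα : Fintype.card α = 22) {B : Set (Finset α)}
    (hB : Cfsg.IsSteinerSystem 3 6 B) (a : α) :
    ((blocks B).filter (fun d => a ∈ d)).card = 21 := by
  have h := card_through_mul hB {a} (by simp)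
  have c1 : Nat.choose 21 2 = 210 := by decide
  have c2 : Nat.choose 5 2 = 10 := by decide
  simp only [card_singleton, hα, Nat.reduceSub, c1, c2, singleton_subset_iff] at h
  omega

/-- 5 blocks through two points -/
lemma card_through_pair (hα : Fintype.card α = 22) {B : Set (Finset α)}
    (hB : Cfsg.IsSteinerSystem 3 6 B) {a a' : α} (hne : a ≠ a') :
    ((blocks B).filter (fun d => a ∈ d ∧ a' ∈ d)).card = 5 := by
  have hc : ({a, a'} : Finset α).card = 2 := card_pair hne
  have h := card_through_mul hB {a, a'} (by rw [hc]; norm_num)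
  rw [hc, hα] at h
  simp only [Nat.reduceSub, Nat.choose_one_right] at h
  have e : (blocks B).filter (fun d => a ∈ d ∧ a' ∈ d)
      = (blocks B).filter (fun d => {a, a'} ⊆ d) := by
    apply filter_congr
    intro d _
    rw [insert_subset_iff, singleton_subset_iff]
  rw [e]
  omega

/-- 6 blocks through a point off a block are disjoint from the block -/
lemma card_through_disjoint (hα : Fintype.card α = 22) {B : Set (Finset α)}
    (hB : Cfsg.IsSteinerSystem 3 6 B) {b : Finset α} (hb : b ∈ B) {a : α} (ha : a ∉ b) :
    ((blocks B).filter (fun d => a ∈ d ∧ Disjoint d b)).card = 6 := by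
  have hdisj : Disjoint ({a} : Finset α) b := disjoint_singleton_left.mpr ha
  have t0 := moment_through hB {a} b hdisj 0 (by simp)
  have t1 := moment_through hB {a} b hdisj 1 (by simp)
  have c1 : Nat.choose 21 2 = 210 := by decide
  have c2 : Nat.choose 5 2 = 10 := by decide
  simp only [card_singleton, hα, hB.1 b hb, Nat.reduceSub, c1, c2, Nat.choose_zero_right,
    Nat.choose_one_right, sum_const, smul_eq_mul, mul_one, one_mul, singleton_subset_iff]
    at t0 t1
  have hpt : ∀ d ∈ (blocks B).filter (fun d => a ∈ d),
      2 * (if Disjoint d b then 1 else 0) + (d ∩ b).card = 2 := by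
    intro d hd
    rw [mem_filter, mem_blocks] at hd
    have hdb : d ≠ b := by
      rintro rfl
      exact ha hd.2
    rcases inter_card hα hB hd.1 hb hdb with h | h
    · rw [if_pos ((disjoint_iff_card d b).mpr h), h]
    · rw [if_neg (by rw [disjoint_iff_card, h]; decide), h]
  have hs := Finset.sum_congr rfl hpt
  rw [sum_add_distrib, ← mul_sum, sum_boole, sum_const, filter_filter] at hs
  simp only [Nat.cast_id, smul_eq_mul] at hs
  omega

end counts

section graph

variable {α : Type*} [Fintype α] {B : Set (Finset α)}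

omit [Fintype α] in
lemma adj_none_none : ¬ (Cfsg.pointBlockGraph B).Adj none none := by
  unfold Cfsg.pointBlockGraph
  rw [SimpleGraph.fromRel_adj]
  simp

omit [Fintype α] in
lemma adj_none_pt (a : α) : (Cfsg.pointBlockGraph B).Adj none (some (Sum.inl a)) := by
  unfold Cfsg.pointBlockGraph
  rw [SimpleGraph.fromRel_adj]
  simp [Cfsg.pointBlockRel]

omit [Fintype α] in
lemma adj_none_blk (d : ↥B) : ¬ (Cfsg.pointBlockGraph B).Adj none (some (Sum.inr d)) := by
  unfold Cfsg.pointBlockGraph
  rw [SimpleGraph.fromRel_adj]
  simp [Cfsg.pointBlockRel]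

omit [Fintype α] in
lemma adj_pt_pt (a a' : α) :
    ¬ (Cfsg.pointBlockGraph B).Adj (some (Sum.inl a)) (some (Sum.inl a')) := by
  unfold Cfsg.pointBlockGraph
  rw [SimpleGraph.fromRel_adj]
  simp [Cfsg.pointBlockRel]

omit [Fintype α] in
lemma adj_pt_blk (a : α) (d : ↥B) :
    (Cfsg.pointBlockGraph B).Adj (some (Sum.inl a)) (some (Sum.inr d)) ↔ a ∈ (d : Finset α) := by
  unfold Cfsg.pointBlockGraph
  rw [SimpleGraph.fromRel_adj]
  simp [Cfsg.pointBlockRel]

omit [Fintype α] in
lemma adj_blk_blk (hB : Cfsg.IsSteinerSystem 3 6 B) (b d : ↥B) :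
    (Cfsg.pointBlockGraph B).Adj (some (Sum.inr b)) (some (Sum.inr d))
      ↔ Disjoint (d : Finset α) (b : Finset α) := by
  unfold Cfsg.pointBlockGraph
  rw [SimpleGraph.fromRel_adj]
  simp only [Cfsg.pointBlockRel]
  constructor
  · rintro ⟨_, h | h⟩
    · exact h.symm
    · exact h
  · intro h
    refine ⟨?_, Or.inr h⟩
    intro hvd
    have : b = d := by simpa using hvd
    rw [this] at h
    exact not_disjoint_self hB d.2 h

/-- cardinality of a vertex set of the point-block graph, split by the three kinds of vertices -/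
lemma card_vertex_set [Fintype ↥B] (s : Set (Option (α ⊕ ↥B))) [Fintype s]
    (p0 : Prop) [Decidable p0] (P : α → Prop) [DecidablePred P]
    (Q : Finset α → Prop) [DecidablePred Q]
    (h0 : none ∈ s ↔ p0) (hP : ∀ a, some (Sum.inl a) ∈ s ↔ P a)
    (hQ : ∀ d : ↥B, some (Sum.inr d) ∈ s ↔ Q d.1) :
    Fintype.card s
      = (if p0 then 1 else 0) + (univ.filter P).card + ((blocks B).filter Q).card := by
  classical
  rw [Fintype.card_eq_nat_card, Nat.card_coe_set_eq]
  have e1 : s.ncard = (Finset.univ.filter (fun x => x ∈ s)).card := by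
    rw [← Set.ncard_coe_finset]
    congr 1
    ext x
    simp
  rw [e1, Finset.card_filter, Fintype.sum_option, Fintype.sum_sum_type]
  have e2 : (if none ∈ s then 1 else 0) = (if p0 then 1 else 0) := by
    simp only [h0]
  have e3 : ∑ a : α, (if some (Sum.inl a) ∈ s then 1 else 0) = (univ.filter P).card := by
    rw [Finset.card_filter]
    exact Finset.sum_congr rfl (fun a _ => by simp only [hP])
  have e4 : ∑ d : ↥B, (if some (Sum.inr d) ∈ s then 1 else 0) = ((blocks B).filter Q).card := by
    rw [← Finset.card_filter]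
    have : ((Finset.univ : Finset ↥B).filter (fun d => some (Sum.inr d) ∈ s)).map
        ⟨Subtype.val, Subtype.val_injective⟩ = (blocks B).filter Q := by
      ext d
      simp only [mem_map, mem_filter, mem_univ, true_and, Function.Embedding.coeFn_mk,
        mem_blocks]
      constructor
      · rintro ⟨x, hx, rfl⟩
        exact ⟨x.2, (hQ x).mp hx⟩
      · rintro ⟨hd, hq⟩
        exact ⟨⟨d, hd⟩, (hQ _).mpr hq, rfl⟩
    rw [← this, card_map]
  rw [e2, e3, e4, add_assoc]

end graph

section nbr

variable {α : Type*} [Fintype α] {B : Set (Finset α)}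

/-- is the extra vertex a neighbour of `v` -/
def n0 : Option (α ⊕ ↥B) → Prop
  | none => False
  | some (Sum.inl _) => True
  | some (Sum.inr _) => False

/-- the points that are neighbours of `v` -/
def nP : Option (α ⊕ ↥B) → α → Prop
  | none, _ => True
  | some (Sum.inl _), _ => False
  | some (Sum.inr b), a => a ∈ (b : Finset α)

/-- the blocks that are neighbours of `v` -/
def nQ : Option (α ⊕ ↥B) → Finset α → Prop
  | none, _ => False
  | some (Sum.inl a), d => a ∈ d
  | some (Sum.inr b), d => Disjoint d (b : Finset α)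

omit [Fintype α] in
lemma adj_iff_none (v : Option (α ⊕ ↥B)) : (Cfsg.pointBlockGraph B).Adj v none ↔ n0 v := by
  rcases v with _ | a | b
  · simp [n0, adj_none_none]
  · simp [n0, ((Cfsg.pointBlockGraph B).adj_comm _ _).mp (adj_none_pt a)]
  · simp only [n0, iff_false]
    exact fun h => adj_none_blk b (((Cfsg.pointBlockGraph B).adj_comm _ _).mp h)

omit [Fintype α] in
lemma adj_iff_pt (v : Option (α ⊕ ↥B)) (a : α) :
    (Cfsg.pointBlockGraph B).Adj v (some (Sum.inl a)) ↔ nP v a := by
  rcases v with _ | a' | b
  · simp [nP, adj_none_pt]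
  · simp [nP, adj_pt_pt]
  · rw [SimpleGraph.adj_comm, adj_pt_blk]
    rfl

omit [Fintype α] in
lemma adj_iff_blk (hB : Cfsg.IsSteinerSystem 3 6 B) (v : Option (α ⊕ ↥B)) (d : ↥B) :
    (Cfsg.pointBlockGraph B).Adj v (some (Sum.inr d)) ↔ nQ v d.1 := by
  rcases v with _ | a | b
  · simp [nQ, adj_none_blk]
  · rw [adj_pt_blk]; rfl
  · rw [adj_blk_blk hB]; rfl

lemma card_nbr [Fintype ↥B] (hB : Cfsg.IsSteinerSystem 3 6 B) (v : Option (α ⊕ ↥B))
    [Fintype ((Cfsg.pointBlockGraph B).neighborSet v)]
    (p0 : Prop) [Decidable p0] (P : α → Prop) [DecidablePred P]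
    (Q : Finset α → Prop) [DecidablePred Q]
    (h0 : n0 v ↔ p0) (hP : ∀ a, nP v a ↔ P a) (hQ : ∀ d : Finset α, nQ v d ↔ Q d) :
    Fintype.card ((Cfsg.pointBlockGraph B).neighborSet v)
      = (if p0 then 1 else 0) + (univ.filter P).card + ((blocks B).filter Q).card :=
  card_vertex_set _ _ _ _
    (by rw [SimpleGraph.mem_neighborSet, adj_iff_none, h0])
    (fun a => by rw [SimpleGraph.mem_neighborSet, adj_iff_pt, hP])
    (fun d => by rw [SimpleGraph.mem_neighborSet, adj_iff_blk hB, hQ])

lemma card_common [Fintype ↥B] (hB : Cfsg.IsSteinerSystem 3 6 B) (v w : Option (α ⊕ ↥B))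
    [Fintype ((Cfsg.pointBlockGraph B).commonNeighbors v w)]
    (p0 : Prop) [Decidable p0] (P : α → Prop) [DecidablePred P]
    (Q : Finset α → Prop) [DecidablePred Q]
    (h0 : (n0 v ∧ n0 w) ↔ p0) (hP : ∀ a, (nP v a ∧ nP w a) ↔ P a)
    (hQ : ∀ d : Finset α, (nQ v d ∧ nQ w d) ↔ Q d) :
    Fintype.card ((Cfsg.pointBlockGraph B).commonNeighbors v w)
      = (if p0 then 1 else 0) + (univ.filter P).card + ((blocks B).filter Q).card :=
  card_vertex_set _ _ _ _
    (by rw [SimpleGraph.mem_commonNeighbors, adj_iff_none, adj_iff_none, h0])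
    (fun a => by rw [SimpleGraph.mem_commonNeighbors, adj_iff_pt, adj_iff_pt, hP])
    (fun d => by rw [SimpleGraph.mem_commonNeighbors, adj_iff_blk hB, adj_iff_blk hB, hQ])

end nbr

/-- The point-block graph of an S(3, 6, 22) is strongly regular with parameters (100, 22, 0, 6). -/
theorem result {α : Type*} [Fintype α] (hα : Fintype.card α = 22) {B : Set (Finset α)} (hB : Cfsg.IsSteinerSystem 3 6 B) [Fintype B] [DecidableRel (Cfsg.pointBlockGraph B).Adj] : (Cfsg.pointBlockGraph B).IsSRGWith 100 22 0 6 := by
  classical
  refine ⟨?_, ?_, ?_, ?_⟩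
  · rw [Fintype.card_option, Fintype.card_sum, hα, Fintype.card_eq_nat_card (α := ↥B),
      Nat.card_coe_set_eq, ncard_eq, card_blocks hα hB]
  · intro v
    rw [← SimpleGraph.card_neighborSet_eq_degree]
    rcases v with _ | a | b
    · rw [card_nbr hB _ False (fun _ => True) (fun _ => False) (by simp [n0])
        (fun x => by simp [nP]) (fun d => by simp [nQ])]
      simp [hα]
    · rw [card_nbr hB _ True (fun _ => False) (fun d => a ∈ d) (by simp [n0])
        (fun x => by simp [nP]) (fun d => by simp [nQ]), card_through_point hα hB a]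
      simp
    · rw [card_nbr hB _ False (fun x => x ∈ (b : Finset α))
        (fun d => Disjoint d (b : Finset α)) (by simp [n0])
        (fun x => by simp [nP]) (fun d => by simp [nQ]), card_disjoint hα hB b.2]
      simp [hB.1 b b.2]
  · intro v w hvw
    rcases v with _ | a | b <;> rcases w with _ | a' | c
    · exact absurd hvw adj_none_none
    · rw [card_common hB _ _ False (fun _ => False) (fun _ => False) (by simp [n0])
        (fun x => by simp [nP]) (fun d => by simp [nQ])]
      simp
    · exact absurd hvw (adj_none_blk c)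
    · rw [card_common hB _ _ False (fun _ => False) (fun _ => False) (by simp [n0])
        (fun x => by simp [nP]) (fun d => by simp [nQ])]
      simp
    · exact absurd hvw (adj_pt_pt a a')
    · have hac : a ∈ (c : Finset α) := (adj_pt_blk a c).mp hvw
      rw [card_common hB _ _ False (fun _ => False) (fun _ => False) (by simp [n0])
        (fun x => by simp [nP]) (fun d => by
          simp only [nQ, iff_false, not_and]
          intro h1 h2
          exact Finset.disjoint_left.mp h2 h1 hac)]
      simp
    · exact absurd (((Cfsg.pointBlockGraph B).adj_comm _ _).mp hvw) (adj_none_blk b)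
    · have hac : a' ∈ (b : Finset α) :=
        (adj_pt_blk a' b).mp (((Cfsg.pointBlockGraph B).adj_comm _ _).mp hvw)
      rw [card_common hB _ _ False (fun _ => False) (fun _ => False) (by simp [n0])
        (fun x => by simp [nP]) (fun d => by
          simp only [nQ, iff_false, not_and]
          intro h2 h1
          exact Finset.disjoint_left.mp h2 h1 hac)]
      simp
    · have hbc : Disjoint (c : Finset α) (b : Finset α) := (adj_blk_blk hB b c).mp hvw
      rw [card_common hB _ _ False (fun _ => False)
        (fun d => Disjoint d (b : Finset α) ∧ Disjoint d (c : Finset α)) (by simp [n0])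
        (fun x => by
          simp only [nP, iff_false, not_and]
          intro h1 h2
          exact Finset.disjoint_left.mp hbc h2 h1) (fun d => by simp [nQ]),
        card_disjoint_disjoint hα hB b.2 c.2 hbc.symm]
      simp
  · intro v w hne hvw
    rcases v with _ | a | b <;> rcases w with _ | a' | c
    · exact absurd rfl hne
    · exact absurd (adj_none_pt a') hvw
    · rw [card_common hB _ _ False (fun x => x ∈ (c : Finset α)) (fun _ => False)
        (by simp [n0]) (fun x => by simp [nP]) (fun d => by simp [nQ])]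
      simp [hB.1 c c.2]
    · exact absurd (((Cfsg.pointBlockGraph B).adj_comm _ _).mp (adj_none_pt a)) hvw
    · have haa : a ≠ a' := fun h => hne (by rw [h])
      rw [card_common hB _ _ True (fun _ => False) (fun d => a ∈ d ∧ a' ∈ d)
        (by simp [n0]) (fun x => by simp [nP]) (fun d => by simp [nQ]),
        card_through_pair hα hB haa]
      simp
    · have hac : a ∉ (c : Finset α) := fun h => hvw ((adj_pt_blk a c).mpr h)
      rw [card_common hB _ _ False (fun _ => False)
        (fun d => a ∈ d ∧ Disjoint d (c : Finset α))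
        (by simp [n0]) (fun x => by simp [nP]) (fun d => by simp [nQ]),
        card_through_disjoint hα hB c.2 hac]
      simp
    · rw [card_common hB _ _ False (fun x => x ∈ (b : Finset α)) (fun _ => False)
        (by simp [n0]) (fun x => by simp [nP]) (fun d => by simp [nQ])]
      simp [hB.1 b b.2]
    · have hac : a' ∉ (b : Finset α) := fun h =>
        hvw (((Cfsg.pointBlockGraph B).adj_comm _ _).mp ((adj_pt_blk a' b).mpr h))
      rw [card_common hB _ _ False (fun _ => False)
        (fun d => a' ∈ d ∧ Disjoint d (b : Finset α))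
        (by simp [n0]) (fun x => by simp [nP]) (fun d => by simp [nQ, and_comm]),
        card_through_disjoint hα hB b.2 hac]
      simp
    · have hbc : ¬ Disjoint (b : Finset α) (c : Finset α) :=
        fun h => hvw ((adj_blk_blk hB b c).mpr h.symm)
      have hbc' : (b : Finset α) ≠ (c : Finset α) := fun h => hne (by rw [Subtype.ext h])
      have h2 := inter_card hα hB b.2 c.2 hbc'
      have h3 : ((b : Finset α) ∩ (c : Finset α)).card ≠ 0 :=
        fun h => hbc ((disjoint_iff_card _ _).mpr h)
      rw [card_common hB _ _ False (fun x => x ∈ (b : Finset α) ∩ (c : Finset α))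
        (fun d => Disjoint d (b : Finset α) ∧ Disjoint d (c : Finset α))
        (by simp [n0]) (fun x => by simp [nP]) (fun d => by simp [nQ]),
        card_disjoint_meet hα hB b.2 c.2 hbc' hbc]
      have e : univ.filter (fun x => x ∈ (b : Finset α) ∩ (c : Finset α))
          = (b : Finset α) ∩ (c : Finset α) := by
        ext x
        simp
      rw [e, if_neg not_false]
      omega

end Cfsg.Agent.S0428
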