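import Cfsg.Statements.S0414
import Cfsg.Agent.Lib.Helper8.AutExt22
import Cfsg.Agent.S0363
import Cfsg.Agent.S0366
import Cfsg.Agent.S0369
import Cfsg.Agent.S0378
import Cfsg.Agent.S0379

set_option autoImplicit false
open Cfsg

namespace Cfsg.Agent.S0414

open Cfsg.Agent.Lib.Helper8.DerivedPlane in
/-- The design derived from the octads at two points has the asserted automorphism group. -/
theorem golay22 : ∃ J : Finset Cfsg.GolayPt, J.card = 2 ∧
    Nat.card (Cfsg.setSystemAut (lines J Cfsg.octads)) = 887040 ∧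
    MulAction.IsMultiplyPretransitive (Cfsg.setSystemAut (lines J Cfsg.octads)) (Co J) 3 ∧
    ∃ H : Subgroup (Cfsg.setSystemAut (lines J Cfsg.octads)), H.index = 2 ∧ Cfsg.IsM22 H := by
  have hpq : (none : Cfsg.GolayPt) ≠ some 0 := by simp
  obtain ⟨h3, H, hidx, ⟨θ⟩⟩ := Cfsg.Agent.Lib.Helper8.AutExt22.aut22
    (by rw [Fintype.card_option, ZMod.card]) Cfsg.Agent.S0363.result hpq Cfsg.M24
    Cfsg.Agent.S0369.result Cfsg.Agent.S0366.result
  have hc : Nat.card H = 443520 := by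
    rw [← Nat.card_congr θ.toEquiv]
    exact Cfsg.Agent.S0378.result _ _ hpq
  refine ⟨{none, some 0}, Finset.card_pair hpq, ?_, h3, H, hidx, ⟨?_, hc⟩⟩
  · rw [← Subgroup.card_mul_index H, hc, hidx]
  · have := Cfsg.Agent.S0379.result _ _ hpq
    exact θ.isSimpleGroup_congr.1 inferInstance

/-- Aut of an S(3, 6, 22) has order 887040, is 3-transitive, and contains a simple subgroup of index 2. -/
theorem result {α : Type*} [Fintype α] [DecidableEq α] (hα : Fintype.card α = 22) {B : Set (Finset α)} (hB : Cfsg.IsSteinerSystem 3 6 B) : Nat.card (Cfsg.setSystemAut B) = 887040 ∧ MulAction.IsMultiplyPretransitive (Cfsg.setSystemAut B) α 3 ∧ ∃ H : Subgroup (Cfsg.setSystemAut B), H.index = 2 ∧ Cfsg.IsM22 H := by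
  obtain ⟨J, hJ, hcard, h3, H, hidx, hM⟩ := golay22
  have hB₀ : Cfsg.IsSteinerSystem 3 6 (Cfsg.Agent.Lib.Helper8.DerivedPlane.lines J Cfsg.octads) :=
    Cfsg.Agent.Lib.Helper8.DerivedPlane.derived (j := 2) hJ Cfsg.Agent.S0363.result
  have hco : Fintype.card (Cfsg.Agent.Lib.Helper8.DerivedPlane.Co J) = 22 := by
    rw [Cfsg.Agent.Lib.Helper8.DerivedPlane.card_co, hJ, Fintype.card_option, ZMod.card]
  obtain ⟨φ, h⟩ := Cfsg.Agent.Lib.Helper8.SteinerUniq.u22 hα hB
  obtain ⟨φ', h'⟩ := Cfsg.Agent.Lib.Helper8.SteinerUniq.u22 hco hB₀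
  have hiso := Cfsg.Agent.Lib.Helper8.Plane4Model.iso_of_model φ φ' h h'
  let Θ := Cfsg.Agent.Lib.Helper8.AutTransport.autCongr (φ.trans φ'.symm) hiso
  refine ⟨?_, ?_, H.map Θ.symm.toMonoidHom, ?_, ?_, ?_⟩
  · rw [Nat.card_congr Θ.toEquiv]
    exact hcard
  · exact Cfsg.Agent.Lib.Helper8.AutTransport.multiply_transport (φ.trans φ'.symm) hiso 3 h3
  · rw [Subgroup.index_map_of_bijective (f := Θ.symm.toMonoidHom) Θ.symm.bijective H]
    exact hidx
  · have := hM.1
    exact (Θ.symm.subgroupMap H).isSimpleGroup_congr.1 inferInstance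
  · exact (Nat.card_congr (Θ.symm.subgroupMap H).toEquiv).symm.trans hM.2

end Cfsg.Agent.S0414
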