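import Mathlib
import Cfsg.Statements.S0169
import Cfsg.Agent.Lib.Helper81.CliffCorr
import Cfsg.Agent.Lib.Helper80.CenterDvd
import Cfsg.Agent.Lib.Helper80.Schur
import Cfsg.Agent.Lib.CT.LinChar
import Cfsg.Agent.Lib.CT.IndChar
import Cfsg.Agent.Lib.CT.FrobRec
import Cfsg.Agent.Lib.Helper3.Irr
import Cfsg.Agent.S0187
-- import your own Cfsg.Agent.* helpers here

set_option autoImplicit false
open Cfsg

namespace Cfsg.Agent.S0169

open Cfsg.Agent.Lib.CT Cfsg.Agent.Lib.Helper80
open Cfsg.Agent.Lib.Helper81.Irr Cfsg.Agent.Lib.Helper81.Mult Cfsg.Agent.Lib.Helper81.Cliff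
  Cfsg.Agent.Lib.Helper81.CliffCorr

/-- If a linear character `φ` of a group `A` mapping to `H` with conjugation-stable image is
invariant under `H` and occurs in the restriction of an irreducible representation `ρ` of `H`,
then `A` acts through `ρ` by the scalars `φ`. -/
theorem scalar_of_invariant {H : Type*} [Group H] [Finite H] {V : Type*} [AddCommGroup V]
    [Module ℂ V] [FiniteDimensional ℂ V] (ρ : Representation ℂ H V) [ρ.IsIrreducible]
    {A : Type*} [Group A] [Fintype A] (ι : A →* H) (φ : A →* ℂˣ) (c : H → A ≃ A)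
    (hc : ∀ h a, ι (c h a) = h * ι a * h⁻¹) (hφ : ∀ h a, φ (c h a) = φ a)
    (hnz : ∑ a : A, (((φ a)⁻¹ : ℂˣ) : ℂ) * ρ.character (ι a) ≠ 0) (a : A) :
    ρ (ι a) = ((φ a : ℂˣ) : ℂ) • (1 : Module.End ℂ V) := by
  classical
  set P : Module.End ℂ V := ∑ b : A, (((φ b)⁻¹ : ℂˣ) : ℂ) • ρ (ι b) with hP
  have hcomm : ∀ h : H, P * ρ h = ρ h * P := by
    intro h
    rw [hP, Finset.sum_mul, Finset.mul_sum]
    rw [← Equiv.sum_comp (c h)]
    apply Finset.sum_congr rfl
    intro b _
    rw [hφ h b, smul_mul_assoc, mul_smul_comm, ← map_mul, ← map_mul, hc h b]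
    congr 2
    group
  obtain ⟨z, hz⟩ := Schur.schur_scalar ρ P (fun g => hcomm g)
  have htr : LinearMap.trace ℂ V P = ∑ b : A, (((φ b)⁻¹ : ℂˣ) : ℂ) * ρ.character (ι b) := by
    rw [hP, map_sum]
    apply Finset.sum_congr rfl
    intro b _
    rw [map_smul, smul_eq_mul]
    rfl
  have hz0 : z ≠ 0 := by
    rintro rfl
    rw [zero_smul] at hz
    rw [hz, map_zero] at htr
    exact hnz htr.symm
  have hmul : ρ (ι a) * P = ((φ a : ℂˣ) : ℂ) • P := by
    rw [hP, Finset.mul_sum, Finset.smul_sum]
    rw [← Equiv.sum_comp (Equiv.mulLeft a)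
      (fun b => ((φ a : ℂˣ) : ℂ) • (((φ b)⁻¹ : ℂˣ) : ℂ) • ρ (ι b))]
    apply Finset.sum_congr rfl
    intro b _
    simp only [Equiv.coe_mulLeft, map_mul, mul_inv_rev, Units.val_mul, mul_smul_comm, smul_smul]
    have h5 : ((φ a : ℂˣ) : ℂ) * ((((φ b)⁻¹ : ℂˣ) : ℂ) * (((φ a)⁻¹ : ℂˣ) : ℂ)) =
        (((φ b)⁻¹ : ℂˣ) : ℂ) := by
      rw [mul_comm (((φ b)⁻¹ : ℂˣ) : ℂ), ← mul_assoc, Units.mul_inv, one_mul]
    rw [h5]
  rw [hz, mul_smul_comm, mul_one, smul_smul] at hmul
  have h3 : z • ρ (ι a) = z • (((φ a : ℂˣ) : ℂ) • (1 : Module.End ℂ V)) := by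
    rw [hmul, smul_smul, mul_comm]
  exact smul_right_injective _ hz0 h3

universe u

/-- Itô's theorem, inductive form. -/
theorem ito_aux (k : ℕ) : ∀ (G : Type u) [Group G] [Finite G], Nat.card G = k →
    ∀ (n : ℕ) (ρ : Representation ℂ G (Fin n → ℂ)), ρ.IsIrreducible →
    ∀ (A : Subgroup G), A.Normal → (∀ a ∈ A, ∀ b ∈ A, a * b = b * a) → n ∣ A.index := by
  induction k using Nat.strong_induction_on with
  | _ k ih =>
  intro G _ _ hk n ρ hρ A hAn hAab
  classical
  haveI := hρ
  haveI := hAn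
  haveI := Fintype.ofFinite G
  haveI : Fintype A := Fintype.ofFinite A
  haveI : Finite (IrrCharacter G) := Wedderburn.finite_irrCharacter G
  haveI := Fintype.ofFinite (IrrCharacter G)
  haveI : Finite (IrrCharacter A) := Wedderburn.finite_irrCharacter A
  haveI := Fintype.ofFinite (IrrCharacter A)
  let χ : IrrCharacter G := ⟨ρ.character, n, ρ, hρ, rfl⟩
  have hχ1 : χ.1 1 = (n : ℂ) := by
    show ρ.character 1 = n
    simp [Representation.char_one]
  have hdegχ : charDegree χ.1 = n := Wedderburn.charDegree_eq_of_apply_one hχ1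
  have hn0 : n ≠ 0 := by
    have := deg_pos χ
    omega
  have hresχ : IsCharacter A (res A χ.1) := isCharacter_res A (irr_isCharacter χ)
  have hdegres : charDegree (res A χ.1) = n := by
    apply Wedderburn.charDegree_eq_of_apply_one
    rw [res_apply]
    exact hχ1
  obtain ⟨φ, hφ⟩ := exists_constituent hresχ (by rw [hdegres]; exact hn0)
  have hφ1 : φ.1 1 = 1 := by
    have hab : ∀ a b : A, a * b = b * a := fun a b => Subtype.ext (hAab a a.2 b b.2)
    exact (Cfsg.Agent.S0187.result.mp hab) φ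
  obtain ⟨f, hf⟩ := LinChar.exists_hom_of_isCharacter φ.1 (irr_isCharacter φ) hφ1
  -- sums against f are multiplicities
  have hsum : ∀ Ψ : A → ℂ, ∑ a : A, (((f a)⁻¹ : ℂˣ) : ℂ) * Ψ a =
      (Nat.card A : ℂ) * multC Ψ φ := by
    intro Ψ
    rw [multC_def, ← mul_assoc, mul_inv_cancel₀ Cfsg.Agent.Lib.Helper81.Mult.card_ne_zero, one_mul]
    apply Finset.sum_congr rfl
    intro a _
    rw [hf a⁻¹, map_inv, mul_comm]
  letI act : MulAction G (IrrCharacter A) := conjAct A
  set I : Subgroup G := MulAction.stabilizer G φ with hIdef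
  have hI : ∀ g : G, g ∈ I ↔ conjI A g φ = φ := fun g => MulAction.mem_stabilizer_iff
  have hAI : A ≤ I := fun a ha => (hI a).mpr (conjI_of_mem A a ha φ)
  have hinv : ∀ g ∈ I, ∀ a : A, f (MulAut.conjNormal g a) = f a := by
    intro g hg a
    have hg' : g⁻¹ ∈ I := I.inv_mem hg
    have h1 := (hI g⁻¹).mp hg'
    have h2 : (conjI A g⁻¹ φ).1 a = φ.1 a := by rw [h1]
    rw [conjI_apply, inv_inv, hf, hf] at h2
    exact Units.ext h2
  by_cases hItop : I = ⊤
  · have hsc := scalar_of_invariant ρ A.subtype f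
      (fun g => (MulAut.conjNormal g : A ≃* A).toEquiv)
      (by intro g a; simp [MulAut.conjNormal_apply])
      (by intro g a; exact hinv g (by rw [hItop]; trivial) a)
      (by
        have h1 := hsum (res A χ.1)
        have h2 : (∑ a : A, (((f a)⁻¹ : ℂˣ) : ℂ) * ρ.character (A.subtype a)) =
            ∑ a : A, (((f a)⁻¹ : ℂˣ) : ℂ) * res A χ.1 a := rfl
        rw [h2, h1, ← mult_cast hresχ]
        exact mul_ne_zero Cfsg.Agent.Lib.Helper81.Mult.card_ne_zero (Nat.cast_ne_zero.mpr hφ))
    have := CenterDvd.finrank_dvd_index_of_scalar ρ A (fun z hz => ⟨_, hsc ⟨z, hz⟩⟩)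
    simpa using this
  · haveI : Fintype I := Fintype.ofFinite I
    haveI : Finite (IrrCharacter I) := Wedderburn.finite_irrCharacter I
    haveI := Fintype.ofFinite (IrrCharacter I)
    have hresI : IsCharacter I (res I χ.1) := isCharacter_res I (irr_isCharacter χ)
    have htrans := mult_res_trans hAI hresI φ
    rw [← res_eq_resTo hAI χ.1] at htrans
    obtain ⟨ψ, hψ1, hψ2⟩ : ∃ ψ : IrrCharacter I,
        mult (res I χ.1) ψ ≠ 0 ∧ mult (resTo hAI ψ.1) φ ≠ 0 := by
      by_contra hcon
      push Not at hcon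
      apply hφ
      rw [htrans]
      apply Finset.sum_eq_zero
      intro η _
      by_cases h : mult (res I χ.1) η = 0
      · rw [h, zero_mul]
      · rw [hcon η h, mul_zero]
    obtain ⟨m, σ, hσ, hσψ⟩ := ψ.2
    haveI := hσ
    have hresToψ : IsCharacter A (resTo hAI ψ.1) := isCharacter_resTo hAI (irr_isCharacter ψ)
    have hscI := scalar_of_invariant σ (Subgroup.inclusion hAI) f
      (fun i => (MulAut.conjNormal (i : G) : A ≃* A).toEquiv)
      (by
        intro i a
        apply Subtype.ext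
        simp [MulAut.conjNormal_apply])
      (by intro i a; exact hinv (i : G) i.2 a)
      (by
        have h1 := hsum (resTo hAI ψ.1)
        have h2 : (∑ a : A, (((f a)⁻¹ : ℂˣ) : ℂ) * σ.character (Subgroup.inclusion hAI a)) =
            ∑ a : A, (((f a)⁻¹ : ℂˣ) : ℂ) * resTo hAI ψ.1 a := by
          apply Finset.sum_congr rfl
          intro a _
          rw [resTo_apply, ← hσψ]
        rw [h2, h1, ← mult_cast hresToψ]
        exact mul_ne_zero Cfsg.Agent.Lib.Helper81.Mult.card_ne_zero (Nat.cast_ne_zero.mpr hψ2))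
    have hresψ : resTo hAI ψ.1 = (m : ℂ) • φ.1 := by
      funext a
      rw [resTo_apply, ← hσψ]
      show LinearMap.trace ℂ _ (σ (Subgroup.inclusion hAI a)) = (m : ℂ) • φ.1 a
      rw [hscI a, map_smul, hf a]
      simp [mul_comm]
    have hmult_ψφ : mult (resTo hAI ψ.1) φ = m := by
      have h1 : (mult (resTo hAI ψ.1) φ : ℂ) = m := by
        rw [mult_cast hresToψ, hresψ, multC_smul, multC_irr, if_pos rfl, mul_one]
      exact_mod_cast h1
    have hme : m ≤ mult (res A χ.1) φ := by
      rw [htrans]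
      calc m = 1 * m := (one_mul m).symm
        _ ≤ mult (res I χ.1) ψ * mult (resTo hAI ψ.1) φ := by
            rw [hmult_ψφ]
            exact Nat.mul_le_mul_right m (Nat.one_le_iff_ne_zero.mpr hψ1)
        _ ≤ ∑ η : IrrCharacter I, mult (res I χ.1) η * mult (resTo hAI η.1) φ :=
            Finset.single_le_sum
              (f := fun η : IrrCharacter I => mult (res I χ.1) η * mult (resTo hAI η.1) φ)
              (fun _ _ => Nat.zero_le _) (Finset.mem_univ ψ)
    have hdeg := degree_over A χ φ hφ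
    have hdegφ : charDegree φ.1 = 1 :=
      Wedderburn.charDegree_eq_of_apply_one (by rw [hφ1]; simp)
    rw [orb_card A φ I hI, hdegχ, hdegφ, mul_one] at hdeg
    have hindchar : IsCharacter G (indFun I ψ.1) :=
      IndChar.isCharacter_indFun I ψ.1 (irr_isCharacter ψ)
    have hfrob : mult (indFun I ψ.1) χ = mult (res I χ.1) ψ := by
      have := multC_indFun' I ψ χ
      rw [← mult_cast hindchar, ← mult_cast hresI] at this
      exact_mod_cast this
    have hψdeg : ψ.1 1 = (m : ℂ) := by
      rw [← hσψ]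
      simp [Representation.char_one]
    have hdegind : charDegree (indFun I ψ.1) = I.index * m := by
      apply Wedderburn.charDegree_eq_of_apply_one
      rw [FrobRec.indFun_one, hψdeg]
      push_cast
      ring
    have hle : n ≤ I.index * m := by
      rw [← hdegind, charDegree_expand hindchar, ← hdegχ]
      calc charDegree χ.1 = 1 * charDegree χ.1 := (one_mul _).symm
        _ ≤ mult (indFun I ψ.1) χ * charDegree χ.1 :=
            Nat.mul_le_mul_right _ (by rw [hfrob]; exact Nat.one_le_iff_ne_zero.mpr hψ1)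
        _ ≤ ∑ χ' : IrrCharacter G, mult (indFun I ψ.1) χ' * charDegree χ'.1 :=
            Finset.single_le_sum
              (f := fun χ' : IrrCharacter G => mult (indFun I ψ.1) χ' * charDegree χ'.1)
              (fun _ _ => Nat.zero_le _) (Finset.mem_univ χ)
    have hnm : n = I.index * m := by
      apply le_antisymm hle
      rw [hdeg, mul_comm]
      exact Nat.mul_le_mul_right _ hme
    have hlt : Nat.card I < k := by
      rw [← hk]
      exact lt_of_le_of_ne (Subgroup.card_le_card_group I)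
        (fun h => hItop (Subgroup.eq_top_of_card_eq I h))
    have hA'n : (A.subgroupOf I).Normal := inferInstance
    have hIH := ih (Nat.card I) hlt I rfl m σ hσ (A.subgroupOf I) hA'n (by
      intro a ha b hb
      apply Subtype.ext
      exact hAab a (Subgroup.mem_subgroupOf.mp ha) b (Subgroup.mem_subgroupOf.mp hb))
    have hrel : A.relIndex I * I.index = A.index := Subgroup.relIndex_mul_index hAI
    rw [hnm, ← hrel, mul_comm]
    exact Nat.mul_dvd_mul_right hIH _

/-- Itô's theorem for representations on coordinate spaces. -/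
theorem ito {G : Type u} [Group G] [Finite G] {n : ℕ} (ρ : Representation ℂ G (Fin n → ℂ))
    (hρ : ρ.IsIrreducible) (A : Subgroup G) [hA : A.Normal]
    (hAab : ∀ a ∈ A, ∀ b ∈ A, a * b = b * a) : n ∣ A.index :=
  ito_aux (Nat.card G) G rfl n ρ hρ A hA hAab


/-- Itô's Theorem on character degrees: the degree of an irreducible complex representation of a finite group divides the index of any abelian normal subgroup. -/
theorem result {G : Type*} [Group G] [Finite G] {V : Type*} [AddCommGroup V] [Module ℂ V] [FiniteDimensional ℂ V] (ρ : Representation ℂ G V) [ρ.IsIrreducible] (H : Subgroup G) [H.Normal] (hH : ∀ a ∈ H, ∀ b ∈ H, a * b = b * a) : Module.finrank ℂ V ∣ H.index := by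
  obtain ⟨σ, ⟨e⟩⟩ := Cfsg.Agent.Lib.Helper3.Irr.exists_fin_equiv ρ
  have hσ : σ.IsIrreducible := Cfsg.Agent.Lib.Helper3.Irr.isIrreducible_of_equiv e
  exact ito σ hσ H hH

end Cfsg.Agent.S0169
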