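import Cfsg.Statements.S4487
import Mathlib
import Cfsg.Agent.Lib.Helper47.Basic
import Cfsg.Agent.Lib.Helper77.BlockIdem
import Cfsg.Agent.Lib.Helper77.DefectClass
import Cfsg.Agent.Lib.Helper77.OsimaVanish
import Cfsg.Agent.S4653

set_option autoImplicit false
open Cfsg

namespace Cfsg.Agent.S4487

open Cfsg.Agent.Lib.Helper77.LocalRing Cfsg.Agent.Lib.Helper77.CentralChar
  Cfsg.Agent.Lib.Helper77.ClassSum Cfsg.Agent.Lib.Helper77.BlockIdem
  Cfsg.Agent.Lib.Helper77.DefectClass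

/-- If O_{p'}(G) = 1 and C_G(O_p(G)) ≤ O_p(G) (G is p-constrained with trivial p'-core), then all irreducible characters of G lie in one p-block. -/
theorem result {G : Type*} [Group G] [Finite G] (p : ℕ) [Fact p.Prime] (M : Ideal Cfsg.AlgInt) (hM : Cfsg.IsPModular p M) (hcore : Cfsg.pPrimeCore p G = ⊥) (hconstr : Subgroup.centralizer ((Cfsg.pCore p G) : Set G) ≤ Cfsg.pCore p G) (χ ψ : Cfsg.IrrCharacter G) : Cfsg.SameBlock M (χ : G → ℂ) (ψ : G → ℂ) := by
  classical
  let _ := Fintype.ofFinite G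
  have hMp : M.IsPrime := isPrime_of_isPModular hM
  obtain ⟨B, hB⟩ : ∃ B, B = blockOf M (χ : G → ℂ) := ⟨_, rfl⟩
  have hBblock : IsPBlock M B := ⟨χ, hB⟩
  have hnorm := Cfsg.Agent.Lib.Helper47.Basic.pCore_normal p G
  have hP := Cfsg.Agent.Lib.Helper47.Basic.pCore_isPGroup p G
  have hzero : ∀ g : G, g ≠ 1 → blockCoeff B g = 0 := by
    intro g hg
    by_cases hgC : g ∈ Subgroup.centralizer ((pCore p G) : Set G)
    · have hgP := hconstr hgC
      apply Cfsg.Agent.Lib.Helper77.OsimaVanish.blockCoeff_eq_zero_of_singular p M hM B hBblock g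
      obtain ⟨k, hk⟩ := hP ⟨g, hgP⟩
      have h1 : orderOf g ∣ p ^ k := orderOf_dvd_of_pow_eq_one (congrArg Subtype.val hk)
      obtain ⟨j, hj, hoj⟩ := (Nat.dvd_prime_pow (Fact.out : p.Prime)).1 h1
      rcases j with _ | j
      · exact absurd (orderOf_eq_one_iff.1 (by simpa using hoj)) hg
      · rw [hoj, pow_succ]; exact dvd_mul_left _ _
    · exact Cfsg.Agent.S4653.result p M hM (pCore p G) hP B hBblock g hgC
  have hidem : blockIdem B = blockCoeff B 1 • (1 : MonoidAlgebra ℂ G) := by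
    ext g
    rw [coeff_blockIdem]
    by_cases hg : g = 1
    · subst hg
      simp [MonoidAlgebra.one_def]
    · rw [hzero g hg]
      simp [MonoidAlgebra.one_def, hg]
  have hom : ∀ φ : IrrCharacter G, (if φ ∈ B then (1 : ℂ) else 0) = blockCoeff B 1 := by
    intro φ
    rw [← omega_blockIdem B φ, hidem, omega_smul, omega_one_irr φ.2, mul_one]
  have hχB : χ ∈ B := by rw [hB]; exact self_mem_blockOf hMp χ
  have h1 := hom χ
  rw [if_pos hχB] at h1
  have h2 := hom ψ
  rw [← h1] at h2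
  by_contra hψ
  have hψB : ψ ∉ B := by rw [hB]; exact hψ
  rw [if_neg hψB] at h2
  exact zero_ne_one h2

end Cfsg.Agent.S4487
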