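import Cfsg.Statements.S4807
import Cfsg.Agent.Lib.Helper81.McKT

set_option autoImplicit false
open Cfsg

namespace Cfsg.Agent.S4807

/-- Let p be a prime and G a finite p-solvable group, L a normal subgroup of G, S a Sylow p-subgroup of G and P the subgroup generated by L and S (so P/L is a Sylow p-subgroup of G/L), and let ν be an irreducible complex character of L that is invariant under conjugation by every element of P. Let N be the normalizer of P in G (it contains L). Then the number of irreducible characters of G of degree prime to p lying over ν (restriction to L not orthogonal to ν) equals the number of irreducible characters of N of degree prime to p lying over ν. -/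
theorem result {G : Type*} [Group G] [Finite G] (p : ℕ) [Fact p.Prime] (hG : Cfsg.IsPSolvable p G) (L : Subgroup G) [L.Normal] (S : Sylow p G) (P : Subgroup G) (hP : P = L ⊔ (S : Subgroup G)) (hLN : L ≤ (Subgroup.normalizer ((P : Subgroup G) : Set G))) (ν : Cfsg.IrrCharacter ↥L) (hν : ∀ x ∈ P, Cfsg.IsConjCharOf L x (ν : ↥L → ℂ) (ν : ↥L → ℂ)) : Nat.card {χ : Cfsg.IrrCharacter G // ¬ p ∣ Cfsg.charDegree (χ : G → ℂ) ∧ (∑ᶠ l : ↥L, (χ : G → ℂ) (l : G) * (starRingEnd ℂ) ((ν : ↥L → ℂ) l)) ≠ 0} = Nat.card {ψ : Cfsg.IrrCharacter ↥(Subgroup.normalizer ((P : Subgroup G) : Set G)) // ¬ p ∣ Cfsg.charDegree (ψ : ↥(Subgroup.normalizer ((P : Subgroup G) : Set G)) → ℂ) ∧ (∑ᶠ l : ↥L, (ψ : ↥(Subgroup.normalizer ((P : Subgroup G) : Set G)) → ℂ) (Subgroup.inclusion hLN l) * (starRingEnd ℂ) ((ν : ↥L → ℂ) l)) ≠ 0} := by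
  subst hP
  have hLnorm : L.Normal := inferInstance
  have hnL : ∀ g ∈ (⊤ : Subgroup G), ∀ l ∈ L, g * l * g⁻¹ ∈ L :=
    fun g _ l hl => hLnorm.conj_mem l hl g
  have hSyl : ¬ p ∣ (S : Subgroup G).relIndex ⊤ := by
    rw [Subgroup.relIndex_top_right]
    exact S.not_dvd_index
  have hLN' : L ≤ Cfsg.Agent.Lib.Helper81.McKT.normIn ⊤ (L ⊔ (S : Subgroup G)) :=
    le_inf le_top hLN
  have key := Cfsg.Agent.Lib.Helper81.McKT.main_ind p hG _ ⊤ L (S : Subgroup G) le_top hLN' rfl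
    le_top hnL S.isPGroup' hSyl ν hν
  have e2 : Cfsg.Agent.Lib.Helper81.McKK.cntP p hLN' ν =
      Cfsg.Agent.Lib.Helper81.McKK.cntP p hLN ν :=
    Cfsg.Agent.Lib.Helper81.McKS.cntP_congr p
      (show Cfsg.Agent.Lib.Helper81.McKT.normIn ⊤ (L ⊔ (S : Subgroup G)) = _ from top_inf_eq _)
      _ _ ν
  have e1 : Nat.card {χ : Cfsg.IrrCharacter G // ¬ p ∣ Cfsg.charDegree (χ : G → ℂ) ∧
      (∑ᶠ l : ↥L, (χ : G → ℂ) (l : G) * (starRingEnd ℂ) ((ν : ↥L → ℂ) l)) ≠ 0} =
      Cfsg.Agent.Lib.Helper81.McKK.cntP p (le_top : L ≤ ⊤) ν := by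
    unfold Cfsg.Agent.Lib.Helper81.McKK.cntP
    apply Nat.card_congr
    refine Equiv.subtypeEquiv ⟨Cfsg.Agent.Lib.Helper81.Glaub.irrComp Subgroup.topEquiv,
      Cfsg.Agent.Lib.Helper81.Glaub.irrComp Subgroup.topEquiv.symm,
      Cfsg.Agent.Lib.Helper81.Glaub.irrComp_symm _,
      Cfsg.Agent.Lib.Helper81.Glaub.irrComp_symm' _⟩ ?_
    intro χ
    exact Iff.rfl
  exact e1.trans (key.trans e2)

end Cfsg.Agent.S4807
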