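import Cfsg.Statements.S5191
import Mathlib

set_option autoImplicit false
open Cfsg

namespace Cfsg.Agent.S5191

open scoped Pointwise

theorem result {G : Type*} [Group G] [Finite G] {p : ℕ} [Fact p.Prime]
    [hN : (Cfsg.pPrimeCore p G).Normal] (S : Sylow p G) (P : Subgroup G) (hP : P ≤ (S : Subgroup G))
    (γ : G ⧸ Cfsg.pPrimeCore p G)
    (hγ : ∀ x ∈ P, γ * QuotientGroup.mk x * γ⁻¹ ∈ ((S : Subgroup G).map (QuotientGroup.mk' (Cfsg.pPrimeCore p G)))) :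
    ∃ g : G, ∀ x ∈ P, g * x * g⁻¹ ∈ S ∧
      (QuotientGroup.mk (g * x * g⁻¹) : G ⧸ Cfsg.pPrimeCore p G) = γ * QuotientGroup.mk x * γ⁻¹ := by
  classical
  obtain ⟨g₀, rfl⟩ := QuotientGroup.mk_surjective γ
  set N := Cfsg.pPrimeCore p G with hNdef
  let H : Subgroup G := (S : Subgroup G) ⊔ N
  have hSH : (S : Subgroup G) ≤ H := le_sup_left
  have hNH : N ≤ H := le_sup_right
  have hP'H : ∀ x ∈ P, g₀ * x * g₀⁻¹ ∈ H := by
    intro x hx
    have h0 := hγ x hx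
    obtain ⟨s, hs, hsx⟩ := h0
    have hsx' : (QuotientGroup.mk s : G ⧸ N) = QuotientGroup.mk (g₀ * x * g₀⁻¹) := by
      simpa using hsx
    have h1 : s⁻¹ * (g₀ * x * g₀⁻¹) ∈ N := QuotientGroup.eq.mp hsx'
    have h2 : g₀ * x * g₀⁻¹ = s * (s⁻¹ * (g₀ * x * g₀⁻¹)) := by group
    rw [h2]
    exact H.mul_mem (hSH hs) (hNH h1)
  -- the conjugate of P as a subgroup of H
  let Q : Subgroup H := (P.map (MulAut.conj g₀).toMonoidHom).subgroupOf H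
  have hQ : IsPGroup p Q := by
    have hPp : IsPGroup p P := S.isPGroup'.to_le hP
    have h3 : IsPGroup p (P.map (MulAut.conj g₀).toMonoidHom) := hPp.map _
    exact h3.comap_of_injective (H.subtype) (Subgroup.subtype_injective H)
  obtain ⟨R, hR⟩ := hQ.exists_le_sylow
  let S' : Sylow p H := S.subtype hSH
  obtain ⟨h, hh⟩ := MulAction.exists_smul_eq H S' R
  -- decompose h = n * s
  have hh_mem : (h : G) ∈ N ⊔ (S : Subgroup G) := by
    have := h.2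
    rwa [sup_comm]
  rw [Subgroup.mem_sup_of_normal_left] at hh_mem
  obtain ⟨n, hn, s, hs, hns⟩ := hh_mem
  refine ⟨n⁻¹ * g₀, ?_⟩
  intro x hx
  have hxQ : (⟨g₀ * x * g₀⁻¹, hP'H x hx⟩ : H) ∈ Q := by
    show g₀ * x * g₀⁻¹ ∈ P.map (MulAut.conj g₀).toMonoidHom
    exact ⟨x, hx, rfl⟩
  have hxR : (⟨g₀ * x * g₀⁻¹, hP'H x hx⟩ : H) ∈ R := hR hxQ
  rw [← hh] at hxR
  have hxS : h⁻¹ * (⟨g₀ * x * g₀⁻¹, hP'H x hx⟩ : H) * h ∈ (S' : Subgroup H) := by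
    have h7 : (⟨g₀ * x * g₀⁻¹, hP'H x hx⟩ : H) ∈ MulAut.conj h • (S' : Subgroup H) := by
      rw [← Sylow.coe_subgroup_smul]; exact hxR
    rw [Subgroup.mem_pointwise_smul_iff_inv_smul_mem] at h7
    simpa [MulAut.smul_def, mul_assoc] using h7
  have hxS' : (h : G)⁻¹ * (g₀ * x * g₀⁻¹) * (h : G) ∈ (S : Subgroup G) := hxS
  rw [← hns] at hxS'
  constructor
  · have h4 : n⁻¹ * g₀ * x * (n⁻¹ * g₀)⁻¹ = s * ((n * s)⁻¹ * (g₀ * x * g₀⁻¹) * (n * s)) * s⁻¹ := by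
      group
    rw [h4]
    exact (S : Subgroup G).mul_mem ((S : Subgroup G).mul_mem hs hxS') ((S : Subgroup G).inv_mem hs)
  · have h5 : (QuotientGroup.mk n : G ⧸ N) = 1 := (QuotientGroup.eq_one_iff n).mpr hn
    have h6 : (QuotientGroup.mk (n⁻¹ * g₀ * x * (n⁻¹ * g₀)⁻¹) : G ⧸ N) =
        (QuotientGroup.mk n : G ⧸ N)⁻¹ * QuotientGroup.mk g₀ * QuotientGroup.mk x *
          ((QuotientGroup.mk n : G ⧸ N)⁻¹ * QuotientGroup.mk g₀)⁻¹ := by
      simp only [QuotientGroup.mk_mul, QuotientGroup.mk_inv]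
    rw [h6, h5, inv_one, one_mul]

end Cfsg.Agent.S5191
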