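import Cfsg.Statements.S5099
import Cfsg.Agent.H84.FusPair5

set_option autoImplicit false
open Cfsg

namespace Cfsg.Agent.S5099

/-- If F is a saturated fusion system over a finite p-group S and Q is fully centralized in F, then the centralizer system C_F(Q) is a saturated fusion system over C_S(Q). -/
theorem result {Ω : Type*} [Group Ω] {S : Subgroup Ω} [Finite S] (p : ℕ) [Fact p.Prime] (hS : IsPGroup p S) (F : Cfsg.FusionSystem S) (hF : F.IsSaturated p) (Q : Subgroup Ω) (hQ : F.IsFullyCentralized Q) (E : Cfsg.FusionSystem (Cfsg.FusionSystem.centralizerIn S Q)) (hE : F.IsCentralizerSystem Q E) : E.IsSaturated p := by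
  refine Cfsg.Agent.H84.pairSystem_saturated True hS F hF hQ.1
    (Cfsg.FusionSystem.centralizerIn S Q) ?_ E ?_ ?_
  · intro g
    constructor
    · rintro ⟨h1, h2⟩
      exact ⟨h1, Subgroup.centralizer_le_normalizer _ h2, fun _ => h2⟩
    · rintro ⟨h1, -, h3⟩
      exact ⟨h1, h3 trivial⟩
  · intro P φ
    rw [hE P]
    constructor
    · rintro ⟨h1, h2, h3, ψ, hψ, h4, h5⟩
      refine ⟨h1, h2, h3, ψ, hψ, h4, ?_, fun _ x hx => h5 ⟨x, hx⟩⟩
      ext y
      rw [Cfsg.Agent.H84.mem_img]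
      constructor
      · rintro ⟨x, hx, rfl⟩
        have h6 : ψ x = (x : Ω) := h5 ⟨x, hx⟩
        rw [h6]
        exact hx
      · intro hy
        exact ⟨⟨y, Subgroup.mem_sup_right hy⟩, hy, h5 ⟨y, hy⟩⟩
    · rintro ⟨h1, h2, h3, ψ, hψ, h4, -, h6⟩
      exact ⟨h1, h2, h3, ψ, hψ, h4, fun x => h6 trivial _ x.2⟩
  · intro P hP φ hφ
    exact Cfsg.Agent.H84.centralizer_base hS F hF hQ hP φ hφ

end Cfsg.Agent.S5099
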