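import Cfsg.Statements.S5293
import Cfsg.Agent.Lib.Helper88.FCStmt
import Cfsg.Agent.Lib.Helper88.FCGA
import Cfsg.Agent.Lib.Helper88.FCFOC
import Cfsg.Agent.Lib.Helper15.FCCGEN
import Cfsg.Agent.Lib.Helper34.FCCCRIT
import Cfsg.Agent.Lib.Helper82.FCCOMM
import Cfsg.Agent.Lib.Helper99.FCCOP
import Cfsg.Agent.Lib.Helper99.FCGEN
import Cfsg.Agent.Lib.Helper29.FCPPR
-- import your own Cfsg.Agent.* helpers here

set_option autoImplicit false
open Cfsg

namespace Cfsg.Agent.S5293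

/-- Let F be a saturated fusion system over a finite p-group S, E a normal subsystem of F over T ≤ S, and C the join of the subgroups X ≤ C_S(T) such that E is contained in the centralizer system C_F(X). Then for the centralizer fusion system C_F(T) over C_S(T), the focal subgroup of C_F(T) is contained in C. -/
theorem result {Ω : Type*} [Group Ω] {S : Subgroup Ω} [Finite S] (p : ℕ) [Fact p.Prime] (hS : IsPGroup p S)
    (F : Cfsg.FusionSystem S) (hF : F.IsSaturated p)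
    {T : Subgroup Ω} (E : Cfsg.FusionSystem T) (hE : E.IsNormalIn F p)
    (C : Subgroup Ω)
    (hC : C = sSup {X : Subgroup Ω | X ≤ Cfsg.FusionSystem.centralizerIn S T ∧ ∀ P : Subgroup Ω, E.Hom P ⊆ F.centralizerHom X P})
    (D : Cfsg.FusionSystem (Cfsg.FusionSystem.centralizerIn S T)) (hD : F.IsCentralizerSystem T D) :
    D.focalSubgroup ≤ C := by
  have hGA : Cfsg.Agent.Lib.Helper88.FCStmt.GoodAll.{u_1} := Cfsg.Agent.Lib.Helper88.FCGA.main
  have hCGEN : Cfsg.Agent.Lib.Helper88.FCStmt.CentGen.{u_1} := Cfsg.Agent.Lib.Helper15.FCCGEN.main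
  have hCC : Cfsg.Agent.Lib.Helper88.FCStmt.CentCrit.{u_1} :=
    Cfsg.Agent.Lib.Helper34.FCCCRIT.main hCGEN
  have hCOMM : Cfsg.Agent.Lib.Helper88.FCStmt.CommCentral.{u_1} :=
    Cfsg.Agent.Lib.Helper82.FCCOMM.main hGA hCC
  have hCOP : Cfsg.Agent.Lib.Helper88.FCStmt.CoprimeConj.{u_1} := Cfsg.Agent.Lib.Helper99.FCCOP.main
  have hGEN : Cfsg.Agent.Lib.Helper88.FCStmt.SylowGen.{u_1} := Cfsg.Agent.Lib.Helper99.FCGEN.main
  have hPPR : Cfsg.Agent.Lib.Helper88.FCStmt.PPrimeCentral.{u_1} :=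
    Cfsg.Agent.Lib.Helper29.FCPPR.main hGA hCC hCOP
  have hFOC : Cfsg.Agent.Lib.Helper88.FCStmt.FocalLe.{u_1} :=
    Cfsg.Agent.Lib.Helper88.FCFOC.main hCOMM hPPR hGEN
  exact hFOC p hS F hF E hE C hC D hD

end Cfsg.Agent.S5293
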