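-- Statement S1140 (helper19).
import Cfsg.Statements.S1140

set_option autoImplicit false
open Cfsg

namespace Cfsg.Agent.S1140

/-- For a finite field `F` of characteristic 2, the automorphisms of `F`, viewed as additive maps `F → F`, are linearly independent over `F` (acting on values) every additive endomorphism of `F` is an `F`-linear combination of them, and every biadditive map `F → F → F` is an `F`-combination of the maps `(x, y) ↦ σ(x) τ(y)`. -/
theorem result {F : Type*} [Field F] [Fintype F] [CharP F 2] :
    LinearIndependent F (fun σ : F ≃+* F => ((σ : F →+* F) : F → F)) ∧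
      (∀ f : F →+ F, ∃ (s : Finset (F ≃+* F)) (c : (F ≃+* F) → F), ∀ x : F, f x = ∑ σ ∈ s, c σ * σ x) ∧
      ∀ B : F →+ F →+ F, ∃ (s : Finset ((F ≃+* F) × (F ≃+* F))) (c : (F ≃+* F) × (F ≃+* F) → F),
        ∀ x y : F, B x y = ∑ p ∈ s, c p * (p.1 x * p.2 y) := by
  classical
  let _ : Algebra (ZMod 2) F := ZMod.algebra F 2
  have hfin : Finite (F ≃+* F) :=
    Finite.of_injective (fun σ : F ≃+* F => (σ : F → F)) DFunLike.coe_injective
  let _ : Fintype (F ≃+* F) := Fintype.ofFinite _
  have h1 : LinearIndependent F (fun σ : F ≃+* F => ((σ : F →+* F) : F → F)) := by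
    have h := linearIndependent_monoidHom F F
    have hinj : Function.Injective (fun σ : F ≃+* F => ((σ : F →+* F) : F →* F)) := by
      intro σ τ h
      ext x
      exact DFunLike.congr_fun h x
    exact h.comp _ hinj
  let b : (F ≃+* F) → (F →ₗ[ZMod 2] F) := fun σ => (σ : F →+* F).toAddMonoidHom.toZModLinearMap 2
  have hb : LinearIndependent F b := by
    let coe : (F →ₗ[ZMod 2] F) →ₗ[F] (F → F) :=
      { toFun := fun f => f, map_add' := fun _ _ => rfl, map_smul' := fun _ _ => rfl }
    exact LinearIndependent.of_comp coe h1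
  have hcard : Fintype.card (F ≃+* F) = Module.finrank F (F →ₗ[ZMod 2] F) := by
    rw [Module.finrank_linearMap_self]
    have h := IsGalois.card_aut_eq_finrank (ZMod 2) F
    rw [← h, ← Nat.card_eq_fintype_card]
    apply Nat.card_congr
    refine
      { toFun := fun σ => AlgEquiv.ofRingEquiv (f := σ) (fun x => ?_)
        invFun := fun σ => σ.toRingEquiv
        left_inv := fun σ => by ext x; rfl
        right_inv := fun σ => by ext x; rfl }
    have hh : (σ : F →+* F).comp (algebraMap (ZMod 2) F) = algebraMap (ZMod 2) F := Subsingleton.elim _ _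
    exact RingHom.congr_fun hh x
  let bb : Module.Basis (F ≃+* F) F (F →ₗ[ZMod 2] F) := basisOfLinearIndependentOfCardEqFinrank' b hb hcard
  have hbb : ∀ σ, bb σ = b σ := fun σ => by
    simp [bb]
  -- expansion of an additive map
  have key : ∀ f : F →+ F, ∀ x : F, f x = ∑ σ : F ≃+* F, bb.repr (f.toZModLinearMap 2) σ * σ x := by
    intro f x
    have h := bb.sum_repr (f.toZModLinearMap 2)
    have h' := congrArg (fun g : F →ₗ[ZMod 2] F => g x) h
    simp only [LinearMap.coe_sum, Finset.sum_apply, LinearMap.smul_apply, hbb] at h'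
    rw [AddMonoidHom.coe_toZModLinearMap] at h'
    rw [← h']
    rfl
  refine ⟨h1, fun f => ⟨Finset.univ, fun σ => bb.repr (f.toZModLinearMap 2) σ, key f⟩, ?_⟩
  intro B
  -- coefficient maps are additive
  let cf : (F ≃+* F) → (F →+ F) := fun τ =>
    { toFun := fun x => bb.repr ((B x).toZModLinearMap 2) τ
      map_zero' := by
        have : (B 0).toZModLinearMap 2 = 0 := by
          ext y; simp
        rw [this]; simp
      map_add' := fun x y => by
        have : (B (x + y)).toZModLinearMap 2 = (B x).toZModLinearMap 2 + (B y).toZModLinearMap 2 := by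
          ext z; simp
        rw [this]; simp }
  refine ⟨Finset.univ ×ˢ Finset.univ, fun p => bb.repr ((cf p.2).toZModLinearMap 2) p.1, ?_⟩
  intro x y
  rw [key (B x) y, Finset.sum_product_right]
  apply Finset.sum_congr rfl
  intro τ _
  have h2 : bb.repr ((B x).toZModLinearMap 2) τ = cf τ x := rfl
  rw [h2, key (cf τ) x, Finset.sum_mul]
  apply Finset.sum_congr rfl
  intro σ _
  ring

end Cfsg.Agent.S1140
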