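import Cfsg.Statements.S3282
import Cfsg.Agent.Lib.Helper25.BSWGlue2
import Cfsg.Agent.Lib.Helper77.BSWBasicOf
import Cfsg.Agent.Lib.Helper32.BSWCaseTwo
import Cfsg.Agent.Lib.Helper77.BSWPairK
import Cfsg.Agent.Lib.Helper77.BSWPairInv
import Cfsg.Agent.Lib.Helper77.BSWCardConj
import Cfsg.Agent.Lib.Helper21.BSWRealStruct1
import Cfsg.Agent.Lib.Helper21.BSWRealStruct2
import Cfsg.Agent.Lib.Helper59.BSWCountM
import Cfsg.Agent.Lib.Helper59.BSWCountP
import Cfsg.Agent.Lib.Helper25.BSWEndM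
import Cfsg.Agent.Lib.Helper48.BSWNRA
import Cfsg.Agent.Lib.Helper21.BSWPartitionLemma
import Cfsg.Agent.Lib.Helper21.BSWPClosed
import Cfsg.Agent.Lib.Helper21.BSWSylowTI
import Cfsg.Agent.Lib.Helper32.BSWNRB
import Cfsg.Agent.Lib.Helper77.BSWEndP
import Cfsg.Agent.Lib.Helper74.BSWIndK
import Cfsg.Agent.Lib.Helper74.BSWVDataOf
import Cfsg.Agent.Lib.Helper95.BSWDual
import Cfsg.Agent.Lib.Helper95.BSWIndep
import Cfsg.Agent.Lib.Helper95.BSWCombB2
import Cfsg.Agent.Lib.Helper17.BSWConfigIIFalse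
import Cfsg.Agent.Lib.Helper17.BSWConfigINum
import Cfsg.Agent.Lib.Helper25.BSWConfigIFormula

set_option autoImplicit false
open Cfsg

namespace Cfsg.Agent.S3282

/-- The abstract form of the Brauer–Suzuki–Wall Theorem. Let G be a finite group with an involution t and an abelian subgroup K of H = C_G(t) containing t, such that H = K⟨s⟩ for an involution s ∉ K with C_K(s) = ⟨t⟩ and s inverting every element of K, K ∩ K^g = 1 for every g outside H, and all involutions of G conjugate. Then G has a subgroup Q, of order q say, with |G| = q(q+1)(q−1)/2, C_G(x) = Q for every non-identity x ∈ Q, N_G(Q) = QD for an abelian subgroup D of order (q−1)/2 meeting Q trivially, and for every nontrivial subgroup X of D, N_G(X) = N_G(D) = D⟨u⟩ for some involution u ∉ D inverting D. -/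
theorem result {G : Type*} [Group G] [Finite G] (t : G) (ht : orderOf t = 2)
    (K : Subgroup G) (hKab : IsMulCommutative ↥K) (hKH : K ≤ Subgroup.centralizer ({t} : Set G)) (htK : t ∈ K)
    (s : G) (hs : orderOf s = 2) (hsH : s ∈ Subgroup.centralizer ({t} : Set G)) (hsK : s ∉ K)
    (hH : K ⊔ Subgroup.zpowers s = Subgroup.centralizer ({t} : Set G)) (hCK : K ⊓ Subgroup.centralizer ({s} : Set G) = Subgroup.zpowers t)
    (hinv : ∀ x ∈ K, s * x * s⁻¹ = x⁻¹)
    (hTI : ∀ g : G, g ∉ Subgroup.centralizer ({t} : Set G) → K ⊓ K.map (MulAut.conj g).toMonoidHom = ⊥)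
    (hconj : ∀ x y : G, orderOf x = 2 → orderOf y = 2 → IsConj x y) :
    ∃ Q D : Subgroup G, 2 * Nat.card G = Nat.card ↥Q * (Nat.card ↥Q + 1) * (Nat.card ↥Q - 1) ∧
      (∀ x ∈ Q, x ≠ 1 → Subgroup.centralizer ({x} : Set G) = Q) ∧
      IsMulCommutative ↥D ∧ 2 * Nat.card ↥D + 1 = Nat.card ↥Q ∧ Q ⊓ D = ⊥ ∧
      Subgroup.normalizer (Q : Set G) = Q ⊔ D ∧
      ∀ X : Subgroup G, X ≤ D → X ≠ ⊥ →
        Subgroup.normalizer (X : Set G) = Subgroup.normalizer (D : Set G) ∧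
        ∃ u : G, orderOf u = 2 ∧ u ∉ D ∧ (∀ d ∈ D, u * d * u⁻¹ = d⁻¹) ∧
          Subgroup.normalizer (D : Set G) = D ⊔ Subgroup.zpowers u := by
  have hB : Cfsg.Agent.Lib.Helper25.BSWSpec.BSW t K s :=
    { ht := ht
      hKab := fun x hx y hy => by
        have := hKab.is_comm.comm (⟨x, hx⟩ : ↥K) ⟨y, hy⟩
        exact congrArg Subtype.val this
      hKH := hKH, htK := htK, hs := hs, hsH := hsH, hsK := hsK, hH := hH, hCK := hCK
      hinv := hinv, hTI := hTI, hconj := hconj }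
  exact Cfsg.Agent.Lib.Helper25.BSWGlue2.main
    Cfsg.Agent.Lib.Helper77.BSWBasicOf.main
    Cfsg.Agent.Lib.Helper32.BSWCaseTwo.main
    Cfsg.Agent.Lib.Helper77.BSWPairK.main
    Cfsg.Agent.Lib.Helper77.BSWPairInv.main
    Cfsg.Agent.Lib.Helper77.BSWCardConj.main
    Cfsg.Agent.Lib.Helper21.BSWRealStruct1.main
    Cfsg.Agent.Lib.Helper21.BSWRealStruct2.main
    Cfsg.Agent.Lib.Helper59.BSWCountM.main
    Cfsg.Agent.Lib.Helper59.BSWCountP.main
    Cfsg.Agent.Lib.Helper25.BSWEndM.main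
    Cfsg.Agent.Lib.Helper48.BSWNRA.main
    Cfsg.Agent.Lib.Helper21.BSWPartitionLemma.main
    Cfsg.Agent.Lib.Helper21.BSWPClosed.main
    Cfsg.Agent.Lib.Helper21.BSWSylowTI.main
    Cfsg.Agent.Lib.Helper32.BSWNRB.main
    Cfsg.Agent.Lib.Helper77.BSWEndP.main
    Cfsg.Agent.Lib.Helper74.BSWIndK.main
    Cfsg.Agent.Lib.Helper74.BSWVDataOf.main
    Cfsg.Agent.Lib.Helper95.BSWDual.main
    Cfsg.Agent.Lib.Helper95.BSWIndep.main
    Cfsg.Agent.Lib.Helper95.BSWCombB2.main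
    Cfsg.Agent.Lib.Helper17.BSWConfigIIFalse.main
    Cfsg.Agent.Lib.Helper17.BSWConfigINum.main
    Cfsg.Agent.Lib.Helper25.BSWConfigIFormula.main
    G t K s hB

end Cfsg.Agent.S3282
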