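import Cfsg.Statements.S2507
import Mathlib
import Cfsg.Agent.Lib.Helper42.SL2Even

set_option autoImplicit false
open Cfsg

namespace Cfsg.Agent.S2507

open Cfsg.Agent.Lib.Helper42.SL2Even

theorem result {F : Type*} [Field F] [Fintype F]
    (h2 : 2 ∣ Fintype.card F) (h4 : 4 ≤ Fintype.card F) :
    Set.range (fun g : (Matrix.ProjectiveSpecialLinearGroup (Fin 2) F) => (Subgroup.centralizer ({g} : Set (Matrix.ProjectiveSpecialLinearGroup (Fin 2) F))).index) =
      {1, Fintype.card F * (Fintype.card F - 1), Fintype.card F ^ 2 - 1, Fintype.card F * (Fintype.card F + 1)} := by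
  classical
  have : CharP F 2 := charP_two_of_even h2
  have h2F : (2 : F) = 0 := two_eq_zero'
  let e := slEquivPSL (F := F)
  ext n
  simp only [Set.mem_range, Set.mem_insert_iff, Set.mem_singleton_iff]
  constructor
  · rintro ⟨g', rfl⟩
    obtain ⟨g, rfl⟩ := e.surjective g'
    rw [index_centralizer_equiv]
    by_cases hg : g = 1
    · left
      subst hg
      have : Subgroup.centralizer ({1} : Set (Matrix.SpecialLinearGroup (Fin 2) F)) = ⊤ := by
        ext x
        simp [Subgroup.mem_centralizer_singleton_iff]
      rw [this, Subgroup.index_top]
    · by_cases ht : g 0 0 + g 1 1 = 0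
      · right; right; left
        exact index_of_trace_zero g hg ht
      · by_cases hr : ∃ r : F, r ^ 2 + (g 0 0 + g 1 1) * r + 1 = 0
        · obtain ⟨r, hr⟩ := hr
          right; right; right
          exact index_of_split g hg ht r hr
        · push Not at hr
          right; left
          exact index_of_nonsplit g hg hr
  · rintro (rfl | rfl | rfl | rfl)
    · refine ⟨e 1, ?_⟩
      rw [index_centralizer_equiv]
      have : Subgroup.centralizer ({1} : Set (Matrix.SpecialLinearGroup (Fin 2) F)) = ⊤ := by
        ext x
        simp [Subgroup.mem_centralizer_singleton_iff]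
      rw [this, Subgroup.index_top]
    · -- nonsplit torus element
      obtain ⟨t, ht0, ht⟩ := exists_nonsplit (F := F)
      let g : Matrix.SpecialLinearGroup (Fin 2) F := ⟨!![0, 1; 1, t], by
        rw [Matrix.det_fin_two_of]
        linear_combination (-1 : F) * h2F⟩
      have hg00 : g 0 0 = 0 := rfl
      have hg11 : g 1 1 = t := rfl
      have hg : g ≠ 1 := by
        intro h
        have := congrArg (fun x : Matrix.SpecialLinearGroup (Fin 2) F => x 0 0) h
        simp only [hg00] at this
        simp at this
      refine ⟨e g, ?_⟩
      rw [index_centralizer_equiv]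
      apply index_of_nonsplit g hg
      rw [hg00, hg11, zero_add]
      exact ht
    · -- unipotent element
      let g : Matrix.SpecialLinearGroup (Fin 2) F := ⟨!![1, 1; 0, 1], by
        simp [Matrix.det_fin_two_of]⟩
      have hg00 : g 0 0 = 1 := rfl
      have hg01 : g 0 1 = 1 := rfl
      have hg11 : g 1 1 = 1 := rfl
      have hg : g ≠ 1 := by
        intro h
        have := congrArg (fun x : Matrix.SpecialLinearGroup (Fin 2) F => x 0 1) h
        simp only [hg01] at this
        simp at this
      refine ⟨e g, ?_⟩
      rw [index_centralizer_equiv]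
      apply index_of_trace_zero g hg
      rw [hg00, hg11]
      linear_combination h2F
    · -- split torus element
      obtain ⟨a, ha0, ha1⟩ : ∃ a : F, a ≠ 0 ∧ a ≠ 1 := by
        by_contra hcon
        push Not at hcon
        have hsub : (Finset.univ : Finset F) ⊆ {0, 1} := by
          intro a _
          by_cases ha : a = 0
          · simp [ha]
          · simp [hcon a ha]
        have h1 := Finset.card_le_card hsub
        have h3 : ({0, 1} : Finset F).card ≤ 2 := Finset.card_le_two
        rw [Finset.card_univ] at h1
        omega
      let g : Matrix.SpecialLinearGroup (Fin 2) F := ⟨!![a, 0; 0, a⁻¹], by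
        simp [Matrix.det_fin_two_of, ha0]⟩
      have hg00 : g 0 0 = a := rfl
      have hg11 : g 1 1 = a⁻¹ := rfl
      have hg : g ≠ 1 := by
        intro h
        have := congrArg (fun x : Matrix.SpecialLinearGroup (Fin 2) F => x 0 0) h
        simp only [hg00] at this
        simp at this
        exact ha1 this
      refine ⟨e g, ?_⟩
      rw [index_centralizer_equiv]
      apply index_of_split g hg _ a
      · rw [hg00, hg11]
        field_simp
        linear_combination (a ^ 2 + 1) * h2F
      · rw [hg00, hg11]
        intro h
        apply ha1
        apply sq_inj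
        have h5 : a * (a + a⁻¹) = 0 := by rw [h, mul_zero]
        have h6 : a * (a + a⁻¹) = a ^ 2 + 1 := by field_simp
        rw [h6] at h5
        linear_combination h5 - h2F

end Cfsg.Agent.S2507
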