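import Cfsg.Statements.S0496
import Mathlib
import Cfsg.Agent.Lib.Helper71.Ord720

set_option autoImplicit false
open Cfsg

namespace Cfsg.Agent.S0496

open Cfsg.Agent.Lib.Helper71.Sieve496

theorem range_0 {G : Type*} [Group G] [Finite G] [IsSimpleGroup G] (hG : ¬ IsMulCommutative G)
    (n : ℕ) (hn : Nat.card G = n) (hlo : 0 ≤ n) (hhi : n ≤ 100) :
    n = 60 ∨ n = 168 ∨ n = 360 ∨ n = 504 ∨ n = 660 ∨ n = 1092 := by
  interval_cases n
  · exact absurd hn Nat.card_pos.ne'
  · exact absurd hn (Finite.one_lt_card (α := G)).ne'
  · exact (kill_pq hG 2 2 1 0 (by norm_num) (by norm_num) (hn.trans (by norm_num))).elim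
  · exact (kill_pq hG 3 3 1 0 (by norm_num) (by norm_num) (hn.trans (by norm_num))).elim
  · exact (kill_pq hG 2 2 2 0 (by norm_num) (by norm_num) (hn.trans (by norm_num))).elim
  · exact (kill_pq hG 5 5 1 0 (by norm_num) (by norm_num) (hn.trans (by norm_num))).elim
  · exact (kill_pq hG 2 3 1 1 (by norm_num) (by norm_num) (hn.trans (by norm_num))).elim
  · exact (kill_pq hG 7 7 1 0 (by norm_num) (by norm_num) (hn.trans (by norm_num))).elim
  · exact (kill_pq hG 2 2 3 0 (by norm_num) (by norm_num) (hn.trans (by norm_num))).elim
  · exact (kill_pq hG 3 3 2 0 (by norm_num) (by norm_num) (hn.trans (by norm_num))).elim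
  · exact (kill_pq hG 2 5 1 1 (by norm_num) (by norm_num) (hn.trans (by norm_num))).elim
  · exact (kill_pq hG 11 11 1 0 (by norm_num) (by norm_num) (hn.trans (by norm_num))).elim
  · exact (kill_pq hG 2 3 2 1 (by norm_num) (by norm_num) (hn.trans (by norm_num))).elim
  · exact (kill_pq hG 13 13 1 0 (by norm_num) (by norm_num) (hn.trans (by norm_num))).elim
  · exact (kill_pq hG 2 7 1 1 (by norm_num) (by norm_num) (hn.trans (by norm_num))).elim
  · exact (kill_pq hG 3 5 1 1 (by norm_num) (by norm_num) (hn.trans (by norm_num))).elim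
  · exact (kill_pq hG 2 2 4 0 (by norm_num) (by norm_num) (hn.trans (by norm_num))).elim
  · exact (kill_pq hG 17 17 1 0 (by norm_num) (by norm_num) (hn.trans (by norm_num))).elim
  · exact (kill_pq hG 2 3 1 2 (by norm_num) (by norm_num) (hn.trans (by norm_num))).elim
  · exact (kill_pq hG 19 19 1 0 (by norm_num) (by norm_num) (hn.trans (by norm_num))).elim
  · exact (kill_pq hG 2 5 2 1 (by norm_num) (by norm_num) (hn.trans (by norm_num))).elim
  · exact (kill_pq hG 3 7 1 1 (by norm_num) (by norm_num) (hn.trans (by norm_num))).elim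
  · exact (kill_pq hG 2 11 1 1 (by norm_num) (by norm_num) (hn.trans (by norm_num))).elim
  · exact (kill_pq hG 23 23 1 0 (by norm_num) (by norm_num) (hn.trans (by norm_num))).elim
  · exact (kill_pq hG 2 3 3 1 (by norm_num) (by norm_num) (hn.trans (by norm_num))).elim
  · exact (kill_pq hG 5 5 2 0 (by norm_num) (by norm_num) (hn.trans (by norm_num))).elim
  · exact (kill_pq hG 2 13 1 1 (by norm_num) (by norm_num) (hn.trans (by norm_num))).elim
  · exact (kill_pq hG 3 3 3 0 (by norm_num) (by norm_num) (hn.trans (by norm_num))).elim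
  · exact (kill_pq hG 2 7 2 1 (by norm_num) (by norm_num) (hn.trans (by norm_num))).elim
  · exact (kill_pq hG 29 29 1 0 (by norm_num) (by norm_num) (hn.trans (by norm_num))).elim
  · exact (kill_two_odd 15 (by norm_num) (by decide) (hn.trans (by norm_num))).elim
  · exact (kill_pq hG 31 31 1 0 (by norm_num) (by norm_num) (hn.trans (by norm_num))).elim
  · exact (kill_pq hG 2 2 5 0 (by norm_num) (by norm_num) (hn.trans (by norm_num))).elim
  · exact (kill_pq hG 3 11 1 1 (by norm_num) (by norm_num) (hn.trans (by norm_num))).elim
  · exact (kill_pq hG 2 17 1 1 (by norm_num) (by norm_num) (hn.trans (by norm_num))).elim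
  · exact (kill_pq hG 5 7 1 1 (by norm_num) (by norm_num) (hn.trans (by norm_num))).elim
  · exact (kill_pq hG 2 3 2 2 (by norm_num) (by norm_num) (hn.trans (by norm_num))).elim
  · exact (kill_pq hG 37 37 1 0 (by norm_num) (by norm_num) (hn.trans (by norm_num))).elim
  · exact (kill_pq hG 2 19 1 1 (by norm_num) (by norm_num) (hn.trans (by norm_num))).elim
  · exact (kill_pq hG 3 13 1 1 (by norm_num) (by norm_num) (hn.trans (by norm_num))).elim
  · exact (kill_pq hG 2 5 3 1 (by norm_num) (by norm_num) (hn.trans (by norm_num))).elim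
  · exact (kill_pq hG 41 41 1 0 (by norm_num) (by norm_num) (hn.trans (by norm_num))).elim
  · exact (kill_two_odd 21 (by norm_num) (by decide) (hn.trans (by norm_num))).elim
  · exact (kill_pq hG 43 43 1 0 (by norm_num) (by norm_num) (hn.trans (by norm_num))).elim
  · exact (kill_pq hG 2 11 2 1 (by norm_num) (by norm_num) (hn.trans (by norm_num))).elim
  · exact (kill_pq hG 3 5 2 1 (by norm_num) (by norm_num) (hn.trans (by norm_num))).elim
  · exact (kill_pq hG 2 23 1 1 (by norm_num) (by norm_num) (hn.trans (by norm_num))).elim
  · exact (kill_pq hG 47 47 1 0 (by norm_num) (by norm_num) (hn.trans (by norm_num))).elim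
  · exact (kill_pq hG 2 3 4 1 (by norm_num) (by norm_num) (hn.trans (by norm_num))).elim
  · exact (kill_pq hG 7 7 2 0 (by norm_num) (by norm_num) (hn.trans (by norm_num))).elim
  · exact (kill_pq hG 2 5 1 2 (by norm_num) (by norm_num) (hn.trans (by norm_num))).elim
  · exact (kill_pq hG 3 17 1 1 (by norm_num) (by norm_num) (hn.trans (by norm_num))).elim
  · exact (kill_pq hG 2 13 2 1 (by norm_num) (by norm_num) (hn.trans (by norm_num))).elim
  · exact (kill_pq hG 53 53 1 0 (by norm_num) (by norm_num) (hn.trans (by norm_num))).elim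
  · exact (kill_pq hG 2 3 1 3 (by norm_num) (by norm_num) (hn.trans (by norm_num))).elim
  · exact (kill_pq hG 5 11 1 1 (by norm_num) (by norm_num) (hn.trans (by norm_num))).elim
  · exact (kill_pq hG 2 7 3 1 (by norm_num) (by norm_num) (hn.trans (by norm_num))).elim
  · exact (kill_pq hG 3 19 1 1 (by norm_num) (by norm_num) (hn.trans (by norm_num))).elim
  · exact (kill_pq hG 2 29 1 1 (by norm_num) (by norm_num) (hn.trans (by norm_num))).elim
  · exact (kill_pq hG 59 59 1 0 (by norm_num) (by norm_num) (hn.trans (by norm_num))).elim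
  · norm_num
  · exact (kill_pq hG 61 61 1 0 (by norm_num) (by norm_num) (hn.trans (by norm_num))).elim
  · exact (kill_pq hG 2 31 1 1 (by norm_num) (by norm_num) (hn.trans (by norm_num))).elim
  · exact (kill_pq hG 3 7 2 1 (by norm_num) (by norm_num) (hn.trans (by norm_num))).elim
  · exact (kill_pq hG 2 2 6 0 (by norm_num) (by norm_num) (hn.trans (by norm_num))).elim
  · exact (kill_pq hG 5 13 1 1 (by norm_num) (by norm_num) (hn.trans (by norm_num))).elim
  · exact (kill_two_odd 33 (by norm_num) (by decide) (hn.trans (by norm_num))).elim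
  · exact (kill_pq hG 67 67 1 0 (by norm_num) (by norm_num) (hn.trans (by norm_num))).elim
  · exact (kill_pq hG 2 17 2 1 (by norm_num) (by norm_num) (hn.trans (by norm_num))).elim
  · exact (kill_pq hG 3 23 1 1 (by norm_num) (by norm_num) (hn.trans (by norm_num))).elim
  · exact (kill_two_odd 35 (by norm_num) (by decide) (hn.trans (by norm_num))).elim
  · exact (kill_pq hG 71 71 1 0 (by norm_num) (by norm_num) (hn.trans (by norm_num))).elim
  · exact (kill_pq hG 2 3 3 2 (by norm_num) (by norm_num) (hn.trans (by norm_num))).elim
  · exact (kill_pq hG 73 73 1 0 (by norm_num) (by norm_num) (hn.trans (by norm_num))).elim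
  · exact (kill_pq hG 2 37 1 1 (by norm_num) (by norm_num) (hn.trans (by norm_num))).elim
  · exact (kill_pq hG 3 5 1 2 (by norm_num) (by norm_num) (hn.trans (by norm_num))).elim
  · exact (kill_pq hG 2 19 2 1 (by norm_num) (by norm_num) (hn.trans (by norm_num))).elim
  · exact (kill_pq hG 7 11 1 1 (by norm_num) (by norm_num) (hn.trans (by norm_num))).elim
  · exact (kill_two_odd 39 (by norm_num) (by decide) (hn.trans (by norm_num))).elim
  · exact (kill_pq hG 79 79 1 0 (by norm_num) (by norm_num) (hn.trans (by norm_num))).elim
  · exact (kill_pq hG 2 5 4 1 (by norm_num) (by norm_num) (hn.trans (by norm_num))).elim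
  · exact (kill_pq hG 3 3 4 0 (by norm_num) (by norm_num) (hn.trans (by norm_num))).elim
  · exact (kill_pq hG 2 41 1 1 (by norm_num) (by norm_num) (hn.trans (by norm_num))).elim
  · exact (kill_pq hG 83 83 1 0 (by norm_num) (by norm_num) (hn.trans (by norm_num))).elim
  · exact (kill_sylow hG 84 7 1 12 (by norm_num) hn (by norm_num) (by norm_num) (by decide) (by decide +kernel)).elim
  · exact (kill_pq hG 5 17 1 1 (by norm_num) (by norm_num) (hn.trans (by norm_num))).elim
  · exact (kill_pq hG 2 43 1 1 (by norm_num) (by norm_num) (hn.trans (by norm_num))).elim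
  · exact (kill_pq hG 3 29 1 1 (by norm_num) (by norm_num) (hn.trans (by norm_num))).elim
  · exact (kill_pq hG 2 11 3 1 (by norm_num) (by norm_num) (hn.trans (by norm_num))).elim
  · exact (kill_pq hG 89 89 1 0 (by norm_num) (by norm_num) (hn.trans (by norm_num))).elim
  · exact (kill_two_odd 45 (by norm_num) (by decide) (hn.trans (by norm_num))).elim
  · exact (kill_pq hG 7 13 1 1 (by norm_num) (by norm_num) (hn.trans (by norm_num))).elim
  · exact (kill_pq hG 2 23 2 1 (by norm_num) (by norm_num) (hn.trans (by norm_num))).elim
  · exact (kill_pq hG 3 31 1 1 (by norm_num) (by norm_num) (hn.trans (by norm_num))).elim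
  · exact (kill_pq hG 2 47 1 1 (by norm_num) (by norm_num) (hn.trans (by norm_num))).elim
  · exact (kill_pq hG 5 19 1 1 (by norm_num) (by norm_num) (hn.trans (by norm_num))).elim
  · exact (kill_pq hG 2 3 5 1 (by norm_num) (by norm_num) (hn.trans (by norm_num))).elim
  · exact (kill_pq hG 97 97 1 0 (by norm_num) (by norm_num) (hn.trans (by norm_num))).elim
  · exact (kill_pq hG 2 7 1 2 (by norm_num) (by norm_num) (hn.trans (by norm_num))).elim
  · exact (kill_pq hG 3 11 2 1 (by norm_num) (by norm_num) (hn.trans (by norm_num))).elim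
  · exact (kill_pq hG 2 5 2 2 (by norm_num) (by norm_num) (hn.trans (by norm_num))).elim

theorem range_1 {G : Type*} [Group G] [Finite G] [IsSimpleGroup G] (hG : ¬ IsMulCommutative G)
    (n : ℕ) (hn : Nat.card G = n) (hlo : 101 ≤ n) (hhi : n ≤ 200) :
    n = 60 ∨ n = 168 ∨ n = 360 ∨ n = 504 ∨ n = 660 ∨ n = 1092 := by
  interval_cases n
  · exact (kill_pq hG 101 101 1 0 (by norm_num) (by norm_num) (hn.trans (by norm_num))).elim
  · exact (kill_two_odd 51 (by norm_num) (by decide) (hn.trans (by norm_num))).elim
  · exact (kill_pq hG 103 103 1 0 (by norm_num) (by norm_num) (hn.trans (by norm_num))).elim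
  · exact (kill_pq hG 2 13 3 1 (by norm_num) (by norm_num) (hn.trans (by norm_num))).elim
  · exact (kill_sylow hG 105 7 1 15 (by norm_num) hn (by norm_num) (by norm_num) (by decide) (by decide +kernel)).elim
  · exact (kill_pq hG 2 53 1 1 (by norm_num) (by norm_num) (hn.trans (by norm_num))).elim
  · exact (kill_pq hG 107 107 1 0 (by norm_num) (by norm_num) (hn.trans (by norm_num))).elim
  · exact (kill_pq hG 2 3 2 3 (by norm_num) (by norm_num) (hn.trans (by norm_num))).elim
  · exact (kill_pq hG 109 109 1 0 (by norm_num) (by norm_num) (hn.trans (by norm_num))).elim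
  · exact (kill_two_odd 55 (by norm_num) (by decide) (hn.trans (by norm_num))).elim
  · exact (kill_pq hG 3 37 1 1 (by norm_num) (by norm_num) (hn.trans (by norm_num))).elim
  · exact (kill_pq hG 2 7 4 1 (by norm_num) (by norm_num) (hn.trans (by norm_num))).elim
  · exact (kill_pq hG 113 113 1 0 (by norm_num) (by norm_num) (hn.trans (by norm_num))).elim
  · exact (kill_two_odd 57 (by norm_num) (by decide) (hn.trans (by norm_num))).elim
  · exact (kill_pq hG 5 23 1 1 (by norm_num) (by norm_num) (hn.trans (by norm_num))).elim
  · exact (kill_pq hG 2 29 2 1 (by norm_num) (by norm_num) (hn.trans (by norm_num))).elim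
  · exact (kill_pq hG 3 13 2 1 (by norm_num) (by norm_num) (hn.trans (by norm_num))).elim
  · exact (kill_pq hG 2 59 1 1 (by norm_num) (by norm_num) (hn.trans (by norm_num))).elim
  · exact (kill_pq hG 7 17 1 1 (by norm_num) (by norm_num) (hn.trans (by norm_num))).elim
  · exact (kill_pqr hG 120 2 5 3 3 1 (by norm_num) (by norm_num) (by norm_num) (by decide) (by decide) (by decide) hn (by norm_num) (by decide)).elim
  · exact (kill_pq hG 11 11 2 0 (by norm_num) (by norm_num) (hn.trans (by norm_num))).elim
  · exact (kill_pq hG 2 61 1 1 (by norm_num) (by norm_num) (hn.trans (by norm_num))).elim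
  · exact (kill_pq hG 3 41 1 1 (by norm_num) (by norm_num) (hn.trans (by norm_num))).elim
  · exact (kill_pq hG 2 31 2 1 (by norm_num) (by norm_num) (hn.trans (by norm_num))).elim
  · exact (kill_pq hG 5 5 3 0 (by norm_num) (by norm_num) (hn.trans (by norm_num))).elim
  · exact (kill_two_odd 63 (by norm_num) (by decide) (hn.trans (by norm_num))).elim
  · exact (kill_pq hG 127 127 1 0 (by norm_num) (by norm_num) (hn.trans (by norm_num))).elim
  · exact (kill_pq hG 2 2 7 0 (by norm_num) (by norm_num) (hn.trans (by norm_num))).elim
  · exact (kill_pq hG 3 43 1 1 (by norm_num) (by norm_num) (hn.trans (by norm_num))).elim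
  · exact (kill_two_odd 65 (by norm_num) (by decide) (hn.trans (by norm_num))).elim
  · exact (kill_pq hG 131 131 1 0 (by norm_num) (by norm_num) (hn.trans (by norm_num))).elim
  · exact (kill_sylow hG 132 11 1 12 (by norm_num) hn (by norm_num) (by norm_num) (by decide) (by decide +kernel)).elim
  · exact (kill_pq hG 7 19 1 1 (by norm_num) (by norm_num) (hn.trans (by norm_num))).elim
  · exact (kill_pq hG 2 67 1 1 (by norm_num) (by norm_num) (hn.trans (by norm_num))).elim
  · exact (kill_pq hG 3 5 3 1 (by norm_num) (by norm_num) (hn.trans (by norm_num))).elim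
  · exact (kill_pq hG 2 17 3 1 (by norm_num) (by norm_num) (hn.trans (by norm_num))).elim
  · exact (kill_pq hG 137 137 1 0 (by norm_num) (by norm_num) (hn.trans (by norm_num))).elim
  · exact (kill_two_odd 69 (by norm_num) (by decide) (hn.trans (by norm_num))).elim
  · exact (kill_pq hG 139 139 1 0 (by norm_num) (by norm_num) (hn.trans (by norm_num))).elim
  · exact (kill_sylow hG 140 7 1 20 (by norm_num) hn (by norm_num) (by norm_num) (by decide) (by decide +kernel)).elim
  · exact (kill_pq hG 3 47 1 1 (by norm_num) (by norm_num) (hn.trans (by norm_num))).elim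
  · exact (kill_pq hG 2 71 1 1 (by norm_num) (by norm_num) (hn.trans (by norm_num))).elim
  · exact (kill_pq hG 11 13 1 1 (by norm_num) (by norm_num) (hn.trans (by norm_num))).elim
  · exact (kill_pq hG 2 3 4 2 (by norm_num) (by norm_num) (hn.trans (by norm_num))).elim
  · exact (kill_pq hG 5 29 1 1 (by norm_num) (by norm_num) (hn.trans (by norm_num))).elim
  · exact (kill_pq hG 2 73 1 1 (by norm_num) (by norm_num) (hn.trans (by norm_num))).elim
  · exact (kill_pq hG 3 7 1 2 (by norm_num) (by norm_num) (hn.trans (by norm_num))).elim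
  · exact (kill_pq hG 2 37 2 1 (by norm_num) (by norm_num) (hn.trans (by norm_num))).elim
  · exact (kill_pq hG 149 149 1 0 (by norm_num) (by norm_num) (hn.trans (by norm_num))).elim
  · exact (kill_two_odd 75 (by norm_num) (by decide) (hn.trans (by norm_num))).elim
  · exact (kill_pq hG 151 151 1 0 (by norm_num) (by norm_num) (hn.trans (by norm_num))).elim
  · exact (kill_pq hG 2 19 3 1 (by norm_num) (by norm_num) (hn.trans (by norm_num))).elim
  · exact (kill_pq hG 3 17 2 1 (by norm_num) (by norm_num) (hn.trans (by norm_num))).elim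
  · exact (kill_two_odd 77 (by norm_num) (by decide) (hn.trans (by norm_num))).elim
  · exact (kill_pq hG 5 31 1 1 (by norm_num) (by norm_num) (hn.trans (by norm_num))).elim
  · exact (kill_sylow hG 156 13 1 12 (by norm_num) hn (by norm_num) (by norm_num) (by decide) (by decide +kernel)).elim
  · exact (kill_pq hG 157 157 1 0 (by norm_num) (by norm_num) (hn.trans (by norm_num))).elim
  · exact (kill_pq hG 2 79 1 1 (by norm_num) (by norm_num) (hn.trans (by norm_num))).elim
  · exact (kill_pq hG 3 53 1 1 (by norm_num) (by norm_num) (hn.trans (by norm_num))).elim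
  · exact (kill_pq hG 2 5 5 1 (by norm_num) (by norm_num) (hn.trans (by norm_num))).elim
  · exact (kill_pq hG 7 23 1 1 (by norm_num) (by norm_num) (hn.trans (by norm_num))).elim
  · exact (kill_pq hG 2 3 1 4 (by norm_num) (by norm_num) (hn.trans (by norm_num))).elim
  · exact (kill_pq hG 163 163 1 0 (by norm_num) (by norm_num) (hn.trans (by norm_num))).elim
  · exact (kill_pq hG 2 41 2 1 (by norm_num) (by norm_num) (hn.trans (by norm_num))).elim
  · exact (kill_sylow hG 165 11 1 15 (by norm_num) hn (by norm_num) (by norm_num) (by decide) (by decide +kernel)).elim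
  · exact (kill_pq hG 2 83 1 1 (by norm_num) (by norm_num) (hn.trans (by norm_num))).elim
  · exact (kill_pq hG 167 167 1 0 (by norm_num) (by norm_num) (hn.trans (by norm_num))).elim
  · norm_num
  · exact (kill_pq hG 13 13 2 0 (by norm_num) (by norm_num) (hn.trans (by norm_num))).elim
  · exact (kill_two_odd 85 (by norm_num) (by decide) (hn.trans (by norm_num))).elim
  · exact (kill_pq hG 3 19 2 1 (by norm_num) (by norm_num) (hn.trans (by norm_num))).elim
  · exact (kill_pq hG 2 43 2 1 (by norm_num) (by norm_num) (hn.trans (by norm_num))).elim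
  · exact (kill_pq hG 173 173 1 0 (by norm_num) (by norm_num) (hn.trans (by norm_num))).elim
  · exact (kill_two_odd 87 (by norm_num) (by decide) (hn.trans (by norm_num))).elim
  · exact (kill_pq hG 5 7 2 1 (by norm_num) (by norm_num) (hn.trans (by norm_num))).elim
  · exact (kill_pq hG 2 11 4 1 (by norm_num) (by norm_num) (hn.trans (by norm_num))).elim
  · exact (kill_pq hG 3 59 1 1 (by norm_num) (by norm_num) (hn.trans (by norm_num))).elim
  · exact (kill_pq hG 2 89 1 1 (by norm_num) (by norm_num) (hn.trans (by norm_num))).elim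
  · exact (kill_pq hG 179 179 1 0 (by norm_num) (by norm_num) (hn.trans (by norm_num))).elim
  · exact (kill_pqr hG 180 2 3 5 2 2 (by norm_num) (by norm_num) (by norm_num) (by decide) (by decide) (by decide) hn (by norm_num) (by decide)).elim
  · exact (kill_pq hG 181 181 1 0 (by norm_num) (by norm_num) (hn.trans (by norm_num))).elim
  · exact (kill_two_odd 91 (by norm_num) (by decide) (hn.trans (by norm_num))).elim
  · exact (kill_pq hG 3 61 1 1 (by norm_num) (by norm_num) (hn.trans (by norm_num))).elim
  · exact (kill_pq hG 2 23 3 1 (by norm_num) (by norm_num) (hn.trans (by norm_num))).elim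
  · exact (kill_pq hG 5 37 1 1 (by norm_num) (by norm_num) (hn.trans (by norm_num))).elim
  · exact (kill_two_odd 93 (by norm_num) (by decide) (hn.trans (by norm_num))).elim
  · exact (kill_pq hG 11 17 1 1 (by norm_num) (by norm_num) (hn.trans (by norm_num))).elim
  · exact (kill_pq hG 2 47 2 1 (by norm_num) (by norm_num) (hn.trans (by norm_num))).elim
  · exact (kill_pq hG 3 7 3 1 (by norm_num) (by norm_num) (hn.trans (by norm_num))).elim
  · exact (kill_two_odd 95 (by norm_num) (by decide) (hn.trans (by norm_num))).elim
  · exact (kill_pq hG 191 191 1 0 (by norm_num) (by norm_num) (hn.trans (by norm_num))).elim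
  · exact (kill_pq hG 2 3 6 1 (by norm_num) (by norm_num) (hn.trans (by norm_num))).elim
  · exact (kill_pq hG 193 193 1 0 (by norm_num) (by norm_num) (hn.trans (by norm_num))).elim
  · exact (kill_pq hG 2 97 1 1 (by norm_num) (by norm_num) (hn.trans (by norm_num))).elim
  · exact (kill_sylow hG 195 13 1 15 (by norm_num) hn (by norm_num) (by norm_num) (by decide) (by decide +kernel)).elim
  · exact (kill_pq hG 2 7 2 2 (by norm_num) (by norm_num) (hn.trans (by norm_num))).elim
  · exact (kill_pq hG 197 197 1 0 (by norm_num) (by norm_num) (hn.trans (by norm_num))).elim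
  · exact (kill_two_odd 99 (by norm_num) (by decide) (hn.trans (by norm_num))).elim
  · exact (kill_pq hG 199 199 1 0 (by norm_num) (by norm_num) (hn.trans (by norm_num))).elim
  · exact (kill_pq hG 2 5 3 2 (by norm_num) (by norm_num) (hn.trans (by norm_num))).elim

theorem range_2 {G : Type*} [Group G] [Finite G] [IsSimpleGroup G] (hG : ¬ IsMulCommutative G)
    (n : ℕ) (hn : Nat.card G = n) (hlo : 201 ≤ n) (hhi : n ≤ 300) :
    n = 60 ∨ n = 168 ∨ n = 360 ∨ n = 504 ∨ n = 660 ∨ n = 1092 := by
  interval_cases n
  · exact (kill_pq hG 3 67 1 1 (by norm_num) (by norm_num) (hn.trans (by norm_num))).elim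
  · exact (kill_pq hG 2 101 1 1 (by norm_num) (by norm_num) (hn.trans (by norm_num))).elim
  · exact (kill_pq hG 7 29 1 1 (by norm_num) (by norm_num) (hn.trans (by norm_num))).elim
  · exact (kill_sylow hG 204 17 1 12 (by norm_num) hn (by norm_num) (by norm_num) (by decide) (by decide +kernel)).elim
  · exact (kill_pq hG 5 41 1 1 (by norm_num) (by norm_num) (hn.trans (by norm_num))).elim
  · exact (kill_pq hG 2 103 1 1 (by norm_num) (by norm_num) (hn.trans (by norm_num))).elim
  · exact (kill_pq hG 3 23 2 1 (by norm_num) (by norm_num) (hn.trans (by norm_num))).elim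
  · exact (kill_pq hG 2 13 4 1 (by norm_num) (by norm_num) (hn.trans (by norm_num))).elim
  · exact (kill_pq hG 11 19 1 1 (by norm_num) (by norm_num) (hn.trans (by norm_num))).elim
  · exact (kill_two_odd 105 (by norm_num) (by decide) (hn.trans (by norm_num))).elim
  · exact (kill_pq hG 211 211 1 0 (by norm_num) (by norm_num) (hn.trans (by norm_num))).elim
  · exact (kill_pq hG 2 53 2 1 (by norm_num) (by norm_num) (hn.trans (by norm_num))).elim
  · exact (kill_pq hG 3 71 1 1 (by norm_num) (by norm_num) (hn.trans (by norm_num))).elim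
  · exact (kill_pq hG 2 107 1 1 (by norm_num) (by norm_num) (hn.trans (by norm_num))).elim
  · exact (kill_pq hG 5 43 1 1 (by norm_num) (by norm_num) (hn.trans (by norm_num))).elim
  · exact (kill_pq hG 2 3 3 3 (by norm_num) (by norm_num) (hn.trans (by norm_num))).elim
  · exact (kill_pq hG 7 31 1 1 (by norm_num) (by norm_num) (hn.trans (by norm_num))).elim
  · exact (kill_pq hG 2 109 1 1 (by norm_num) (by norm_num) (hn.trans (by norm_num))).elim
  · exact (kill_pq hG 3 73 1 1 (by norm_num) (by norm_num) (hn.trans (by norm_num))).elim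
  · exact (kill_sylow hG 220 11 1 20 (by norm_num) hn (by norm_num) (by norm_num) (by decide) (by decide +kernel)).elim
  · exact (kill_pq hG 13 17 1 1 (by norm_num) (by norm_num) (hn.trans (by norm_num))).elim
  · exact (kill_two_odd 111 (by norm_num) (by decide) (hn.trans (by norm_num))).elim
  · exact (kill_pq hG 223 223 1 0 (by norm_num) (by norm_num) (hn.trans (by norm_num))).elim
  · exact (kill_pq hG 2 7 5 1 (by norm_num) (by norm_num) (hn.trans (by norm_num))).elim
  · exact (kill_pq hG 3 5 2 2 (by norm_num) (by norm_num) (hn.trans (by norm_num))).elim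
  · exact (kill_pq hG 2 113 1 1 (by norm_num) (by norm_num) (hn.trans (by norm_num))).elim
  · exact (kill_pq hG 227 227 1 0 (by norm_num) (by norm_num) (hn.trans (by norm_num))).elim
  · exact (kill_sylow hG 228 19 1 12 (by norm_num) hn (by norm_num) (by norm_num) (by decide) (by decide +kernel)).elim
  · exact (kill_pq hG 229 229 1 0 (by norm_num) (by norm_num) (hn.trans (by norm_num))).elim
  · exact (kill_two_odd 115 (by norm_num) (by decide) (hn.trans (by norm_num))).elim
  · exact (kill_sylow hG 231 11 1 21 (by norm_num) hn (by norm_num) (by norm_num) (by decide) (by decide +kernel)).elim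
  · exact (kill_pq hG 2 29 3 1 (by norm_num) (by norm_num) (hn.trans (by norm_num))).elim
  · exact (kill_pq hG 233 233 1 0 (by norm_num) (by norm_num) (hn.trans (by norm_num))).elim
  · exact (kill_two_odd 117 (by norm_num) (by decide) (hn.trans (by norm_num))).elim
  · exact (kill_pq hG 5 47 1 1 (by norm_num) (by norm_num) (hn.trans (by norm_num))).elim
  · exact (kill_pq hG 2 59 2 1 (by norm_num) (by norm_num) (hn.trans (by norm_num))).elim
  · exact (kill_pq hG 3 79 1 1 (by norm_num) (by norm_num) (hn.trans (by norm_num))).elim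
  · exact (kill_two_odd 119 (by norm_num) (by decide) (hn.trans (by norm_num))).elim
  · exact (kill_pq hG 239 239 1 0 (by norm_num) (by norm_num) (hn.trans (by norm_num))).elim
  · exact (kill_sylow hG 240 5 1 48 (by norm_num) hn (by norm_num) (by norm_num) (by decide) (by decide +kernel)).elim
  · exact (kill_pq hG 241 241 1 0 (by norm_num) (by norm_num) (hn.trans (by norm_num))).elim
  · exact (kill_pq hG 2 11 1 2 (by norm_num) (by norm_num) (hn.trans (by norm_num))).elim
  · exact (kill_pq hG 3 3 5 0 (by norm_num) (by norm_num) (hn.trans (by norm_num))).elim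
  · exact (kill_pq hG 2 61 2 1 (by norm_num) (by norm_num) (hn.trans (by norm_num))).elim
  · exact (kill_pq hG 5 7 1 2 (by norm_num) (by norm_num) (hn.trans (by norm_num))).elim
  · exact (kill_two_odd 123 (by norm_num) (by decide) (hn.trans (by norm_num))).elim
  · exact (kill_pq hG 13 19 1 1 (by norm_num) (by norm_num) (hn.trans (by norm_num))).elim
  · exact (kill_pq hG 2 31 3 1 (by norm_num) (by norm_num) (hn.trans (by norm_num))).elim
  · exact (kill_pq hG 3 83 1 1 (by norm_num) (by norm_num) (hn.trans (by norm_num))).elim
  · exact (kill_pq hG 2 5 1 3 (by norm_num) (by norm_num) (hn.trans (by norm_num))).elim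
  · exact (kill_pq hG 251 251 1 0 (by norm_num) (by norm_num) (hn.trans (by norm_num))).elim
  · exact (kill_sylow hG 252 7 1 36 (by norm_num) hn (by norm_num) (by norm_num) (by decide) (by decide +kernel)).elim
  · exact (kill_pq hG 11 23 1 1 (by norm_num) (by norm_num) (hn.trans (by norm_num))).elim
  · exact (kill_pq hG 2 127 1 1 (by norm_num) (by norm_num) (hn.trans (by norm_num))).elim
  · exact (kill_sylow hG 255 17 1 15 (by norm_num) hn (by norm_num) (by norm_num) (by decide) (by decide +kernel)).elim
  · exact (kill_pq hG 2 2 8 0 (by norm_num) (by norm_num) (hn.trans (by norm_num))).elim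
  · exact (kill_pq hG 257 257 1 0 (by norm_num) (by norm_num) (hn.trans (by norm_num))).elim
  · exact (kill_two_odd 129 (by norm_num) (by decide) (hn.trans (by norm_num))).elim
  · exact (kill_pq hG 7 37 1 1 (by norm_num) (by norm_num) (hn.trans (by norm_num))).elim
  · exact (kill_sylow hG 260 13 1 20 (by norm_num) hn (by norm_num) (by norm_num) (by decide) (by decide +kernel)).elim
  · exact (kill_pq hG 3 29 2 1 (by norm_num) (by norm_num) (hn.trans (by norm_num))).elim
  · exact (kill_pq hG 2 131 1 1 (by norm_num) (by norm_num) (hn.trans (by norm_num))).elim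
  · exact (kill_pq hG 263 263 1 0 (by norm_num) (by norm_num) (hn.trans (by norm_num))).elim
  · exact (kill_pqr hG 264 2 11 3 3 1 (by norm_num) (by norm_num) (by norm_num) (by decide) (by decide) (by decide) hn (by norm_num) (by decide)).elim
  · exact (kill_pq hG 5 53 1 1 (by norm_num) (by norm_num) (hn.trans (by norm_num))).elim
  · exact (kill_two_odd 133 (by norm_num) (by decide) (hn.trans (by norm_num))).elim
  · exact (kill_pq hG 3 89 1 1 (by norm_num) (by norm_num) (hn.trans (by norm_num))).elim
  · exact (kill_pq hG 2 67 2 1 (by norm_num) (by norm_num) (hn.trans (by norm_num))).elim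
  · exact (kill_pq hG 269 269 1 0 (by norm_num) (by norm_num) (hn.trans (by norm_num))).elim
  · exact (kill_two_odd 135 (by norm_num) (by decide) (hn.trans (by norm_num))).elim
  · exact (kill_pq hG 271 271 1 0 (by norm_num) (by norm_num) (hn.trans (by norm_num))).elim
  · exact (kill_pq hG 2 17 4 1 (by norm_num) (by norm_num) (hn.trans (by norm_num))).elim
  · exact (kill_sylow hG 273 13 1 21 (by norm_num) hn (by norm_num) (by norm_num) (by decide) (by decide +kernel)).elim
  · exact (kill_pq hG 2 137 1 1 (by norm_num) (by norm_num) (hn.trans (by norm_num))).elim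
  · exact (kill_pq hG 5 11 2 1 (by norm_num) (by norm_num) (hn.trans (by norm_num))).elim
  · exact (kill_sylow hG 276 23 1 12 (by norm_num) hn (by norm_num) (by norm_num) (by decide) (by decide +kernel)).elim
  · exact (kill_pq hG 277 277 1 0 (by norm_num) (by norm_num) (hn.trans (by norm_num))).elim
  · exact (kill_pq hG 2 139 1 1 (by norm_num) (by norm_num) (hn.trans (by norm_num))).elim
  · exact (kill_pq hG 3 31 2 1 (by norm_num) (by norm_num) (hn.trans (by norm_num))).elim
  · exact (kill_sylow hG 280 7 1 40 (by norm_num) hn (by norm_num) (by norm_num) (by decide) (by decide +kernel)).elim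
  · exact (kill_pq hG 281 281 1 0 (by norm_num) (by norm_num) (hn.trans (by norm_num))).elim
  · exact (kill_two_odd 141 (by norm_num) (by decide) (hn.trans (by norm_num))).elim
  · exact (kill_pq hG 283 283 1 0 (by norm_num) (by norm_num) (hn.trans (by norm_num))).elim
  · exact (kill_pq hG 2 71 2 1 (by norm_num) (by norm_num) (hn.trans (by norm_num))).elim
  · exact (kill_sylow hG 285 19 1 15 (by norm_num) hn (by norm_num) (by norm_num) (by decide) (by decide +kernel)).elim
  · exact (kill_two_odd 143 (by norm_num) (by decide) (hn.trans (by norm_num))).elim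
  · exact (kill_pq hG 7 41 1 1 (by norm_num) (by norm_num) (hn.trans (by norm_num))).elim
  · exact (kill_pq hG 2 3 5 2 (by norm_num) (by norm_num) (hn.trans (by norm_num))).elim
  · exact (kill_pq hG 17 17 2 0 (by norm_num) (by norm_num) (hn.trans (by norm_num))).elim
  · exact (kill_two_odd 145 (by norm_num) (by decide) (hn.trans (by norm_num))).elim
  · exact (kill_pq hG 3 97 1 1 (by norm_num) (by norm_num) (hn.trans (by norm_num))).elim
  · exact (kill_pq hG 2 73 2 1 (by norm_num) (by norm_num) (hn.trans (by norm_num))).elim
  · exact (kill_pq hG 293 293 1 0 (by norm_num) (by norm_num) (hn.trans (by norm_num))).elim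
  · exact (kill_two_odd 147 (by norm_num) (by decide) (hn.trans (by norm_num))).elim
  · exact (kill_pq hG 5 59 1 1 (by norm_num) (by norm_num) (hn.trans (by norm_num))).elim
  · exact (kill_pq hG 2 37 3 1 (by norm_num) (by norm_num) (hn.trans (by norm_num))).elim
  · exact (kill_pq hG 3 11 3 1 (by norm_num) (by norm_num) (hn.trans (by norm_num))).elim
  · exact (kill_pq hG 2 149 1 1 (by norm_num) (by norm_num) (hn.trans (by norm_num))).elim
  · exact (kill_pq hG 13 23 1 1 (by norm_num) (by norm_num) (hn.trans (by norm_num))).elim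
  · exact (kill_sylow hG 300 5 2 12 (by norm_num) hn (by norm_num) (by norm_num) (by decide) (by decide +kernel)).elim

theorem range_3 {G : Type*} [Group G] [Finite G] [IsSimpleGroup G] (hG : ¬ IsMulCommutative G)
    (n : ℕ) (hn : Nat.card G = n) (hlo : 301 ≤ n) (hhi : n ≤ 400) :
    n = 60 ∨ n = 168 ∨ n = 360 ∨ n = 504 ∨ n = 660 ∨ n = 1092 := by
  interval_cases n
  · exact (kill_pq hG 7 43 1 1 (by norm_num) (by norm_num) (hn.trans (by norm_num))).elim
  · exact (kill_pq hG 2 151 1 1 (by norm_num) (by norm_num) (hn.trans (by norm_num))).elim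
  · exact (kill_pq hG 3 101 1 1 (by norm_num) (by norm_num) (hn.trans (by norm_num))).elim
  · exact (kill_pq hG 2 19 4 1 (by norm_num) (by norm_num) (hn.trans (by norm_num))).elim
  · exact (kill_pq hG 5 61 1 1 (by norm_num) (by norm_num) (hn.trans (by norm_num))).elim
  · exact (kill_two_odd 153 (by norm_num) (by decide) (hn.trans (by norm_num))).elim
  · exact (kill_pq hG 307 307 1 0 (by norm_num) (by norm_num) (hn.trans (by norm_num))).elim
  · exact (kill_sylow hG 308 11 1 28 (by norm_num) hn (by norm_num) (by norm_num) (by decide) (by decide +kernel)).elim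
  · exact (kill_pq hG 3 103 1 1 (by norm_num) (by norm_num) (hn.trans (by norm_num))).elim
  · exact (kill_two_odd 155 (by norm_num) (by decide) (hn.trans (by norm_num))).elim
  · exact (kill_pq hG 311 311 1 0 (by norm_num) (by norm_num) (hn.trans (by norm_num))).elim
  · exact (kill_sylow hG 312 13 1 24 (by norm_num) hn (by norm_num) (by norm_num) (by decide) (by decide +kernel)).elim
  · exact (kill_pq hG 313 313 1 0 (by norm_num) (by norm_num) (hn.trans (by norm_num))).elim
  · exact (kill_pq hG 2 157 1 1 (by norm_num) (by norm_num) (hn.trans (by norm_num))).elim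
  · exact (kill_sylow hG 315 5 1 63 (by norm_num) hn (by norm_num) (by norm_num) (by decide) (by decide +kernel)).elim
  · exact (kill_pq hG 2 79 2 1 (by norm_num) (by norm_num) (hn.trans (by norm_num))).elim
  · exact (kill_pq hG 317 317 1 0 (by norm_num) (by norm_num) (hn.trans (by norm_num))).elim
  · exact (kill_two_odd 159 (by norm_num) (by decide) (hn.trans (by norm_num))).elim
  · exact (kill_pq hG 11 29 1 1 (by norm_num) (by norm_num) (hn.trans (by norm_num))).elim
  · exact (kill_pq hG 2 5 6 1 (by norm_num) (by norm_num) (hn.trans (by norm_num))).elim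
  · exact (kill_pq hG 3 107 1 1 (by norm_num) (by norm_num) (hn.trans (by norm_num))).elim
  · exact (kill_two_odd 161 (by norm_num) (by decide) (hn.trans (by norm_num))).elim
  · exact (kill_pq hG 17 19 1 1 (by norm_num) (by norm_num) (hn.trans (by norm_num))).elim
  · exact (kill_pq hG 2 3 2 4 (by norm_num) (by norm_num) (hn.trans (by norm_num))).elim
  · exact (kill_pq hG 5 13 2 1 (by norm_num) (by norm_num) (hn.trans (by norm_num))).elim
  · exact (kill_pq hG 2 163 1 1 (by norm_num) (by norm_num) (hn.trans (by norm_num))).elim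
  · exact (kill_pq hG 3 109 1 1 (by norm_num) (by norm_num) (hn.trans (by norm_num))).elim
  · exact (kill_pq hG 2 41 3 1 (by norm_num) (by norm_num) (hn.trans (by norm_num))).elim
  · exact (kill_pq hG 7 47 1 1 (by norm_num) (by norm_num) (hn.trans (by norm_num))).elim
  · exact (kill_two_odd 165 (by norm_num) (by decide) (hn.trans (by norm_num))).elim
  · exact (kill_pq hG 331 331 1 0 (by norm_num) (by norm_num) (hn.trans (by norm_num))).elim
  · exact (kill_pq hG 2 83 2 1 (by norm_num) (by norm_num) (hn.trans (by norm_num))).elim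
  · exact (kill_pq hG 3 37 2 1 (by norm_num) (by norm_num) (hn.trans (by norm_num))).elim
  · exact (kill_pq hG 2 167 1 1 (by norm_num) (by norm_num) (hn.trans (by norm_num))).elim
  · exact (kill_pq hG 5 67 1 1 (by norm_num) (by norm_num) (hn.trans (by norm_num))).elim
  · exact (kill_pqr hG 336 2 7 3 4 1 (by norm_num) (by norm_num) (by norm_num) (by decide) (by decide) (by decide) hn (by norm_num) (by decide)).elim
  · exact (kill_pq hG 337 337 1 0 (by norm_num) (by norm_num) (hn.trans (by norm_num))).elim
  · exact (kill_pq hG 2 13 1 2 (by norm_num) (by norm_num) (hn.trans (by norm_num))).elim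
  · exact (kill_pq hG 3 113 1 1 (by norm_num) (by norm_num) (hn.trans (by norm_num))).elim
  · exact (kill_sylow hG 340 17 1 20 (by norm_num) hn (by norm_num) (by norm_num) (by decide) (by decide +kernel)).elim
  · exact (kill_pq hG 11 31 1 1 (by norm_num) (by norm_num) (hn.trans (by norm_num))).elim
  · exact (kill_two_odd 171 (by norm_num) (by decide) (hn.trans (by norm_num))).elim
  · exact (kill_pq hG 7 7 3 0 (by norm_num) (by norm_num) (hn.trans (by norm_num))).elim
  · exact (kill_pq hG 2 43 3 1 (by norm_num) (by norm_num) (hn.trans (by norm_num))).elim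
  · exact (kill_sylow hG 345 23 1 15 (by norm_num) hn (by norm_num) (by norm_num) (by decide) (by decide +kernel)).elim
  · exact (kill_pq hG 2 173 1 1 (by norm_num) (by norm_num) (hn.trans (by norm_num))).elim
  · exact (kill_pq hG 347 347 1 0 (by norm_num) (by norm_num) (hn.trans (by norm_num))).elim
  · exact (kill_sylow hG 348 29 1 12 (by norm_num) hn (by norm_num) (by norm_num) (by decide) (by decide +kernel)).elim
  · exact (kill_pq hG 349 349 1 0 (by norm_num) (by norm_num) (hn.trans (by norm_num))).elim
  · exact (kill_two_odd 175 (by norm_num) (by decide) (hn.trans (by norm_num))).elim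
  · exact (kill_pq hG 3 13 3 1 (by norm_num) (by norm_num) (hn.trans (by norm_num))).elim
  · exact (kill_pq hG 2 11 5 1 (by norm_num) (by norm_num) (hn.trans (by norm_num))).elim
  · exact (kill_pq hG 353 353 1 0 (by norm_num) (by norm_num) (hn.trans (by norm_num))).elim
  · exact (kill_two_odd 177 (by norm_num) (by decide) (hn.trans (by norm_num))).elim
  · exact (kill_pq hG 5 71 1 1 (by norm_num) (by norm_num) (hn.trans (by norm_num))).elim
  · exact (kill_pq hG 2 89 2 1 (by norm_num) (by norm_num) (hn.trans (by norm_num))).elim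
  · exact (kill_sylow hG 357 17 1 21 (by norm_num) hn (by norm_num) (by norm_num) (by decide) (by decide +kernel)).elim
  · exact (kill_pq hG 2 179 1 1 (by norm_num) (by norm_num) (hn.trans (by norm_num))).elim
  · exact (kill_pq hG 359 359 1 0 (by norm_num) (by norm_num) (hn.trans (by norm_num))).elim
  · norm_num
  · exact (kill_pq hG 19 19 2 0 (by norm_num) (by norm_num) (hn.trans (by norm_num))).elim
  · exact (kill_pq hG 2 181 1 1 (by norm_num) (by norm_num) (hn.trans (by norm_num))).elim
  · exact (kill_pq hG 3 11 1 2 (by norm_num) (by norm_num) (hn.trans (by norm_num))).elim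
  · exact (kill_sylow hG 364 7 1 52 (by norm_num) hn (by norm_num) (by norm_num) (by decide) (by decide +kernel)).elim
  · exact (kill_pq hG 5 73 1 1 (by norm_num) (by norm_num) (hn.trans (by norm_num))).elim
  · exact (kill_two_odd 183 (by norm_num) (by decide) (hn.trans (by norm_num))).elim
  · exact (kill_pq hG 367 367 1 0 (by norm_num) (by norm_num) (hn.trans (by norm_num))).elim
  · exact (kill_pq hG 2 23 4 1 (by norm_num) (by norm_num) (hn.trans (by norm_num))).elim
  · exact (kill_pq hG 3 41 2 1 (by norm_num) (by norm_num) (hn.trans (by norm_num))).elim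
  · exact (kill_two_odd 185 (by norm_num) (by decide) (hn.trans (by norm_num))).elim
  · exact (kill_pq hG 7 53 1 1 (by norm_num) (by norm_num) (hn.trans (by norm_num))).elim
  · exact (kill_sylow hG 372 31 1 12 (by norm_num) hn (by norm_num) (by norm_num) (by decide) (by decide +kernel)).elim
  · exact (kill_pq hG 373 373 1 0 (by norm_num) (by norm_num) (hn.trans (by norm_num))).elim
  · exact (kill_two_odd 187 (by norm_num) (by decide) (hn.trans (by norm_num))).elim
  · exact (kill_pq hG 3 5 1 3 (by norm_num) (by norm_num) (hn.trans (by norm_num))).elim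
  · exact (kill_pq hG 2 47 3 1 (by norm_num) (by norm_num) (hn.trans (by norm_num))).elim
  · exact (kill_pq hG 13 29 1 1 (by norm_num) (by norm_num) (hn.trans (by norm_num))).elim
  · exact (kill_two_odd 189 (by norm_num) (by decide) (hn.trans (by norm_num))).elim
  · exact (kill_pq hG 379 379 1 0 (by norm_num) (by norm_num) (hn.trans (by norm_num))).elim
  · exact (kill_sylow hG 380 19 1 20 (by norm_num) hn (by norm_num) (by norm_num) (by decide) (by decide +kernel)).elim
  · exact (kill_pq hG 3 127 1 1 (by norm_num) (by norm_num) (hn.trans (by norm_num))).elim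
  · exact (kill_pq hG 2 191 1 1 (by norm_num) (by norm_num) (hn.trans (by norm_num))).elim
  · exact (kill_pq hG 383 383 1 0 (by norm_num) (by norm_num) (hn.trans (by norm_num))).elim
  · exact (kill_pq hG 2 3 7 1 (by norm_num) (by norm_num) (hn.trans (by norm_num))).elim
  · exact (kill_sylow hG 385 11 1 35 (by norm_num) hn (by norm_num) (by norm_num) (by decide) (by decide +kernel)).elim
  · exact (kill_pq hG 2 193 1 1 (by norm_num) (by norm_num) (hn.trans (by norm_num))).elim
  · exact (kill_pq hG 3 43 2 1 (by norm_num) (by norm_num) (hn.trans (by norm_num))).elim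
  · exact (kill_pq hG 2 97 2 1 (by norm_num) (by norm_num) (hn.trans (by norm_num))).elim
  · exact (kill_pq hG 389 389 1 0 (by norm_num) (by norm_num) (hn.trans (by norm_num))).elim
  · exact (kill_two_odd 195 (by norm_num) (by decide) (hn.trans (by norm_num))).elim
  · exact (kill_pq hG 17 23 1 1 (by norm_num) (by norm_num) (hn.trans (by norm_num))).elim
  · exact (kill_pq hG 2 7 3 2 (by norm_num) (by norm_num) (hn.trans (by norm_num))).elim
  · exact (kill_pq hG 3 131 1 1 (by norm_num) (by norm_num) (hn.trans (by norm_num))).elim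
  · exact (kill_pq hG 2 197 1 1 (by norm_num) (by norm_num) (hn.trans (by norm_num))).elim
  · exact (kill_pq hG 5 79 1 1 (by norm_num) (by norm_num) (hn.trans (by norm_num))).elim
  · exact (kill_sylow hG 396 11 1 36 (by norm_num) hn (by norm_num) (by norm_num) (by decide) (by decide +kernel)).elim
  · exact (kill_pq hG 397 397 1 0 (by norm_num) (by norm_num) (hn.trans (by norm_num))).elim
  · exact (kill_pq hG 2 199 1 1 (by norm_num) (by norm_num) (hn.trans (by norm_num))).elim
  · exact (kill_sylow hG 399 19 1 21 (by norm_num) hn (by norm_num) (by norm_num) (by decide) (by decide +kernel)).elim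
  · exact (kill_pq hG 2 5 4 2 (by norm_num) (by norm_num) (hn.trans (by norm_num))).elim

theorem range_4 {G : Type*} [Group G] [Finite G] [IsSimpleGroup G] (hG : ¬ IsMulCommutative G)
    (n : ℕ) (hn : Nat.card G = n) (hlo : 401 ≤ n) (hhi : n ≤ 500) :
    n = 60 ∨ n = 168 ∨ n = 360 ∨ n = 504 ∨ n = 660 ∨ n = 1092 := by
  interval_cases n
  · exact (kill_pq hG 401 401 1 0 (by norm_num) (by norm_num) (hn.trans (by norm_num))).elim
  · exact (kill_two_odd 201 (by norm_num) (by decide) (hn.trans (by norm_num))).elim
  · exact (kill_pq hG 13 31 1 1 (by norm_num) (by norm_num) (hn.trans (by norm_num))).elim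
  · exact (kill_pq hG 2 101 2 1 (by norm_num) (by norm_num) (hn.trans (by norm_num))).elim
  · exact (kill_pq hG 3 5 4 1 (by norm_num) (by norm_num) (hn.trans (by norm_num))).elim
  · exact (kill_two_odd 203 (by norm_num) (by decide) (hn.trans (by norm_num))).elim
  · exact (kill_pq hG 11 37 1 1 (by norm_num) (by norm_num) (hn.trans (by norm_num))).elim
  · exact (kill_sylow hG 408 17 1 24 (by norm_num) hn (by norm_num) (by norm_num) (by decide) (by decide +kernel)).elim
  · exact (kill_pq hG 409 409 1 0 (by norm_num) (by norm_num) (hn.trans (by norm_num))).elim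
  · exact (kill_two_odd 205 (by norm_num) (by decide) (hn.trans (by norm_num))).elim
  · exact (kill_pq hG 3 137 1 1 (by norm_num) (by norm_num) (hn.trans (by norm_num))).elim
  · exact (kill_pq hG 2 103 2 1 (by norm_num) (by norm_num) (hn.trans (by norm_num))).elim
  · exact (kill_pq hG 7 59 1 1 (by norm_num) (by norm_num) (hn.trans (by norm_num))).elim
  · exact (kill_two_odd 207 (by norm_num) (by decide) (hn.trans (by norm_num))).elim
  · exact (kill_pq hG 5 83 1 1 (by norm_num) (by norm_num) (hn.trans (by norm_num))).elim
  · exact (kill_pq hG 2 13 5 1 (by norm_num) (by norm_num) (hn.trans (by norm_num))).elim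
  · exact (kill_pq hG 3 139 1 1 (by norm_num) (by norm_num) (hn.trans (by norm_num))).elim
  · exact (kill_two_odd 209 (by norm_num) (by decide) (hn.trans (by norm_num))).elim
  · exact (kill_pq hG 419 419 1 0 (by norm_num) (by norm_num) (hn.trans (by norm_num))).elim
  · exact (Cfsg.Agent.Lib.Helper71.Sieve496.no_420 hG hn).elim
  · exact (kill_pq hG 421 421 1 0 (by norm_num) (by norm_num) (hn.trans (by norm_num))).elim
  · exact (kill_pq hG 2 211 1 1 (by norm_num) (by norm_num) (hn.trans (by norm_num))).elim
  · exact (kill_pq hG 3 47 2 1 (by norm_num) (by norm_num) (hn.trans (by norm_num))).elim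
  · exact (kill_pq hG 2 53 3 1 (by norm_num) (by norm_num) (hn.trans (by norm_num))).elim
  · exact (kill_pq hG 5 17 2 1 (by norm_num) (by norm_num) (hn.trans (by norm_num))).elim
  · exact (kill_two_odd 213 (by norm_num) (by decide) (hn.trans (by norm_num))).elim
  · exact (kill_pq hG 7 61 1 1 (by norm_num) (by norm_num) (hn.trans (by norm_num))).elim
  · exact (kill_pq hG 2 107 2 1 (by norm_num) (by norm_num) (hn.trans (by norm_num))).elim
  · exact (kill_sylow hG 429 13 1 33 (by norm_num) hn (by norm_num) (by norm_num) (by decide) (by decide +kernel)).elim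
  · exact (kill_two_odd 215 (by norm_num) (by decide) (hn.trans (by norm_num))).elim
  · exact (kill_pq hG 431 431 1 0 (by norm_num) (by norm_num) (hn.trans (by norm_num))).elim
  · exact (kill_pq hG 2 3 4 3 (by norm_num) (by norm_num) (hn.trans (by norm_num))).elim
  · exact (kill_pq hG 433 433 1 0 (by norm_num) (by norm_num) (hn.trans (by norm_num))).elim
  · exact (kill_two_odd 217 (by norm_num) (by decide) (hn.trans (by norm_num))).elim
  · exact (kill_sylow hG 435 29 1 15 (by norm_num) hn (by norm_num) (by norm_num) (by decide) (by decide +kernel)).elim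
  · exact (kill_pq hG 2 109 2 1 (by norm_num) (by norm_num) (hn.trans (by norm_num))).elim
  · exact (kill_pq hG 19 23 1 1 (by norm_num) (by norm_num) (hn.trans (by norm_num))).elim
  · exact (kill_two_odd 219 (by norm_num) (by decide) (hn.trans (by norm_num))).elim
  · exact (kill_pq hG 439 439 1 0 (by norm_num) (by norm_num) (hn.trans (by norm_num))).elim
  · exact (kill_sylow hG 440 11 1 40 (by norm_num) hn (by norm_num) (by norm_num) (by decide) (by decide +kernel)).elim
  · exact (kill_pq hG 3 7 2 2 (by norm_num) (by norm_num) (hn.trans (by norm_num))).elim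
  · exact (kill_two_odd 221 (by norm_num) (by decide) (hn.trans (by norm_num))).elim
  · exact (kill_pq hG 443 443 1 0 (by norm_num) (by norm_num) (hn.trans (by norm_num))).elim
  · exact (kill_sylow hG 444 37 1 12 (by norm_num) hn (by norm_num) (by norm_num) (by decide) (by decide +kernel)).elim
  · exact (kill_pq hG 5 89 1 1 (by norm_num) (by norm_num) (hn.trans (by norm_num))).elim
  · exact (kill_pq hG 2 223 1 1 (by norm_num) (by norm_num) (hn.trans (by norm_num))).elim
  · exact (kill_pq hG 3 149 1 1 (by norm_num) (by norm_num) (hn.trans (by norm_num))).elim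
  · exact (kill_pq hG 2 7 6 1 (by norm_num) (by norm_num) (hn.trans (by norm_num))).elim
  · exact (kill_pq hG 449 449 1 0 (by norm_num) (by norm_num) (hn.trans (by norm_num))).elim
  · exact (kill_two_odd 225 (by norm_num) (by decide) (hn.trans (by norm_num))).elim
  · exact (kill_pq hG 11 41 1 1 (by norm_num) (by norm_num) (hn.trans (by norm_num))).elim
  · exact (kill_pq hG 2 113 2 1 (by norm_num) (by norm_num) (hn.trans (by norm_num))).elim
  · exact (kill_pq hG 3 151 1 1 (by norm_num) (by norm_num) (hn.trans (by norm_num))).elim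
  · exact (kill_pq hG 2 227 1 1 (by norm_num) (by norm_num) (hn.trans (by norm_num))).elim
  · exact (kill_sylow hG 455 13 1 35 (by norm_num) hn (by norm_num) (by norm_num) (by decide) (by decide +kernel)).elim
  · exact (kill_sylow hG 456 19 1 24 (by norm_num) hn (by norm_num) (by norm_num) (by decide) (by decide +kernel)).elim
  · exact (kill_pq hG 457 457 1 0 (by norm_num) (by norm_num) (hn.trans (by norm_num))).elim
  · exact (kill_pq hG 2 229 1 1 (by norm_num) (by norm_num) (hn.trans (by norm_num))).elim
  · exact (kill_pq hG 3 17 3 1 (by norm_num) (by norm_num) (hn.trans (by norm_num))).elim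
  · exact (kill_sylow hG 460 23 1 20 (by norm_num) hn (by norm_num) (by norm_num) (by decide) (by decide +kernel)).elim
  · exact (kill_pq hG 461 461 1 0 (by norm_num) (by norm_num) (hn.trans (by norm_num))).elim
  · exact (kill_two_odd 231 (by norm_num) (by decide) (hn.trans (by norm_num))).elim
  · exact (kill_pq hG 463 463 1 0 (by norm_num) (by norm_num) (hn.trans (by norm_num))).elim
  · exact (kill_pq hG 2 29 4 1 (by norm_num) (by norm_num) (hn.trans (by norm_num))).elim
  · exact (kill_sylow hG 465 31 1 15 (by norm_num) hn (by norm_num) (by norm_num) (by decide) (by decide +kernel)).elim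
  · exact (kill_pq hG 2 233 1 1 (by norm_num) (by norm_num) (hn.trans (by norm_num))).elim
  · exact (kill_pq hG 467 467 1 0 (by norm_num) (by norm_num) (hn.trans (by norm_num))).elim
  · exact (kill_sylow hG 468 13 1 36 (by norm_num) hn (by norm_num) (by norm_num) (by decide) (by decide +kernel)).elim
  · exact (kill_pq hG 7 67 1 1 (by norm_num) (by norm_num) (hn.trans (by norm_num))).elim
  · exact (kill_two_odd 235 (by norm_num) (by decide) (hn.trans (by norm_num))).elim
  · exact (kill_pq hG 3 157 1 1 (by norm_num) (by norm_num) (hn.trans (by norm_num))).elim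
  · exact (kill_pq hG 2 59 3 1 (by norm_num) (by norm_num) (hn.trans (by norm_num))).elim
  · exact (kill_pq hG 11 43 1 1 (by norm_num) (by norm_num) (hn.trans (by norm_num))).elim
  · exact (kill_two_odd 237 (by norm_num) (by decide) (hn.trans (by norm_num))).elim
  · exact (kill_pq hG 5 19 2 1 (by norm_num) (by norm_num) (hn.trans (by norm_num))).elim
  · exact (kill_sylow hG 476 17 1 28 (by norm_num) hn (by norm_num) (by norm_num) (by decide) (by decide +kernel)).elim
  · exact (kill_pq hG 3 53 2 1 (by norm_num) (by norm_num) (hn.trans (by norm_num))).elim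
  · exact (kill_pq hG 2 239 1 1 (by norm_num) (by norm_num) (hn.trans (by norm_num))).elim
  · exact (kill_pq hG 479 479 1 0 (by norm_num) (by norm_num) (hn.trans (by norm_num))).elim
  · exact (kill_pqr hG 480 2 5 3 5 1 (by norm_num) (by norm_num) (by norm_num) (by decide) (by decide) (by decide) hn (by norm_num) (by decide)).elim
  · exact (kill_pq hG 13 37 1 1 (by norm_num) (by norm_num) (hn.trans (by norm_num))).elim
  · exact (kill_pq hG 2 241 1 1 (by norm_num) (by norm_num) (hn.trans (by norm_num))).elim
  · exact (kill_sylow hG 483 23 1 21 (by norm_num) hn (by norm_num) (by norm_num) (by decide) (by decide +kernel)).elim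
  · exact (kill_pq hG 2 11 2 2 (by norm_num) (by norm_num) (hn.trans (by norm_num))).elim
  · exact (kill_pq hG 5 97 1 1 (by norm_num) (by norm_num) (hn.trans (by norm_num))).elim
  · exact (kill_pq hG 2 3 1 5 (by norm_num) (by norm_num) (hn.trans (by norm_num))).elim
  · exact (kill_pq hG 487 487 1 0 (by norm_num) (by norm_num) (hn.trans (by norm_num))).elim
  · exact (kill_pq hG 2 61 3 1 (by norm_num) (by norm_num) (hn.trans (by norm_num))).elim
  · exact (kill_pq hG 3 163 1 1 (by norm_num) (by norm_num) (hn.trans (by norm_num))).elim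
  · exact (kill_two_odd 245 (by norm_num) (by decide) (hn.trans (by norm_num))).elim
  · exact (kill_pq hG 491 491 1 0 (by norm_num) (by norm_num) (hn.trans (by norm_num))).elim
  · exact (kill_sylow hG 492 41 1 12 (by norm_num) hn (by norm_num) (by norm_num) (by decide) (by decide +kernel)).elim
  · exact (kill_pq hG 17 29 1 1 (by norm_num) (by norm_num) (hn.trans (by norm_num))).elim
  · exact (kill_two_odd 247 (by norm_num) (by decide) (hn.trans (by norm_num))).elim
  · exact (kill_sylow hG 495 11 1 45 (by norm_num) hn (by norm_num) (by norm_num) (by decide) (by decide +kernel)).elim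
  · exact (kill_pq hG 2 31 4 1 (by norm_num) (by norm_num) (hn.trans (by norm_num))).elim
  · exact (kill_pq hG 7 71 1 1 (by norm_num) (by norm_num) (hn.trans (by norm_num))).elim
  · exact (kill_two_odd 249 (by norm_num) (by decide) (hn.trans (by norm_num))).elim
  · exact (kill_pq hG 499 499 1 0 (by norm_num) (by norm_num) (hn.trans (by norm_num))).elim
  · exact (kill_pq hG 2 5 2 3 (by norm_num) (by norm_num) (hn.trans (by norm_num))).elim

theorem range_5 {G : Type*} [Group G] [Finite G] [IsSimpleGroup G] (hG : ¬ IsMulCommutative G)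
    (n : ℕ) (hn : Nat.card G = n) (hlo : 501 ≤ n) (hhi : n ≤ 600) :
    n = 60 ∨ n = 168 ∨ n = 360 ∨ n = 504 ∨ n = 660 ∨ n = 1092 := by
  interval_cases n
  · exact (kill_pq hG 3 167 1 1 (by norm_num) (by norm_num) (hn.trans (by norm_num))).elim
  · exact (kill_pq hG 2 251 1 1 (by norm_num) (by norm_num) (hn.trans (by norm_num))).elim
  · exact (kill_pq hG 503 503 1 0 (by norm_num) (by norm_num) (hn.trans (by norm_num))).elim
  · norm_num
  · exact (kill_pq hG 5 101 1 1 (by norm_num) (by norm_num) (hn.trans (by norm_num))).elim
  · exact (kill_two_odd 253 (by norm_num) (by decide) (hn.trans (by norm_num))).elim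
  · exact (kill_pq hG 3 13 1 2 (by norm_num) (by norm_num) (hn.trans (by norm_num))).elim
  · exact (kill_pq hG 2 127 2 1 (by norm_num) (by norm_num) (hn.trans (by norm_num))).elim
  · exact (kill_pq hG 509 509 1 0 (by norm_num) (by norm_num) (hn.trans (by norm_num))).elim
  · exact (kill_two_odd 255 (by norm_num) (by decide) (hn.trans (by norm_num))).elim
  · exact (kill_pq hG 7 73 1 1 (by norm_num) (by norm_num) (hn.trans (by norm_num))).elim
  · exact (kill_pq hG 2 2 9 0 (by norm_num) (by norm_num) (hn.trans (by norm_num))).elim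
  · exact (kill_pq hG 3 19 3 1 (by norm_num) (by norm_num) (hn.trans (by norm_num))).elim
  · exact (kill_pq hG 2 257 1 1 (by norm_num) (by norm_num) (hn.trans (by norm_num))).elim
  · exact (kill_pq hG 5 103 1 1 (by norm_num) (by norm_num) (hn.trans (by norm_num))).elim
  · exact (kill_sylow hG 516 43 1 12 (by norm_num) hn (by norm_num) (by norm_num) (by decide) (by decide +kernel)).elim
  · exact (kill_pq hG 11 47 1 1 (by norm_num) (by norm_num) (hn.trans (by norm_num))).elim
  · exact (kill_two_odd 259 (by norm_num) (by decide) (hn.trans (by norm_num))).elim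
  · exact (kill_pq hG 3 173 1 1 (by norm_num) (by norm_num) (hn.trans (by norm_num))).elim
  · exact (kill_sylow hG 520 13 1 40 (by norm_num) hn (by norm_num) (by norm_num) (by decide) (by decide +kernel)).elim
  · exact (kill_pq hG 521 521 1 0 (by norm_num) (by norm_num) (hn.trans (by norm_num))).elim
  · exact (kill_two_odd 261 (by norm_num) (by decide) (hn.trans (by norm_num))).elim
  · exact (kill_pq hG 523 523 1 0 (by norm_num) (by norm_num) (hn.trans (by norm_num))).elim
  · exact (kill_pq hG 2 131 2 1 (by norm_num) (by norm_num) (hn.trans (by norm_num))).elim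
  · exact (kill_sylow hG 525 7 1 75 (by norm_num) hn (by norm_num) (by norm_num) (by decide) (by decide +kernel)).elim
  · exact (kill_pq hG 2 263 1 1 (by norm_num) (by norm_num) (hn.trans (by norm_num))).elim
  · exact (kill_pq hG 17 31 1 1 (by norm_num) (by norm_num) (hn.trans (by norm_num))).elim
  · exact (kill_pqr hG 528 2 3 11 4 1 (by norm_num) (by norm_num) (by norm_num) (by decide) (by decide) (by decide) hn (by norm_num) (by decide)).elim
  · exact (kill_pq hG 23 23 2 0 (by norm_num) (by norm_num) (hn.trans (by norm_num))).elim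
  · exact (kill_two_odd 265 (by norm_num) (by decide) (hn.trans (by norm_num))).elim
  · exact (kill_pq hG 3 59 2 1 (by norm_num) (by norm_num) (hn.trans (by norm_num))).elim
  · exact (kill_sylow hG 532 19 1 28 (by norm_num) hn (by norm_num) (by norm_num) (by decide) (by decide +kernel)).elim
  · exact (kill_pq hG 13 41 1 1 (by norm_num) (by norm_num) (hn.trans (by norm_num))).elim
  · exact (kill_two_odd 267 (by norm_num) (by decide) (hn.trans (by norm_num))).elim
  · exact (kill_pq hG 5 107 1 1 (by norm_num) (by norm_num) (hn.trans (by norm_num))).elim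
  · exact (kill_pq hG 2 67 3 1 (by norm_num) (by norm_num) (hn.trans (by norm_num))).elim
  · exact (kill_pq hG 3 179 1 1 (by norm_num) (by norm_num) (hn.trans (by norm_num))).elim
  · exact (kill_pq hG 2 269 1 1 (by norm_num) (by norm_num) (hn.trans (by norm_num))).elim
  · exact (kill_pq hG 7 11 2 1 (by norm_num) (by norm_num) (hn.trans (by norm_num))).elim
  · exact (kill_sylow hG 540 5 1 108 (by norm_num) hn (by norm_num) (by norm_num) (by decide) (by decide +kernel)).elim
  · exact (kill_pq hG 541 541 1 0 (by norm_num) (by norm_num) (hn.trans (by norm_num))).elim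
  · exact (kill_pq hG 2 271 1 1 (by norm_num) (by norm_num) (hn.trans (by norm_num))).elim
  · exact (kill_pq hG 3 181 1 1 (by norm_num) (by norm_num) (hn.trans (by norm_num))).elim
  · exact (kill_pq hG 2 17 5 1 (by norm_num) (by norm_num) (hn.trans (by norm_num))).elim
  · exact (kill_pq hG 5 109 1 1 (by norm_num) (by norm_num) (hn.trans (by norm_num))).elim
  · exact (kill_two_odd 273 (by norm_num) (by decide) (hn.trans (by norm_num))).elim
  · exact (kill_pq hG 547 547 1 0 (by norm_num) (by norm_num) (hn.trans (by norm_num))).elim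
  · exact (kill_pq hG 2 137 2 1 (by norm_num) (by norm_num) (hn.trans (by norm_num))).elim
  · exact (kill_pq hG 3 61 2 1 (by norm_num) (by norm_num) (hn.trans (by norm_num))).elim
  · exact (kill_two_odd 275 (by norm_num) (by decide) (hn.trans (by norm_num))).elim
  · exact (kill_pq hG 19 29 1 1 (by norm_num) (by norm_num) (hn.trans (by norm_num))).elim
  · exact (kill_sylow hG 552 23 1 24 (by norm_num) hn (by norm_num) (by norm_num) (by decide) (by decide +kernel)).elim
  · exact (kill_pq hG 7 79 1 1 (by norm_num) (by norm_num) (hn.trans (by norm_num))).elim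
  · exact (kill_pq hG 2 277 1 1 (by norm_num) (by norm_num) (hn.trans (by norm_num))).elim
  · exact (kill_sylow hG 555 37 1 15 (by norm_num) hn (by norm_num) (by norm_num) (by decide) (by decide +kernel)).elim
  · exact (kill_pq hG 2 139 2 1 (by norm_num) (by norm_num) (hn.trans (by norm_num))).elim
  · exact (kill_pq hG 557 557 1 0 (by norm_num) (by norm_num) (hn.trans (by norm_num))).elim
  · exact (kill_two_odd 279 (by norm_num) (by decide) (hn.trans (by norm_num))).elim
  · exact (kill_pq hG 13 43 1 1 (by norm_num) (by norm_num) (hn.trans (by norm_num))).elim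
  · exact (kill_pqr hG 560 2 5 7 4 1 (by norm_num) (by norm_num) (by norm_num) (by decide) (by decide) (by decide) hn (by norm_num) (by decide)).elim
  · exact (kill_sylow hG 561 17 1 33 (by norm_num) hn (by norm_num) (by norm_num) (by decide) (by decide +kernel)).elim
  · exact (kill_pq hG 2 281 1 1 (by norm_num) (by norm_num) (hn.trans (by norm_num))).elim
  · exact (kill_pq hG 563 563 1 0 (by norm_num) (by norm_num) (hn.trans (by norm_num))).elim
  · exact (kill_sylow hG 564 47 1 12 (by norm_num) hn (by norm_num) (by norm_num) (by decide) (by decide +kernel)).elim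
  · exact (kill_pq hG 5 113 1 1 (by norm_num) (by norm_num) (hn.trans (by norm_num))).elim
  · exact (kill_pq hG 2 283 1 1 (by norm_num) (by norm_num) (hn.trans (by norm_num))).elim
  · exact (kill_pq hG 3 7 4 1 (by norm_num) (by norm_num) (hn.trans (by norm_num))).elim
  · exact (kill_pq hG 2 71 3 1 (by norm_num) (by norm_num) (hn.trans (by norm_num))).elim
  · exact (kill_pq hG 569 569 1 0 (by norm_num) (by norm_num) (hn.trans (by norm_num))).elim
  · exact (kill_two_odd 285 (by norm_num) (by decide) (hn.trans (by norm_num))).elim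
  · exact (kill_pq hG 571 571 1 0 (by norm_num) (by norm_num) (hn.trans (by norm_num))).elim
  · exact (kill_sylow hG 572 13 1 44 (by norm_num) hn (by norm_num) (by norm_num) (by decide) (by decide +kernel)).elim
  · exact (kill_pq hG 3 191 1 1 (by norm_num) (by norm_num) (hn.trans (by norm_num))).elim
  · exact (kill_two_odd 287 (by norm_num) (by decide) (hn.trans (by norm_num))).elim
  · exact (kill_pq hG 5 23 2 1 (by norm_num) (by norm_num) (hn.trans (by norm_num))).elim
  · exact (kill_pq hG 2 3 6 2 (by norm_num) (by norm_num) (hn.trans (by norm_num))).elim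
  · exact (kill_pq hG 577 577 1 0 (by norm_num) (by norm_num) (hn.trans (by norm_num))).elim
  · exact (kill_pq hG 2 17 1 2 (by norm_num) (by norm_num) (hn.trans (by norm_num))).elim
  · exact (kill_pq hG 3 193 1 1 (by norm_num) (by norm_num) (hn.trans (by norm_num))).elim
  · exact (kill_sylow hG 580 29 1 20 (by norm_num) hn (by norm_num) (by norm_num) (by decide) (by decide +kernel)).elim
  · exact (kill_pq hG 7 83 1 1 (by norm_num) (by norm_num) (hn.trans (by norm_num))).elim
  · exact (kill_two_odd 291 (by norm_num) (by decide) (hn.trans (by norm_num))).elim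
  · exact (kill_pq hG 11 53 1 1 (by norm_num) (by norm_num) (hn.trans (by norm_num))).elim
  · exact (kill_pq hG 2 73 3 1 (by norm_num) (by norm_num) (hn.trans (by norm_num))).elim
  · exact (kill_sylow hG 585 13 1 45 (by norm_num) hn (by norm_num) (by norm_num) (by decide) (by decide +kernel)).elim
  · exact (kill_pq hG 2 293 1 1 (by norm_num) (by norm_num) (hn.trans (by norm_num))).elim
  · exact (kill_pq hG 587 587 1 0 (by norm_num) (by norm_num) (hn.trans (by norm_num))).elim
  · exact (kill_sylow hG 588 7 2 12 (by norm_num) hn (by norm_num) (by norm_num) (by decide) (by decide +kernel)).elim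
  · exact (kill_pq hG 19 31 1 1 (by norm_num) (by norm_num) (hn.trans (by norm_num))).elim
  · exact (kill_two_odd 295 (by norm_num) (by decide) (hn.trans (by norm_num))).elim
  · exact (kill_pq hG 3 197 1 1 (by norm_num) (by norm_num) (hn.trans (by norm_num))).elim
  · exact (kill_pq hG 2 37 4 1 (by norm_num) (by norm_num) (hn.trans (by norm_num))).elim
  · exact (kill_pq hG 593 593 1 0 (by norm_num) (by norm_num) (hn.trans (by norm_num))).elim
  · exact (kill_two_odd 297 (by norm_num) (by decide) (hn.trans (by norm_num))).elim
  · exact (kill_sylow hG 595 17 1 35 (by norm_num) hn (by norm_num) (by norm_num) (by decide) (by decide +kernel)).elim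
  · exact (kill_pq hG 2 149 2 1 (by norm_num) (by norm_num) (hn.trans (by norm_num))).elim
  · exact (kill_pq hG 3 199 1 1 (by norm_num) (by norm_num) (hn.trans (by norm_num))).elim
  · exact (kill_two_odd 299 (by norm_num) (by decide) (hn.trans (by norm_num))).elim
  · exact (kill_pq hG 599 599 1 0 (by norm_num) (by norm_num) (hn.trans (by norm_num))).elim
  · exact (kill_sylow hG 600 5 2 24 (by norm_num) hn (by norm_num) (by norm_num) (by decide) (by decide +kernel)).elim

theorem range_6 {G : Type*} [Group G] [Finite G] [IsSimpleGroup G] (hG : ¬ IsMulCommutative G)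
    (n : ℕ) (hn : Nat.card G = n) (hlo : 601 ≤ n) (hhi : n ≤ 700) :
    n = 60 ∨ n = 168 ∨ n = 360 ∨ n = 504 ∨ n = 660 ∨ n = 1092 := by
  interval_cases n
  · exact (kill_pq hG 601 601 1 0 (by norm_num) (by norm_num) (hn.trans (by norm_num))).elim
  · exact (kill_two_odd 301 (by norm_num) (by decide) (hn.trans (by norm_num))).elim
  · exact (kill_pq hG 3 67 2 1 (by norm_num) (by norm_num) (hn.trans (by norm_num))).elim
  · exact (kill_pq hG 2 151 2 1 (by norm_num) (by norm_num) (hn.trans (by norm_num))).elim
  · exact (kill_pq hG 5 11 1 2 (by norm_num) (by norm_num) (hn.trans (by norm_num))).elim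
  · exact (kill_two_odd 303 (by norm_num) (by decide) (hn.trans (by norm_num))).elim
  · exact (kill_pq hG 607 607 1 0 (by norm_num) (by norm_num) (hn.trans (by norm_num))).elim
  · exact (kill_pq hG 2 19 5 1 (by norm_num) (by norm_num) (hn.trans (by norm_num))).elim
  · exact (kill_sylow hG 609 29 1 21 (by norm_num) hn (by norm_num) (by norm_num) (by decide) (by decide +kernel)).elim
  · exact (kill_two_odd 305 (by norm_num) (by decide) (hn.trans (by norm_num))).elim
  · exact (kill_pq hG 13 47 1 1 (by norm_num) (by norm_num) (hn.trans (by norm_num))).elim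
  · exact (Cfsg.Agent.Lib.Helper71.Sieve496.no_612 hG hn).elim
  · exact (kill_pq hG 613 613 1 0 (by norm_num) (by norm_num) (hn.trans (by norm_num))).elim
  · exact (kill_pq hG 2 307 1 1 (by norm_num) (by norm_num) (hn.trans (by norm_num))).elim
  · exact (kill_sylow hG 615 41 1 15 (by norm_num) hn (by norm_num) (by norm_num) (by decide) (by decide +kernel)).elim
  · exact (kill_sylow hG 616 11 1 56 (by norm_num) hn (by norm_num) (by norm_num) (by decide) (by decide +kernel)).elim
  · exact (kill_pq hG 617 617 1 0 (by norm_num) (by norm_num) (hn.trans (by norm_num))).elim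
  · exact (kill_two_odd 309 (by norm_num) (by decide) (hn.trans (by norm_num))).elim
  · exact (kill_pq hG 619 619 1 0 (by norm_num) (by norm_num) (hn.trans (by norm_num))).elim
  · exact (kill_sylow hG 620 31 1 20 (by norm_num) hn (by norm_num) (by norm_num) (by decide) (by decide +kernel)).elim
  · exact (kill_pq hG 3 23 3 1 (by norm_num) (by norm_num) (hn.trans (by norm_num))).elim
  · exact (kill_pq hG 2 311 1 1 (by norm_num) (by norm_num) (hn.trans (by norm_num))).elim
  · exact (kill_pq hG 7 89 1 1 (by norm_num) (by norm_num) (hn.trans (by norm_num))).elim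
  · exact (kill_sylow hG 624 13 1 48 (by norm_num) hn (by norm_num) (by norm_num) (by decide) (by decide +kernel)).elim
  · exact (kill_pq hG 5 5 4 0 (by norm_num) (by norm_num) (hn.trans (by norm_num))).elim
  · exact (kill_pq hG 2 313 1 1 (by norm_num) (by norm_num) (hn.trans (by norm_num))).elim
  · exact (kill_sylow hG 627 19 1 33 (by norm_num) hn (by norm_num) (by norm_num) (by decide) (by decide +kernel)).elim
  · exact (kill_pq hG 2 157 2 1 (by norm_num) (by norm_num) (hn.trans (by norm_num))).elim
  · exact (kill_pq hG 17 37 1 1 (by norm_num) (by norm_num) (hn.trans (by norm_num))).elim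
  · exact (kill_two_odd 315 (by norm_num) (by decide) (hn.trans (by norm_num))).elim
  · exact (kill_pq hG 631 631 1 0 (by norm_num) (by norm_num) (hn.trans (by norm_num))).elim
  · exact (kill_pq hG 2 79 3 1 (by norm_num) (by norm_num) (hn.trans (by norm_num))).elim
  · exact (kill_pq hG 3 211 1 1 (by norm_num) (by norm_num) (hn.trans (by norm_num))).elim
  · exact (kill_pq hG 2 317 1 1 (by norm_num) (by norm_num) (hn.trans (by norm_num))).elim
  · exact (kill_pq hG 5 127 1 1 (by norm_num) (by norm_num) (hn.trans (by norm_num))).elim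
  · exact (kill_sylow hG 636 53 1 12 (by norm_num) hn (by norm_num) (by norm_num) (by decide) (by decide +kernel)).elim
  · exact (kill_pq hG 7 13 2 1 (by norm_num) (by norm_num) (hn.trans (by norm_num))).elim
  · exact (kill_two_odd 319 (by norm_num) (by decide) (hn.trans (by norm_num))).elim
  · exact (kill_pq hG 3 71 2 1 (by norm_num) (by norm_num) (hn.trans (by norm_num))).elim
  · exact (kill_pq hG 2 5 7 1 (by norm_num) (by norm_num) (hn.trans (by norm_num))).elim
  · exact (kill_pq hG 641 641 1 0 (by norm_num) (by norm_num) (hn.trans (by norm_num))).elim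
  · exact (kill_two_odd 321 (by norm_num) (by decide) (hn.trans (by norm_num))).elim
  · exact (kill_pq hG 643 643 1 0 (by norm_num) (by norm_num) (hn.trans (by norm_num))).elim
  · exact (kill_sylow hG 644 23 1 28 (by norm_num) hn (by norm_num) (by norm_num) (by decide) (by decide +kernel)).elim
  · exact (kill_sylow hG 645 43 1 15 (by norm_num) hn (by norm_num) (by norm_num) (by decide) (by decide +kernel)).elim
  · exact (kill_two_odd 323 (by norm_num) (by decide) (hn.trans (by norm_num))).elim
  · exact (kill_pq hG 647 647 1 0 (by norm_num) (by norm_num) (hn.trans (by norm_num))).elim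
  · exact (kill_pq hG 2 3 3 4 (by norm_num) (by norm_num) (hn.trans (by norm_num))).elim
  · exact (kill_pq hG 11 59 1 1 (by norm_num) (by norm_num) (hn.trans (by norm_num))).elim
  · exact (kill_two_odd 325 (by norm_num) (by decide) (hn.trans (by norm_num))).elim
  · exact (kill_sylow hG 651 31 1 21 (by norm_num) hn (by norm_num) (by norm_num) (by decide) (by decide +kernel)).elim
  · exact (kill_pq hG 2 163 2 1 (by norm_num) (by norm_num) (hn.trans (by norm_num))).elim
  · exact (kill_pq hG 653 653 1 0 (by norm_num) (by norm_num) (hn.trans (by norm_num))).elim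
  · exact (kill_two_odd 327 (by norm_num) (by decide) (hn.trans (by norm_num))).elim
  · exact (kill_pq hG 5 131 1 1 (by norm_num) (by norm_num) (hn.trans (by norm_num))).elim
  · exact (kill_pq hG 2 41 4 1 (by norm_num) (by norm_num) (hn.trans (by norm_num))).elim
  · exact (kill_pq hG 3 73 2 1 (by norm_num) (by norm_num) (hn.trans (by norm_num))).elim
  · exact (kill_two_odd 329 (by norm_num) (by decide) (hn.trans (by norm_num))).elim
  · exact (kill_pq hG 659 659 1 0 (by norm_num) (by norm_num) (hn.trans (by norm_num))).elim
  · norm_num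
  · exact (kill_pq hG 661 661 1 0 (by norm_num) (by norm_num) (hn.trans (by norm_num))).elim
  · exact (kill_pq hG 2 331 1 1 (by norm_num) (by norm_num) (hn.trans (by norm_num))).elim
  · exact (kill_sylow hG 663 17 1 39 (by norm_num) hn (by norm_num) (by norm_num) (by decide) (by decide +kernel)).elim
  · exact (kill_pq hG 2 83 3 1 (by norm_num) (by norm_num) (hn.trans (by norm_num))).elim
  · exact (kill_sylow hG 665 19 1 35 (by norm_num) hn (by norm_num) (by norm_num) (by decide) (by decide +kernel)).elim
  · exact (kill_two_odd 333 (by norm_num) (by decide) (hn.trans (by norm_num))).elim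
  · exact (kill_pq hG 23 29 1 1 (by norm_num) (by norm_num) (hn.trans (by norm_num))).elim
  · exact (kill_pq hG 2 167 2 1 (by norm_num) (by norm_num) (hn.trans (by norm_num))).elim
  · exact (kill_pq hG 3 223 1 1 (by norm_num) (by norm_num) (hn.trans (by norm_num))).elim
  · exact (kill_two_odd 335 (by norm_num) (by decide) (hn.trans (by norm_num))).elim
  · exact (kill_pq hG 11 61 1 1 (by norm_num) (by norm_num) (hn.trans (by norm_num))).elim
  · exact (kill_pqr hG 672 2 3 7 5 1 (by norm_num) (by norm_num) (by norm_num) (by decide) (by decide) (by decide) hn (by norm_num) (by decide)).elim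
  · exact (kill_pq hG 673 673 1 0 (by norm_num) (by norm_num) (hn.trans (by norm_num))).elim
  · exact (kill_pq hG 2 337 1 1 (by norm_num) (by norm_num) (hn.trans (by norm_num))).elim
  · exact (kill_pq hG 3 5 3 2 (by norm_num) (by norm_num) (hn.trans (by norm_num))).elim
  · exact (kill_pq hG 2 13 2 2 (by norm_num) (by norm_num) (hn.trans (by norm_num))).elim
  · exact (kill_pq hG 677 677 1 0 (by norm_num) (by norm_num) (hn.trans (by norm_num))).elim
  · exact (kill_two_odd 339 (by norm_num) (by decide) (hn.trans (by norm_num))).elim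
  · exact (kill_pq hG 7 97 1 1 (by norm_num) (by norm_num) (hn.trans (by norm_num))).elim
  · exact (kill_sylow hG 680 17 1 40 (by norm_num) hn (by norm_num) (by norm_num) (by decide) (by decide +kernel)).elim
  · exact (kill_pq hG 3 227 1 1 (by norm_num) (by norm_num) (hn.trans (by norm_num))).elim
  · exact (kill_two_odd 341 (by norm_num) (by decide) (hn.trans (by norm_num))).elim
  · exact (kill_pq hG 683 683 1 0 (by norm_num) (by norm_num) (hn.trans (by norm_num))).elim
  · exact (kill_sylow hG 684 19 1 36 (by norm_num) hn (by norm_num) (by norm_num) (by decide) (by decide +kernel)).elim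
  · exact (kill_pq hG 5 137 1 1 (by norm_num) (by norm_num) (hn.trans (by norm_num))).elim
  · exact (kill_pq hG 2 7 1 3 (by norm_num) (by norm_num) (hn.trans (by norm_num))).elim
  · exact (kill_pq hG 3 229 1 1 (by norm_num) (by norm_num) (hn.trans (by norm_num))).elim
  · exact (kill_pq hG 2 43 4 1 (by norm_num) (by norm_num) (hn.trans (by norm_num))).elim
  · exact (kill_pq hG 13 53 1 1 (by norm_num) (by norm_num) (hn.trans (by norm_num))).elim
  · exact (kill_two_odd 345 (by norm_num) (by decide) (hn.trans (by norm_num))).elim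
  · exact (kill_pq hG 691 691 1 0 (by norm_num) (by norm_num) (hn.trans (by norm_num))).elim
  · exact (kill_pq hG 2 173 2 1 (by norm_num) (by norm_num) (hn.trans (by norm_num))).elim
  · exact (kill_sylow hG 693 11 1 63 (by norm_num) hn (by norm_num) (by norm_num) (by decide) (by decide +kernel)).elim
  · exact (kill_pq hG 2 347 1 1 (by norm_num) (by norm_num) (hn.trans (by norm_num))).elim
  · exact (kill_pq hG 5 139 1 1 (by norm_num) (by norm_num) (hn.trans (by norm_num))).elim
  · exact (kill_sylow hG 696 29 1 24 (by norm_num) hn (by norm_num) (by norm_num) (by decide) (by decide +kernel)).elim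
  · exact (kill_pq hG 17 41 1 1 (by norm_num) (by norm_num) (hn.trans (by norm_num))).elim
  · exact (kill_pq hG 2 349 1 1 (by norm_num) (by norm_num) (hn.trans (by norm_num))).elim
  · exact (kill_pq hG 3 233 1 1 (by norm_num) (by norm_num) (hn.trans (by norm_num))).elim
  · exact (kill_sylow hG 700 5 2 28 (by norm_num) hn (by norm_num) (by norm_num) (by decide) (by decide +kernel)).elim

theorem range_7 {G : Type*} [Group G] [Finite G] [IsSimpleGroup G] (hG : ¬ IsMulCommutative G)
    (n : ℕ) (hn : Nat.card G = n) (hlo : 701 ≤ n) (hhi : n ≤ 800) :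
    n = 60 ∨ n = 168 ∨ n = 360 ∨ n = 504 ∨ n = 660 ∨ n = 1092 := by
  interval_cases n
  · exact (kill_pq hG 701 701 1 0 (by norm_num) (by norm_num) (hn.trans (by norm_num))).elim
  · exact (kill_two_odd 351 (by norm_num) (by decide) (hn.trans (by norm_num))).elim
  · exact (kill_pq hG 19 37 1 1 (by norm_num) (by norm_num) (hn.trans (by norm_num))).elim
  · exact (kill_pq hG 2 11 6 1 (by norm_num) (by norm_num) (hn.trans (by norm_num))).elim
  · exact (kill_sylow hG 705 47 1 15 (by norm_num) hn (by norm_num) (by norm_num) (by decide) (by decide +kernel)).elim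
  · exact (kill_pq hG 2 353 1 1 (by norm_num) (by norm_num) (hn.trans (by norm_num))).elim
  · exact (kill_pq hG 7 101 1 1 (by norm_num) (by norm_num) (hn.trans (by norm_num))).elim
  · exact (kill_sylow hG 708 59 1 12 (by norm_num) hn (by norm_num) (by norm_num) (by decide) (by decide +kernel)).elim
  · exact (kill_pq hG 709 709 1 0 (by norm_num) (by norm_num) (hn.trans (by norm_num))).elim
  · exact (kill_two_odd 355 (by norm_num) (by decide) (hn.trans (by norm_num))).elim
  · exact (kill_pq hG 3 79 2 1 (by norm_num) (by norm_num) (hn.trans (by norm_num))).elim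
  · exact (kill_pq hG 2 89 3 1 (by norm_num) (by norm_num) (hn.trans (by norm_num))).elim
  · exact (kill_pq hG 23 31 1 1 (by norm_num) (by norm_num) (hn.trans (by norm_num))).elim
  · exact (kill_two_odd 357 (by norm_num) (by decide) (hn.trans (by norm_num))).elim
  · exact (kill_sylow hG 715 13 1 55 (by norm_num) hn (by norm_num) (by norm_num) (by decide) (by decide +kernel)).elim
  · exact (kill_pq hG 2 179 2 1 (by norm_num) (by norm_num) (hn.trans (by norm_num))).elim
  · exact (kill_pq hG 3 239 1 1 (by norm_num) (by norm_num) (hn.trans (by norm_num))).elim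
  · exact (kill_pq hG 2 359 1 1 (by norm_num) (by norm_num) (hn.trans (by norm_num))).elim
  · exact (kill_pq hG 719 719 1 0 (by norm_num) (by norm_num) (hn.trans (by norm_num))).elim
  · exact (Cfsg.Agent.Lib.Helper71.Ord720.no_720 hG hn).elim
  · exact (kill_pq hG 7 103 1 1 (by norm_num) (by norm_num) (hn.trans (by norm_num))).elim
  · exact (kill_pq hG 2 19 1 2 (by norm_num) (by norm_num) (hn.trans (by norm_num))).elim
  · exact (kill_pq hG 3 241 1 1 (by norm_num) (by norm_num) (hn.trans (by norm_num))).elim
  · exact (kill_pq hG 2 181 2 1 (by norm_num) (by norm_num) (hn.trans (by norm_num))).elim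
  · exact (kill_pq hG 5 29 2 1 (by norm_num) (by norm_num) (hn.trans (by norm_num))).elim
  · exact (kill_two_odd 363 (by norm_num) (by decide) (hn.trans (by norm_num))).elim
  · exact (kill_pq hG 727 727 1 0 (by norm_num) (by norm_num) (hn.trans (by norm_num))).elim
  · exact (kill_sylow hG 728 7 1 104 (by norm_num) hn (by norm_num) (by norm_num) (by decide) (by decide +kernel)).elim
  · exact (kill_pq hG 3 3 6 0 (by norm_num) (by norm_num) (hn.trans (by norm_num))).elim
  · exact (kill_two_odd 365 (by norm_num) (by decide) (hn.trans (by norm_num))).elim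
  · exact (kill_pq hG 17 43 1 1 (by norm_num) (by norm_num) (hn.trans (by norm_num))).elim
  · exact (kill_sylow hG 732 61 1 12 (by norm_num) hn (by norm_num) (by norm_num) (by decide) (by decide +kernel)).elim
  · exact (kill_pq hG 733 733 1 0 (by norm_num) (by norm_num) (hn.trans (by norm_num))).elim
  · exact (kill_pq hG 2 367 1 1 (by norm_num) (by norm_num) (hn.trans (by norm_num))).elim
  · exact (kill_sylow hG 735 5 1 147 (by norm_num) hn (by norm_num) (by norm_num) (by decide) (by decide +kernel)).elim
  · exact (kill_pq hG 2 23 5 1 (by norm_num) (by norm_num) (hn.trans (by norm_num))).elim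
  · exact (kill_pq hG 11 67 1 1 (by norm_num) (by norm_num) (hn.trans (by norm_num))).elim
  · exact (kill_two_odd 369 (by norm_num) (by decide) (hn.trans (by norm_num))).elim
  · exact (kill_pq hG 739 739 1 0 (by norm_num) (by norm_num) (hn.trans (by norm_num))).elim
  · exact (kill_sylow hG 740 37 1 20 (by norm_num) hn (by norm_num) (by norm_num) (by decide) (by decide +kernel)).elim
  · exact (kill_sylow hG 741 19 1 39 (by norm_num) hn (by norm_num) (by norm_num) (by decide) (by decide +kernel)).elim
  · exact (kill_two_odd 371 (by norm_num) (by decide) (hn.trans (by norm_num))).elim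
  · exact (kill_pq hG 743 743 1 0 (by norm_num) (by norm_num) (hn.trans (by norm_num))).elim
  · exact (kill_sylow hG 744 31 1 24 (by norm_num) hn (by norm_num) (by norm_num) (by decide) (by decide +kernel)).elim
  · exact (kill_pq hG 5 149 1 1 (by norm_num) (by norm_num) (hn.trans (by norm_num))).elim
  · exact (kill_pq hG 2 373 1 1 (by norm_num) (by norm_num) (hn.trans (by norm_num))).elim
  · exact (kill_pq hG 3 83 2 1 (by norm_num) (by norm_num) (hn.trans (by norm_num))).elim
  · exact (kill_sylow hG 748 17 1 44 (by norm_num) hn (by norm_num) (by norm_num) (by decide) (by decide +kernel)).elim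
  · exact (kill_pq hG 7 107 1 1 (by norm_num) (by norm_num) (hn.trans (by norm_num))).elim
  · exact (kill_two_odd 375 (by norm_num) (by decide) (hn.trans (by norm_num))).elim
  · exact (kill_pq hG 751 751 1 0 (by norm_num) (by norm_num) (hn.trans (by norm_num))).elim
  · exact (kill_pq hG 2 47 4 1 (by norm_num) (by norm_num) (hn.trans (by norm_num))).elim
  · exact (kill_pq hG 3 251 1 1 (by norm_num) (by norm_num) (hn.trans (by norm_num))).elim
  · exact (kill_two_odd 377 (by norm_num) (by decide) (hn.trans (by norm_num))).elim
  · exact (kill_pq hG 5 151 1 1 (by norm_num) (by norm_num) (hn.trans (by norm_num))).elim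
  · exact (Cfsg.Agent.Lib.Helper71.Ord756.no_756 hG hn).elim
  · exact (kill_pq hG 757 757 1 0 (by norm_num) (by norm_num) (hn.trans (by norm_num))).elim
  · exact (kill_pq hG 2 379 1 1 (by norm_num) (by norm_num) (hn.trans (by norm_num))).elim
  · exact (kill_sylow hG 759 23 1 33 (by norm_num) hn (by norm_num) (by norm_num) (by decide) (by decide +kernel)).elim
  · exact (Cfsg.Agent.Lib.Helper71.Sieve496.no_760 hG hn).elim
  · exact (kill_pq hG 761 761 1 0 (by norm_num) (by norm_num) (hn.trans (by norm_num))).elim
  · exact (kill_two_odd 381 (by norm_num) (by decide) (hn.trans (by norm_num))).elim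
  · exact (kill_pq hG 7 109 1 1 (by norm_num) (by norm_num) (hn.trans (by norm_num))).elim
  · exact (kill_pq hG 2 191 2 1 (by norm_num) (by norm_num) (hn.trans (by norm_num))).elim
  · exact (kill_sylow hG 765 17 1 45 (by norm_num) hn (by norm_num) (by norm_num) (by decide) (by decide +kernel)).elim
  · exact (kill_pq hG 2 383 1 1 (by norm_num) (by norm_num) (hn.trans (by norm_num))).elim
  · exact (kill_pq hG 13 59 1 1 (by norm_num) (by norm_num) (hn.trans (by norm_num))).elim
  · exact (kill_pq hG 2 3 8 1 (by norm_num) (by norm_num) (hn.trans (by norm_num))).elim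
  · exact (kill_pq hG 769 769 1 0 (by norm_num) (by norm_num) (hn.trans (by norm_num))).elim
  · exact (kill_two_odd 385 (by norm_num) (by decide) (hn.trans (by norm_num))).elim
  · exact (kill_pq hG 3 257 1 1 (by norm_num) (by norm_num) (hn.trans (by norm_num))).elim
  · exact (kill_pq hG 2 193 2 1 (by norm_num) (by norm_num) (hn.trans (by norm_num))).elim
  · exact (kill_pq hG 773 773 1 0 (by norm_num) (by norm_num) (hn.trans (by norm_num))).elim
  · exact (kill_two_odd 387 (by norm_num) (by decide) (hn.trans (by norm_num))).elim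
  · exact (kill_pq hG 5 31 2 1 (by norm_num) (by norm_num) (hn.trans (by norm_num))).elim
  · exact (kill_pq hG 2 97 3 1 (by norm_num) (by norm_num) (hn.trans (by norm_num))).elim
  · exact (kill_sylow hG 777 37 1 21 (by norm_num) hn (by norm_num) (by norm_num) (by decide) (by decide +kernel)).elim
  · exact (kill_pq hG 2 389 1 1 (by norm_num) (by norm_num) (hn.trans (by norm_num))).elim
  · exact (kill_pq hG 19 41 1 1 (by norm_num) (by norm_num) (hn.trans (by norm_num))).elim
  · exact (kill_sylow hG 780 13 1 60 (by norm_num) hn (by norm_num) (by norm_num) (by decide) (by decide +kernel)).elim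
  · exact (kill_pq hG 11 71 1 1 (by norm_num) (by norm_num) (hn.trans (by norm_num))).elim
  · exact (kill_two_odd 391 (by norm_num) (by decide) (hn.trans (by norm_num))).elim
  · exact (kill_pq hG 3 29 3 1 (by norm_num) (by norm_num) (hn.trans (by norm_num))).elim
  · exact (kill_pq hG 2 7 4 2 (by norm_num) (by norm_num) (hn.trans (by norm_num))).elim
  · exact (kill_pq hG 5 157 1 1 (by norm_num) (by norm_num) (hn.trans (by norm_num))).elim
  · exact (kill_two_odd 393 (by norm_num) (by decide) (hn.trans (by norm_num))).elim
  · exact (kill_pq hG 787 787 1 0 (by norm_num) (by norm_num) (hn.trans (by norm_num))).elim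
  · exact (kill_pq hG 2 197 2 1 (by norm_num) (by norm_num) (hn.trans (by norm_num))).elim
  · exact (kill_pq hG 3 263 1 1 (by norm_num) (by norm_num) (hn.trans (by norm_num))).elim
  · exact (kill_two_odd 395 (by norm_num) (by decide) (hn.trans (by norm_num))).elim
  · exact (kill_pq hG 7 113 1 1 (by norm_num) (by norm_num) (hn.trans (by norm_num))).elim
  · exact (kill_pqr hG 792 2 3 11 3 2 (by norm_num) (by norm_num) (by norm_num) (by decide) (by decide) (by decide) hn (by norm_num) (by decide)).elim
  · exact (kill_pq hG 13 61 1 1 (by norm_num) (by norm_num) (hn.trans (by norm_num))).elim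
  · exact (kill_pq hG 2 397 1 1 (by norm_num) (by norm_num) (hn.trans (by norm_num))).elim
  · exact (kill_sylow hG 795 53 1 15 (by norm_num) hn (by norm_num) (by norm_num) (by decide) (by decide +kernel)).elim
  · exact (kill_pq hG 2 199 2 1 (by norm_num) (by norm_num) (hn.trans (by norm_num))).elim
  · exact (kill_pq hG 797 797 1 0 (by norm_num) (by norm_num) (hn.trans (by norm_num))).elim
  · exact (kill_two_odd 399 (by norm_num) (by decide) (hn.trans (by norm_num))).elim
  · exact (kill_pq hG 17 47 1 1 (by norm_num) (by norm_num) (hn.trans (by norm_num))).elim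
  · exact (kill_pq hG 2 5 5 2 (by norm_num) (by norm_num) (hn.trans (by norm_num))).elim

theorem range_8 {G : Type*} [Group G] [Finite G] [IsSimpleGroup G] (hG : ¬ IsMulCommutative G)
    (n : ℕ) (hn : Nat.card G = n) (hlo : 801 ≤ n) (hhi : n ≤ 900) :
    n = 60 ∨ n = 168 ∨ n = 360 ∨ n = 504 ∨ n = 660 ∨ n = 1092 := by
  interval_cases n
  · exact (kill_pq hG 3 89 2 1 (by norm_num) (by norm_num) (hn.trans (by norm_num))).elim
  · exact (kill_pq hG 2 401 1 1 (by norm_num) (by norm_num) (hn.trans (by norm_num))).elim
  · exact (kill_pq hG 11 73 1 1 (by norm_num) (by norm_num) (hn.trans (by norm_num))).elim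
  · exact (kill_sylow hG 804 67 1 12 (by norm_num) hn (by norm_num) (by norm_num) (by decide) (by decide +kernel)).elim
  · exact (kill_sylow hG 805 23 1 35 (by norm_num) hn (by norm_num) (by norm_num) (by decide) (by decide +kernel)).elim
  · exact (kill_two_odd 403 (by norm_num) (by decide) (hn.trans (by norm_num))).elim
  · exact (kill_pq hG 3 269 1 1 (by norm_num) (by norm_num) (hn.trans (by norm_num))).elim
  · exact (kill_pq hG 2 101 3 1 (by norm_num) (by norm_num) (hn.trans (by norm_num))).elim
  · exact (kill_pq hG 809 809 1 0 (by norm_num) (by norm_num) (hn.trans (by norm_num))).elim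
  · exact (kill_two_odd 405 (by norm_num) (by decide) (hn.trans (by norm_num))).elim
  · exact (kill_pq hG 811 811 1 0 (by norm_num) (by norm_num) (hn.trans (by norm_num))).elim
  · exact (kill_sylow hG 812 29 1 28 (by norm_num) hn (by norm_num) (by norm_num) (by decide) (by decide +kernel)).elim
  · exact (kill_pq hG 3 271 1 1 (by norm_num) (by norm_num) (hn.trans (by norm_num))).elim
  · exact (kill_two_odd 407 (by norm_num) (by decide) (hn.trans (by norm_num))).elim
  · exact (kill_pq hG 5 163 1 1 (by norm_num) (by norm_num) (hn.trans (by norm_num))).elim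
  · exact (kill_sylow hG 816 17 1 48 (by norm_num) hn (by norm_num) (by norm_num) (by decide) (by decide +kernel)).elim
  · exact (kill_pq hG 19 43 1 1 (by norm_num) (by norm_num) (hn.trans (by norm_num))).elim
  · exact (kill_pq hG 2 409 1 1 (by norm_num) (by norm_num) (hn.trans (by norm_num))).elim
  · exact (kill_sylow hG 819 13 1 63 (by norm_num) hn (by norm_num) (by norm_num) (by decide) (by decide +kernel)).elim
  · exact (kill_sylow hG 820 41 1 20 (by norm_num) hn (by norm_num) (by norm_num) (by decide) (by decide +kernel)).elim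
  · exact (kill_pq hG 821 821 1 0 (by norm_num) (by norm_num) (hn.trans (by norm_num))).elim
  · exact (kill_two_odd 411 (by norm_num) (by decide) (hn.trans (by norm_num))).elim
  · exact (kill_pq hG 823 823 1 0 (by norm_num) (by norm_num) (hn.trans (by norm_num))).elim
  · exact (kill_pq hG 2 103 3 1 (by norm_num) (by norm_num) (hn.trans (by norm_num))).elim
  · exact (kill_sylow hG 825 11 1 75 (by norm_num) hn (by norm_num) (by norm_num) (by decide) (by decide +kernel)).elim
  · exact (kill_two_odd 413 (by norm_num) (by decide) (hn.trans (by norm_num))).elim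
  · exact (kill_pq hG 827 827 1 0 (by norm_num) (by norm_num) (hn.trans (by norm_num))).elim
  · exact (kill_sylow hG 828 23 1 36 (by norm_num) hn (by norm_num) (by norm_num) (by decide) (by decide +kernel)).elim
  · exact (kill_pq hG 829 829 1 0 (by norm_num) (by norm_num) (hn.trans (by norm_num))).elim
  · exact (kill_two_odd 415 (by norm_num) (by decide) (hn.trans (by norm_num))).elim
  · exact (kill_pq hG 3 277 1 1 (by norm_num) (by norm_num) (hn.trans (by norm_num))).elim
  · exact (kill_pq hG 2 13 6 1 (by norm_num) (by norm_num) (hn.trans (by norm_num))).elim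
  · exact (kill_pq hG 7 17 2 1 (by norm_num) (by norm_num) (hn.trans (by norm_num))).elim
  · exact (kill_two_odd 417 (by norm_num) (by decide) (hn.trans (by norm_num))).elim
  · exact (kill_pq hG 5 167 1 1 (by norm_num) (by norm_num) (hn.trans (by norm_num))).elim
  · exact (kill_sylow hG 836 19 1 44 (by norm_num) hn (by norm_num) (by norm_num) (by decide) (by decide +kernel)).elim
  · exact (kill_pq hG 3 31 3 1 (by norm_num) (by norm_num) (hn.trans (by norm_num))).elim
  · exact (kill_pq hG 2 419 1 1 (by norm_num) (by norm_num) (hn.trans (by norm_num))).elim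
  · exact (kill_pq hG 839 839 1 0 (by norm_num) (by norm_num) (hn.trans (by norm_num))).elim
  · exact (Cfsg.Agent.Lib.Helper71.Sieve496.no_840 hG hn).elim
  · exact (kill_pq hG 29 29 2 0 (by norm_num) (by norm_num) (hn.trans (by norm_num))).elim
  · exact (kill_pq hG 2 421 1 1 (by norm_num) (by norm_num) (hn.trans (by norm_num))).elim
  · exact (kill_pq hG 3 281 1 1 (by norm_num) (by norm_num) (hn.trans (by norm_num))).elim
  · exact (kill_pq hG 2 211 2 1 (by norm_num) (by norm_num) (hn.trans (by norm_num))).elim
  · exact (kill_pq hG 5 13 1 2 (by norm_num) (by norm_num) (hn.trans (by norm_num))).elim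
  · exact (kill_two_odd 423 (by norm_num) (by decide) (hn.trans (by norm_num))).elim
  · exact (kill_pq hG 7 11 1 2 (by norm_num) (by norm_num) (hn.trans (by norm_num))).elim
  · exact (kill_pq hG 2 53 4 1 (by norm_num) (by norm_num) (hn.trans (by norm_num))).elim
  · exact (kill_pq hG 3 283 1 1 (by norm_num) (by norm_num) (hn.trans (by norm_num))).elim
  · exact (kill_two_odd 425 (by norm_num) (by decide) (hn.trans (by norm_num))).elim
  · exact (kill_pq hG 23 37 1 1 (by norm_num) (by norm_num) (hn.trans (by norm_num))).elim
  · exact (kill_sylow hG 852 71 1 12 (by norm_num) hn (by norm_num) (by norm_num) (by decide) (by decide +kernel)).elim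
  · exact (kill_pq hG 853 853 1 0 (by norm_num) (by norm_num) (hn.trans (by norm_num))).elim
  · exact (kill_two_odd 427 (by norm_num) (by decide) (hn.trans (by norm_num))).elim
  · exact (kill_sylow hG 855 19 1 45 (by norm_num) hn (by norm_num) (by norm_num) (by decide) (by decide +kernel)).elim
  · exact (kill_pq hG 2 107 3 1 (by norm_num) (by norm_num) (hn.trans (by norm_num))).elim
  · exact (kill_pq hG 857 857 1 0 (by norm_num) (by norm_num) (hn.trans (by norm_num))).elim
  · exact (kill_two_odd 429 (by norm_num) (by decide) (hn.trans (by norm_num))).elim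
  · exact (kill_pq hG 859 859 1 0 (by norm_num) (by norm_num) (hn.trans (by norm_num))).elim
  · exact (kill_sylow hG 860 43 1 20 (by norm_num) hn (by norm_num) (by norm_num) (by decide) (by decide +kernel)).elim
  · exact (kill_sylow hG 861 41 1 21 (by norm_num) hn (by norm_num) (by norm_num) (by decide) (by decide +kernel)).elim
  · exact (kill_pq hG 2 431 1 1 (by norm_num) (by norm_num) (hn.trans (by norm_num))).elim
  · exact (kill_pq hG 863 863 1 0 (by norm_num) (by norm_num) (hn.trans (by norm_num))).elim
  · exact (kill_pq hG 2 3 5 3 (by norm_num) (by norm_num) (hn.trans (by norm_num))).elim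
  · exact (kill_pq hG 5 173 1 1 (by norm_num) (by norm_num) (hn.trans (by norm_num))).elim
  · exact (kill_pq hG 2 433 1 1 (by norm_num) (by norm_num) (hn.trans (by norm_num))).elim
  · exact (kill_pq hG 3 17 1 2 (by norm_num) (by norm_num) (hn.trans (by norm_num))).elim
  · exact (kill_sylow hG 868 31 1 28 (by norm_num) hn (by norm_num) (by norm_num) (by decide) (by decide +kernel)).elim
  · exact (kill_pq hG 11 79 1 1 (by norm_num) (by norm_num) (hn.trans (by norm_num))).elim
  · exact (kill_two_odd 435 (by norm_num) (by decide) (hn.trans (by norm_num))).elim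
  · exact (kill_pq hG 13 67 1 1 (by norm_num) (by norm_num) (hn.trans (by norm_num))).elim
  · exact (kill_pq hG 2 109 3 1 (by norm_num) (by norm_num) (hn.trans (by norm_num))).elim
  · exact (kill_pq hG 3 97 2 1 (by norm_num) (by norm_num) (hn.trans (by norm_num))).elim
  · exact (kill_two_odd 437 (by norm_num) (by decide) (hn.trans (by norm_num))).elim
  · exact (kill_pq hG 5 7 3 1 (by norm_num) (by norm_num) (hn.trans (by norm_num))).elim
  · exact (kill_sylow hG 876 73 1 12 (by norm_num) hn (by norm_num) (by norm_num) (by decide) (by decide +kernel)).elim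
  · exact (kill_pq hG 877 877 1 0 (by norm_num) (by norm_num) (hn.trans (by norm_num))).elim
  · exact (kill_pq hG 2 439 1 1 (by norm_num) (by norm_num) (hn.trans (by norm_num))).elim
  · exact (kill_pq hG 3 293 1 1 (by norm_num) (by norm_num) (hn.trans (by norm_num))).elim
  · exact (kill_sylow hG 880 11 1 80 (by norm_num) hn (by norm_num) (by norm_num) (by decide) (by decide +kernel)).elim
  · exact (kill_pq hG 881 881 1 0 (by norm_num) (by norm_num) (hn.trans (by norm_num))).elim
  · exact (kill_two_odd 441 (by norm_num) (by decide) (hn.trans (by norm_num))).elim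
  · exact (kill_pq hG 883 883 1 0 (by norm_num) (by norm_num) (hn.trans (by norm_num))).elim
  · exact (kill_sylow hG 884 17 1 52 (by norm_num) hn (by norm_num) (by norm_num) (by decide) (by decide +kernel)).elim
  · exact (kill_sylow hG 885 59 1 15 (by norm_num) hn (by norm_num) (by norm_num) (by decide) (by decide +kernel)).elim
  · exact (kill_pq hG 2 443 1 1 (by norm_num) (by norm_num) (hn.trans (by norm_num))).elim
  · exact (kill_pq hG 887 887 1 0 (by norm_num) (by norm_num) (hn.trans (by norm_num))).elim
  · exact (kill_sylow hG 888 37 1 24 (by norm_num) hn (by norm_num) (by norm_num) (by decide) (by decide +kernel)).elim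
  · exact (kill_pq hG 7 127 1 1 (by norm_num) (by norm_num) (hn.trans (by norm_num))).elim
  · exact (kill_two_odd 445 (by norm_num) (by decide) (hn.trans (by norm_num))).elim
  · exact (kill_pq hG 3 11 4 1 (by norm_num) (by norm_num) (hn.trans (by norm_num))).elim
  · exact (kill_pq hG 2 223 2 1 (by norm_num) (by norm_num) (hn.trans (by norm_num))).elim
  · exact (kill_pq hG 19 47 1 1 (by norm_num) (by norm_num) (hn.trans (by norm_num))).elim
  · exact (kill_two_odd 447 (by norm_num) (by decide) (hn.trans (by norm_num))).elim
  · exact (kill_pq hG 5 179 1 1 (by norm_num) (by norm_num) (hn.trans (by norm_num))).elim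
  · exact (kill_pq hG 2 7 7 1 (by norm_num) (by norm_num) (hn.trans (by norm_num))).elim
  · exact (kill_sylow hG 897 23 1 39 (by norm_num) hn (by norm_num) (by norm_num) (by decide) (by decide +kernel)).elim
  · exact (kill_pq hG 2 449 1 1 (by norm_num) (by norm_num) (hn.trans (by norm_num))).elim
  · exact (kill_pq hG 29 31 1 1 (by norm_num) (by norm_num) (hn.trans (by norm_num))).elim
  · exact (Cfsg.Agent.Lib.Helper71.Sieve496.no_900 hG hn).elim

theorem range_9 {G : Type*} [Group G] [Finite G] [IsSimpleGroup G] (hG : ¬ IsMulCommutative G)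
    (n : ℕ) (hn : Nat.card G = n) (hlo : 901 ≤ n) (hhi : n ≤ 1000) :
    n = 60 ∨ n = 168 ∨ n = 360 ∨ n = 504 ∨ n = 660 ∨ n = 1092 := by
  interval_cases n
  · exact (kill_pq hG 17 53 1 1 (by norm_num) (by norm_num) (hn.trans (by norm_num))).elim
  · exact (kill_two_odd 451 (by norm_num) (by decide) (hn.trans (by norm_num))).elim
  · exact (kill_sylow hG 903 43 1 21 (by norm_num) hn (by norm_num) (by norm_num) (by decide) (by decide +kernel)).elim
  · exact (kill_pq hG 2 113 3 1 (by norm_num) (by norm_num) (hn.trans (by norm_num))).elim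
  · exact (kill_pq hG 5 181 1 1 (by norm_num) (by norm_num) (hn.trans (by norm_num))).elim
  · exact (kill_two_odd 453 (by norm_num) (by decide) (hn.trans (by norm_num))).elim
  · exact (kill_pq hG 907 907 1 0 (by norm_num) (by norm_num) (hn.trans (by norm_num))).elim
  · exact (kill_pq hG 2 227 2 1 (by norm_num) (by norm_num) (hn.trans (by norm_num))).elim
  · exact (kill_pq hG 3 101 2 1 (by norm_num) (by norm_num) (hn.trans (by norm_num))).elim
  · exact (kill_two_odd 455 (by norm_num) (by decide) (hn.trans (by norm_num))).elim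
  · exact (kill_pq hG 911 911 1 0 (by norm_num) (by norm_num) (hn.trans (by norm_num))).elim
  · exact (kill_sylow hG 912 19 1 48 (by norm_num) hn (by norm_num) (by norm_num) (by decide) (by decide +kernel)).elim
  · exact (kill_pq hG 11 83 1 1 (by norm_num) (by norm_num) (hn.trans (by norm_num))).elim
  · exact (kill_pq hG 2 457 1 1 (by norm_num) (by norm_num) (hn.trans (by norm_num))).elim
  · exact (kill_sylow hG 915 61 1 15 (by norm_num) hn (by norm_num) (by norm_num) (by decide) (by decide +kernel)).elim
  · exact (kill_pq hG 2 229 2 1 (by norm_num) (by norm_num) (hn.trans (by norm_num))).elim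
  · exact (kill_pq hG 7 131 1 1 (by norm_num) (by norm_num) (hn.trans (by norm_num))).elim
  · exact (kill_two_odd 459 (by norm_num) (by decide) (hn.trans (by norm_num))).elim
  · exact (kill_pq hG 919 919 1 0 (by norm_num) (by norm_num) (hn.trans (by norm_num))).elim
  · exact (kill_sylow hG 920 23 1 40 (by norm_num) hn (by norm_num) (by norm_num) (by decide) (by decide +kernel)).elim
  · exact (kill_pq hG 3 307 1 1 (by norm_num) (by norm_num) (hn.trans (by norm_num))).elim
  · exact (kill_pq hG 2 461 1 1 (by norm_num) (by norm_num) (hn.trans (by norm_num))).elim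
  · exact (kill_pq hG 13 71 1 1 (by norm_num) (by norm_num) (hn.trans (by norm_num))).elim
  · exact (kill_sylow hG 924 11 1 84 (by norm_num) hn (by norm_num) (by norm_num) (by decide) (by decide +kernel)).elim
  · exact (kill_pq hG 5 37 2 1 (by norm_num) (by norm_num) (hn.trans (by norm_num))).elim
  · exact (kill_pq hG 2 463 1 1 (by norm_num) (by norm_num) (hn.trans (by norm_num))).elim
  · exact (kill_pq hG 3 103 2 1 (by norm_num) (by norm_num) (hn.trans (by norm_num))).elim
  · exact (kill_pq hG 2 29 5 1 (by norm_num) (by norm_num) (hn.trans (by norm_num))).elim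
  · exact (kill_pq hG 929 929 1 0 (by norm_num) (by norm_num) (hn.trans (by norm_num))).elim
  · exact (kill_two_odd 465 (by norm_num) (by decide) (hn.trans (by norm_num))).elim
  · exact (kill_pq hG 7 19 2 1 (by norm_num) (by norm_num) (hn.trans (by norm_num))).elim
  · exact (kill_pq hG 2 233 2 1 (by norm_num) (by norm_num) (hn.trans (by norm_num))).elim
  · exact (kill_pq hG 3 311 1 1 (by norm_num) (by norm_num) (hn.trans (by norm_num))).elim
  · exact (kill_pq hG 2 467 1 1 (by norm_num) (by norm_num) (hn.trans (by norm_num))).elim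
  · exact (kill_sylow hG 935 17 1 55 (by norm_num) hn (by norm_num) (by norm_num) (by decide) (by decide +kernel)).elim
  · exact (kill_sylow hG 936 13 1 72 (by norm_num) hn (by norm_num) (by norm_num) (by decide) (by decide +kernel)).elim
  · exact (kill_pq hG 937 937 1 0 (by norm_num) (by norm_num) (hn.trans (by norm_num))).elim
  · exact (kill_two_odd 469 (by norm_num) (by decide) (hn.trans (by norm_num))).elim
  · exact (kill_pq hG 3 313 1 1 (by norm_num) (by norm_num) (hn.trans (by norm_num))).elim
  · exact (kill_sylow hG 940 47 1 20 (by norm_num) hn (by norm_num) (by norm_num) (by decide) (by decide +kernel)).elim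
  · exact (kill_pq hG 941 941 1 0 (by norm_num) (by norm_num) (hn.trans (by norm_num))).elim
  · exact (kill_two_odd 471 (by norm_num) (by decide) (hn.trans (by norm_num))).elim
  · exact (kill_pq hG 23 41 1 1 (by norm_num) (by norm_num) (hn.trans (by norm_num))).elim
  · exact (kill_pq hG 2 59 4 1 (by norm_num) (by norm_num) (hn.trans (by norm_num))).elim
  · exact (kill_sylow hG 945 5 1 189 (by norm_num) hn (by norm_num) (by norm_num) (by decide) (by decide +kernel)).elim
  · exact (kill_two_odd 473 (by norm_num) (by decide) (hn.trans (by norm_num))).elim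
  · exact (kill_pq hG 947 947 1 0 (by norm_num) (by norm_num) (hn.trans (by norm_num))).elim
  · exact (kill_sylow hG 948 79 1 12 (by norm_num) hn (by norm_num) (by norm_num) (by decide) (by decide +kernel)).elim
  · exact (kill_pq hG 13 73 1 1 (by norm_num) (by norm_num) (hn.trans (by norm_num))).elim
  · exact (kill_two_odd 475 (by norm_num) (by decide) (hn.trans (by norm_num))).elim
  · exact (kill_pq hG 3 317 1 1 (by norm_num) (by norm_num) (hn.trans (by norm_num))).elim
  · exact (kill_sylow hG 952 17 1 56 (by norm_num) hn (by norm_num) (by norm_num) (by decide) (by decide +kernel)).elim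
  · exact (kill_pq hG 953 953 1 0 (by norm_num) (by norm_num) (hn.trans (by norm_num))).elim
  · exact (kill_two_odd 477 (by norm_num) (by decide) (hn.trans (by norm_num))).elim
  · exact (kill_pq hG 5 191 1 1 (by norm_num) (by norm_num) (hn.trans (by norm_num))).elim
  · exact (kill_pq hG 2 239 2 1 (by norm_num) (by norm_num) (hn.trans (by norm_num))).elim
  · exact (kill_sylow hG 957 29 1 33 (by norm_num) hn (by norm_num) (by norm_num) (by decide) (by decide +kernel)).elim
  · exact (kill_pq hG 2 479 1 1 (by norm_num) (by norm_num) (hn.trans (by norm_num))).elim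
  · exact (kill_pq hG 7 137 1 1 (by norm_num) (by norm_num) (hn.trans (by norm_num))).elim
  · exact (Cfsg.Agent.Lib.Helper71.Sieve496.no_960 hG hn).elim
  · exact (kill_pq hG 31 31 2 0 (by norm_num) (by norm_num) (hn.trans (by norm_num))).elim
  · exact (kill_two_odd 481 (by norm_num) (by decide) (hn.trans (by norm_num))).elim
  · exact (kill_pq hG 3 107 2 1 (by norm_num) (by norm_num) (hn.trans (by norm_num))).elim
  · exact (kill_pq hG 2 241 2 1 (by norm_num) (by norm_num) (hn.trans (by norm_num))).elim
  · exact (kill_pq hG 5 193 1 1 (by norm_num) (by norm_num) (hn.trans (by norm_num))).elim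
  · exact (kill_two_odd 483 (by norm_num) (by decide) (hn.trans (by norm_num))).elim
  · exact (kill_pq hG 967 967 1 0 (by norm_num) (by norm_num) (hn.trans (by norm_num))).elim
  · exact (kill_pq hG 2 11 3 2 (by norm_num) (by norm_num) (hn.trans (by norm_num))).elim
  · exact (kill_sylow hG 969 19 1 51 (by norm_num) hn (by norm_num) (by norm_num) (by decide) (by decide +kernel)).elim
  · exact (kill_two_odd 485 (by norm_num) (by decide) (hn.trans (by norm_num))).elim
  · exact (kill_pq hG 971 971 1 0 (by norm_num) (by norm_num) (hn.trans (by norm_num))).elim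
  · exact (kill_pq hG 2 3 2 5 (by norm_num) (by norm_num) (hn.trans (by norm_num))).elim
  · exact (kill_pq hG 7 139 1 1 (by norm_num) (by norm_num) (hn.trans (by norm_num))).elim
  · exact (kill_pq hG 2 487 1 1 (by norm_num) (by norm_num) (hn.trans (by norm_num))).elim
  · exact (kill_sylow hG 975 13 1 75 (by norm_num) hn (by norm_num) (by norm_num) (by decide) (by decide +kernel)).elim
  · exact (kill_pq hG 2 61 4 1 (by norm_num) (by norm_num) (hn.trans (by norm_num))).elim
  · exact (kill_pq hG 977 977 1 0 (by norm_num) (by norm_num) (hn.trans (by norm_num))).elim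
  · exact (kill_two_odd 489 (by norm_num) (by decide) (hn.trans (by norm_num))).elim
  · exact (kill_pq hG 11 89 1 1 (by norm_num) (by norm_num) (hn.trans (by norm_num))).elim
  · exact (kill_sylow hG 980 7 2 20 (by norm_num) hn (by norm_num) (by norm_num) (by decide) (by decide +kernel)).elim
  · exact (kill_pq hG 3 109 2 1 (by norm_num) (by norm_num) (hn.trans (by norm_num))).elim
  · exact (kill_pq hG 2 491 1 1 (by norm_num) (by norm_num) (hn.trans (by norm_num))).elim
  · exact (kill_pq hG 983 983 1 0 (by norm_num) (by norm_num) (hn.trans (by norm_num))).elim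
  · exact (kill_sylow hG 984 41 1 24 (by norm_num) hn (by norm_num) (by norm_num) (by decide) (by decide +kernel)).elim
  · exact (kill_pq hG 5 197 1 1 (by norm_num) (by norm_num) (hn.trans (by norm_num))).elim
  · exact (kill_two_odd 493 (by norm_num) (by decide) (hn.trans (by norm_num))).elim
  · exact (kill_sylow hG 987 47 1 21 (by norm_num) hn (by norm_num) (by norm_num) (by decide) (by decide +kernel)).elim
  · exact (kill_sylow hG 988 19 1 52 (by norm_num) hn (by norm_num) (by norm_num) (by decide) (by decide +kernel)).elim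
  · exact (kill_pq hG 23 43 1 1 (by norm_num) (by norm_num) (hn.trans (by norm_num))).elim
  · exact (kill_two_odd 495 (by norm_num) (by decide) (hn.trans (by norm_num))).elim
  · exact (kill_pq hG 991 991 1 0 (by norm_num) (by norm_num) (hn.trans (by norm_num))).elim
  · exact (kill_pq hG 2 31 5 1 (by norm_num) (by norm_num) (hn.trans (by norm_num))).elim
  · exact (kill_pq hG 3 331 1 1 (by norm_num) (by norm_num) (hn.trans (by norm_num))).elim
  · exact (kill_two_odd 497 (by norm_num) (by decide) (hn.trans (by norm_num))).elim
  · exact (kill_pq hG 5 199 1 1 (by norm_num) (by norm_num) (hn.trans (by norm_num))).elim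
  · exact (kill_sylow hG 996 83 1 12 (by norm_num) hn (by norm_num) (by norm_num) (by decide) (by decide +kernel)).elim
  · exact (kill_pq hG 997 997 1 0 (by norm_num) (by norm_num) (hn.trans (by norm_num))).elim
  · exact (kill_pq hG 2 499 1 1 (by norm_num) (by norm_num) (hn.trans (by norm_num))).elim
  · exact (kill_pq hG 3 37 3 1 (by norm_num) (by norm_num) (hn.trans (by norm_num))).elim
  · exact (kill_pq hG 2 5 3 3 (by norm_num) (by norm_num) (hn.trans (by norm_num))).elim

theorem range_10 {G : Type*} [Group G] [Finite G] [IsSimpleGroup G] (hG : ¬ IsMulCommutative G)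
    (n : ℕ) (hn : Nat.card G = n) (hlo : 1001 ≤ n) (hhi : n ≤ 1092) :
    n = 60 ∨ n = 168 ∨ n = 360 ∨ n = 504 ∨ n = 660 ∨ n = 1092 := by
  interval_cases n
  · exact (kill_sylow hG 1001 13 1 77 (by norm_num) hn (by norm_num) (by norm_num) (by decide) (by decide +kernel)).elim
  · exact (kill_two_odd 501 (by norm_num) (by decide) (hn.trans (by norm_num))).elim
  · exact (kill_pq hG 17 59 1 1 (by norm_num) (by norm_num) (hn.trans (by norm_num))).elim
  · exact (kill_pq hG 2 251 2 1 (by norm_num) (by norm_num) (hn.trans (by norm_num))).elim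
  · exact (kill_sylow hG 1005 67 1 15 (by norm_num) hn (by norm_num) (by norm_num) (by decide) (by decide +kernel)).elim
  · exact (kill_pq hG 2 503 1 1 (by norm_num) (by norm_num) (hn.trans (by norm_num))).elim
  · exact (kill_pq hG 19 53 1 1 (by norm_num) (by norm_num) (hn.trans (by norm_num))).elim
  · exact (kill_pqr hG 1008 2 3 7 4 2 (by norm_num) (by norm_num) (by norm_num) (by decide) (by decide) (by decide) hn (by norm_num) (by decide)).elim
  · exact (kill_pq hG 1009 1009 1 0 (by norm_num) (by norm_num) (hn.trans (by norm_num))).elim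
  · exact (kill_two_odd 505 (by norm_num) (by decide) (hn.trans (by norm_num))).elim
  · exact (kill_pq hG 3 337 1 1 (by norm_num) (by norm_num) (hn.trans (by norm_num))).elim
  · exact (kill_sylow hG 1012 23 1 44 (by norm_num) hn (by norm_num) (by norm_num) (by decide) (by decide +kernel)).elim
  · exact (kill_pq hG 1013 1013 1 0 (by norm_num) (by norm_num) (hn.trans (by norm_num))).elim
  · exact (kill_two_odd 507 (by norm_num) (by decide) (hn.trans (by norm_num))).elim
  · exact (kill_sylow hG 1015 29 1 35 (by norm_num) hn (by norm_num) (by norm_num) (by decide) (by decide +kernel)).elim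
  · exact (kill_pq hG 2 127 3 1 (by norm_num) (by norm_num) (hn.trans (by norm_num))).elim
  · exact (kill_pq hG 3 113 2 1 (by norm_num) (by norm_num) (hn.trans (by norm_num))).elim
  · exact (kill_pq hG 2 509 1 1 (by norm_num) (by norm_num) (hn.trans (by norm_num))).elim
  · exact (kill_pq hG 1019 1019 1 0 (by norm_num) (by norm_num) (hn.trans (by norm_num))).elim
  · exact (kill_sylow hG 1020 17 1 60 (by norm_num) hn (by norm_num) (by norm_num) (by decide) (by decide +kernel)).elim
  · exact (kill_pq hG 1021 1021 1 0 (by norm_num) (by norm_num) (hn.trans (by norm_num))).elim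
  · exact (kill_two_odd 511 (by norm_num) (by decide) (hn.trans (by norm_num))).elim
  · exact (kill_sylow hG 1023 31 1 33 (by norm_num) hn (by norm_num) (by norm_num) (by decide) (by decide +kernel)).elim
  · exact (kill_pq hG 2 2 10 0 (by norm_num) (by norm_num) (hn.trans (by norm_num))).elim
  · exact (kill_pq hG 5 41 2 1 (by norm_num) (by norm_num) (hn.trans (by norm_num))).elim
  · exact (kill_two_odd 513 (by norm_num) (by decide) (hn.trans (by norm_num))).elim
  · exact (kill_pq hG 13 79 1 1 (by norm_num) (by norm_num) (hn.trans (by norm_num))).elim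
  · exact (kill_pq hG 2 257 2 1 (by norm_num) (by norm_num) (hn.trans (by norm_num))).elim
  · exact (kill_pq hG 3 7 1 3 (by norm_num) (by norm_num) (hn.trans (by norm_num))).elim
  · exact (kill_two_odd 515 (by norm_num) (by decide) (hn.trans (by norm_num))).elim
  · exact (kill_pq hG 1031 1031 1 0 (by norm_num) (by norm_num) (hn.trans (by norm_num))).elim
  · exact (kill_sylow hG 1032 43 1 24 (by norm_num) hn (by norm_num) (by norm_num) (by decide) (by decide +kernel)).elim
  · exact (kill_pq hG 1033 1033 1 0 (by norm_num) (by norm_num) (hn.trans (by norm_num))).elim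
  · exact (kill_two_odd 517 (by norm_num) (by decide) (hn.trans (by norm_num))).elim
  · exact (kill_sylow hG 1035 23 1 45 (by norm_num) hn (by norm_num) (by norm_num) (by decide) (by decide +kernel)).elim
  · exact (kill_sylow hG 1036 37 1 28 (by norm_num) hn (by norm_num) (by norm_num) (by decide) (by decide +kernel)).elim
  · exact (kill_pq hG 17 61 1 1 (by norm_num) (by norm_num) (hn.trans (by norm_num))).elim
  · exact (kill_two_odd 519 (by norm_num) (by decide) (hn.trans (by norm_num))).elim
  · exact (kill_pq hG 1039 1039 1 0 (by norm_num) (by norm_num) (hn.trans (by norm_num))).elim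
  · exact (kill_pqr hG 1040 2 13 5 4 1 (by norm_num) (by norm_num) (by norm_num) (by decide) (by decide) (by decide) hn (by norm_num) (by decide)).elim
  · exact (kill_pq hG 3 347 1 1 (by norm_num) (by norm_num) (hn.trans (by norm_num))).elim
  · exact (kill_pq hG 2 521 1 1 (by norm_num) (by norm_num) (hn.trans (by norm_num))).elim
  · exact (kill_pq hG 7 149 1 1 (by norm_num) (by norm_num) (hn.trans (by norm_num))).elim
  · exact (kill_sylow hG 1044 29 1 36 (by norm_num) hn (by norm_num) (by norm_num) (by decide) (by decide +kernel)).elim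
  · exact (kill_sylow hG 1045 19 1 55 (by norm_num) hn (by norm_num) (by norm_num) (by decide) (by decide +kernel)).elim
  · exact (kill_pq hG 2 523 1 1 (by norm_num) (by norm_num) (hn.trans (by norm_num))).elim
  · exact (kill_pq hG 3 349 1 1 (by norm_num) (by norm_num) (hn.trans (by norm_num))).elim
  · exact (kill_pq hG 2 131 3 1 (by norm_num) (by norm_num) (hn.trans (by norm_num))).elim
  · exact (kill_pq hG 1049 1049 1 0 (by norm_num) (by norm_num) (hn.trans (by norm_num))).elim
  · exact (kill_two_odd 525 (by norm_num) (by decide) (hn.trans (by norm_num))).elim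
  · exact (kill_pq hG 1051 1051 1 0 (by norm_num) (by norm_num) (hn.trans (by norm_num))).elim
  · exact (kill_pq hG 2 263 2 1 (by norm_num) (by norm_num) (hn.trans (by norm_num))).elim
  · exact (kill_pq hG 3 13 4 1 (by norm_num) (by norm_num) (hn.trans (by norm_num))).elim
  · exact (kill_two_odd 527 (by norm_num) (by decide) (hn.trans (by norm_num))).elim
  · exact (kill_pq hG 5 211 1 1 (by norm_num) (by norm_num) (hn.trans (by norm_num))).elim
  · exact (kill_pqr hG 1056 2 3 11 5 1 (by norm_num) (by norm_num) (by norm_num) (by decide) (by decide) (by decide) hn (by norm_num) (by decide)).elim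
  · exact (kill_pq hG 7 151 1 1 (by norm_num) (by norm_num) (hn.trans (by norm_num))).elim
  · exact (kill_pq hG 2 23 1 2 (by norm_num) (by norm_num) (hn.trans (by norm_num))).elim
  · exact (kill_pq hG 3 353 1 1 (by norm_num) (by norm_num) (hn.trans (by norm_num))).elim
  · exact (kill_sylow hG 1060 53 1 20 (by norm_num) hn (by norm_num) (by norm_num) (by decide) (by decide +kernel)).elim
  · exact (kill_pq hG 1061 1061 1 0 (by norm_num) (by norm_num) (hn.trans (by norm_num))).elim
  · exact (kill_two_odd 531 (by norm_num) (by decide) (hn.trans (by norm_num))).elim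
  · exact (kill_pq hG 1063 1063 1 0 (by norm_num) (by norm_num) (hn.trans (by norm_num))).elim
  · exact (kill_sylow hG 1064 19 1 56 (by norm_num) hn (by norm_num) (by norm_num) (by decide) (by decide +kernel)).elim
  · exact (kill_sylow hG 1065 71 1 15 (by norm_num) hn (by norm_num) (by norm_num) (by decide) (by decide +kernel)).elim
  · exact (kill_two_odd 533 (by norm_num) (by decide) (hn.trans (by norm_num))).elim
  · exact (kill_pq hG 11 97 1 1 (by norm_num) (by norm_num) (hn.trans (by norm_num))).elim
  · exact (kill_sylow hG 1068 89 1 12 (by norm_num) hn (by norm_num) (by norm_num) (by decide) (by decide +kernel)).elim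
  · exact (kill_pq hG 1069 1069 1 0 (by norm_num) (by norm_num) (hn.trans (by norm_num))).elim
  · exact (kill_two_odd 535 (by norm_num) (by decide) (hn.trans (by norm_num))).elim
  · exact (kill_sylow hG 1071 17 1 63 (by norm_num) hn (by norm_num) (by norm_num) (by decide) (by decide +kernel)).elim
  · exact (kill_pq hG 2 67 4 1 (by norm_num) (by norm_num) (hn.trans (by norm_num))).elim
  · exact (kill_pq hG 29 37 1 1 (by norm_num) (by norm_num) (hn.trans (by norm_num))).elim
  · exact (kill_two_odd 537 (by norm_num) (by decide) (hn.trans (by norm_num))).elim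
  · exact (kill_pq hG 5 43 2 1 (by norm_num) (by norm_num) (hn.trans (by norm_num))).elim
  · exact (kill_pq hG 2 269 2 1 (by norm_num) (by norm_num) (hn.trans (by norm_num))).elim
  · exact (kill_pq hG 3 359 1 1 (by norm_num) (by norm_num) (hn.trans (by norm_num))).elim
  · exact (kill_two_odd 539 (by norm_num) (by decide) (hn.trans (by norm_num))).elim
  · exact (kill_pq hG 13 83 1 1 (by norm_num) (by norm_num) (hn.trans (by norm_num))).elim
  · exact (kill_pqr hG 1080 2 3 5 3 3 (by norm_num) (by norm_num) (by norm_num) (by decide) (by decide) (by decide) hn (by norm_num) (by decide)).elim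
  · exact (kill_pq hG 23 47 1 1 (by norm_num) (by norm_num) (hn.trans (by norm_num))).elim
  · exact (kill_pq hG 2 541 1 1 (by norm_num) (by norm_num) (hn.trans (by norm_num))).elim
  · exact (kill_pq hG 3 19 1 2 (by norm_num) (by norm_num) (hn.trans (by norm_num))).elim
  · exact (kill_pq hG 2 271 2 1 (by norm_num) (by norm_num) (hn.trans (by norm_num))).elim
  · exact (kill_sylow hG 1085 31 1 35 (by norm_num) hn (by norm_num) (by norm_num) (by decide) (by decide +kernel)).elim
  · exact (kill_two_odd 543 (by norm_num) (by decide) (hn.trans (by norm_num))).elim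
  · exact (kill_pq hG 1087 1087 1 0 (by norm_num) (by norm_num) (hn.trans (by norm_num))).elim
  · exact (kill_pq hG 2 17 6 1 (by norm_num) (by norm_num) (hn.trans (by norm_num))).elim
  · exact (kill_pq hG 3 11 2 2 (by norm_num) (by norm_num) (hn.trans (by norm_num))).elim
  · exact (kill_two_odd 545 (by norm_num) (by decide) (hn.trans (by norm_num))).elim
  · exact (kill_pq hG 1091 1091 1 0 (by norm_num) (by norm_num) (hn.trans (by norm_num))).elim
  · norm_num

theorem main {G : Type*} [Group G] [Finite G] [IsSimpleGroup G]
    (hG : ¬ IsMulCommutative G) (h : Nat.card G ≤ 1092) :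
    Nat.card G = 60 ∨ Nat.card G = 168 ∨ Nat.card G = 360 ∨ Nat.card G = 504 ∨ Nat.card G = 660 ∨
      Nat.card G = 1092 := by
  obtain ⟨n, hn⟩ : ∃ n, Nat.card G = n := ⟨_, rfl⟩
  rw [hn] at h ⊢
  by_cases h0 : n ≤ 100
  · exact range_0 hG n hn (by omega) h0
  by_cases h1 : n ≤ 200
  · exact range_1 hG n hn (by omega) h1
  by_cases h2 : n ≤ 300
  · exact range_2 hG n hn (by omega) h2
  by_cases h3 : n ≤ 400
  · exact range_3 hG n hn (by omega) h3
  by_cases h4 : n ≤ 500
  · exact range_4 hG n hn (by omega) h4
  by_cases h5 : n ≤ 600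
  · exact range_5 hG n hn (by omega) h5
  by_cases h6 : n ≤ 700
  · exact range_6 hG n hn (by omega) h6
  by_cases h7 : n ≤ 800
  · exact range_7 hG n hn (by omega) h7
  by_cases h8 : n ≤ 900
  · exact range_8 hG n hn (by omega) h8
  by_cases h9 : n ≤ 1000
  · exact range_9 hG n hn (by omega) h9
  exact range_10 hG n hn (by omega) h

/-- A non-abelian finite simple group of order at most 1092 has order 60, 168, 360, 504, 660 or 1092. -/
theorem result {G : Type*} [Group G] [Finite G] [IsSimpleGroup G]
    (hG : ¬ IsMulCommutative G) (h : Nat.card G ≤ 1092) :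
    Nat.card G = 60 ∨ Nat.card G = 168 ∨ Nat.card G = 360 ∨ Nat.card G = 504 ∨ Nat.card G = 660 ∨
      Nat.card G = 1092 := by
  exact main hG h

end Cfsg.Agent.S0496
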