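import Cfsg.Statements.S3836
import Mathlib

set_option autoImplicit false
open Cfsg

namespace Cfsg.Agent.S3836

theorem isPGroup_pCore {X : Type*} [Group X] [Finite X] {p : ℕ} [Fact p.Prime] :
    IsPGroup p (Cfsg.pCore p X) :=
  Sylow.sSup_of_normal _ (fun _ h => h.2) (fun _ h => h.1)

theorem sSup_normal {X : Type*} [Group X] (Hs : Set (Subgroup X)) (h : ∀ K ∈ Hs, K.Normal) :
    (sSup Hs).Normal := by
  constructor
  intro n hn g
  have : sSup Hs ≤ (sSup Hs).comap (MulAut.conj g).toMonoidHom := by
    apply sSup_le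
    intro K hK x hx
    rw [Subgroup.mem_comap]
    exact (le_sSup hK) ((h K hK).conj_mem x hx g)
  exact this hn

/-- Let G be a finite group that is p-stable in the normalizer form: for every p-subgroup Q and every x ∈ N_G(Q) with [Q, x, x] = 1, the image of x in N_G(Q)/C_G(Q) lies in O_p(N_G(Q)/C_G(Q)). Then every subgroup of G is p-stable in the same sense. -/
theorem result {G : Type*} [Group G] [Finite G] {p : ℕ} [Fact p.Prime] (hst : Cfsg.IsNormalizerPStable p G) (H : Subgroup G) : Cfsg.IsNormalizerPStable p ↥H := by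
  intro P hP g hg hcomm
  set P' : Subgroup G := P.map H.subtype with hP'
  have hP'p : IsPGroup p P' := hP.map H.subtype
  have hnorm : ∀ n : H, n ∈ Subgroup.normalizer (P : Set H) →
      (n : G) ∈ Subgroup.normalizer (P' : Set G) := by
    intro n hn
    exact Subgroup.le_normalizer_map H.subtype ⟨n, hn, rfl⟩
  have hcomm' : ⁅⁅P', Subgroup.zpowers (g : G)⁆, Subgroup.zpowers (g : G)⁆ = ⊥ := by
    have hz : Subgroup.zpowers (g : G) = (Subgroup.zpowers g).map H.subtype := by
      rw [MonoidHom.map_zpowers]; rfl
    rw [hz, hP', ← Subgroup.map_commutator, ← Subgroup.map_commutator, hcomm, Subgroup.map_bot]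
  have key := hst P' hP'p (g : G) (hnorm g hg) hcomm'
  -- the inclusion of normalizers
  let j : ↥(Subgroup.normalizer (P : Set H)) →* ↥(Subgroup.normalizer (P' : Set G)) :=
    { toFun := fun n => ⟨((n : H) : G), hnorm n n.2⟩
      map_one' := rfl
      map_mul' := fun _ _ => rfl }
  have hcent : ∀ n : ↥(Subgroup.normalizer (P : Set H)),
      j n ∈ (Subgroup.centralizer (P' : Set G)).subgroupOf (Subgroup.normalizer (P' : Set G)) ↔
      n ∈ (Subgroup.centralizer (P : Set H)).subgroupOf (Subgroup.normalizer (P : Set H)) := by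
    intro n
    rw [Subgroup.mem_subgroupOf, Subgroup.mem_subgroupOf, Subgroup.mem_centralizer_iff,
      Subgroup.mem_centralizer_iff]
    constructor
    · intro h y hy
      have := h (y : G) ⟨y, hy, rfl⟩
      exact Subtype.ext this
    · rintro h _ ⟨y, hy, rfl⟩
      have := h y hy
      exact congrArg Subtype.val this
  let ι := QuotientGroup.map
    ((Subgroup.centralizer (P : Set H)).subgroupOf (Subgroup.normalizer (P : Set H)))
    ((Subgroup.centralizer (P' : Set G)).subgroupOf (Subgroup.normalizer (P' : Set G))) j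
    (fun n hn => (hcent n).2 hn)
  have hι : ∀ n, ι (QuotientGroup.mk n) = QuotientGroup.mk (j n) := fun n => rfl
  have hinj : Function.Injective ι := by
    rw [injective_iff_map_eq_one]
    intro q hq
    induction q using QuotientGroup.induction_on with
    | H n =>
      rw [hι, QuotientGroup.eq_one_iff] at hq
      exact (QuotientGroup.eq_one_iff n).2 ((hcent n).1 hq)
  let K := (Cfsg.pCore p (↥(Subgroup.normalizer (P' : Set G)) ⧸
    (Subgroup.centralizer (P' : Set G)).subgroupOf (Subgroup.normalizer (P' : Set G)))).comap ι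
  have hKn : K.Normal := by
    have : (Cfsg.pCore p (↥(Subgroup.normalizer (P' : Set G)) ⧸
      (Subgroup.centralizer (P' : Set G)).subgroupOf (Subgroup.normalizer (P' : Set G)))).Normal := by
      unfold Cfsg.pCore
      exact sSup_normal _ (fun _ h => h.1)
    exact Subgroup.Normal.comap this ι
  have hKp : IsPGroup p K := isPGroup_pCore.comap_of_injective ι hinj
  have hmem : QuotientGroup.mk (⟨g, hg⟩ : ↥(Subgroup.normalizer (P : Set H))) ∈ K := by
    refine Subgroup.mem_comap.2 ?_
    exact key
  have hle : K ≤ Cfsg.pCore p _ := le_sSup ⟨hKn, hKp⟩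
  exact hle hmem

end Cfsg.Agent.S3836
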