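import Cfsg.Statements.S0109
import Cfsg.Agent.Lib.Helper2.TFact
import Cfsg.Agent.Lib.Helper2.QStable
import Cfsg.Agent.S0017
import Cfsg.Agent.Lib.Helper97.PReduced

set_option autoImplicit false
open Cfsg

namespace Cfsg.Agent.S0109

/-- The Thompson factorization Theorem for solvable groups states that, with p odd (and abelian Sylow 2-subgroups when p = 3) and no nontrivial normal subgroup of order prime to p, every element of G is a product of an element normalizing J(P) and an element centralizing the elements of order dividing p in the centre of P. -/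
theorem result {G : Type*} [Group G] [Finite G] {p : ℕ} [Fact p.Prime] (hp : p ≠ 2) (hs : Group.IsSolvable G) (h3 : p = 3 → ∀ T : Sylow 2 G, IsMulCommutative T) (hF : ∀ N : Subgroup G, N.Normal → Nat.Coprime (Nat.card N) p → N = ⊥) (P : Sylow p G) (g : G) : ∃ a ∈ Subgroup.normalizer (Cfsg.thompsonSubgroupOf p (P : Subgroup G) : Set G), ∃ c ∈ Subgroup.centralizer {x : G | x ∈ (P : Subgroup G) ∧ (∀ y ∈ (P : Subgroup G), x * y = y * x) ∧ x ^ p = 1}, g = a * c := by
  classical
  haveI := hs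
  have hO : Cfsg.pPrimeCore p G = ⊥ := by
    rw [eq_bot_iff]
    apply sSup_le
    rintro N ⟨hNn, hNc⟩
    rw [hF N hNn hNc]
  have hc := Cfsg.Agent.S0017.result p hO
  set Zs : Set G := {x : G | x ∈ (P : Subgroup G) ∧ (∀ y ∈ (P : Subgroup G), x * y = y * x) ∧
    x ^ p = 1} with hZs
  set Z : Subgroup G := Subgroup.closure Zs with hZ
  have hZfam : Z ≤ sInf (Cfsg.Agent.Lib.Helper11.ZJFam.famE p (P : Subgroup G)) := by
    rw [hZ, Subgroup.closure_le]
    rintro x ⟨hxP, hxc, hxp⟩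
    rw [SetLike.mem_coe, Subgroup.mem_sInf]
    rintro B ⟨A, hA, rfl⟩
    refine ⟨⟨x, hxP⟩, ?_, rfl⟩
    apply Cfsg.Agent.Lib.Helper11.Thompson.mem_of_mem_maxEA_of_centralizes p A hA ⟨x, hxP⟩
    · intro a ha
      apply Subtype.ext
      exact (hxc a a.2).symm
    · apply Subtype.ext
      simpa using hxp
  have hZV : Z ≤ Cfsg.Agent.Lib.Helper97.PReduced.omegaZ p G := by
    rw [hZ, Subgroup.closure_le]
    rintro x ⟨hxP, hxc, hxp⟩
    have hcomm : ∀ q ∈ Cfsg.pCore p G, q * x = x * q := fun q hq =>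
      (hxc q (Cfsg.Agent.Lib.Helper76.PSolv.pCore_le_sylow P hq)).symm
    refine ⟨hc ?_, hcomm, hxp⟩
    rw [Subgroup.mem_centralizer_iff]
    exact hcomm
  have hVle : Subgroup.normalClosure (Z : Set G) ≤ Cfsg.Agent.Lib.Helper97.PReduced.omegaZ p G :=
    Subgroup.normalClosure_le_normal hZV
  have hVea : Cfsg.IsElementaryAbelian p (Subgroup.normalClosure (Z : Set G)) :=
    ⟨⟨⟨fun a b => Subtype.ext
      (Cfsg.Agent.Lib.Helper97.PReduced.omegaZ_comm (hVle a.2) (hVle b.2))⟩⟩,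
      fun a ha => (hVle ha).2.2⟩
  have hst : Cfsg.IsPStableOn p (Subgroup.normalClosure (Z : Set G)) := by
    intro a hq
    by_contra hna
    obtain ⟨K, L, hL, ⟨e⟩⟩ :=
      Cfsg.Agent.Lib.Helper2.QStable.exists_section_of_not_stable hp _ hVea a hq hna
    have hp3 : p = 3 := Cfsg.Agent.Lib.Helper11.QuadSolv.eq_three_of_pChain_SL2 hp
      (Cfsg.Agent.Lib.Helper11.QuadSolv.pChain_of_section K K L hL le_rfl e
        (Cfsg.Agent.Lib.Helper2.QStable.pChain_of_isSolvable p ↥K))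
    obtain ⟨x, y, hxy, hne⟩ :=
      Cfsg.Agent.Lib.Helper11.QuadSylow.exists_nonabelian_two_subgroup (p := p) hp
    obtain ⟨T⟩ : Nonempty (Sylow 2 G) := inferInstance
    have hT := h3 hp3 T
    refine Cfsg.Agent.Lib.Helper11.QuadSylow.not_comm_sylow_of_section ⊤ K L hL le_top e x y
      hxy hne (T.subtype le_top) ?_
    refine ⟨⟨fun u v => Subtype.ext (Subtype.ext ?_)⟩⟩
    have hu : ((u : ↥(⊤ : Subgroup G)) : G) ∈ (T : Subgroup G) := Subgroup.mem_subgroupOf.mp u.2
    have hv : ((v : ↥(⊤ : Subgroup G)) : G) ∈ (T : Subgroup G) := Subgroup.mem_subgroupOf.mp v.2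
    exact setLike_mul_comm hu hv
  obtain ⟨a, ha, c, hc', rfl⟩ :=
    Cfsg.Agent.Lib.Helper2.TFact.exists_mul_gen P Z hZfam hVea hst g
  refine ⟨a, ha, c, ?_, rfl⟩
  refine Subgroup.centralizer_le ?_ hc'
  intro x hx
  exact Subgroup.le_normalClosure (Subgroup.subset_closure hx)

end Cfsg.Agent.S0109
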