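import Cfsg.Statements.S0157
import Mathlib
import Cfsg.Agent.Lib.Helper3.Orth
import Cfsg.Agent.Lib.CT.NormOne
import Cfsg.Agent.Lib.CT.Ops

set_option autoImplicit false
open Cfsg

namespace Cfsg.Agent.S0157

open Cfsg.Agent.Lib.Helper3.Irr Cfsg.Agent.Lib.Helper3.Orth


universe u w

section Perm

variable {G : Type u} [Group G] {X : Type w} [MulAction G X]

/-- The permutation character: number of fixed points. -/
noncomputable def permChar (G : Type u) [Group G] (X : Type w) [MulAction G X] : G → ℂ :=
  fun g => (Nat.card (MulAction.fixedBy X g) : ℂ)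

theorem card_fixedBy_eq [Fintype X] [DecidableEq X] (g : G) :
    Nat.card (MulAction.fixedBy X g) = (Finset.univ.filter (fun x : X => g • x = x)).card := by
  rw [← Nat.card_eq_finsetCard]
  refine Nat.card_congr (Equiv.subtypeEquivRight ?_)
  intro x
  simp [MulAction.mem_fixedBy]

theorem permChar_isCharacter [Finite X] : IsCharacter G (permChar G X) := by
  classical
  have : Fintype X := Fintype.ofFinite X
  have h := isCharacter_of_rep (Representation.ofMulAction ℂ G X)
  have h2 : (Representation.ofMulAction ℂ G X).character = permChar G X := by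
    funext g
    unfold Representation.character permChar
    rw [LinearMap.trace_eq_matrix_trace ℂ (MonoidAlgebra.basis X ℂ), Matrix.trace, card_fixedBy_eq,
      Finset.card_filter, Nat.cast_sum]
    refine Finset.sum_congr rfl (fun x _ => ?_)
    rw [Matrix.diag_apply, LinearMap.toMatrix_apply, MonoidAlgebra.basis_apply,
      Representation.ofMulAction_single]
    show ((MonoidAlgebra.single (g • x) (1 : ℂ)).coeff) x = _
    rw [MonoidAlgebra.coeff_single, Finsupp.single_apply]
    split_ifs <;> simp
  rwa [h2] at h

/-- Burnside's lemma in complex form. -/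
theorem sum_permChar [Fintype G] [Finite X] :
    ∑ g : G, permChar G X g
      = (Nat.card (Quotient (MulAction.orbitRel G X)) : ℂ) * (Nat.card G : ℂ) := by
  classical
  have : Fintype X := Fintype.ofFinite X
  have : Fintype (Quotient (MulAction.orbitRel G X)) := Fintype.ofFinite _
  have h := MulAction.sum_card_fixedBy_eq_card_orbits_mul_card_group G X
  unfold permChar
  simp only [Nat.card_eq_fintype_card]
  rw [← Nat.cast_sum, ← Nat.cast_mul]
  congr 1

theorem permChar_prod [Finite X] (g : G) :
    permChar G (X × X) g = permChar G X g * permChar G X g := by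
  unfold permChar
  rw [← Nat.cast_mul, ← Nat.card_prod]
  congr 1
  refine Nat.card_congr ?_
  refine
    { toFun := fun p => (⟨p.1.1, ?_⟩, ⟨p.1.2, ?_⟩)
      invFun := fun q => ⟨(q.1.1, q.2.1), ?_⟩
      left_inv := fun p => rfl
      right_inv := fun q => rfl }
  · have := p.2
    rw [MulAction.mem_fixedBy] at this ⊢
    exact congrArg Prod.fst this
  · have := p.2
    rw [MulAction.mem_fixedBy] at this ⊢
    exact congrArg Prod.snd this
  · rw [MulAction.mem_fixedBy]
    have h1 := q.1.2
    have h2 := q.2.2
    rw [MulAction.mem_fixedBy] at h1 h2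
    exact Prod.ext h1 h2

/-- For a transitive action on at least two points: two orbits on pairs iff 2-transitive. -/
theorem card_orbits_pairs_eq_two_iff [Finite X] [MulAction.IsPretransitive G X]
    (hX : 2 ≤ Nat.card X) :
    Nat.card (Quotient (MulAction.orbitRel G (X × X))) = 2
      ↔ MulAction.IsMultiplyPretransitive G X 2 := by
  classical
  have : Fintype X := Fintype.ofFinite X
  have : Fintype (Quotient (MulAction.orbitRel G (X × X))) := Fintype.ofFinite _
  let φ : Quotient (MulAction.orbitRel G (X × X)) → Bool :=
    Quotient.lift (fun p : X × X => decide (p.1 = p.2)) (by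
      intro a b hab
      obtain ⟨g, hg⟩ := (MulAction.orbitRel_apply.1 hab)
      have h1 : g • b.1 = a.1 := congrArg Prod.fst hg
      have h2 : g • b.2 = a.2 := congrArg Prod.snd hg
      simp only [decide_eq_decide]
      rw [← h1, ← h2]
      exact smul_left_cancel_iff g)
  have hφmk : ∀ p : X × X, φ (Quotient.mk _ p) = decide (p.1 = p.2) := fun p => rfl
  have hnt : Nontrivial X := by
    rw [← Finite.one_lt_card_iff_nontrivial]
    omega
  obtain ⟨x0, y0, hxy0⟩ := exists_pair_ne X
  have hsurj : Function.Surjective φ := by
    intro b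
    cases b
    · exact ⟨Quotient.mk _ (x0, y0), by rw [hφmk]; simpa using hxy0⟩
    · exact ⟨Quotient.mk _ (x0, x0), by rw [hφmk]; simp⟩
  have hinj_iff : Function.Injective φ ↔ MulAction.IsMultiplyPretransitive G X 2 := by
    rw [MulAction.is_two_pretransitive_iff]
    constructor
    · intro hinj a b c d hab hcd
      have h1 : φ (Quotient.mk _ (a, b)) = φ (Quotient.mk _ (c, d)) := by
        rw [hφmk, hφmk]
        simp [hab, hcd]
      have h2 := hinj h1
      have h3 : (MulAction.orbitRel G (X × X)) (a, b) (c, d) := Quotient.exact h2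
      obtain ⟨g, hg⟩ := MulAction.orbitRel_apply.1 h3
      refine ⟨g⁻¹, ?_, ?_⟩
      · have : g • c = a := congrArg Prod.fst hg
        rw [← this, inv_smul_smul]
      · have : g • d = b := congrArg Prod.snd hg
        rw [← this, inv_smul_smul]
    · intro h2 p q
      refine Quotient.inductionOn₂ p q ?_
      intro p q hpq
      rw [hφmk, hφmk] at hpq
      apply Quotient.sound
      show (MulAction.orbitRel G (X × X)) p q
      rw [MulAction.orbitRel_apply]
      by_cases hp : p.1 = p.2
      · have hq : q.1 = q.2 := by simpa [hp] using hpq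
        obtain ⟨g, hg⟩ := MulAction.exists_smul_eq G q.1 p.1
        refine ⟨g, ?_⟩
        apply Prod.ext
        · exact hg
        · show g • q.2 = p.2
          rw [← hq, hg, hp]
      · have hq : q.1 ≠ q.2 := by
          intro hq
          apply hp
          simpa [hq] using hpq
        obtain ⟨g, hg1, hg2⟩ := h2 hq hp
        exact ⟨g, Prod.ext hg1 hg2⟩
  rw [← hinj_iff]
  constructor
  · intro hcard
    have hbij : Function.Bijective φ := by
      rw [Fintype.bijective_iff_surjective_and_card]
      refine ⟨hsurj, ?_⟩
      rw [← Nat.card_eq_fintype_card, hcard]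
      rfl
    exact hbij.1
  · intro hinj
    rw [Nat.card_eq_fintype_card, Fintype.card_of_bijective ⟨hinj, hsurj⟩]
    rfl

end Perm

/-- For a transitive action of a finite group on a finite set with at least two points: the action is 2-transitive if and only if the function sending g to (number of fixed points of g) − 1 is an irreducible character. -/
theorem result {G : Type*} [Group G] [Finite G] (X : Type*) [MulAction G X] [Finite X] [MulAction.IsPretransitive G X] (hX : 2 ≤ Nat.card X) : Cfsg.IsIrrCharacter G (fun g => (Nat.card (MulAction.fixedBy X g) : ℂ) - 1) ↔ MulAction.IsMultiplyPretransitive G X 2 := by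
  classical
  have : Fintype G := Fintype.ofFinite G
  have hfinI := finite_irrCharacter (G := G)
  have : Fintype (IrrCharacter G) := Fintype.ofFinite _
  have hcard : (Nat.card G : ℂ) ≠ 0 := by exact_mod_cast Nat.card_pos.ne'
  have hXne : Nonempty X := by
    rw [← Finite.card_pos_iff]
    omega
  have hreal : ∀ g : G, (starRingEnd ℂ) (permChar G X g) = permChar G X g := by
    intro g
    simp [permChar]
  -- ⟨π, 1⟩ = 1
  have horb1 : Nat.card (Quotient (MulAction.orbitRel G X)) = 1 := by
    have hsub : Subsingleton (Quotient (MulAction.orbitRel G X)) :=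
      (MulAction.pretransitive_iff_subsingleton_quotient G X).1 inferInstance
    have hne : Nonempty (Quotient (MulAction.orbitRel G X)) := hXne.map (Quotient.mk _)
    exact Nat.card_unique
  have hπ1 : Cfsg.classInner (permChar G X) (fun _ => (1 : ℂ)) = 1 := by
    unfold Cfsg.classInner
    simp only [map_one, mul_one]
    rw [sum_permChar, horb1]
    simp [hcard]
  have h1π : Cfsg.classInner (fun _ : G => (1 : ℂ)) (permChar G X) = 1 := by
    rw [← classInner_conj_symm, hπ1]
    simp
  have hππ : Cfsg.classInner (permChar G X) (permChar G X)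
      = (Nat.card (Quotient (MulAction.orbitRel G (X × X))) : ℂ) := by
    unfold Cfsg.classInner
    simp only [hreal]
    have : ∑ g : G, permChar G X g * permChar G X g = ∑ g : G, permChar G (X × X) g :=
      Finset.sum_congr rfl (fun g _ => (permChar_prod g).symm)
    rw [this, sum_permChar, ← mul_assoc, mul_comm _ (Nat.card (Quotient _) : ℂ), mul_assoc,
      inv_mul_cancel₀ hcard, mul_one]
  have h11 : Cfsg.classInner (fun _ : G => (1 : ℂ)) (fun _ : G => (1 : ℂ)) = 1 := by
    unfold Cfsg.classInner
    simp [hcard]
  have hfun : (fun g => (Nat.card (MulAction.fixedBy X g) : ℂ) - 1)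
      = permChar G X - (fun _ : G => (1 : ℂ)) := rfl
  have hθθ : Cfsg.classInner (permChar G X - (fun _ : G => (1 : ℂ)))
      (permChar G X - (fun _ : G => (1 : ℂ)))
      = (Nat.card (Quotient (MulAction.orbitRel G (X × X))) : ℂ) - 1 := by
    have e1 : ∀ φ ψ₁ ψ₂ : G → ℂ, Cfsg.classInner φ (ψ₁ - ψ₂)
        = Cfsg.classInner φ ψ₁ - Cfsg.classInner φ ψ₂ := by
      intro φ ψ₁ ψ₂
      rw [← classInner_conj_symm, classInner_sub_left, map_sub, classInner_conj_symm,
        classInner_conj_symm]
    rw [classInner_sub_left, e1, e1, hππ, hπ1, h1π, h11]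
    ring
  rw [hfun, ← card_orbits_pairs_eq_two_iff hX]
  constructor
  · intro hirr
    have h1 := Cfsg.Agent.Lib.CT.NormOne.inner_self_eq_one_of_irr hirr
    rw [hθθ] at h1
    have h2 : (Nat.card (Quotient (MulAction.orbitRel G (X × X))) : ℂ) = 2 := by
      linear_combination h1
    exact_mod_cast h2
  · intro h2
    apply Cfsg.Agent.Lib.CT.NormOne.irr_of_inner_self_eq_one
    · -- π - 1 is a character
      obtain ⟨m, hm, hexp⟩ := Cfsg.Agent.Lib.CT.NormOne.exists_mult_sum
        (permChar_isCharacter (G := G) (X := X))
      let triv : IrrCharacter G := ⟨fun _ => 1, Cfsg.Agent.Lib.CT.Ops.isIrrCharacter_one⟩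
      have hmt : m triv = 1 := by
        have := hm triv
        rw [show ((triv : IrrCharacter G) : G → ℂ) = fun _ => (1 : ℂ) from rfl, hπ1] at this
        exact_mod_cast this.symm
      have hdecomp : permChar G X - (fun _ : G => (1 : ℂ))
          = ∑ ψ ∈ Finset.univ.erase triv, (m ψ : ℂ) • (ψ : G → ℂ) := by
        rw [hexp, ← Finset.add_sum_erase Finset.univ _ (Finset.mem_univ triv), hmt]
        funext g
        simp [triv]
      rw [hdecomp]
      apply Cfsg.Agent.Lib.CT.Ops.isCharacter_sum
      intro ψ _
      exact Cfsg.Agent.Lib.CT.Ops.isCharacter_natCast_smul (IsIrrCharacter.isCharacter ψ.2) _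
    · rw [hθθ, h2]
      norm_num

end Cfsg.Agent.S0157
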