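import Cfsg.Statements.S0214
-- import your own Cfsg.Agent.* helpers here

set_option autoImplicit false
open Cfsg

namespace Cfsg.Agent.S0214

section helpers
variable {G : Type*} [Group G]

theorem conj_mem_normalizer (Y : Subgroup G) (a n : G) (hn : n ∈ Subgroup.normalizer (Y : Set G)) :
    a * n * a⁻¹ ∈ Subgroup.normalizer ((Y.map (MulAut.conj a).toMonoidHom : Subgroup G) : Set G) := by
  rw [← Subgroup.map_equiv_normalizer_eq]
  exact ⟨n, hn, by simp⟩

theorem propA [Finite G] (H : Subgroup G) (P : Sylow 2 ↥H)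
    (hN : ∀ X : Subgroup ↥H, X ≤ (P : Subgroup ↥H) → X ≠ ⊥ →
      Subgroup.normalizer ((X.map H.subtype : Subgroup G) : Set G) ≤ H)
    (Y : Subgroup G) (hYH : Y ≤ H) (hY2 : IsPGroup 2 Y) (hY1 : Y ≠ ⊥) :
    Subgroup.normalizer (Y : Set G) ≤ H := by
  have hY2' : IsPGroup 2 (Y.subgroupOf H) := hY2.comap_subtype
  obtain ⟨Q, hQ⟩ := hY2'.exists_le_sylow
  obtain ⟨h, hh⟩ := MulAction.exists_smul_eq H Q P
  have hYh : Y.map (MulAut.conj (h : G)).toMonoidHom ≤ H := by
    rintro _ ⟨y, hy, rfl⟩
    simp only [MulEquiv.toMonoidHom_eq_coe, MonoidHom.coe_coe, MulAut.conj_apply]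
    exact H.mul_mem (H.mul_mem h.2 (hYH hy)) (H.inv_mem h.2)
  set X : Subgroup H := (Y.map (MulAut.conj (h : G)).toMonoidHom).subgroupOf H with hXdef
  have hXmap : X.map H.subtype = Y.map (MulAut.conj (h : G)).toMonoidHom :=
    Subgroup.map_subgroupOf_eq_of_le hYh
  have hXP : X ≤ P := by
    intro x hx
    rw [hXdef, Subgroup.mem_subgroupOf] at hx
    obtain ⟨y, hy, hyx⟩ := hx
    have hyQ : (⟨y, hYH hy⟩ : H) ∈ (Q : Subgroup H) :=
      hQ (by rw [Subgroup.mem_subgroupOf]; exact hy)
    have hx' : x = h * ⟨y, hYH hy⟩ * h⁻¹ := by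
      apply Subtype.ext
      simp only [MulEquiv.toMonoidHom_eq_coe, MonoidHom.coe_coe, MulAut.conj_apply] at hyx
      simp [← hyx]
    have hmem : h * ⟨y, hYH hy⟩ * h⁻¹ ∈ ((h • Q : Sylow 2 H) : Subgroup H) := by
      rw [Sylow.smul_def, Sylow.pointwise_smul_def]
      exact Subgroup.smul_mem_pointwise_smul _ (MulAut.conj h) _ hyQ
    rw [hx', ← hh]
    exact hmem
  have hX1 : X ≠ ⊥ := by
    intro h0
    rw [h0, Subgroup.map_bot] at hXmap
    have := hXmap.symm
    rw [Subgroup.map_eq_bot_iff_of_injective _ (MulAut.conj (h : G)).injective] at this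
    exact hY1 this
  have hNX := hN X hXP hX1
  rw [hXmap] at hNX
  intro n hn
  have h1 : (h : G) * n * (h : G)⁻¹ ∈ H := hNX (conj_mem_normalizer Y h n hn)
  have h2 : (h : G)⁻¹ * ((h : G) * n * (h : G)⁻¹) * (h : G) ∈ H :=
    H.mul_mem (H.mul_mem (H.inv_mem h.2) h1) h.2
  simpa [mul_assoc] using h2

end helpers


/-- Let H be a proper subgroup of the finite group G and P a nontrivial Sylow 2-subgroup of H. Then H is strongly embedded in G if and only if N_G(X) ≤ H for every nontrivial subgroup X of P. -/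
theorem result {G : Type*} [Group G] [Finite G] (H : Subgroup G) (hH : H ≠ ⊤) (P : Sylow 2 ↥H) (hP : (P : Subgroup ↥H) ≠ ⊥) : Cfsg.IsStronglyEmbedded H ↔ (∀ X : Subgroup ↥H, X ≤ (P : Subgroup ↥H) → X ≠ ⊥ → Subgroup.normalizer ((X.map H.subtype : Subgroup G) : Set G) ≤ H) := by
  have : Fact (Nat.Prime 2) := ⟨Nat.prime_two⟩
  constructor
  · rintro ⟨-, -, hodd⟩ X hXP hX1 g hg
    by_contra hgH
    have h1 := hodd g hgH
    have hX2 : IsPGroup 2 (X.map H.subtype) := (P.isPGroup'.to_le hXP).map _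
    have hXle : X.map H.subtype ≤ H ⊓ H.map (MulAut.conj g).toMonoidHom := by
      apply le_inf (Subgroup.map_subtype_le _)
      intro x hx
      have hx' : g⁻¹ * x * g⁻¹⁻¹ ∈ X.map H.subtype := by
        have := Subgroup.inv_mem _ hg
        rw [Subgroup.mem_normalizer_iff] at this
        exact (this x).mp hx
      refine ⟨g⁻¹ * x * g⁻¹⁻¹, Subgroup.map_subtype_le _ hx', ?_⟩
      simp [mul_assoc]
    have hX1' : X.map H.subtype ≠ ⊥ := by
      intro h0
      rw [Subgroup.map_eq_bot_iff_of_injective _ H.subtype_injective] at h0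
      exact hX1 h0
    have hdvd : Nat.card (X.map H.subtype) ∣ Nat.card ↥(H ⊓ H.map (MulAut.conj g).toMonoidHom) :=
      Subgroup.card_dvd_of_le hXle
    obtain ⟨k, hk⟩ := hX2.exists_card_eq
    have hk0 : k ≠ 0 := by
      intro h0
      rw [h0, pow_zero, Subgroup.card_eq_one] at hk
      exact hX1' hk
    have h2 : 2 ∣ Nat.card ↥(H ⊓ H.map (MulAut.conj g).toMonoidHom) :=
      (hk ▸ dvd_pow_self 2 hk0 : 2 ∣ Nat.card (X.map H.subtype)).trans hdvd
    exact (Nat.not_even_iff_odd.mpr h1) (even_iff_two_dvd.mpr h2)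
  · intro hN
    refine ⟨hH, ?_, ?_⟩
    · have h1 : 2 ∣ Nat.card (P : Subgroup H) := by
        obtain ⟨k, hk⟩ := P.isPGroup'.exists_card_eq
        have hk0 : k ≠ 0 := by
          intro h0
          rw [h0, pow_zero, Subgroup.card_eq_one] at hk
          exact hP hk
        rw [hk]; exact dvd_pow_self 2 hk0
      exact even_iff_two_dvd.mpr (h1.trans (Subgroup.card_subgroup_dvd_card _))
    · intro g hg
      by_contra hodd
      set D := H ⊓ H.map (MulAut.conj g).toMonoidHom with hD
      have h2 : 2 ∣ Nat.card D := even_iff_two_dvd.mp (Nat.not_odd_iff_even.mp hodd)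
      obtain ⟨T0⟩ := (inferInstance : Nonempty (Sylow 2 D))
      set T := (T0 : Subgroup D).map D.subtype with hT
      have hT1 : T ≠ ⊥ := by
        intro h0
        rw [hT, Subgroup.map_eq_bot_iff_of_injective _ D.subtype_injective] at h0
        exact T0.ne_bot_of_dvd_card h2 h0
      have hT2 : IsPGroup 2 T := T0.isPGroup'.map _
      have hTD : T ≤ D := Subgroup.map_subtype_le _
      have hTH : T ≤ H := hTD.trans inf_le_left
      have hNH : Subgroup.normalizer (T : Set G) ≤ H := propA H P hN T hTH hT2 hT1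
      have hT'H : T.map (MulAut.conj g⁻¹).toMonoidHom ≤ H := by
        rintro _ ⟨t, ht, rfl⟩
        obtain ⟨k, hk, hkt⟩ := (hTD ht).2
        simp only [MulEquiv.toMonoidHom_eq_coe, MonoidHom.coe_coe, MulAut.conj_apply] at hkt ⊢
        rw [← hkt]
        simpa [mul_assoc] using hk
      have hT'1 : T.map (MulAut.conj g⁻¹).toMonoidHom ≠ ⊥ := by
        intro h0
        rw [Subgroup.map_eq_bot_iff_of_injective _ (MulAut.conj g⁻¹).injective] at h0
        exact hT1 h0
      have hNH' : Subgroup.normalizer ((T.map (MulAut.conj g⁻¹).toMonoidHom : Subgroup G) : Set G) ≤ H :=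
        propA H P hN _ hT'H (hT2.map _) hT'1
      have hND : Subgroup.normalizer (T : Set G) ≤ D := by
        intro n hn
        refine ⟨hNH hn, ?_⟩
        have h1 := hNH' (conj_mem_normalizer T g⁻¹ n hn)
        refine ⟨g⁻¹ * n * g⁻¹⁻¹, h1, ?_⟩
        simp [mul_assoc]
      -- index of T is odd
      have hidx : ¬ 2 ∣ T.index := by
        obtain ⟨k, hk⟩ := hT2.exists_card_eq
        have hmod := Sylow.card_quotient_normalizer_modEq_card_quotient (p := 2) hk
        have e1 : T.relIndex (Subgroup.normalizer (T : Set G)) * (Subgroup.normalizer (T : Set G)).relIndex D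
            = T.relIndex D := Subgroup.relIndex_mul_relIndex _ _ _ Subgroup.le_normalizer hND
        have e2 : T.relIndex D = (T0 : Subgroup D).index := by
          rw [Subgroup.relIndex, hT]
          congr 1
          exact Subgroup.comap_map_eq_self_of_injective (Subgroup.subtype_injective D) _
        have h3 : ¬ 2 ∣ T.relIndex (Subgroup.normalizer (T : Set G)) := by
          intro h
          exact T0.not_dvd_index (e2 ▸ e1 ▸ (Dvd.dvd.mul_right h _))
        intro h
        exact h3 ((Nat.ModEq.dvd_iff hmod (dvd_refl 2)).mpr h)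
      set T1 : Sylow 2 G := hT2.toSylow hidx with hT1def
      have hT1coe : (T1 : Subgroup G) = T := IsPGroup.toSylow_coe hT2 hidx
      have hle1 : (T1 : Subgroup G) ≤ H := hT1coe ▸ hTH
      have hle2 : ((g⁻¹ • T1 : Sylow 2 G) : Subgroup G) ≤ H := by
        intro x hx
        rw [Sylow.smul_def, Sylow.pointwise_smul_def, Subgroup.mem_pointwise_smul_iff_inv_smul_mem] at hx
        have hx' : g * x * g⁻¹ ∈ T := by
          rw [← hT1coe]
          simpa [MulAut.smul_def] using hx
        have := hT'H ⟨g * x * g⁻¹, hx', rfl⟩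
        simpa [mul_assoc] using this
      obtain ⟨h, hh⟩ := MulAction.exists_smul_eq H ((g⁻¹ • T1).subtype hle2) (T1.subtype hle1)
      simp_rw [Sylow.smul_subtype, Subgroup.smul_def, smul_smul] at hh
      have hmem : (h : G) * g⁻¹ ∈ Subgroup.normalizer ((T1 : Subgroup G) : Set G) :=
        Sylow.smul_eq_iff_mem_normalizer.mp (Sylow.subtype_injective hh)
      rw [hT1coe] at hmem
      have h3 : (h : G) * g⁻¹ ∈ H := hNH hmem
      have h4 : g⁻¹ ∈ H := by
        have := H.mul_mem (H.inv_mem h.2) h3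
        simpa using this
      exact hg (by simpa using H.inv_mem h4)

end Cfsg.Agent.S0214
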