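import Mathlib
import Cfsg.Statements.S0223
import Cfsg.Agent.Lib.Helper4.Dihedral
import Cfsg.Agent.Lib.Helper4.Invol
import Cfsg.Agent.Lib.Helper4.SE
-- import your own Cfsg.Agent.* helpers here

set_option autoImplicit false
open Cfsg Cfsg.Agent.Lib.Helper4

namespace Cfsg.Agent.S0223


/-- Let H be a proper subgroup of even order of the finite group G. Then H is strongly embedded if and only if (i) C_G(t) ≤ H for every involution t of H and (ii) H controls fusion of its involutions: involutions of H conjugate in G are conjugate in H. -/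
theorem result {G : Type*} [Group G] [Finite G] (H : Subgroup G) (hH : H ≠ ⊤) (heven : Even (Nat.card H)) : Cfsg.IsStronglyEmbedded H ↔ ((∀ t ∈ H, orderOf t = 2 → Subgroup.centralizer ({t} : Set G) ≤ H) ∧ (∀ t ∈ H, ∀ s ∈ H, orderOf t = 2 → orderOf s = 2 → IsConj t s → ∃ h ∈ H, h * t * h⁻¹ = s)) := by
  constructor
  · intro hSE
    refine ⟨?_, ?_⟩
    · intro t ht ht2 g hg
      rw [Subgroup.mem_centralizer_singleton_iff] at hg
      apply SE.mem_of_conj_mem hSE ht ht2
      have h0 : g⁻¹ * t * g = t := by rw [mul_assoc, ← hg, inv_mul_cancel_left]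
      rw [h0]; exact ht
    · intro t ht s hs ht2 hs2 hconj
      rw [isConj_iff] at hconj
      obtain ⟨g, hg⟩ := hconj
      refine ⟨g, ?_, hg⟩
      apply SE.mem_of_conj_mem hSE hs hs2
      have h0 : g⁻¹ * s * g = t := by rw [← hg]; group
      rw [h0]; exact ht
  · rintro ⟨h1, h2⟩
    apply SE.stronglyEmbedded_of hH heven
    intro s g hs hs2 hg
    have ht2 : orderOf (g⁻¹ * s * g) = 2 := by
      have h0 := Invol.orderOf_conj g⁻¹ s
      rw [inv_inv] at h0
      rw [h0]; exact hs2
    have hconj : IsConj (g⁻¹ * s * g) s := isConj_iff.mpr ⟨g, by group⟩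
    obtain ⟨h, hh, hhs⟩ := h2 _ hg s hs ht2 hs2 hconj
    have hc : h * g⁻¹ ∈ Subgroup.centralizer ({s} : Set G) := by
      rw [Subgroup.mem_centralizer_singleton_iff]
      calc h * g⁻¹ * s = (h * (g⁻¹ * s * g) * h⁻¹) * (h * g⁻¹) := by group
        _ = s * (h * g⁻¹) := by rw [hhs]
    have h3 := h1 s hs hs2 hc
    have h4 : g = (h * g⁻¹)⁻¹ * h := by group
    rw [h4]; exact H.mul_mem (H.inv_mem h3) hh

end Cfsg.Agent.S0223
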