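import Mathlib
import Cfsg.Statements.S0224
import Cfsg.Agent.Lib.Helper4.Dihedral
import Cfsg.Agent.Lib.Helper4.Invol
import Cfsg.Agent.Lib.Helper4.SE
-- import your own Cfsg.Agent.* helpers here

set_option autoImplicit false
open Cfsg Cfsg.Agent.Lib.Helper4

namespace Cfsg.Agent.S0224


/-- Let H be a proper subgroup of even order of the finite group G. Then H is strongly embedded if and only if each involution of H fixes exactly one point (namely the coset H) in the action of G on the cosets of H. -/
theorem result {G : Type*} [Group G] [Finite G] (H : Subgroup G) (hH : H ≠ ⊤) (heven : Even (Nat.card H)) : Cfsg.IsStronglyEmbedded H ↔ ∀ t ∈ H, orderOf t = 2 → Nat.card {c : G ⧸ H // t • c = c} = 1 := by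
  constructor
  · intro hSE t ht ht2
    rw [Nat.card_eq_one_iff_unique]
    constructor
    · constructor
      rintro ⟨c, hc⟩ ⟨c', hc'⟩
      apply Subtype.ext
      show c = c'
      obtain ⟨g, rfl⟩ := QuotientGroup.mk_surjective c
      obtain ⟨g', rfl⟩ := QuotientGroup.mk_surjective c'
      rw [SE.smul_mk_eq_iff] at hc hc'
      have hg := SE.mem_of_conj_mem hSE ht ht2 hc
      have hg' := SE.mem_of_conj_mem hSE ht ht2 hc'
      rw [QuotientGroup.eq]
      exact H.mul_mem (H.inv_mem hg) hg'
    · refine ⟨⟨((1 : G) : G ⧸ H), ?_⟩⟩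
      rw [SE.smul_mk_eq_iff]; simpa using ht
  · intro h
    apply SE.stronglyEmbedded_of hH heven
    intro s g hs hs2 hg
    have h1 := h s hs hs2
    rw [Nat.card_eq_one_iff_unique] at h1
    have hsub := h1.1
    have e : (⟨((1 : G) : G ⧸ H), by rw [SE.smul_mk_eq_iff]; simpa using hs⟩ :
        {c : G ⧸ H // s • c = c}) = ⟨(g : G ⧸ H), by rw [SE.smul_mk_eq_iff]; exact hg⟩ :=
      Subsingleton.elim _ _
    have e' : ((1 : G) : G ⧸ H) = (g : G ⧸ H) := congrArg Subtype.val e
    rw [QuotientGroup.eq] at e'
    simpa using e'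

end Cfsg.Agent.S0224
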