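import Cfsg.Statements.S0269
import Mathlib
import Cfsg.Agent.Lib.Helper5.SpPerfect

set_option autoImplicit false
open Cfsg

namespace Cfsg.Agent.S0269

/-- Sp_{2m}(q) is perfect except for Sp_2(2), Sp_2(3) and Sp_4(2): stated as m at least 3, or m = 2 and q at least 3, or q at least 4. -/
theorem result {F : Type*} [Field F] [Fintype F] (m : ℕ) (h : 3 ≤ m ∨ (m = 2 ∧ 3 ≤ Fintype.card F) ∨ 4 ≤ Fintype.card F) : commutator (Matrix.symplecticGroup (Fin m) F) = ⊤ := by
  classical
  apply Cfsg.Agent.Lib.Helper5.SpPerfect.eq_top_of_tv_mem
  intro w c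
  have hcard2 : 2 ≤ Fintype.card F := Fintype.one_lt_card
  by_cases h4 : 4 ≤ Fintype.card F
  · -- the torus trick
    obtain ⟨a, ha⟩ : ∃ a : F, a ∉ ({0, 1, -1} : Finset F) := by
      by_contra hcon
      push Not at hcon
      have hsub : (Finset.univ : Finset F) ⊆ {0, 1, -1} := fun a _ => hcon a
      have h1 := Finset.card_le_card hsub
      have h2 : ({0, 1, -1} : Finset F).card ≤ 3 := Finset.card_le_three
      rw [Finset.card_univ] at h1
      omega
    simp only [Finset.mem_insert, Finset.mem_singleton, not_or] at ha
    obtain ⟨ha0, ha1, ha2⟩ := ha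
    have hsq : a ^ 2 ≠ 1 := by
      intro hsq
      have : (a - 1) * (a + 1) = 0 := by linear_combination hsq
      rcases mul_eq_zero.mp this with h' | h'
      · exact ha1 (by linear_combination h')
      · exact ha2 (by linear_combination h')
    exact Cfsg.Agent.Lib.Helper5.SpPerfect.tv_mem_commutator_of_sq_ne_one m a ha0 hsq w c
  · have hcardF : (Fintype.card F : F) = 0 := FiniteField.cast_card_eq_zero F
    have hpow := FiniteField.pow_card c
    by_cases h3 : Fintype.card F = 3
    · -- the field with three elements, m ≥ 2
      have hm : 2 ≤ m := by omega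
      rw [h3] at hcardF hpow
      have h30 : (3 : F) = 0 := by exact_mod_cast hcardF
      have hij : (⟨0, by omega⟩ : Fin m) ≠ ⟨1, by omega⟩ := by
        intro h'
        simpa using congrArg Fin.val h'
      have hN := Cfsg.Agent.Lib.Helper5.SpPerfect.tv_two_mem_commutator (F := F) hij
      have hw2 := Cfsg.Agent.Lib.Helper5.SpPerfect.tv_mem_of_normal m
        (commutator (Matrix.symplecticGroup (Fin m) F)) _
        (by
          rw [Ne, Pi.single_eq_zero_iff]
          exact one_ne_zero) 2 hN w
      have hc : c = 0 ∨ c = 2 ∨ c = -2 := by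
        have : c * (c - 2) * (c + 2) = 0 := by linear_combination hpow - c * h30
        rcases mul_eq_zero.mp this with h' | h'
        · rcases mul_eq_zero.mp h' with h'' | h''
          · exact Or.inl h''
          · exact Or.inr (Or.inl (by linear_combination h''))
        · exact Or.inr (Or.inr (by linear_combination h'))
      rcases hc with rfl | rfl | rfl
      · rw [Cfsg.Agent.Lib.Helper5.SpPerfect.tv_zero]; exact one_mem _
      · exact hw2
      · rw [← Cfsg.Agent.Lib.Helper5.SpPerfect.tv_inv]; exact inv_mem hw2
    · -- the field with two elements, m ≥ 3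
      have h2 : Fintype.card F = 2 := by omega
      have hm : 3 ≤ m := by omega
      rw [h2] at hcardF hpow
      have h20 : (2 : F) = 0 := by exact_mod_cast hcardF
      have hij : (⟨0, by omega⟩ : Fin m) ≠ ⟨1, by omega⟩ := by
        intro h'
        simpa using congrArg Fin.val h'
      have hik : (⟨0, by omega⟩ : Fin m) ≠ ⟨2, by omega⟩ := by
        intro h'
        simpa using congrArg Fin.val h'
      have hjk : (⟨1, by omega⟩ : Fin m) ≠ ⟨2, by omega⟩ := by
        intro h'
        simpa using congrArg Fin.val h'
      have hN := Cfsg.Agent.Lib.Helper5.SpPerfect.tv_one_mem_commutator (F := F) h20 hij hik hjk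
      have hw1 := Cfsg.Agent.Lib.Helper5.SpPerfect.tv_mem_of_normal m
        (commutator (Matrix.symplecticGroup (Fin m) F)) _
        (by
          rw [Ne, Pi.single_eq_zero_iff]
          exact one_ne_zero) 1 hN w
      have hc : c = 0 ∨ c = 1 := by
        have : c * (c - 1) = 0 := by linear_combination hpow
        rcases mul_eq_zero.mp this with h' | h'
        · exact Or.inl h'
        · exact Or.inr (by linear_combination h')
      rcases hc with rfl | rfl
      · rw [Cfsg.Agent.Lib.Helper5.SpPerfect.tv_zero]; exact one_mem _
      · exact hw1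

end Cfsg.Agent.S0269
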