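import Cfsg.Statements.S0296
import Mathlib
import Cfsg.Agent.Lib.Helper5.OmegaSimpleMat
import Cfsg.Agent.Lib.Helper5.OmegaGen2
import Cfsg.Agent.Lib.Helper44.NegPairs

set_option autoImplicit false
open Cfsg

namespace Cfsg.Agent.S0296

open Cfsg.Agent.Lib.Helper44.NegPairs Cfsg.Agent.Lib.Helper5.OmegaSimple
open Cfsg.Agent.Lib.Helper5.OmegaSimpleMat Cfsg.Agent.Lib.Helper5.OmegaGen2

/-- PΩ^+_{2m}(q) is simple for m at least 4. -/
theorem result {F : Type*} [Field F] [Fintype F] (m : ℕ) (hm : 4 ≤ m) : IsSimpleGroup (Cfsg.POmega F (Cfsg.quadFormPlus m F)) := by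
  classical
  have hcard : Fintype.card (Fin m ⊕ Fin m) = 2 * m := by
    simp [Fintype.card_sum]
    ring
  have hS := sep_plusQ (F := F) m
  have hfr : 5 ≤ Module.finrank F (Fin m ⊕ Fin m → F) := by
    rw [Module.finrank_fintype_fun_eq_card, hcard]
    omega
  have hgen : commutator ↥(Cfsg.Agent.Lib.Helper44.OGroup.O (plusQ m F)) = EG (plusQ m F) := by
    by_cases h2 : (2 : F) = 0
    · have : CharP F 2 := CharTwo.of_one_ne_zero_of_two_eq_zero one_ne_zero h2
      exact commutator_eq_EG_two hS hfr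
    · exact commutator_eq_EG_odd h2 hS hfr
  have h := simple_of_gen (plusQ m F) hS (by rw [hcard]; omega) hgen
  rw [coe_plusQ] at h
  exact h

end Cfsg.Agent.S0296
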