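import Cfsg.Statements.S0751
import Mathlib

set_option autoImplicit false
open Cfsg

namespace Cfsg.Agent.S0751

open Submodule

theorem E3 {F V : Type*} [Field F] [AddCommGroup V] [Module F V] (σ : F →+* F)
    (B : V →ₛₗ[σ] V →ₗ[F] F) (x y p w : V) (a b a' b' : F) :
    B (x + a • p + b • w) (y + a' • p + b' • w) = B x y + a' * B x p + b' * B x w +
      σ a * (B p y + a' * B p p + b' * B p w) + σ b * (B w y + a' * B w p + b' * B w w) := by
  simp only [map_add, map_smulₛₗ, LinearMap.add_apply, LinearMap.smul_apply,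
    smul_eq_mul, RingHom.id_apply]
  ring

theorem E2 {F V : Type*} [Field F] [AddCommGroup V] [Module F V] (σ : F →+* F)
    (B : V →ₛₗ[σ] V →ₗ[F] F) (x y p : V) (a a' : F) :
    B (x + a • p) (y + a' • p) = B x y + a' * B x p + σ a * (B p y + a' * B p p) := by
  simp only [map_add, map_smulₛₗ, LinearMap.add_apply, LinearMap.smul_apply,
    smul_eq_mul, RingHom.id_apply]
  ring

theorem toEquiv {F V : Type*} [Field F] [AddCommGroup V] [Module F V] [FiniteDimensional F V]
    (σ : F →+* F) (B : V →ₛₗ[σ] V →ₗ[F] F) (hB : B.Nondegenerate) (g : V →ₗ[F] V)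
    (hg : ∀ x y, B (g x) (g y) = B x y) : ∃ e : V ≃ₗ[F] V, ∀ v, e v = g v := by
  have hinj : Function.Injective g := by
    rw [← LinearMap.ker_eq_bot, LinearMap.ker_eq_bot']
    intro x hx
    apply hB.1
    intro y
    rw [← hg x y, hx, map_zero, LinearMap.zero_apply]
  exact ⟨LinearEquiv.ofInjectiveEndo g hinj, fun v => rfl⟩

theorem exists_vec {F V : Type*} [Field F] [Finite F] [AddCommGroup V] [Module F V]
    [FiniteDimensional F V] (σ : F →+* F) (B : V →ₛₗ[σ] V →ₗ[F] F) (hB : B.Nondegenerate)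
    (K : Submodule F V) (u : V) (hu : u ∉ K) :
    ∃ w : V, (∀ x ∈ K, B w x = 0) ∧ B w u = 1 := by
  obtain ⟨ψ, hψu, hψK⟩ := Submodule.exists_dual_map_eq_bot_of_notMem hu inferInstance
  have hfinV : Finite V := Module.finite_of_finite F
  obtain ⟨e⟩ : Nonempty (V ≃ₗ[F] Module.Dual F V) :=
    ⟨(Module.Free.chooseBasis F V).toDualEquiv⟩
  have hinj : Function.Injective (fun w : V => e.symm (B w)) := by
    intro w w' hww
    have h1 : B w = B w' := e.symm.injective hww
    have h2 : w - w' = 0 := by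
      apply hB.1
      intro y
      rw [map_sub, LinearMap.sub_apply, h1, sub_self]
    exact sub_eq_zero.1 h2
  obtain ⟨w, hw⟩ := Finite.surjective_of_injective hinj (e.symm ((ψ u)⁻¹ • ψ))
  have hw' : B w = (ψ u)⁻¹ • ψ := e.symm.injective hw
  refine ⟨w, ?_, ?_⟩
  · intro x hx
    rw [hw', LinearMap.smul_apply]
    have h0 : ψ x = 0 := by
      have h1 : ψ x ∈ K.map ψ := Submodule.mem_map_of_mem hx
      rw [hψK] at h1
      exact (Submodule.mem_bot F).1 h1
    rw [h0, smul_zero]
  · rw [hw', LinearMap.smul_apply, smul_eq_mul, inv_mul_cancel₀ hψu]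

theorem exists_theta {F : Type*} [Field F] (σ : F →+* F) (hσ : σ ≠ RingHom.id F)
    (hσ2 : ∀ a : F, σ (σ a) = a) : ∃ θ : F, θ + σ θ = 1 := by
  have h1 : ∃ y : F, σ y ≠ y := by
    by_contra hno
    push Not at hno
    exact hσ (RingHom.ext hno)
  obtain ⟨y, hy⟩ := h1
  have hδ : y - σ y ≠ 0 := sub_ne_zero.2 (Ne.symm hy)
  refine ⟨y / (y - σ y), ?_⟩
  rw [map_div₀, map_sub, hσ2]
  have h2 : σ y - y ≠ 0 := sub_ne_zero.2 hy
  field_simp
  ring

theorem step {F V : Type*} [Field F] [Finite F] [AddCommGroup V] [Module F V]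
    [FiniteDimensional F V] (σ : F →+* F) (hσ : σ ≠ RingHom.id F) (hσ2 : ∀ a : F, σ (σ a) = a)
    (B : V →ₛₗ[σ] V →ₗ[F] F) (hS : B.IsSymm) (hB : B.Nondegenerate) (H : Submodule F V)
    (u : V) (f : V →ₗ[F] V) (hfH : ∀ h ∈ H, f h = h)
    (hfB : ∀ x ∈ H ⊔ Submodule.span F {u}, ∀ y ∈ H ⊔ Submodule.span F {u},
      B (f x) (f y) = B x y)
    (hinj : ∀ x ∈ H ⊔ Submodule.span F {u}, f x = 0 → x = 0) (huH : u ∉ H) :
    ∃ g : V →ₗ[F] V, (∀ x y, B (g x) (g y) = B x y) ∧ (∀ h ∈ H, g h = h) ∧ g u = f u := by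
  have huX : u ∈ H ⊔ Submodule.span F {u} :=
    (le_sup_right : Submodule.span F {u} ≤ _) (Submodule.mem_span_singleton_self u)
  have hHX : ∀ h ∈ H, h ∈ H ⊔ Submodule.span F {u} := fun h hh => (le_sup_left : H ≤ _) hh
  have hsym : ∀ x y, σ (B x y) = B y x := hS.eq
  obtain ⟨θ, hθ⟩ := exists_theta σ hσ hσ2
  obtain ⟨p, hp⟩ : ∃ p : V, p = f u - u := ⟨_, rfl⟩
  have hfu : f u = u + p := by
    rw [hp]
    abel
  have hHp : ∀ h ∈ H, B h p = 0 := by
    intro h hh
    have h1 := hfB h (hHX h hh) u huX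
    rw [hfH h hh, hfu, map_add] at h1
    exact add_eq_left.1 h1
  have hpH : ∀ h ∈ H, B p h = 0 := by
    intro h hh
    rw [← hsym, hHp h hh, map_zero]
  have hstar : B u p + B p u + B p p = 0 := by
    have h1 := hfB u huX u huX
    rw [hfu] at h1
    simp only [map_add, LinearMap.add_apply] at h1
    linear_combination h1
  by_cases hup : B p u = 0
  · have hup' : B u p = 0 := by rw [← hsym, hup, map_zero]
    have hpp : B p p = 0 := by
      rw [hup, hup'] at hstar
      simpa using hstar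
    by_cases hp0 : p = 0
    · refine ⟨LinearMap.id, fun x y => rfl, fun h _ => rfl, ?_⟩
      rw [hfu, hp0, add_zero]
      rfl
    by_cases hmem : u ∈ H ⊔ Submodule.span F {p}
    · obtain ⟨h₀, hh₀, y, hy, hu_eq⟩ := Submodule.mem_sup.1 hmem
      obtain ⟨c, rfl⟩ := Submodule.mem_span_singleton.1 hy
      have hpnH : p ∉ H := by
        intro hpH
        exact huH (hu_eq ▸ add_mem hh₀ (H.smul_mem c hpH))
      have hc1 : c + 1 ≠ 0 := by
        intro hc1
        have h1 : f (u - h₀) = 0 := by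
          rw [map_sub, hfH h₀ hh₀, hfu, ← hu_eq]
          have h2 : h₀ + c • p + p - h₀ = (c + 1) • p := by
            rw [add_smul, one_smul]
            abel
          rw [h2, hc1, zero_smul]
        have h3 := hinj (u - h₀) (sub_mem huX (hHX h₀ hh₀)) h1
        rw [sub_eq_zero] at h3
        exact huH (h3 ▸ hh₀)
      have hc0 : c ≠ 0 := by
        intro hc0
        rw [hc0, zero_smul, add_zero] at hu_eq
        exact huH (hu_eq ▸ hh₀)
      obtain ⟨p₁, hp₁H, hp₁p⟩ := exists_vec σ B hB H p hpnH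
      have hpp₁ : B p p₁ = 1 := by rw [← hsym, hp₁p, map_one]
      have hfix : σ (B p₁ p₁) = B p₁ p₁ := hsym p₁ p₁
      obtain ⟨p', hp'⟩ : ∃ p' : V, p' = p₁ + (- (B p₁ p₁ * σ θ)) • p := ⟨_, rfl⟩
      have hp'H : ∀ h ∈ H, B p' h = 0 := by
        intro h hh
        rw [hp', map_add, map_smulₛₗ, LinearMap.add_apply, LinearMap.smul_apply, hp₁H h hh,
          hpH h hh, smul_zero, add_zero]
      have hp'p : B p' p = 1 := by
        rw [hp', map_add, map_smulₛₗ, LinearMap.add_apply, LinearMap.smul_apply, hp₁p, hpp,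
          smul_zero, add_zero]
      have hpp' : B p p' = 1 := by rw [← hsym, hp'p, map_one]
      have hp'p' : B p' p' = 0 := by
        have h1 := E2 σ B p₁ p₁ p (- (B p₁ p₁ * σ θ)) (- (B p₁ p₁ * σ θ))
        rw [← hp', hp₁p, hpp₁, hpp] at h1
        rw [h1, map_neg, map_mul, hσ2, hfix]
        linear_combination (- B p₁ p₁) * hθ
      obtain ⟨μ, hμ⟩ : ∃ μ : F, μ = (c + 1) / c := ⟨_, rfl⟩
      have hμ0 : μ ≠ 0 := by
        rw [hμ]
        exact div_ne_zero hc1 hc0
      have hσμ0 : σ μ ≠ 0 := by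
        intro h0
        have h1 := congrArg σ h0
        rw [hσ2, map_zero] at h1
        exact hμ0 h1
      obtain ⟨ν, hν⟩ : ∃ ν : F, ν = (σ μ)⁻¹ := ⟨_, rfl⟩
      have h1 : σ μ * ν = 1 := by
        rw [hν]
        exact mul_inv_cancel₀ hσμ0
      have h2 : σ ν * μ = 1 := by
        rw [hν, map_inv₀, hσ2]
        exact inv_mul_cancel₀ hμ0
      have hcμ : c * μ = c + 1 := by
        rw [hμ]
        field_simp
      obtain ⟨g, hg⟩ : ∃ g : V →ₗ[F] V, ∀ x, g x = x +
          ((μ - 1) * B p' x) • p + ((ν - 1) * B p x) • p' :=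
        ⟨LinearMap.id + ((μ - 1) • B p').smulRight p + ((ν - 1) • B p).smulRight p', fun x => by
          simp only [LinearMap.add_apply, LinearMap.id_coe, id_eq, LinearMap.smulRight_apply,
            LinearMap.smul_apply, smul_eq_mul]⟩
      refine ⟨g, ?_, ?_, ?_⟩
      · intro x y
        rw [hg, hg, E3, hpp, hp'p', hp'p, hpp']
        simp only [map_mul, map_sub, map_one, hsym]
        linear_combination (B p' y * B x p) * h2 + (B p y * B x p') * h1
      · intro h hh
        rw [hg, hp'H h hh, hpH h hh, mul_zero, mul_zero, zero_smul, zero_smul,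
          add_zero, add_zero]
      · have hgp : g p = μ • p := by
          rw [hg, hp'p, hpp, mul_zero, zero_smul, add_zero, mul_one, sub_smul, one_smul]
          abel
        have hgh : g h₀ = h₀ := by
          rw [hg, hp'H h₀ hh₀, hpH h₀ hh₀, mul_zero, mul_zero, zero_smul,
            zero_smul, add_zero, add_zero]
        rw [hfu, ← hu_eq, map_add, map_smul, hgh, hgp, smul_smul, hcμ, add_smul, one_smul]
        abel
    · obtain ⟨w₁, hw₁K, hw₁u⟩ := exists_vec σ B hB (H ⊔ Submodule.span F {p}) u hmem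
      obtain ⟨w, hw⟩ : ∃ w : V, w = - w₁ := ⟨_, rfl⟩
      have hwH : ∀ h ∈ H, B w h = 0 := by
        intro h hh
        rw [hw, map_neg, LinearMap.neg_apply, hw₁K h ((le_sup_left : H ≤ _) hh), neg_zero]
      have hwp : B w p = 0 := by
        rw [hw, map_neg, LinearMap.neg_apply, hw₁K p ((le_sup_right :
          Submodule.span F {p} ≤ _) (Submodule.mem_span_singleton_self p)), neg_zero]
      have hpw : B p w = 0 := by rw [← hsym, hwp, map_zero]
      have hwu : B w u = -1 := by
        rw [hw, map_neg, LinearMap.neg_apply, hw₁u]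
      have hfix : σ (B w w) = B w w := hsym w w
      obtain ⟨c, hc⟩ : ∃ c : F, c = - (B w w * θ) := ⟨_, rfl⟩
      have hcc : c + σ c = - B w w := by
        rw [hc, map_neg, map_mul, hfix]
        linear_combination (- B w w) * hθ
      obtain ⟨g, hg⟩ : ∃ g : V →ₗ[F] V, ∀ x, g x = x + (B p x) • w +
          (c * B p x - B w x) • p :=
        ⟨LinearMap.id + (B p).smulRight w + (c • B p - B w).smulRight p, fun x => by
          simp only [LinearMap.add_apply, LinearMap.id_coe, id_eq, LinearMap.smulRight_apply,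
            LinearMap.smul_apply, LinearMap.sub_apply, smul_eq_mul]⟩
      refine ⟨g, ?_, ?_, ?_⟩
      · intro x y
        rw [hg, hg, E3, hpp, hwp, hpw]
        simp only [map_mul, map_sub, hsym]
        linear_combination (B p y * B x p) * hcc
      · intro h hh
        rw [hg, hwH h hh, hpH h hh, mul_zero, sub_zero, zero_smul, zero_smul, add_zero,
          add_zero]
      · rw [hg, hwu, hup, mul_zero, zero_smul, add_zero, hfu, sub_neg_eq_add, zero_add,
          one_smul]
  · obtain ⟨κ, hκ⟩ : ∃ κ : F, κ = (B p u)⁻¹ := ⟨_, rfl⟩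
    have h1 : κ * B p u = 1 := by
      rw [hκ]
      exact inv_mul_cancel₀ hup
    have h2 : σ κ * B u p = 1 := by
      have h3 := congrArg σ h1
      rw [map_mul, hsym, map_one] at h3
      exact h3
    obtain ⟨g, hg⟩ : ∃ g : V →ₗ[F] V, ∀ x, g x = x + (κ * B p x) • p :=
      ⟨LinearMap.id + (κ • B p).smulRight p, fun x => by
        simp only [LinearMap.add_apply, LinearMap.id_coe, id_eq, LinearMap.smulRight_apply,
          LinearMap.smul_apply, smul_eq_mul]⟩
    refine ⟨g, ?_, ?_, ?_⟩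
    · intro x y
      rw [hg, hg, E2]
      simp only [map_mul, hsym]
      linear_combination (B p y * B x p) * (κ * σ κ * hstar - κ * h2 - σ κ * h1)
    · intro h hh
      rw [hg, hpH h hh, mul_zero, zero_smul, add_zero]
    · rw [hg, hfu, h1, one_smul]

theorem witt_aux {F V : Type*} [Field F] [Finite F] [AddCommGroup V] [Module F V]
    [FiniteDimensional F V] (σ : F →+* F) (hσ : σ ≠ RingHom.id F) (hσ2 : ∀ a : F, σ (σ a) = a)
    (B : V →ₛₗ[σ] V →ₗ[F] F) (hS : B.IsSymm) (hB : B.Nondegenerate) :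
    ∀ (d : ℕ) (X : Submodule F V), Module.finrank F X = d → ∀ f : V →ₗ[F] V,
      (∀ x ∈ X, ∀ y ∈ X, B (f x) (f y) = B x y) → (∀ x ∈ X, f x = 0 → x = 0) →
      ∃ g : V ≃ₗ[F] V, (∀ x y, B (g x) (g y) = B x y) ∧ ∀ x ∈ X, g x = f x := by
  intro d
  induction d with
  | zero =>
    intro X hX f hfQ hinj
    have hX0 : X = ⊥ := Submodule.finrank_eq_zero.1 hX
    refine ⟨LinearEquiv.refl F V, fun x y => rfl, ?_⟩
    intro x hx
    rw [hX0, Submodule.mem_bot] at hx
    rw [hx, map_zero, map_zero]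
  | succ d ih =>
    intro X hX f hfQ hinj
    have hXne : X ≠ ⊥ := by
      intro h
      rw [h, finrank_bot] at hX
      omega
    obtain ⟨u, huX, hu0⟩ := Submodule.exists_mem_ne_zero_of_ne_bot hXne
    obtain ⟨K, hK⟩ := Submodule.exists_isCompl (Submodule.span F {u})
    have hle : Submodule.span F {u} ≤ X := (Submodule.span_singleton_le_iff_mem u X).2 huX
    have hsup : (K ⊓ X) ⊔ Submodule.span F {u} = X := by
      rw [sup_comm, ← sup_inf_assoc_of_le K hle, hK.sup_eq_top, top_inf_eq]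
    have hdisj : (K ⊓ X) ⊓ Submodule.span F {u} = ⊥ := by
      rw [eq_bot_iff]
      intro y hy
      have h1 : y ∈ Submodule.span F {u} ⊓ K := ⟨hy.2, hy.1.1⟩
      rw [hK.inf_eq_bot] at h1
      exact h1
    have huH : u ∉ K ⊓ X := by
      intro h
      have h1 : u ∈ (K ⊓ X) ⊓ Submodule.span F {u} := ⟨h, Submodule.mem_span_singleton_self u⟩
      rw [hdisj, Submodule.mem_bot] at h1
      exact hu0 h1
    have hfin : Module.finrank F ↥(K ⊓ X) = d := by
      have h1 := Submodule.finrank_sup_add_finrank_inf_eq (K ⊓ X) (Submodule.span F {u})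
      rw [hsup, hX, hdisj, finrank_bot, finrank_span_singleton hu0] at h1
      omega
    obtain ⟨g₁, hg₁Q, hg₁⟩ := ih (K ⊓ X) hfin f (fun x hx y hy => hfQ x hx.2 y hy.2)
      (fun x hx => hinj x hx.2)
    have hg₁s : ∀ x y, B (g₁.symm x) (g₁.symm y) = B x y := by
      intro x y
      have h1 := hg₁Q (g₁.symm x) (g₁.symm y)
      rw [LinearEquiv.apply_symm_apply, LinearEquiv.apply_symm_apply] at h1
      exact h1.symm
    obtain ⟨g₂, hg₂Q, hg₂H, hg₂u⟩ := step σ hσ hσ2 B hS hB (K ⊓ X) u (g₁.symm.toLinearMap ∘ₗ f)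
      (by
        intro h hh
        rw [LinearMap.comp_apply, ← hg₁ h hh]
        exact g₁.symm_apply_apply h)
      (by
        intro x hx y hy
        rw [hsup] at hx hy
        rw [LinearMap.comp_apply, LinearMap.comp_apply]
        exact (hg₁s _ _).trans (hfQ x hx y hy))
      (by
        intro x hx h0
        rw [hsup] at hx
        rw [LinearMap.comp_apply] at h0
        have h1 : f x = 0 := by
          have h2 := congrArg g₁ h0
          rw [map_zero] at h2
          rw [← h2]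
          exact (g₁.apply_symm_apply (f x)).symm
        exact hinj x hx h1) huH
    obtain ⟨e₂, he₂⟩ := toEquiv σ B hB g₂ hg₂Q
    refine ⟨e₂.trans g₁, ?_, ?_⟩
    · intro x y
      show B (g₁ (e₂ x)) (g₁ (e₂ y)) = B x y
      rw [hg₁Q, he₂, he₂, hg₂Q]
    · intro x hx
      rw [← hsup] at hx
      obtain ⟨h, hh, y, hy, rfl⟩ := Submodule.mem_sup.1 hx
      obtain ⟨c, rfl⟩ := Submodule.mem_span_singleton.1 hy
      show g₁ (e₂ (h + c • u)) = f (h + c • u)
      rw [he₂, map_add, map_smul, hg₂H h hh, hg₂u, map_add, map_smul, LinearMap.comp_apply,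
        map_add, map_smul, hg₁ h hh]
      congr 2
      exact g₁.apply_symm_apply (f u)

/-- Witt's Lemma for Hermitian forms. Let σ be a non-identity involutive automorphism of a finite field F and B a non-degenerate σ-sesquilinear form on a finite-dimensional F-space V which is conjugate-symmetric (σ (B x y) = B y x). Then every linear equivalence between subspaces X, Y of V preserving B extends to a B-preserving linear automorphism of V. -/
theorem result {F V : Type*} [Field F] [Finite F] [AddCommGroup V] [Module F V] [FiniteDimensional F V] (σ : F →+* F) (hσ : σ ≠ RingHom.id F) (hσ2 : ∀ a : F, σ (σ a) = a) (B : V →ₛₗ[σ] V →ₗ[F] F) (hS : B.IsSymm) (hB : B.Nondegenerate) (X Y : Submodule F V) (φ : X ≃ₗ[F] Y) (hφ : ∀ x x' : X, B (φ x : V) (φ x' : V) = B (x : V) (x' : V)) : ∃ g : V ≃ₗ[F] V, (∀ u v : V, B (g u) (g v) = B u v) ∧ ∀ x : X, g (x : V) = (φ x : V) := by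
  classical
  obtain ⟨π, hπ⟩ := LinearMap.exists_leftInverse_of_injective X.subtype (Submodule.ker_subtype X)
  obtain ⟨f, hf⟩ : ∃ f : V →ₗ[F] V, ∀ x : X, f (x : V) = (φ x : V) := by
    refine ⟨Y.subtype ∘ₗ φ.toLinearMap ∘ₗ π, fun x => ?_⟩
    have h1 : π (x : V) = x := LinearMap.congr_fun hπ x
    simp only [LinearMap.comp_apply, LinearEquiv.coe_coe, Submodule.subtype_apply]
    rw [h1]
  obtain ⟨g, hgQ, hg⟩ := witt_aux σ hσ hσ2 B hS hB _ X rfl f
    (by
      intro x hx y hy
      rw [hf ⟨x, hx⟩, hf ⟨y, hy⟩]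
      exact hφ ⟨x, hx⟩ ⟨y, hy⟩)
    (by
      intro x hx h0
      rw [hf ⟨x, hx⟩] at h0
      have h1 : φ ⟨x, hx⟩ = 0 := Subtype.ext h0
      have h2 := (LinearEquiv.map_eq_zero_iff φ).1 h1
      exact congrArg Subtype.val h2)
  exact ⟨g, hgQ, fun x => (hg x x.2).trans (hf x)⟩

end Cfsg.Agent.S0751
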