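import Cfsg.Statements.S0755

set_option autoImplicit false
open Cfsg

namespace Cfsg.Agent.S0755

theorem norm_surj {F : Type*} [Field F] [Finite F] (σ : F →+* F) (hσ : σ ≠ RingHom.id F)
    (hσ2 : ∀ a : F, σ (σ a) = a) (c : F) (hc : c ≠ 0) (hσc : σ c = c) :
    ∃ l : F, l * σ l = c := by
  let S : Fˣ →* Fˣ := Units.map (σ : F →* F)
  have hS : ∀ u : Fˣ, ((S u : Fˣ) : F) = σ (u : F) := fun u => rfl
  have hSS : ∀ u : Fˣ, S (S u) = u := fun u => Units.ext (by rw [hS, hS, hσ2])
  let N : Fˣ →* Fˣ := MonoidHom.id Fˣ * S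
  let ψ : Fˣ →* Fˣ := MonoidHom.id Fˣ / S
  have hN : ∀ u, N u = u * S u := fun u => rfl
  have hψ : ∀ u, ψ u = u / S u := fun u => rfl
  have h1 : ψ.range = N.ker := by
    apply le_antisymm
    · rintro _ ⟨u, rfl⟩
      rw [MonoidHom.mem_ker, hN, hψ, map_div, hSS]
      rw [div_mul_div_comm, mul_comm u (S u)]
      exact div_self' _
    · intro x hx
      rw [MonoidHom.mem_ker, hN] at hx
      have hx' : (x : F) * σ (x : F) = 1 := by
        have := congrArg Units.val hx
        simpa [hS] using this
      obtain ⟨a, ha⟩ : ∃ a : F, a + (x : F) * σ a ≠ 0 := by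
        by_contra hcon
        have hcon' : ∀ a : F, a + (x : F) * σ a = 0 := by
          intro a
          by_contra h
          exact hcon ⟨a, h⟩
        have hx1 : (x : F) = -1 := by
          have := hcon' 1
          simp only [map_one, mul_one] at this
          linear_combination this
        apply hσ
        ext a
        have := hcon' a
        rw [hx1] at this
        simp only [RingHom.id_apply]
        linear_combination -this
      refine ⟨Units.mk0 _ ha, ?_⟩
      rw [hψ, div_eq_iff_eq_mul]
      apply Units.ext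
      simp only [Units.val_mul, Units.val_mk0, hS, map_add, map_mul, hσ2]
      linear_combination (-a) * hx'
  have h2 : N.range ≤ ψ.ker := by
    rintro _ ⟨u, rfl⟩
    rw [MonoidHom.mem_ker, hψ, hN, map_mul, hSS, mul_comm]
    exact div_self' _
  have c1 := Subgroup.card_mul_index ψ.ker
  have c2 := Subgroup.card_mul_index N.ker
  rw [Subgroup.index_ker] at c1 c2
  rw [h1] at c1
  have hpos : 0 < Nat.card N.ker := Nat.card_pos
  have c3 : Nat.card ψ.ker = Nat.card N.range := by
    have : Nat.card ψ.ker * Nat.card N.ker = Nat.card N.range * Nat.card N.ker := by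
      rw [c1, mul_comm, c2]
    exact Nat.eq_of_mul_eq_mul_right hpos this
  have h3 : N.range = ψ.ker := Subgroup.eq_of_le_of_card_ge h2 c3.le
  have hmem : Units.mk0 c hc ∈ ψ.ker := by
    rw [MonoidHom.mem_ker, hψ, div_eq_one]
    apply Units.ext
    simp [hS, hσc]
  rw [← h3] at hmem
  obtain ⟨u, hu⟩ := hmem
  refine ⟨(u : F), ?_⟩
  have := congrArg Units.val hu
  simpa [hN, hS] using this

theorem li_of_orthonormal {F V : Type*} [Field F] [AddCommGroup V] [Module F V] (σ : F →+* F)
    (B : V →ₛₗ[σ] V →ₗ[F] F) {k : ℕ} (e : Fin k → V)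
    (he : ∀ i j, B (e i) (e j) = if i = j then 1 else 0) : LinearIndependent F e := by
  rw [Fintype.linearIndependent_iff]
  intro c hc i
  have h1 : B (e i) (∑ j, c j • e j) = c i := by
    simp only [map_sum, map_smul, smul_eq_mul, he, mul_ite, mul_one, mul_zero, Finset.sum_ite_eq,
      Finset.mem_univ, if_true]
  rw [hc, map_zero] at h1
  exact h1.symm

theorem ext_ortho {F V : Type*} [Field F] [AddCommGroup V] [Module F V] [FiniteDimensional F V]
    (σ : F →+* F) (hσ : σ ≠ RingHom.id F) (B : V →ₛₗ[σ] V →ₗ[F] F) (hS : B.IsSymm)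
    (hB : B.Nondegenerate) {k : ℕ} (e : Fin k → V)
    (he : ∀ i j, B (e i) (e j) = if i = j then 1 else 0) (hk : k < Module.finrank F V) :
    ∃ w, (∀ i, B (e i) w = 0) ∧ B w w ≠ 0 := by
  have hli := li_of_orthonormal σ B e he
  have hP : ∀ u i, B (e i) (u - ∑ j, (B (e j) u) • e j) = 0 := by
    intro u i
    simp only [map_sub, map_sum, map_smul, smul_eq_mul, he, mul_ite, mul_one, mul_zero,
      Finset.sum_ite_eq, Finset.mem_univ, if_true, sub_self]
  have hlt : Submodule.span F (Set.range e) < ⊤ := by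
    rw [lt_top_iff_ne_top]
    intro htop
    have h1 := finrank_span_eq_card hli
    rw [htop, finrank_top] at h1
    simp at h1
    omega
  obtain ⟨u, -, hu⟩ := SetLike.exists_of_lt hlt
  have hPu : u - ∑ j, (B (e j) u) • e j ≠ 0 := by
    intro h0
    apply hu
    rw [sub_eq_zero.1 h0]
    exact Submodule.sum_mem _ fun i _ => Submodule.smul_mem _ _ (Submodule.subset_span ⟨i, rfl⟩)
  by_contra hcon
  have hcon' : ∀ w, (∀ i, B (e i) w = 0) → B w w = 0 := by
    intro w hw
    by_contra hne
    exact hcon ⟨w, hw, hne⟩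
  obtain ⟨a, ha⟩ : ∃ a : F, σ a ≠ a := by
    by_contra hcon2
    exact hσ (RingHom.ext fun a => by
      by_contra h
      exact hcon2 ⟨a, h⟩)
  have hanti : ∀ x y, (∀ i, B (e i) x = 0) → (∀ i, B (e i) y = 0) → B y x = - B x y := by
    intro x y hx hy
    have h := hcon' (x + y) (fun i => by rw [map_add, hx i, hy i, add_zero])
    simp only [map_add, LinearMap.add_apply, hcon' x hx, hcon' y hy, zero_add, add_zero] at h
    exact eq_neg_of_add_eq_zero_left h
  have hWW : ∀ w w', (∀ i, B (e i) w = 0) → (∀ i, B (e i) w' = 0) → B w w' = 0 := by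
    intro w w' hw hw'
    have h1 : σ (B w w') = - B w w' := by rw [hS.eq w w', hanti w w' hw hw']
    have hw'a : ∀ i, B (e i) (a • w') = 0 := fun i => by rw [map_smul, hw' i, smul_zero]
    have h2 : σ (B w (a • w')) = - B w (a • w') := by
      rw [hS.eq w (a • w'), hanti w (a • w') hw hw'a]
    simp only [map_smul, smul_eq_mul, map_mul, h1] at h2
    have h3 : (σ a - a) * B w w' = 0 := by linear_combination -h2
    rcases mul_eq_zero.mp h3 with h | h
    · exact absurd (sub_eq_zero.mp h) ha
    · exact h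
  apply hPu
  apply hB.1
  intro y
  have hy : y = (y - ∑ j, (B (e j) y) • e j) + ∑ j, (B (e j) y) • e j := by abel
  rw [hy, map_add, hWW _ _ (hP u) (hP y), zero_add, map_sum]
  apply Finset.sum_eq_zero
  intro i _
  rw [map_smul, ← hS.eq (e i) (u - ∑ j, (B (e j) u) • e j), hP u i, map_zero, smul_zero]

/-- Classification of Hermitian forms over finite fields: if σ is a non-identity involutive automorphism of the finite field F and B is a non-degenerate conjugate-symmetric σ-sesquilinear form on the finite-dimensional space V, then V has a B-orthonormal basis. -/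
theorem result {F V : Type*} [Field F] [Finite F] [AddCommGroup V] [Module F V] [FiniteDimensional F V] (σ : F →+* F) (hσ : σ ≠ RingHom.id F) (hσ2 : ∀ a : F, σ (σ a) = a) (B : V →ₛₗ[σ] V →ₗ[F] F) (hS : B.IsSymm) (hB : B.Nondegenerate) : ∃ b : Module.Basis (Fin (Module.finrank F V)) F V, ∀ i j, B (b i) (b j) = if i = j then 1 else 0 := by
  have hfam : ∀ k, k ≤ Module.finrank F V →
      ∃ e : Fin k → V, ∀ i j, B (e i) (e j) = if i = j then 1 else 0 := by
    intro k
    induction k with
    | zero => intro _; exact ⟨Fin.elim0, fun i => i.elim0⟩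
    | succ k ih =>
      intro hk
      obtain ⟨e, he⟩ := ih (by omega)
      obtain ⟨w, hw, hd⟩ := ext_ortho σ hσ B hS hB e he (by omega)
      have hσd : σ (B w w) = B w w := hS.eq w w
      obtain ⟨l, hl⟩ := norm_surj σ hσ hσ2 (B w w)⁻¹ (inv_ne_zero hd) (by rw [map_inv₀, hσd])
      have hv : ∀ i, B (e i) (l • w) = 0 := fun i => by rw [map_smul, hw i, smul_zero]
      have hvv : B (l • w) (l • w) = 1 := by
        rw [map_smul, LinearMap.map_smulₛₗ, LinearMap.smul_apply, smul_eq_mul, smul_eq_mul,
          ← mul_assoc, hl, inv_mul_cancel₀ hd]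
      refine ⟨(Fin.snoc e (l • w) : Fin (k + 1) → V), ?_⟩
      intro i j
      refine Fin.lastCases ?_ (fun i => ?_) i <;> refine Fin.lastCases ?_ (fun j => ?_) j
      · simp only [Fin.snoc_last]
        rw [hvv, if_pos trivial]
      · simp only [Fin.snoc_last, Fin.snoc_castSucc]
        rw [← hS.eq (e j) (l • w), hv j, map_zero, if_neg (Fin.castSucc_lt_last j).ne']
      · simp only [Fin.snoc_last, Fin.snoc_castSucc]
        rw [hv i, if_neg (Fin.castSucc_lt_last i).ne]
      · simp only [Fin.snoc_castSucc, he, Fin.castSucc_inj]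
  obtain ⟨e, he⟩ := hfam _ le_rfl
  have hli := li_of_orthonormal σ B e he
  refine ⟨basisOfLinearIndependentOfCardEqFinrank' e hli (by simp), ?_⟩
  intro i j
  rw [coe_basisOfLinearIndependentOfCardEqFinrank']
  exact he i j

end Cfsg.Agent.S0755
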