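import Cfsg.Statements.S0779

set_option autoImplicit false
open Cfsg

namespace Cfsg.Agent.S0779

/-- Unitary transvections: let |F| = q², h the standard Hermitian form Σ x_i y_i^q and v ≠ 0 with h(v, v) = 0. The linear map x ↦ x + c h(x, v) v is an isometry of h if and only if c = 0 or c^(q−1) = −1. -/
theorem result {F : Type*} [Field F] [Fintype F] {q : ℕ} (hF : Fintype.card F = q ^ 2) (n : ℕ) (v : Fin n → F) (hv : v ≠ 0) (hv0 : Cfsg.hermForm n F q v v = 0) (c : F) : (∀ x y : Fin n → F, Cfsg.hermForm n F q ((Cfsg.unitaryTransvection n q v c).mulVec x) ((Cfsg.unitaryTransvection n q v c).mulVec y) = Cfsg.hermForm n F q x y) ↔ (c = 0 ∨ c ^ (q - 1) = -1) := by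
  classical
  obtain ⟨p, hp⟩ := CharP.exists F
  have hpp : p.Prime := CharP.char_is_prime F p
  haveI : Fact p.Prime := ⟨hpp⟩
  obtain ⟨m, -, hm⟩ := FiniteField.card F p
  have hq : ∃ j, q = p ^ j := by
    have hdvd : q ∣ p ^ (m : ℕ) := by
      rw [← hm, hF]
      exact Dvd.intro_left q (by ring)
    obtain ⟨j, -, hj⟩ := (Nat.dvd_prime_pow hpp).1 hdvd
    exact ⟨j, hj⟩
  obtain ⟨j, rfl⟩ := hq
  set φ : F →+* F := iterateFrobenius F p j with hφ
  have hφx : ∀ x : F, φ x = x ^ (p ^ j) := fun x => rfl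
  have hφφ : ∀ x : F, φ (φ x) = x := by
    intro x
    rw [hφx, hφx, ← pow_mul, ← sq, ← hF]
    exact FiniteField.pow_card x
  have hh : ∀ x y : Fin n → F, Cfsg.hermForm n F (p ^ j) x y = ∑ i, x i * φ (y i) := by
    intro x y
    simp [Cfsg.hermForm, hφx]
  have hT : ∀ x : Fin n → F, (Cfsg.unitaryTransvection n (p ^ j) v c).mulVec x =
      x + (c * Cfsg.hermForm n F (p ^ j) x v) • v := by
    intro x
    have e : (fun i => v i ^ (p ^ j)) ⬝ᵥ x = Cfsg.hermForm n F (p ^ j) x v := by
      simp [Cfsg.hermForm, dotProduct, mul_comm]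
    rw [Cfsg.unitaryTransvection, Matrix.add_mulVec, Matrix.one_mulVec, Matrix.smul_mulVec,
      Matrix.vecMulVec_mulVec, e, mul_smul]
    simp
  have hadd1 : ∀ (x y : Fin n → F) (a : F), Cfsg.hermForm n F (p ^ j) (x + a • v) y =
      Cfsg.hermForm n F (p ^ j) x y + a * Cfsg.hermForm n F (p ^ j) v y := by
    intro x y a
    simp only [hh, Pi.add_apply, Pi.smul_apply, smul_eq_mul, add_mul, Finset.sum_add_distrib,
      Finset.mul_sum, mul_assoc]
  have hadd2 : ∀ (x y : Fin n → F) (b : F), Cfsg.hermForm n F (p ^ j) x (y + b • v) =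
      Cfsg.hermForm n F (p ^ j) x y + φ b * Cfsg.hermForm n F (p ^ j) x v := by
    intro x y b
    simp only [hh, Pi.add_apply, Pi.smul_apply, smul_eq_mul, map_add, map_mul, mul_add,
      Finset.sum_add_distrib, Finset.mul_sum]
    congr 1
    apply Finset.sum_congr rfl
    intro i _
    ring
  have hconj : ∀ y : Fin n → F, φ (Cfsg.hermForm n F (p ^ j) y v) =
      Cfsg.hermForm n F (p ^ j) v y := by
    intro y
    rw [hh, hh, map_sum]
    apply Finset.sum_congr rfl
    intro i _
    rw [map_mul, hφφ, mul_comm]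
  have hv0' : Cfsg.hermForm n F (p ^ j) v v = 0 := hv0
  have key : ∀ x y : Fin n → F, Cfsg.hermForm n F (p ^ j)
      ((Cfsg.unitaryTransvection n (p ^ j) v c).mulVec x)
      ((Cfsg.unitaryTransvection n (p ^ j) v c).mulVec y) =
      Cfsg.hermForm n F (p ^ j) x y +
        (c + φ c) * Cfsg.hermForm n F (p ^ j) x v * Cfsg.hermForm n F (p ^ j) v y := by
    intro x y
    rw [hT, hT, hadd1, hadd2, hadd2, hv0', map_mul, hconj]
    ring
  have hqpos : 0 < p ^ j := Nat.pos_of_ne_zero (pow_ne_zero _ hpp.ne_zero)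
  have hφc : φ c = c ^ (p ^ j - 1) * c := by
    rw [hφx, ← pow_succ]
    congr 1
    omega
  constructor
  · intro h
    obtain ⟨i, hi⟩ : ∃ i, v i ≠ 0 := by
      by_contra hcon
      apply hv
      ext i
      by_contra hi
      exact hcon ⟨i, hi⟩
    have h1 := h (Pi.single i 1) (Pi.single i 1)
    rw [key] at h1
    have e1 : Cfsg.hermForm n F (p ^ j) (Pi.single i 1) v = φ (v i) := by
      rw [hh, Finset.sum_eq_single i]
      · simp
      · intro b _ hb
        simp [Pi.single_apply, hb]
      · simp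
    have e2 : Cfsg.hermForm n F (p ^ j) v (Pi.single i 1) = v i := by
      rw [hh, Finset.sum_eq_single i]
      · simp
      · intro b _ hb
        simp [Pi.single_apply, hb]
      · simp
    rw [e1, e2] at h1
    have hφvi : φ (v i) ≠ 0 := by
      rw [hφx]
      exact pow_ne_zero _ hi
    have h2 : (c + φ c) * φ (v i) * v i = 0 := by linear_combination h1
    have h3 : c + φ c = 0 := by
      rcases mul_eq_zero.1 h2 with h4 | h4
      · rcases mul_eq_zero.1 h4 with h5 | h5
        · exact h5
        · exact absurd h5 hφvi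
      · exact absurd h4 hi
    by_cases hc : c = 0
    · exact Or.inl hc
    · right
      rw [hφc] at h3
      have h4 : c * (c ^ (p ^ j - 1) + 1) = 0 := by linear_combination h3
      rcases mul_eq_zero.1 h4 with h5 | h5
      · exact absurd h5 hc
      · linear_combination h5
  · intro h x y
    rw [key]
    have h3 : c + φ c = 0 := by
      rcases h with h | h
      · rw [h, map_zero, add_zero]
      · rw [hφc, h]
        ring
    rw [h3]
    ring

end Cfsg.Agent.S0779
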