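import Cfsg.Statements.S0776
import Mathlib
import Cfsg.Agent.Lib.Helper13.SympMat

set_option autoImplicit false
open Cfsg

namespace Cfsg.Agent.S0776

open Matrix Cfsg.Agent.Lib.Helper13

theorem hyp_system {F V : Type*} [Field F] [AddCommGroup V] [Module F V] [FiniteDimensional F V]
    (B : LinearMap.BilinForm F V) (hA : B.IsAlt) :
    ∀ (k : ℕ) (W : Submodule F V), (∀ u ∈ W, (∀ v ∈ W, B u v = 0) → u = 0) →
      2 * k ≤ Module.finrank F W →
      ∃ a b : Fin k → V, (∀ i, a i ∈ W) ∧ (∀ i, b i ∈ W) ∧ (∀ i j, B (a i) (a j) = 0) ∧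
        (∀ i j, B (b i) (b j) = 0) ∧ (∀ i j, B (a i) (b j) = if i = j then 1 else 0) := by
  intro k
  induction k with
  | zero =>
    intro W _ _
    exact ⟨Fin.elim0, Fin.elim0, fun i => i.elim0, fun i => i.elim0, fun i => i.elim0,
      fun i => i.elim0, fun i => i.elim0⟩
  | succ k ih =>
    intro W hW hdim
    have hWne : W ≠ ⊥ := by
      intro h
      rw [h, finrank_bot] at hdim
      omega
    obtain ⟨a, haW, ha0⟩ := Submodule.exists_mem_ne_zero_of_ne_bot hWne
    have hex : ∃ b' ∈ W, B a b' ≠ 0 := by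
      by_contra hno
      push Not at hno
      exact ha0 (hW a haW hno)
    obtain ⟨b', hb'W, hab'⟩ := hex
    obtain ⟨b, hb⟩ : ∃ b : V, b = (B a b')⁻¹ • b' := ⟨_, rfl⟩
    have hbW : b ∈ W := by
      rw [hb]
      exact W.smul_mem _ hb'W
    have hab : B a b = 1 := by
      rw [hb, map_smul, smul_eq_mul, inv_mul_cancel₀ hab']
    have hba : B b a = -1 := by
      rw [← hA.neg_eq a b, hab]
    have hb0 : b ≠ 0 := by
      intro h0
      rw [h0, map_zero] at hab
      exact zero_ne_one hab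
    obtain ⟨W', hW'⟩ : ∃ W' : Submodule F V,
      W' = W ⊓ LinearMap.ker (B a) ⊓ LinearMap.ker (B b) := ⟨_, rfl⟩
    have hW'mem : ∀ x, x ∈ W' ↔ x ∈ W ∧ B a x = 0 ∧ B b x = 0 := by
      intro x
      rw [hW']
      simp only [Submodule.mem_inf, LinearMap.mem_ker, and_assoc]
    have key : ∀ v ∈ W, v - B a v • b + B b v • a ∈ W' := by
      intro v hv
      rw [hW'mem]
      refine ⟨add_mem (sub_mem hv (W.smul_mem _ hbW)) (W.smul_mem _ haW), ?_, ?_⟩
      · simp only [map_add, map_sub, map_smul, smul_eq_mul, hab, hA a]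
        ring
      · simp only [map_add, map_sub, map_smul, smul_eq_mul, hba, hA b]
        ring
    have hW'nd : ∀ u ∈ W', (∀ v ∈ W', B u v = 0) → u = 0 := by
      intro u hu hu0
      obtain ⟨huW, hua, hub⟩ := (hW'mem u).1 hu
      apply hW u huW
      intro v hv
      have h1 := hu0 _ (key v hv)
      have hub' : B u b = 0 := by rw [← hA.neg_eq b u, hub, neg_zero]
      have hua' : B u a = 0 := by rw [← hA.neg_eq a u, hua, neg_zero]
      simp only [map_add, map_sub, map_smul, smul_eq_mul, hub', hua', mul_zero, sub_zero,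
        add_zero] at h1
      exact h1
    have hdim' : 2 * k ≤ Module.finrank F W' := by
      have hle : W ≤ Submodule.span F {a} ⊔ Submodule.span F {b} ⊔ W' := by
        intro v hv
        have h1 : v = (- B b v • a + B a v • b) + (v - B a v • b + B b v • a) := by
          rw [neg_smul]
          abel
        rw [h1]
        refine add_mem ((le_sup_left : Submodule.span F {a} ⊔ Submodule.span F {b} ≤ _)
          (add_mem ((le_sup_left : Submodule.span F {a} ≤ _)
            (Submodule.smul_mem _ _ (Submodule.mem_span_singleton_self a)))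
            ((le_sup_right : Submodule.span F {b} ≤ _)
            (Submodule.smul_mem _ _ (Submodule.mem_span_singleton_self b)))))
          ((le_sup_right : W' ≤ _) (key v hv))
      have h1 := Submodule.finrank_mono hle
      have h2 := Submodule.finrank_add_le_finrank_add_finrank
        (Submodule.span F {a} ⊔ Submodule.span F {b}) W'
      have h3 := Submodule.finrank_add_le_finrank_add_finrank
        (Submodule.span F {a}) (Submodule.span F {b})
      rw [finrank_span_singleton ha0, finrank_span_singleton hb0] at h3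
      omega
    obtain ⟨a', b', ha', hb', haa, hbb, hab''⟩ := ih W' hW'nd hdim'
    have ha'a : ∀ i, B a (a' i) = 0 := fun i => ((hW'mem _).1 (ha' i)).2.1
    have ha'b : ∀ i, B b (a' i) = 0 := fun i => ((hW'mem _).1 (ha' i)).2.2
    have hb'a : ∀ i, B a (b' i) = 0 := fun i => ((hW'mem _).1 (hb' i)).2.1
    have hb'b : ∀ i, B b (b' i) = 0 := fun i => ((hW'mem _).1 (hb' i)).2.2
    refine ⟨Fin.cons a a', Fin.cons b b', ?_, ?_, ?_, ?_, ?_⟩
    · intro i
      refine Fin.cases ?_ (fun i => ?_) i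
      · simpa using haW
      · simpa using ((hW'mem _).1 (ha' i)).1
    · intro i
      refine Fin.cases ?_ (fun i => ?_) i
      · simpa using hbW
      · simpa using ((hW'mem _).1 (hb' i)).1
    · intro i j
      refine Fin.cases ?_ (fun i => ?_) i <;> refine Fin.cases ?_ (fun j => ?_) j
      · simpa using hA a
      · simpa using ha'a j
      · simp only [Fin.cons_succ, Fin.cons_zero]
        rw [← hA.neg_eq a (a' i), ha'a i, neg_zero]
      · simpa using haa i j
    · intro i j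
      refine Fin.cases ?_ (fun i => ?_) i <;> refine Fin.cases ?_ (fun j => ?_) j
      · simpa using hA b
      · simpa using hb'b j
      · simp only [Fin.cons_succ, Fin.cons_zero]
        rw [← hA.neg_eq b (b' i), hb'b i, neg_zero]
      · simpa using hbb i j
    · intro i j
      refine Fin.cases ?_ (fun i => ?_) i <;> refine Fin.cases ?_ (fun j => ?_) j
      · simpa using hab
      · simp only [Fin.cons_succ, Fin.cons_zero]
        rw [hb'a j, if_neg (Fin.succ_ne_zero j).symm]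
      · simp only [Fin.cons_succ, Fin.cons_zero]
        rw [← hA.neg_eq b (a' i), ha'b i, neg_zero, if_neg (Fin.succ_ne_zero i)]
      · simp only [Fin.cons_succ]
        rw [hab'' i j]
        simp only [Fin.succ_inj]

/-- conjugating the stabiliser -/
theorem stab_conj {H : Type*} [Group H] {ι : Type} [Fintype ι] [DecidableEq ι] {F : Type*}
    [CommRing F] (toMat : H →* Matrix ι ι F) (S S' : Set (ι → F)) (A : H)
    (hA : ∀ v, v ∈ S' ↔ toMat A *ᵥ v ∈ S) :
    Nonempty (↥(Cfsg.stabilizing toMat S) ≃* ↥(Cfsg.stabilizing toMat S')) := by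
  have hAA : ∀ v, toMat A *ᵥ (toMat A⁻¹ *ᵥ v) = v := by
    intro v
    rw [Matrix.mulVec_mulVec, ← map_mul, mul_inv_cancel, map_one, Matrix.one_mulVec]
  have hAA' : ∀ v, toMat A⁻¹ *ᵥ (toMat A *ᵥ v) = v := by
    intro v
    rw [Matrix.mulVec_mulVec, ← map_mul, inv_mul_cancel, map_one, Matrix.one_mulVec]
  have hA' : ∀ v, v ∈ S ↔ toMat A⁻¹ *ᵥ v ∈ S' := by
    intro v
    rw [hA, hAA]
  refine ⟨{ toFun := fun x => ⟨A⁻¹ * x.1 * A, ?_⟩
            invFun := fun y => ⟨A * y.1 * A⁻¹, ?_⟩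
            left_inv := ?_
            right_inv := ?_
            map_mul' := ?_ }⟩
  · intro v
    rw [map_mul, map_mul, ← Matrix.mulVec_mulVec, ← Matrix.mulVec_mulVec, ← hA', ← x.2 _, ← hA]
  · intro v
    rw [map_mul, map_mul, ← Matrix.mulVec_mulVec, ← Matrix.mulVec_mulVec]
    have h1 := hA (toMat y.1 *ᵥ (toMat A⁻¹ *ᵥ v))
    rw [← h1, ← y.2 _, ← hA']
  · intro x
    apply Subtype.ext
    show A * (A⁻¹ * x.1 * A) * A⁻¹ = x.1
    group
  · intro y
    apply Subtype.ext
    show A⁻¹ * (A * y.1 * A⁻¹) * A = y.1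
    group
  · intro x y
    apply Subtype.ext
    show A⁻¹ * (x.1 * y.1) * A = (A⁻¹ * x.1 * A) * (A⁻¹ * y.1 * A)
    group

/-- index equivalences -/
def e0 (m k : ℕ) (hk : k ≤ m) : Fin k ⊕ Fin (m - k) ≃ Fin m :=
  finSumFinEquiv.trans (finCongr (by omega))

def eI (m k : ℕ) (hk : k ≤ m) :
    (Fin k ⊕ Fin k) ⊕ (Fin (m - k) ⊕ Fin (m - k)) ≃ Fin m ⊕ Fin m :=
  (Equiv.sumSumSumComm (Fin k) (Fin k) (Fin (m - k)) (Fin (m - k))).trans
    (Equiv.sumCongr (e0 m k hk) (e0 m k hk))

theorem J_sub {F : Type*} [Field F] (m k : ℕ) (hk : k ≤ m) :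
    (Matrix.J (Fin m) F).submatrix (eI m k hk) (eI m k hk) =
      Matrix.fromBlocks (Matrix.J (Fin k) F) 0 0 (Matrix.J (Fin (m - k)) F) := by
  ext (x | x) (y | y) <;> rcases x with i | i <;> rcases y with j | j <;>
    simp [eI, Matrix.J, Matrix.one_apply]

theorem stdStab {F : Type*} [Field F] (m k : ℕ) (hk : k ≤ m) :
    Nonempty (↥(Cfsg.stabilizing (Cfsg.spToMat m F) {v : Fin m ⊕ Fin m → F |
      ∀ t : Fin (m - k) ⊕ Fin (m - k), v (eI m k hk (Sum.inr t)) = 0}) ≃*
      Matrix.symplecticGroup (Fin k) F × Matrix.symplecticGroup (Fin (m - k)) F) := by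
  classical
  obtain ⟨e, he⟩ : ∃ e : (Fin k ⊕ Fin k) ⊕ (Fin (m - k) ⊕ Fin (m - k)) ≃ Fin m ⊕ Fin m,
    e = eI m k hk := ⟨_, rfl⟩
  rw [← he]
  have hJ : (Matrix.J (Fin m) F).submatrix e e =
      Matrix.fromBlocks (Matrix.J (Fin k) F) 0 0 (Matrix.J (Fin (m - k)) F) := by
    rw [he]
    exact J_sub m k hk
  have hJ' : Matrix.J (Fin m) F = (Matrix.fromBlocks (Matrix.J (Fin k) F) 0 0
      (Matrix.J (Fin (m - k)) F)).submatrix e.symm e.symm := by
    rw [← hJ]
    simp
  have hsymp : ∀ (X : Matrix.symplecticGroup (Fin k) F)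
      (Y : Matrix.symplecticGroup (Fin (m - k)) F),
      (Matrix.fromBlocks (X : Matrix (Fin k ⊕ Fin k) (Fin k ⊕ Fin k) F) 0 0
        (Y : Matrix (Fin (m - k) ⊕ Fin (m - k)) (Fin (m - k) ⊕ Fin (m - k)) F)).submatrix
        e.symm e.symm ∈ Matrix.symplecticGroup (Fin m) F := by
    intro X Y
    have hX := (SymplecticGroup.mem_iff).1 X.2
    have hY := (SymplecticGroup.mem_iff).1 Y.2
    rw [SymplecticGroup.mem_iff, hJ', Matrix.transpose_submatrix, Matrix.submatrix_mul_equiv,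
      Matrix.submatrix_mul_equiv, Matrix.fromBlocks_transpose, Matrix.fromBlocks_multiply,
      Matrix.fromBlocks_multiply]
    simp only [Matrix.zero_mul, Matrix.mul_zero, add_zero, zero_add, Matrix.transpose_zero,
      hX, hY]
  have hact : ∀ (X : Matrix (Fin k ⊕ Fin k) (Fin k ⊕ Fin k) F)
      (Y : Matrix (Fin (m - k) ⊕ Fin (m - k)) (Fin (m - k) ⊕ Fin (m - k)) F)
      (v : Fin m ⊕ Fin m → F) (t : Fin (m - k) ⊕ Fin (m - k)),
      (((Matrix.fromBlocks X 0 0 Y).submatrix e.symm e.symm) *ᵥ v) (e (Sum.inr t)) =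
        (Y *ᵥ ((v ∘ e) ∘ Sum.inr)) t := by
    intro X Y v t
    rw [Matrix.submatrix_mulVec_equiv, Equiv.symm_symm, Matrix.fromBlocks_mulVec]
    simp
  have hstab : ∀ (X : Matrix.symplecticGroup (Fin k) F)
      (Y : Matrix.symplecticGroup (Fin (m - k)) F),
      (⟨_, hsymp X Y⟩ : Matrix.symplecticGroup (Fin m) F) ∈
        Cfsg.stabilizing (Cfsg.spToMat m F) {v : Fin m ⊕ Fin m → F |
          ∀ t : Fin (m - k) ⊕ Fin (m - k), v (e (Sum.inr t)) = 0} := by
    intro X Y v
    show (∀ t, v (e (Sum.inr t)) = 0) ↔ ∀ t,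
      (((Matrix.fromBlocks (X : Matrix (Fin k ⊕ Fin k) (Fin k ⊕ Fin k) F) 0 0
        (Y : Matrix (Fin (m - k) ⊕ Fin (m - k)) (Fin (m - k) ⊕ Fin (m - k)) F)).submatrix
        e.symm e.symm) *ᵥ v) (e (Sum.inr t)) = 0
    simp only [hact]
    constructor
    · intro h t
      have h0 : (v ∘ e) ∘ Sum.inr = 0 := funext h
      rw [h0, Matrix.mulVec_zero]
      rfl
    · intro h t
      have h1 : (Y : Matrix (Fin (m - k) ⊕ Fin (m - k)) (Fin (m - k) ⊕ Fin (m - k)) F) *ᵥ
          ((v ∘ e) ∘ Sum.inr) = 0 := funext h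
      have h2 := congrArg (fun w => ((Y⁻¹ : Matrix.symplecticGroup (Fin (m - k)) F) :
        Matrix (Fin (m - k) ⊕ Fin (m - k)) (Fin (m - k) ⊕ Fin (m - k)) F) *ᵥ w) h1
      simp only [Matrix.mulVec_mulVec, Matrix.mulVec_zero] at h2
      rw [← Submonoid.coe_mul, inv_mul_cancel, Submonoid.coe_one, Matrix.one_mulVec] at h2
      exact congrFun h2 t
  let ψ : Matrix.symplecticGroup (Fin k) F × Matrix.symplecticGroup (Fin (m - k)) F →*
      ↥(Cfsg.stabilizing (Cfsg.spToMat m F) {v : Fin m ⊕ Fin m → F |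
        ∀ t : Fin (m - k) ⊕ Fin (m - k), v (e (Sum.inr t)) = 0}) :=
    { toFun := fun p => ⟨⟨_, hsymp p.1 p.2⟩, hstab p.1 p.2⟩
      map_one' := by
        apply Subtype.ext
        apply Subtype.ext
        show (Matrix.fromBlocks (1 : Matrix (Fin k ⊕ Fin k) (Fin k ⊕ Fin k) F) 0 0
          (1 : Matrix (Fin (m - k) ⊕ Fin (m - k)) (Fin (m - k) ⊕ Fin (m - k)) F)).submatrix
          e.symm e.symm = 1
        rw [Matrix.fromBlocks_one, Matrix.submatrix_one_equiv]
      map_mul' := by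
        intro p q
        apply Subtype.ext
        apply Subtype.ext
        show (Matrix.fromBlocks
          ((p.1 : Matrix (Fin k ⊕ Fin k) (Fin k ⊕ Fin k) F) *
            (q.1 : Matrix (Fin k ⊕ Fin k) (Fin k ⊕ Fin k) F)) 0 0
          ((p.2 : Matrix (Fin (m - k) ⊕ Fin (m - k)) (Fin (m - k) ⊕ Fin (m - k)) F) *
            (q.2 : Matrix (Fin (m - k) ⊕ Fin (m - k)) (Fin (m - k) ⊕ Fin (m - k)) F))).submatrix
            e.symm e.symm =
          (Matrix.fromBlocks (p.1 : Matrix (Fin k ⊕ Fin k) (Fin k ⊕ Fin k) F) 0 0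
            (p.2 : Matrix (Fin (m - k) ⊕ Fin (m - k)) (Fin (m - k) ⊕ Fin (m - k)) F)).submatrix
            e.symm e.symm *
          (Matrix.fromBlocks (q.1 : Matrix (Fin k ⊕ Fin k) (Fin k ⊕ Fin k) F) 0 0
            (q.2 : Matrix (Fin (m - k) ⊕ Fin (m - k)) (Fin (m - k) ⊕ Fin (m - k)) F)).submatrix
            e.symm e.symm
        rw [Matrix.submatrix_mul_equiv, Matrix.fromBlocks_multiply]
        simp }
  have hψ : ∀ p, (((ψ p : Matrix.symplecticGroup (Fin m) F)) :
      Matrix (Fin m ⊕ Fin m) (Fin m ⊕ Fin m) F) =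
      (Matrix.fromBlocks (p.1 : Matrix (Fin k ⊕ Fin k) (Fin k ⊕ Fin k) F) 0 0
        (p.2 : Matrix (Fin (m - k) ⊕ Fin (m - k)) (Fin (m - k) ⊕ Fin (m - k)) F)).submatrix
        e.symm e.symm := fun p => rfl
  have hinj : Function.Injective ψ := by
    intro p q hpq
    have h1 := congrArg (fun g : ↥(Cfsg.stabilizing (Cfsg.spToMat m F)
      {v : Fin m ⊕ Fin m → F | ∀ t : Fin (m - k) ⊕ Fin (m - k), v (e (Sum.inr t)) = 0}) =>
      ((((g : Matrix.symplecticGroup (Fin m) F)) :
        Matrix (Fin m ⊕ Fin m) (Fin m ⊕ Fin m) F)).submatrix e e) hpq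
    simp only [hψ, Matrix.submatrix_submatrix, Equiv.symm_comp_self, Matrix.submatrix_id_id]
      at h1
    rw [Matrix.fromBlocks_inj] at h1
    exact Prod.ext (Subtype.ext h1.1) (Subtype.ext h1.2.2.2)
  have hsurj : Function.Surjective ψ := by
    intro g
    obtain ⟨M, hM⟩ : ∃ M : Matrix ((Fin k ⊕ Fin k) ⊕ (Fin (m - k) ⊕ Fin (m - k)))
        ((Fin k ⊕ Fin k) ⊕ (Fin (m - k) ⊕ Fin (m - k))) F,
      M = ((g : Matrix.symplecticGroup (Fin m) F) :
        Matrix (Fin m ⊕ Fin m) (Fin m ⊕ Fin m) F).submatrix e e := ⟨_, rfl⟩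
    have hg1 : ((g : Matrix.symplecticGroup (Fin m) F) :
        Matrix (Fin m ⊕ Fin m) (Fin m ⊕ Fin m) F) = M.submatrix e.symm e.symm := by
      rw [hM]
      simp
    have h21 : M.toBlocks₂₁ = 0 := by
      ext t s
      have h1 := (g.2 (Pi.single (e (Sum.inl s)) 1)).1 (by
        intro t'
        rw [Pi.single_apply, if_neg]
        intro h
        exact Sum.inr_ne_inl (e.injective h)) t
      have h2 : (Cfsg.spToMat m F) (g : Matrix.symplecticGroup (Fin m) F) =
          ((g : Matrix.symplecticGroup (Fin m) F) :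
            Matrix (Fin m ⊕ Fin m) (Fin m ⊕ Fin m) F) := rfl
      rw [h2, Matrix.mulVec_single_one] at h1
      rw [hM]
      simpa [Matrix.toBlocks₂₁] using h1
    have hMeq : M = Matrix.fromBlocks M.toBlocks₁₁ M.toBlocks₁₂ 0 M.toBlocks₂₂ := by
      rw [← h21, Matrix.fromBlocks_toBlocks]
    have hMs : M * Matrix.fromBlocks (Matrix.J (Fin k) F) 0 0 (Matrix.J (Fin (m - k)) F) * Mᵀ =
        Matrix.fromBlocks (Matrix.J (Fin k) F) 0 0 (Matrix.J (Fin (m - k)) F) := by
      have h1 := (SymplecticGroup.mem_iff).1 g.1.2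
      rw [hg1, hJ', Matrix.transpose_submatrix, Matrix.submatrix_mul_equiv,
        Matrix.submatrix_mul_equiv] at h1
      have h2 := congrArg (fun N => N.submatrix e e) h1
      simpa using h2
    rw [hMeq, Matrix.fromBlocks_transpose, Matrix.fromBlocks_multiply,
      Matrix.fromBlocks_multiply, Matrix.fromBlocks_inj] at hMs
    simp only [Matrix.zero_mul, Matrix.mul_zero, add_zero, zero_add, Matrix.transpose_zero]
      at hMs
    obtain ⟨hs1, hs2, -, hs4⟩ := hMs
    have hY : M.toBlocks₂₂ ∈ Matrix.symplecticGroup (Fin (m - k)) F :=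
      (SymplecticGroup.mem_iff).2 hs4
    have hY' := (SymplecticGroup.mem_iff').1 hY
    have hX : M.toBlocks₁₂ = 0 := by
      have h5 : M.toBlocks₁₂ * Matrix.J (Fin (m - k)) F * M.toBlocks₂₂ᵀ *
          (Matrix.J (Fin (m - k)) F * M.toBlocks₂₂) = 0 := by
        rw [hs2, Matrix.zero_mul]
      rw [Matrix.mul_assoc (M.toBlocks₁₂ * Matrix.J (Fin (m - k)) F), ← Matrix.mul_assoc
        M.toBlocks₂₂ᵀ, hY', Matrix.mul_assoc, Matrix.J_squared] at h5
      simpa using h5
    rw [hX] at hs1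
    simp only [Matrix.zero_mul, add_zero] at hs1
    have hA : M.toBlocks₁₁ ∈ Matrix.symplecticGroup (Fin k) F :=
      (SymplecticGroup.mem_iff).2 hs1
    refine ⟨(⟨M.toBlocks₁₁, hA⟩, ⟨M.toBlocks₂₂, hY⟩), ?_⟩
    apply Subtype.ext
    apply Subtype.ext
    rw [hψ, hg1]
    congr 1
    rw [← hX]
    exact hMeq.symm
  exact ⟨(MulEquiv.ofBijective ψ ⟨hinj, hsurj⟩).symm⟩

theorem form_sum {F : Type*} [Field F] (m : ℕ) (x y : Fin m ⊕ Fin m → F) :
    SympMat.form m F x y =
      ∑ i : Fin m, (x (Sum.inr i) * y (Sum.inl i) - x (Sum.inl i) * y (Sum.inr i)) := by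
  rw [SympMat.form_apply, Cfsg.sympForm, Matrix.J, Matrix.fromBlocks_mulVec]
  simp only [dotProduct, Fintype.sum_sum_type, Sum.elim_inl, Sum.elim_inr, Matrix.zero_mulVec,
    Matrix.neg_mulVec, Matrix.one_mulVec, zero_add, add_zero, Pi.neg_apply, Function.comp_apply]
  rw [← Finset.sum_add_distrib]
  apply Finset.sum_congr rfl
  intro i _
  ring

theorem exists_map {F : Type*} [Field F] (m k : ℕ) (hk : k ≤ m)
    (W : Submodule F (Fin m ⊕ Fin m → F)) (hWk : Module.finrank F W = 2 * k)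
    (hW : ∀ u ∈ W, (∀ v ∈ W, Cfsg.sympForm m F u v = 0) → u = 0) :
    ∃ A : Matrix.symplecticGroup (Fin m) F, ∀ v : Fin m ⊕ Fin m → F,
      v ∈ {v : Fin m ⊕ Fin m → F | ∀ t : Fin (m - k) ⊕ Fin (m - k),
        v (eI m k hk (Sum.inr t)) = 0} ↔
      (Cfsg.spToMat m F A) *ᵥ v ∈ (W : Set (Fin m ⊕ Fin m → F)) := by
  classical
  obtain ⟨a, b, haW, hbW, haa, hbb, hab⟩ := hyp_system (SympMat.form m F) (SympMat.form_alt m)
    k W (by
      intro u hu h
      exact hW u hu (fun v hv => by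
        rw [← SympMat.form_apply]
        exact h v hv)) (by omega)
  have hba : ∀ i j, SympMat.form m F (b i) (a j) = if i = j then -1 else 0 := by
    intro i j
    rw [← (SympMat.form_alt m).neg_eq (a j) (b i), hab j i]
    by_cases h : i = j
    · subst h
      simp
    · rw [if_neg h, if_neg (Ne.symm h), neg_zero]
  let W₀ : Submodule F (Fin m ⊕ Fin m → F) :=
    { carrier := {v | ∀ t : Fin (m - k) ⊕ Fin (m - k), v (eI m k hk (Sum.inr t)) = 0}
      add_mem' := by
        intro x y hx hy t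
        rw [Pi.add_apply, hx t, hy t, add_zero]
      zero_mem' := fun t => rfl
      smul_mem' := by
        intro c x hx t
        rw [Pi.smul_apply, hx t, smul_zero] }
  have hW₀ : ∀ v, v ∈ W₀ ↔ ∀ t : Fin (m - k) ⊕ Fin (m - k), v (eI m k hk (Sum.inr t)) = 0 :=
    fun v => Iff.rfl
  obtain ⟨f₀, hf₀⟩ : ∃ f₀ : (Fin m ⊕ Fin m → F) →ₗ[F] (Fin m ⊕ Fin m → F),
      ∀ x, f₀ x = ∑ i : Fin k, (x (eI m k hk (Sum.inl (Sum.inr i))) • a i +
        x (eI m k hk (Sum.inl (Sum.inl i))) • b i) :=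
    ⟨∑ i : Fin k, ((LinearMap.proj (eI m k hk (Sum.inl (Sum.inr i)))).smulRight (a i) +
      (LinearMap.proj (eI m k hk (Sum.inl (Sum.inl i)))).smulRight (b i)), fun x => by
      simp [LinearMap.sum_apply]⟩
  have hform : ∀ x y : Fin m ⊕ Fin m → F, SympMat.form m F x y =
      ∑ i : Fin k, (x (eI m k hk (Sum.inl (Sum.inr i))) * y (eI m k hk (Sum.inl (Sum.inl i))) -
        x (eI m k hk (Sum.inl (Sum.inl i))) * y (eI m k hk (Sum.inl (Sum.inr i)))) +
      ∑ j : Fin (m - k),
        (x (eI m k hk (Sum.inr (Sum.inr j))) * y (eI m k hk (Sum.inr (Sum.inl j))) -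
        x (eI m k hk (Sum.inr (Sum.inl j))) * y (eI m k hk (Sum.inr (Sum.inr j)))) := by
    intro x y
    rw [form_sum, ← Equiv.sum_comp (e0 m k hk), Fintype.sum_sum_type]
    rfl
  have hiso : ∀ x ∈ W₀, ∀ y, SympMat.form m F (f₀ x) (f₀ y) = SympMat.form m F x y := by
    intro x hx y
    rw [hform x y]
    have h0 : ∑ j : Fin (m - k),
        (x (eI m k hk (Sum.inr (Sum.inr j))) * y (eI m k hk (Sum.inr (Sum.inl j))) -
        x (eI m k hk (Sum.inr (Sum.inl j))) * y (eI m k hk (Sum.inr (Sum.inr j)))) = 0 := by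
      apply Finset.sum_eq_zero
      intro j _
      rw [(hW₀ x).1 hx (Sum.inr j), (hW₀ x).1 hx (Sum.inl j), zero_mul, zero_mul, sub_zero]
    rw [h0, add_zero, hf₀, hf₀, LinearMap.BilinForm.sum_left]
    apply Finset.sum_congr rfl
    intro i _
    rw [LinearMap.BilinForm.sum_right, Finset.sum_eq_single i]
    · simp only [map_add, map_smul, LinearMap.add_apply, LinearMap.smul_apply, smul_eq_mul,
        haa, hbb, hab, hba, if_pos]
      ring
    · intro j _ hji
      simp only [map_add, map_smul, LinearMap.add_apply, LinearMap.smul_apply, smul_eq_mul,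
        haa, hbb, hab, hba, if_neg (Ne.symm hji)]
      ring
    · intro hi
      exact absurd (Finset.mem_univ i) hi
  have hinj : ∀ x ∈ W₀, f₀ x = 0 → x = 0 := by
    intro x hx h0
    apply (SympMat.form_nondeg m).1
    intro y
    rw [← hiso x hx y, h0, map_zero, LinearMap.zero_apply]
  have hf₀W : ∀ x, f₀ x ∈ W := by
    intro x
    rw [hf₀]
    exact Submodule.sum_mem _ (fun i _ => add_mem (W.smul_mem _ (haW i)) (W.smul_mem _ (hbW i)))
  obtain ⟨s, hs⟩ : W₀.FG := IsNoetherian.noetherian W₀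
  obtain ⟨g, hgT, hg⟩ := Symp.witt_T (SympMat.form m F) (SympMat.form_nondeg m)
    (SympMat.form_alt m) f₀ s
    (by
      rw [hs]
      exact fun x hx x' _ => hiso x hx x')
    (by
      rw [hs]
      exact hinj)
  rw [hs] at hg
  rw [SympMat.T_eq] at hgT
  obtain ⟨A, -, rfl⟩ := hgT
  have hdim : 2 * k ≤ Module.finrank F W₀ := by
    obtain ⟨ι, hι⟩ : ∃ ι : (Fin k ⊕ Fin k → F) →ₗ[F] (Fin m ⊕ Fin m → F),
        ι = Function.ExtendByZero.linearMap F (fun s : Fin k ⊕ Fin k => eI m k hk (Sum.inl s)) :=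
      ⟨_, rfl⟩
    have hsinj : Function.Injective (fun s : Fin k ⊕ Fin k => eI m k hk (Sum.inl s)) :=
      fun s s' h => Sum.inl_injective ((eI m k hk).injective h)
    have hιinj : Function.Injective ι := by
      rw [hι]
      exact Function.extend_injective hsinj 0
    have hrange : LinearMap.range ι ≤ W₀ := by
      rintro v ⟨u, rfl⟩
      rw [hW₀]
      intro t
      rw [hι]
      show Function.extend (fun s : Fin k ⊕ Fin k => eI m k hk (Sum.inl s)) u 0
        (eI m k hk (Sum.inr t)) = 0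
      rw [Function.extend_apply']
      · rfl
      · rintro ⟨s, hs'⟩
        exact Sum.inl_ne_inr ((eI m k hk).injective hs')
    have h1 := Submodule.finrank_mono hrange
    rw [LinearMap.finrank_range_of_inj hιinj, Module.finrank_fintype_fun_eq_card,
      Fintype.card_sum, Fintype.card_fin] at h1
    omega
  have hmap : Submodule.map (SympMat.Φ m A).toLinearMap W₀ = W := by
    apply Submodule.eq_of_le_of_finrank_le
    · rintro v ⟨x, hx, rfl⟩
      show (SympMat.Φ m A) x ∈ W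
      rw [hg x hx]
      exact hf₀W x
    · rw [LinearEquiv.finrank_map_eq]
      omega
  refine ⟨A, fun v => ⟨fun hv => ?_, fun hv => ?_⟩⟩
  · show (A : Matrix (Fin m ⊕ Fin m) (Fin m ⊕ Fin m) F) *ᵥ v ∈ W
    rw [← SympMat.Φ_apply, hg v hv]
    exact hf₀W v
  · have h1 : (SympMat.Φ m A) v ∈ W := by
      rw [SympMat.Φ_apply]
      exact hv
    rw [← hmap] at h1
    obtain ⟨x, hx, hxv⟩ := h1
    have h2 : x = v := (SympMat.Φ m A).injective hxv
    rw [← h2]
    exact hx

/-- If W ≤ F^(2m) is a 2k-dimensional subspace on which the symplectic form is non-degenerate, then the stabiliser of W in Sp_2m(F) is isomorphic to Sp_2k(F) × Sp_(2m−2k)(F). -/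
theorem result {F : Type*} [Field F] (m k : ℕ) (hk : k ≤ m) (W : Submodule F (Fin m ⊕ Fin m → F)) (hWk : Module.finrank F W = 2 * k) (hW : ∀ u ∈ W, (∀ v ∈ W, Cfsg.sympForm m F u v = 0) → u = 0) : Nonempty (↥(Cfsg.stabilizing (Cfsg.spToMat m F) (W : Set (Fin m ⊕ Fin m → F))) ≃* Matrix.symplecticGroup (Fin k) F × Matrix.symplecticGroup (Fin (m - k)) F) := by
  obtain ⟨A, hA⟩ := exists_map m k hk W hWk hW
  obtain ⟨φ₁⟩ := stab_conj (Cfsg.spToMat m F) (W : Set (Fin m ⊕ Fin m → F))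
    {v : Fin m ⊕ Fin m → F | ∀ t : Fin (m - k) ⊕ Fin (m - k), v (eI m k hk (Sum.inr t)) = 0} A hA
  obtain ⟨φ₂⟩ := stdStab (F := F) m k hk
  exact ⟨φ₁.trans φ₂⟩

end Cfsg.Agent.S0776
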