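import Cfsg.Statements.S0837
import Mathlib
import Cfsg.Agent.S0751
import Cfsg.Agent.S0755
import Cfsg.Agent.S0776
import Cfsg.Agent.Lib.Helper45.GUCard

set_option autoImplicit false
open Cfsg

namespace Cfsg.Agent.S0837

open Matrix

/-- the Hermitian form as a sesquilinear map: `Bh σ n x y = Σ y_i σ(x_i)` -/
noncomputable def Bh {F : Type*} [Field F] (σ : F →+* F) (n : ℕ) :
    (Fin n → F) →ₛₗ[σ] (Fin n → F) →ₗ[F] F :=
  LinearMap.mk₂'ₛₗ σ (RingHom.id F) (fun x y => ∑ i, y i * σ (x i))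
    (by
      intro x x' y
      simp [mul_add, Finset.sum_add_distrib])
    (by
      intro c x y
      simp only [Pi.smul_apply, smul_eq_mul, map_mul, Finset.mul_sum]
      apply Finset.sum_congr rfl
      intro i _
      ring)
    (by
      intro x y y'
      simp [add_mul, Finset.sum_add_distrib])
    (by
      intro c x y
      simp [Finset.mul_sum, mul_assoc])

theorem Bh_apply {F : Type*} [Field F] (σ : F →+* F) (n : ℕ) (x y : Fin n → F) :
    Bh σ n x y = ∑ i, y i * σ (x i) := rfl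

theorem Bh_herm {F : Type*} [Field F] {q : ℕ} (σ : F →+* F) (hσ : ∀ x, σ x = x ^ q) (n : ℕ)
    (x y : Fin n → F) : Bh σ n x y = Cfsg.hermForm n F q y x := by
  rw [Bh_apply, Cfsg.hermForm]
  simp [hσ]

theorem Bh_symm {F : Type*} [Field F] (σ : F →+* F) (hσ2 : ∀ a, σ (σ a) = a) (n : ℕ) :
    (Bh σ n).IsSymm :=
  ⟨fun x y => by
    rw [Bh_apply, Bh_apply, map_sum]
    apply Finset.sum_congr rfl
    intro i _
    rw [map_mul, hσ2, mul_comm]⟩

theorem Bh_nondeg {F : Type*} [Field F] (σ : F →+* F) (n : ℕ) : (Bh σ n).Nondegenerate := by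
  classical
  constructor
  · intro x hx
    funext i
    have h := hx (Pi.single i 1)
    rw [Bh_apply] at h
    simp only [Pi.single_apply, ite_mul, one_mul, zero_mul, Finset.sum_ite_eq',
      Finset.mem_univ, if_true] at h
    exact (map_eq_zero σ).1 h
  · intro y hy
    funext i
    have h := hy (Pi.single i 1)
    rw [Bh_apply] at h
    have h2 : ∀ j, y j * σ ((Pi.single i 1 : Fin n → F) j) = if j = i then y j else 0 := by
      intro j
      rw [Pi.single_apply]
      split_ifs <;> simp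
    simp only [h2, Finset.sum_ite_eq', Finset.mem_univ, if_true] at h
    exact h

theorem ortho_system {F : Type*} [Field F] [Finite F] (σ : F →+* F) (hσne : σ ≠ RingHom.id F)
    (hσ2 : ∀ a, σ (σ a) = a) (n k : ℕ) (W : Submodule F (Fin n → F))
    (hWk : Module.finrank F W = k) (hW : ∀ u ∈ W, (∀ v ∈ W, Bh σ n u v = 0) → u = 0) :
    ∃ a : Fin k → (Fin n → F), (∀ i, a i ∈ W) ∧
      ∀ i j, Bh σ n (a i) (a j) = if i = j then 1 else 0 := by
  have hS := Bh_symm σ hσ2 n
  have hnd : ((Bh σ n).domRestrict₁₂ W W).Nondegenerate := by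
    constructor
    · intro x hx
      exact Subtype.ext (hW x.1 x.2 (fun v hv => hx ⟨v, hv⟩))
    · intro y hy
      refine Subtype.ext (hW y.1 y.2 (fun v hv => ?_))
      have h1 : Bh σ n v y.1 = 0 := hy ⟨v, hv⟩
      rw [← hS.eq v y.1, h1, map_zero]
  obtain ⟨b, hb⟩ := Cfsg.Agent.S0755.result σ hσne hσ2 ((Bh σ n).domRestrict₁₂ W W)
    (hS.domRestrict W) hnd
  refine ⟨fun i => (b (Fin.cast hWk.symm i) : Fin n → F), fun i => (b _).2, fun i j => ?_⟩
  have h1 := hb (Fin.cast hWk.symm i) (Fin.cast hWk.symm j)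
  rw [LinearMap.domRestrict₁₂_apply] at h1
  rw [h1]
  simp only [Fin.cast_inj]

theorem sigma_ne {F : Type*} [Field F] [Fintype F] {q : ℕ} (hF : Fintype.card F = q ^ 2)
    (σ : F →+* F) (hσ : ∀ x, σ x = x ^ q) : σ ≠ RingHom.id F := by
  intro hid
  have hq2 : 2 ≤ q := by
    by_contra hlt
    have h1 : q ^ 2 ≤ 1 := by
      have : q ≤ 1 := by omega
      calc q ^ 2 ≤ 1 ^ 2 := Nat.pow_le_pow_left this 2
        _ = 1 := one_pow 2
    have h2 : 1 < Fintype.card F := Fintype.one_lt_card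
    omega
  have h1 : ∀ x : Fˣ, x ^ (q - 1) = 1 := by
    intro x
    have h2 : (x : F) ^ q = x := by
      rw [← hσ, hid]
      rfl
    have h3 : (x : F) ^ (q - 1) * x = x := by
      rw [← pow_succ, Nat.sub_add_cancel (by omega)]
      exact h2
    apply Units.ext
    rw [Units.val_pow_eq_pow_val, Units.val_one]
    exact mul_right_cancel₀ x.ne_zero (by rw [h3, one_mul])
  have h4 := (FiniteField.forall_pow_eq_one_iff F (q - 1)).1 h1
  rw [hF] at h4
  have h5 := Nat.le_of_dvd (by omega) h4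
  have h6 : q < q ^ 2 := by
    calc q = q ^ 1 := (pow_one q).symm
      _ < q ^ 2 := Nat.pow_lt_pow_right (by omega) (by norm_num)
  omega

theorem exists_mapU {F : Type*} [Field F] [Fintype F] {q : ℕ} (hF : Fintype.card F = q ^ 2)
    (σ : F →+* F) (hσ : ∀ x, σ x = x ^ q) (hσ2 : ∀ a, σ (σ a) = a)
    (n k : ℕ) (hk : k ≤ n) (W : Submodule F (Fin n → F)) (hWk : Module.finrank F W = k)
    (hW : ∀ u ∈ W, (∀ v ∈ W, Cfsg.hermForm n F q u v = 0) → u = 0) :
    ∃ A : ↥(Cfsg.GU n F q), ∀ v : Fin n → F,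
      v ∈ {v : Fin n → F | ∀ j : Fin (n - k), v (Cfsg.Agent.S0776.e0 n k hk (Sum.inr j)) = 0} ↔
      ((Cfsg.glToMat (Fin n) F).comp (Cfsg.GU n F q).subtype A) *ᵥ v ∈
        (W : Set (Fin n → F)) := by
  classical
  have hσne := sigma_ne hF σ hσ
  have hS := Bh_symm σ hσ2 n
  obtain ⟨e, he⟩ : ∃ e : Fin k ⊕ Fin (n - k) ≃ Fin n, e = Cfsg.Agent.S0776.e0 n k hk := ⟨_, rfl⟩
  rw [← he]
  obtain ⟨a, haW, hab⟩ := ortho_system σ hσne hσ2 n k W hWk (by
    intro u hu h
    refine hW u hu (fun v hv => ?_)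
    have h1 := h v hv
    rw [← hS.eq, Bh_herm σ hσ] at h1
    exact (map_eq_zero σ).1 h1)
  let W₀ : Submodule F (Fin n → F) :=
    { carrier := {v | ∀ j : Fin (n - k), v (e (Sum.inr j)) = 0}
      add_mem' := by
        intro x y hx hy t
        rw [Pi.add_apply, hx t, hy t, add_zero]
      zero_mem' := fun t => rfl
      smul_mem' := by
        intro c x hx t
        rw [Pi.smul_apply, hx t, smul_zero] }
  have hW₀ : ∀ v, v ∈ W₀ ↔ ∀ j : Fin (n - k), v (e (Sum.inr j)) = 0 := fun v => Iff.rfl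
  obtain ⟨f₀, hf₀⟩ : ∃ f₀ : (Fin n → F) →ₗ[F] (Fin n → F),
      ∀ x, f₀ x = ∑ i : Fin k, x (e (Sum.inl i)) • a i :=
    ⟨∑ i : Fin k, (LinearMap.proj (e (Sum.inl i))).smulRight (a i), fun x => by
      simp [LinearMap.sum_apply]⟩
  have hform : ∀ x y : Fin n → F, Bh σ n x y =
      ∑ i : Fin k, y (e (Sum.inl i)) * σ (x (e (Sum.inl i))) +
      ∑ j : Fin (n - k), y (e (Sum.inr j)) * σ (x (e (Sum.inr j))) := by
    intro x y
    rw [Bh_apply, ← Equiv.sum_comp e, Fintype.sum_sum_type]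
  have hiso : ∀ x ∈ W₀, ∀ y, Bh σ n (f₀ x) (f₀ y) = Bh σ n x y := by
    intro x hx y
    rw [hform x y]
    have h0 : ∑ j : Fin (n - k), y (e (Sum.inr j)) * σ (x (e (Sum.inr j))) = 0 := by
      apply Finset.sum_eq_zero
      intro j _
      rw [(hW₀ x).1 hx j, map_zero, mul_zero]
    rw [h0, add_zero, hf₀, hf₀, map_sum]
    apply Finset.sum_congr rfl
    intro j _
    rw [map_sum, LinearMap.sum_apply, Finset.sum_eq_single j]
    · simp only [map_smulₛₗ, map_smul, LinearMap.smul_apply, smul_eq_mul, hab, if_pos,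
        RingHom.id_apply]
      ring
    · intro i _ hij
      simp only [map_smulₛₗ, LinearMap.smul_apply, smul_eq_mul, hab,
        if_neg hij, RingHom.id_apply, mul_zero]
    · intro hi
      exact absurd (Finset.mem_univ j) hi
  have hinj : ∀ x ∈ W₀, f₀ x = 0 → x = 0 := by
    intro x hx h0
    apply (Bh_nondeg σ n).1
    intro y
    rw [← hiso x hx y, h0, map_zero, LinearMap.zero_apply]
  have hf₀W : ∀ x, f₀ x ∈ W := by
    intro x
    rw [hf₀]
    exact Submodule.sum_mem _ (fun i _ => W.smul_mem _ (haW i))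
  obtain ⟨g, hgB, hg⟩ := Cfsg.Agent.S0751.witt_aux σ hσne hσ2 (Bh σ n) hS (Bh_nondeg σ n)
    _ W₀ rfl f₀ (fun x hx y _ => hiso x hx y) hinj
  obtain ⟨M, hM⟩ : ∃ M : Matrix (Fin n) (Fin n) F, M = LinearMap.toMatrix' g.toLinearMap :=
    ⟨_, rfl⟩
  have hMv : ∀ v, M *ᵥ v = g v := by
    intro v
    rw [hM, ← Matrix.toLin'_apply, Matrix.toLin'_toMatrix']
    rfl
  have hMp : ∀ u v, Cfsg.hermForm n F q (M *ᵥ u) (M *ᵥ v) = Cfsg.hermForm n F q u v := by
    intro u v
    rw [← Bh_herm σ hσ, ← Bh_herm σ hσ, hMv, hMv, hgB]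
  have hdim : k ≤ Module.finrank F W₀ := by
    obtain ⟨ι, hι⟩ : ∃ ι : (Fin k → F) →ₗ[F] (Fin n → F),
        ι = Function.ExtendByZero.linearMap F (fun s : Fin k => e (Sum.inl s)) :=
      ⟨_, rfl⟩
    have hsinj : Function.Injective (fun s : Fin k => e (Sum.inl s)) :=
      fun s s' h => Sum.inl_injective (e.injective h)
    have hιinj : Function.Injective ι := by
      rw [hι]
      exact Function.extend_injective hsinj 0
    have hrange : LinearMap.range ι ≤ W₀ := by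
      rintro v ⟨u, rfl⟩
      rw [hW₀]
      intro t
      rw [hι]
      show Function.extend (fun s : Fin k => e (Sum.inl s)) u 0 (e (Sum.inr t)) = 0
      rw [Function.extend_apply']
      · rfl
      · rintro ⟨s, hs'⟩
        exact Sum.inl_ne_inr (e.injective hs')
    have h1 := Submodule.finrank_mono hrange
    rw [LinearMap.finrank_range_of_inj hιinj, Module.finrank_fintype_fun_eq_card,
      Fintype.card_fin] at h1
    exact h1
  have hmap : Submodule.map g.toLinearMap W₀ = W := by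
    apply Submodule.eq_of_le_of_finrank_le
    · rintro v ⟨x, hx, rfl⟩
      show g x ∈ W
      rw [hg x hx]
      exact hf₀W x
    · rw [LinearEquiv.finrank_map_eq]
      omega
  refine ⟨Cfsg.Agent.Lib.Helper45.GUCard.mkGU σ hσ M hMp, fun v => ⟨fun hv => ?_, fun hv => ?_⟩⟩
  · show M *ᵥ v ∈ W
    rw [hMv, hg v hv]
    exact hf₀W v
  · have h1 : g v ∈ W := by
      rw [← hMv]
      exact hv
    rw [← hmap] at h1
    obtain ⟨x, hx, hxv⟩ := h1
    have h2 : x = v := g.injective hxv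
    rw [← h2]
    exact hx

theorem stdStabU {F : Type*} [Field F] {q : ℕ} (σ : F →+* F) (hσ : ∀ x, σ x = x ^ q)
    (n k : ℕ) (hk : k ≤ n) :
    Nonempty (↥(Cfsg.stabilizing ((Cfsg.glToMat (Fin n) F).comp (Cfsg.GU n F q).subtype)
      {v : Fin n → F | ∀ j : Fin (n - k), v (Cfsg.Agent.S0776.e0 n k hk (Sum.inr j)) = 0}) ≃*
      ↥(Cfsg.GU k F q) × ↥(Cfsg.GU (n - k) F q)) := by
  classical
  obtain ⟨e, he⟩ : ∃ e : Fin k ⊕ Fin (n - k) ≃ Fin n, e = Cfsg.Agent.S0776.e0 n k hk := ⟨_, rfl⟩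
  rw [← he]
  have hsplit : ∀ u v : Fin n → F, Cfsg.hermForm n F q u v =
      Cfsg.hermForm k F q ((u ∘ e) ∘ Sum.inl) ((v ∘ e) ∘ Sum.inl) +
      Cfsg.hermForm (n - k) F q ((u ∘ e) ∘ Sum.inr) ((v ∘ e) ∘ Sum.inr) := by
    intro u v
    rw [Cfsg.hermForm, ← Equiv.sum_comp e, Fintype.sum_sum_type]
    rfl
  have hact1 : ∀ (X : Matrix (Fin k) (Fin k) F) (Bm : Matrix (Fin k) (Fin (n - k)) F)
      (C : Matrix (Fin (n - k)) (Fin k) F) (Y : Matrix (Fin (n - k)) (Fin (n - k)) F)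
      (v : Fin n → F),
      ((((Matrix.fromBlocks X Bm C Y).submatrix e.symm e.symm) *ᵥ v) ∘ e) ∘ Sum.inl =
        X *ᵥ ((v ∘ e) ∘ Sum.inl) + Bm *ᵥ ((v ∘ e) ∘ Sum.inr) := by
    intro X Bm C Y v
    rw [Matrix.submatrix_mulVec_equiv, Equiv.symm_symm, Matrix.fromBlocks_mulVec]
    ext i
    simp
  have hact2 : ∀ (X : Matrix (Fin k) (Fin k) F) (Bm : Matrix (Fin k) (Fin (n - k)) F)
      (C : Matrix (Fin (n - k)) (Fin k) F) (Y : Matrix (Fin (n - k)) (Fin (n - k)) F)
      (v : Fin n → F),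
      ((((Matrix.fromBlocks X Bm C Y).submatrix e.symm e.symm) *ᵥ v) ∘ e) ∘ Sum.inr =
        C *ᵥ ((v ∘ e) ∘ Sum.inl) + Y *ᵥ ((v ∘ e) ∘ Sum.inr) := by
    intro X Bm C Y v
    rw [Matrix.submatrix_mulVec_equiv, Equiv.symm_symm, Matrix.fromBlocks_mulVec]
    ext i
    simp
  have hpresM : ∀ (X : Matrix (Fin k) (Fin k) F) (Y : Matrix (Fin (n - k)) (Fin (n - k)) F),
      (∀ a b, Cfsg.hermForm k F q (X *ᵥ a) (X *ᵥ b) = Cfsg.hermForm k F q a b) →
      (∀ a b, Cfsg.hermForm (n - k) F q (Y *ᵥ a) (Y *ᵥ b) = Cfsg.hermForm (n - k) F q a b) →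
      ∀ u v : Fin n → F,
      Cfsg.hermForm n F q (((Matrix.fromBlocks X 0 0 Y).submatrix e.symm e.symm) *ᵥ u)
        (((Matrix.fromBlocks X 0 0 Y).submatrix e.symm e.symm) *ᵥ v) =
      Cfsg.hermForm n F q u v := by
    intro X Y hX hY u v
    rw [hsplit, hact1, hact1, hact2, hact2, hsplit u v]
    simp only [Matrix.zero_mulVec, add_zero, zero_add]
    rw [hX, hY]
  have hpres : ∀ (X : ↥(Cfsg.GU k F q)) (Y : ↥(Cfsg.GU (n - k) F q)) (u v : Fin n → F),
      Cfsg.hermForm n F q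
        (((Matrix.fromBlocks ((X : GL (Fin k) F) : Matrix (Fin k) (Fin k) F) 0 0
          ((Y : GL (Fin (n - k)) F) : Matrix (Fin (n - k)) (Fin (n - k)) F)).submatrix
            e.symm e.symm) *ᵥ u)
        (((Matrix.fromBlocks ((X : GL (Fin k) F) : Matrix (Fin k) (Fin k) F) 0 0
          ((Y : GL (Fin (n - k)) F) : Matrix (Fin (n - k)) (Fin (n - k)) F)).submatrix
            e.symm e.symm) *ᵥ v) =
      Cfsg.hermForm n F q u v :=
    fun X Y => hpresM _ _ X.2 Y.2
  have hstab : ∀ (X : ↥(Cfsg.GU k F q)) (Y : ↥(Cfsg.GU (n - k) F q)),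
      Cfsg.Agent.Lib.Helper45.GUCard.mkGU σ hσ _ (hpres X Y) ∈
        Cfsg.stabilizing ((Cfsg.glToMat (Fin n) F).comp (Cfsg.GU n F q).subtype)
          {v : Fin n → F | ∀ j : Fin (n - k), v (e (Sum.inr j)) = 0} := by
    intro X Y v
    show (∀ j, v (e (Sum.inr j)) = 0) ↔ ∀ j,
      (((Matrix.fromBlocks ((X : GL (Fin k) F) : Matrix (Fin k) (Fin k) F) 0 0
          ((Y : GL (Fin (n - k)) F) : Matrix (Fin (n - k)) (Fin (n - k)) F)).submatrix
            e.symm e.symm) *ᵥ v) (e (Sum.inr j)) = 0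
    have h1 := hact2 ((X : GL (Fin k) F) : Matrix (Fin k) (Fin k) F) 0 0
      ((Y : GL (Fin (n - k)) F) : Matrix (Fin (n - k)) (Fin (n - k)) F) v
    rw [Matrix.zero_mulVec, zero_add] at h1
    constructor
    · intro h j
      have h0 : (v ∘ e) ∘ Sum.inr = 0 := funext h
      have h2 := congrFun h1 j
      rw [h0, Matrix.mulVec_zero] at h2
      exact h2
    · intro h j
      have h2 : ((Y : GL (Fin (n - k)) F) : Matrix (Fin (n - k)) (Fin (n - k)) F) *ᵥ
          ((v ∘ e) ∘ Sum.inr) = 0 := by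
        rw [← h1]
        funext j
        exact h j
      have h3 := congrArg (fun w => (((Y : GL (Fin (n - k)) F)⁻¹ : GL (Fin (n - k)) F) :
        Matrix (Fin (n - k)) (Fin (n - k)) F) *ᵥ w) h2
      simp only [Matrix.mulVec_mulVec, Units.inv_mul, Matrix.one_mulVec, Matrix.mulVec_zero]
        at h3
      exact congrFun h3 j
  let ψ : ↥(Cfsg.GU k F q) × ↥(Cfsg.GU (n - k) F q) →*
      ↥(Cfsg.stabilizing ((Cfsg.glToMat (Fin n) F).comp (Cfsg.GU n F q).subtype)
        {v : Fin n → F | ∀ j : Fin (n - k), v (e (Sum.inr j)) = 0}) :=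
    { toFun := fun p => ⟨_, hstab p.1 p.2⟩
      map_one' := by
        apply Subtype.ext
        apply Subtype.ext
        apply Units.ext
        show (Matrix.fromBlocks (1 : Matrix (Fin k) (Fin k) F) 0 0
          (1 : Matrix (Fin (n - k)) (Fin (n - k)) F)).submatrix e.symm e.symm = 1
        rw [Matrix.fromBlocks_one, Matrix.submatrix_one_equiv]
      map_mul' := by
        intro p p'
        apply Subtype.ext
        apply Subtype.ext
        apply Units.ext
        show (Matrix.fromBlocks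
          (((p.1 : GL (Fin k) F) : Matrix (Fin k) (Fin k) F) *
            ((p'.1 : GL (Fin k) F) : Matrix (Fin k) (Fin k) F)) 0 0
          (((p.2 : GL (Fin (n - k)) F) : Matrix (Fin (n - k)) (Fin (n - k)) F) *
            ((p'.2 : GL (Fin (n - k)) F) : Matrix (Fin (n - k)) (Fin (n - k)) F))).submatrix
            e.symm e.symm =
          (Matrix.fromBlocks ((p.1 : GL (Fin k) F) : Matrix (Fin k) (Fin k) F) 0 0
            ((p.2 : GL (Fin (n - k)) F) : Matrix (Fin (n - k)) (Fin (n - k)) F)).submatrix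
            e.symm e.symm *
          (Matrix.fromBlocks ((p'.1 : GL (Fin k) F) : Matrix (Fin k) (Fin k) F) 0 0
            ((p'.2 : GL (Fin (n - k)) F) : Matrix (Fin (n - k)) (Fin (n - k)) F)).submatrix
            e.symm e.symm
        rw [Matrix.submatrix_mul_equiv, Matrix.fromBlocks_multiply]
        simp }
  have hψ : ∀ p, ((((ψ p : ↥(Cfsg.GU n F q)) : GL (Fin n) F)) : Matrix (Fin n) (Fin n) F) =
      (Matrix.fromBlocks ((p.1 : GL (Fin k) F) : Matrix (Fin k) (Fin k) F) 0 0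
        ((p.2 : GL (Fin (n - k)) F) : Matrix (Fin (n - k)) (Fin (n - k)) F)).submatrix
        e.symm e.symm := fun p => rfl
  have hinj : Function.Injective ψ := by
    intro p p' hpp
    have h1 := congrArg (fun g : ↥(Cfsg.stabilizing ((Cfsg.glToMat (Fin n) F).comp
      (Cfsg.GU n F q).subtype) {v : Fin n → F | ∀ j : Fin (n - k), v (e (Sum.inr j)) = 0}) =>
      ((((g : ↥(Cfsg.GU n F q)) : GL (Fin n) F)) : Matrix (Fin n) (Fin n) F).submatrix e e) hpp
    simp only [hψ, Matrix.submatrix_submatrix, Equiv.symm_comp_self, Matrix.submatrix_id_id]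
      at h1
    rw [Matrix.fromBlocks_inj] at h1
    exact Prod.ext (Subtype.ext (Units.ext h1.1)) (Subtype.ext (Units.ext h1.2.2.2))
  have hsurj : Function.Surjective ψ := by
    intro g
    obtain ⟨Mg, hMg⟩ : ∃ Mg : Matrix (Fin n) (Fin n) F,
      Mg = ((((g : ↥(Cfsg.GU n F q)) : GL (Fin n) F)) : Matrix (Fin n) (Fin n) F) := ⟨_, rfl⟩
    obtain ⟨Mi, hMi⟩ : ∃ Mi : Matrix (Fin n) (Fin n) F, Mi = (g⁻¹).1.1.1 := ⟨_, rfl⟩
    have hMgi : Mg * Mi = 1 := by
      rw [hMg, hMi]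
      show ((((g : ↥(Cfsg.GU n F q)) : GL (Fin n) F)) : Matrix (Fin n) (Fin n) F) *
        ((((g : ↥(Cfsg.GU n F q)) : GL (Fin n) F)⁻¹ : GL (Fin n) F) :
          Matrix (Fin n) (Fin n) F) = 1
      rw [Units.mul_inv]
    have hgU : ∀ u v, Cfsg.hermForm n F q (Mg *ᵥ u) (Mg *ᵥ v) = Cfsg.hermForm n F q u v := by
      rw [hMg]
      exact g.1.2
    have hgS : ∀ v : Fin n → F, (∀ j, v (e (Sum.inr j)) = 0) → ∀ j, (Mg *ᵥ v) (e (Sum.inr j)) = 0 := by
      intro v hv
      rw [hMg]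
      exact (g.2 v).1 hv
    have hgiS : ∀ v : Fin n → F, (∀ j, v (e (Sum.inr j)) = 0) →
        ∀ j, (Mi *ᵥ v) (e (Sum.inr j)) = 0 := by
      intro v hv
      rw [hMi]
      exact ((g⁻¹).2 v).1 hv
    obtain ⟨N, hN⟩ : ∃ N : Matrix (Fin k ⊕ Fin (n - k)) (Fin k ⊕ Fin (n - k)) F,
      N = Mg.submatrix e e := ⟨_, rfl⟩
    have hg1 : Mg = N.submatrix e.symm e.symm := by
      rw [hN]
      simp
    have h21 : N.toBlocks₂₁ = 0 := by
      ext t s
      have h1 := hgS (Pi.single (e (Sum.inl s)) 1) (by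
        intro t'
        rw [Pi.single_apply, if_neg]
        intro h
        exact Sum.inr_ne_inl (e.injective h)) t
      rw [Matrix.mulVec_single_one] at h1
      rw [hN]
      simpa [Matrix.toBlocks₂₁] using h1
    have hsingle : ∀ (u : Fin n → F) (i : Fin n),
        Cfsg.hermForm n F q u (Pi.single i 1) = u i := by
      intro u i
      rw [Cfsg.hermForm, Finset.sum_eq_single i]
      · rw [Pi.single_eq_same, one_pow, mul_one]
      · intro j _ hji
        rw [Pi.single_eq_of_ne hji, ← hσ, map_zero, mul_zero]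
      · intro hi
        exact absurd (Finset.mem_univ i) hi
    have h12 : N.toBlocks₁₂ = 0 := by
      ext i t
      obtain ⟨w', hw'⟩ : ∃ w' : Fin n → F, w' = Mi *ᵥ Pi.single (e (Sum.inl i)) 1 := ⟨_, rfl⟩
      have hw'0 : ∀ j, w' (e (Sum.inr j)) = 0 := by
        rw [hw']
        exact hgiS _ (by
          intro t'
          rw [Pi.single_apply, if_neg]
          intro h
          exact Sum.inr_ne_inl (e.injective h))
      have hMw : Mg *ᵥ w' = Pi.single (e (Sum.inl i)) 1 := by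
        rw [hw', Matrix.mulVec_mulVec, hMgi, Matrix.one_mulVec]
      have h1 := hgU (Pi.single (e (Sum.inr t)) 1) w'
      rw [hMw, hsingle] at h1
      have h2 : Cfsg.hermForm n F q (Pi.single (e (Sum.inr t)) 1) w' = 0 := by
        rw [Cfsg.hermForm, Finset.sum_eq_single (e (Sum.inr t))]
        · rw [hw'0 t, ← hσ, map_zero, mul_zero]
        · intro j _ hj
          rw [Pi.single_eq_of_ne hj, zero_mul]
        · intro h
          exact absurd (Finset.mem_univ _) h
      rw [h2, Matrix.mulVec_single_one] at h1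
      rw [hN]
      simpa [Matrix.toBlocks₁₂] using h1
    obtain ⟨A, hAdef⟩ : ∃ A : Matrix (Fin k) (Fin k) F, A = N.toBlocks₁₁ := ⟨_, rfl⟩
    obtain ⟨D, hDdef⟩ : ∃ D : Matrix (Fin (n - k)) (Fin (n - k)) F, D = N.toBlocks₂₂ :=
      ⟨_, rfl⟩
    have hNeq : N = Matrix.fromBlocks A 0 0 D := by
      conv_lhs => rw [← Matrix.fromBlocks_toBlocks N]
      rw [h21, h12, hAdef, hDdef]
    have hg2 : Mg = (Matrix.fromBlocks A 0 0 D).submatrix e.symm e.symm := by
      rw [hg1]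
      exact congrArg (fun X => X.submatrix e.symm e.symm) hNeq
    have hA : ∀ a b : Fin k → F,
        Cfsg.hermForm k F q (A *ᵥ a) (A *ᵥ b) = Cfsg.hermForm k F q a b := by
      intro a b
      obtain ⟨ua, hua⟩ : ∃ ua : Fin n → F, ua = fun x => Sum.elim a (0 : Fin (n - k) → F) (e.symm x) := ⟨_, rfl⟩
      obtain ⟨ub, hub⟩ : ∃ ub : Fin n → F, ub = fun x => Sum.elim b (0 : Fin (n - k) → F) (e.symm x) := ⟨_, rfl⟩
      have ha1 : (ua ∘ e) ∘ Sum.inl = a := by
        rw [hua]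
        funext i
        simp
      have ha2 : (ua ∘ e) ∘ Sum.inr = 0 := by
        rw [hua]
        funext i
        simp
      have hb1 : (ub ∘ e) ∘ Sum.inl = b := by
        rw [hub]
        funext i
        simp
      have hb2 : (ub ∘ e) ∘ Sum.inr = 0 := by
        rw [hub]
        funext i
        simp
      have h1 := hgU ua ub
      rw [hg2, hsplit, hact1, hact1, hact2, hact2, hsplit ua ub, ha1, ha2, hb1, hb2] at h1
      simp only [Matrix.zero_mulVec, Matrix.mulVec_zero, add_zero, zero_add] at h1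
      exact add_right_cancel h1
    have hD : ∀ a b : Fin (n - k) → F,
        Cfsg.hermForm (n - k) F q (D *ᵥ a) (D *ᵥ b) = Cfsg.hermForm (n - k) F q a b := by
      intro a b
      obtain ⟨ua, hua⟩ : ∃ ua : Fin n → F, ua = fun x => Sum.elim (0 : Fin k → F) a (e.symm x) := ⟨_, rfl⟩
      obtain ⟨ub, hub⟩ : ∃ ub : Fin n → F, ub = fun x => Sum.elim (0 : Fin k → F) b (e.symm x) := ⟨_, rfl⟩
      have ha1 : (ua ∘ e) ∘ Sum.inl = 0 := by
        rw [hua]
        funext i
        simp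
      have ha2 : (ua ∘ e) ∘ Sum.inr = a := by
        rw [hua]
        funext i
        simp
      have hb1 : (ub ∘ e) ∘ Sum.inl = 0 := by
        rw [hub]
        funext i
        simp
      have hb2 : (ub ∘ e) ∘ Sum.inr = b := by
        rw [hub]
        funext i
        simp
      have h1 := hgU ua ub
      rw [hg2, hsplit, hact1, hact1, hact2, hact2, hsplit ua ub, ha1, ha2, hb1, hb2] at h1
      simp only [Matrix.zero_mulVec, Matrix.mulVec_zero, add_zero, zero_add] at h1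
      exact add_left_cancel h1
    refine ⟨(Cfsg.Agent.Lib.Helper45.GUCard.mkGU σ hσ A hA,
      Cfsg.Agent.Lib.Helper45.GUCard.mkGU σ hσ D hD), ?_⟩
    apply Subtype.ext
    apply Subtype.ext
    apply Units.ext
    rw [hψ, ← hMg]
    exact hg2.symm
  exact ⟨(MulEquiv.ofBijective ψ ⟨hinj, hsurj⟩).symm⟩

/-- If W ≤ F^n (|F| = q²) is a k-dimensional subspace on which the Hermitian form Σ x_i y_i^q is non-degenerate, then the stabiliser of W in GU_n(q) is isomorphic to GU_k(q) × GU_(n−k)(q). -/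
theorem result {F : Type*} [Field F] [Fintype F] {q : ℕ} (hF : Fintype.card F = q ^ 2) (n k : ℕ) (hk : k ≤ n) (W : Submodule F (Fin n → F)) (hWk : Module.finrank F W = k) (hW : ∀ u ∈ W, (∀ v ∈ W, Cfsg.hermForm n F q u v = 0) → u = 0) : Nonempty (↥((Cfsg.stabilizing (Cfsg.glToMat (Fin n) F) (W : Set (Fin n → F))).subgroupOf (Cfsg.GU n F q)) ≃* ↥(Cfsg.GU k F q) × ↥(Cfsg.GU (n - k) F q)) := by
  obtain ⟨σ, hσ, hσ2⟩ := Cfsg.Agent.Lib.Helper45.GUCard.exists_conj hF
  have heq : (Cfsg.stabilizing (Cfsg.glToMat (Fin n) F) (W : Set (Fin n → F))).subgroupOf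
      (Cfsg.GU n F q) = Cfsg.stabilizing ((Cfsg.glToMat (Fin n) F).comp
        (Cfsg.GU n F q).subtype) (W : Set (Fin n → F)) := by
    ext g
    rfl
  rw [heq]
  obtain ⟨A, hA⟩ := exists_mapU hF σ hσ hσ2 n k hk W hWk hW
  obtain ⟨φ₁⟩ := Cfsg.Agent.S0776.stab_conj
    ((Cfsg.glToMat (Fin n) F).comp (Cfsg.GU n F q).subtype) (W : Set (Fin n → F))
    {v : Fin n → F | ∀ j : Fin (n - k), v (Cfsg.Agent.S0776.e0 n k hk (Sum.inr j)) = 0} A hA
  obtain ⟨φ₂⟩ := stdStabU (q := q) σ hσ n k hk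
  exact ⟨φ₁.trans φ₂⟩

end Cfsg.Agent.S0837
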