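import Cfsg.Statements.S0781
import Mathlib
import Cfsg.Agent.S0751
import Cfsg.Agent.S0755
import Cfsg.Agent.S0779
import Cfsg.Agent.S0837
import Cfsg.Agent.Lib.Helper45.GUCard

set_option autoImplicit false
open Cfsg

namespace Cfsg.Agent.S0781

open Matrix Cfsg.Agent.S0837

section
variable {F : Type*} [Field F] {n : ℕ}

theorem det_rank_one (u v : Fin n → F) : (1 + Matrix.vecMulVec u v).det = 1 + v ⬝ᵥ u := by
  rw [Matrix.vecMulVec_eq (ι := Unit), Matrix.det_one_add_replicateCol_mul_replicateRow]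

theorem rank_one_mulVec (u v x : Fin n → F) :
    (1 + Matrix.vecMulVec u v) *ᵥ x = x + (v ⬝ᵥ x) • u := by
  rw [Matrix.add_mulVec, Matrix.one_mulVec, Matrix.vecMulVec_mulVec, op_smul_eq_smul]

theorem dot_sigma (σ : F →+* F) (e x : Fin n → F) :
    (fun j => σ (e j)) ⬝ᵥ x = Bh σ n e x := by
  rw [Bh_apply, dotProduct]
  apply Finset.sum_congr rfl
  intro i _
  ring

theorem dot_sigma2 (σ : F →+* F) (e w x : Fin n → F) (b : F) :
    (fun j => b * σ (e j) - σ (w j)) ⬝ᵥ x = b * Bh σ n e x - Bh σ n w x := by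
  rw [Bh_apply, Bh_apply, dotProduct, Finset.mul_sum, ← Finset.sum_sub_distrib]
  apply Finset.sum_congr rfl
  intro i _
  ring

/-- Eichler-type matrix: `x ↦ x + (B e x) w + (b * B e x - B w x) e` -/
def EM (σ : F →+* F) (e w : Fin n → F) (b : F) : Matrix (Fin n) (Fin n) F :=
  (1 + Matrix.vecMulVec w (fun j => σ (e j))) *
    (1 + Matrix.vecMulVec e (fun j => b * σ (e j) - σ (w j)))

theorem EM_det (σ : F →+* F) (e w : Fin n → F) (b : F) (he : Bh σ n e e = 0)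
    (hew : Bh σ n e w = 0) (hwe : Bh σ n w e = 0) : (EM σ e w b).det = 1 := by
  rw [EM, Matrix.det_mul, det_rank_one, det_rank_one, dot_sigma, hew, dot_sigma2, he, hwe]
  ring

theorem EM_mulVec (σ : F →+* F) (e w : Fin n → F) (b : F) (he : Bh σ n e e = 0)
    (x : Fin n → F) :
    EM σ e w b *ᵥ x = x + (Bh σ n e x) • w + (b * Bh σ n e x - Bh σ n w x) • e := by
  rw [EM, ← Matrix.mulVec_mulVec, rank_one_mulVec, rank_one_mulVec, dot_sigma2, dot_sigma]
  simp only [map_add, map_smul, smul_eq_mul, he, mul_zero, add_zero]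
  abel

theorem EM_unitary (σ : F →+* F) (hσ2 : ∀ a, σ (σ a) = a) (e w : Fin n → F) (b : F)
    (he : Bh σ n e e = 0) (hew : Bh σ n e w = 0) (hb : b + σ b + Bh σ n w w = 0)
    (x y : Fin n → F) :
    Bh σ n (EM σ e w b *ᵥ x) (EM σ e w b *ᵥ y) = Bh σ n x y := by
  have hS := Bh_symm σ hσ2 n
  have hwe : Bh σ n w e = 0 := by
    rw [← hS.eq, hew, map_zero]
  rw [EM_mulVec σ e w b he, EM_mulVec σ e w b he]
  simp only [map_add, map_sub, map_smul, map_smulₛₗ, LinearMap.add_apply,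
    LinearMap.smul_apply, smul_eq_mul, map_mul, he, hew, hwe, hS.eq, RingHom.id_apply]
  linear_combination (Bh σ n x e * Bh σ n e y) * hb

theorem T_mulVec {q : ℕ} (σ : F →+* F) (hσ : ∀ x, σ x = x ^ q) (v : Fin n → F) (c : F)
    (x : Fin n → F) :
    Cfsg.unitaryTransvection n q v c *ᵥ x = x + (c * Bh σ n v x) • v := by
  have h1 : (fun j => v j ^ q) = fun j => σ (v j) := by
    funext j
    rw [hσ]
  rw [Cfsg.unitaryTransvection, Matrix.add_mulVec, Matrix.one_mulVec, Matrix.smul_mulVec,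
    Matrix.vecMulVec_mulVec, h1, dot_sigma, op_smul_eq_smul, smul_smul]

theorem exists_aniso [Fintype F] {q : ℕ} (hF : Fintype.card F = q ^ 2) (σ : F →+* F)
    (hσ : ∀ x, σ x = x ^ q) (hσ2 : ∀ a, σ (σ a) = a) (hn : 3 ≤ n) (e : Fin n → F)
    (he0 : e ≠ 0) (he : Bh σ n e e = 0) :
    ∃ u : Fin n → F, Bh σ n e u = 0 ∧ Bh σ n u u ≠ 0 := by
  classical
  have hσne := sigma_ne hF σ hσ
  have hS := Bh_symm σ hσ2 n
  have hnd := Bh_nondeg σ n
  obtain ⟨l, hl⟩ := Cfsg.Agent.S0755.norm_surj σ hσne hσ2 (-1) (neg_ne_zero.2 one_ne_zero)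
    (by rw [map_neg, map_one])
  obtain ⟨i0, i1, i2, h01, h02, h12⟩ : ∃ i0 i1 i2 : Fin n, i0 ≠ i1 ∧ i0 ≠ i2 ∧ i1 ≠ i2 :=
    ⟨⟨0, by omega⟩, ⟨1, by omega⟩, ⟨2, by omega⟩, by simp [Fin.ext_iff], by simp [Fin.ext_iff],
      by simp [Fin.ext_iff]⟩
  have hsingle : ∀ (i j : Fin n),
      Bh σ n (Pi.single i (1 : F)) (Pi.single j (1 : F)) = if i = j then 1 else 0 := by
    intro i j
    rw [Bh_apply, Finset.sum_eq_single j]
    · rw [Pi.single_eq_same, one_mul, Pi.single_apply]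
      by_cases hij : i = j
      · rw [if_pos hij.symm, if_pos hij, map_one]
      · rw [if_neg (Ne.symm hij), if_neg hij, map_zero]
    · intro k _ hk
      rw [Pi.single_eq_of_ne hk, zero_mul]
    · intro h
      exact absurd (Finset.mem_univ _) h
  obtain ⟨e₀, he₀⟩ : ∃ e₀ : Fin n → F,
      e₀ = Pi.single i0 (1 : F) + l • Pi.single i1 (1 : F) := ⟨_, rfl⟩
  obtain ⟨u₀, hu₀⟩ : ∃ u₀ : Fin n → F, u₀ = Pi.single i2 (1 : F) := ⟨_, rfl⟩
  have h00 : Bh σ n e₀ e₀ = 0 := by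
    rw [he₀]
    simp only [map_add, map_smulₛₗ, LinearMap.add_apply, LinearMap.smul_apply,
      smul_eq_mul, hsingle, if_neg h01, if_neg h01.symm, if_true, RingHom.id_apply]
    linear_combination hl
  have h0u : Bh σ n e₀ u₀ = 0 := by
    rw [he₀, hu₀]
    simp only [map_add, map_smulₛₗ, LinearMap.add_apply, LinearMap.smul_apply,
      smul_eq_mul, hsingle, if_neg h02, if_neg h12, RingHom.id_apply]
    ring
  have huu : Bh σ n u₀ u₀ = 1 := by
    rw [hu₀, hsingle, if_pos rfl]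
  obtain ⟨f, hfdef⟩ : ∃ f : (Fin n → F) →ₗ[F] (Fin n → F),
      f = (LinearMap.proj i0 : (Fin n → F) →ₗ[F] F).smulRight e := ⟨_, rfl⟩
  have hf0 : f e₀ = e := by
    rw [hfdef, he₀]
    simp [Pi.single_eq_of_ne h01]
  obtain ⟨g, hg, hgf⟩ := Cfsg.Agent.S0751.witt_aux σ hσne hσ2 (Bh σ n) hS hnd _
    (Submodule.span F {e₀}) rfl f (by
      intro x hx y hy
      rw [Submodule.mem_span_singleton] at hx hy
      obtain ⟨a, rfl⟩ := hx
      obtain ⟨b, rfl⟩ := hy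
      rw [LinearMap.map_smul f a e₀, LinearMap.map_smul f b e₀, hf0]
      simp only [map_smulₛₗ, LinearMap.smul_apply, he, h00]) (by
      intro x hx hfx
      rw [Submodule.mem_span_singleton] at hx
      obtain ⟨a, rfl⟩ := hx
      rw [LinearMap.map_smul f a e₀, hf0] at hfx
      rcases smul_eq_zero.1 hfx with h | h
      · rw [h, zero_smul]
      · exact absurd h he0)
  refine ⟨g u₀, ?_, ?_⟩
  · have h1 := hgf e₀ (Submodule.mem_span_singleton_self e₀)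
    rw [hf0] at h1
    rw [← h1, hg, h0u]
  · rw [hg, huu]
    exact one_ne_zero

theorem main [Fintype F] {q : ℕ} (hF : Fintype.card F = q ^ 2) (hn : 3 ≤ n) (σ : F →+* F)
    (hσ : ∀ x, σ x = x ^ q) (hσ2 : ∀ a, σ (σ a) = a) (v : Fin n → F) (hv : v ≠ 0)
    (hv0 : Bh σ n v v = 0) (c : F) (hc : c + σ c = 0) :
    ∃ M₁ M₂ : Matrix (Fin n) (Fin n) F, M₁.det = 1 ∧ M₂.det = 1 ∧
      (∀ x y, Bh σ n (M₁ *ᵥ x) (M₁ *ᵥ y) = Bh σ n x y) ∧
      (∀ x y, Bh σ n (M₂ *ᵥ x) (M₂ *ᵥ y) = Bh σ n x y) ∧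
      M₁ * M₂ = Cfsg.unitaryTransvection n q v c * (M₂ * M₁) := by
  have hσne := sigma_ne hF σ hσ
  have hS := Bh_symm σ hσ2 n
  obtain ⟨u, hvu, hN⟩ := exists_aniso hF σ hσ hσ2 hn v hv hv0
  obtain ⟨θ, hθ⟩ := Cfsg.Agent.S0751.exists_theta σ hσne hσ2
  obtain ⟨N, hNdef⟩ : ∃ N : F, N = Bh σ n u u := ⟨_, rfl⟩
  rw [← hNdef] at hN
  have hσN : σ N = N := by
    rw [hNdef]
    exact hS.eq u u
  obtain ⟨a, hadef⟩ : ∃ a : F, a = θ * c / N := ⟨_, rfl⟩
  have hσc : σ c = -c := by linear_combination hc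
  have ha : c = (a - σ a) * N := by
    rw [hadef, map_div₀, map_mul, hσN, hσc]
    field_simp
    linear_combination (-c) * hθ
  obtain ⟨w, hwdef⟩ : ∃ w : Fin n → F, w = a • u := ⟨_, rfl⟩
  have huv : Bh σ n u v = 0 := by
    rw [← hS.eq, hvu, map_zero]
  have hvw : Bh σ n v w = 0 := by
    rw [hwdef, map_smul, hvu, smul_zero]
  have hwv : Bh σ n w v = 0 := by
    rw [← hS.eq, hvw, map_zero]
  have hww : Bh σ n w w = σ a * a * N := by
    rw [hwdef, hNdef]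
    simp only [map_smulₛₗ, LinearMap.smul_apply, smul_eq_mul, RingHom.id_apply]
    ring
  have hwu : Bh σ n w u = σ a * N := by
    rw [hwdef, hNdef]
    simp only [map_smulₛₗ, LinearMap.smul_apply, smul_eq_mul]
  have huw : Bh σ n u w = a * N := by
    rw [hwdef, hNdef]
    simp only [map_smulₛₗ, smul_eq_mul, RingHom.id_apply]
  obtain ⟨b, hbdef⟩ : ∃ b : F, b = -θ * (σ a * a * N) := ⟨_, rfl⟩
  have hb : b + σ b + Bh σ n w w = 0 := by
    rw [hww, hbdef]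
    simp only [map_neg, map_mul, hσ2, hσN]
    linear_combination (-(σ a * a * N)) * hθ
  obtain ⟨b', hb'def⟩ : ∃ b' : F, b' = -θ * N := ⟨_, rfl⟩
  have hb' : b' + σ b' + Bh σ n u u = 0 := by
    rw [← hNdef, hb'def]
    simp only [map_neg, map_mul, hσN]
    linear_combination (-N) * hθ
  refine ⟨EM σ v w b, EM σ v u b', EM_det σ v w b hv0 hvw hwv, EM_det σ v u b' hv0 hvu huv,
    EM_unitary σ hσ2 v w b hv0 hvw hb, EM_unitary σ hσ2 v u b' hv0 hvu hb', ?_⟩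
  rw [Matrix.ext_iff_mulVec]
  intro x
  rw [← Matrix.mulVec_mulVec, ← Matrix.mulVec_mulVec, ← Matrix.mulVec_mulVec, T_mulVec σ hσ,
    EM_mulVec σ v u b' hv0 x, EM_mulVec σ v w b hv0 x, EM_mulVec σ v w b hv0,
    EM_mulVec σ v u b' hv0]
  simp only [map_add, map_smul, smul_eq_mul, hv0, hvu, hvw, hwu, huw, hwv, huv,
    mul_zero, add_zero]
  rw [ha]
  module

end

/-- In SU_n(q) with n ≥ 4, or n = 3 and q > 2, every element whose matrix is a unitary transvection x ↦ x + c h(x, v) v (v isotropic) is a commutator ⁅B, C⁆ of two elements of SU_n(q). -/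
theorem result {F : Type*} [Field F] [Fintype F] {q : ℕ} (hF : Fintype.card F = q ^ 2) (n : ℕ) (hn : 4 ≤ n ∨ (n = 3 ∧ 3 ≤ q)) (A : ↥(Cfsg.SU n F q)) (v : Fin n → F) (c : F) (hv0 : Cfsg.hermForm n F q v v = 0) (hA : ((A : Matrix.SpecialLinearGroup (Fin n) F) : Matrix (Fin n) (Fin n) F) = Cfsg.unitaryTransvection n q v c) : A ∈ commutatorSet ↥(Cfsg.SU n F q) := by
  classical
  obtain ⟨σ, hσ, hσ2⟩ := Cfsg.Agent.Lib.Helper45.GUCard.exists_conj hF
  have hn3 : 3 ≤ n := by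
    rcases hn with h | h <;> omega
  by_cases hv : v = 0
  · have hA1 : A = 1 := by
      apply Subtype.ext
      apply Subtype.ext
      rw [hA, hv]
      simp [Cfsg.unitaryTransvection]
    rw [hA1]
    exact one_mem_commutatorSet _
  have hpres : ∀ x y, Cfsg.hermForm n F q ((Cfsg.unitaryTransvection n q v c).mulVec x)
      ((Cfsg.unitaryTransvection n q v c).mulVec y) = Cfsg.hermForm n F q x y := by
    intro x y
    have h1 := A.2 x y
    rw [← hA]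
    exact h1
  have hcc := (Cfsg.Agent.S0779.result hF n v hv hv0 c).1 hpres
  have hq1 : 1 ≤ q := by
    by_contra hq0
    have h0 : q = 0 := by omega
    rw [h0] at hF
    have h2 : 1 < Fintype.card F := Fintype.one_lt_card
    omega
  have hc : c + σ c = 0 := by
    rcases hcc with h | h
    · rw [h, map_zero, add_zero]
    · rw [hσ]
      have h3 : c ^ q = c ^ (q - 1) * c := by
        rw [← pow_succ]
        congr 1
        omega
      rw [h3, h]
      ring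
  have hv0' : Cfsg.Agent.S0837.Bh σ n v v = 0 := by
    rw [Cfsg.Agent.S0837.Bh_herm σ hσ]
    exact hv0
  obtain ⟨M₁, M₂, hd₁, hd₂, hu₁, hu₂, hcomm⟩ := main hF hn3 σ hσ hσ2 v hv hv0' c hc
  obtain ⟨g₁, hg₁⟩ : ∃ g₁ : ↥(Cfsg.SU n F q),
      ((g₁ : Matrix.SpecialLinearGroup (Fin n) F) : Matrix (Fin n) (Fin n) F) = M₁ :=
    ⟨⟨⟨M₁, hd₁⟩, fun x y => by
      show Cfsg.hermForm n F q (M₁ *ᵥ x) (M₁ *ᵥ y) = Cfsg.hermForm n F q x y
      rw [← Cfsg.Agent.S0837.Bh_herm σ hσ, ← Cfsg.Agent.S0837.Bh_herm σ hσ]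
      exact hu₁ y x⟩, rfl⟩
  obtain ⟨g₂, hg₂⟩ : ∃ g₂ : ↥(Cfsg.SU n F q),
      ((g₂ : Matrix.SpecialLinearGroup (Fin n) F) : Matrix (Fin n) (Fin n) F) = M₂ :=
    ⟨⟨⟨M₂, hd₂⟩, fun x y => by
      show Cfsg.hermForm n F q (M₂ *ᵥ x) (M₂ *ᵥ y) = Cfsg.hermForm n F q x y
      rw [← Cfsg.Agent.S0837.Bh_herm σ hσ, ← Cfsg.Agent.S0837.Bh_herm σ hσ]
      exact hu₂ y x⟩, rfl⟩
  rw [mem_commutatorSet_iff]
  refine ⟨g₁, g₂, ?_⟩
  have h1 : g₁ * g₂ = A * (g₂ * g₁) := by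
    apply Subtype.ext
    apply Subtype.ext
    simp only [Subgroup.coe_mul, Matrix.SpecialLinearGroup.coe_mul]
    rw [hg₁, hg₂, hA]
    exact hcomm
  rw [commutatorElement_def, h1]
  group

end Cfsg.Agent.S0781
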