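import Cfsg.Statements.S5070
import Mathlib
import Cfsg.Agent.S5016
import Cfsg.Agent.Lib.Helper83.RankOne
import Cfsg.Agent.Lib.Helper83.RootSub
import Cfsg.Agent.Lib.Helper13.SympMat

set_option autoImplicit false
open Cfsg

namespace Cfsg.Agent.S5070

open Matrix Cfsg.Agent.Lib.Helper13

section generic

variable {k : Type*} [Field k] {G : Type*} [Group G]

theorem conjBy_map {H : Type*} [Group H] (φ : H →* G) (A : Subgroup H) (g : H) :
    conjBy (A.map φ) (φ g) = (conjBy A g).map φ := by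
  unfold conjBy
  rw [Subgroup.map_map, Subgroup.map_map]
  congr 1
  ext x
  simp

theorem center_diag (g : Matrix.SpecialLinearGroup (Fin 2) k)
    (hg : g ∈ Subgroup.center (Matrix.SpecialLinearGroup (Fin 2) k)) :
    g 0 1 = 0 ∧ g 1 0 = 0 := by
  rw [Subgroup.mem_center_iff] at hg
  constructor
  · have h := congrArg (fun x : Matrix.SpecialLinearGroup (Fin 2) k => x 0 0)
      (hg (Cfsg.Agent.S5016.L 1))
    simp only [Cfsg.Agent.S5016.mul00, Cfsg.Agent.S5016.L00, Cfsg.Agent.S5016.L01,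
      Cfsg.Agent.S5016.L10] at h
    linear_combination -h
  · have h := congrArg (fun x : Matrix.SpecialLinearGroup (Fin 2) k => x 0 0)
      (hg (Cfsg.Agent.S5016.U 1))
    simp only [Cfsg.Agent.S5016.mul00, Cfsg.Agent.S5016.U00, Cfsg.Agent.S5016.U01,
      Cfsg.Agent.S5016.U10] at h
    linear_combination h

/-- a homomorphism from `SL₂` with central kernel maps the unitriangular subgroups to a rank
one pair -/
theorem pair_map (φ : Matrix.SpecialLinearGroup (Fin 2) k →* G)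
    (hker : φ.ker ≤ Subgroup.center (Matrix.SpecialLinearGroup (Fin 2) k)) :
    IsRankOnePair ((upperUnipotentSL2 k).map φ) ((lowerUnipotentSL2 k).map φ) ∧
    IsPSL2PairOver k ((upperUnipotentSL2 k).map φ) ((lowerUnipotentSL2 k).map φ) := by
  have h0 := (Cfsg.Agent.S5016.result k).1
  have hp : IsRankOnePair (upperUnipotentSL2 k) (lowerUnipotentSL2 k) := RankOnePair_symm h0.2
  have htop : upperUnipotentSL2 k ⊔ lowerUnipotentSL2 k = ⊤ := by
    rw [sup_comm]
    exact h0.1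
  have hnc : ∀ g : Matrix.SpecialLinearGroup (Fin 2) k, g ∈ φ.ker → g 0 1 = 0 ∧ g 1 0 = 0 :=
    fun g hg => center_diag g (hker hg)
  have hcomm : ∀ (A : Subgroup (Matrix.SpecialLinearGroup (Fin 2) k)),
      (∀ a ∈ A, ∀ b ∈ A, a * b = b * a) → Group.IsNilpotent ↥(A.map φ) := by
    intro A hA
    have hc : IsMulCommutative ↥(A.map φ) := by
      rw [isMulCommutative_iff]
      rintro ⟨x, hx⟩ ⟨y, hy⟩
      obtain ⟨a, ha, rfl⟩ := Subgroup.mem_map.1 hx
      obtain ⟨b, hb, rfl⟩ := Subgroup.mem_map.1 hy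
      apply Subtype.ext
      show φ a * φ b = φ b * φ a
      rw [← map_mul, ← map_mul, hA a ha b hb]
    exact ⟨1, Subgroup.upperCentralSeries_one_eq_top_iff.mpr hc⟩
  refine ⟨⟨?_, ?_, ?_, ?_, ?_⟩, ⟨φ, ?_, hker, rfl, rfl⟩⟩
  · intro h
    have h1 : φ (Cfsg.Agent.S5016.U 1) ∈ (lowerUnipotentSL2 k).map φ := by
      rw [← h]
      exact Subgroup.mem_map_of_mem φ ((Cfsg.Agent.S5016.mem_upper_iff' _).mpr ⟨1, rfl⟩)
    obtain ⟨l, hl, hlφ⟩ := Subgroup.mem_map.1 h1
    obtain ⟨t, rfl⟩ := (Cfsg.Agent.S5016.mem_lower_iff' l).mp hl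
    have h2 : (Cfsg.Agent.S5016.L t)⁻¹ * Cfsg.Agent.S5016.U 1 ∈ φ.ker := by
      rw [MonoidHom.mem_ker, map_mul, map_inv, hlφ, inv_mul_cancel]
    have h3 := (hnc _ h2).1
    rw [Cfsg.Agent.S5016.mul01, Cfsg.Agent.S5016.inv00, Cfsg.Agent.S5016.inv01,
      Cfsg.Agent.S5016.L11, Cfsg.Agent.S5016.L01, Cfsg.Agent.S5016.U01,
      Cfsg.Agent.S5016.U11] at h3
    simp at h3
  · apply hcomm
    intro a ha b hb
    obtain ⟨s, rfl⟩ := (Cfsg.Agent.S5016.mem_upper_iff' a).mp ha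
    obtain ⟨s', rfl⟩ := (Cfsg.Agent.S5016.mem_upper_iff' b).mp hb
    rw [Cfsg.Agent.S5016.U_mul, Cfsg.Agent.S5016.U_mul, add_comm]
  · apply hcomm
    intro a ha b hb
    obtain ⟨s, rfl⟩ := (Cfsg.Agent.S5016.mem_lower_iff' a).mp ha
    obtain ⟨s', rfl⟩ := (Cfsg.Agent.S5016.mem_lower_iff' b).mp hb
    rw [Cfsg.Agent.S5016.L_mul, Cfsg.Agent.S5016.L_mul, add_comm]
  · intro a' ha' ha'1
    obtain ⟨a, ha, rfl⟩ := Subgroup.mem_map.1 ha'
    have ha1 : a ≠ 1 := by
      rintro rfl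
      exact ha'1 (map_one φ)
    obtain ⟨b, hb, hb1, hab⟩ := hp.cond_left a ha ha1
    refine ⟨φ b, Subgroup.mem_map_of_mem φ hb, ?_, ?_⟩
    · intro h
      obtain ⟨t, rfl⟩ := (Cfsg.Agent.S5016.mem_lower_iff' b).mp hb
      have h2 := (hnc _ (MonoidHom.mem_ker.2 h)).2
      rw [Cfsg.Agent.S5016.L10] at h2
      apply hb1
      rw [h2]
      exact Cfsg.Agent.S5016.L_zero
    · rw [← map_inv, ← map_inv, conjBy_map, conjBy_map, hab]
  · intro a' ha' ha'1
    obtain ⟨a, ha, rfl⟩ := Subgroup.mem_map.1 ha'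
    have ha1 : a ≠ 1 := by
      rintro rfl
      exact ha'1 (map_one φ)
    obtain ⟨b, hb, hb1, hab⟩ := hp.cond_right a ha ha1
    refine ⟨φ b, Subgroup.mem_map_of_mem φ hb, ?_, ?_⟩
    · intro h
      obtain ⟨t, rfl⟩ := (Cfsg.Agent.S5016.mem_upper_iff' b).mp hb
      have h2 := (hnc _ (MonoidHom.mem_ker.2 h)).1
      rw [Cfsg.Agent.S5016.U01] at h2
      apply hb1
      rw [h2]
      exact Cfsg.Agent.S5016.U_zero
    · rw [← map_inv, ← map_inv, conjBy_map, conjBy_map, hab]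
  · rw [MonoidHom.range_eq_map, ← htop, Subgroup.map_sup]

end generic

section Lmap

variable {F V : Type*} [Field F] [AddCommGroup V] [Module F V]

/-- the endomorphism attached to a `2 × 2` matrix and a hyperbolic pair `e, e'` -/
def Lmap (B : LinearMap.BilinForm F V) (e e' : V) (g : Matrix (Fin 2) (Fin 2) F) : V →ₗ[F] V :=
  LinearMap.id + (B.flip e').smulRight ((g 0 0 - 1) • e + g 1 0 • e') -
    (B.flip e).smulRight (g 0 1 • e + (g 1 1 - 1) • e')

theorem Lmap_apply (B : LinearMap.BilinForm F V) (e e' : V) (g : Matrix (Fin 2) (Fin 2) F)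
    (v : V) : Lmap B e e' g v = v + B v e' • ((g 0 0 - 1) • e + g 1 0 • e') -
      B v e • (g 0 1 • e + (g 1 1 - 1) • e') := by
  simp [Lmap]

theorem Lmap_one (B : LinearMap.BilinForm F V) (e e' : V) : Lmap B e e' 1 = LinearMap.id := by
  ext v
  simp [Lmap_apply]

theorem Lmap_mul (B : LinearMap.BilinForm F V) (hA : B.IsAlt) (e e' : V) (h1 : B e e' = 1)
    (g h : Matrix (Fin 2) (Fin 2) F) :
    Lmap B e e' (g * h) = (Lmap B e e' g).comp (Lmap B e e' h) := by
  have h2 : B e' e = -1 := by rw [← hA.neg_eq, h1]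
  ext v
  simp only [LinearMap.comp_apply, Lmap_apply, Matrix.mul_apply, Fin.sum_univ_two, map_add,
    map_sub, map_smul, hA e, hA e', h1, h2]
  module

theorem Lmap_iso (B : LinearMap.BilinForm F V) (hA : B.IsAlt) (e e' : V) (h1 : B e e' = 1)
    (g : Matrix (Fin 2) (Fin 2) F) (hdet : g 0 0 * g 1 1 - g 0 1 * g 1 0 = 1) (u v : V) :
    B (Lmap B e e' g u) (Lmap B e e' g v) = B u v := by
  have h2 : B e' e = -1 := by rw [← hA.neg_eq, h1]
  have h3 : B e v = - B v e := (hA.neg_eq v e).symm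
  have h4 : B e' v = - B v e' := (hA.neg_eq v e').symm
  simp only [Lmap_apply, map_add, map_sub, map_smul, LinearMap.add_apply, LinearMap.sub_apply,
    LinearMap.smul_apply, smul_eq_mul, hA e, hA e', h1, h2, h3, h4]
  linear_combination (B v e' * B u e - B u e' * B v e) * hdet

end Lmap

section symp

variable {F : Type*} [Field F] {m : ℕ}

/-- the action on column vectors -/
def act (g : ↥(Matrix.symplecticGroup (Fin m) F)) (v : Fin m ⊕ Fin m → F) : Fin m ⊕ Fin m → F :=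
  (g : Matrix (Fin m ⊕ Fin m) (Fin m ⊕ Fin m) F) *ᵥ v

theorem act_mul (g h : ↥(Matrix.symplecticGroup (Fin m) F)) (v : Fin m ⊕ Fin m → F) :
    act (g * h) v = act g (act h v) := by
  unfold act
  rw [Submonoid.coe_mul, Matrix.mulVec_mulVec]

theorem act_one (v : Fin m ⊕ Fin m → F) :
    act (1 : ↥(Matrix.symplecticGroup (Fin m) F)) v = v := by
  unfold act
  rw [Submonoid.coe_one, Matrix.one_mulVec]

theorem act_inv_act (g : ↥(Matrix.symplecticGroup (Fin m) F)) (v : Fin m ⊕ Fin m → F) :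
    act g⁻¹ (act g v) = v := by
  rw [← act_mul, inv_mul_cancel, act_one]

theorem act_act_inv (g : ↥(Matrix.symplecticGroup (Fin m) F)) (v : Fin m ⊕ Fin m → F) :
    act g (act g⁻¹ v) = v := by
  rw [← act_mul, mul_inv_cancel, act_one]

theorem act_add (g : ↥(Matrix.symplecticGroup (Fin m) F)) (u v : Fin m ⊕ Fin m → F) :
    act g (u + v) = act g u + act g v := Matrix.mulVec_add _ _ _

theorem act_smul (g : ↥(Matrix.symplecticGroup (Fin m) F)) (a : F) (v : Fin m ⊕ Fin m → F) :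
    act g (a • v) = a • act g v := Matrix.mulVec_smul _ _ _

theorem act_form (g : ↥(Matrix.symplecticGroup (Fin m) F)) (u v : Fin m ⊕ Fin m → F) :
    SympMat.form m F (act g u) (act g v) = SympMat.form m F u v :=
  (SympMat.mem_symp_iff m _).1 g.2 u v

theorem ext_act {g h : ↥(Matrix.symplecticGroup (Fin m) F)} (hgh : ∀ v, act g v = act h v) :
    g = h := by
  apply SympMat.Φ_injective m
  apply LinearEquiv.ext
  intro v
  rw [SympMat.Φ_apply, SympMat.Φ_apply]
  exact hgh v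

/-- the transvection as a group element -/
def tau (p : Fin m ⊕ Fin m → F) (c : F) : ↥(Matrix.symplecticGroup (Fin m) F) :=
  ⟨Cfsg.sympTransvection m p c, SympMat.transvection_mem m p c⟩

theorem act_tau (p : Fin m ⊕ Fin m → F) (c : F) (v : Fin m ⊕ Fin m → F) :
    act (tau p c) v = v + (c * SympMat.form m F v p) • p :=
  SympMat.transvection_mulVec m p c v

theorem tau_mul (p : Fin m ⊕ Fin m → F) (c d : F) : tau p c * tau p d = tau p (c + d) :=
  Subtype.ext (SympMat.transvection_mul m p c d)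

theorem tau_zero (p : Fin m ⊕ Fin m → F) : tau p (0 : F) = 1 := by
  apply ext_act
  intro v
  rw [act_tau, act_one, zero_mul, zero_smul, add_zero]

theorem tau_inv (p : Fin m ⊕ Fin m → F) (c : F) : (tau p c)⁻¹ = tau p (-c) := by
  apply inv_eq_of_mul_eq_one_left
  rw [tau_mul, neg_add_cancel, tau_zero]

theorem conj_tau (g : ↥(Matrix.symplecticGroup (Fin m) F)) (p : Fin m ⊕ Fin m → F) (c : F) :
    g * tau p c * g⁻¹ = tau (act g p) c := by
  apply ext_act
  intro v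
  rw [act_mul, act_mul, act_tau, act_tau, act_add, act_act_inv, act_smul]
  have h := act_form g (act g⁻¹ v) p
  rw [act_act_inv] at h
  rw [h]

theorem tau_smul (p : Fin m ⊕ Fin m → F) (a c : F) : tau (a • p) c = tau p (c * a * a) := by
  apply ext_act
  intro v
  rw [act_tau, act_tau, map_smul, smul_smul, smul_eq_mul]
  congr 2
  ring

theorem tau_comm (p p' : Fin m ⊕ Fin m → F) (h : SympMat.form m F p p' = 0) (c d : F) :
    tau p c * tau p' d = tau p' d * tau p c := by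
  have h' : SympMat.form m F p' p = 0 := by
    rw [← (SympMat.form_alt m).neg_eq, h, neg_zero]
  apply ext_act
  intro v
  rw [act_mul, act_mul, act_tau, act_tau, act_tau, act_tau]
  simp only [map_add, map_smul, LinearMap.add_apply, LinearMap.smul_apply, smul_eq_mul, h, h',
    mul_zero, add_zero]
  abel

theorem tau_comm_imp (u p : Fin m ⊕ Fin m → F) (c d : F)
    (h : tau u c * tau p d = tau p d * tau u c) : c * d * SympMat.form m F u p = 0 := by
  have hA := SympMat.form_alt m (F := F)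
  have h1 := congrArg (fun g => act g u) h
  simp only [act_mul, act_tau, hA u, mul_zero, zero_smul, add_zero] at h1
  simp only [map_add, map_smul, LinearMap.add_apply, LinearMap.smul_apply, smul_eq_mul, hA u,
    zero_add] at h1
  have h2 : SympMat.form m F p u = - SympMat.form m F u p := (hA.neg_eq u p).symm
  rw [h2] at h1
  have h3 : (c * (d * SympMat.form m F u p * -SympMat.form m F u p)) • u = 0 := by
    have h4 := h1
    rw [add_eq_left] at h4
    exact h4
  rcases smul_eq_zero.1 h3 with h5 | h5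
  · by_cases h6 : SympMat.form m F u p = 0
    · rw [h6, mul_zero]
    · have h7 : c * d = 0 := by
        have h8 : c * d * (SympMat.form m F u p * SympMat.form m F u p) = 0 := by
          linear_combination -h5
        rcases mul_eq_zero.1 h8 with h9 | h9
        · exact h9
        · exact absurd (mul_self_eq_zero.1 h9) h6
      rw [h7, zero_mul]
  · rw [h5, map_zero, LinearMap.zero_apply, mul_zero]

theorem exists_form_ne (p : Fin m ⊕ Fin m → F) (hp : p ≠ 0) :
    ∃ r, SympMat.form m F p r ≠ 0 := by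
  by_contra hno
  push Not at hno
  exact hp ((SympMat.form_nondeg m).1 p hno)

theorem tau_eq_one (p : Fin m ⊕ Fin m → F) (hp : p ≠ 0) (c : F) (h : tau p c = 1) : c = 0 := by
  obtain ⟨r, hr⟩ := exists_form_ne p hp
  have hr' : SympMat.form m F r p ≠ 0 := by
    rw [← (SympMat.form_alt m).neg_eq]
    exact neg_ne_zero.2 hr
  have h1 := congrArg (fun g => act g r) h
  simp only [act_tau, act_one, add_eq_left] at h1
  rcases smul_eq_zero.1 h1 with h2 | h2
  · rcases mul_eq_zero.1 h2 with h3 | h3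
    · exact h3
    · exact absurd h3 hr'
  · exact absurd h2 hp

/-- the transvection group with centre `p` -/
def Tg (p : Fin m ⊕ Fin m → F) : Subgroup ↥(Matrix.symplecticGroup (Fin m) F) where
  carrier := {g | ∃ c, g = tau p c}
  mul_mem' := by
    rintro _ _ ⟨c, rfl⟩ ⟨d, rfl⟩
    exact ⟨c + d, tau_mul p c d⟩
  one_mem' := ⟨0, (tau_zero p).symm⟩
  inv_mem' := by
    rintro _ ⟨c, rfl⟩
    exact ⟨-c, tau_inv p c⟩

theorem mem_Tg {p : Fin m ⊕ Fin m → F} {g : ↥(Matrix.symplecticGroup (Fin m) F)} :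
    g ∈ Tg p ↔ ∃ c, g = tau p c := Iff.rfl

theorem tau_mem (p : Fin m ⊕ Fin m → F) (c : F) : tau p c ∈ Tg p := ⟨c, rfl⟩

theorem closure_eq (p : Fin m ⊕ Fin m → F) :
    Subgroup.closure {g : ↥(Matrix.symplecticGroup (Fin m) F) | ∃ c : F,
      ∀ v : Fin m ⊕ Fin m → F, (g : Matrix (Fin m ⊕ Fin m) (Fin m ⊕ Fin m) F) *ᵥ v =
        v + (c * (v ⬝ᵥ (Matrix.J (Fin m) F *ᵥ p))) • p} = Tg p := by
  have h : {g : ↥(Matrix.symplecticGroup (Fin m) F) | ∃ c : F,
      ∀ v : Fin m ⊕ Fin m → F, (g : Matrix (Fin m ⊕ Fin m) (Fin m ⊕ Fin m) F) *ᵥ v =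
        v + (c * (v ⬝ᵥ (Matrix.J (Fin m) F *ᵥ p))) • p} =
      (Tg p : Set ↥(Matrix.symplecticGroup (Fin m) F)) := by
    ext g
    constructor
    · rintro ⟨c, hc⟩
      refine ⟨c, ext_act (fun v => ?_)⟩
      rw [act_tau, SympMat.form_apply]
      exact hc v
    · rintro ⟨c, rfl⟩
      refine ⟨c, fun v => ?_⟩
      have h1 := act_tau p c v
      rw [SympMat.form_apply] at h1
      exact h1
  rw [h, Subgroup.closure_eq]

theorem Tg_smul (p : Fin m ⊕ Fin m → F) (a : F) (ha : a ≠ 0) : Tg (a • p) = Tg p := by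
  ext g
  rw [mem_Tg, mem_Tg]
  constructor
  · rintro ⟨c, rfl⟩
    exact ⟨c * a * a, tau_smul p a c⟩
  · rintro ⟨c, rfl⟩
    refine ⟨c * a⁻¹ * a⁻¹, ?_⟩
    rw [tau_smul]
    congr 1
    field_simp

theorem conjBy_Tg (p : Fin m ⊕ Fin m → F) (g : ↥(Matrix.symplecticGroup (Fin m) F)) :
    conjBy (Tg p) g = Tg (act g p) := by
  ext x
  rw [Cfsg.Agent.Lib.Helper83.RankOne.mem_conjBy, mem_Tg, mem_Tg]
  constructor
  · rintro ⟨c, hc⟩
    refine ⟨c, ?_⟩
    rw [← conj_tau, ← hc]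
    group
  · rintro ⟨c, rfl⟩
    refine ⟨c, ?_⟩
    rw [← conj_tau]
    group

theorem act_ne_zero (g : ↥(Matrix.symplecticGroup (Fin m) F)) (p : Fin m ⊕ Fin m → F)
    (hp : p ≠ 0) : act g p ≠ 0 := by
  intro h
  apply hp
  have h1 := act_inv_act g p
  rw [h] at h1
  rw [← h1]
  exact Matrix.mulVec_zero _

theorem Tg_ne_bot (p : Fin m ⊕ Fin m → F) (hp : p ≠ 0) : Tg p ≠ ⊥ := by
  intro h
  have h1 : tau p (1 : F) ∈ Tg p := tau_mem p 1
  rw [h, Subgroup.mem_bot] at h1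
  exact one_ne_zero (tau_eq_one p hp 1 h1)

theorem Tg_comm (p : Fin m ⊕ Fin m → F) : IsMulCommutative ↥(Tg p) := by
  rw [isMulCommutative_iff]
  rintro ⟨a, ha⟩ ⟨b, hb⟩
  obtain ⟨c, rfl⟩ := ha
  obtain ⟨d, rfl⟩ := hb
  apply Subtype.ext
  show tau p c * tau p d = tau p d * tau p c
  rw [tau_mul, tau_mul, add_comm]

theorem Tg_commutator (p p' : Fin m ⊕ Fin m → F) (h : SympMat.form m F p p' = 0) :
    ⁅Tg p, Tg p'⁆ = ⊥ := by
  apply Cfsg.Agent.Lib.Helper83.RootSub.commutator_eq_bot_of_comm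
  rintro _ ⟨c, rfl⟩ _ ⟨d, rfl⟩
  exact tau_comm p p' h c d

/-- the homomorphism from `SL₂` attached to a hyperbolic pair -/
noncomputable def phi (e e' : Fin m ⊕ Fin m → F) (h1 : SympMat.form m F e e' = 1) :
    Matrix.SpecialLinearGroup (Fin 2) F →* ↥(Matrix.symplecticGroup (Fin m) F) where
  toFun g := ⟨LinearMap.toMatrix' (Lmap (SympMat.form m F) e e' g.1), by
    rw [SympMat.mem_symp_iff]
    intro u v
    rw [← Matrix.toLin'_apply, ← Matrix.toLin'_apply, Matrix.toLin'_toMatrix']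
    exact Lmap_iso _ (SympMat.form_alt m) e e' h1 g.1 (Cfsg.Agent.S5016.det_eq g) u v⟩
  map_one' := by
    apply Subtype.ext
    show LinearMap.toMatrix' (Lmap (SympMat.form m F) e e' (1 : Matrix (Fin 2) (Fin 2) F)) = 1
    rw [Lmap_one, LinearMap.toMatrix'_id]
  map_mul' g h := by
    apply Subtype.ext
    show LinearMap.toMatrix' (Lmap (SympMat.form m F) e e' (g.1 * h.1)) =
      LinearMap.toMatrix' (Lmap (SympMat.form m F) e e' g.1) *
        LinearMap.toMatrix' (Lmap (SympMat.form m F) e e' h.1)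
    rw [Lmap_mul _ (SympMat.form_alt m) e e' h1, LinearMap.toMatrix'_comp]

theorem act_phi (e e' : Fin m ⊕ Fin m → F) (h1 : SympMat.form m F e e' = 1)
    (g : Matrix.SpecialLinearGroup (Fin 2) F) (v : Fin m ⊕ Fin m → F) :
    act (phi e e' h1 g) v = Lmap (SympMat.form m F) e e' g.1 v := by
  show LinearMap.toMatrix' (Lmap (SympMat.form m F) e e' g.1) *ᵥ v = _
  rw [← Matrix.toLin'_apply, Matrix.toLin'_toMatrix']

theorem phi_U (e e' : Fin m ⊕ Fin m → F) (h1 : SympMat.form m F e e' = 1) (s : F) :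
    phi e e' h1 (Cfsg.Agent.S5016.U s) = tau e (-s) := by
  apply ext_act
  intro v
  rw [act_phi, act_tau, Lmap_apply]
  have h00 := Cfsg.Agent.S5016.U00 s
  have h01 := Cfsg.Agent.S5016.U01 s
  have h10 := Cfsg.Agent.S5016.U10 s
  have h11 := Cfsg.Agent.S5016.U11 s
  rw [h00, h01, h10, h11]
  module

theorem phi_L (e e' : Fin m ⊕ Fin m → F) (h1 : SympMat.form m F e e' = 1) (t : F) :
    phi e e' h1 (Cfsg.Agent.S5016.L t) = tau e' t := by
  apply ext_act
  intro v
  rw [act_phi, act_tau, Lmap_apply]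
  have h00 := Cfsg.Agent.S5016.L00 t
  have h01 := Cfsg.Agent.S5016.L01 t
  have h10 := Cfsg.Agent.S5016.L10 t
  have h11 := Cfsg.Agent.S5016.L11 t
  rw [h00, h01, h10, h11]
  module

theorem map_upper (e e' : Fin m ⊕ Fin m → F) (h1 : SympMat.form m F e e' = 1) :
    (upperUnipotentSL2 F).map (phi e e' h1) = Tg e := by
  ext x
  rw [Subgroup.mem_map, mem_Tg]
  constructor
  · rintro ⟨g, hg, rfl⟩
    obtain ⟨s, rfl⟩ := (Cfsg.Agent.S5016.mem_upper_iff' g).mp hg
    exact ⟨-s, phi_U e e' h1 s⟩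
  · rintro ⟨c, rfl⟩
    refine ⟨Cfsg.Agent.S5016.U (-c), (Cfsg.Agent.S5016.mem_upper_iff' _).mpr ⟨_, rfl⟩, ?_⟩
    rw [phi_U, neg_neg]

theorem map_lower (e e' : Fin m ⊕ Fin m → F) (h1 : SympMat.form m F e e' = 1) :
    (lowerUnipotentSL2 F).map (phi e e' h1) = Tg e' := by
  ext x
  rw [Subgroup.mem_map, mem_Tg]
  constructor
  · rintro ⟨g, hg, rfl⟩
    obtain ⟨s, rfl⟩ := (Cfsg.Agent.S5016.mem_lower_iff' g).mp hg
    exact ⟨s, phi_L e e' h1 s⟩
  · rintro ⟨c, rfl⟩
    exact ⟨Cfsg.Agent.S5016.L c, (Cfsg.Agent.S5016.mem_lower_iff' _).mpr ⟨_, rfl⟩,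
      phi_L e e' h1 c⟩

theorem phi_ker (e e' : Fin m ⊕ Fin m → F) (h1 : SympMat.form m F e e' = 1) :
    (phi e e' h1).ker ≤ Subgroup.center (Matrix.SpecialLinearGroup (Fin 2) F) := by
  have hA := SympMat.form_alt m (F := F)
  have h2 : SympMat.form m F e' e = -1 := by rw [← hA.neg_eq, h1]
  intro g hg
  rw [MonoidHom.mem_ker] at hg
  have he := congrArg (fun x => act x e) hg
  have he' := congrArg (fun x => act x e') hg
  simp only [act_phi, act_one, Lmap_apply, hA e, hA e', h1, h2, zero_smul, one_smul, sub_zero,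
    neg_smul, sub_neg_eq_add, add_zero, add_eq_left] at he he'
  have ha : g.1 0 0 - 1 = 0 := by
    have h3 := congrArg (fun x => SympMat.form m F x e') he
    simpa [hA e', h1] using h3
  have hc : g.1 1 0 = 0 := by
    have h3 := congrArg (fun x => SympMat.form m F x e) he
    simpa [hA e, h2] using h3
  have hb : g.1 0 1 = 0 := by
    have h3 := congrArg (fun x => SympMat.form m F x e') he'
    simpa [hA e', h1] using h3
  have hd : g.1 1 1 = 1 := by
    have h3 := congrArg (fun x => SympMat.form m F x e) he'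
    have h4 : 1 - g.1 1 1 = 0 := by simpa [hA e, h2] using h3
    linear_combination -h4
  have hg1 : g = 1 := by
    apply Cfsg.Agent.S5016.ext2
    · rw [Cfsg.Agent.S5016.one00]
      exact sub_eq_zero.1 ha
    · rw [Cfsg.Agent.S5016.one01]
      exact hb
    · rw [Cfsg.Agent.S5016.one10]
      exact hc
    · rw [Cfsg.Agent.S5016.one11]
      exact hd
  rw [hg1]
  exact Subgroup.one_mem _

/-- two transvection groups with non-perpendicular centres form a rank one pair covered by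
`SL₂` -/
theorem Tg_pair (p p' : Fin m ⊕ Fin m → F) (h : SympMat.form m F p p' ≠ 0) :
    IsRankOnePair (Tg p) (Tg p') ∧ IsPSL2PairOver F (Tg p) (Tg p') := by
  have h1 : SympMat.form m F p ((SympMat.form m F p p')⁻¹ • p') = 1 := by
    rw [map_smul, smul_eq_mul, inv_mul_cancel₀ h]
  have h2 := pair_map (phi p ((SympMat.form m F p p')⁻¹ • p') h1) (phi_ker p _ h1)
  rw [map_upper, map_lower, Tg_smul p' _ (inv_ne_zero h)] at h2
  exact h2

/-- the family of transvection groups -/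
def Sfam (m : ℕ) (F : Type*) [Field F] : Set (Subgroup ↥(Matrix.symplecticGroup (Fin m) F)) :=
  {A | ∃ p : Fin m ⊕ Fin m → F, p ≠ 0 ∧ A = Tg p}

theorem fam_eq : {A : Subgroup ↥(Matrix.symplecticGroup (Fin m) F) |
    ∃ p : Fin m ⊕ Fin m → F, p ≠ 0 ∧
      A = Subgroup.closure {g : ↥(Matrix.symplecticGroup (Fin m) F) | ∃ c : F,
        ∀ v : Fin m ⊕ Fin m → F, (g : Matrix (Fin m ⊕ Fin m) (Fin m ⊕ Fin m) F) *ᵥ v =
          v + (c * (v ⬝ᵥ (Matrix.J (Fin m) F *ᵥ p))) • p}} = Sfam m F := by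
  ext A
  constructor
  · rintro ⟨p, hp, rfl⟩
    exact ⟨p, hp, closure_eq p⟩
  · rintro ⟨p, hp, rfl⟩
    exact ⟨p, hp, (closure_eq p).symm⟩

theorem exists_third (p p' : Fin m ⊕ Fin m → F) (hp : p ≠ 0) (hp' : p' ≠ 0) :
    ∃ r, SympMat.form m F p r ≠ 0 ∧ SympMat.form m F p' r ≠ 0 := by
  obtain ⟨r₁, h1⟩ := exists_form_ne p hp
  obtain ⟨r₂, h2⟩ := exists_form_ne p' hp'
  by_cases h3 : SympMat.form m F p' r₁ = 0
  · by_cases h4 : SympMat.form m F p r₂ = 0
    · refine ⟨r₁ + r₂, ?_, ?_⟩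
      · rw [map_add, h4, add_zero]
        exact h1
      · rw [map_add, h3, zero_add]
        exact h2
    · exact ⟨r₂, h4, h2⟩
  · exact ⟨r₁, h1, h3⟩

theorem exists_map (p p' : Fin m ⊕ Fin m → F) (hp : p ≠ 0) (hp' : p' ≠ 0) :
    ∃ g : ↥(Matrix.symplecticGroup (Fin m) F), act g p = p' := by
  have key : ∀ x y : Fin m ⊕ Fin m → F, SympMat.form m F x y ≠ 0 →
      ∃ g : ↥(Matrix.symplecticGroup (Fin m) F), act g x = y := by
    intro x y hxy
    refine ⟨tau (y - x) (SympMat.form m F x y)⁻¹, ?_⟩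
    rw [act_tau, map_sub, (SympMat.form_alt m) x, sub_zero, inv_mul_cancel₀ hxy, one_smul]
    abel
  obtain ⟨r, h1, h2⟩ := exists_third p p' hp hp'
  obtain ⟨g₁, hg₁⟩ := key p r h1
  obtain ⟨g₂, hg₂⟩ := key r p' (by
    rw [← (SympMat.form_alt m).neg_eq]
    exact neg_ne_zero.2 h2)
  exact ⟨g₂ * g₁, by rw [act_mul, hg₁, hg₂]⟩

theorem isRootSet : IsRootSubgroupSet (Sfam m F) where
  commutative := by
    rintro A ⟨p, hp, rfl⟩
    exact Tg_comm p
  ne_bot := by
    rintro A ⟨p, hp, rfl⟩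
    exact Tg_ne_bot p hp
  generates := by
    rw [eq_top_iff, ← SympMat.closure_gens_eq_top m, Subgroup.closure_le]
    rintro g ⟨w, c, hg⟩
    have hg' : g = tau w c := Subtype.ext hg
    rw [hg']
    by_cases hw : w = 0
    · have h1 : tau w c = 1 := by
        apply ext_act
        intro v
        rw [act_tau, act_one, hw, smul_zero, add_zero]
      rw [h1]
      exact Subgroup.one_mem _
    · have hmem : Tg w ∈ Sfam m F := ⟨w, hw, rfl⟩
      show tau w c ∈ ⨆ A ∈ Sfam m F, A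
      apply Subgroup.mem_iSup_of_mem (Tg w)
      apply Subgroup.mem_iSup_of_mem hmem
      exact tau_mem w c
  conj_mem := by
    rintro A ⟨p, hp, rfl⟩ g
    exact ⟨act g p, act_ne_zero g p hp, conjBy_Tg p g⟩
  pair := by
    rintro A ⟨p, hp, rfl⟩ B ⟨p', hp', rfl⟩
    by_cases h : SympMat.form m F p p' = 0
    · exact Or.inl (Tg_commutator p p' h)
    · exact Or.inr (Or.inl (Tg_pair p p' h).1)

theorem comm_aux {G : Type*} [Group G] (a b : G)
    (h : a * b * a⁻¹ * b⁻¹ * a = a * (a * b * a⁻¹ * b⁻¹)) :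
    (b * a⁻¹ * b⁻¹) * a = a * (b * a⁻¹ * b⁻¹) := by
  have h3 := congrArg (fun x => a⁻¹ * x) h
  simp only [mul_assoc, inv_mul_cancel_left] at h3
  simp only [mul_assoc]
  exact h3

theorem degenerate : IsDegenerateRootSet (Sfam m F) := by
  rintro A ⟨p, hp, rfl⟩ B ⟨p', hp', rfl⟩ ⟨hC, hcent, -, -⟩
  by_cases h : SympMat.form m F p p' = 0
  · rw [Tg_commutator p p' h] at hC
    obtain ⟨r, hr, hbot⟩ := hC
    exact Tg_ne_bot r hr hbot.symm
  · have hA := SympMat.form_alt m (F := F)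
    have ha : tau p (1 : F) ∈ Tg p := tau_mem p 1
    have hb : tau p' (1 : F) ∈ Tg p' := tau_mem p' 1
    have h1 := hcent _ (Subgroup.commutator_mem_commutator ha hb) (tau p 1)
      (Subgroup.mem_sup_left ha)
    rw [commutatorElement_def] at h1
    have h2 := comm_aux _ _ h1
    rw [tau_inv, conj_tau] at h2
    have h3 := tau_comm_imp _ _ _ _ h2
    rw [act_tau] at h3
    simp only [map_add, map_smul, LinearMap.add_apply, LinearMap.smul_apply, smul_eq_mul,
      hA p, zero_add, one_mul, mul_one] at h3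
    have h4 : SympMat.form m F p' p = - SympMat.form m F p p' := (hA.neg_eq p p').symm
    rw [h4] at h3
    apply h
    have h5 : SympMat.form m F p p' * SympMat.form m F p p' = 0 := by
      linear_combination h3
    exact mul_self_eq_zero.1 h5

theorem kroot : ∀ A ∈ Sfam m F, ∀ B ∈ Sfam m F, IsRankOnePair A B → IsPSL2PairOver F A B := by
  rintro A ⟨p, hp, rfl⟩ B ⟨p', hp', rfl⟩ hpair
  by_cases h : SympMat.form m F p p' = 0
  · exfalso
    obtain ⟨a, ha, ha1⟩ := Cfsg.Agent.Lib.Helper83.RankOne.exists_mem_ne_one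
      (Cfsg.Agent.Lib.Helper83.RankOne.left_ne_bot hpair)
    apply ha1
    apply Cfsg.Agent.Lib.Helper83.RankOne.eq_one_of_conjBy_eq hpair ha
    apply Cfsg.Agent.Lib.Helper83.RootSub.conjBy_eq_of_commute
    rintro _ ⟨d, rfl⟩
    obtain ⟨c, rfl⟩ := ha
    exact tau_comm p p' h c d
  · exact (Tg_pair p p' h).2

theorem connected : IsConnectedFamily (FAdj (Sfam m F)) (Sfam m F) := by
  rintro A ⟨p, hp, rfl⟩ B ⟨p', hp', rfl⟩
  obtain ⟨r, h1, h2⟩ := exists_third p p' hp hp'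
  have hr : r ≠ 0 := by
    rintro rfl
    exact h1 (map_zero _)
  have h2' : SympMat.form m F r p' ≠ 0 := by
    rw [← (SympMat.form_alt m).neg_eq]
    exact neg_ne_zero.2 h2
  exact Relation.ReflTransGen.tail
    (Relation.ReflTransGen.single ⟨⟨p, hp, rfl⟩, ⟨r, hr, rfl⟩, (Tg_pair p r h1).1⟩)
    ⟨⟨r, hr, rfl⟩, ⟨p', hp', rfl⟩, (Tg_pair r p' h2').1⟩

theorem conjClass (m : ℕ) : IsConjClassOfSubgroups (Sfam (m + 1) F) := by
  refine ⟨⟨Tg (fun _ => 1), fun _ => 1, ?_, rfl⟩, ?_⟩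
  · intro h
    have h1 := congrFun h (Sum.inl 0)
    exact one_ne_zero h1
  · rintro A ⟨p, hp, rfl⟩ B ⟨p', hp', rfl⟩
    obtain ⟨g, hg⟩ := exists_map p p' hp hp'
    exact ⟨g, by rw [conjBy_Tg, hg]⟩

end symp

/-- Let F be a field, m a natural number and V = F^{2(m+1)} with the standard non-degenerate alternating form f(u, v) = uᵀ J v. For a non-zero vector p let T(p) be the group of symplectic transvections v ↦ v + c f(v, p) p, c ∈ F. Then the subgroups T(p), p ≠ 0, generate the symplectic group Sp_{2(m+1)}(F) and form a degenerate class of abstract F-root subgroups of it (any two of them either commute elementwise or are the unipotent subgroups of a rank one group that is an image of SL₂(F) with central kernel, never the commutator case), and their graph of rank one pairs is connected. -/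
theorem result (F : Type*) [Field F] (m : ℕ) :
    Cfsg.IsRootSubgroupClass {A : Subgroup ↥(Matrix.symplecticGroup (Fin (m + 1)) F) | ∃ p : Fin (m + 1) ⊕ Fin (m + 1) → F, p ≠ 0 ∧
        A = Subgroup.closure {g : ↥(Matrix.symplecticGroup (Fin (m + 1)) F) | ∃ c : F, ∀ v : Fin (m + 1) ⊕ Fin (m + 1) → F,
          (g : Matrix (Fin (m + 1) ⊕ Fin (m + 1)) (Fin (m + 1) ⊕ Fin (m + 1)) F) *ᵥ v =
            v + (c * (v ⬝ᵥ (Matrix.J (Fin (m + 1)) F *ᵥ p))) • p}} ∧
    Cfsg.IsDegenerateRootSet {A : Subgroup ↥(Matrix.symplecticGroup (Fin (m + 1)) F) | ∃ p : Fin (m + 1) ⊕ Fin (m + 1) → F, p ≠ 0 ∧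
        A = Subgroup.closure {g : ↥(Matrix.symplecticGroup (Fin (m + 1)) F) | ∃ c : F, ∀ v : Fin (m + 1) ⊕ Fin (m + 1) → F,
          (g : Matrix (Fin (m + 1) ⊕ Fin (m + 1)) (Fin (m + 1) ⊕ Fin (m + 1)) F) *ᵥ v =
            v + (c * (v ⬝ᵥ (Matrix.J (Fin (m + 1)) F *ᵥ p))) • p}} ∧
    Cfsg.IsKRootSubgroupSet F {A : Subgroup ↥(Matrix.symplecticGroup (Fin (m + 1)) F) | ∃ p : Fin (m + 1) ⊕ Fin (m + 1) → F, p ≠ 0 ∧
        A = Subgroup.closure {g : ↥(Matrix.symplecticGroup (Fin (m + 1)) F) | ∃ c : F, ∀ v : Fin (m + 1) ⊕ Fin (m + 1) → F,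
          (g : Matrix (Fin (m + 1) ⊕ Fin (m + 1)) (Fin (m + 1) ⊕ Fin (m + 1)) F) *ᵥ v =
            v + (c * (v ⬝ᵥ (Matrix.J (Fin (m + 1)) F *ᵥ p))) • p}} ∧
    Cfsg.IsConnectedFamily (Cfsg.FAdj {A : Subgroup ↥(Matrix.symplecticGroup (Fin (m + 1)) F) | ∃ p : Fin (m + 1) ⊕ Fin (m + 1) → F, p ≠ 0 ∧
        A = Subgroup.closure {g : ↥(Matrix.symplecticGroup (Fin (m + 1)) F) | ∃ c : F, ∀ v : Fin (m + 1) ⊕ Fin (m + 1) → F,
          (g : Matrix (Fin (m + 1) ⊕ Fin (m + 1)) (Fin (m + 1) ⊕ Fin (m + 1)) F) *ᵥ v =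
            v + (c * (v ⬝ᵥ (Matrix.J (Fin (m + 1)) F *ᵥ p))) • p}})
      {A : Subgroup ↥(Matrix.symplecticGroup (Fin (m + 1)) F) | ∃ p : Fin (m + 1) ⊕ Fin (m + 1) → F, p ≠ 0 ∧
        A = Subgroup.closure {g : ↥(Matrix.symplecticGroup (Fin (m + 1)) F) | ∃ c : F, ∀ v : Fin (m + 1) ⊕ Fin (m + 1) → F,
          (g : Matrix (Fin (m + 1) ⊕ Fin (m + 1)) (Fin (m + 1) ⊕ Fin (m + 1)) F) *ᵥ v =
            v + (c * (v ⬝ᵥ (Matrix.J (Fin (m + 1)) F *ᵥ p))) • p}} := by
  rw [fam_eq]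
  exact ⟨⟨isRootSet, conjClass m⟩, degenerate, ⟨isRootSet, kroot⟩, connected⟩

end Cfsg.Agent.S5070
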