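import Cfsg.Statements.S5071
import Mathlib
import Cfsg.Agent.S0751
import Cfsg.Agent.S0754
import Cfsg.Agent.S0755
import Cfsg.Agent.S0781
import Cfsg.Agent.S0837
import Cfsg.Agent.S5016
import Cfsg.Agent.S5070
import Cfsg.Agent.Lib.Helper45.GUCard
import Cfsg.Agent.Lib.Helper45.SUCard
import Cfsg.Agent.Lib.Helper83.RankOne
import Cfsg.Agent.Lib.Helper83.RootSub

set_option autoImplicit false
open Cfsg

namespace Cfsg.Agent.S5071

open Matrix Cfsg.Agent.S0837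

section basics

variable {F : Type*} [Field F] {n q : ℕ}

/-- the action of `SU` on column vectors -/
def act (g : ↥(Cfsg.SU n F q)) (v : Fin n → F) : Fin n → F :=
  ((g : Matrix.SpecialLinearGroup (Fin n) F) : Matrix (Fin n) (Fin n) F) *ᵥ v

theorem act_mul (g h : ↥(Cfsg.SU n F q)) (v : Fin n → F) : act (g * h) v = act g (act h v) := by
  unfold act
  rw [Subgroup.coe_mul, Matrix.SpecialLinearGroup.coe_mul, Matrix.mulVec_mulVec]

theorem act_one (v : Fin n → F) : act (1 : ↥(Cfsg.SU n F q)) v = v := by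
  unfold act
  rw [Subgroup.coe_one, Matrix.SpecialLinearGroup.coe_one, Matrix.one_mulVec]

theorem act_inv_act (g : ↥(Cfsg.SU n F q)) (v : Fin n → F) : act g⁻¹ (act g v) = v := by
  rw [← act_mul, inv_mul_cancel, act_one]

theorem act_act_inv (g : ↥(Cfsg.SU n F q)) (v : Fin n → F) : act g (act g⁻¹ v) = v := by
  rw [← act_mul, mul_inv_cancel, act_one]

theorem act_add (g : ↥(Cfsg.SU n F q)) (u v : Fin n → F) :
    act g (u + v) = act g u + act g v := Matrix.mulVec_add _ _ _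

theorem act_smul (g : ↥(Cfsg.SU n F q)) (a : F) (v : Fin n → F) :
    act g (a • v) = a • act g v := Matrix.mulVec_smul _ _ _

theorem act_zero (g : ↥(Cfsg.SU n F q)) : act g 0 = 0 := Matrix.mulVec_zero _

theorem act_form (σ : F →+* F) (hσ : ∀ x, σ x = x ^ q) (g : ↥(Cfsg.SU n F q))
    (u v : Fin n → F) : Bh σ n (act g u) (act g v) = Bh σ n u v := by
  have h : ∀ u v : Fin n → F, Cfsg.hermForm n F q
      (((g : Matrix.SpecialLinearGroup (Fin n) F) : Matrix (Fin n) (Fin n) F) *ᵥ u)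
      (((g : Matrix.SpecialLinearGroup (Fin n) F) : Matrix (Fin n) (Fin n) F) *ᵥ v) =
      Cfsg.hermForm n F q u v := g.2
  rw [Bh_herm σ hσ, Bh_herm σ hσ]
  exact h v u

theorem ext_act {g h : ↥(Cfsg.SU n F q)} (hgh : ∀ v, act g v = act h v) : g = h := by
  apply Subtype.ext
  apply Subtype.ext
  rw [Matrix.ext_iff_mulVec]
  exact hgh

theorem act_ne_zero (g : ↥(Cfsg.SU n F q)) (p : Fin n → F) (hp : p ≠ 0) : act g p ≠ 0 := by
  intro h
  apply hp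
  have h1 := act_inv_act g p
  rw [h, act_zero] at h1
  exact h1.symm

/-- `g` is the unitary transvection `x ↦ x + l (p, x) p` -/
def IsTau (σ : F →+* F) (p : Fin n → F) (l : F) (g : ↥(Cfsg.SU n F q)) : Prop :=
  ∀ x, act g x = x + (l * Bh σ n p x) • p

theorem IsTau_one (σ : F →+* F) (p : Fin n → F) : IsTau σ p 0 (1 : ↥(Cfsg.SU n F q)) := by
  intro x
  rw [act_one, zero_mul, zero_smul, add_zero]

theorem IsTau_mul (σ : F →+* F) (p : Fin n → F) (hp : Bh σ n p p = 0) (l l' : F)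
    (g g' : ↥(Cfsg.SU n F q)) (hg : IsTau σ p l g) (hg' : IsTau σ p l' g') :
    IsTau σ p (l + l') (g * g') := by
  intro x
  rw [act_mul, hg' x, hg]
  simp only [map_add, map_smul, smul_eq_mul, hp, mul_zero, add_zero]
  module

theorem IsTau_inv (σ : F →+* F) (p : Fin n → F) (hp : Bh σ n p p = 0) (l : F)
    (g : ↥(Cfsg.SU n F q)) (hg : IsTau σ p l g) : IsTau σ p (-l) g⁻¹ := by
  intro x
  have h1 := hg (x + (-l * Bh σ n p x) • p)
  simp only [map_add, map_smul, smul_eq_mul, hp, mul_zero, add_zero] at h1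
  have h2 : act g (x + (-l * Bh σ n p x) • p) = x := by
    rw [h1]
    module
  rw [← h2, act_inv_act, h2]

theorem IsTau_conj (σ : F →+* F) (hσ : ∀ x, σ x = x ^ q) (p : Fin n → F) (l : F)
    (g h : ↥(Cfsg.SU n F q)) (hg : IsTau σ p l g) : IsTau σ (act h p) l (h * g * h⁻¹) := by
  intro x
  rw [act_mul, act_mul, hg, act_add, act_act_inv, act_smul]
  have h1 := act_form σ hσ h p (act h⁻¹ x)
  rw [act_act_inv] at h1
  rw [h1]

theorem IsTau_smul (σ : F →+* F) (p : Fin n → F) (a l : F) (g : ↥(Cfsg.SU n F q)) :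
    IsTau σ (a • p) l g ↔ IsTau σ p (l * (a * σ a)) g := by
  unfold IsTau
  apply forall_congr'
  intro x
  rw [map_smulₛₗ, LinearMap.smul_apply, smul_smul, smul_eq_mul]
  have h1 : l * (σ a * Bh σ n p x) * a = l * (a * σ a) * Bh σ n p x := by ring
  rw [h1]

theorem IsTau_unique (σ : F →+* F) (p : Fin n → F) (l : F) (g g' : ↥(Cfsg.SU n F q))
    (hg : IsTau σ p l g) (hg' : IsTau σ p l g') : g = g' :=
  ext_act (fun x => by rw [hg x, hg' x])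

theorem IsTau_comm (σ : F →+* F) (hσ2 : ∀ a, σ (σ a) = a) (p p' : Fin n → F)
    (h : Bh σ n p p' = 0) (l l' : F) (g g' : ↥(Cfsg.SU n F q)) (hg : IsTau σ p l g)
    (hg' : IsTau σ p' l' g') : g * g' = g' * g := by
  have h' : Bh σ n p' p = 0 := by
    rw [← (Bh_symm σ hσ2 n).eq, h, map_zero]
  apply ext_act
  intro x
  rw [act_mul, act_mul, hg' x, hg x, hg, hg']
  simp only [map_add, map_smul, smul_eq_mul, h, h', mul_zero, add_zero]
  abel

theorem IsTau_comm_imp (σ : F →+* F) (u p : Fin n → F) (hu : Bh σ n u u = 0) (c d : F)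
    (g g' : ↥(Cfsg.SU n F q)) (hg : IsTau σ u c g) (hg' : IsTau σ p d g')
    (h : g * g' = g' * g) : c * d * (Bh σ n p u * Bh σ n u p) = 0 := by
  have h1 := congrArg (fun k => act k u) h
  simp only [act_mul] at h1
  rw [hg u, hu, mul_zero, zero_smul, add_zero, hg' u, hg] at h1
  simp only [map_add, map_smul, smul_eq_mul, hu, zero_add] at h1
  have h3 : (c * (d * Bh σ n p u * Bh σ n u p)) • u = 0 := by
    have h4 := h1
    rw [add_eq_left] at h4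
    exact h4
  rcases smul_eq_zero.1 h3 with h5 | h5
  · linear_combination h5
  · simp [h5]

/-- the group of unitary transvections with centre `p` -/
def Tu (σ : F →+* F) (p : Fin n → F) : Subgroup ↥(Cfsg.SU n F q) :=
  Subgroup.closure {g | ∃ l, l + σ l = 0 ∧ IsTau σ p l g}

theorem mem_Tu (σ : F →+* F) (p : Fin n → F) (hp : Bh σ n p p = 0) (g : ↥(Cfsg.SU n F q)) :
    g ∈ Tu σ p ↔ ∃ l, l + σ l = 0 ∧ IsTau σ p l g := by
  constructor
  · intro hg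
    unfold Tu at hg
    induction hg using Subgroup.closure_induction with
    | mem x hx => exact hx
    | one => exact ⟨0, by rw [map_zero, add_zero], IsTau_one σ p⟩
    | mul x y _ _ hx hy =>
      obtain ⟨l, hl, hx⟩ := hx
      obtain ⟨l', hl', hy⟩ := hy
      refine ⟨l + l', ?_, IsTau_mul σ p hp l l' x y hx hy⟩
      rw [map_add]
      linear_combination hl + hl'
    | inv x _ hx =>
      obtain ⟨l, hl, hx⟩ := hx
      refine ⟨-l, ?_, IsTau_inv σ p hp l x hx⟩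
      rw [map_neg]
      linear_combination -hl
  · intro hg
    exact Subgroup.subset_closure hg

theorem exists_tau (σ : F →+* F) (hσ : ∀ x, σ x = x ^ q) (hσ2 : ∀ a, σ (σ a) = a)
    (p : Fin n → F) (hp : Bh σ n p p = 0) (l : F) (hl : l + σ l = 0) :
    ∃ g : ↥(Cfsg.SU n F q), IsTau σ p l g := by
  have hS := Bh_symm σ hσ2 n
  obtain ⟨M, hM⟩ : ∃ M : Matrix (Fin n) (Fin n) F,
    M = 1 + Matrix.vecMulVec (l • p) (fun j => σ (p j)) := ⟨_, rfl⟩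
  have hMx : ∀ x, M *ᵥ x = x + (l * Bh σ n p x) • p := by
    intro x
    rw [hM, Cfsg.Agent.S0781.rank_one_mulVec, Cfsg.Agent.S0781.dot_sigma, smul_smul, mul_comm]
  have hdet : M.det = 1 := by
    rw [hM, Cfsg.Agent.S0781.det_rank_one, Cfsg.Agent.S0781.dot_sigma, LinearMap.map_smul, hp,
      smul_zero, add_zero]
  have hpres : ∀ x y, Cfsg.hermForm n F q (M *ᵥ x) (M *ᵥ y) = Cfsg.hermForm n F q x y := by
    intro x y
    rw [← Bh_herm σ hσ, ← Bh_herm σ hσ, hMx, hMx]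
    simp only [map_add, map_smulₛₗ, LinearMap.add_apply,
      LinearMap.smul_apply, smul_eq_mul, map_mul, hp, hS.eq, RingHom.id_apply]
    linear_combination (Bh σ n y p * Bh σ n p x) * hl
  exact ⟨⟨⟨M, hdet⟩, fun x y => hpres x y⟩, hMx⟩

theorem Tu_smul (σ : F →+* F) (hσ2 : ∀ a, σ (σ a) = a) (p : Fin n → F)
    (hp : Bh σ n p p = 0) (a : F) (ha : a ≠ 0) : (Tu σ (a • p) : Subgroup ↥(Cfsg.SU n F q)) = Tu σ p := by
  have hp' : Bh σ n (a • p) (a • p) = 0 := by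
    simp only [map_smulₛₗ, LinearMap.smul_apply, smul_eq_mul, hp, mul_zero, RingHom.id_apply]
  have hσa : σ a ≠ 0 := (map_ne_zero σ).2 ha
  have hfix : σ (a * σ a) = a * σ a := by rw [map_mul, hσ2, mul_comm]
  ext g
  rw [mem_Tu σ _ hp', mem_Tu σ p hp]
  constructor
  · rintro ⟨l, hl, hg⟩
    refine ⟨l * (a * σ a), ?_, (IsTau_smul σ p a l g).1 hg⟩
    rw [map_mul, hfix]
    linear_combination (a * σ a) * hl
  · rintro ⟨l, hl, hg⟩
    refine ⟨l * (a * σ a)⁻¹, ?_, (IsTau_smul σ p a _ g).2 ?_⟩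
    · rw [map_mul, map_inv₀, hfix]
      linear_combination (a * σ a)⁻¹ * hl
    · have h1 : l * (a * σ a)⁻¹ * (a * σ a) = l := by
        field_simp
      rw [h1]
      exact hg

theorem conjBy_Tu (σ : F →+* F) (hσ : ∀ x, σ x = x ^ q) (p : Fin n → F)
    (hp : Bh σ n p p = 0) (h : ↥(Cfsg.SU n F q)) :
    conjBy (Tu σ p) h = Tu σ (act h p) := by
  have hp' : Bh σ n (act h p) (act h p) = 0 := by rw [act_form σ hσ, hp]
  ext x
  rw [Cfsg.Agent.Lib.Helper83.RankOne.mem_conjBy, mem_Tu σ p hp, mem_Tu σ _ hp']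
  constructor
  · rintro ⟨l, hl, hg⟩
    refine ⟨l, hl, ?_⟩
    have h1 := IsTau_conj σ hσ p l _ h hg
    have h2 : h * (h⁻¹ * x * h) * h⁻¹ = x := by group
    rw [h2] at h1
    exact h1
  · rintro ⟨l, hl, hg⟩
    refine ⟨l, hl, ?_⟩
    have h1 := IsTau_conj σ hσ (act h p) l _ h⁻¹ hg
    rw [act_inv_act, inv_inv] at h1
    exact h1

end basics

section geometry

variable {F : Type*} [Field F] {n q : ℕ}

theorem exists_pairing (σ : F →+* F) (p : Fin n → F) (hp0 : p ≠ 0) :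
    ∃ x₀, Bh σ n p x₀ = 1 := by
  obtain ⟨y, hy⟩ : ∃ y, Bh σ n p y ≠ 0 := by
    by_contra hno
    push Not at hno
    exact hp0 ((Bh_nondeg σ n).1 p hno)
  exact ⟨(Bh σ n p y)⁻¹ • y, by rw [LinearMap.map_smul, smul_eq_mul, inv_mul_cancel₀ hy]⟩

theorem set_eq (σ : F →+* F) (hσ : ∀ x, σ x = x ^ q) (hσ2 : ∀ a, σ (σ a) = a)
    (p : Fin n → F) (hp0 : p ≠ 0) (hp : Bh σ n p p = 0) :
    {g : ↥(Cfsg.SU n F q) |
      (∀ v : Fin n → F, ∃ c : F, ((g : Matrix.SpecialLinearGroup (Fin n) F) :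
        Matrix (Fin n) (Fin n) F) *ᵥ v = v + c • p) ∧
      ∀ v : Fin n → F, Cfsg.hermForm n F q v p = 0 →
        ((g : Matrix.SpecialLinearGroup (Fin n) F) : Matrix (Fin n) (Fin n) F) *ᵥ v = v} =
    {g | ∃ l, l + σ l = 0 ∧ IsTau σ p l g} := by
  have hS := Bh_symm σ hσ2 n
  ext g
  constructor
  · rintro ⟨h1, h2⟩
    obtain ⟨x₀, hx₀⟩ := exists_pairing σ p hp0
    obtain ⟨l, hl⟩ := h1 x₀
    have hl' : act g x₀ = x₀ + l • p := hl
    have hx₀' : Bh σ n x₀ p = 1 := by rw [← hS.eq, hx₀, map_one]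
    have htau : IsTau σ p l g := by
      intro x
      have h3 : act g (x - Bh σ n p x • x₀) = x - Bh σ n p x • x₀ := by
        apply h2
        rw [← Bh_herm σ hσ, map_sub, LinearMap.map_smul, hx₀, smul_eq_mul, mul_one, sub_self]
      have h4 : act g x = act g (x - Bh σ n p x • x₀) + Bh σ n p x • act g x₀ := by
        rw [← act_smul, ← act_add, sub_add_cancel]
      rw [h4, h3, hl']
      module
    refine ⟨l, ?_, htau⟩
    have h5 := act_form σ hσ g x₀ x₀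
    rw [hl'] at h5
    simp only [map_add, map_smulₛₗ, LinearMap.add_apply, LinearMap.smul_apply,
      smul_eq_mul, hp, hx₀, hx₀', RingHom.id_apply, mul_zero, mul_one, add_zero] at h5
    linear_combination h5
  · rintro ⟨l, hl, hg⟩
    refine ⟨fun v => ⟨l * Bh σ n p v, hg v⟩, fun v hv => ?_⟩
    have h1 := hg v
    rw [Bh_herm σ hσ, hv, mul_zero, zero_smul, add_zero] at h1
    exact h1

variable [Fintype F]

theorem exists_lam (hF : Fintype.card F = q ^ 2) (σ : F →+* F) (hσ : ∀ x, σ x = x ^ q)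
    (hσ2 : ∀ a, σ (σ a) = a) : ∃ l : F, l ≠ 0 ∧ l + σ l = 0 := by
  have hσne := sigma_ne hF σ hσ
  have h1 : ∃ z : F, σ z ≠ z := by
    by_contra hno
    push Not at hno
    exact hσne (RingHom.ext hno)
  obtain ⟨z, hz⟩ := h1
  refine ⟨z - σ z, sub_ne_zero.2 (Ne.symm hz), ?_⟩
  rw [map_sub, hσ2]
  ring

theorem exists_iso (hF : Fintype.card F = q ^ 2) (σ : F →+* F) (hσ : ∀ x, σ x = x ^ q)
    (hσ2 : ∀ a, σ (σ a) = a) (n : ℕ) :
    ∃ p : Fin (n + 2) → F, p ≠ 0 ∧ Bh σ (n + 2) p p = 0 := by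
  have hσne := sigma_ne hF σ hσ
  obtain ⟨l, hl⟩ := Cfsg.Agent.S0755.norm_surj σ hσne hσ2 (-1) (neg_ne_zero.2 one_ne_zero)
    (by rw [map_neg, map_one])
  refine ⟨fun i => if i = 0 then 1 else if i = 1 then l else 0, ?_, ?_⟩
  · intro h
    have h1 := congrFun h 0
    simp at h1
  · have h2 : ∀ x : Fin n, x.succ.succ ≠ (1 : Fin (n + 2)) := by
      intro x h
      have h' := congrArg Fin.val h
      rw [Fin.val_succ, Fin.val_succ, Fin.val_one] at h'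
      omega
    rw [Bh_apply, Fin.sum_univ_succ, Fin.sum_univ_succ]
    simp [Fin.succ_ne_zero, h2]
    linear_combination hl

theorem exists_third (hF : Fintype.card F = q ^ 2) (σ : F →+* F) (hσ : ∀ x, σ x = x ^ q)
    (hσ2 : ∀ a, σ (σ a) = a) (p p' : Fin n → F) (hp0 : p ≠ 0) (hp'0 : p' ≠ 0)
    (hpp' : Bh σ n p p' = 0) (hp : Bh σ n p p = 0) :
    ∃ r, Bh σ n r r = 0 ∧ Bh σ n p r ≠ 0 ∧ Bh σ n p' r ≠ 0 := by
  have hσne := sigma_ne hF σ hσ
  have hS := Bh_symm σ hσ2 n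
  have key : ∀ x : Fin n → F, x ≠ 0 → ∃ y, Bh σ n x y ≠ 0 := by
    intro x hx
    by_contra hno
    push Not at hno
    exact hx ((Bh_nondeg σ n).1 x hno)
  obtain ⟨r₁, h1⟩ := key p hp0
  obtain ⟨r₂, h2⟩ := key p' hp'0
  obtain ⟨r₀, h3, h4⟩ : ∃ r₀, Bh σ n p r₀ ≠ 0 ∧ Bh σ n p' r₀ ≠ 0 := by
    by_cases h5 : Bh σ n p' r₁ = 0
    · by_cases h6 : Bh σ n p r₂ = 0
      · refine ⟨r₁ + r₂, ?_, ?_⟩
        · rw [map_add, h6, add_zero]
          exact h1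
        · rw [map_add, h5, zero_add]
          exact h2
      · exact ⟨r₂, h6, h2⟩
    · exact ⟨r₁, h1, h5⟩
  obtain ⟨θ, hθ⟩ := Cfsg.Agent.S0751.exists_theta σ hσne hσ2
  obtain ⟨ν, hν⟩ : ∃ ν, ν = Bh σ n r₀ r₀ := ⟨_, rfl⟩
  have hσν : σ ν = ν := by rw [hν, hS.eq]
  obtain ⟨β, hβ⟩ : ∃ β, β = Bh σ n r₀ p := ⟨_, rfl⟩
  have hβ' : Bh σ n p r₀ = σ β := by rw [hβ, hS.eq]
  have hβ0 : β ≠ 0 := by
    intro h0
    rw [h0, map_zero] at hβ'
    exact h3 hβ'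
  have hσβ0 : σ β ≠ 0 := (map_ne_zero σ).2 hβ0
  have hp'p : Bh σ n p' p = 0 := by rw [← hS.eq, hpp', map_zero]
  refine ⟨r₀ + (-(θ * ν) / β) • p, ?_, ?_, ?_⟩
  · simp only [map_add, map_smulₛₗ, LinearMap.add_apply,
      LinearMap.smul_apply, smul_eq_mul, hp, ← hν, ← hβ, hβ', map_div₀, map_neg, map_mul, hσν,
      RingHom.id_apply, mul_zero, add_zero]
    field_simp
    linear_combination (-ν) * hθ
  · rw [map_add, LinearMap.map_smul, hp, smul_zero, add_zero]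
    exact h3
  · rw [map_add, LinearMap.map_smul, hp'p, smul_zero, add_zero]
    exact h4

theorem exists_move (hF : Fintype.card F = q ^ 2) (σ : F →+* F) (hσ : ∀ x, σ x = x ^ q)
    (hσ2 : ∀ a, σ (σ a) = a) (H : Subgroup ↥(Cfsg.SU n F q))
    (hH : ∀ x : Fin n → F, x ≠ 0 → Bh σ n x x = 0 → Tu σ x ≤ H)
    (p p' : Fin n → F) (hp0 : p ≠ 0) (hp : Bh σ n p p = 0) (hp'0 : p' ≠ 0)
    (hp' : Bh σ n p' p' = 0) :
    ∃ g ∈ H, ∃ a : F, a ≠ 0 ∧ act g p = a • p' := by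
  have hS := Bh_symm σ hσ2 n
  have key : ∀ x y : Fin n → F, x ≠ 0 → Bh σ n x x = 0 → y ≠ 0 → Bh σ n y y = 0 →
      Bh σ n x y ≠ 0 → ∃ g ∈ H, ∃ a : F, a ≠ 0 ∧ act g x = a • y := by
    intro x y hx0 hx hy0 hy hxy
    obtain ⟨l, hl0, hl⟩ := exists_lam hF σ hσ hσ2
    have hyx : Bh σ n y x ≠ 0 := by
      rw [← hS.eq x y]
      exact (map_ne_zero σ).2 hxy
    obtain ⟨μ, hμ⟩ : ∃ μ, μ = -(l * (Bh σ n y x * Bh σ n x y))⁻¹ := ⟨_, rfl⟩
    have hfix : σ (Bh σ n y x * Bh σ n x y) = Bh σ n y x * Bh σ n x y := by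
      rw [map_mul, hS.eq, hS.eq, mul_comm]
    have hσl : σ l = -l := by linear_combination hl
    have hμ' : μ + σ μ = 0 := by
      rw [hμ, map_neg, map_inv₀, map_mul, hfix, hσl]
      field_simp
      ring
    obtain ⟨g₁, hg₁⟩ := exists_tau σ hσ hσ2 y hy l hl
    obtain ⟨g₂, hg₂⟩ := exists_tau σ hσ hσ2 x hx μ hμ'
    refine ⟨g₂ * g₁, H.mul_mem (hH x hx0 hx ((mem_Tu σ x hx g₂).2 ⟨μ, hμ', hg₂⟩))
      (hH y hy0 hy ((mem_Tu σ y hy g₁).2 ⟨l, hl, hg₁⟩)), l * Bh σ n y x,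
      mul_ne_zero hl0 hyx, ?_⟩
    rw [act_mul, hg₁ x, hg₂]
    simp only [map_add, map_smul, smul_eq_mul, hx, zero_add]
    have h1 : μ * (l * Bh σ n y x * Bh σ n x y) = -1 := by
      rw [hμ]
      field_simp
    rw [h1]
    module
  by_cases h : Bh σ n p p' = 0
  · obtain ⟨r, hr, h1, h2⟩ := exists_third hF σ hσ hσ2 p p' hp0 hp'0 h hp
    have hr0 : r ≠ 0 := by
      rintro rfl
      exact h1 (map_zero _)
    have h2' : Bh σ n r p' ≠ 0 := by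
      rw [← hS.eq p' r]
      exact (map_ne_zero σ).2 h2
    obtain ⟨g₁, hg₁, a, ha, hga⟩ := key p r hp0 hp hr0 hr h1
    obtain ⟨g₂, hg₂, b, hb, hgb⟩ := key r p' hr0 hr hp'0 hp' h2'
    exact ⟨g₂ * g₁, H.mul_mem hg₂ hg₁, a * b, mul_ne_zero ha hb,
      by rw [act_mul, hga, act_smul, hgb, smul_smul]⟩
  · exact key p p' hp0 hp hp'0 hp' h

end geometry

section fixedfield

variable {F : Type*} [Field F] [Fintype F] {q : ℕ}

theorem card_fixed (hF : Fintype.card F = q ^ 2) (σ : F →+* F) (hσ : ∀ x, σ x = x ^ q) :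
    Nat.card {x : F // σ x = x} = q := by
  classical
  have hq := Cfsg.Agent.Lib.Helper5.HermCount.two_le hF
  have hpow : ∀ x : F, σ (x ^ (q + 1)) = x ^ (q + 1) := by
    intro x
    have h1 : x ^ (q ^ 2) = x := by
      rw [← hF]
      exact FiniteField.pow_card x
    rw [hσ, ← pow_mul]
    have h2 : (q + 1) * q = q ^ 2 + q := by ring
    rw [h2, pow_add, h1, pow_succ, mul_comm]
  let f : {x : F // x ≠ 0} → {μ : F // μ ≠ 0 ∧ σ μ = μ} := fun x =>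
    ⟨x.1 ^ (q + 1), pow_ne_zero _ x.2, hpow x.1⟩
  have h1 : Nat.card {x : F // x ≠ 0} = Nat.card {μ : F // μ ≠ 0 ∧ σ μ = μ} * (q + 1) := by
    rw [← Nat.card_congr (Equiv.sigmaFiberEquiv f), Nat.card_sigma]
    have hc : ∀ μ : {μ : F // μ ≠ 0 ∧ σ μ = μ},
        Nat.card {x : {x : F // x ≠ 0} // f x = μ} = q + 1 := by
      intro μ
      rw [← Cfsg.Agent.S0754.result hF μ.1 μ.2.1 (by rw [← hσ]; exact μ.2.2)]
      apply Nat.card_congr
      exact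
        { toFun := fun x => ⟨x.1.1, congrArg Subtype.val x.2⟩
          invFun := fun x => ⟨⟨x.1, by
            intro h0
            have h3 := x.2
            rw [h0, zero_pow (by omega)] at h3
            exact μ.2.1 h3.symm⟩, Subtype.ext x.2⟩
          left_inv := fun x => rfl
          right_inv := fun x => rfl }
    simp_rw [hc]
    rw [Finset.sum_const, Finset.card_univ, smul_eq_mul, ← Nat.card_eq_fintype_card]
  have h2 : Nat.card {x : F // x ≠ 0} = q ^ 2 - 1 := by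
    rw [Nat.card_eq_fintype_card, Fintype.card_subtype_compl, Fintype.card_subtype_eq, hF]
  have h3 : Nat.card {μ : F // μ ≠ 0 ∧ σ μ = μ} = Nat.card {x : F // σ x = x} - 1 := by
    have h4 : Nat.card {μ : F // μ ≠ 0 ∧ σ μ = μ} = ({x : F | σ x = x} \ {0}).ncard := by
      rw [← Nat.card_coe_set_eq]
      apply Nat.card_congr
      exact Equiv.subtypeEquivRight (fun u => by simp [and_comm])
    have h0 : (0 : F) ∈ {x : F | σ x = x} := map_zero σ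
    rw [h4, Set.ncard_sdiff_singleton_of_mem h0, ← Nat.card_coe_set_eq]
    rfl
  have h5 : 0 < Nat.card {x : F // σ x = x} := by
    have : Nonempty {x : F // σ x = x} := ⟨⟨0, map_zero σ⟩⟩
    exact Nat.card_pos
  rw [h2, h3] at h1
  have h6 : q ^ 2 - 1 = (q - 1) * (q + 1) := by
    obtain ⟨r, rfl⟩ : ∃ r, q = r + 1 := ⟨q - 1, by omega⟩
    have h7 : (r + 1) ^ 2 = r * (r + 1 + 1) + 1 := by ring
    rw [h7, Nat.add_sub_cancel, Nat.add_sub_cancel]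
  rw [h6] at h1
  have h7 := Nat.eq_of_mul_eq_mul_right (by omega : 0 < q + 1) h1
  omega

theorem exists_field (hF : Fintype.card F = q ^ 2) (σ : F →+* F) (hσ : ∀ x, σ x = x ^ q) :
    ∃ (L : Type) (_ : Field L) (_ : Fintype L) (ι : L →+* F), Fintype.card L = q ∧
      (∀ a, σ (ι a) = ι a) ∧ ∀ x : F, σ x = x → ∃ a, ι a = x := by
  classical
  obtain ⟨K₀, hK₀⟩ : ∃ K₀ : Subfield F, K₀ = σ.eqLocusField (RingHom.id F) := ⟨_, rfl⟩
  have hmem : ∀ x, x ∈ K₀ ↔ σ x = x := by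
    intro x
    rw [hK₀]
    exact Iff.rfl
  obtain ⟨e, -⟩ : ∃ e : Shrink.{0} ↥K₀ ≃+* ↥K₀, e = e := ⟨Shrink.ringEquiv.{0} ↥K₀, rfl⟩
  refine ⟨Shrink.{0} ↥K₀, inferInstance, inferInstance, K₀.subtype.comp e.toRingHom, ?_, ?_, ?_⟩
  · rw [← Nat.card_eq_fintype_card, Nat.card_congr e.toEquiv, ← card_fixed hF σ hσ]
    exact Nat.card_congr (Equiv.subtypeEquivRight hmem)
  · intro a
    exact (hmem _).1 (e a).2
  · intro x hx
    refine ⟨e.symm ⟨x, (hmem x).2 hx⟩, ?_⟩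
    simp

end fixedfield

section hom

variable {F : Type*} [Field F] {n q : ℕ}

/-- the matrix acting as `h` on the hyperbolic pair `e, f` and trivially on its complement -/
def Um (σ : F →+* F) (e f : Fin n → F) (h : Matrix (Fin 2) (Fin 2) F) :
    Matrix (Fin n) (Fin n) F :=
  1 + Matrix.vecMulVec ((h 0 0 - 1) • e + h 1 0 • f) (fun j => σ (f j)) +
    Matrix.vecMulVec (h 0 1 • e + (h 1 1 - 1) • f) (fun j => σ (e j))

theorem Um_mulVec (σ : F →+* F) (e f : Fin n → F) (h : Matrix (Fin 2) (Fin 2) F)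
    (x : Fin n → F) :
    Um σ e f h *ᵥ x = x + Bh σ n f x • ((h 0 0 - 1) • e + h 1 0 • f) +
      Bh σ n e x • (h 0 1 • e + (h 1 1 - 1) • f) := by
  rw [Um, Matrix.add_mulVec, Matrix.add_mulVec, Matrix.one_mulVec, Matrix.vecMulVec_mulVec,
    Matrix.vecMulVec_mulVec, op_smul_eq_smul, op_smul_eq_smul, Cfsg.Agent.S0781.dot_sigma,
    Cfsg.Agent.S0781.dot_sigma]

theorem Um_one (σ : F →+* F) (e f : Fin n → F) : Um σ e f 1 = 1 := by
  rw [Matrix.ext_iff_mulVec]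
  intro x
  rw [Um_mulVec, Matrix.one_mulVec]
  simp

theorem Um_mul (σ : F →+* F) (e f : Fin n → F) (he : Bh σ n e e = 0) (hf : Bh σ n f f = 0)
    (hef : Bh σ n e f = 1) (hfe : Bh σ n f e = 1) (h h' : Matrix (Fin 2) (Fin 2) F) :
    Um σ e f (h * h') = Um σ e f h * Um σ e f h' := by
  rw [Matrix.ext_iff_mulVec]
  intro x
  rw [← Matrix.mulVec_mulVec, Um_mulVec, Um_mulVec, Um_mulVec]
  simp only [Matrix.mul_apply, Fin.sum_univ_two, map_add, map_smul, smul_eq_mul, he, hf, hef,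
    hfe]
  module

theorem Um_iso (σ : F →+* F) (hσ2 : ∀ a, σ (σ a) = a) (e f : Fin n → F)
    (he : Bh σ n e e = 0) (hf : Bh σ n f f = 0) (hef : Bh σ n e f = 1)
    (h : Matrix (Fin 2) (Fin 2) F)
    (c1 : σ (h 0 0) * h 1 0 + σ (h 1 0) * h 0 0 = 0)
    (c2 : σ (h 0 1) * h 1 1 + σ (h 1 1) * h 0 1 = 0)
    (c3 : σ (h 0 0) * h 1 1 + σ (h 1 0) * h 0 1 = 1) (x y : Fin n → F) :
    Bh σ n (Um σ e f h *ᵥ x) (Um σ e f h *ᵥ y) = Bh σ n x y := by
  have hS := Bh_symm σ hσ2 n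
  have hfe : Bh σ n f e = 1 := by rw [← hS.eq, hef, map_one]
  have c3' : h 0 0 * σ (h 1 1) + h 1 0 * σ (h 0 1) = 1 := by
    have h1 := congrArg σ c3
    simp only [map_add, map_mul, hσ2, map_one] at h1
    linear_combination h1
  rw [Um_mulVec, Um_mulVec]
  simp only [map_add, map_sub, map_smul, map_smulₛₗ, LinearMap.add_apply,
    LinearMap.smul_apply, smul_eq_mul, map_one, he, hf, hef, hfe, hS.eq]
  linear_combination (Bh σ n x f * Bh σ n f y) * c1 + (Bh σ n x e * Bh σ n e y) * c2 +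
    (Bh σ n x f * Bh σ n e y) * c3 + (Bh σ n x e * Bh σ n f y) * c3'

theorem WU_apply (σ : F →+* F) (a b c d : Fin n → F) (j j' : Fin 2) :
    ((Matrix.of (fun j i => ![σ (a i), σ (b i)] j) : Matrix (Fin 2) (Fin n) F) *
      (Matrix.of (fun i j => ![c i, d i] j) : Matrix (Fin n) (Fin 2) F)) j j' =
      Bh σ n (![a, b] j) (![c, d] j') := by
  rw [Matrix.mul_apply, Bh_apply]
  apply Finset.sum_congr rfl
  intro i _
  fin_cases j <;> fin_cases j' <;> simp [mul_comm]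

theorem Um_det (σ : F →+* F) (e f : Fin n → F) (he : Bh σ n e e = 0) (hf : Bh σ n f f = 0)
    (hef : Bh σ n e f = 1) (hfe : Bh σ n f e = 1) (h : Matrix (Fin 2) (Fin 2) F) :
    (Um σ e f h).det = h.det := by
  have h1 : Um σ e f h = 1 +
      (Matrix.of (fun i j => ![((h 0 0 - 1) • e + h 1 0 • f) i,
        (h 0 1 • e + (h 1 1 - 1) • f) i] j) : Matrix (Fin n) (Fin 2) F) *
      (Matrix.of (fun j i => ![σ (f i), σ (e i)] j) : Matrix (Fin 2) (Fin n) F) := by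
    ext i k
    rw [Um]
    simp only [Matrix.add_apply, Matrix.mul_apply, Fin.sum_univ_two, Matrix.vecMulVec_apply,
      Matrix.of_apply, Matrix.cons_val_zero, Matrix.cons_val_one]
    ring
  have h2 : 1 + (Matrix.of (fun j i => ![σ (f i), σ (e i)] j) : Matrix (Fin 2) (Fin n) F) *
      (Matrix.of (fun i j => ![((h 0 0 - 1) • e + h 1 0 • f) i,
        (h 0 1 • e + (h 1 1 - 1) • f) i] j) : Matrix (Fin n) (Fin 2) F) = h := by
    ext j j'
    rw [Matrix.add_apply, WU_apply]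
    fin_cases j <;> fin_cases j' <;>
      simp [map_add, map_smul, he, hf, hef, hfe]
  rw [h1, Matrix.det_one_add_mul_comm, h2]

variable {L : Type*} [Field L]

/-- the twisted matrix of an element of `SL₂(L)` -/
def tw (ι : L →+* F) (l₀ : F) (g : Matrix.SpecialLinearGroup (Fin 2) L) :
    Matrix (Fin 2) (Fin 2) F :=
  !![ι (g 0 0), l₀ * ι (g 0 1); l₀⁻¹ * ι (g 1 0), ι (g 1 1)]

theorem tw00 (ι : L →+* F) (l₀ : F) (g : Matrix.SpecialLinearGroup (Fin 2) L) :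
    tw ι l₀ g 0 0 = ι (g 0 0) := rfl

theorem tw01 (ι : L →+* F) (l₀ : F) (g : Matrix.SpecialLinearGroup (Fin 2) L) :
    tw ι l₀ g 0 1 = l₀ * ι (g 0 1) := rfl

theorem tw10 (ι : L →+* F) (l₀ : F) (g : Matrix.SpecialLinearGroup (Fin 2) L) :
    tw ι l₀ g 1 0 = l₀⁻¹ * ι (g 1 0) := rfl

theorem tw11 (ι : L →+* F) (l₀ : F) (g : Matrix.SpecialLinearGroup (Fin 2) L) :
    tw ι l₀ g 1 1 = ι (g 1 1) := rfl

theorem tw_one (ι : L →+* F) (l₀ : F) : tw ι l₀ 1 = 1 := by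
  ext i j
  fin_cases i <;> fin_cases j
  · show tw ι l₀ 1 0 0 = 1
    rw [tw00, Cfsg.Agent.S5016.one00, map_one]
  · show tw ι l₀ 1 0 1 = 0
    rw [tw01, Cfsg.Agent.S5016.one01, map_zero, mul_zero]
  · show tw ι l₀ 1 1 0 = 0
    rw [tw10, Cfsg.Agent.S5016.one10, map_zero, mul_zero]
  · show tw ι l₀ 1 1 1 = 1
    rw [tw11, Cfsg.Agent.S5016.one11, map_one]

theorem tw_mul (ι : L →+* F) (l₀ : F) (hl₀ : l₀ ≠ 0) (g h : Matrix.SpecialLinearGroup (Fin 2) L) :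
    tw ι l₀ (g * h) = tw ι l₀ g * tw ι l₀ h := by
  ext i j
  fin_cases i <;> fin_cases j
  · show tw ι l₀ (g * h) 0 0 = (tw ι l₀ g * tw ι l₀ h) 0 0
    rw [Matrix.mul_apply, Fin.sum_univ_two, tw00, tw00, tw00, tw01, tw10,
      Cfsg.Agent.S5016.mul00, map_add, map_mul, map_mul]
    field_simp
  · show tw ι l₀ (g * h) 0 1 = (tw ι l₀ g * tw ι l₀ h) 0 1
    rw [Matrix.mul_apply, Fin.sum_univ_two, tw00, tw01, tw01, tw01, tw11,
      Cfsg.Agent.S5016.mul01, map_add, map_mul, map_mul]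
    ring
  · show tw ι l₀ (g * h) 1 0 = (tw ι l₀ g * tw ι l₀ h) 1 0
    rw [Matrix.mul_apply, Fin.sum_univ_two, tw00, tw10, tw10, tw10, tw11,
      Cfsg.Agent.S5016.mul10, map_add, map_mul, map_mul]
    ring
  · show tw ι l₀ (g * h) 1 1 = (tw ι l₀ g * tw ι l₀ h) 1 1
    rw [Matrix.mul_apply, Fin.sum_univ_two, tw11, tw11, tw11, tw01, tw10,
      Cfsg.Agent.S5016.mul11, map_add, map_mul, map_mul]
    field_simp

theorem tw_det (ι : L →+* F) (l₀ : F) (hl₀ : l₀ ≠ 0) (g : Matrix.SpecialLinearGroup (Fin 2) L) :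
    (tw ι l₀ g).det = 1 := by
  have h1 := congrArg ι (Cfsg.Agent.S5016.det_eq g)
  rw [map_sub, map_mul, map_mul, map_one] at h1
  rw [Matrix.det_fin_two, tw00, tw01, tw10, tw11]
  field_simp
  linear_combination h1

/-- the homomorphism from `SL₂(L)` attached to a hyperbolic pair -/
noncomputable def Phi0 (σ : F →+* F) (hσ : ∀ x, σ x = x ^ q) (hσ2 : ∀ a, σ (σ a) = a)
    (ι : L →+* F) (hι : ∀ a, σ (ι a) = ι a) (l₀ : F) (hl₀ : l₀ ≠ 0) (hl₀' : l₀ + σ l₀ = 0)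
    (e f : Fin n → F) (he : Bh σ n e e = 0) (hf : Bh σ n f f = 0) (hef : Bh σ n e f = 1) :
    Matrix.SpecialLinearGroup (Fin 2) L →* ↥(Cfsg.SU n F q) where
  toFun g := ⟨⟨Um σ e f (tw ι l₀ g), by
      rw [Um_det σ e f he hf hef (by rw [← (Bh_symm σ hσ2 n).eq, hef, map_one]), tw_det ι l₀ hl₀]⟩,
    fun x y => by
      show Cfsg.hermForm n F q (Um σ e f (tw ι l₀ g) *ᵥ x) (Um σ e f (tw ι l₀ g) *ᵥ y) =
        Cfsg.hermForm n F q x y
      have hσl : σ l₀ = -l₀ := by linear_combination hl₀'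
      have h1 := congrArg ι (Cfsg.Agent.S5016.det_eq g)
      rw [map_sub, map_mul, map_mul, map_one] at h1
      rw [← Bh_herm σ hσ, ← Bh_herm σ hσ]
      apply Um_iso σ hσ2 e f he hf hef
      · rw [tw00, tw10, map_mul, map_inv₀, hι, hι, hσl]
        field_simp
        ring
      · rw [tw01, tw11, map_mul, hι, hι, hσl]
        ring
      · rw [tw00, tw01, tw10, tw11, map_mul, map_inv₀, hι, hι, hσl]
        field_simp
        linear_combination h1⟩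
  map_one' := by
    apply Subtype.ext
    apply Subtype.ext
    show Um σ e f (tw ι l₀ 1) = 1
    rw [tw_one, Um_one]
  map_mul' g h := by
    apply Subtype.ext
    apply Subtype.ext
    show Um σ e f (tw ι l₀ (g * h)) = Um σ e f (tw ι l₀ g) * Um σ e f (tw ι l₀ h)
    rw [tw_mul ι l₀ hl₀, Um_mul σ e f he hf hef (by rw [← (Bh_symm σ hσ2 n).eq, hef, map_one])]

theorem act_Phi0 (σ : F →+* F) (hσ : ∀ x, σ x = x ^ q) (hσ2 : ∀ a, σ (σ a) = a)
    (ι : L →+* F) (hι : ∀ a, σ (ι a) = ι a) (l₀ : F) (hl₀ : l₀ ≠ 0) (hl₀' : l₀ + σ l₀ = 0)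
    (e f : Fin n → F) (he : Bh σ n e e = 0) (hf : Bh σ n f f = 0) (hef : Bh σ n e f = 1)
    (g : Matrix.SpecialLinearGroup (Fin 2) L) (x : Fin n → F) :
    act (Phi0 σ hσ hσ2 ι hι l₀ hl₀ hl₀' e f he hf hef g) x = Um σ e f (tw ι l₀ g) *ᵥ x := rfl

theorem Phi0_U (σ : F →+* F) (hσ : ∀ x, σ x = x ^ q) (hσ2 : ∀ a, σ (σ a) = a)
    (ι : L →+* F) (hι : ∀ a, σ (ι a) = ι a) (l₀ : F) (hl₀ : l₀ ≠ 0) (hl₀' : l₀ + σ l₀ = 0)
    (e f : Fin n → F) (he : Bh σ n e e = 0) (hf : Bh σ n f f = 0) (hef : Bh σ n e f = 1)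
    (s : L) : IsTau σ e (l₀ * ι s)
      (Phi0 σ hσ hσ2 ι hι l₀ hl₀ hl₀' e f he hf hef (Cfsg.Agent.S5016.U s)) := by
  intro x
  rw [act_Phi0, Um_mulVec, tw00, tw01, tw10, tw11, Cfsg.Agent.S5016.U00,
    Cfsg.Agent.S5016.U01, Cfsg.Agent.S5016.U10, Cfsg.Agent.S5016.U11, map_one, map_zero]
  module

theorem Phi0_L (σ : F →+* F) (hσ : ∀ x, σ x = x ^ q) (hσ2 : ∀ a, σ (σ a) = a)
    (ι : L →+* F) (hι : ∀ a, σ (ι a) = ι a) (l₀ : F) (hl₀ : l₀ ≠ 0) (hl₀' : l₀ + σ l₀ = 0)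
    (e f : Fin n → F) (he : Bh σ n e e = 0) (hf : Bh σ n f f = 0) (hef : Bh σ n e f = 1)
    (t : L) : IsTau σ f (l₀⁻¹ * ι t)
      (Phi0 σ hσ hσ2 ι hι l₀ hl₀ hl₀' e f he hf hef (Cfsg.Agent.S5016.L t)) := by
  intro x
  rw [act_Phi0, Um_mulVec, tw00, tw01, tw10, tw11, Cfsg.Agent.S5016.L00,
    Cfsg.Agent.S5016.L01, Cfsg.Agent.S5016.L10, Cfsg.Agent.S5016.L11, map_one, map_zero]
  module

theorem Phi0_inj (σ : F →+* F) (hσ : ∀ x, σ x = x ^ q) (hσ2 : ∀ a, σ (σ a) = a)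
    (ι : L →+* F) (hι : ∀ a, σ (ι a) = ι a) (l₀ : F) (hl₀ : l₀ ≠ 0) (hl₀' : l₀ + σ l₀ = 0)
    (e f : Fin n → F) (he : Bh σ n e e = 0) (hf : Bh σ n f f = 0) (hef : Bh σ n e f = 1)
    (g : Matrix.SpecialLinearGroup (Fin 2) L)
    (hg : Phi0 σ hσ hσ2 ι hι l₀ hl₀ hl₀' e f he hf hef g = 1) : g = 1 := by
  have hfe : Bh σ n f e = 1 := by rw [← (Bh_symm σ hσ2 n).eq, hef, map_one]
  have h1 := congrArg (fun k => act k e) hg
  have h2 := congrArg (fun k => act k f) hg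
  simp only [act_Phi0, act_one, Um_mulVec, he, hf, hef, hfe, zero_smul, one_smul, add_zero,
    tw00, tw01, tw10, tw11] at h1 h2
  have h3 : (ι (g 0 0) - 1) • e + (l₀⁻¹ * ι (g 1 0)) • f = 0 := by
    have h4 := h1
    rw [add_eq_left] at h4
    exact h4
  have h5 : (l₀ * ι (g 0 1)) • e + (ι (g 1 1) - 1) • f = 0 := by
    have h4 := h2
    rw [add_eq_left] at h4
    exact h4
  have ha : ι (g 0 0) = 1 := by
    have h6 := congrArg (fun v => Bh σ n f v) h3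
    simp only [map_add, map_smul, smul_eq_mul, hfe, hf, mul_one, mul_zero, add_zero,
      map_zero] at h6
    exact sub_eq_zero.1 h6
  have hc : ι (g 1 0) = 0 := by
    have h6 := congrArg (fun v => Bh σ n e v) h3
    simp only [map_add, map_smul, smul_eq_mul, hef, he, mul_one, mul_zero, zero_add,
      map_zero] at h6
    rcases mul_eq_zero.1 h6 with h7 | h7
    · exact absurd h7 (inv_ne_zero hl₀)
    · exact h7
  have hb : ι (g 0 1) = 0 := by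
    have h6 := congrArg (fun v => Bh σ n f v) h5
    simp only [map_add, map_smul, smul_eq_mul, hfe, hf, mul_one, mul_zero, add_zero,
      map_zero] at h6
    rcases mul_eq_zero.1 h6 with h7 | h7
    · exact absurd h7 hl₀
    · exact h7
  have hd : ι (g 1 1) = 1 := by
    have h6 := congrArg (fun v => Bh σ n e v) h5
    simp only [map_add, map_smul, smul_eq_mul, hef, he, mul_one, mul_zero, zero_add,
      map_zero] at h6
    exact sub_eq_zero.1 h6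
  have hinj := RingHom.injective ι
  apply Cfsg.Agent.S5016.ext2
  · rw [Cfsg.Agent.S5016.one00]
    exact hinj (by rw [ha, map_one])
  · rw [Cfsg.Agent.S5016.one01]
    exact hinj (by rw [hb, map_zero])
  · rw [Cfsg.Agent.S5016.one10]
    exact hinj (by rw [hc, map_zero])
  · rw [Cfsg.Agent.S5016.one11]
    exact hinj (by rw [hd, map_one])

end hom

section assembly

variable {F : Type*} [Field F] {n q : ℕ}

/-- the family of unitary transvection groups -/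
def Sig (σ : F →+* F) : Set (Subgroup ↥(Cfsg.SU n F q)) :=
  {A | ∃ p : Fin n → F, p ≠ 0 ∧ Bh σ n p p = 0 ∧ A = Tu σ p}

/-- the group generated by the unitary transvections -/
def G0 (σ : F →+* F) : Subgroup ↥(Cfsg.SU n F q) :=
  ⨆ B ∈ (Sig σ : Set (Subgroup ↥(Cfsg.SU n F q))), B

theorem Sig_eq (σ : F →+* F) (hσ : ∀ x, σ x = x ^ q) (hσ2 : ∀ a, σ (σ a) = a) :
    {A : Subgroup ↥(Cfsg.SU n F q) | ∃ p : Fin n → F, p ≠ 0 ∧ Cfsg.hermForm n F q p p = 0 ∧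
      A = Subgroup.closure {g : ↥(Cfsg.SU n F q) |
        (∀ v : Fin n → F, ∃ c : F, ((g : Matrix.SpecialLinearGroup (Fin n) F) :
          Matrix (Fin n) (Fin n) F) *ᵥ v = v + c • p) ∧
        ∀ v : Fin n → F, Cfsg.hermForm n F q v p = 0 →
          ((g : Matrix.SpecialLinearGroup (Fin n) F) : Matrix (Fin n) (Fin n) F) *ᵥ v = v}} =
    Sig σ := by
  ext A
  constructor
  · rintro ⟨p, hp0, hp, rfl⟩
    have hp' : Bh σ n p p = 0 := by
      rw [Bh_herm σ hσ]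
      exact hp
    refine ⟨p, hp0, hp', ?_⟩
    rw [set_eq σ hσ hσ2 p hp0 hp']
    rfl
  · rintro ⟨p, hp0, hp, rfl⟩
    have hp' : Cfsg.hermForm n F q p p = 0 := by
      rw [← Bh_herm σ hσ]
      exact hp
    refine ⟨p, hp0, hp', ?_⟩
    rw [set_eq σ hσ hσ2 p hp0 hp]
    rfl

theorem Tu_le_G0 (σ : F →+* F) (p : Fin n → F) (hp0 : p ≠ 0) (hp : Bh σ n p p = 0) :
    (Tu σ p : Subgroup ↥(Cfsg.SU n F q)) ≤ G0 σ := by
  intro g hg
  unfold G0
  apply Subgroup.mem_iSup_of_mem (Tu σ p)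
  apply Subgroup.mem_iSup_of_mem ⟨p, hp0, hp, rfl⟩
  exact hg

/-- the transvection groups inside `G0` -/
def Tv (σ : F →+* F) (p : Fin n → F) : Subgroup ↥(G0 (n := n) (q := q) σ) :=
  (Tu σ p).subgroupOf (G0 σ)

theorem mem_Tv (σ : F →+* F) (p : Fin n → F) (hp : Bh σ n p p = 0)
    (g : ↥(G0 (n := n) (q := q) σ)) :
    g ∈ Tv σ p ↔ ∃ l, l + σ l = 0 ∧ IsTau σ p l g.1 := by
  unfold Tv
  rw [Subgroup.mem_subgroupOf, mem_Tu σ p hp]

/-- the family inside `G0` -/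
def Sfam (σ : F →+* F) : Set (Subgroup ↥(G0 (n := n) (q := q) σ)) :=
  {A | ∃ p : Fin n → F, p ≠ 0 ∧ Bh σ n p p = 0 ∧ A = Tv σ p}

theorem fam_eq (σ : F →+* F) :
    (fun A : Subgroup ↥(Cfsg.SU n F q) => A.subgroupOf (G0 σ)) '' Sig σ = Sfam σ := by
  ext A
  constructor
  · rintro ⟨B, ⟨p, hp0, hp, rfl⟩, rfl⟩
    exact ⟨p, hp0, hp, rfl⟩
  · rintro ⟨p, hp0, hp, rfl⟩
    exact ⟨Tu σ p, ⟨p, hp0, hp, rfl⟩, rfl⟩

theorem Tv_smul (σ : F →+* F) (hσ2 : ∀ a, σ (σ a) = a) (p : Fin n → F)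
    (hp : Bh σ n p p = 0) (a : F) (ha : a ≠ 0) :
    (Tv σ (a • p) : Subgroup ↥(G0 (n := n) (q := q) σ)) = Tv σ p := by
  unfold Tv
  rw [Tu_smul σ hσ2 p hp a ha]

theorem conjBy_Tv (σ : F →+* F) (hσ : ∀ x, σ x = x ^ q) (p : Fin n → F)
    (hp : Bh σ n p p = 0) (h : ↥(G0 (n := n) (q := q) σ)) :
    conjBy (Tv σ p) h = Tv σ (act h.1 p) := by
  ext x
  rw [Cfsg.Agent.Lib.Helper83.RankOne.mem_conjBy]
  unfold Tv
  rw [Subgroup.mem_subgroupOf, Subgroup.mem_subgroupOf, ← conjBy_Tu σ hσ p hp h.1,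
    Cfsg.Agent.Lib.Helper83.RankOne.mem_conjBy]
  rfl

theorem Tv_comm (σ : F →+* F) (hσ2 : ∀ a, σ (σ a) = a) (p p' : Fin n → F)
    (hp : Bh σ n p p = 0) (hp' : Bh σ n p' p' = 0) (h : Bh σ n p p' = 0)
    (a b : ↥(G0 (n := n) (q := q) σ)) (ha : a ∈ Tv σ p) (hb : b ∈ Tv σ p') :
    a * b = b * a := by
  obtain ⟨l, -, hl⟩ := (mem_Tv σ p hp a).1 ha
  obtain ⟨l', -, hl'⟩ := (mem_Tv σ p' hp' b).1 hb
  apply Subtype.ext
  exact IsTau_comm σ hσ2 p p' h l l' a.1 b.1 hl hl'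

theorem Tv_isComm (σ : F →+* F) (hσ2 : ∀ a, σ (σ a) = a) (p : Fin n → F)
    (hp : Bh σ n p p = 0) : IsMulCommutative ↥(Tv (n := n) (q := q) σ p) := by
  rw [isMulCommutative_iff]
  rintro ⟨x, hx⟩ ⟨y, hy⟩
  apply Subtype.ext
  exact Tv_comm σ hσ2 p p hp hp hp x y hx hy

theorem generates (σ : F →+* F) :
    (⨆ A ∈ (Sfam σ : Set (Subgroup ↥(G0 (n := n) (q := q) σ))), A) = ⊤ := by
  obtain ⟨K, hK⟩ : ∃ K : Subgroup ↥(G0 (n := n) (q := q) σ),
    K = ⨆ A ∈ (Sfam σ : Set (Subgroup ↥(G0 (n := n) (q := q) σ))), A := ⟨_, rfl⟩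
  rw [← hK]
  have h1 : G0 (n := n) (q := q) σ ≤ K.map (G0 σ).subtype := by
    unfold G0
    apply iSup_le
    intro B
    apply iSup_le
    rintro ⟨p, hp0, hp, rfl⟩
    intro g hg
    have hg0 : g ∈ G0 σ := Tu_le_G0 σ p hp0 hp hg
    refine Subgroup.mem_map.2 ⟨⟨g, hg0⟩, ?_, rfl⟩
    rw [hK]
    apply Subgroup.mem_iSup_of_mem (Tv σ p)
    apply Subgroup.mem_iSup_of_mem ⟨p, hp0, hp, rfl⟩
    exact Subgroup.mem_subgroupOf.2 hg
  rw [eq_top_iff]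
  rintro x -
  obtain ⟨y, hy, hyx⟩ := Subgroup.mem_map.1 (h1 x.2)
  have hyx' : y = x := Subtype.ext hyx
  rw [← hyx']
  exact hy

theorem IsTau_ne_one (σ : F →+* F) (p : Fin n → F) (hp0 : p ≠ 0) (l : F) (hl : l ≠ 0)
    (g : ↥(Cfsg.SU n F q)) (hg : IsTau σ p l g) : g ≠ 1 := by
  rintro rfl
  obtain ⟨x₀, hx₀⟩ := exists_pairing σ p hp0
  have h1 := hg x₀
  rw [act_one, hx₀, mul_one] at h1
  have h2 : l • p = 0 := by
    have h3 := h1.symm
    rw [add_eq_left] at h3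
    exact h3
  rcases smul_eq_zero.1 h2 with h | h
  · exact hl h
  · exact hp0 h

theorem Tv_pair {L : Type} [Field L] (σ : F →+* F) (hσ : ∀ x, σ x = x ^ q)
    (hσ2 : ∀ a, σ (σ a) = a) (ι : L →+* F) (hι : ∀ a, σ (ι a) = ι a)
    (hι' : ∀ x : F, σ x = x → ∃ a, ι a = x) (l₀ : F) (hl₀ : l₀ ≠ 0) (hl₀' : l₀ + σ l₀ = 0)
    (p p' : Fin n → F) (hp0 : p ≠ 0) (hp : Bh σ n p p = 0) (hp'0 : p' ≠ 0)
    (hp' : Bh σ n p' p' = 0) (h : Bh σ n p p' ≠ 0) :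
    IsRankOnePair (Tv (q := q) σ p) (Tv σ p') ∧
      IsPSL2PairOver L (Tv (q := q) σ p) (Tv σ p') := by
  obtain ⟨f, hf⟩ : ∃ f : Fin n → F, f = (Bh σ n p p')⁻¹ • p' := ⟨_, rfl⟩
  have hff : Bh σ n f f = 0 := by
    rw [hf]
    simp only [map_smulₛₗ, LinearMap.smul_apply, smul_eq_mul, hp', mul_zero, RingHom.id_apply]
  have hef : Bh σ n p f = 1 := by
    rw [hf, LinearMap.map_smul, smul_eq_mul, inv_mul_cancel₀ h]
  have hTf : (Tu σ f : Subgroup ↥(Cfsg.SU n F q)) = Tu σ p' := by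
    rw [hf]
    exact Tu_smul σ hσ2 p' hp' _ (inv_ne_zero h)
  have hσl : σ l₀ = -l₀ := by linear_combination hl₀'
  obtain ⟨Φ0, hΦ0⟩ : ∃ Φ0 : Matrix.SpecialLinearGroup (Fin 2) L →* ↥(Cfsg.SU n F q),
    Φ0 = Phi0 σ hσ hσ2 ι hι l₀ hl₀ hl₀' p f hp hff hef := ⟨_, rfl⟩
  have hU : ∀ s : L, IsTau σ p (l₀ * ι s) (Φ0 (Cfsg.Agent.S5016.U s)) := by
    intro s
    rw [hΦ0]
    exact Phi0_U σ hσ hσ2 ι hι l₀ hl₀ hl₀' p f hp hff hef s
  have hL : ∀ t : L, IsTau σ f (l₀⁻¹ * ι t) (Φ0 (Cfsg.Agent.S5016.L t)) := by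
    intro t
    rw [hΦ0]
    exact Phi0_L σ hσ hσ2 ι hι l₀ hl₀ hl₀' p f hp hff hef t
  have hinj : ∀ g, Φ0 g = 1 → g = 1 := by
    intro g hg
    rw [hΦ0] at hg
    exact Phi0_inj σ hσ hσ2 ι hι l₀ hl₀ hl₀' p f hp hff hef g hg
  have hUmem : ∀ s : L, Φ0 (Cfsg.Agent.S5016.U s) ∈ Tu σ p := by
    intro s
    refine (mem_Tu σ p hp _).2 ⟨_, ?_, hU s⟩
    rw [map_mul, hι, hσl]
    ring
  have hLmem : ∀ t : L, Φ0 (Cfsg.Agent.S5016.L t) ∈ Tu σ f := by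
    intro t
    refine (mem_Tu σ f hff _).2 ⟨_, ?_, hL t⟩
    rw [map_mul, map_inv₀, hι, hσl]
    field_simp
    ring
  have hrange : ∀ g, Φ0 g ∈ G0 (n := n) (q := q) σ := by
    intro g
    have h1 : (⊤ : Subgroup (Matrix.SpecialLinearGroup (Fin 2) L)) ≤ (G0 σ).comap Φ0 := by
      rw [← Cfsg.Agent.S5016.sup_eq_top, sup_le_iff]
      constructor
      · intro x hx
        obtain ⟨t, rfl⟩ := (Cfsg.Agent.S5016.mem_lower_iff' x).mp hx
        have h2 := hLmem t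
        rw [hTf] at h2
        exact Tu_le_G0 σ p' hp'0 hp' h2
      · intro x hx
        obtain ⟨s, rfl⟩ := (Cfsg.Agent.S5016.mem_upper_iff' x).mp hx
        exact Tu_le_G0 σ p hp0 hp (hUmem s)
    exact h1 (Subgroup.mem_top g)
  obtain ⟨Φ, hΦ⟩ : ∃ Φ : Matrix.SpecialLinearGroup (Fin 2) L →* ↥(G0 (n := n) (q := q) σ),
    ∀ g, (Φ g).1 = Φ0 g := ⟨Φ0.codRestrict (G0 σ) hrange, fun g => rfl⟩
  have hker : Φ.ker ≤ Subgroup.center (Matrix.SpecialLinearGroup (Fin 2) L) := by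
    intro g hg
    rw [MonoidHom.mem_ker] at hg
    have h1 : Φ0 g = 1 := by
      rw [← hΦ, hg]
      rfl
    rw [hinj g h1]
    exact Subgroup.one_mem _
  have hmapU : (upperUnipotentSL2 L).map Φ = Tv σ p := by
    ext x
    rw [Subgroup.mem_map, mem_Tv σ p hp]
    constructor
    · rintro ⟨g, hg, rfl⟩
      obtain ⟨s, rfl⟩ := (Cfsg.Agent.S5016.mem_upper_iff' g).mp hg
      rw [hΦ]
      exact (mem_Tu σ p hp _).1 (hUmem s)
    · rintro ⟨l, hl, hx⟩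
      have hσl' : σ l = -l := by linear_combination hl
      have hfix : σ (l₀⁻¹ * l) = l₀⁻¹ * l := by
        rw [map_mul, map_inv₀, hσl, hσl']
        field_simp
      obtain ⟨s, hs⟩ := hι' _ hfix
      refine ⟨Cfsg.Agent.S5016.U s, (Cfsg.Agent.S5016.mem_upper_iff' _).mpr ⟨s, rfl⟩, ?_⟩
      apply Subtype.ext
      rw [hΦ]
      apply IsTau_unique σ p l _ _ _ hx
      have h1 := hU s
      rw [hs, mul_inv_cancel_left₀ hl₀] at h1
      exact h1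
  have hmapL : (lowerUnipotentSL2 L).map Φ = Tv σ p' := by
    ext x
    unfold Tv
    rw [Subgroup.mem_map, Subgroup.mem_subgroupOf, ← hTf, mem_Tu σ f hff]
    constructor
    · rintro ⟨g, hg, rfl⟩
      obtain ⟨t, rfl⟩ := (Cfsg.Agent.S5016.mem_lower_iff' g).mp hg
      rw [hΦ]
      exact (mem_Tu σ f hff _).1 (hLmem t)
    · rintro ⟨l, hl, hx⟩
      have hσl' : σ l = -l := by linear_combination hl
      have hfix : σ (l₀ * l) = l₀ * l := by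
        rw [map_mul, hσl, hσl']
        ring
      obtain ⟨t, ht⟩ := hι' _ hfix
      refine ⟨Cfsg.Agent.S5016.L t, (Cfsg.Agent.S5016.mem_lower_iff' _).mpr ⟨t, rfl⟩, ?_⟩
      apply Subtype.ext
      rw [hΦ]
      apply IsTau_unique σ f l _ _ _ hx
      have h1 := hL t
      rw [ht, inv_mul_cancel_left₀ hl₀] at h1
      exact h1
  have h2 := Cfsg.Agent.S5070.pair_map Φ hker
  rw [hmapU, hmapL] at h2
  exact h2

variable [Fintype F]

theorem exists_mem_Tv (hF : Fintype.card F = q ^ 2) (σ : F →+* F) (hσ : ∀ x, σ x = x ^ q)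
    (hσ2 : ∀ a, σ (σ a) = a) (p : Fin n → F) (hp0 : p ≠ 0) (hp : Bh σ n p p = 0) :
    ∃ (l : F) (a : ↥(G0 (n := n) (q := q) σ)), l ≠ 0 ∧ a ∈ Tv σ p ∧ IsTau σ p l a.1 := by
  obtain ⟨l, hl0, hl⟩ := exists_lam hF σ hσ hσ2
  obtain ⟨g, hg⟩ := exists_tau σ hσ hσ2 p hp l hl
  have hgT : g ∈ Tu σ p := (mem_Tu σ p hp g).2 ⟨l, hl, hg⟩
  exact ⟨l, ⟨g, Tu_le_G0 σ p hp0 hp hgT⟩, hl0, Subgroup.mem_subgroupOf.2 hgT, hg⟩

theorem Tv_ne_bot (hF : Fintype.card F = q ^ 2) (σ : F →+* F) (hσ : ∀ x, σ x = x ^ q)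
    (hσ2 : ∀ a, σ (σ a) = a) (p : Fin n → F) (hp0 : p ≠ 0) (hp : Bh σ n p p = 0) :
    (Tv σ p : Subgroup ↥(G0 (n := n) (q := q) σ)) ≠ ⊥ := by
  obtain ⟨l, a, hl, ha, hτ⟩ := exists_mem_Tv hF σ hσ hσ2 p hp0 hp
  intro h
  rw [h, Subgroup.mem_bot] at ha
  apply IsTau_ne_one σ p hp0 l hl a.1 hτ
  rw [ha]
  rfl

theorem isRootSet (hF : Fintype.card F = q ^ 2) (σ : F →+* F) (hσ : ∀ x, σ x = x ^ q)
    (hσ2 : ∀ a, σ (σ a) = a) {L : Type} [Field L] (ι : L →+* F) (hι : ∀ a, σ (ι a) = ι a)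
    (hι' : ∀ x : F, σ x = x → ∃ a, ι a = x) :
    IsRootSubgroupSet (Sfam (n := n) (q := q) σ) where
  commutative := by
    rintro A ⟨p, hp0, hp, rfl⟩
    exact Tv_isComm σ hσ2 p hp
  ne_bot := by
    rintro A ⟨p, hp0, hp, rfl⟩
    exact Tv_ne_bot hF σ hσ hσ2 p hp0 hp
  generates := generates σ
  conj_mem := by
    rintro A ⟨p, hp0, hp, rfl⟩ g
    refine ⟨act g.1 p, act_ne_zero g.1 p hp0, ?_, conjBy_Tv σ hσ p hp g⟩
    rw [act_form σ hσ, hp]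
  pair := by
    rintro A ⟨p, hp0, hp, rfl⟩ B ⟨p', hp'0, hp', rfl⟩
    by_cases h : Bh σ n p p' = 0
    · left
      apply Cfsg.Agent.Lib.Helper83.RootSub.commutator_eq_bot_of_comm
      intro a ha b hb
      exact Tv_comm σ hσ2 p p' hp hp' h a b ha hb
    · obtain ⟨l₀, hl₀, hl₀'⟩ := exists_lam hF σ hσ hσ2
      exact Or.inr (Or.inl (Tv_pair σ hσ hσ2 ι hι hι' l₀ hl₀ hl₀' p p' hp0 hp hp'0 hp' h).1)

theorem degenerate (hF : Fintype.card F = q ^ 2) (σ : F →+* F) (hσ : ∀ x, σ x = x ^ q)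
    (hσ2 : ∀ a, σ (σ a) = a) : IsDegenerateRootSet (Sfam (n := n) (q := q) σ) := by
  rintro A ⟨p, hp0, hp, rfl⟩ B ⟨p', hp'0, hp', rfl⟩ ⟨hC, hcent, -, -⟩
  have hS := Bh_symm σ hσ2 n
  by_cases h : Bh σ n p p' = 0
  · have h1 : ⁅Tv (n := n) (q := q) σ p, Tv (n := n) (q := q) σ p'⁆ = ⊥ := by
      apply Cfsg.Agent.Lib.Helper83.RootSub.commutator_eq_bot_of_comm
      intro a ha b hb
      exact Tv_comm σ hσ2 p p' hp hp' h a b ha hb
    rw [h1] at hC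
    obtain ⟨r, hr0, hr, hbot⟩ := hC
    exact Tv_ne_bot hF σ hσ hσ2 r hr0 hr hbot.symm
  · obtain ⟨l, a, hl, ha, hτa⟩ := exists_mem_Tv hF σ hσ hσ2 p hp0 hp
    obtain ⟨l', b, hl', hb, hτb⟩ := exists_mem_Tv hF σ hσ hσ2 p' hp'0 hp'
    have h1 := hcent _ (Subgroup.commutator_mem_commutator ha hb) a (Subgroup.mem_sup_left ha)
    rw [commutatorElement_def] at h1
    have h2 := Cfsg.Agent.S5070.comm_aux _ _ h1
    have h3 : (b.1 * a.1⁻¹ * b.1⁻¹) * a.1 = a.1 * (b.1 * a.1⁻¹ * b.1⁻¹) :=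
      congrArg Subtype.val h2
    have h4 : IsTau σ (act b.1 p) (-l) (b.1 * a.1⁻¹ * b.1⁻¹) :=
      IsTau_conj σ hσ p (-l) _ b.1 (IsTau_inv σ p hp l a.1 hτa)
    have hu : Bh σ n (act b.1 p) (act b.1 p) = 0 := by rw [act_form σ hσ, hp]
    have h5 := IsTau_comm_imp σ (act b.1 p) p hu (-l) l _ _ h4 hτa h3
    have h6 : Bh σ n p (act b.1 p) = l' * Bh σ n p' p * Bh σ n p p' := by
      rw [hτb p]
      simp only [map_add, map_smul, smul_eq_mul, hp, zero_add]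
    have h7 : Bh σ n (act b.1 p) p = σ (Bh σ n p (act b.1 p)) := (hS.eq _ _).symm
    have h8 : Bh σ n p' p ≠ 0 := by
      rw [← hS.eq]
      exact (map_ne_zero σ).2 h
    have h9 : Bh σ n p (act b.1 p) ≠ 0 := by
      rw [h6]
      exact mul_ne_zero (mul_ne_zero hl' h8) h
    rw [h7] at h5
    have h10 : -l * l * (Bh σ n p (act b.1 p) * σ (Bh σ n p (act b.1 p))) ≠ 0 :=
      mul_ne_zero (mul_ne_zero (neg_ne_zero.2 hl) hl) (mul_ne_zero h9 ((map_ne_zero σ).2 h9))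
    exact h10 h5

theorem kroot (hF : Fintype.card F = q ^ 2) (σ : F →+* F) (hσ : ∀ x, σ x = x ^ q)
    (hσ2 : ∀ a, σ (σ a) = a) {L : Type} [Field L] (ι : L →+* F) (hι : ∀ a, σ (ι a) = ι a)
    (hι' : ∀ x : F, σ x = x → ∃ a, ι a = x) :
    ∀ A ∈ Sfam (n := n) (q := q) σ, ∀ B ∈ Sfam (n := n) (q := q) σ,
      IsRankOnePair A B → IsPSL2PairOver L A B := by
  rintro A ⟨p, hp0, hp, rfl⟩ B ⟨p', hp'0, hp', rfl⟩ hpair
  by_cases h : Bh σ n p p' = 0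
  · exfalso
    obtain ⟨a, ha, ha1⟩ := Cfsg.Agent.Lib.Helper83.RankOne.exists_mem_ne_one
      (Cfsg.Agent.Lib.Helper83.RankOne.left_ne_bot hpair)
    apply ha1
    apply Cfsg.Agent.Lib.Helper83.RankOne.eq_one_of_conjBy_eq hpair ha
    apply Cfsg.Agent.Lib.Helper83.RootSub.conjBy_eq_of_commute
    intro c hc
    exact Tv_comm σ hσ2 p p' hp hp' h a c ha hc
  · obtain ⟨l₀, hl₀, hl₀'⟩ := exists_lam hF σ hσ hσ2
    exact (Tv_pair σ hσ hσ2 ι hι hι' l₀ hl₀ hl₀' p p' hp0 hp hp'0 hp' h).2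

theorem connected (hF : Fintype.card F = q ^ 2) (σ : F →+* F) (hσ : ∀ x, σ x = x ^ q)
    (hσ2 : ∀ a, σ (σ a) = a) {L : Type} [Field L] (ι : L →+* F) (hι : ∀ a, σ (ι a) = ι a)
    (hι' : ∀ x : F, σ x = x → ∃ a, ι a = x) :
    IsConnectedFamily (FAdj (Sfam (n := n) (q := q) σ)) (Sfam σ) := by
  rintro A ⟨p, hp0, hp, rfl⟩ B ⟨p', hp'0, hp', rfl⟩
  have hS := Bh_symm σ hσ2 n
  obtain ⟨l₀, hl₀, hl₀'⟩ := exists_lam hF σ hσ hσ2
  by_cases h : Bh σ n p p' = 0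
  · obtain ⟨r, hr, h1, h2⟩ := exists_third hF σ hσ hσ2 p p' hp0 hp'0 h hp
    have hr0 : r ≠ 0 := by
      rintro rfl
      exact h1 (map_zero _)
    have h2' : Bh σ n r p' ≠ 0 := by
      rw [← hS.eq]
      exact (map_ne_zero σ).2 h2
    exact Relation.ReflTransGen.tail
      (Relation.ReflTransGen.single ⟨⟨p, hp0, hp, rfl⟩, ⟨r, hr0, hr, rfl⟩,
        (Tv_pair σ hσ hσ2 ι hι hι' l₀ hl₀ hl₀' p r hp0 hp hr0 hr h1).1⟩)
      ⟨⟨r, hr0, hr, rfl⟩, ⟨p', hp'0, hp', rfl⟩,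
        (Tv_pair σ hσ hσ2 ι hι hι' l₀ hl₀ hl₀' r p' hr0 hr hp'0 hp' h2').1⟩
  · exact Relation.ReflTransGen.single ⟨⟨p, hp0, hp, rfl⟩, ⟨p', hp'0, hp', rfl⟩,
      (Tv_pair σ hσ hσ2 ι hι hι' l₀ hl₀ hl₀' p p' hp0 hp hp'0 hp' h).1⟩

theorem conjClass (hF : Fintype.card F = q ^ 2) (σ : F →+* F) (hσ : ∀ x, σ x = x ^ q)
    (hσ2 : ∀ a, σ (σ a) = a) (n : ℕ) :
    IsConjClassOfSubgroups (Sfam (n := n + 2) (q := q) σ) := by
  obtain ⟨p₀, hp₀0, hp₀⟩ := exists_iso hF σ hσ hσ2 n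
  refine ⟨⟨Tv σ p₀, p₀, hp₀0, hp₀, rfl⟩, ?_⟩
  rintro A ⟨p, hp0, hp, rfl⟩ B ⟨p', hp'0, hp', rfl⟩
  obtain ⟨g, hg, a, ha, hga⟩ := exists_move hF σ hσ hσ2 (G0 σ)
    (fun x hx0 hx => Tu_le_G0 σ x hx0 hx) p p' hp0 hp hp'0 hp'
  refine ⟨⟨g, hg⟩, ?_⟩
  rw [conjBy_Tv σ hσ p hp]
  show Tv σ p' = Tv σ (act g p)
  rw [hga, Tv_smul σ hσ2 p' hp' a ha]

end assembly

/-- Let F be a finite field with q² elements, n a natural number, and h the Hermitian form Σ uᵢ vᵢ^q on F^{n+2}. For a non-zero isotropic vector p let T(p) be the group of unitary transvections with centre ⟨p⟩: the elements of SU_{n+2}(q) moving every vector by a multiple of p and fixing every vector perpendicular to p. Let Σ be the set of these T(p) and G₀ the subgroup they generate. Then, viewed inside G₀, the members of Σ form a degenerate class of abstract k-root subgroups of G₀ for some field k with q elements (any two commute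 or are the unipotent subgroups of a rank one group that is an image of SL₂(k) with central kernel, never the commutator case), and their graph of rank one pairs is connected. -/
theorem result (F : Type*) [Field F] [Fintype F] (q n : ℕ) (hF : Fintype.card F = q ^ 2) :
    Cfsg.IsRootSubgroupClass ((fun A : Subgroup ↥(Cfsg.SU (n + 2) F q) => A.subgroupOf (⨆ B ∈ {A : Subgroup ↥(Cfsg.SU (n + 2) F q) | ∃ p : Fin (n + 2) → F, p ≠ 0 ∧ Cfsg.hermForm (n + 2) F q p p = 0 ∧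
          A = Subgroup.closure {g : ↥(Cfsg.SU (n + 2) F q) |
            (∀ v : Fin (n + 2) → F, ∃ c : F, ((g : Matrix.SpecialLinearGroup (Fin (n + 2)) F) : Matrix (Fin (n + 2)) (Fin (n + 2)) F) *ᵥ v = v + c • p) ∧
            ∀ v : Fin (n + 2) → F, Cfsg.hermForm (n + 2) F q v p = 0 →
              ((g : Matrix.SpecialLinearGroup (Fin (n + 2)) F) : Matrix (Fin (n + 2)) (Fin (n + 2)) F) *ᵥ v = v}}, B)) ''
      {A : Subgroup ↥(Cfsg.SU (n + 2) F q) | ∃ p : Fin (n + 2) → F, p ≠ 0 ∧ Cfsg.hermForm (n + 2) F q p p = 0 ∧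
          A = Subgroup.closure {g : ↥(Cfsg.SU (n + 2) F q) |
            (∀ v : Fin (n + 2) → F, ∃ c : F, ((g : Matrix.SpecialLinearGroup (Fin (n + 2)) F) : Matrix (Fin (n + 2)) (Fin (n + 2)) F) *ᵥ v = v + c • p) ∧
            ∀ v : Fin (n + 2) → F, Cfsg.hermForm (n + 2) F q v p = 0 →
              ((g : Matrix.SpecialLinearGroup (Fin (n + 2)) F) : Matrix (Fin (n + 2)) (Fin (n + 2)) F) *ᵥ v = v}}) ∧
    Cfsg.IsDegenerateRootSet ((fun A : Subgroup ↥(Cfsg.SU (n + 2) F q) => A.subgroupOf (⨆ B ∈ {A : Subgroup ↥(Cfsg.SU (n + 2) F q) | ∃ p : Fin (n + 2) → F, p ≠ 0 ∧ Cfsg.hermForm (n + 2) F q p p = 0 ∧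
          A = Subgroup.closure {g : ↥(Cfsg.SU (n + 2) F q) |
            (∀ v : Fin (n + 2) → F, ∃ c : F, ((g : Matrix.SpecialLinearGroup (Fin (n + 2)) F) : Matrix (Fin (n + 2)) (Fin (n + 2)) F) *ᵥ v = v + c • p) ∧
            ∀ v : Fin (n + 2) → F, Cfsg.hermForm (n + 2) F q v p = 0 →
              ((g : Matrix.SpecialLinearGroup (Fin (n + 2)) F) : Matrix (Fin (n + 2)) (Fin (n + 2)) F) *ᵥ v = v}}, B)) ''
      {A : Subgroup ↥(Cfsg.SU (n + 2) F q) | ∃ p : Fin (n + 2) → F, p ≠ 0 ∧ Cfsg.hermForm (n + 2) F q p p = 0 ∧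
          A = Subgroup.closure {g : ↥(Cfsg.SU (n + 2) F q) |
            (∀ v : Fin (n + 2) → F, ∃ c : F, ((g : Matrix.SpecialLinearGroup (Fin (n + 2)) F) : Matrix (Fin (n + 2)) (Fin (n + 2)) F) *ᵥ v = v + c • p) ∧
            ∀ v : Fin (n + 2) → F, Cfsg.hermForm (n + 2) F q v p = 0 →
              ((g : Matrix.SpecialLinearGroup (Fin (n + 2)) F) : Matrix (Fin (n + 2)) (Fin (n + 2)) F) *ᵥ v = v}}) ∧
    (∃ (L : Type) (_ : Field L) (_ : Fintype L), Fintype.card L = q ∧ Cfsg.IsKRootSubgroupSet L ((fun A : Subgroup ↥(Cfsg.SU (n + 2) F q) => A.subgroupOf (⨆ B ∈ {A : Subgroup ↥(Cfsg.SU (n + 2) F q) | ∃ p : Fin (n + 2) → F, p ≠ 0 ∧ Cfsg.hermForm (n + 2) F q p p = 0 ∧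
          A = Subgroup.closure {g : ↥(Cfsg.SU (n + 2) F q) |
            (∀ v : Fin (n + 2) → F, ∃ c : F, ((g : Matrix.SpecialLinearGroup (Fin (n + 2)) F) : Matrix (Fin (n + 2)) (Fin (n + 2)) F) *ᵥ v = v + c • p) ∧
            ∀ v : Fin (n + 2) → F, Cfsg.hermForm (n + 2) F q v p = 0 →
              ((g : Matrix.SpecialLinearGroup (Fin (n + 2)) F) : Matrix (Fin (n + 2)) (Fin (n + 2)) F) *ᵥ v = v}}, B)) ''
      {A : Subgroup ↥(Cfsg.SU (n + 2) F q) | ∃ p : Fin (n + 2) → F, p ≠ 0 ∧ Cfsg.hermForm (n + 2) F q p p = 0 ∧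
          A = Subgroup.closure {g : ↥(Cfsg.SU (n + 2) F q) |
            (∀ v : Fin (n + 2) → F, ∃ c : F, ((g : Matrix.SpecialLinearGroup (Fin (n + 2)) F) : Matrix (Fin (n + 2)) (Fin (n + 2)) F) *ᵥ v = v + c • p) ∧
            ∀ v : Fin (n + 2) → F, Cfsg.hermForm (n + 2) F q v p = 0 →
              ((g : Matrix.SpecialLinearGroup (Fin (n + 2)) F) : Matrix (Fin (n + 2)) (Fin (n + 2)) F) *ᵥ v = v}})) ∧
    Cfsg.IsConnectedFamily (Cfsg.FAdj ((fun A : Subgroup ↥(Cfsg.SU (n + 2) F q) => A.subgroupOf (⨆ B ∈ {A : Subgroup ↥(Cfsg.SU (n + 2) F q) | ∃ p : Fin (n + 2) → F, p ≠ 0 ∧ Cfsg.hermForm (n + 2) F q p p = 0 ∧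
          A = Subgroup.closure {g : ↥(Cfsg.SU (n + 2) F q) |
            (∀ v : Fin (n + 2) → F, ∃ c : F, ((g : Matrix.SpecialLinearGroup (Fin (n + 2)) F) : Matrix (Fin (n + 2)) (Fin (n + 2)) F) *ᵥ v = v + c • p) ∧
            ∀ v : Fin (n + 2) → F, Cfsg.hermForm (n + 2) F q v p = 0 →
              ((g : Matrix.SpecialLinearGroup (Fin (n + 2)) F) : Matrix (Fin (n + 2)) (Fin (n + 2)) F) *ᵥ v = v}}, B)) ''
      {A : Subgroup ↥(Cfsg.SU (n + 2) F q) | ∃ p : Fin (n + 2) → F, p ≠ 0 ∧ Cfsg.hermForm (n + 2) F q p p = 0 ∧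
          A = Subgroup.closure {g : ↥(Cfsg.SU (n + 2) F q) |
            (∀ v : Fin (n + 2) → F, ∃ c : F, ((g : Matrix.SpecialLinearGroup (Fin (n + 2)) F) : Matrix (Fin (n + 2)) (Fin (n + 2)) F) *ᵥ v = v + c • p) ∧
            ∀ v : Fin (n + 2) → F, Cfsg.hermForm (n + 2) F q v p = 0 →
              ((g : Matrix.SpecialLinearGroup (Fin (n + 2)) F) : Matrix (Fin (n + 2)) (Fin (n + 2)) F) *ᵥ v = v}})) ((fun A : Subgroup ↥(Cfsg.SU (n + 2) F q) => A.subgroupOf (⨆ B ∈ {A : Subgroup ↥(Cfsg.SU (n + 2) F q) | ∃ p : Fin (n + 2) → F, p ≠ 0 ∧ Cfsg.hermForm (n + 2) F q p p = 0 ∧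
          A = Subgroup.closure {g : ↥(Cfsg.SU (n + 2) F q) |
            (∀ v : Fin (n + 2) → F, ∃ c : F, ((g : Matrix.SpecialLinearGroup (Fin (n + 2)) F) : Matrix (Fin (n + 2)) (Fin (n + 2)) F) *ᵥ v = v + c • p) ∧
            ∀ v : Fin (n + 2) → F, Cfsg.hermForm (n + 2) F q v p = 0 →
              ((g : Matrix.SpecialLinearGroup (Fin (n + 2)) F) : Matrix (Fin (n + 2)) (Fin (n + 2)) F) *ᵥ v = v}}, B)) ''
      {A : Subgroup ↥(Cfsg.SU (n + 2) F q) | ∃ p : Fin (n + 2) → F, p ≠ 0 ∧ Cfsg.hermForm (n + 2) F q p p = 0 ∧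
          A = Subgroup.closure {g : ↥(Cfsg.SU (n + 2) F q) |
            (∀ v : Fin (n + 2) → F, ∃ c : F, ((g : Matrix.SpecialLinearGroup (Fin (n + 2)) F) : Matrix (Fin (n + 2)) (Fin (n + 2)) F) *ᵥ v = v + c • p) ∧
            ∀ v : Fin (n + 2) → F, Cfsg.hermForm (n + 2) F q v p = 0 →
              ((g : Matrix.SpecialLinearGroup (Fin (n + 2)) F) : Matrix (Fin (n + 2)) (Fin (n + 2)) F) *ᵥ v = v}}) := by
  obtain ⟨σ, hσ, hσ2⟩ := Cfsg.Agent.Lib.Helper45.GUCard.exists_conj hF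
  obtain ⟨L, hLf, hLfin, ι, hcard, hι, hι'⟩ := exists_field hF σ hσ
  rw [Sig_eq σ hσ hσ2]
  show Cfsg.IsRootSubgroupClass ((fun A : Subgroup ↥(Cfsg.SU (n + 2) F q) =>
      A.subgroupOf (G0 σ)) '' Sig σ) ∧
    Cfsg.IsDegenerateRootSet ((fun A : Subgroup ↥(Cfsg.SU (n + 2) F q) =>
      A.subgroupOf (G0 σ)) '' Sig σ) ∧
    (∃ (L : Type) (_ : Field L) (_ : Fintype L), Fintype.card L = q ∧
      Cfsg.IsKRootSubgroupSet L ((fun A : Subgroup ↥(Cfsg.SU (n + 2) F q) =>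
        A.subgroupOf (G0 σ)) '' Sig σ)) ∧
    Cfsg.IsConnectedFamily (Cfsg.FAdj ((fun A : Subgroup ↥(Cfsg.SU (n + 2) F q) =>
      A.subgroupOf (G0 σ)) '' Sig σ)) ((fun A : Subgroup ↥(Cfsg.SU (n + 2) F q) =>
      A.subgroupOf (G0 σ)) '' Sig σ)
  rw [fam_eq σ]
  exact ⟨⟨isRootSet hF σ hσ hσ2 ι hι hι', conjClass hF σ hσ hσ2 n⟩, degenerate hF σ hσ hσ2,
    ⟨L, hLf, hLfin, hcard, isRootSet hF σ hσ hσ2 ι hι hι', kroot hF σ hσ hσ2 ι hι hι'⟩,
    connected hF σ hσ hσ2 ι hι hι'⟩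

end Cfsg.Agent.S5071
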