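import Cfsg.Statements.S0780
import Mathlib
import Cfsg.Agent.Lib.Helper94.UnitGen
import Cfsg.Agent.Lib.Helper94.HermStd
import Cfsg.Agent.S5071

set_option autoImplicit false
open Cfsg

namespace Cfsg.Agent.S0780

open scoped Matrix
open Cfsg.Agent.Lib.Helper94.Basic Cfsg.Agent.Lib.Helper94.GLAux Cfsg.Agent.Lib.Helper94.UnitAbs
  Cfsg.Agent.Lib.Helper94.UnitGen
open Cfsg.Agent.Lib.Helper94.QuadAbs (finrank_span_singleton_le finrank_span_pair_le
  finrank_span_triple_le)

section abs

variable {ι : Type} [Fintype ι] [DecidableEq ι] {F : Type*} [Field F]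
variable {σ : F ≃+* F} {f : (ι → F) → (ι → F) → F}

/-- a non-zero vector orthogonal to a proper subspace -/
theorem exists_perp_ne_zero (hf : Cfsg.Geo.IsUnitaryForm σ f) (U : Submodule F (ι → F))
    (hU : Module.finrank F U < Fintype.card ι) : ∃ y, y ≠ 0 ∧ ∀ u ∈ U, f y u = 0 := by
  obtain ⟨b, -⟩ : ∃ b : Module.Basis (Fin (Module.finrank F U)) F U, b = b :=
    ⟨Module.finBasis F U, rfl⟩
  obtain ⟨Ψ, hΨ⟩ : ∃ Ψ : (ι → F) →ₗ[F] (Fin (Module.finrank F U) → F),
    Ψ = LinearMap.pi (fun i => fR hf ((b i : U) : ι → F)) := ⟨_, rfl⟩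
  have h1 : LinearMap.ker Ψ ≠ ⊥ := by
    intro hbot
    have h3 := LinearMap.finrank_range_add_finrank_ker Ψ
    have h4 : Module.finrank F (LinearMap.range Ψ) ≤ Module.finrank F U := by
      have := Submodule.finrank_le (LinearMap.range Ψ)
      simpa using this
    rw [Module.finrank_fintype_fun_eq_card, hbot, finrank_bot] at h3
    omega
  obtain ⟨y, hy, hy0⟩ := (Submodule.ne_bot_iff _).1 h1
  refine ⟨y, hy0, fun u hu => ?_⟩
  rw [LinearMap.mem_ker] at hy
  have h5 : ∀ i, f y ((b i : U) : ι → F) = 0 := by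
    intro i
    have := congrFun hy i
    simpa [hΨ] using this
  have h6 : u = ∑ i, (b.repr ⟨u, hu⟩ i) • ((b i : U) : ι → F) := by
    have h7 := b.sum_repr ⟨u, hu⟩
    have h8 := congrArg (Subtype.val) h7
    simp only [Submodule.coe_sum, Submodule.coe_smul] at h8
    exact h8.symm
  rw [← mem_perpR hf, h6]
  exact Submodule.sum_mem _ (fun i _ => Submodule.smul_mem _ _ ((mem_perpR hf _ _).mpr (h5 i)))

variable [Fintype F]

/-- every element of the fixed field is a norm on the orthogonal of a proper non-degenerate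
subspace -/
theorem exists_norm_perp' (hf : Cfsg.Geo.IsUnitaryForm σ f) (U : Submodule F (ι → F))
    (hU : Module.finrank F U < Fintype.card ι)
    (hnd : ∀ u ∈ U, (∀ u' ∈ U, f u u' = 0) → u = 0) (r : F) (hr : σ r = r) :
    ∃ z, (∀ u ∈ U, f z u = 0) ∧ f z z = r := by
  obtain ⟨y1, hy10, h1⟩ := exists_perp_ne_zero hf U hU
  have hy1U : y1 ∉ U := fun h => hy10 (hnd y1 h h1)
  obtain ⟨y2, hy2, h12⟩ := exists_perp_ne hf U y1 hy1U
  have h2 : ∀ u ∈ U, f y2 u = 0 := fun u hu => (eq_zero_comm hf _ _).mp (hy2 u hu)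
  have haniso : ∃ y, (∀ u ∈ U, f y u = 0) ∧ f y y ≠ 0 := by
    by_cases hy1 : f y1 y1 = 0
    · by_cases hy2' : f y2 y2 = 0
      · obtain ⟨θ, hθ⟩ := exists_tr_ne hf
        have h21 : f y2 y1 ≠ 0 := fun h => h12 ((eq_zero_comm hf _ _).mp h)
        refine ⟨y1 + (θ / f y2 y1) • y2, fun u hu => ?_, ?_⟩
        · rw [hf.add_left, hf.smul_left, h1 u hu, h2 u hu]
          simp
        · rw [norm_add_smul hf, hy1, hy2', ← map_mul, div_mul_cancel₀ _ h21]
          simpa using hθ
      · exact ⟨y2, h2, hy2'⟩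
    · exact ⟨y1, h1, hy1⟩
  obtain ⟨y, hyU, hyy⟩ := haniso
  have hfix : σ (r / f y y) = r / f y y := by rw [map_div₀, hr, self_fixed hf]
  obtain ⟨c, hc⟩ := norm_surj hf (r / f y y) hfix
  refine ⟨c • y, fun u hu => ?_, ?_⟩
  · rw [hf.smul_left, hyU u hu, mul_zero]
  · rw [hf.smul_left, smul_right hf, ← mul_assoc, hc, div_mul_cancel₀ _ hyy]

/-- transvections move a vector to any vector of the same norm spanning a non-degenerate plane
with it -/
theorem ut_trans_nd (hf : Cfsg.Geo.IsUnitaryForm σ f) (hcard : 3 ≤ Fintype.card ι)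
    (a b : ι → F) (hnorm : f a a = f b b) (ha : f a a ≠ 0)
    (hD : f a a * f a a - f a b * f b a ≠ 0) :
    ∃ t : Matrix.GeneralLinearGroup ι F,
      (∀ M : Subgroup (Matrix.GeneralLinearGroup ι F), (∀ a κ, ut hf a κ ∈ M) → t ∈ M) ∧
      (∀ x y, f ((t : Matrix ι ι F) *ᵥ x) ((t : Matrix ι ι F) *ᵥ y) = f x y) ∧
      (t : Matrix ι ι F) *ᵥ a = b := by
  obtain ⟨κ, hκ0, hκ⟩ := exists_skew_ne hf
  obtain ⟨ν, hν⟩ : ∃ ν, ν = f a a := ⟨_, rfl⟩
  obtain ⟨g, hg⟩ : ∃ g, g = f a b := ⟨_, rfl⟩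
  have hνσ : σ ν = ν := by
    rw [hν]
    exact self_fixed hf a
  have hν0 : ν ≠ 0 := by
    rw [hν]
    exact ha
  have hbb : f b b = ν := by rw [hν, hnorm]
  have hba : f b a = σ g := by
    rw [hg]
    exact (herm' hf a b).symm
  rw [← hν, ← hg, hba] at hD
  obtain ⟨D, hDdef⟩ : ∃ D, D = ν * ν - g * σ g := ⟨_, rfl⟩
  rw [← hDdef] at hD
  have hDσ : σ D = D := by
    rw [hDdef, map_sub, map_mul, map_mul, hνσ, hf.involutive]
    ring
  have hndU : ∀ u ∈ Submodule.span F ({a, b} : Set (ι → F)),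
      (∀ u' ∈ Submodule.span F ({a, b} : Set (ι → F)), f u u' = 0) → u = 0 := by
    intro u hu hperp
    obtain ⟨x, y, rfl⟩ := Submodule.mem_span_pair.1 hu
    have e1 := hperp a (Submodule.subset_span (by simp))
    have e2 := hperp b (Submodule.subset_span (by simp))
    rw [hf.add_left, hf.smul_left, hf.smul_left] at e1 e2
    rw [← hν, hba] at e1
    rw [← hg, hbb] at e2
    have hx : x = 0 := by
      have h3 : x * D = 0 := by
        rw [hDdef]
        linear_combination ν * e1 - σ g * e2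
      rcases mul_eq_zero.1 h3 with h | h
      · exact h
      · exact absurd h hD
    have hy : y = 0 := by
      rw [hx, zero_mul, zero_add] at e2
      rcases mul_eq_zero.1 e2 with h | h
      · exact h
      · exact absurd h hν0
    rw [hx, hy, zero_smul, zero_smul, add_zero]
  obtain ⟨xc, hxc⟩ : ∃ xc, xc = (ν - κ) * (ν - σ g) / D := ⟨_, rfl⟩
  obtain ⟨yc, hyc⟩ : ∃ yc, yc = (ν - κ) * (ν - g) / D := ⟨_, rfl⟩
  have hσx : σ xc = (ν + κ) * (ν - g) / D := by
    rw [hxc, map_div₀, map_mul, map_sub, map_sub, hνσ, hκ, hf.involutive, hDσ]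
    ring
  have hσy : σ yc = (ν + κ) * (ν - σ g) / D := by
    rw [hyc, map_div₀, map_mul, map_sub, map_sub, hνσ, hκ, hDσ]
    ring
  obtain ⟨r, hr⟩ : ∃ r, r = ν - (xc + yc) * (ν + κ) := ⟨_, rfl⟩
  have hrσ : σ r = r := by
    rw [hr, map_sub, map_mul, map_add, map_add, hσx, hσy, hνσ, hκ, hxc, hyc]
    field_simp
    ring
  have hfr := finrank_span_pair_le (F := F) a b
  obtain ⟨z, hz, hzz⟩ := exists_norm_perp' hf (Submodule.span F ({a, b} : Set (ι → F)))
    (by omega) hndU r hrσ
  have hza : f z a = 0 := hz a (Submodule.subset_span (by simp))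
  have hzb : f z b = 0 := hz b (Submodule.subset_span (by simp))
  have haz : f a z = 0 := (eq_zero_comm hf _ _).mp hza
  have hbz : f b z = 0 := (eq_zero_comm hf _ _).mp hzb
  obtain ⟨m, hm⟩ : ∃ m, m = xc • a + yc • b + z := ⟨_, rfl⟩
  have ham : f a m = ν + κ := by
    rw [hm]
    simp only [add_right hf, smul_right hf, haz, add_zero, hσx, hσy, ← hν, ← hg]
    field_simp
    rw [hDdef]
    ring
  have hbm : f b m = ν + κ := by
    rw [hm]
    simp only [add_right hf, smul_right hf, hbz, add_zero, hσx, hσy, hba, hbb]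
    field_simp
    rw [hDdef]
    ring
  have hma : f m a = ν - κ := by
    rw [← herm' hf a m, ham, map_add, hνσ, hκ]
    ring
  have hmb : f m b = ν - κ := by
    rw [← herm' hf b m, hbm, map_add, hνσ, hκ]
    ring
  have hzm : f z m = r := by
    rw [hm]
    simp only [add_right hf, smul_right hf, hza, hzb, hzz, mul_zero, zero_add]
  have hmm : f m m = ν := by
    have h1 : f m m = xc * f a m + yc * f b m + f z m := by
      have h2 : ∀ v, f m v = xc * f a v + yc * f b v + f z v := by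
        intro v
        rw [hm, hf.add_left, hf.add_left, hf.smul_left, hf.smul_left]
      exact h2 m
    rw [h1, ham, hbm, hzm, hr]
    ring
  have hd1 : f (m - a) (m - a) = 0 := by
    rw [sub_left hf, sub_right hf, sub_right hf, hmm, hma, ham, ← hν]
    ring
  have hd2 : f (m - b) (m - b) = 0 := by
    rw [sub_left hf, sub_right hf, sub_right hf, hmm, hmb, hbm, hbb]
    ring
  have hne1 : f a (m - a) ≠ 0 := by
    rw [sub_right hf, ham, ← hν]
    have e : ν + κ - ν = κ := by ring
    rw [e]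
    exact hκ0
  have hne2 : f b (m - b) ≠ 0 := by
    rw [sub_right hf, hbm, hbb]
    have e : ν + κ - ν = κ := by ring
    rw [e]
    exact hκ0
  have m1 := ut_map hf a m (by rw [hmm, hν]) hd1 hne1
  have m2 := ut_map hf b m (by rw [hmm, hbb]) hd2 hne2
  refine ⟨(ut hf (m - b) (f b (m - b))⁻¹)⁻¹ * ut hf (m - a) (f a (m - a))⁻¹, ?_, ?_, ?_⟩
  · intro M hM
    exact M.mul_mem (M.inv_mem (hM _ _)) (hM _ _)
  · intro x y
    rw [Units.val_mul, ← Matrix.mulVec_mulVec, ← Matrix.mulVec_mulVec,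
      isom_inv _ (ut_isom hf _ _), ut_isom hf]
  · rw [Units.val_mul, ← Matrix.mulVec_mulVec, m1]
    have h3 := gl_inv_mulVec (ut hf (m - b) (f b (m - b))⁻¹) b
    rw [m2] at h3
    exact h3

end abs

section abs2

variable {ι : Type} [Fintype ι] [DecidableEq ι] {F : Type*} [Field F] [Fintype F]
variable {σ : F ≃+* F} {f : (ι → F) → (ι → F) → F}

/-- an intermediate vector for a degenerate pair -/
theorem exists_mid (hf : Cfsg.Geo.IsUnitaryForm σ f) (hcard : 3 ≤ Fintype.card ι)
    (hex : 4 ≤ Fintype.card ι ∨ ∃ r : F, σ r = r ∧ r ≠ 0 ∧ r ≠ 1)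
    (a b : ι → F) (hnorm : f a a = f b b) (ha : f a a ≠ 0)
    (hD : f a a * f a a - f a b * f b a = 0) :
    ∃ m, f m m = f a a ∧ f a a * f a a - f a m * f m a ≠ 0 ∧
      f m m * f m m - f m b * f b m ≠ 0 := by
  obtain ⟨ν, hν⟩ : ∃ ν, ν = f a a := ⟨_, rfl⟩
  have hνσ : σ ν = ν := by
    rw [hν]
    exact self_fixed hf a
  have hν0 : ν ≠ 0 := by
    rw [hν]
    exact ha
  have hbb : f b b = ν := by rw [hν, hnorm]
  rw [← hν] at hD ⊢
  obtain ⟨α, hα⟩ : ∃ α, α = f b a / ν := ⟨_, rfl⟩
  obtain ⟨w, hw⟩ : ∃ w, w = b - α • a := ⟨_, rfl⟩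
  have hb : b = w + α • a := by
    rw [hw]
    abel
  have hwa : f w a = 0 := by
    rw [hw, sub_left hf, hf.smul_left, ← hν, hα, div_mul_cancel₀ _ hν0, sub_self]
  have haw : f a w = 0 := (eq_zero_comm hf _ _).mp hwa
  have hwb : f w b = 0 := by
    rw [hw, sub_left hf, hf.smul_left, hbb, hα]
    field_simp
    linear_combination hD
  have hbw : f b w = 0 := (eq_zero_comm hf _ _).mp hwb
  have hww : f w w = 0 := by
    have h1 : f w w = f w b - σ α * f w a := by
      have h2 : ∀ v, f v w = f v b - σ α * f v a := by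
        intro v
        rw [hw, sub_right hf, smul_right hf]
      exact h2 w
    rw [h1, hwb, hwa, mul_zero, sub_zero]
  -- reduction: a vector of norm ν orthogonal to `a` whose product with `w` is controlled
  have hred : ∀ m, f m m = ν → f m a = 0 → ν * ν - f m w * f w m ≠ 0 →
      f m m = ν ∧ ν * ν - f a m * f m a ≠ 0 ∧ f m m * f m m - f m b * f b m ≠ 0 := by
    intro m hmm hma hmw
    have ham : f a m = 0 := (eq_zero_comm hf _ _).mp hma
    refine ⟨hmm, ?_, ?_⟩
    · rw [ham, zero_mul, sub_zero]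
      exact mul_ne_zero hν0 hν0
    · have h1 : f m b = f m w := by
        rw [hb, add_right hf, smul_right hf, hma, mul_zero, add_zero]
      have h2 : f b m = f w m := by
        rw [hb, hf.add_left, hf.smul_left, ham, mul_zero, add_zero]
      rw [hmm, h1, h2]
      exact hmw
  by_cases hw0 : w = 0
  · -- `b` is a multiple of `a`
    have hndU : ∀ u ∈ Submodule.span F ({a} : Set (ι → F)),
        (∀ u' ∈ Submodule.span F ({a} : Set (ι → F)), f u u' = 0) → u = 0 := by
      intro u hu hperp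
      obtain ⟨x, rfl⟩ := Submodule.mem_span_singleton.1 hu
      have e1 := hperp a (Submodule.subset_span (by simp))
      rw [hf.smul_left, ← hν] at e1
      rcases mul_eq_zero.1 e1 with h | h
      · rw [h, zero_smul]
      · exact absurd h hν0
    have hfr := finrank_span_singleton_le (F := F) a
    obtain ⟨m, hm, hmm⟩ := exists_norm_perp' hf (Submodule.span F ({a} : Set (ι → F)))
      (by omega) hndU ν hνσ
    have hma : f m a = 0 := hm a (Submodule.subset_span (by simp))
    refine ⟨m, hred m hmm hma ?_⟩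
    rw [hw0, zero_right hf, zero_mul, sub_zero]
    exact mul_ne_zero hν0 hν0
  · obtain ⟨w', hw'⟩ := (hf.nondegenerate w hw0).2
    rcases hex with h4 | ⟨r₀, hr₀σ, hr₀0, hr₀1⟩
    · -- dimension at least four: a vector orthogonal to `a`, `w`, `w'`
      have hw'w : f w' w ≠ 0 := fun h => hw' ((eq_zero_comm hf _ _).mp h)
      have hndU : ∀ u ∈ Submodule.span F ({a, w, w'} : Set (ι → F)),
          (∀ u' ∈ Submodule.span F ({a, w, w'} : Set (ι → F)), f u u' = 0) → u = 0 := by
        intro u hu hperp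
        obtain ⟨x, y, z, rfl⟩ := Submodule.mem_span_triple.1 hu
        have e1 := hperp a (Submodule.subset_span (by simp))
        have e2 := hperp w (Submodule.subset_span (by simp))
        have e3 := hperp w' (Submodule.subset_span (by simp))
        rw [hf.add_left, hf.add_left, hf.smul_left, hf.smul_left, hf.smul_left] at e1 e2 e3
        rw [haw, hww, mul_zero, mul_zero, zero_add, zero_add] at e2
        have hz : z = 0 := by
          rcases mul_eq_zero.1 e2 with h | h
          · exact h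
          · exact absurd h hw'w
        rw [hz, zero_mul, add_zero, hwa, mul_zero, add_zero, ← hν] at e1
        have hx : x = 0 := by
          rcases mul_eq_zero.1 e1 with h | h
          · exact h
          · exact absurd h hν0
        rw [hx, hz, zero_mul, zero_mul, zero_add, add_zero] at e3
        have hy : y = 0 := by
          rcases mul_eq_zero.1 e3 with h | h
          · exact h
          · exact absurd h hw'
        rw [hx, hy, hz, zero_smul, zero_smul, zero_smul, add_zero, add_zero]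
      have hfr := finrank_span_triple_le (F := F) a w w'
      obtain ⟨m, hm, hmm⟩ := exists_norm_perp' hf (Submodule.span F ({a, w, w'} : Set (ι → F)))
        (by omega) hndU ν hνσ
      have hma : f m a = 0 := hm a (Submodule.subset_span (by simp))
      have hmw : f m w = 0 := hm w (Submodule.subset_span (by simp))
      refine ⟨m, hred m hmm hma ?_⟩
      rw [hmw, zero_mul, sub_zero]
      exact mul_ne_zero hν0 hν0
    · -- the fixed field has an element other than `0` and `1`
      obtain ⟨v, hv⟩ : ∃ v, v = w' - (f w' a / ν) • a := ⟨_, rfl⟩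
      have hva : f v a = 0 := by
        rw [hv, sub_left hf, hf.smul_left, ← hν, div_mul_cancel₀ _ hν0, sub_self]
      obtain ⟨β, hβ⟩ : ∃ β, β = f w v := ⟨_, rfl⟩
      have hβ0 : β ≠ 0 := by
        rw [hβ, hv, sub_right hf, smul_right hf, hwa, mul_zero, sub_zero]
        exact hw'
      have hvw : f v w = σ β := by
        rw [hβ]
        exact (herm' hf w v).symm
      have hσβ0 : σ β ≠ 0 := (map_ne_zero σ).2 hβ0
      obtain ⟨r₁, hr₁⟩ : ∃ r₁ : F, σ r₁ = r₁ ∧ r₁ ≠ 0 ∧ r₁ * (β * σ β) ≠ ν * ν := by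
        by_cases h1 : β * σ β = ν * ν
        · refine ⟨r₀, hr₀σ, hr₀0, ?_⟩
          rw [h1]
          intro h2
          apply hr₀1
          have h3 : (r₀ - 1) * (ν * ν) = 0 := by linear_combination h2
          rcases mul_eq_zero.1 h3 with h | h
          · exact sub_eq_zero.1 h
          · exact absurd h (mul_ne_zero hν0 hν0)
        · exact ⟨1, map_one σ, one_ne_zero, by rw [one_mul]; exact h1⟩
      obtain ⟨hr₁σ, hr₁0, hr₁ne⟩ := hr₁
      obtain ⟨t, ht⟩ := norm_surj hf r₁ hr₁σ
      have ht0 : t ≠ 0 := by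
        rintro rfl
        rw [zero_mul] at ht
        exact hr₁0 ht.symm
      have hσt0 : σ t ≠ 0 := (map_ne_zero σ).2 ht0
      have hfix : σ (ν - r₁ * f v v) = ν - r₁ * f v v := by
        rw [map_sub, map_mul, hνσ, hr₁σ, self_fixed hf]
      obtain ⟨s, hs⟩ := tr_solve hf (ν - r₁ * f v v) (σ t * β) hfix (mul_ne_zero hσt0 hβ0)
      rw [map_mul, hf.involutive] at hs
      obtain ⟨m, hm⟩ : ∃ m, m = s • w + t • v := ⟨_, rfl⟩
      have hma : f m a = 0 := by
        rw [hm, hf.add_left, hf.smul_left, hf.smul_left, hwa, hva, mul_zero, mul_zero, add_zero]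
      have hmw : f m w = t * σ β := by
        rw [hm, hf.add_left, hf.smul_left, hf.smul_left, hww, hvw, mul_zero, zero_add]
      have hwm : f w m = σ t * β := by
        rw [← herm' hf m w, hmw, map_mul, hf.involutive]
      have hvm : f v m = σ s * σ β + σ t * f v v := by
        rw [hm, add_right hf, smul_right hf, smul_right hf, hvw]
      have hmm : f m m = ν := by
        have h1 : f m m = s * f w m + t * f v m := by
          have h2 : ∀ u, f m u = s * f w u + t * f v u := by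
            intro u
            rw [hm, hf.add_left, hf.smul_left, hf.smul_left]
          exact h2 m
        rw [h1, hwm, hvm]
        linear_combination hs + f v v * ht
      refine ⟨m, hred m hmm hma ?_⟩
      rw [hmw, hwm]
      intro h
      apply hr₁ne
      rw [← ht]
      linear_combination -h

/-- transvections are transitive on the vectors of a given non-zero norm -/
theorem ut_trans3 (hf : Cfsg.Geo.IsUnitaryForm σ f) (hcard : 3 ≤ Fintype.card ι)
    (hex : 4 ≤ Fintype.card ι ∨ ∃ r : F, σ r = r ∧ r ≠ 0 ∧ r ≠ 1)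
    (a b : ι → F) (hnorm : f a a = f b b) (ha : f a a ≠ 0) :
    ∃ t : Matrix.GeneralLinearGroup ι F,
      (∀ M : Subgroup (Matrix.GeneralLinearGroup ι F), (∀ a κ, ut hf a κ ∈ M) → t ∈ M) ∧
      (∀ x y, f ((t : Matrix ι ι F) *ᵥ x) ((t : Matrix ι ι F) *ᵥ y) = f x y) ∧
      (t : Matrix ι ι F) *ᵥ a = b := by
  by_cases hD : f a a * f a a - f a b * f b a = 0
  · obtain ⟨m, hm, h1, h2⟩ := exists_mid hf hcard hex a b hnorm ha hD
    obtain ⟨t1, t1M, t1iso, t1a⟩ := ut_trans_nd hf hcard a m hm.symm ha h1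
    obtain ⟨t2, t2M, t2iso, t2m⟩ := ut_trans_nd hf hcard m b (by rw [hm, hnorm])
      (by rw [hm]; exact ha) h2
    refine ⟨t2 * t1, fun M hM => M.mul_mem (t2M M hM) (t1M M hM), ?_, ?_⟩
    · intro x y
      rw [Units.val_mul, ← Matrix.mulVec_mulVec, ← Matrix.mulVec_mulVec, t2iso, t1iso]
    · rw [Units.val_mul, ← Matrix.mulVec_mulVec, t1a, t2m]
  · exact ut_trans_nd hf hcard a b hnorm ha hD

end abs2

section gen3

variable {ι : Type} [Fintype ι] [DecidableEq ι] {F : Type*} [Field F] [Fintype F]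
variable {σ : F ≃+* F} {f : (ι → F) → (ι → F) → F}

/-- Every isometry of determinant one lies in any subgroup containing all unitary
transvections (dimension at least three, with the exception of dimension three over the field
with four elements). -/
theorem isom_mem_of_ut3 (hf : Cfsg.Geo.IsUnitaryForm σ f) (hcard : 3 ≤ Fintype.card ι)
    (hex : 4 ≤ Fintype.card ι ∨ ∃ r : F, σ r = r ∧ r ≠ 0 ∧ r ≠ 1)
    (M : Subgroup (Matrix.GeneralLinearGroup ι F)) (hM : ∀ a κ, ut hf a κ ∈ M)
    (g : Matrix.GeneralLinearGroup ι F)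
    (hg : ∀ x y, f ((g : Matrix ι ι F) *ᵥ x) ((g : Matrix ι ι F) *ᵥ y) = f x y)
    (hdet : (g : Matrix ι ι F).det = 1) : g ∈ M := by
  classical
  obtain ⟨T, hT⟩ : ∃ T : Subgroup (Matrix.GeneralLinearGroup ι F),
      T = Subgroup.closure {t | ∃ a κ, t = ut hf a κ} := ⟨_, rfl⟩
  have hTM : T ≤ M := by
    rw [hT, Subgroup.closure_le]
    rintro _ ⟨a, κ, rfl⟩
    exact hM a κ
  have hutT : ∀ a κ, ut hf a κ ∈ T := fun a κ => by
    rw [hT]
    exact Subgroup.subset_closure ⟨a, κ, rfl⟩
  have hTnorm : ∀ h : Matrix.GeneralLinearGroup ι F,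
      (∀ x y, f ((h : Matrix ι ι F) *ᵥ x) ((h : Matrix ι ι F) *ᵥ y) = f x y) →
      ∀ t ∈ T, h * t * h⁻¹ ∈ T := by
    intro h hh t ht
    rw [hT] at ht
    induction ht using Subgroup.closure_induction with
    | mem t ht =>
      obtain ⟨a, κ, rfl⟩ := ht
      rw [ut_conj hf h hh]
      exact hutT _ _
    | one =>
      have : h * 1 * h⁻¹ = 1 := by group
      rw [this]
      exact T.one_mem
    | mul s t _ _ hs ht =>
      have : h * (s * t) * h⁻¹ = (h * s * h⁻¹) * (h * t * h⁻¹) := by group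
      rw [this]
      exact T.mul_mem hs ht
    | inv t _ ht =>
      have : h * t⁻¹ * h⁻¹ = (h * t * h⁻¹)⁻¹ := by group
      rw [this]
      exact T.inv_mem ht
  have hbot : Module.finrank F (⊥ : Submodule F (ι → F)) = 0 := finrank_bot F (ι → F)
  obtain ⟨a0, -, ha0⟩ := exists_aniso_perp hf (⊥ : Submodule F (ι → F)) (by omega)
  let N : Subgroup (Matrix.GeneralLinearGroup ι F) :=
    { carrier := {g | (∀ x y, f ((g : Matrix ι ι F) *ᵥ x) ((g : Matrix ι ι F) *ᵥ y) = f x y) ∧
        ∃ l : F, l * σ l = 1 ∧ (g : Matrix ι ι F).det = l ∧ g * (qr hf a0 l)⁻¹ ∈ T}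
      mul_mem' := by
        rintro g1 g2 ⟨h1, l1, hl1, hd1, ht1⟩ ⟨h2, l2, hl2, hd2, ht2⟩
        refine ⟨?_, l1 * l2, ?_, ?_, ?_⟩
        · intro x y
          rw [Units.val_mul, ← Matrix.mulVec_mulVec, ← Matrix.mulVec_mulVec, h1, h2]
        · rw [map_mul]
          linear_combination (l2 * σ l2) * hl1 + hl2
        · rw [Units.val_mul, Matrix.det_mul, hd1, hd2]
        · rw [← qr_mul hf a0 l1 l2 hl1 hl2]
          have e : g1 * g2 * (qr hf a0 l1 * qr hf a0 l2)⁻¹
              = (g1 * (qr hf a0 l1)⁻¹) *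
                (qr hf a0 l1 * (g2 * (qr hf a0 l2)⁻¹) * (qr hf a0 l1)⁻¹) := by group
          rw [e]
          exact T.mul_mem ht1 (hTnorm _ (qr_isom hf a0 l1) _ ht2)
      one_mem' := by
        refine ⟨fun x y => by simp, 1, by simp, by simp, ?_⟩
        rw [qr_one, inv_one, mul_one]
        exact T.one_mem
      inv_mem' := by
        rintro g1 ⟨h1, l1, hl1, hd1, ht1⟩
        have hl0 : l1 ≠ 0 := left_ne_zero_of_mul_eq_one hl1
        refine ⟨isom_inv g1 h1, l1⁻¹, ?_, ?_, ?_⟩
        · rw [map_inv₀, ← mul_inv, hl1, inv_one]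
        · have h3 : ((g1⁻¹ : Matrix.GeneralLinearGroup ι F) : Matrix ι ι F).det *
              (g1 : Matrix ι ι F).det = 1 := by
            rw [← Matrix.det_mul, ← Units.val_mul, inv_mul_cancel, Units.val_one, Matrix.det_one]
          rw [hd1] at h3
          exact eq_inv_of_mul_eq_one_left h3
        · rw [← qr_inv hf a0 l1 hl1, inv_inv]
          have e : g1⁻¹ * qr hf a0 l1
              = (qr hf a0 l1)⁻¹ * (g1 * (qr hf a0 l1)⁻¹)⁻¹ * ((qr hf a0 l1)⁻¹)⁻¹ := by group
          rw [e]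
          exact hTnorm _ (isom_inv _ (qr_isom hf a0 l1)) _ (T.inv_mem ht1) }
  have hNut : ∀ a κ, ut hf a κ ∈ N := by
    intro a κ
    refine ⟨ut_isom hf a κ, 1, by simp, ?_, ?_⟩
    · exact (mem_specialLinear_iff _).mp (ut_mem_SL hf a κ)
    · rw [qr_one, inv_one, mul_one]
      exact hutT a κ
  have hNqr : ∀ a l, qr hf a l ∈ N := by
    intro a l
    by_cases h : f a a ≠ 0 ∧ l * σ l = 1
    · refine ⟨qr_isom hf a l, l, h.2, qr_det hf a l h.1 h.2, ?_⟩
      have hfix : σ (f a0 a0 / f a a) = f a0 a0 / f a a := by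
        rw [map_div₀, self_fixed hf, self_fixed hf]
      obtain ⟨c, hc⟩ := norm_surj hf (f a0 a0 / f a a) hfix
      have hc0 : c ≠ 0 := by
        intro h0
        rw [h0, zero_mul] at hc
        exact (div_ne_zero ha0 h.1) hc.symm
      have hnorm : f a0 a0 = f (c • a) (c • a) := by
        rw [hf.smul_left, smul_right hf, ← mul_assoc, hc]
        have := h.1
        field_simp
      obtain ⟨t, tM, tiso, ta0⟩ := ut_trans3 hf hcard hex a0 (c • a) hnorm ha0
      have e1 : qr hf a l = t * qr hf a0 l * t⁻¹ := by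
        rw [qr_conj hf t tiso, ta0, qr_smul hf c hc0]
      rw [e1]
      have e2 : t * qr hf a0 l * t⁻¹ * (qr hf a0 l)⁻¹
          = t * (qr hf a0 l * t⁻¹ * (qr hf a0 l)⁻¹) := by group
      rw [e2]
      exact T.mul_mem (tM T hutT) (hTnorm _ (qr_isom hf a0 l) _ (T.inv_mem (tM T hutT)))
    · have : qr hf a l = 1 := by
        unfold qr
        rw [dif_neg h]
      rw [this]
      exact N.one_mem
  have hgN : g ∈ N := isom_mem_of_ut_qr hf N hNut hNqr (Fintype.card ι) g hg (by omega)
  obtain ⟨-, l, hl, hdl, hmem⟩ := hgN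
  rw [hdet] at hdl
  rw [← hdl, qr_one, inv_one, mul_one] at hmem
  exact hTM hmem

end gen3

section concrete

variable {F : Type*} [Field F] [Fintype F] {q : ℕ}

open Cfsg.Agent.Lib.Helper94.HermStd

theorem exists_fixed (hF : Fintype.card F = q ^ 2) (hq : q ≠ 2) :
    ∃ r : F, frobQ hF r = r ∧ r ≠ 0 ∧ r ≠ 1 := by
  classical
  have hq2 := q_two_le hF
  have hcard := Cfsg.Agent.S5071.card_fixed hF (frobHom hF) (fun x => rfl)
  have h3 : 2 < Fintype.card {x : F // frobHom hF x = x} := by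
    rw [← Nat.card_eq_fintype_card, hcard]
    omega
  obtain ⟨a, b, c, hab, hac, hbc⟩ := Fintype.two_lt_card_iff.1 h3
  have hab' : a.1 ≠ b.1 := fun h => hab (Subtype.ext h)
  have hac' : a.1 ≠ c.1 := fun h => hac (Subtype.ext h)
  have hbc' : b.1 ≠ c.1 := fun h => hbc (Subtype.ext h)
  by_cases ha : a.1 ≠ 0 ∧ a.1 ≠ 1
  · exact ⟨a.1, a.2, ha.1, ha.2⟩
  by_cases hb : b.1 ≠ 0 ∧ b.1 ≠ 1
  · exact ⟨b.1, b.2, hb.1, hb.2⟩
  by_cases hc : c.1 ≠ 0 ∧ c.1 ≠ 1
  · exact ⟨c.1, c.2, hc.1, hc.2⟩
  exfalso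
  have ha' : a.1 = 0 ∨ a.1 = 1 := by tauto
  have hb' : b.1 = 0 ∨ b.1 = 1 := by tauto
  have hc' : c.1 = 0 ∨ c.1 = 1 := by tauto
  rcases ha' with h1 | h1 <;> rcases hb' with h2 | h2 <;> rcases hc' with h3 | h3 <;>
    simp_all

/-- the embedding of `SU` into `GL` -/
def toGLhom (n : ℕ) (F : Type*) [Field F] (q : ℕ) :
    ↥(Cfsg.SU n F q) →* Matrix.GeneralLinearGroup (Fin n) F :=
  Matrix.SpecialLinearGroup.toGL.comp (Cfsg.SU n F q).subtype

omit [Fintype F] in
theorem toGLhom_injective (n : ℕ) : Function.Injective (toGLhom n F q) := by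
  intro g h hgh
  apply Subtype.ext
  exact Matrix.SpecialLinearGroup.toGL_injective hgh

theorem gen (hF : Fintype.card F = q ^ 2) (n : ℕ) (hn : 3 ≤ n) (h32 : ¬ (n = 3 ∧ q = 2)) :
    Subgroup.closure {A : ↥(Cfsg.SU n F q) | ∃ (v : Fin n → F) (c : F),
      Cfsg.hermForm n F q v v = 0 ∧ ((A : Matrix.SpecialLinearGroup (Fin n) F) :
        Matrix (Fin n) (Fin n) F) = Cfsg.unitaryTransvection n q v c} = ⊤ := by
  classical
  have hf := hermForm_isUnitary (n := n) hF
  have hex : 4 ≤ Fintype.card (Fin n) ∨ ∃ r : F, frobQ hF r = r ∧ r ≠ 0 ∧ r ≠ 1 := by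
    rw [Fintype.card_fin]
    by_cases h4 : 4 ≤ n
    · exact Or.inl h4
    · right
      apply exists_fixed hF
      intro hq
      exact h32 ⟨by omega, hq⟩
  obtain ⟨T, hT⟩ : ∃ T : Subgroup ↥(Cfsg.SU n F q), T = Subgroup.closure
    {A : ↥(Cfsg.SU n F q) | ∃ (v : Fin n → F) (c : F),
      Cfsg.hermForm n F q v v = 0 ∧ ((A : Matrix.SpecialLinearGroup (Fin n) F) :
        Matrix (Fin n) (Fin n) F) = Cfsg.unitaryTransvection n q v c} := ⟨_, rfl⟩
  rw [← hT]
  have hut : ∀ a κ, ut hf a κ ∈ T.map (toGLhom n F q) := by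
    intro a κ
    by_cases h : Cfsg.hermForm n F q a a = 0 ∧ frobQ hF κ = -κ
    · have hdet : ((ut hf a κ : Matrix.GeneralLinearGroup (Fin n) F) :
          Matrix (Fin n) (Fin n) F).det = 1 :=
        (mem_specialLinear_iff _).mp (ut_mem_SL hf a κ)
      refine Subgroup.mem_map.2 ⟨⟨⟨((ut hf a κ : Matrix.GeneralLinearGroup (Fin n) F) :
          Matrix (Fin n) (Fin n) F), hdet⟩, fun x y => ut_isom hf a κ x y⟩, ?_, ?_⟩
      · rw [hT]
        apply Subgroup.subset_closure
        refine ⟨a, κ, h.1, ?_⟩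
        show ((ut hf a κ : Matrix.GeneralLinearGroup (Fin n) F) : Matrix (Fin n) (Fin n) F) =
          Cfsg.unitaryTransvection n q a κ
        rw [Matrix.ext_iff_mulVec]
        intro x
        rw [ut_mulVec hf a κ h.1 h.2]
        unfold Cfsg.unitaryTransvection
        rw [← Matrix.smul_vecMulVec, Cfsg.Agent.S0781.rank_one_mulVec, smul_smul]
        congr 2
        rw [mul_comm]
        congr 1
        unfold Cfsg.hermForm dotProduct
        apply Finset.sum_congr rfl
        intro i _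
        ring
      · apply Units.ext
        rfl
    · have h1 : ut hf a κ = 1 := by
        unfold ut
        rw [dif_neg h]
      rw [h1]
      exact Subgroup.one_mem _
  rw [eq_top_iff]
  rintro g -
  have hg := isom_mem_of_ut3 hf (by rw [Fintype.card_fin]; exact hn) hex
    (T.map (toGLhom n F q)) hut (toGLhom n F q g) (fun x y => g.2 x y) g.1.2
  obtain ⟨t, ht, htg⟩ := Subgroup.mem_map.1 hg
  rw [← toGLhom_injective n htg]
  exact ht

end concrete

/-- Generation of SU_n(q), n ≥ 3, (n, q) ≠ (3, 2), by unitary transvections: the subgroup generated by the elements whose matrix is x ↦ x + c h(x, v) v with v isotropic is all of SU_n(q). -/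
theorem result {F : Type*} [Field F] [Fintype F] {q : ℕ} (hF : Fintype.card F = q ^ 2) (n : ℕ) (hn : 3 ≤ n) (h32 : ¬ (n = 3 ∧ q = 2)) : Subgroup.closure {A : ↥(Cfsg.SU n F q) | ∃ (v : Fin n → F) (c : F), Cfsg.hermForm n F q v v = 0 ∧ ((A : Matrix.SpecialLinearGroup (Fin n) F) : Matrix (Fin n) (Fin n) F) = Cfsg.unitaryTransvection n q v c} = ⊤ := by
  exact gen hF n hn h32

end Cfsg.Agent.S0780
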