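import Cfsg.Statements.S0303
import Mathlib
import Cfsg.Agent.S0300
import Cfsg.Agent.S0302
import Cfsg.Agent.S0278
import Cfsg.Agent.S0780
import Cfsg.Agent.S0781
import Cfsg.Agent.Lib.Helper5.OmegaIso
import Cfsg.Agent.Lib.Helper5.OmegaPlus
import Cfsg.Agent.Lib.Helper5.SL2Card
import Cfsg.Agent.Lib.Helper5.QuadExt
import Cfsg.Agent.Lib.Helper5.SUBasic
import Cfsg.Agent.Lib.Helper14.OrthIndex
import Cfsg.Agent.Lib.Helper45.OrthCard
import Cfsg.Agent.Lib.Helper45.OmegaCenter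
import Cfsg.Agent.Lib.Helper40.HermAdj
import Cfsg.Agent.Lib.Helper39.LSStd

set_option autoImplicit false
open Cfsg

namespace Cfsg.Agent.S0303

open Matrix
open Cfsg.Agent.Lib.Helper5.QuadExt
open Cfsg.Agent.S0302 (W W_mul W_one Q6 W_iso W_ker)

section general

variable {K : Type*} [Field K]

/-- the swap of the two halves of the Plücker coordinates -/
def P : Matrix (Fin 6) (Fin 6) K :=
  !![0, 0, 0, 1, 0, 0; 0, 0, 0, 0, 1, 0; 0, 0, 0, 0, 0, 1;
     1, 0, 0, 0, 0, 0; 0, 1, 0, 0, 0, 0; 0, 0, 1, 0, 0, 0]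

theorem P_mul_P : (P : Matrix (Fin 6) (Fin 6) K) * P = 1 := by
  ext i j
  fin_cases i <;> fin_cases j <;>
    simp [P, Matrix.mul_apply, Fin.sum_univ_six]

theorem P_map (φ : K →+* K) : (P : Matrix (Fin 6) (Fin 6) K).map φ = P := by
  ext i j
  fin_cases i <;> fin_cases j <;> simp [P]

theorem W_transpose (g : Matrix (Fin 4) (Fin 4) K) : W gᵀ = (W g)ᵀ := by
  ext a b
  fin_cases a <;> fin_cases b <;>
    simp [W, Cfsg.Agent.S0302.i1, Cfsg.Agent.S0302.i2, Cfsg.Agent.S0302.sg] <;> ring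

theorem W_map (φ : K →+* K) (g : Matrix (Fin 4) (Fin 4) K) : W (g.map φ) = (W g).map φ := by
  ext a b
  fin_cases a <;> fin_cases b <;>
    simp [W, Cfsg.Agent.S0302.i1, Cfsg.Agent.S0302.i2, Cfsg.Agent.S0302.sg]

theorem polar (u v : Fin 6 → K) : Q6 (u + v) - Q6 u - Q6 v = u ⬝ᵥ (P *ᵥ v) := by
  simp [Q6, P, Matrix.mulVec, dotProduct, Fin.sum_univ_six]
  ring

theorem W_P (g : Matrix.SpecialLinearGroup (Fin 4) K) :
    (W (g : Matrix (Fin 4) (Fin 4) K))ᵀ * P * W (g : Matrix (Fin 4) (Fin 4) K) = P := by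
  obtain ⟨A, hA⟩ : ∃ A, A = W (g : Matrix (Fin 4) (Fin 4) K) := ⟨_, rfl⟩
  rw [← hA]
  have key : ∀ u v : Fin 6 → K, u ⬝ᵥ ((Aᵀ * P * A) *ᵥ v) = u ⬝ᵥ (P *ᵥ v) := by
    intro u v
    have h1 : Q6 (A *ᵥ (u + v)) - Q6 (A *ᵥ u) - Q6 (A *ᵥ v) = Q6 (u + v) - Q6 u - Q6 v := by
      rw [hA, W_iso, W_iso, W_iso]
    rw [Matrix.mulVec_add, polar, polar] at h1
    rw [← h1, ← Matrix.mulVec_mulVec, ← Matrix.mulVec_mulVec, Matrix.dotProduct_mulVec,
      Matrix.vecMul_transpose]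
  ext i j
  have := key (Pi.single i 1) (Pi.single j 1)
  simpa using this

theorem W_unitary (φ : K →+* K) (g : Matrix (Fin 4) (Fin 4) K)
    (hdet : g.det = 1) (hg : (g.map φ)ᵀ * g = 1) :
    (W g).map φ * P = P * W g := by
  have h1 : ((W g).map φ)ᵀ * W g = 1 := by
    rw [← W_map, ← W_transpose, ← W_mul, hg, W_one]
  have h2 : W g * ((W g).map φ)ᵀ = 1 := _root_.mul_eq_one_comm.mp h1
  have h3 : (W g).map φ * (W g)ᵀ = 1 := by
    have := congrArg Matrix.transpose h2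
    rw [Matrix.transpose_mul, Matrix.transpose_transpose, Matrix.transpose_one] at this
    exact this
  have h4 : (W g)ᵀ * P * W g = P := W_P (⟨g, hdet⟩ : Matrix.SpecialLinearGroup (Fin 4) K)
  calc (W g).map φ * P = (W g).map φ * ((W g)ᵀ * P * W g) := by rw [h4]
    _ = ((W g).map φ * (W g)ᵀ) * P * W g := by simp only [Matrix.mul_assoc]
    _ = P * W g := by rw [h3, Matrix.one_mul]

theorem map_mulVec' {F : Type*} [Field F] (f : F →+* K) (M : Matrix (Fin 6) (Fin 6) F)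
    (v : Fin 6 → F) : f ∘ (M *ᵥ v) = (M.map f) *ᵥ (f ∘ v) := by
  funext i
  simp [Matrix.mulVec, dotProduct, map_sum, map_mul]

end general

/-- the data of the descent: the conjugation, the embedding of the small field, and scalars -/
structure Setup (F K : Type*) [Field F] [Field K] (a b : F) (q : ℕ) where
  /-- the conjugation -/
  φ : K →+* K
  /-- the embedding -/
  ι : F →+* K
  /-- a retraction of the embedding -/
  re : K → F
  /-- a root of the quadratic -/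
  ϑ : K
  /-- an element of trace one -/
  κ : K
  /-- an element of norm minus one -/
  ε : K
  /-- the inverse of the discriminant -/
  Di : K
  hφq : ∀ x, φ x = x ^ q
  hφ2 : ∀ x, φ (φ x) = x
  hφι : ∀ c, φ (ι c) = ι c
  hϑ : ϑ ^ 2 = ι a * ϑ - ι b
  hφϑ : φ ϑ = ι a - ϑ
  hε : ε * φ ε = -1
  hκ : κ + φ κ = 1
  hD : Di * (4 * ι b - ι a ^ 2) = 1
  hφD : φ Di = Di
  hre : ∀ x, φ x = x → ι (re x) = x

section descent

variable {F K : Type*} [Field F] [Field K] {a b : F} {q : ℕ} (S : Setup F K a b q)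

/-- the change of coordinates from the `F`-structure to Plücker coordinates -/
def Psi : Matrix (Fin 6) (Fin 6) K :=
  !![S.κ, (2 * S.ι b - S.ι a * S.ϑ) * S.Di, S.κ * S.ϑ, (2 * S.ϑ - S.ι a) * S.Di, 0, 0;
     S.φ S.ε * S.φ S.κ, -(S.φ S.ε * ((2 * S.ι b - S.ι a * S.ϑ) * S.Di)),
       S.φ S.ε * S.φ S.κ * S.ϑ, -(S.φ S.ε * ((2 * S.ϑ - S.ι a) * S.Di)), 0, 0;
     0, 0, 0, 0, 1, S.ϑ;
     S.φ S.κ, (2 * S.ι b - S.ι a * (S.ι a - S.ϑ)) * S.Di, S.φ S.κ * (S.ι a - S.ϑ),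
       (2 * (S.ι a - S.ϑ) - S.ι a) * S.Di, 0, 0;
     S.ε * S.κ, -(S.ε * ((2 * S.ι b - S.ι a * (S.ι a - S.ϑ)) * S.Di)),
       S.ε * S.κ * (S.ι a - S.ϑ), -(S.ε * ((2 * (S.ι a - S.ϑ) - S.ι a) * S.Di)), 0, 0;
     0, 0, 0, 0, 1, S.ι a - S.ϑ]

/-- the form in the `F`-coordinates -/
def Qm (a b : F) (v : Fin 6 → F) : F :=
  v 0 * v 1 + v 2 * v 3 + (v 4 ^ 2 + a * v 4 * v 5 + b * v 5 ^ 2)

/-- the Gram matrix of the polar form of `Qm` -/
def G (a b : F) : Matrix (Fin 6) (Fin 6) F :=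
  !![0, 1, 0, 0, 0, 0; 1, 0, 0, 0, 0, 0; 0, 0, 0, 1, 0, 0;
     0, 0, 1, 0, 0, 0; 0, 0, 0, 0, 2, a; 0, 0, 0, 0, a, 2 * b]

/-- the inverse of the Gram matrix, over the big field -/
def GinvK : Matrix (Fin 6) (Fin 6) K :=
  !![0, 1, 0, 0, 0, 0; 1, 0, 0, 0, 0, 0; 0, 0, 0, 1, 0, 0;
     0, 0, 1, 0, 0, 0; 0, 0, 0, 0, 2 * S.ι b * S.Di, -(S.ι a * S.Di);
     0, 0, 0, 0, -(S.ι a * S.Di), 2 * S.Di]

theorem P_Psi_map : P * (Psi S).map S.φ = Psi S := by
  have h1 := S.hφ2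
  have h2 := S.hφι
  have h3 := S.hφϑ
  have h4 := S.hφD
  ext i j
  fin_cases i <;> fin_cases j <;>
    simp [Psi, P, Matrix.mul_apply, Fin.sum_univ_six, h1, h2, h3, h4, map_ofNat]

theorem Q6_Psi (v : Fin 6 → F) : Q6 ((Psi S) *ᵥ (S.ι ∘ v)) = S.ι (Qm a b v) := by
  have hϑ := S.hϑ
  have hε := S.hε
  have hκ := S.hκ
  have hD := S.hD
  simp [Q6, Qm, Psi, Matrix.mulVec, dotProduct, Fin.sum_univ_six]
  grind

theorem Gram : (Psi S)ᵀ * P * Psi S = (G a b).map S.ι := by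
  have hϑ := S.hϑ
  have hε := S.hε
  have hκ := S.hκ
  have hD := S.hD
  ext i j
  fin_cases i <;> fin_cases j <;>
    simp [Psi, P, G, Matrix.mul_apply, Fin.sum_univ_six, map_ofNat] <;> grind

theorem GinvK_mul : GinvK S * (G a b).map S.ι = 1 := by
  have hD := S.hD
  ext i j
  fin_cases i <;> fin_cases j <;>
    simp [GinvK, G, Matrix.mul_apply, Fin.sum_univ_six, map_ofNat] <;> grind

/-- the inverse change of coordinates -/
def Pi' : Matrix (Fin 6) (Fin 6) K := GinvK S * (Psi S)ᵀ * P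

theorem Pi_mul_Psi : Pi' S * Psi S = 1 := by
  rw [Pi', Matrix.mul_assoc, Matrix.mul_assoc, ← Matrix.mul_assoc (Psi S)ᵀ, Gram, GinvK_mul]

theorem Psi_mul_Pi : Psi S * Pi' S = 1 := _root_.mul_eq_one_comm.mp (Pi_mul_Psi S)

theorem Psi_map : (Psi S).map S.φ = P * Psi S := by
  have h := congrArg (fun M => (P : Matrix (Fin 6) (Fin 6) K) * M) (P_Psi_map S)
  simp only [← Matrix.mul_assoc, P_mul_P, Matrix.one_mul] at h
  exact h

theorem Pi_map : (Pi' S).map S.φ = Pi' S * P := by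
  have h1 : (Pi' S).map S.φ * (Psi S).map S.φ = 1 := by
    rw [← Matrix.map_mul, Pi_mul_Psi]
    ext i j
    by_cases hij : i = j <;> simp [Matrix.one_apply, hij]
  rw [Psi_map, ← Matrix.mul_assoc] at h1
  have h2 : (Pi' S).map S.φ * P = Pi' S := by
    calc (Pi' S).map S.φ * P = (Pi' S).map S.φ * P * (Psi S * Pi' S) := by
          rw [Psi_mul_Pi, Matrix.mul_one]
      _ = ((Pi' S).map S.φ * P * Psi S) * Pi' S := by simp only [Matrix.mul_assoc]
      _ = Pi' S := by rw [h1, Matrix.one_mul]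
  calc (Pi' S).map S.φ = (Pi' S).map S.φ * (P * P) := by rw [P_mul_P, Matrix.mul_one]
    _ = ((Pi' S).map S.φ * P) * P := by rw [Matrix.mul_assoc]
    _ = Pi' S * P := by rw [h2]

/-- the action in the `F`-coordinates, over the big field -/
def R (g : Matrix (Fin 4) (Fin 4) K) : Matrix (Fin 6) (Fin 6) K := Pi' S * W g * Psi S

theorem R_mul (g h : Matrix (Fin 4) (Fin 4) K) : R S (g * h) = R S g * R S h := by
  unfold R
  rw [W_mul]
  calc Pi' S * (W g * W h) * Psi S = Pi' S * W g * 1 * W h * Psi S := by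
        rw [Matrix.mul_one]
        simp only [Matrix.mul_assoc]
    _ = Pi' S * W g * Psi S * (Pi' S * W h * Psi S) := by
        rw [← Psi_mul_Pi S]
        simp only [Matrix.mul_assoc]

theorem R_one : R S (1 : Matrix (Fin 4) (Fin 4) K) = 1 := by
  unfold R
  rw [W_one, Matrix.mul_one, Pi_mul_Psi]

theorem Psi_mul_R (g : Matrix (Fin 4) (Fin 4) K) : Psi S * R S g = W g * Psi S := by
  unfold R
  rw [← Matrix.mul_assoc, ← Matrix.mul_assoc, Psi_mul_Pi, Matrix.one_mul]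

theorem W_of_R (g : Matrix (Fin 4) (Fin 4) K) (h : R S g = 1) : W g = 1 := by
  have h1 := Psi_mul_R S g
  rw [h, Matrix.mul_one] at h1
  calc W g = W g * (Psi S * Pi' S) := by rw [Psi_mul_Pi, Matrix.mul_one]
    _ = (W g * Psi S) * Pi' S := by rw [Matrix.mul_assoc]
    _ = 1 := by rw [← h1, Psi_mul_Pi]

theorem R_map (g : Matrix (Fin 4) (Fin 4) K) (hdet : g.det = 1)
    (hg : (g.map S.φ)ᵀ * g = 1) : (R S g).map S.φ = R S g := by
  unfold R
  rw [Matrix.map_mul, Matrix.map_mul, Pi_map, Psi_map]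
  calc Pi' S * P * (W g).map S.φ * (P * Psi S)
      = Pi' S * P * ((W g).map S.φ * P) * Psi S := by simp only [Matrix.mul_assoc]
    _ = Pi' S * (P * P) * W g * Psi S := by
        rw [W_unitary S.φ g hdet hg]
        simp only [Matrix.mul_assoc]
    _ = Pi' S * W g * Psi S := by rw [P_mul_P, Matrix.mul_one]

/-- the action in the `F`-coordinates -/
def ρm (g : Matrix (Fin 4) (Fin 4) K) : Matrix (Fin 6) (Fin 6) F := (R S g).map S.re

theorem ρm_map (g : Matrix (Fin 4) (Fin 4) K) (hdet : g.det = 1)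
    (hg : (g.map S.φ)ᵀ * g = 1) : (ρm S g).map S.ι = R S g := by
  ext i j
  have h := congrFun (congrFun (R_map S g hdet hg) i) j
  rw [Matrix.map_apply] at h
  rw [Matrix.map_apply, ρm, Matrix.map_apply]
  exact S.hre _ h

theorem map_ι_injective : Function.Injective (fun M : Matrix (Fin 6) (Fin 6) F => M.map S.ι) :=
  Matrix.map_injective S.ι.injective

theorem ρm_iso (g : Matrix (Fin 4) (Fin 4) K) (hdet : g.det = 1)
    (hg : (g.map S.φ)ᵀ * g = 1) (v : Fin 6 → F) : Qm a b (ρm S g *ᵥ v) = Qm a b v := by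
  apply S.ι.injective
  rw [← Q6_Psi, ← Q6_Psi, map_mulVec', ρm_map S g hdet hg, Matrix.mulVec_mulVec, Psi_mul_R,
    ← Matrix.mulVec_mulVec]
  exact W_iso (⟨g, hdet⟩ : Matrix.SpecialLinearGroup (Fin 4) K) _

end descent

section group

variable {F K : Type*} [Field F] [Field K] {a b : F} {q : ℕ} (S : Setup F K a b q)

/-- the underlying matrix -/
def mat (g : Cfsg.SU 4 K q) : Matrix (Fin 4) (Fin 4) K :=
  ((g : Matrix.SpecialLinearGroup (Fin 4) K) : Matrix (Fin 4) (Fin 4) K)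

theorem mat_mul (g h : Cfsg.SU 4 K q) : mat (g * h) = mat g * mat h := rfl

theorem mat_one : mat (1 : Cfsg.SU 4 K q) = 1 := rfl

theorem mat_det (g : Cfsg.SU 4 K q) : (mat g).det = 1 :=
  (g : Matrix.SpecialLinearGroup (Fin 4) K).det_coe

theorem mat_unitary (g : Cfsg.SU 4 K q) : ((mat g).map S.φ)ᵀ * mat g = 1 :=
  (Cfsg.Agent.Lib.Helper40.HermAdj.preserves_iff S.φ S.hφq (mat g)).mp
    ((Cfsg.Agent.Lib.Helper5.SUBasic.mem_SU_iff _).mp g.2)

theorem map_one_ι : (1 : Matrix (Fin 6) (Fin 6) F).map S.ι = 1 := by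
  ext i j
  by_cases hij : i = j <;> simp [Matrix.one_apply, hij]

theorem ρm_mul (g h : Cfsg.SU 4 K q) :
    ρm S (mat (g * h)) = ρm S (mat g) * ρm S (mat h) := by
  apply map_ι_injective S
  show (ρm S (mat (g * h))).map S.ι = (ρm S (mat g) * ρm S (mat h)).map S.ι
  rw [Matrix.map_mul, ρm_map S _ (mat_det _) (mat_unitary S _),
    ρm_map S _ (mat_det _) (mat_unitary S _), ρm_map S _ (mat_det _) (mat_unitary S _),
    mat_mul, R_mul]

theorem ρm_one : ρm S (mat (1 : Cfsg.SU 4 K q)) = 1 := by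
  apply map_ι_injective S
  show (ρm S (mat (1 : Cfsg.SU 4 K q))).map S.ι = (1 : Matrix (Fin 6) (Fin 6) F).map S.ι
  rw [ρm_map S _ (mat_det _) (mat_unitary S _), mat_one, R_one, map_one_ι]

/-- index type of the form -/
abbrev I6' : Type := (Fin 2 ⊕ Fin 2) ⊕ Fin 2

/-- relabelling -/
def e6' : Fin 6 ≃ I6' where
  toFun i := ![Sum.inl (Sum.inl 0), Sum.inl (Sum.inr 0), Sum.inl (Sum.inl 1),
    Sum.inl (Sum.inr 1), Sum.inr 0, Sum.inr 1] i
  invFun j := match j with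
    | Sum.inl (Sum.inl i) => ![0, 2] i
    | Sum.inl (Sum.inr i) => ![1, 3] i
    | Sum.inr i => ![4, 5] i
  left_inv := by intro i; fin_cases i <;> rfl
  right_inv := by
    rintro ((i | i) | i) <;> fin_cases i <;> rfl

theorem quad_eq (v : I6' → F) : Cfsg.quadFormMinus 2 F a b v = Qm a b (v ∘ e6') := by
  simp [Cfsg.quadFormMinus, Qm, e6', Fin.sum_univ_two]

theorem iso_of_fin6' (N : Matrix (Fin 6) (Fin 6) F) (hN : ∀ u, Qm a b (N *ᵥ u) = Qm a b u)
    (v : I6' → F) :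
    Cfsg.quadFormMinus 2 F a b (N.submatrix e6'.symm e6'.symm *ᵥ v) =
      Cfsg.quadFormMinus 2 F a b v := by
  rw [quad_eq, quad_eq, Matrix.submatrix_mulVec_equiv]
  have : ((N *ᵥ (v ∘ ⇑e6'.symm.symm)) ∘ ⇑e6'.symm) ∘ ⇑e6' = N *ᵥ (v ∘ e6') := by
    funext i
    simp
  rw [this, hN]

/-- the representation, as matrices -/
def ρ₀ : Cfsg.SU 4 K q →* Matrix I6' I6' F where
  toFun g := (ρm S (mat g)).submatrix e6'.symm e6'.symm
  map_one' := by
    rw [ρm_one, Matrix.submatrix_one_equiv]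
  map_mul' g h := by
    rw [ρm_mul, Matrix.submatrix_mul_equiv]

theorem ρ₀_mem (g : Cfsg.SU 4 K q) :
    (ρ₀ S).toHomUnits g ∈ Cfsg.isometryGroup F (Cfsg.quadFormMinus 2 F a b) := by
  intro u _
  exact iso_of_fin6' _ (ρm_iso S _ (mat_det g) (mat_unitary S g)) u

/-- the representation into the isometry group -/
def ρ : Cfsg.SU 4 K q →* Cfsg.isometryGroup F (Cfsg.quadFormMinus 2 F a b) :=
  (ρ₀ S).toHomUnits.codRestrict _ (ρ₀_mem S)

theorem ρ_coe (g : Cfsg.SU 4 K q) :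
    (((ρ S g : Cfsg.isometryGroup F (Cfsg.quadFormMinus 2 F a b)) : GL I6' F) :
      Matrix I6' I6' F) = (ρm S (mat g)).submatrix e6'.symm e6'.symm := rfl

theorem ker_scalar (g : Cfsg.SU 4 K q) (hg : g ∈ (ρ S).ker) :
    ∃ r : K, r ^ 2 = 1 ∧ Matrix.scalar (Fin 4) r = mat g := by
  rw [MonoidHom.mem_ker] at hg
  have H : (ρm S (mat g)).submatrix e6'.symm e6'.symm = 1 := by
    have h1 := ρ_coe S g
    rw [hg] at h1
    exact h1.symm
  have H' : ρm S (mat g) = 1 := by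
    have := congrArg (fun N : Matrix I6' I6' F => N.submatrix e6' e6') H
    simpa using this
  have H'' : R S (mat g) = 1 := by
    rw [← ρm_map S _ (mat_det _) (mat_unitary S _), H', map_one_ι]
  exact W_ker _ (W_of_R S _ H'')

theorem ker_entry (g : (ρ S).ker) :
    mat (g : Cfsg.SU 4 K q) 0 0 ^ 2 = 1 ∧
      Matrix.scalar (Fin 4) (mat (g : Cfsg.SU 4 K q) 0 0) = mat (g : Cfsg.SU 4 K q) := by
  obtain ⟨r, hr, hrg⟩ := ker_scalar S (g : Cfsg.SU 4 K q) g.2
  have h00 : mat (g : Cfsg.SU 4 K q) 0 0 = r := by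
    rw [← hrg]
    simp
  rw [h00]
  exact ⟨hr, hrg⟩

theorem ker_le : (ρ S).ker ≤ Subgroup.center (Cfsg.SU 4 K q) := by
  intro g hg
  obtain ⟨r, hr, hrg⟩ := ker_scalar S g hg
  rw [Subgroup.mem_center_iff]
  intro h
  apply Subtype.ext
  apply Subtype.ext
  show mat h * mat g = mat g * mat h
  rw [← hrg]
  exact ((Matrix.scalar_commute r (fun r' => mul_comm r r') (mat h)).eq).symm

theorem card_ker_le [Fintype K] :
    Nat.card (ρ S).ker ≤ Nat.gcd 2 (Fintype.card K - 1) := by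
  classical
  have hne : ∀ g : (ρ S).ker, mat (g : Cfsg.SU 4 K q) 0 0 ≠ 0 := by
    intro g h0
    have := (ker_entry S g).1
    rw [h0] at this
    simp at this
  let f : (ρ S).ker → (powMonoidHom 2 : Kˣ →* Kˣ).ker := fun g =>
    ⟨Units.mk0 _ (hne g), by
      rw [MonoidHom.mem_ker]
      apply Units.ext
      simp only [powMonoidHom_apply, Units.val_pow_eq_pow_val, Units.val_mk0, Units.val_one]
      exact (ker_entry S g).1⟩
  have hf : Function.Injective f := by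
    intro g g' hgg
    have h1 : mat (g : Cfsg.SU 4 K q) 0 0 = mat (g' : Cfsg.SU 4 K q) 0 0 := by
      have := congrArg (fun x : (powMonoidHom 2 : Kˣ →* Kˣ).ker => ((x : Kˣ) : K)) hgg
      simpa [f] using this
    apply Subtype.ext
    apply Subtype.ext
    apply Subtype.ext
    show mat (g : Cfsg.SU 4 K q) = mat (g' : Cfsg.SU 4 K q)
    rw [← (ker_entry S g).2, ← (ker_entry S g').2, h1]
  have h2 := Nat.card_le_card_of_injective f hf
  rw [IsCyclic.card_powMonoidHom_ker, Cfsg.Agent.Lib.Helper5.SL2Card.card_units (F := K) rfl,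
    Nat.gcd_comm] at h2
  exact h2

end group

theorem exists_setup {F K : Type*} [Field F] [Fintype F] [Field K] [Fintype K] {q : ℕ}
    (hF : Fintype.card F = q) (hK : Fintype.card K = q ^ 2) (a b : F)
    (hab : ∀ z₁ z₂ : F, z₁ ^ 2 + a * z₁ * z₂ + b * z₂ ^ 2 = 0 → z₁ = 0 ∧ z₂ = 0) :
    Nonempty (Setup F K a b q) := by
  classical
  obtain ⟨e⟩ := exists_equiv (K := K) (F := F) (a := a) (b := b) (hK.trans (by rw [hF])) hab
  obtain ⟨φ, hφq, hφ2, l, hl⟩ := Cfsg.Agent.Lib.Helper40.HermAdj.exists_phi hK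
  obtain ⟨ε, κ, hε, hκ⟩ := Cfsg.Agent.Lib.Helper39.LSStd.exists_scalars (φ := φ) hφ2 l hl
  let of : F →+* Ext F a b :=
    { toFun := fun c => ⟨c, 0⟩
      map_one' := rfl
      map_mul' := by intro x y; ext <;> simp
      map_zero' := rfl
      map_add' := by intro x y; ext <;> simp }
  let ι : F →+* K := (e.symm.toRingHom).comp of
  obtain ⟨ϑ, hϑdef⟩ : ∃ ϑ : K, ϑ = e.symm Ext.θ := ⟨_, rfl⟩
  have heι : ∀ c, e (ι c) = ⟨c, 0⟩ := fun c => e.apply_symm_apply _
  have heϑ : e ϑ = Ext.θ := by rw [hϑdef]; exact e.apply_symm_apply _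
  have hdec : ∀ x : K, x = ι (e x).re + ι (e x).im * ϑ := by
    intro x
    apply e.injective
    rw [map_add, map_mul, heι, heι, heϑ]
    ext <;> simp
  have hφι : ∀ c, φ (ι c) = ι c := by
    intro c
    rw [hφq, ← map_pow, ← hF, FiniteField.pow_card]
  have hϑ : ϑ ^ 2 = ι a * ϑ - ι b := by
    apply e.injective
    rw [map_pow, map_sub, map_mul, heι, heι, heϑ]
    ext <;> simp [pow_two]
  have hφϑ' : (φ ϑ - ϑ) * (φ ϑ - (ι a - ϑ)) = 0 := by
    have h1 := congrArg φ hϑ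
    rw [map_pow, map_sub, map_mul, hφι, hφι] at h1
    linear_combination h1 - hϑ
  have hne : φ ϑ ≠ ϑ := by
    intro h
    apply hl
    rw [hdec l, map_add, map_mul, hφι, hφι, h]
  have hφϑ : φ ϑ = ι a - ϑ := by
    rcases mul_eq_zero.mp hφϑ' with h | h
    · exact absurd (sub_eq_zero.mp h) hne
    · exact sub_eq_zero.mp h
  have hΔ : 4 * b - a ^ 2 ≠ 0 := by
    intro h0
    obtain ⟨ha, h2⟩ := hab a (-2) (by linear_combination h0)
    have h2' : (2 : F) = 0 := by linear_combination -h2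
    have : CharP F 2 := CharTwo.of_one_ne_zero_of_two_eq_zero one_ne_zero h2'
    have hchar : ringChar F = 2 := ringChar.eq F 2
    obtain ⟨r, hr⟩ := FiniteField.isSquare_of_char_two hchar b
    have h3 := hab r 1 (by rw [ha, hr]; linear_combination (r * r) * h2')
    exact one_ne_zero h3.2
  have hD : ι (4 * b - a ^ 2)⁻¹ * (4 * ι b - ι a ^ 2) = 1 := by
    have h1 : ι (4 * b - a ^ 2)⁻¹ * ι (4 * b - a ^ 2) = 1 := by
      rw [← map_mul, inv_mul_cancel₀ hΔ, map_one]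
    rw [← h1]
    simp [map_sub, map_mul, map_pow, map_ofNat]
  have hre : ∀ x, φ x = x → ι (e x).re = x := by
    intro x hx
    have h1 := hdec x
    have h2 : φ x = ι (e x).re + ι (e x).im * (ι a - ϑ) := by
      conv_lhs => rw [h1]
      rw [map_add, map_mul, hφι, hφι, hφϑ]
    have h3 : ι (e x).im * ((ι a - ϑ) - ϑ) = 0 := by
      linear_combination h1 - h2 + hx
    have h4 : (ι a - ϑ) - ϑ ≠ 0 := by
      intro h
      apply hne
      rw [hφϑ]
      exact sub_eq_zero.mp h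
    have h5 : ι (e x).im = 0 := (mul_eq_zero.mp h3).resolve_right h4
    rw [h5, zero_mul, add_zero] at h1
    exact h1.symm
  exact ⟨{ φ := φ, ι := ι, re := fun x => (e x).re, ϑ := ϑ, κ := κ, ε := ε,
           Di := ι (4 * b - a ^ 2)⁻¹, hφq := hφq, hφ2 := hφ2, hφι := hφι, hϑ := hϑ,
           hφϑ := hφϑ, hε := hε, hκ := hκ, hD := hD, hφD := hφι _, hre := hre }⟩

/-- PΩ^-_6(q) is isomorphic to PSU_4(q). -/
theorem result {F K : Type*} [Field F] [Fintype F] [Field K] [Fintype K] {q : ℕ} (hF : Fintype.card F = q) (hK : Fintype.card K = q ^ 2) (a b : F) (hab : ∀ z₁ z₂ : F, z₁ ^ 2 + a * z₁ * z₂ + b * z₂ ^ 2 = 0 → z₁ = 0 ∧ z₂ = 0) : Nonempty (Cfsg.POmega F (Cfsg.quadFormMinus 2 F a b) ≃* Cfsg.PSU 4 K q) := by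
  classical
  obtain ⟨S⟩ := exists_setup (K := K) hF hK a b hab
  have hq : 2 ≤ q := hF ▸ Cfsg.Agent.Lib.Helper5.SL2Card.two_le_card
  have hperf : commutator (Cfsg.SU 4 K q) = ⊤ := by
    rw [commutator_eq_closure, eq_top_iff,
      ← Cfsg.Agent.S0780.result hK 4 (by norm_num) (by omega)]
    apply Subgroup.closure_mono
    rintro A ⟨v, c, hv, hA⟩
    exact Cfsg.Agent.S0781.result hK 4 (Or.inl le_rfl) A v c hv hA
  have hle : (ρ S).range ≤ commutator (Cfsg.isometryGroup F (Cfsg.quadFormMinus 2 F a b)) := by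
    rintro _ ⟨g, rfl⟩
    have hg : g ∈ commutator (Cfsg.SU 4 K q) := by
      rw [hperf]
      exact Subgroup.mem_top _
    rw [commutator_def] at hg ⊢
    have h1 : (ρ S) g ∈ Subgroup.map (ρ S)
        ⁅(⊤ : Subgroup (Cfsg.SU 4 K q)), (⊤ : Subgroup (Cfsg.SU 4 K q))⁆ :=
      Subgroup.mem_map_of_mem _ hg
    rw [Subgroup.map_commutator] at h1
    exact Subgroup.commutator_mono le_top le_top h1
  obtain ⟨T, hT⟩ : ∃ T : ℕ, T = q ^ 6 * (q ^ 3 + 1) * ((q ^ 2 - 1) * (q ^ 4 - 1)) := ⟨_, rfl⟩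
  obtain ⟨c, hc⟩ : ∃ c : ℕ, c = Nat.gcd 2 (q - 1) := ⟨_, rfl⟩
  have hcpos : 0 < c := by
    rw [hc]
    exact Nat.gcd_pos_of_pos_left _ (by norm_num)
  have hO : Nat.card (Cfsg.isometryGroup F (Cfsg.quadFormMinus 2 F a b)) = 2 * T := by
    have h := Cfsg.Agent.Lib.Helper45.OrthCard.card_minus hF a b hab 2
    rw [h, hT]
    simp [Finset.prod_range_succ]
    ring
  have hS := Cfsg.Agent.Lib.Helper45.OmegaCenter.sep_minusQ' (F := F) 2 a b hab
  have hcardι : Fintype.card ((Fin 2 ⊕ Fin 2) ⊕ Fin 2) = 6 := by simp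
  have hidx : (Cfsg.Omega F (Cfsg.quadFormMinus 2 F a b)).index = 2 * c := by
    by_cases h2 : (2 : F) = 0
    · rw [hc, ← hF, Cfsg.Agent.Lib.Helper5.OmegaPlus.gcd_two_of_eq h2]
      have : CharP F 2 := CharTwo.of_one_ne_zero_of_two_eq_zero one_ne_zero h2
      have h1 := Cfsg.Agent.Lib.Helper44.OMat2.index_omega_eq
        (Cfsg.Agent.Lib.Helper44.NegPairs.minusQ 2 F a b)
      rw [Cfsg.Agent.Lib.Helper44.NegPairs.coe_minusQ] at h1
      rw [h1]
      exact Cfsg.Agent.Lib.Helper44.Omega2.index_commutator_two hS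
        (Or.inr (Or.inl (by rw [Module.finrank_fintype_fun_eq_card, hcardι]; norm_num)))
    · rw [hc, ← hF, Cfsg.Agent.Lib.Helper5.OmegaPlus.gcd_two_of_ne h2]
      exact Cfsg.Agent.Lib.Helper14.OrthIndex.index_omega h2
        (Cfsg.Agent.Lib.Helper44.NegPairs.minusQ 2 F a b) hS (by rw [hcardι]; norm_num)
  have hΩ : Nat.card (commutator (Cfsg.isometryGroup F (Cfsg.quadFormMinus 2 F a b))) * c = T := by
    have h := Subgroup.card_mul_index (Cfsg.Omega F (Cfsg.quadFormMinus 2 F a b))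
    rw [hidx, hO] at h
    have h' : 2 * (Nat.card (commutator (Cfsg.isometryGroup F (Cfsg.quadFormMinus 2 F a b))) * c) =
        2 * T := by
      rw [← h]
      ring
    exact Nat.eq_of_mul_eq_mul_left (by norm_num) h'
  have hSU : Nat.card (Cfsg.SU 4 K q) = T := by
    have h := Cfsg.Agent.S0278.result hK 4 (by norm_num)
    have h' : (q + 1) * Nat.card (Cfsg.SU 4 K q) = (q + 1) * T := by
      rw [h, hT]
      simp [Finset.prod_range_succ, Nat.even_iff]
      ring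
    exact Nat.eq_of_mul_eq_mul_left (by omega) h'
  have hker : Nat.card (ρ S).ker ≤ c := by
    refine le_trans (card_ker_le S) (le_of_eq ?_)
    rw [hc, hK]
    apply Cfsg.Agent.S0300.gcd_two_congr
    have h1 : 1 ≤ q ^ 2 := Nat.one_le_pow _ _ (by omega)
    have h2 : q ^ 2 % 2 = q % 2 := by
      rcases Nat.mod_two_eq_zero_or_one q with h | h <;> simp [Nat.pow_mod, h]
    obtain ⟨Q, hQ⟩ : ∃ Q, Q = q ^ 2 := ⟨_, rfl⟩
    rw [← hQ] at h1 h2 ⊢
    omega
  have hrange : Nat.card (ρ S).range * Nat.card (ρ S).ker = T := by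
    have h1 := Subgroup.card_eq_card_quotient_mul_card_subgroup (ρ S).ker
    rw [hSU, Nat.card_congr (QuotientGroup.quotientKerEquivRange (ρ S)).toEquiv] at h1
    exact h1.symm
  have heq : (ρ S).range = commutator (Cfsg.isometryGroup F (Cfsg.quadFormMinus 2 F a b)) := by
    apply Subgroup.eq_of_le_of_card_ge hle
    have h3 : Nat.card (commutator (Cfsg.isometryGroup F (Cfsg.quadFormMinus 2 F a b))) * c ≤
        Nat.card (ρ S).range * c := by
      rw [hΩ, ← hrange]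
      exact Nat.mul_le_mul_left _ hker
    exact Nat.le_of_mul_le_mul_right h3 hcpos
  let f : Cfsg.SU 4 K q →* ↥(Cfsg.Omega F (Cfsg.quadFormMinus 2 F a b)) :=
    (ρ S).codRestrict _ (fun p => hle ⟨p, rfl⟩)
  have hf : Function.Surjective f := by
    rintro ⟨y, hy⟩
    have hy' : y ∈ (ρ S).range := by
      rw [heq]
      exact hy
    obtain ⟨g, rfl⟩ := hy'
    exact ⟨g, rfl⟩
  have hkerf : f.ker = (ρ S).ker := by
    ext g
    rw [MonoidHom.mem_ker, MonoidHom.mem_ker]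
    constructor
    · intro h
      exact congrArg Subtype.val h
    · intro h
      exact Subtype.ext h
  exact Cfsg.Agent.Lib.Helper5.OmegaIso.quot_center_equiv f hf
    (fun g hg => Cfsg.Agent.Lib.Helper5.OmegaIso.mem_center_of_perfect hperf g
      (fun h => ker_le S (by rw [← hkerf]; exact hg h)))

end Cfsg.Agent.S0303
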