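import Cfsg.Statements.S0323

set_option autoImplicit false
open scoped Pointwise
open Cfsg

namespace Cfsg.Agent.S0323

/-- A doubly transitive action on a set with at least three points yields a (B,N)-pair of rank one:
`B` is the stabiliser of a point `x`, `N` the setwise stabiliser of a pair `{x, y}`. -/
theorem result {G Ω : Type*} [Group G] [MulAction G Ω]
    (h2 : MulAction.IsMultiplyPretransitive G Ω 2) {x y z : Ω} (hxy : x ≠ y) (hyz : y ≠ z) (hxz : x ≠ z) :
    ∃ P : Cfsg.BNPair G, P.B = MulAction.stabilizer G x ∧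
      P.N = MulAction.stabilizer G ({x, y} : Set Ω) ∧ P.rank = 1 := by
  have h2' : ∀ {a b c d : Ω}, a ≠ b → c ≠ d → ∃ g : G, g • a = c ∧ g • b = d :=
    MulAction.is_two_pretransitive_iff.1 h2
  obtain ⟨s, hsx, hsy⟩ := h2' hxy hxy.symm
  have memN : ∀ g : G, g ∈ MulAction.stabilizer G ({x, y} : Set Ω) ↔
      (g • x = x ∧ g • y = y) ∨ (g • x = y ∧ g • y = x) := by
    intro g
    rw [MulAction.mem_stabilizer_iff]
    have e : g • ({x, y} : Set Ω) = {g • x, g • y} := by
      rw [← Set.image_smul, Set.image_pair]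
    rw [e]
    constructor
    · intro h
      have h1 : g • x ∈ ({x, y} : Set Ω) := by rw [← h]; simp
      have h3 : g • y ∈ ({x, y} : Set Ω) := by rw [← h]; simp
      have hne : g • x ≠ g • y := fun hh => hxy (MulAction.injective g hh)
      simp only [Set.mem_insert_iff, Set.mem_singleton_iff] at h1 h3
      rcases h1 with h1 | h1 <;> rcases h3 with h3 | h3
      · exact absurd (h1.trans h3.symm) hne
      · exact Or.inl ⟨h1, h3⟩
      · exact Or.inr ⟨h1, h3⟩
      · exact absurd (h1.trans h3.symm) hne
    · rintro (⟨h1, h3⟩ | ⟨h1, h3⟩)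
      · rw [h1, h3]
      · rw [h1, h3, Set.pair_comm]
  have hsN : s ∈ MulAction.stabilizer G ({x, y} : Set Ω) := (memN s).2 (Or.inr ⟨hsx, hsy⟩)
  have hsinvy : s⁻¹ • y = x := by rw [inv_smul_eq_iff, hsx]
  have hsinvx : s⁻¹ • x = y := by rw [inv_smul_eq_iff, hsy]
  -- elements moving x lie in B n B for a swapping n
  have hmove : ∀ n g : G, n • x = y → g • x ≠ x →
      g ∈ DoubleCoset.doubleCoset n (MulAction.stabilizer G x : Set G) (MulAction.stabilizer G x) := by
    intro n g hn hg
    obtain ⟨b1, hb1x, hb1y⟩ := h2' hxy (Ne.symm hg)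
    rw [DoubleCoset.mem_doubleCoset]
    refine ⟨b1, hb1x, (b1 * n)⁻¹ * g, ?_, by group⟩
    show ((b1 * n)⁻¹ * g) • x = x
    rw [mul_smul, inv_smul_eq_iff, mul_smul, hn, hb1y]
  refine ⟨{ B := MulAction.stabilizer G x
            N := MulAction.stabilizer G ({x, y} : Set Ω)
            S := {s}
            sup_eq_top := ?_
            conj_mem := ?_
            subset := ?_
            sq_mem := ?_
            inj := ?_
            closure_sup := ?_
            mul_mem_union := ?_
            conj_ne := ?_ }, rfl, rfl, ?_⟩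
  · rw [eq_top_iff]
    intro g _
    by_cases hg : g • x = x
    · exact (le_sup_left : MulAction.stabilizer G x ≤ _) hg
    · obtain ⟨b, hbx, hby⟩ := h2' (Ne.symm hg) hxy
      have h1 : s * b * g ∈ MulAction.stabilizer G x := by
        show (s * b * g) • x = x
        rw [mul_smul, mul_smul, hby, hsy]
      have e : g = b⁻¹ * s⁻¹ * (s * b * g) := by group
      rw [e]
      refine Subgroup.mul_mem _ (Subgroup.mul_mem _ ?_ ?_) ?_
      · exact (le_sup_left : MulAction.stabilizer G x ≤ _) (Subgroup.inv_mem _ hbx)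
      · exact (le_sup_right : MulAction.stabilizer G ({x, y} : Set Ω) ≤ _) (Subgroup.inv_mem _ hsN)
      · exact (le_sup_left : MulAction.stabilizer G x ≤ _) h1
  · intro n hn t ht
    have htx : t • x = x := ht.1
    have hty : t • y = y := by
      rcases (memN t).1 ht.2 with h | h
      · exact h.2
      · exact absurd (htx.symm.trans h.1) hxy
    have hn' : n⁻¹ • x = x ∨ n⁻¹ • x = y := by
      rcases (memN n⁻¹).1 (Subgroup.inv_mem _ hn) with h | h
      · exact Or.inl h.1
      · exact Or.inr h.1
    show (n * t * n⁻¹) • x = x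
    rw [mul_smul, mul_smul]
    rcases hn' with h | h
    · rw [h, htx]
      exact (inv_smul_eq_iff.1 h).symm
    · rw [h, hty]
      exact (inv_smul_eq_iff.1 h).symm
  · intro a ha
    rw [Set.mem_singleton_iff] at ha
    rw [ha]; exact hsN
  · intro a ha
    rw [Set.mem_singleton_iff] at ha
    rw [ha]
    show (s * s) • x = x
    rw [mul_smul, hsx, hsy]
  · intro a ha b hb _
    rw [Set.mem_singleton_iff] at ha hb
    rw [ha, hb]
  · apply le_antisymm
    · apply sup_le
      · rw [Subgroup.closure_le]
        intro a ha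
        rw [Set.mem_singleton_iff] at ha
        rw [ha]; exact hsN
      · exact inf_le_right
    · intro n hn
      rcases (memN n).1 hn with h | h
      · exact (le_sup_right : MulAction.stabilizer G x ⊓ MulAction.stabilizer G ({x, y} : Set Ω) ≤ _)
          ⟨h.1, hn⟩
      · have h1 : s⁻¹ * n ∈ MulAction.stabilizer G x ⊓ MulAction.stabilizer G ({x, y} : Set Ω) := by
          refine ⟨?_, Subgroup.mul_mem _ (Subgroup.inv_mem _ hsN) hn⟩
          show (s⁻¹ * n) • x = x
          rw [mul_smul, h.1, hsinvy]
        have e : n = s * (s⁻¹ * n) := by group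
        rw [e]
        exact Subgroup.mul_mem _
          ((le_sup_left : Subgroup.closure {s} ≤ _) (Subgroup.subset_closure rfl))
          ((le_sup_right : MulAction.stabilizer G x ⊓ MulAction.stabilizer G ({x, y} : Set Ω) ≤ _) h1)
  · intro a ha n hn b hb
    rw [Set.mem_singleton_iff] at ha
    subst ha
    have hbx : b • x = x := hb
    rcases (memN n).1 hn with h | h
    · left
      rw [DoubleCoset.mem_doubleCoset]
      refine ⟨1, Subgroup.one_mem _, n⁻¹ * b * n, ?_, by group⟩
      show (n⁻¹ * b * n) • x = x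
      rw [mul_smul, mul_smul, h.1, hbx, inv_smul_eq_iff, h.1]
    · by_cases hg : (a * b * n) • x = x
      · left
        rw [DoubleCoset.mem_doubleCoset]
        refine ⟨a * b * n * (a * n)⁻¹, ?_, 1, Subgroup.one_mem _, by group⟩
        show (a * b * n * (a * n)⁻¹) • x = x
        have h5 : (a * n) • x = x := by rw [mul_smul, h.1, hsy]
        have h6 : (a * n)⁻¹ • x = x := by rw [inv_smul_eq_iff, h5]
        rw [mul_smul, h6, hg]
      · right
        exact hmove n _ h.1 hg
  · intro a ha
    rw [Set.mem_singleton_iff] at ha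
    subst ha
    intro heq
    obtain ⟨b, hbx, hby⟩ := h2' hxy hxz
    have h1 : a * b * a ∈ (fun b : G => a * b * a) '' (MulAction.stabilizer G x : Set G) :=
      ⟨b, hbx, rfl⟩
    rw [heq] at h1
    have h3 : (a * b * a) • x = x := h1
    rw [mul_smul, mul_smul, hsx, hby] at h3
    have h4 : z = y := by
      rw [← hsinvx, ← h3, inv_smul_smul]
    exact hyz h4.symm
  · show Nat.card ({s} : Set G) = 1
    simp

end Cfsg.Agent.S0323
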