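import Cfsg.Statements.S0325
import Cfsg.Agent.Lib.Helper6.Sz7
import Cfsg.Agent.S0319
import Cfsg.Agent.S0323

set_option autoImplicit false
open Cfsg

namespace Cfsg.Agent.S0325

/-- The Suzuki group over a field with `2^(2m+1)` elements, `m ≥ 1`, is a simple group. -/
theorem result {F : Type*} [Field F] [Fintype F] {m : ℕ} (hm : 1 ≤ m)
    (hF : Fintype.card F = 2 ^ (2 * m + 1)) :
    IsSimpleGroup (Cfsg.Sz F m) := by
  have e01 : (Cfsg.Agent.Lib.Helper6.Sz6.ainf F m) ≠ Cfsg.Agent.Lib.Helper6.Sz6.apt m (0 : F) 0 :=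
    (Cfsg.Agent.Lib.Helper6.Sz6.apt_ne_ainf m (0 : F) 0).symm
  have e02 : (Cfsg.Agent.Lib.Helper6.Sz6.ainf F m) ≠ Cfsg.Agent.Lib.Helper6.Sz6.apt m (1 : F) 0 :=
    (Cfsg.Agent.Lib.Helper6.Sz6.apt_ne_ainf m (1 : F) 0).symm
  have e12 : Cfsg.Agent.Lib.Helper6.Sz6.apt m (0 : F) 0 ≠ Cfsg.Agent.Lib.Helper6.Sz6.apt m (1 : F) 0 := by
    intro h
    exact zero_ne_one (Cfsg.Agent.Lib.Helper6.Sz6.apt_inj h).1
  obtain ⟨P, hB, -, hrank⟩ := Cfsg.Agent.S0323.result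
    (Cfsg.Agent.Lib.Helper6.Sz6.two_trans (m := m) hF) e01 e12 e02
  have := Cfsg.Agent.Lib.Helper6.Sz7.nontrivial_Sz hm hF
  refine Cfsg.Agent.S0319.result P ?_ ?_ (Cfsg.Agent.Lib.Helper6.Sz7.perfect hm hF) ?_
  · intro J hJ hJne hdiff
    exfalso
    obtain ⟨s, hs⟩ := hJne
    obtain ⟨s', hs'⟩ := hdiff
    have hsub : Subsingleton P.S := (Nat.card_eq_one_iff_unique.1 hrank).1
    have : (⟨s, hJ hs⟩ : P.S) = ⟨s', hs'.1⟩ := Subsingleton.elim _ _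
    have h2 : s = s' := congrArg Subtype.val this
    exact hs'.2 (h2 ▸ hs)
  · rw [hB]
    exact Cfsg.Agent.Lib.Helper6.Sz7.solvable_Bt hm hF
  · rw [hB]
    exact Cfsg.Agent.Lib.Helper6.Sz7.core_Bt hm hF

end Cfsg.Agent.S0325
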