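import Cfsg.Statements.S0514
-- import your own Cfsg.Agent.* helpers here
import Cfsg.Agent.Lib.Helper2.Frob
import Cfsg.Agent.Lib.Helper4.Invol
import Cfsg.Agent.Lib.Helper97.PReduced3
import Mathlib

set_option autoImplicit false
open Cfsg

namespace Cfsg.Agent.S0514

/-- The rotations of the dihedral group, as a homomorphism from `ZMod n`. -/
def rotHom (n : ℕ) : Multiplicative (ZMod n) →* DihedralGroup n where
  toFun i := DihedralGroup.r (Multiplicative.toAdd i)
  map_one' := by simp
  map_mul' i j := by simp [DihedralGroup.r_mul_r]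

/-- The rotation subgroup of the dihedral group. -/
def rot (n : ℕ) : Subgroup (DihedralGroup n) := (rotHom n).range

theorem mem_rot {n : ℕ} (i : ZMod n) : DihedralGroup.r i ∈ rot n :=
  ⟨Multiplicative.ofAdd i, rfl⟩

theorem not_mem_rot {n : ℕ} {x : DihedralGroup n} (hx : x ∉ rot n) :
    ∃ i, x = DihedralGroup.sr i := by
  cases x with
  | r i => exact absurd (mem_rot i) hx
  | sr i => exact ⟨i, rfl⟩

theorem rot_cyclic (n : ℕ) : IsCyclic ↥(rot n) :=
  isCyclic_of_surjective (rotHom n).rangeRestrict (rotHom n).rangeRestrict_surjective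

theorem isPGroup_zpowers_of_pow {G : Type*} [Group G] (p : ℕ) (y : G) (k : ℕ)
    (hy : y ^ p ^ k = 1) : IsPGroup p (Subgroup.zpowers y) := by
  rintro ⟨z, hz⟩
  obtain ⟨j, rfl⟩ := Subgroup.mem_zpowers_iff.mp hz
  refine ⟨k, Subtype.ext ?_⟩
  show (y ^ j) ^ p ^ k = 1
  rw [← zpow_natCast, ← zpow_mul, mul_comm, zpow_mul, zpow_natCast, hy, one_zpow]

theorem card_mulAut_cyclic_two {Q : Type*} [Group Q] [Finite Q] [IsCyclic Q] (hQ : IsPGroup 2 Q) :
    ∃ j : ℕ, Nat.card (MulAut Q) = 2 ^ j := by
  have : Fact (Nat.Prime 2) := ⟨Nat.prime_two⟩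
  obtain ⟨k, hk⟩ := IsPGroup.iff_card.mp hQ
  rw [IsCyclic.card_mulAut, hk]
  rcases Nat.eq_zero_or_pos k with rfl | hpos
  · exact ⟨0, by simp⟩
  · exact ⟨k - 1, by rw [Nat.totient_prime_pow Nat.prime_two hpos]; simp⟩

/-- An automorphism of odd order of a cyclic `2`-group is trivial. -/
theorem aut_cyclic_two {Q : Type*} [Group Q] [Finite Q] [IsCyclic Q] (hQ : IsPGroup 2 Q)
    (β : MulAut Q) (m : ℕ) (hm : Odd m) (hβ : β ^ m = 1) : β = 1 := by
  obtain ⟨j, hj⟩ := card_mulAut_cyclic_two hQ
  have h2 : β ^ (2 ^ j) = 1 := by rw [← hj]; exact pow_card_eq_one'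
  have h3 : orderOf β ∣ Nat.gcd m (2 ^ j) :=
    Nat.dvd_gcd (orderOf_dvd_of_pow_eq_one hβ) (orderOf_dvd_of_pow_eq_one h2)
  have h4 : Nat.gcd m (2 ^ j) = 1 := Nat.Coprime.pow_right j (Nat.coprime_two_right.mpr hm)
  rw [h4] at h3
  exact orderOf_eq_one_iff.mp (Nat.dvd_one.mp h3)

/-- An automorphism of odd order of a `2`-group embedded in a dihedral group, fixing an involution,
is trivial. -/
theorem aut_trivial {n : ℕ} {Q : Type*} [Group Q] [Finite Q] (hQ : IsPGroup 2 Q)
    (φ : Q →* DihedralGroup n) (hφ : Function.Injective φ) (α : MulAut Q) (m : ℕ) (hm : Odd m)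
    (hα : α ^ m = 1) (t : Q) (ht1 : t ≠ 1) (hαt : α t = t) (q : Q) :
    α q = q := by
  have hiter : ∀ (ρ q : Q), α q = ρ * q → α ρ = ρ → ∀ j : ℕ, (α ^ j) q = ρ ^ j * q := by
    intro ρ q h1 h2 j
    induction j with
    | zero => simp
    | succ j ih =>
      rw [pow_succ', MulAut.mul_apply, ih, map_mul, map_pow, h2, h1, pow_succ, mul_assoc]
  have S1 : ∀ (ρ q : Q), α q = ρ * q → α ρ = ρ → α q = q := by
    intro ρ q h1 h2
    have h3 := hiter ρ q h1 h2 m
    rw [hα, MulAut.one_apply] at h3
    have h4 : ρ ^ m = 1 := by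
      have : ρ ^ m * q = 1 * q := by rw [one_mul]; exact h3.symm
      exact mul_right_cancel this
    obtain ⟨k, hk⟩ := hQ ρ
    have h5 : orderOf ρ ∣ Nat.gcd m (2 ^ k) :=
      Nat.dvd_gcd (orderOf_dvd_of_pow_eq_one h4) (orderOf_dvd_of_pow_eq_one hk)
    have h6 : Nat.gcd m (2 ^ k) = 1 := Nat.Coprime.pow_right k (Nat.coprime_two_right.mpr hm)
    rw [h6] at h5
    have h7 : ρ = 1 := orderOf_eq_one_iff.mp (Nat.dvd_one.mp h5)
    rw [h1, h7, one_mul]
  set R : Subgroup Q := (rot n).comap φ with hR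
  have hR1 : ∀ q : Q, q ∉ R → q * q = 1 := by
    intro q hq
    have hq' : φ q ∉ rot n := hq
    obtain ⟨i, hi⟩ := not_mem_rot hq'
    apply hφ
    rw [map_mul, map_one, hi, DihedralGroup.sr_mul_self]
  have hR2 : ∀ a b : Q, a ∉ R → b ∉ R → a * b ∈ R := by
    intro a b ha hb
    have ha' : φ a ∉ rot n := ha
    have hb' : φ b ∉ rot n := hb
    obtain ⟨i, hi⟩ := not_mem_rot ha'
    obtain ⟨j, hj⟩ := not_mem_rot hb'
    show φ (a * b) ∈ rot n
    rw [map_mul, hi, hj, DihedralGroup.sr_mul_sr]
    exact mem_rot _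
  have hrc := rot_cyclic n
  have hRc : IsCyclic ↥R := isCyclic_of_injective (φ.subgroupComap (rot n)) (by
    intro x y hxy
    apply Subtype.ext
    apply hφ
    exact congrArg Subtype.val hxy)
  obtain ⟨g, hg⟩ := IsCyclic.exists_generator (α := ↥R)
  have hgen : ∀ x ∈ R, ∃ k : ℤ, x = (g : Q) ^ k := by
    intro x hx
    obtain ⟨k, hk⟩ := Subgroup.mem_zpowers_iff.mp (hg ⟨x, hx⟩)
    exact ⟨k, by have := congrArg Subtype.val hk; simpa using this.symm⟩
  by_cases hA : ∃ q₀ : Q, q₀ * q₀ ≠ 1
  · obtain ⟨q₀, hq₀⟩ := hA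
    have hq₀R : q₀ ∈ R := by
      by_contra h
      exact hq₀ (hR1 q₀ h)
    have hg2 : (g : Q) * (g : Q) ≠ 1 := by
      intro h
      obtain ⟨k, hk⟩ := hgen q₀ hq₀R
      apply hq₀
      rw [hk, ← zpow_add, ← two_mul, zpow_mul, zpow_two, h, one_zpow]
    have hαg : α (g : Q) ∈ R := by
      by_contra h
      have h1 := hR1 _ h
      rw [← map_mul] at h1
      exact hg2 (α.injective (h1.trans (map_one α).symm))
    have hαg' : α⁻¹ (g : Q) ∈ R := by
      by_contra h
      have h1 := hR1 _ h
      rw [← map_mul] at h1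
      exact hg2 ((α⁻¹).injective (h1.trans (map_one (α⁻¹)).symm))
    have hαR : ∀ x ∈ R, α x ∈ R := by
      intro x hx
      obtain ⟨k, rfl⟩ := hgen x hx
      rw [map_zpow]
      exact R.zpow_mem hαg k
    have hαR' : ∀ x ∈ R, α⁻¹ x ∈ R := by
      intro x hx
      obtain ⟨k, rfl⟩ := hgen x hx
      rw [map_zpow]
      exact R.zpow_mem hαg' k
    let β : MulAut ↥R :=
      { toFun := fun x => ⟨α x, hαR x x.2⟩
        invFun := fun x => ⟨α⁻¹ x, hαR' x x.2⟩
        left_inv := fun x => Subtype.ext (by simp)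
        right_inv := fun x => Subtype.ext (by simp)
        map_mul' := fun x y => Subtype.ext (by simp) }
    have hβapp : ∀ x : ↥R, ((β x : ↥R) : Q) = α (x : Q) := fun x => rfl
    have hβpow : ∀ (j : ℕ) (x : ↥R), (((β ^ j) x : ↥R) : Q) = (α ^ j) (x : Q) := by
      intro j
      induction j with
      | zero => intro x; simp
      | succ j ih =>
        intro x
        rw [pow_succ', MulAut.mul_apply, pow_succ', MulAut.mul_apply, hβapp, ih]
    have hβm : β ^ m = 1 := by
      ext x
      rw [hβpow, hα]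
      simp
    have hR2grp : IsPGroup 2 ↥R := hQ.to_subgroup R
    have hβ1 := aut_cyclic_two hR2grp β m hm hβm
    have hfixR : ∀ x ∈ R, α x = x := by
      intro x hx
      have h1 : ((β ⟨x, hx⟩ : ↥R) : Q) = x := by rw [hβ1]; rfl
      rw [hβapp] at h1
      exact h1
    by_cases hqR : q ∈ R
    · exact hfixR q hqR
    · have hαq : α q ∉ R := by
        intro h
        apply hqR
        have := hαR' _ h
        simpa using this
      have hρ : α q * q⁻¹ ∈ R := hR2 _ _ hαq (fun h => hqR (by simpa using R.inv_mem h))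
      exact S1 (α q * q⁻¹) q (by group) (hfixR _ hρ)
  · push Not at hA
    have hcomm : ∀ a b : Q, a * b = b * a := by
      intro a b
      have h1 := hA (a * b)
      have h2 := hA a
      have h3 := hA b
      have h4 : b * a = (a * b)⁻¹ := by
        rw [mul_inv_rev, inv_eq_of_mul_eq_one_right h3, inv_eq_of_mul_eq_one_right h2]
      rw [h4]
      exact (inv_eq_of_mul_eq_one_right h1).symm
    have hinv : ∀ a : Q, a⁻¹ = a := fun a => inv_eq_of_mul_eq_one_right (hA a)
    have hg2 : (g : Q) * (g : Q) = 1 := hA _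
    have hK2 : ∀ a ∈ R, a = 1 ∨ a = (g : Q) := by
      intro a ha
      obtain ⟨k, rfl⟩ := hgen a ha
      rcases Int.emod_two_eq_zero_or_one k with h | h
      · left
        have : k = 2 * (k / 2) := by omega
        rw [this, zpow_mul, zpow_two, hg2, one_zpow]
      · right
        have : k = 2 * (k / 2) + 1 := by omega
        rw [this, zpow_add, zpow_mul, zpow_two, hg2, one_zpow, one_mul, zpow_one]
    have hclaim : α q = q ∨ α q = t * q := by
      by_cases hq1 : q = 1
      · left; rw [hq1, map_one]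
      by_cases hqt : q = t
      · left; rw [hqt, hαt]
      have hv1 : α q ≠ 1 := fun h => hq1 (α.injective (h.trans (map_one α).symm))
      have hvt : α q ≠ t := fun h => hqt (α.injective (h.trans hαt.symm))
      have hne : ∀ u : Q, u ≠ t → t * u ≠ 1 := by
        intro u hu h
        apply hu
        have : u = t⁻¹ := (inv_eq_of_mul_eq_one_right h).symm
        rw [this, hinv]
      by_cases htR : t ∈ R
      · have htg : t = (g : Q) := (hK2 t htR).resolve_left ht1
        have hqR : q ∉ R := fun h => by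
          rcases hK2 q h with h1 | h1
          · exact hq1 h1
          · exact hqt (h1.trans htg.symm)
        have hvR : α q ∉ R := fun h => by
          rcases hK2 _ h with h1 | h1
          · exact hv1 h1
          · exact hvt (h1.trans htg.symm)
        rcases hK2 _ (hR2 q (α q) hqR hvR) with h1 | h1
        · left
          have : α q = q⁻¹ := (inv_eq_of_mul_eq_one_right h1).symm
          rw [this, hinv]
        · right
          have : α q = q⁻¹ * t := by rw [htg, ← h1]; group
          rw [this, hinv, hcomm]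
      · by_cases hqR : q ∈ R
        · have hqg : q = (g : Q) := (hK2 q hqR).resolve_left hq1
          by_cases hvR : α q ∈ R
          · left
            exact ((hK2 _ hvR).resolve_left hv1).trans hqg.symm
          · right
            have h1 : t * α q = (g : Q) :=
              (hK2 _ (hR2 t (α q) htR hvR)).resolve_left (hne _ hvt)
            have : α q = t⁻¹ * (g : Q) := by rw [← h1]; group
            rw [this, hinv, hqg]
        · have h1 : t * q = (g : Q) := (hK2 _ (hR2 t q htR hqR)).resolve_left (hne _ hqt)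
          by_cases hvR : α q ∈ R
          · right
            rw [h1]
            exact (hK2 _ hvR).resolve_left hv1
          · left
            have h2 : t * α q = (g : Q) :=
              (hK2 _ (hR2 t (α q) htR hvR)).resolve_left (hne _ hvt)
            exact mul_left_cancel (h2.trans h1.symm)
    rcases hclaim with h | h
    · exact h
    · exact S1 t q h hαt

/-- In a finite group whose Sylow 2-subgroups are dihedral of order at least 4, the centralizer of any involution has a
normal subgroup of odd order whose index in the centralizer is a power of 2. -/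
theorem result {X : Type*} [Group X] [Finite X]
    (S : Sylow 2 X) (n : ℕ) (hn : 2 ≤ n) (hS : Nonempty ((S : Subgroup X) ≃* DihedralGroup n)) (t : X)
    (ht : orderOf t = 2) :
    ∃ N : Subgroup (Subgroup.centralizer ({t} : Set X)), N.Normal ∧ Odd (Nat.card N) ∧ ∃ k : ℕ, N.index = 2 ^ k := by
  obtain ⟨e⟩ := hS
  have : Fact (Nat.Prime 2) := ⟨Nat.prime_two⟩
  have ht2 : t * t = 1 := by
    have := pow_orderOf_eq_one t
    rw [ht, pow_two] at this
    exact this
  have ht1 : t ≠ 1 := by
    intro h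
    rw [h, orderOf_one] at ht
    norm_num at ht
  set C : Subgroup X := Subgroup.centralizer ({t} : Set X) with hC
  have htC : t ∈ C := by
    rw [hC, Subgroup.mem_centralizer_iff]
    intro x hx
    rw [Set.mem_singleton_iff] at hx
    rw [hx]
  set t' : ↥C := ⟨t, htC⟩ with ht'
  have ht'c : ∀ c : ↥C, c * t' = t' * c := by
    intro c
    apply Subtype.ext
    have := Subgroup.mem_centralizer_iff.mp c.2 t rfl
    exact this.symm
  obtain ⟨P⟩ : Nonempty (Sylow 2 ↥C) := inferInstance
  have hc : ∀ Q : Subgroup ↥C, Q ≤ (P : Subgroup ↥C) → ∀ g ∈ Subgroup.normalizer (Q : Set ↥C),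
      Nat.Coprime (orderOf g) 2 → g ∈ Subgroup.centralizer (Q : Set ↥C) := by
    intro Q hQP g hgN hcop
    have hQ2 : IsPGroup 2 ↥Q := P.2.to_le hQP
    have hZn : (Subgroup.zpowers t').Normal := by
      constructor
      intro x hx c
      obtain ⟨k, rfl⟩ := Subgroup.mem_zpowers_iff.mp hx
      have h1 : Commute c t' := ht'c c
      have h2 : Commute c (t' ^ k) := h1.zpow_right k
      have : c * t' ^ k * c⁻¹ = t' ^ k := by rw [h2.eq, mul_inv_cancel_right]
      rw [this]
      exact Subgroup.zpow_mem _ (Subgroup.mem_zpowers _) k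
    have hZ2 : IsPGroup 2 ↥(Subgroup.zpowers t') :=
      isPGroup_zpowers_of_pow 2 t' 1 (by rw [pow_one, pow_two]; exact Subtype.ext ht2)
    set Q' : Subgroup ↥C := Q ⊔ Subgroup.zpowers t' with hQ'
    have hQ'2 : IsPGroup 2 ↥Q' := IsPGroup.to_sup_of_normal_right hQ2 hZ2
    have hgZ : g ∈ Subgroup.normalizer ((Subgroup.zpowers t' : Subgroup ↥C) : Set ↥C) := by
      rw [Subgroup.normalizer_eq_top_iff.mpr hZn]
      trivial
    have hgQ' : g ∈ Subgroup.normalizer (Q' : Set ↥C) :=
      Cfsg.Agent.Lib.Helper97.PReduced3.mem_normalizer_sup hgN hgZ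
    set N : Subgroup ↥C := Subgroup.normalizer (Q' : Set ↥C) with hNdef
    have hQ'N : Q' ≤ N := Subgroup.le_normalizer
    have hQn : (Q'.subgroupOf N).Normal := Subgroup.normal_in_normalizer
    set g' : ↥N := ⟨g, hgQ'⟩ with hg'
    set α : MulAut ↥(Q'.subgroupOf N) := MulAut.conjNormal g' with hα
    have hαapp : ∀ x : ↥(Q'.subgroupOf N),
        (((α x : ↥(Q'.subgroupOf N)) : ↥N) : ↥C) = g * ((x : ↥N) : ↥C) * g⁻¹ := by
      intro x
      rfl
    have hpg : IsPGroup 2 ↥(Q'.subgroupOf N) :=
      hQ'2.of_equiv (Subgroup.subgroupOfEquivOfLe hQ'N).symm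
    have hm : Odd (orderOf g) := Nat.coprime_two_right.mp hcop
    have hαm : α ^ orderOf g = 1 := by
      rw [hα, ← map_pow]
      have : g' ^ orderOf g = 1 := Subtype.ext (pow_orderOf_eq_one g)
      rw [this, map_one]
    set ι : ↥(Q'.subgroupOf N) →* X :=
      C.subtype.comp (N.subtype.comp (Q'.subgroupOf N).subtype) with hι
    have hιinj : Function.Injective ι := by
      intro x y hxy
      apply Subtype.ext
      apply Subtype.ext
      apply Subtype.ext
      exact hxy
    have hK : IsPGroup 2 ↥ι.range := hpg.of_surjective ι.rangeRestrict ι.rangeRestrict_surjective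
    obtain ⟨a, ha⟩ := Cfsg.Agent.Lib.Helper4.Invol.exists_conj_mem_sylow S hK
    let ψ : ↥(Q'.subgroupOf N) →* ↥(S : Subgroup X) :=
      { toFun := fun x => ⟨a⁻¹ * ι x * a, ha _ ⟨x, rfl⟩⟩
        map_one' := Subtype.ext (by simp)
        map_mul' := fun x y => Subtype.ext (by simp [mul_assoc]) }
    have hψinj : Function.Injective ψ := by
      intro x y hxy
      apply hιinj
      have h1 : a⁻¹ * ι x * a = a⁻¹ * ι y * a := congrArg Subtype.val hxy
      exact mul_left_cancel (mul_right_cancel h1)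
    set φ : ↥(Q'.subgroupOf N) →* DihedralGroup n := e.toMonoidHom.comp ψ with hφ
    have hφinj : Function.Injective φ := e.injective.comp hψinj
    have ht'Q' : t' ∈ Q' := le_sup_right (α := Subgroup ↥C) (Subgroup.mem_zpowers t')
    set t₀ : ↥(Q'.subgroupOf N) := ⟨⟨t', hQ'N ht'Q'⟩, ht'Q'⟩ with ht₀
    have ht₀1 : t₀ ≠ 1 := by
      intro h
      apply ht1
      have := congrArg ι h
      simpa [hι, ht₀, ht'] using this
    have hαt : α t₀ = t₀ := by
      apply Subtype.ext
      apply Subtype.ext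
      rw [hαapp]
      show g * t' * g⁻¹ = t'
      rw [ht'c g, mul_inv_cancel_right]
    rw [Subgroup.mem_centralizer_iff]
    intro q hq
    have hqQ' : q ∈ Q' := le_sup_left (α := Subgroup ↥C) hq
    have key := aut_trivial hpg φ hφinj α (orderOf g) hm hαm t₀ ht₀1 hαt ⟨⟨q, hQ'N hqQ'⟩, hqQ'⟩
    have h2 : g * q * g⁻¹ = q := by
      have := congrArg (fun x : ↥(Q'.subgroupOf N) => ((x : ↥N) : ↥C)) key
      simp only [] at this
      rw [hαapp] at this
      exact this
    calc q * g = g * q * g⁻¹ * g := by rw [h2]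
      _ = g * q := by group
  obtain ⟨N, hNn, hNc⟩ := Cfsg.Agent.Lib.Helper2.Frob.exists_normal_complement_of_cond P hc
  refine ⟨N, hNn, ?_, ?_⟩
  · have h1 : (P : Subgroup ↥C).index = Nat.card N := hNc.index_eq_card
    have h2 : ¬ 2 ∣ (P : Subgroup ↥C).index := P.not_dvd_index
    rw [h1] at h2
    rw [Nat.odd_iff]
    omega
  · obtain ⟨k, hk⟩ := IsPGroup.iff_card.mp P.2
    exact ⟨k, by rw [hNc.symm.index_eq_card]; exact hk⟩

end Cfsg.Agent.S0514
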