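import Cfsg.Statements.S0522
import Cfsg.Agent.S1480
import Cfsg.Agent.Lib.Helper9.Rank2Solv
import Cfsg.Agent.Lib.Helper9.Rank2Fit
import Cfsg.Agent.Lib.Helper9.QuadOdd2

set_option autoImplicit false
open Cfsg

namespace Cfsg.Agent.S0522

/-- Transitivity Theorem (odd-order setting). Let X be a finite group of odd order in which the normalizer of every
nontrivial p-subgroup is solvable, P a Sylow p-subgroup, and B an abelian subgroup of P, normalized by P, with
C_P(B) = B and containing an elementary abelian subgroup of order p^3. Then for every prime q ≠ p, any two q-subgroups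
that are maximal among the q-subgroups normalized by B are conjugate by an element of the centralizer of B. -/
theorem result {X : Type*} [Group X] [Finite X] (hX : Odd (Nat.card X)) (p : ℕ)
    [Fact p.Prime] (hloc : ∀ T : Subgroup X, IsPGroup p T → T ≠ ⊥ → Group.IsSolvable (Subgroup.normalizer (T : Set X)))
    (P : Sylow p X) (B : Subgroup X) (hBP : B ≤ (P : Subgroup X))
    (hBn : ∀ x ∈ (P : Subgroup X), ∀ b ∈ B, x * b * x⁻¹ ∈ B) (hBa : IsMulCommutative B)
    (hBc : (P : Subgroup X) ⊓ Subgroup.centralizer (B : Set X) = B)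
    (hB3 : ∃ E : Subgroup X, E ≤ B ∧ (∀ e ∈ E, e ^ p = 1) ∧ p ^ 3 ≤ Nat.card E)
    (q : ℕ) [Fact q.Prime] (hqp : q ≠ p) (Q₁ Q₂ : Subgroup X)
    (h₁ : IsPGroup q Q₁ ∧ B ≤ Subgroup.normalizer (Q₁ : Set X) ∧
      ∀ R : Subgroup X, IsPGroup q R → B ≤ Subgroup.normalizer (R : Set X) → Q₁ ≤ R → R = Q₁)
    (h₂ : IsPGroup q Q₂ ∧ B ≤ Subgroup.normalizer (Q₂ : Set X) ∧
      ∀ R : Subgroup X, IsPGroup q R → B ≤ Subgroup.normalizer (R : Set X) → Q₂ ≤ R → R = Q₂) :
    ∃ c ∈ Subgroup.centralizer (B : Set X), Q₂ = Q₁.map (MulAut.conj c).toMonoidHom := by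
  have hpp : p.Prime := Fact.out
  have hqq : q.Prime := Fact.out
  have hp2 : p ≠ 2 := by
    intro h
    subst h
    obtain ⟨E, hEB, hEe, hE3⟩ := hB3
    have hPc : Nat.card ↥(P : Subgroup X) = 1 := by
      have h1 := Sylow.card_eq_multiplicity P
      rw [Nat.factorization_eq_zero_of_not_dvd
        (Cfsg.Agent.Lib.Helper9.Rank2Fit.two_not_dvd hX), pow_zero] at h1
      exact h1
    have hE1 : Nat.card ↥E ≤ 1 := by
      rw [← hPc]
      exact Subgroup.card_le_of_le (hEB.trans hBP)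
    have : 2 ^ 3 ≤ 1 := le_trans hE3 hE1
    omega
  have hloc' : ∀ T : Subgroup X, IsPGroup p T → T ≠ ⊥ →
      Cfsg.IsPConstrained p ↥(Subgroup.normalizer (T : Set X)) := by
    intro T hT hT1
    have := hloc T hT hT1
    intro P'
    exact Cfsg.Agent.Lib.Helper9.Rank2Solv.centralizer_sylow_le_of_solvable P'
  have hBp : IsPGroup p ↥B := P.isPGroup'.to_le hBP
  have hB3' : ¬ Cfsg.PRankLE p 2 ↥B := by
    intro hrk
    obtain ⟨E, hEB, hEe, hE3⟩ := hB3
    have h1 := hrk (E.subgroupOf B)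
      ⟨⟨fun a b => Subtype.ext (hBa.is_comm.comm a.1 b.1)⟩⟩
      (fun a ha => Subtype.ext (by
        rw [Subgroup.coe_pow, Subgroup.coe_one]
        exact hEe a.1 ha))
    rw [Nat.card_congr (Subgroup.subgroupOfEquivOfLe hEB).toEquiv] at h1
    have h2 : p ^ 3 ≤ p ^ 2 := le_trans hE3 h1
    have := (Nat.pow_le_pow_iff_right hpp.one_lt).mp h2
    omega
  have hPN : (P : Subgroup X) ≤ Subgroup.normalizer (B : Set X) := fun y hy =>
    Cfsg.Agent.Lib.Helper9.QuadOdd2.mem_normalizer_of_conj (hBn y hy)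
  have hfull : ∀ x ∈ Subgroup.centralizer (B : Set X), IsPGroup p (Subgroup.zpowers x) → x ∈ B := by
    intro x hx hxp
    have hxN : x ∈ Subgroup.normalizer (B : Set X) := Subgroup.centralizer_le_normalizer _ hx
    have hzN : Subgroup.zpowers x ≤ Subgroup.normalizer (B : Set X) := by
      rw [Subgroup.zpowers_le]
      exact hxN
    have hYp : IsPGroup p ↥(Subgroup.zpowers x ⊔ B) := hxp.to_sup_of_normal_right' hBp hzN
    have hYN : Subgroup.zpowers x ⊔ B ≤ Subgroup.normalizer (B : Set X) :=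
      sup_le hzN Subgroup.le_normalizer
    obtain ⟨Q, hQ⟩ := (hYp.comap_subtype (K := Subgroup.normalizer (B : Set X))).exists_le_sylow
    obtain ⟨n, hn⟩ := MulAction.exists_smul_eq ↥(Subgroup.normalizer (B : Set X)) Q (P.subtype hPN)
    have hxQ : (⟨x, hxN⟩ : ↥(Subgroup.normalizer (B : Set X))) ∈ (Q : Subgroup _) :=
      hQ (Subgroup.mem_comap.mpr (Subgroup.mem_sup_left (Subgroup.mem_zpowers x)))
    have hz : n * ⟨x, hxN⟩ * n⁻¹ ∈ ((P.subtype hPN : Sylow p ↥(Subgroup.normalizer (B : Set X))) :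
        Subgroup ↥(Subgroup.normalizer (B : Set X))) := by
      rw [← hn, Sylow.coe_subgroup_smul]
      exact Subgroup.smul_mem_pointwise_smul _ (MulAut.conj n) _ hxQ
    rw [Sylow.coe_subtype, Subgroup.mem_subgroupOf] at hz
    have hzP : (n : X) * x * (n : X)⁻¹ ∈ (P : Subgroup X) := hz
    have hzC : (n : X) * x * (n : X)⁻¹ ∈ Subgroup.centralizer (B : Set X) := by
      rw [Subgroup.mem_centralizer_iff]
      intro b hb
      have hb' : (n : X)⁻¹ * b * (n : X)⁻¹⁻¹ ∈ B :=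
        (Subgroup.mem_normalizer_iff.mp (inv_mem n.2) b).mp hb
      rw [inv_inv] at hb'
      have hc := Subgroup.mem_centralizer_iff.mp hx _ hb'
      calc b * ((n : X) * x * (n : X)⁻¹) = (n : X) * (((n : X)⁻¹ * b * n) * x) * (n : X)⁻¹ := by group
        _ = (n : X) * (x * ((n : X)⁻¹ * b * n)) * (n : X)⁻¹ := by rw [hc]
        _ = (n : X) * x * (n : X)⁻¹ * b := by group
    have hzB : (n : X) * x * (n : X)⁻¹ ∈ B := (le_of_eq hBc) ⟨hzP, hzC⟩
    have hx' : (n : X)⁻¹ * ((n : X) * x * (n : X)⁻¹) * (n : X)⁻¹⁻¹ ∈ B :=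
      (Subgroup.mem_normalizer_iff.mp (inv_mem n.2) _).mp hzB
    have e : (n : X)⁻¹ * ((n : X) * x * (n : X)⁻¹) * (n : X)⁻¹⁻¹ = x := by group
    rwa [e] at hx'
  have hmax : ∀ Q : Subgroup X, (IsPGroup q Q ∧ B ≤ Subgroup.normalizer (Q : Set X) ∧
      ∀ R : Subgroup X, IsPGroup q R → B ≤ Subgroup.normalizer (R : Set X) → Q ≤ R → R = Q) →
      Q ∈ Cfsg.maxInvSubgroups ⊤ B {q} := by
    intro Q hQ
    refine ⟨⟨le_top, ?_, hQ.2.1⟩, ?_⟩
    · intro r hr hrd
      obtain ⟨k, hk⟩ := IsPGroup.iff_card.mp hQ.1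
      rw [hk] at hrd
      exact (Nat.prime_dvd_prime_iff_eq hr hqq).mp (hr.dvd_of_dvd_pow hrd)
    · intro R hR hle
      refine hQ.2.2 R ?_ hR.2.2 hle
      have h1 := Nat.eq_prime_pow_of_unique_prime_dvd (n := Nat.card ↥R) (p := q)
        Nat.card_pos.ne' (fun {d} hd hdd => hR.2.1 d hd hdd)
      exact IsPGroup.of_card h1
  obtain ⟨k, hk, hQ⟩ := Cfsg.Agent.S1480.result p hloc' (fun h => absurd h hp2) B hBp hBa hB3'
    hfull q hqp Q₁ (hmax Q₁ h₁) Q₂ (hmax Q₂ h₂)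
  exact ⟨k, Subgroup.map_subtype_le _ hk, hQ⟩

end Cfsg.Agent.S0522
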