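import Cfsg.Statements.S2820
import Cfsg.Agent.Lib.Helper62.Wielandt
import Cfsg.Agent.Lib.Helper22.SubnFit
import Cfsg.Agent.Lib.Helper76.SylowTools
import Cfsg.Agent.S0010

set_option autoImplicit false
open Cfsg

namespace Cfsg.Agent.S2820

open Subgroup

/-- A subnormal subgroup of `p`-power index contains every `p'`-element. -/
theorem mem_of_isSubnormal_of_index {X : Type*} [Group X] {p : ℕ} (hp : p.Prime) {B : Subgroup X}
    (hB : B.IsSubnormal) : (∃ k, B.index = p ^ k) → ∀ g : X, (orderOf g).Coprime p → g ∈ B := by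
  induction hB with
  | top => intro _ g _; trivial
  | step H K hHK hK hN ih =>
    rintro ⟨k, hk⟩ g hg
    have h1 : K.index ∣ p ^ k := hk ▸ Subgroup.index_dvd_of_le hHK
    obtain ⟨j, -, hj⟩ := (Nat.dvd_prime_pow hp).mp h1
    have hgK : g ∈ K := ih ⟨j, hj⟩ g hg
    have h2 : H.relIndex K ∣ p ^ k := hk ▸ Subgroup.relIndex_dvd_index_of_le hHK
    obtain ⟨i, -, hi⟩ := (Nat.dvd_prime_pow hp).mp h2
    have h3 : (⟨g, hgK⟩ : K) ^ (p ^ i) ∈ H.subgroupOf K := by
      have := Subgroup.pow_index_mem (H.subgroupOf K) (⟨g, hgK⟩ : K)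
      rwa [show (H.subgroupOf K).index = p ^ i from hi] at this
    have h4 : g ^ (p ^ i) ∈ H := by
      have := Subgroup.mem_subgroupOf.mp h3
      simpa using this
    obtain ⟨m, hm⟩ := exists_pow_eq_self_of_coprime (x := g) (n := p ^ i)
      (Nat.Coprime.pow_left i hg.symm)
    rw [← hm]
    exact pow_mem h4 m

/-- Let A and B be subnormal subgroups of the finite group H with A a p-group and B = O^p(B) (B generated by its elements of order prime to p). Then A normalizes B and B = O^p(AB), the subgroup of ⟨A, B⟩ generated by its elements of order prime to p. -/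
theorem result {H : Type*} [Group H] [Finite H] {p : ℕ} [Fact p.Prime] (A B : Subgroup H) (hA : A.IsSubnormal) (hB : B.IsSubnormal) (hAp : IsPGroup p ↥A) (hBres : (Cfsg.pResidual p ↥B).map B.subtype = B) : A ≤ Subgroup.normalizer (B : Set H) ∧ (Cfsg.pResidual p ↥(A ⊔ B)).map (A ⊔ B).subtype = B := by
  have hp : p.Prime := Fact.out
  have hQn : (Cfsg.pCore p H).Normal := Cfsg.Agent.S0010.pCore_normal p
  have hQp : IsPGroup p (Cfsg.pCore p H) := Cfsg.Agent.S0010.pCore_isPGroup H p
  have hAQ : A ≤ Cfsg.pCore p H :=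
    Cfsg.Agent.Lib.Helper22.SubnFit.subnormal_pGroup_le_pCore p hA hAp
  generalize Cfsg.pCore p H = Q at hQn hQp hAQ
  have hsn : (B.subgroupOf (B ⊔ Q)).IsSubnormal := hB.subgroupOf
  have hidx : ∃ k, (B.subgroupOf (B ⊔ Q)).index = p ^ k := by
    have h1 : (B.subgroupOf (B ⊔ Q)).index = B.relIndex Q :=
      Cfsg.Agent.Lib.Helper76.SylowTools.relIndex_sup_of_normal B Q
    have h2 : B.relIndex Q ∣ Nat.card Q := Subgroup.relIndex_dvd_card B Q
    obtain ⟨n, hn⟩ := IsPGroup.iff_card.mp hQp
    rw [hn] at h2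
    obtain ⟨i, -, hi⟩ := (Nat.dvd_prime_pow hp).mp h2
    exact ⟨i, h1.trans hi⟩
  have key : ∀ g : H, g ∈ B ⊔ Q → (orderOf g).Coprime p → g ∈ B := by
    intro g hg hco
    have h1 : (orderOf (⟨g, hg⟩ : ↥(B ⊔ Q))).Coprime p := by
      rw [← orderOf_injective (B ⊔ Q).subtype (B ⊔ Q).subtype_injective]
      exact hco
    have := mem_of_isSubnormal_of_index hp hsn hidx ⟨g, hg⟩ h1
    exact Subgroup.mem_subgroupOf.mp this
  have hBcl : B = Subgroup.closure {b : H | b ∈ B ∧ (orderOf b).Coprime p} := by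
    apply le_antisymm
    · conv_lhs => rw [← hBres]
      rw [Cfsg.pResidual, MonoidHom.map_closure, Subgroup.closure_le]
      rintro _ ⟨b, hb, rfl⟩
      refine Subgroup.subset_closure ⟨b.2, ?_⟩
      rw [orderOf_injective B.subtype B.subtype_injective]
      exact hb
    · rw [Subgroup.closure_le]; exact fun b hb => hb.1
  have hnorm : ∀ x ∈ B ⊔ Q, ∀ b ∈ B, x * b * x⁻¹ ∈ B := by
    intro x hx b hb
    have hle : B ≤ B.comap (MulAut.conj x).toMonoidHom := by
      conv_lhs => rw [hBcl]
      rw [Subgroup.closure_le]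
      rintro c ⟨hc, hco⟩
      show MulAut.conj x c ∈ B
      apply key
      · rw [MulAut.conj_apply]
        exact mul_mem (mul_mem hx (le_sup_left (a := B) hc)) (inv_mem hx)
      · have := orderOf_injective (MulAut.conj x).toMonoidHom (MulAut.conj x).injective c
        rw [show (MulAut.conj x) c = (MulAut.conj x).toMonoidHom c from rfl, this]
        exact hco
    have := hle hb
    rw [Subgroup.mem_comap] at this
    simpa [MulAut.conj_apply] using this
  refine ⟨?_, ?_⟩
  · intro a ha
    have haX : a ∈ B ⊔ Q := le_sup_right (a := B) (hAQ ha)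
    rw [Subgroup.mem_normalizer_iff]
    intro h
    constructor
    · exact hnorm a haX h
    · intro hh
      have := hnorm a⁻¹ (inv_mem haX) _ hh
      simpa [mul_assoc] using this
  · apply le_antisymm
    · rw [Cfsg.pResidual, MonoidHom.map_closure, Subgroup.closure_le]
      rintro _ ⟨g, hg, rfl⟩
      apply key
      · exact (sup_le (hAQ.trans le_sup_right) le_sup_left) g.2
      · rw [orderOf_injective (A ⊔ B).subtype (A ⊔ B).subtype_injective]
        exact hg
    · conv_lhs => rw [hBcl]
      rw [Subgroup.closure_le]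
      rintro b ⟨hb, hco⟩
      refine ⟨⟨b, le_sup_right (a := A) hb⟩, ?_, rfl⟩
      apply Subgroup.subset_closure
      show (orderOf (⟨b, _⟩ : ↥(A ⊔ B))).Coprime p
      rw [← orderOf_injective (A ⊔ B).subtype (A ⊔ B).subtype_injective]
      exact hco

end Cfsg.Agent.S2820
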