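import Cfsg.Statements.S2814
import Cfsg.Agent.Lib.Helper62.Wielandt
import Cfsg.Agent.Lib.Helper34.PResidual
import Cfsg.Agent.S2820

set_option autoImplicit false
open Cfsg

namespace Cfsg.Agent.S2814

open Subgroup Cfsg.Agent.Lib.Helper62.Wielandt
open scoped Pointwise commutatorElement

/-- The subnormal closure contains `A` and is subnormal (finite group). -/
theorem subnormalClosure_spec {H : Type*} [Group H] [Finite H] (A : Subgroup H) :
    A ≤ Cfsg.subnormalClosure A ∧ (Cfsg.subnormalClosure A).IsSubnormal := by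
  refine ⟨le_sInf (fun L hL => hL.1), ?_⟩
  obtain ⟨L₀, hL₀⟩ := exists_minimal_of_wellFoundedLT
    (fun L : Subgroup H => A ≤ L ∧ L.IsSubnormal) ⟨⊤, le_top, IsSubnormal.top⟩
  have hle : L₀ ≤ Cfsg.subnormalClosure A := by
    apply le_sInf
    intro L hL
    have h1 : A ≤ L₀ ⊓ L ∧ (L₀ ⊓ L).IsSubnormal :=
      ⟨le_inf hL₀.prop.1 hL.1, hL₀.prop.2.inf hL.2⟩
    have h2 := hL₀.le_of_le h1 inf_le_left
    exact h2.trans inf_le_right
  have hge : Cfsg.subnormalClosure A ≤ L₀ := sInf_le hL₀.prop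
  rw [le_antisymm hge hle]
  exact hL₀.prop.2

/-- if `x c x⁻¹ ∈ C` for all `c ∈ C` then `x` normalizes `C` (finite group) -/
theorem mem_normalizer_of_conj_mem {H : Type*} [Group H] [Finite H] {C : Subgroup H} {x : H}
    (h : ∀ c ∈ C, x * c * x⁻¹ ∈ C) : x ∈ Subgroup.normalizer (C : Set H) := by
  apply (conj_smul_eq_iff x C).mp
  apply smul_eq_of_le
  intro y hy
  obtain ⟨c, hc, rfl⟩ := (Subgroup.mem_smul_pointwise_iff_exists _ _ _).mp hy
  rw [MulAut.smul_def, MulAut.conj_apply]
  exact h c hc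

/-- Let A be a subgroup of the finite group H and K the subnormal closure of A (intersection of the subnormal subgroups containing A). Then K is the normal closure of A inside K and N_H(A) ≤ N_H(K); K = A·O^p(K), O^p(K) being generated by the elements of K of order prime to p; and if A is a p-group, O^p(K) = [O^p(K), A]. -/
theorem result {H : Type*} [Group H] [Finite H] {p : ℕ} [Fact p.Prime] (A : Subgroup H) (K : Subgroup H) (hK : K = Cfsg.subnormalClosure A) : (Subgroup.normalClosure ((A.subgroupOf K : Subgroup ↥K) : Set ↥K)).map K.subtype = K ∧ Subgroup.normalizer (A : Set H) ≤ Subgroup.normalizer (K : Set H) ∧ A ⊔ (Cfsg.pResidual p ↥K).map K.subtype = K ∧ (IsPGroup p ↥A → ⁅(Cfsg.pResidual p ↥K).map K.subtype, A⁆ = (Cfsg.pResidual p ↥K).map K.subtype) := by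
  have hp : p.Prime := Fact.out
  obtain ⟨hAK, hKsn⟩ := subnormalClosure_spec A
  have hmin : ∀ L : Subgroup H, A ≤ L → L.IsSubnormal → K ≤ L := by
    intro L h1 h2; rw [hK]; exact sInf_le ⟨h1, h2⟩
  rw [← hK] at hAK hKsn
  have part1 : (Subgroup.normalClosure ((A.subgroupOf K : Subgroup ↥K) : Set ↥K)).map K.subtype
      = K := by
    apply le_antisymm (Subgroup.map_subtype_le _)
    apply hmin
    · intro a ha
      exact ⟨⟨a, hAK ha⟩, Subgroup.subset_normalClosure (Subgroup.mem_subgroupOf.mpr ha), rfl⟩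
    · exact IsSubnormal.trans' (Subgroup.normalClosure_normal.isSubnormal) hKsn
  have part2 : Subgroup.normalizer (A : Set H) ≤ Subgroup.normalizer (K : Set H) := by
    intro g hg
    have h1 : MulAut.conj g • A = A := (conj_smul_eq_iff g A).mpr hg
    have h2 : K ≤ MulAut.conj g • K := by
      apply hmin
      · rw [← h1]; exact Subgroup.pointwise_smul_le_pointwise_smul_iff.mpr hAK
      · exact hKsn.smul _
    have h3 : MulAut.conj g • K = K :=
      (Subgroup.eq_of_le_of_card_ge h2 (card_smul _ K).le).symm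
    exact (conj_smul_eq_iff g K).mp h3
  have hR'n : (Cfsg.pResidual p ↥K).Normal :=
    Cfsg.Agent.Lib.Helper34.PResidual.pResidual_normal p ↥K
  obtain ⟨n, hn⟩ := Cfsg.Agent.Lib.Helper34.PResidual.exists_index_pResidual_eq hp ↥K
  have hR'def : Cfsg.pResidual p ↥K
      = Subgroup.closure {g : ↥K | Nat.Coprime (orderOf g) p} := rfl
  generalize Cfsg.pResidual p ↥K = R' at hR'n hn hR'def ⊢
  have hRK : R'.map K.subtype ≤ K := Subgroup.map_subtype_le _
  have part3 : A ⊔ R'.map K.subtype = K := by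
    apply le_antisymm (sup_le hAK hRK)
    apply hmin _ le_sup_left
    have hq : IsPGroup p (↥K ⧸ R') :=
      IsPGroup.of_card (n := n) (by rw [← Subgroup.index_eq_card]; exact hn)
    have : Group.IsNilpotent (↥K ⧸ R') := hq.isNilpotent
    have h1 : ((A.subgroupOf K).map (QuotientGroup.mk' R')).IsSubnormal :=
      isSubnormal_of_isNilpotent _
    have h2 := h1.comap (QuotientGroup.mk' R')
    rw [QuotientGroup.comap_map_mk'] at h2
    have h3 := IsSubnormal.trans' h2 hKsn
    rw [Subgroup.map_sup, Subgroup.map_subgroupOf_eq_of_le hAK, sup_comm] at h3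
    exact h3
  refine ⟨part1, part2, part3, ?_⟩
  intro hAp
  generalize hRdef : R'.map K.subtype = R at hRK part3 ⊢
  have hRn : ∀ k ∈ K, ∀ r ∈ R, k * r * k⁻¹ ∈ R := by
    intro k hk r hr
    rw [← hRdef] at hr ⊢
    obtain ⟨r, hr, rfl⟩ := hr
    exact ⟨⟨k, hk⟩ * r * ⟨k, hk⟩⁻¹, hR'n.conj_mem r hr ⟨k, hk⟩, rfl⟩
  have hKR : K ≤ Subgroup.normalizer (R : Set H) :=
    fun k hk => mem_normalizer_of_conj_mem (hRn k hk)
  have hCR : ⁅R, A⁆ ≤ R := by
    rw [Subgroup.commutator_le]
    intro r hr a ha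
    have h1 := hRn a (hAK ha) r⁻¹ (inv_mem hr)
    have h2 : ⁅r, a⁆ = r * (a * r⁻¹ * a⁻¹) := by rw [commutatorElement_def]; group
    rw [h2]; exact mul_mem hr h1
  apply le_antisymm hCR
  have hAC : A ≤ Subgroup.normalizer ((⁅R, A⁆ : Subgroup H) : Set H) := by
    intro a ha
    apply mem_normalizer_of_conj_mem
    have hle : ⁅R, A⁆ ≤ (⁅R, A⁆ : Subgroup H).comap (MulAut.conj a).toMonoidHom := by
      rw [Subgroup.commutator_le]
      intro r hr a' ha'
      rw [Subgroup.mem_comap]
      have h1 : (MulAut.conj a).toMonoidHom ⁅r, a'⁆ = ⁅a * r * a⁻¹, a * a' * a⁻¹⁆ := by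
        simp only [MulEquiv.coe_toMonoidHom, MulAut.conj_apply, commutatorElement_def]; group
      rw [h1]
      exact Subgroup.commutator_mem_commutator (hRn a (hAK ha) r hr)
        (mul_mem (mul_mem ha ha') (inv_mem ha))
    intro c hc
    have := hle hc
    rw [Subgroup.mem_comap] at this
    simpa [MulAut.conj_apply] using this
  have hRC : R ≤ Subgroup.normalizer ((⁅R, A⁆ : Subgroup H) : Set H) := by
    intro r₀ hr₀
    apply mem_normalizer_of_conj_mem
    have hle : ⁅R, A⁆ ≤ (⁅R, A⁆ : Subgroup H).comap (MulAut.conj r₀).toMonoidHom := by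
      rw [Subgroup.commutator_le]
      intro r hr a ha
      rw [Subgroup.mem_comap]
      have h1 : (MulAut.conj r₀).toMonoidHom ⁅r, a⁆ = ⁅r₀ * r, a⁆ * ⁅r₀, a⁆⁻¹ := by
        simp only [MulEquiv.coe_toMonoidHom, MulAut.conj_apply, commutatorElement_def]; group
      rw [h1]
      exact mul_mem (Subgroup.commutator_mem_commutator (mul_mem hr₀ hr) ha)
        (inv_mem (Subgroup.commutator_mem_commutator hr₀ ha))
    intro c hc
    have := hle hc
    rw [Subgroup.mem_comap] at this
    simpa [MulAut.conj_apply] using this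
  generalize hCdef : (⁅R, A⁆ : Subgroup H) = C at hCR hAC hRC ⊢
  have hKC : K ≤ Subgroup.normalizer (C : Set H) := by
    rw [← part3]; exact sup_le hAC hRC
  have hCK : C ≤ K := hCR.trans hRK
  have hDK : A ⊔ C ≤ K := sup_le hAK hCK
  have hKD : K ≤ Subgroup.normalizer ((A ⊔ C : Subgroup H) : Set H) := by
    rw [← part3]
    apply sup_le
    · intro a ha
      apply (conj_smul_eq_iff a _).mp
      rw [Subgroup.smul_sup, (conj_smul_eq_iff a A).mpr (Subgroup.le_normalizer ha),
        (conj_smul_eq_iff a C).mpr (hAC ha)]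
    · intro r₀ hr₀
      apply (conj_smul_eq_iff r₀ _).mp
      apply smul_eq_of_le
      rw [Subgroup.smul_sup, (conj_smul_eq_iff r₀ C).mpr (hRC hr₀)]
      apply sup_le _ le_sup_right
      intro y hy
      obtain ⟨a, ha, rfl⟩ := (Subgroup.mem_smul_pointwise_iff_exists _ _ _).mp hy
      rw [MulAut.smul_def, MulAut.conj_apply]
      have h1 : r₀ * a * r₀⁻¹ = ⁅r₀, a⁆ * a := by rw [commutatorElement_def]; group
      rw [h1]
      have h2 : ⁅r₀, a⁆ ∈ C := by
        rw [← hCdef]; exact Subgroup.commutator_mem_commutator hr₀ ha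
      exact mul_mem (le_sup_right (a := A) h2) (le_sup_left (b := C) ha)
  have hDsn : (A ⊔ C).IsSubnormal := by
    have h1 : ((A ⊔ C).subgroupOf K).Normal :=
      (Subgroup.normal_subgroupOf_iff_le_normalizer hDK).mpr hKD
    exact IsSubnormal.trans hDK h1.isSubnormal hKsn
  have hKeq : K ≤ A ⊔ C := hmin _ le_sup_left hDsn
  have hC'n : (C.subgroupOf K).Normal :=
    (Subgroup.normal_subgroupOf_iff_le_normalizer hCK).mpr hKC
  have htop : A.subgroupOf K ⊔ C.subgroupOf K = ⊤ := by
    rw [← Subgroup.subgroupOf_sup hAK hCK, Subgroup.subgroupOf_eq_top]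
    exact hKeq
  have hidx : ∃ k, (C.subgroupOf K).index = p ^ k := by
    have h1 : (C.subgroupOf K).index = (C.subgroupOf K).relIndex (A.subgroupOf K) := by
      rw [← Subgroup.relIndex_top_right, ← htop, Subgroup.relIndex_sup_right]
    have h2 : (C.subgroupOf K).relIndex (A.subgroupOf K) ∣ Nat.card (A.subgroupOf K) :=
      Subgroup.relIndex_dvd_card _ _
    have h3 : Nat.card (A.subgroupOf K) = Nat.card A :=
      Nat.card_congr (Subgroup.subgroupOfEquivOfLe hAK).toEquiv
    obtain ⟨m, hm⟩ := IsPGroup.iff_card.mp hAp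
    rw [h3, hm] at h2
    obtain ⟨i, -, hi⟩ := (Nat.dvd_prime_pow hp).mp h2
    exact ⟨i, h1.trans hi⟩
  rw [← hRdef, Subgroup.map_le_iff_le_comap, hR'def, Subgroup.closure_le]
  intro g hg
  exact Cfsg.Agent.S2820.mem_of_isSubnormal_of_index hp hC'n.isSubnormal hidx g hg

end Cfsg.Agent.S2814
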