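import Cfsg.Statements.S0597
import Cfsg.Agent.Lib.Helper62.Wielandt
import Cfsg.Agent.Lib.Helper22.SubnFit
import Cfsg.Agent.S2814

set_option autoImplicit false
open Cfsg

namespace Cfsg.Agent.S0597

open Subgroup Cfsg.Agent.Lib.Helper62.Wielandt
open scoped Pointwise commutatorElement

/-- elements centralizing `W` and moving `V` only by `W` -/
def quadStab {G : Type*} [Group G] (V W : Subgroup G) : Subgroup G where
  carrier := {x | (∀ w ∈ W, x * w = w * x) ∧ ∀ v ∈ V, ⁅v, x⁆ ∈ W}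
  one_mem' := ⟨by simp, by intro v _; simp⟩
  mul_mem' := by
    rintro x y ⟨hx1, hx2⟩ ⟨hy1, hy2⟩
    refine ⟨fun w hw => by rw [mul_assoc, hy1 w hw, ← mul_assoc, hx1 w hw, mul_assoc],
      fun v hv => ?_⟩
    have h1 : ⁅v, x * y⁆ = ⁅v, x⁆ * (x * ⁅v, y⁆ * x⁻¹) := by
      simp only [commutatorElement_def]; group
    have h2 : x * ⁅v, y⁆ * x⁻¹ = ⁅v, y⁆ := by rw [hx1 _ (hy2 v hv)]; group
    rw [h1, h2]; exact mul_mem (hx2 v hv) (hy2 v hv)
  inv_mem' := by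
    rintro x ⟨hx1, hx2⟩
    refine ⟨fun w hw => ?_, fun v hv => ?_⟩
    · have := hx1 w hw
      calc x⁻¹ * w = x⁻¹ * (w * x) * x⁻¹ := by group
        _ = x⁻¹ * (x * w) * x⁻¹ := by rw [this]
        _ = w * x⁻¹ := by group
    · have h1 : ⁅v, x⁻¹⁆ = x⁻¹ * (⁅v, x⁆⁻¹ * x) := by
        simp only [commutatorElement_def]; group
      have h2 : ⁅v, x⁆⁻¹ * x = x * ⁅v, x⁆⁻¹ := (hx1 _ (inv_mem (hx2 v hv))).symm
      rw [h1, h2, ← mul_assoc, inv_mul_cancel, one_mul]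
      exact inv_mem (hx2 v hv)

/-- `[E₁,E₂]` is normalized by `E₁` and `E₂`. -/
theorem commutator_normal_in_sup {G : Type*} [Group G] [Finite G] (E₁ E₂ : Subgroup G) :
    E₁ ⊔ E₂ ≤ Subgroup.normalizer ((⁅E₁, E₂⁆ : Subgroup G) : Set G) := by
  apply sup_le
  · intro e he
    apply Cfsg.Agent.S2814.mem_normalizer_of_conj_mem
    have hle : ⁅E₁, E₂⁆ ≤ (⁅E₁, E₂⁆ : Subgroup G).comap (MulAut.conj e).toMonoidHom := by
      rw [Subgroup.commutator_le]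
      intro r hr a ha
      rw [Subgroup.mem_comap]
      have h1 : (MulAut.conj e).toMonoidHom ⁅r, a⁆ = ⁅e * r, a⁆ * ⁅e, a⁆⁻¹ := by
        simp only [MulEquiv.coe_toMonoidHom, MulAut.conj_apply, commutatorElement_def]; group
      rw [h1]
      exact mul_mem (Subgroup.commutator_mem_commutator (mul_mem he hr) ha)
        (inv_mem (Subgroup.commutator_mem_commutator he ha))
    intro c hc
    have := hle hc
    rw [Subgroup.mem_comap] at this
    simpa [MulAut.conj_apply] using this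
  · intro e he
    apply Cfsg.Agent.S2814.mem_normalizer_of_conj_mem
    have hle : ⁅E₁, E₂⁆ ≤ (⁅E₁, E₂⁆ : Subgroup G).comap (MulAut.conj e).toMonoidHom := by
      rw [Subgroup.commutator_le]
      intro r hr a ha
      rw [Subgroup.mem_comap]
      have h1 : (MulAut.conj e).toMonoidHom ⁅r, a⁆ = ⁅r, e⁆⁻¹ * ⁅r, e * a⁆ := by
        simp only [MulEquiv.coe_toMonoidHom, MulAut.conj_apply, commutatorElement_def]; group
      rw [h1]
      exact mul_mem (inv_mem (Subgroup.commutator_mem_commutator hr he))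
        (Subgroup.commutator_mem_commutator hr (mul_mem he ha))
    intro c hc
    have := hle hc
    rw [Subgroup.mem_comap] at this
    simpa [MulAut.conj_apply] using this

/-- If two subnormal subgroups of a faithful group on an elementary abelian p-group satisfy [V, E₁, E₂] = 1, then their commutator lies in the largest normal p-subgroup. -/
theorem result {G : Type*} [Group G] [Finite G] {p : ℕ} [Fact p.Prime] (V H : Subgroup G) (hV : Cfsg.IsElementaryAbelian p V) (hHV : H ≤ Subgroup.normalizer (V : Set G)) (hf : H ⊓ Subgroup.centralizer (V : Set G) = ⊥) (E₁ E₂ : Subgroup G) (h₁ : E₁ ≤ H) (h₂ : E₂ ≤ H) (hs₁ : (E₁.subgroupOf H).IsSubnormal) (hs₂ : (E₂.subgroupOf H).IsSubnormal) (hc : ⁅⁅V, E₁⁆, E₂⁆ = ⊥) : ⁅E₁, E₂⁆ ≤ (Cfsg.pCore p H).map H.subtype := by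
  have hJH : E₁ ⊔ E₂ ≤ H := sup_le h₁ h₂
  have hXJ : ⁅E₁, E₂⁆ ≤ E₁ ⊔ E₂ := by
    rw [Subgroup.commutator_le]
    intro e₁ he₁ e₂ he₂
    rw [commutatorElement_def]
    have a1 : e₁ ∈ E₁ ⊔ E₂ := le_sup_left (a := E₁) he₁
    have a2 : e₂ ∈ E₁ ⊔ E₂ := le_sup_right (a := E₁) he₂
    exact mul_mem (mul_mem (mul_mem a1 a2) (inv_mem a1)) (inv_mem a2)
  have hXH : ⁅E₁, E₂⁆ ≤ H := hXJ.trans hJH
  -- subnormality
  have hJsn : ((E₁ ⊔ E₂).subgroupOf H).IsSubnormal := by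
    rw [Subgroup.subgroupOf_sup h₁ h₂]
    exact sup_isSubnormal hs₁ hs₂
  have hXn : ((⁅E₁, E₂⁆ : Subgroup G).subgroupOf (E₁ ⊔ E₂)).Normal :=
    (Subgroup.normal_subgroupOf_iff_le_normalizer hXJ).mpr (commutator_normal_in_sup E₁ E₂)
  have hXsn : ((⁅E₁, E₂⁆ : Subgroup G).subgroupOf H).IsSubnormal := by
    have h1 := subgroupOf_subgroupOf_isSubnormal hJH hXn.isSubnormal
    exact IsSubnormal.trans
      (fun y hy => Subgroup.mem_subgroupOf.mpr (hXJ (Subgroup.mem_subgroupOf.mp hy))) h1 hJsn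
  -- the p-group property
  have hW1 : ⁅V, E₁⁆ ≤ V := by
    rw [Subgroup.commutator_le]
    intro v hv e he
    have h1 : ⁅v, e⁆ = v * (e * v⁻¹ * e⁻¹) := by rw [commutatorElement_def]; group
    rw [h1]
    exact mul_mem hv ((Subgroup.mem_normalizer_iff.mp (hHV (h₁ he)) v⁻¹).mp (inv_mem hv))
  have hW2 : ∀ w ∈ (⁅V, E₁⁆ : Subgroup G), ∀ e ∈ E₂, e * w = w * e := by
    intro w hw e he
    have h1 : ⁅w, e⁆ ∈ (⁅⁅V, E₁⁆, E₂⁆ : Subgroup G) := Subgroup.commutator_mem_commutator hw he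
    rw [hc, Subgroup.mem_bot] at h1
    exact (commutatorElement_eq_one_iff_mul_comm.mp h1).symm
  have hW3 : ∀ w ∈ (⁅V, E₁⁆ : Subgroup G), ∀ e ∈ E₁, e * w * e⁻¹ ∈ (⁅V, E₁⁆ : Subgroup G) := by
    intro w hw e he
    have h1 : e * w * e⁻¹ = ⁅w, e⁆⁻¹ * w := by rw [commutatorElement_def]; group
    rw [h1]
    exact mul_mem (inv_mem (Subgroup.commutator_mem_commutator (hW1 hw) he)) hw
  have hXY : ⁅E₁, E₂⁆ ≤ quadStab V ⁅V, E₁⁆ := by
    rw [Subgroup.commutator_le]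
    intro e₁ he₁ e₂ he₂
    refine ⟨fun w hw => ?_, fun v hv => ?_⟩
    · have hw1 : e₁⁻¹ * w * e₁ ∈ (⁅V, E₁⁆ : Subgroup G) := by
        have := hW3 w hw e₁⁻¹ (inv_mem he₁)
        rwa [inv_inv] at this
      have c1 : e₂⁻¹ * w = w * e₂⁻¹ := hW2 w hw e₂⁻¹ (inv_mem he₂)
      have c2 : e₂ * (e₁⁻¹ * w * e₁) = (e₁⁻¹ * w * e₁) * e₂ := hW2 _ hw1 e₂ he₂
      calc ⁅e₁, e₂⁆ * w = e₁ * e₂ * e₁⁻¹ * (e₂⁻¹ * w) := by
            simp only [commutatorElement_def]; group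
        _ = e₁ * e₂ * e₁⁻¹ * (w * e₂⁻¹) := by rw [c1]
        _ = e₁ * (e₂ * (e₁⁻¹ * w * e₁)) * e₁⁻¹ * e₂⁻¹ := by group
        _ = e₁ * ((e₁⁻¹ * w * e₁) * e₂) * e₁⁻¹ * e₂⁻¹ := by rw [c2]
        _ = w * ⁅e₁, e₂⁆ := by simp only [commutatorElement_def]; group
    · have hv' : e₂⁻¹ * v * e₂ ∈ V := by
        have := (Subgroup.mem_normalizer_iff.mp (hHV (h₂ (inv_mem he₂))) v).mp hv
        rwa [inv_inv] at this
      have hc1 : ⁅e₂⁻¹ * v * e₂, e₁⁻¹⁆ ∈ (⁅V, E₁⁆ : Subgroup G) :=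
        Subgroup.commutator_mem_commutator hv' (inv_mem he₁)
      have c3 : e₂ * ⁅e₂⁻¹ * v * e₂, e₁⁻¹⁆ = ⁅e₂⁻¹ * v * e₂, e₁⁻¹⁆ * e₂ := hW2 _ hc1 e₂ he₂
      have id1 : ⁅v, ⁅e₁, e₂⁆⁆
          = ⁅v, e₁⁆ * (e₁ * (e₂ * ⁅e₂⁻¹ * v * e₂, e₁⁻¹⁆) * e₂⁻¹ * e₁⁻¹) := by
        simp only [commutatorElement_def]; group
      have id2 : e₁ * (⁅e₂⁻¹ * v * e₂, e₁⁻¹⁆ * e₂) * e₂⁻¹ * e₁⁻¹ = ⁅e₂⁻¹ * v * e₂, e₁⁆⁻¹ := by
        simp only [commutatorElement_def]; group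
      show ⁅v, ⁅e₁, e₂⁆⁆ ∈ (⁅V, E₁⁆ : Subgroup G)
      rw [id1, c3, id2]
      exact mul_mem (Subgroup.commutator_mem_commutator hv he₁)
        (inv_mem (Subgroup.commutator_mem_commutator hv' he₁))
  have hpow : ∀ x ∈ (⁅E₁, E₂⁆ : Subgroup G), x ^ p = 1 := by
    intro x hx
    obtain ⟨hx1, hx2⟩ := hXY hx
    have hcen : x ^ p ∈ Subgroup.centralizer (V : Set G) := by
      rw [Subgroup.mem_centralizer_iff]
      intro v hv
      have hu : ⁅v, x⁆⁻¹ ∈ (⁅V, E₁⁆ : Subgroup G) := inv_mem (hx2 v hv)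
      have hxv : x * v = ⁅v, x⁆⁻¹ * v * x := by simp only [commutatorElement_def]; group
      have hxu : x * ⁅v, x⁆⁻¹ = ⁅v, x⁆⁻¹ * x := hx1 _ hu
      generalize ⁅v, x⁆⁻¹ = u at hu hxv hxu
      have key : ∀ k : ℕ, x ^ k * v = u ^ k * v * x ^ k := by
        intro k
        induction k with
        | zero => simp
        | succ k ih =>
          have hxuk : x * u ^ k = u ^ k * x := Commute.pow_right hxu k
          calc x ^ (k + 1) * v = x * (x ^ k * v) := by rw [pow_succ', mul_assoc]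
            _ = x * (u ^ k * v * x ^ k) := by rw [ih]
            _ = (x * u ^ k) * v * x ^ k := by simp only [mul_assoc]
            _ = (u ^ k * x) * v * x ^ k := by rw [hxuk]
            _ = u ^ k * (x * v) * x ^ k := by simp only [mul_assoc]
            _ = u ^ k * (u * v * x) * x ^ k := by rw [hxv]
            _ = u ^ (k + 1) * v * x ^ (k + 1) := by
              rw [pow_succ u k, pow_succ' x k]; simp only [mul_assoc]
      have h1 := key p
      rw [hV.2 u (hW1 hu), one_mul] at h1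
      exact h1.symm
    have hmem : x ^ p ∈ H ⊓ Subgroup.centralizer (V : Set G) := ⟨pow_mem (hXH hx) p, hcen⟩
    rw [hf, Subgroup.mem_bot] at hmem
    exact hmem
  have hpg : IsPGroup p ↥((⁅E₁, E₂⁆ : Subgroup G).subgroupOf H) := by
    intro g
    refine ⟨1, ?_⟩
    have := hpow _ (Subgroup.mem_subgroupOf.mp g.2)
    apply Subtype.ext; apply Subtype.ext
    simpa using this
  have hle := Cfsg.Agent.Lib.Helper22.SubnFit.subnormal_pGroup_le_pCore p hXsn hpg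
  intro x hx
  exact ⟨⟨x, hXH hx⟩, hle (Subgroup.mem_subgroupOf.mpr hx), rfl⟩

end Cfsg.Agent.S0597
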