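import Cfsg.Statements.S0627
import Cfsg.Agent.Lib.Helper11.QuadStable
import Cfsg.Agent.Lib.Helper11.PConstr
import Cfsg.Agent.Lib.Helper76.PSolv
import Cfsg.Agent.S0622
import Cfsg.Agent.S0624
import Cfsg.Agent.S0658
-- import your own Cfsg.Agent.* helpers here

set_option autoImplicit false
open Cfsg

namespace Cfsg.Agent.S0627

/-- The main step, with the normality of the image of `W(S)` modulo `O_{p'}(G)` as hypothesis. -/
theorem supplement {G : Type*} [Group G] [Finite G] {p : ℕ} [Fact p.Prime] (S : Sylow p G)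
    (W : Subgroup G) (hWS : W ≤ (S : Subgroup G))
    (hn : (W.map (QuotientGroup.mk' (Cfsg.pPrimeCore p G))).Normal) :
    Cfsg.pPrimeCore p G ⊔ Subgroup.normalizer (W : Set G) = ⊤ := by
  classical
  have hp' : p.Prime := Fact.out
  have hOS : Cfsg.pPrimeCore p G ⊓ (S : Subgroup G) = ⊥ := by
    apply Disjoint.eq_bot
    apply Subgroup.disjoint_of_coprime_natCard
    obtain ⟨k, hk⟩ := IsPGroup.iff_card.mp S.isPGroup'
    rw [hk]
    exact (Cfsg.Agent.Lib.Helper76.PSolv.pPrimeCore_coprime p).pow_right k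
  have hinj : ∀ x ∈ (S : Subgroup G), ∀ y ∈ (S : Subgroup G),
      (x : G ⧸ Cfsg.pPrimeCore p G) = (y : G ⧸ Cfsg.pPrimeCore p G) → x = y := by
    intro x hx y hy hxy
    rw [QuotientGroup.eq] at hxy
    have h1 : x⁻¹ * y ∈ Cfsg.pPrimeCore p G ⊓ (S : Subgroup G) :=
      ⟨hxy, Subgroup.mul_mem _ (Subgroup.inv_mem _ hx) hy⟩
    rw [hOS, Subgroup.mem_bot] at h1
    calc x = x * (x⁻¹ * y) * y⁻¹ * y := by rw [h1]; group
      _ = y := by group
  rw [eq_top_iff]
  intro g _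
  -- the conjugate of `W` by `g` lies in `O_{p'}(G) S`
  have hU : IsPGroup p (W.map (MulAut.conj g).toMonoidHom) :=
    (S.isPGroup'.to_le hWS).map _
  have hUM : W.map (MulAut.conj g).toMonoidHom ≤ Cfsg.pPrimeCore p G ⊔ (S : Subgroup G) := by
    rintro _ ⟨w, hw, rfl⟩
    have h1 : ((g * w * g⁻¹ : G) : G ⧸ Cfsg.pPrimeCore p G) ∈
        W.map (QuotientGroup.mk' (Cfsg.pPrimeCore p G)) := by
      have h2 := hn.conj_mem _ (⟨w, hw, rfl⟩ : (QuotientGroup.mk' (Cfsg.pPrimeCore p G)) w ∈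
        W.map (QuotientGroup.mk' (Cfsg.pPrimeCore p G))) (g : G ⧸ Cfsg.pPrimeCore p G)
      simpa using h2
    obtain ⟨w', hw', hw'e⟩ := h1
    have h3 : (w' : G ⧸ Cfsg.pPrimeCore p G) = ((g * w * g⁻¹ : G) : G ⧸ Cfsg.pPrimeCore p G) :=
      hw'e
    rw [QuotientGroup.eq] at h3
    have h4 : g * w * g⁻¹ = w' * (w'⁻¹ * (g * w * g⁻¹)) := by group
    show g * w * g⁻¹ ∈ _
    rw [h4]
    exact Subgroup.mul_mem _ ((le_sup_right : (S : Subgroup G) ≤ _) (hWS hw'))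
      ((le_sup_left : Cfsg.pPrimeCore p G ≤ _) h3)
  obtain ⟨m, hm, hmU⟩ := Cfsg.Agent.S0658.exists_conj_le_sylow S
    (Cfsg.pPrimeCore p G ⊔ (S : Subgroup G)) le_sup_right _ hU hUM
  have hm' : m ∈ ((Cfsg.pPrimeCore p G ⊔ (S : Subgroup G) : Subgroup G) : Set G) := hm
  rw [Subgroup.normal_mul] at hm'
  obtain ⟨o, ho, s, hs, rfl⟩ := Set.mem_mul.mp hm'
  -- `n = s⁻¹ o s g` normalizes `W`
  have ho' : s⁻¹ * o * s ∈ Cfsg.pPrimeCore p G := by
    have := (inferInstance : (Cfsg.pPrimeCore p G).Normal).conj_mem o ho s⁻¹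
    simpa using this
  have hnS : ∀ w ∈ W, (s⁻¹ * o * s * g) * w * (s⁻¹ * o * s * g)⁻¹ ∈ (S : Subgroup G) := by
    intro w hw
    have h1 := hmU (g * w * g⁻¹) ⟨w, hw, rfl⟩
    have h2 : (s⁻¹ * o * s * g) * w * (s⁻¹ * o * s * g)⁻¹
        = s⁻¹ * (o * s * (g * w * g⁻¹) * (o * s)⁻¹) * s := by group
    rw [h2]
    exact Subgroup.mul_mem _ (Subgroup.mul_mem _ (Subgroup.inv_mem _ hs) h1) hs
  have hnW : ∀ w ∈ W, (s⁻¹ * o * s * g) * w * (s⁻¹ * o * s * g)⁻¹ ∈ W := by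
    intro w hw
    have h1 : (((s⁻¹ * o * s * g) * w * (s⁻¹ * o * s * g)⁻¹ : G) : G ⧸ Cfsg.pPrimeCore p G) ∈
        W.map (QuotientGroup.mk' (Cfsg.pPrimeCore p G)) := by
      have h2 := hn.conj_mem _ (⟨w, hw, rfl⟩ : (QuotientGroup.mk' (Cfsg.pPrimeCore p G)) w ∈
        W.map (QuotientGroup.mk' (Cfsg.pPrimeCore p G)))
        ((s⁻¹ * o * s * g : G) : G ⧸ Cfsg.pPrimeCore p G)
      simpa using h2
    obtain ⟨w', hw', hw'e⟩ := h1
    have h3 := hinj w' (hWS hw') _ (hnS w hw) hw'e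
    rw [← h3]
    exact hw'
  have hnN : s⁻¹ * o * s * g ∈ Subgroup.normalizer (W : Set G) :=
    Cfsg.Agent.Lib.Helper11.PConstr.mem_normalizer_of_conj_mem' W _ hnW
  have hg : g = (s⁻¹ * o * s)⁻¹ * (s⁻¹ * o * s * g) := by group
  rw [hg]
  exact Subgroup.mul_mem _ ((le_sup_left : Cfsg.pPrimeCore p G ≤ _) (Subgroup.inv_mem _ ho'))
    ((le_sup_right : Subgroup.normalizer (W : Set G) ≤ _) hnN)

/-- In a p-separable group with p at least 5, the normalizer of W(S) supplements the largest normal subgroup of order prime to p. -/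
theorem result {G : Type*} [Group G] [Finite G] {p : ℕ} [Fact p.Prime] (hp : 5 ≤ p) (hsep : Cfsg.IsPSolvable p G) (S : Sylow p G) : Cfsg.pPrimeCore p G ⊔ Subgroup.normalizer (((Cfsg.stableNormalClosure p ↥(S : Subgroup G)).map (S : Subgroup G).subtype) : Set G) = ⊤ := by
  classical
  have hp2 : p ≠ 2 := by omega
  apply supplement S _ (Subgroup.map_subtype_le _)
  -- the quotient
  have hsolv : Cfsg.IsPSolvable p (G ⧸ Cfsg.pPrimeCore p G) :=
    Cfsg.Agent.Lib.Helper76.PSolv.isPSolvable_quotient p _ hsep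
  have hcore : Cfsg.pPrimeCore p (G ⧸ Cfsg.pPrimeCore p G) = ⊥ :=
    Cfsg.Agent.Lib.Helper76.PSolv.pPrimeCore_quotient p
  have hc := Cfsg.Agent.Lib.Helper76.PSolv.centralizer_pCore_le p hsolv hcore
  have hst : Cfsg.IsActionPStable p (G ⧸ Cfsg.pPrimeCore p G) := by
    apply Cfsg.Agent.Lib.Helper11.QuadStable.isActionPStable_of_not_involves hp2
    intro hinv
    have h3 := Cfsg.Agent.Lib.Helper11.QuadSolv.eq_three_of_pChain_SL2 hp2
      (Cfsg.Agent.Lib.Helper11.QuadStable.pChain_of_involves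
        (Cfsg.Agent.Lib.Helper11.QuadSolv.pChain_of_isPSolvable hsolv) hinv)
    omega
  have hπ : Function.Surjective (QuotientGroup.mk' (Cfsg.pPrimeCore p G)) :=
    QuotientGroup.mk'_surjective _
  have hW := Cfsg.Agent.S0624.result hst hc (S.mapSurjective hπ)
  -- the isomorphism `S ≃ S̄`
  have hOS : Cfsg.pPrimeCore p G ⊓ (S : Subgroup G) = ⊥ := by
    apply Disjoint.eq_bot
    apply Subgroup.disjoint_of_coprime_natCard
    obtain ⟨k, hk⟩ := IsPGroup.iff_card.mp S.isPGroup'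
    rw [hk]
    exact (Cfsg.Agent.Lib.Helper76.PSolv.pPrimeCore_coprime p).pow_right k
  have hbij : Function.Bijective ((QuotientGroup.mk' (Cfsg.pPrimeCore p G)).subgroupMap
      (S : Subgroup G)) := by
    refine ⟨?_, MonoidHom.subgroupMap_surjective _ _⟩
    rw [injective_iff_map_eq_one]
    intro x hx
    have h1 : (QuotientGroup.mk' (Cfsg.pPrimeCore p G)) (x : G) = 1 := congrArg Subtype.val hx
    have h2 : (x : G) ∈ Cfsg.pPrimeCore p G ⊓ (S : Subgroup G) :=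
      ⟨(QuotientGroup.eq_one_iff _).mp h1, x.2⟩
    rw [hOS, Subgroup.mem_bot] at h2
    exact Subtype.ext h2
  have h622 := (Cfsg.Agent.S0622.result (p := p) (S := ↥(S : Subgroup G)) S.isPGroup').2.2.2.2
    ↥((S.mapSurjective hπ : Sylow p (G ⧸ Cfsg.pPrimeCore p G)) : Subgroup (G ⧸ Cfsg.pPrimeCore p G))
    (MulEquiv.ofBijective _ hbij)
  have heq : ((Cfsg.stableNormalClosure p ↥(S : Subgroup G)).map (S : Subgroup G).subtype).map
      (QuotientGroup.mk' (Cfsg.pPrimeCore p G)) =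
      (Cfsg.stableNormalClosure p ↥((S.mapSurjective hπ : Sylow p (G ⧸ Cfsg.pPrimeCore p G)) :
        Subgroup (G ⧸ Cfsg.pPrimeCore p G))).map
        ((S.mapSurjective hπ : Sylow p (G ⧸ Cfsg.pPrimeCore p G)) :
          Subgroup (G ⧸ Cfsg.pPrimeCore p G)).subtype := by
    rw [← h622, Subgroup.map_map, Subgroup.map_map]
    rfl
  rw [heq]
  exact hW

end Cfsg.Agent.S0627
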