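import Mathlib
import Cfsg.Statements.S0661
import Cfsg.Agent.Lib.Helper22.Balance

set_option autoImplicit false
open Cfsg

namespace Cfsg.Agent.S0661

open Cfsg.Agent.Lib.Helper23.Cores
open Cfsg.Agent.Lib.Helper78
open Cfsg.Agent.Lib.Helper22.Balance

/-- The balance lemma for `p`-constrained groups (the proof of the solvable case in
`Cfsg.Agent.Lib.Helper22.Balance.le_pPrimeCore_of_solvable`, with the hypothesis
`C(O_p(H/O_{p'}(H))) ≤ O_p(H/O_{p'}(H))` in place of solvability). Let `B` be a `p`-subgroup and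
`E` a subgroup of order prime to `p` centralized by `B` and normalized by `C_H(B)`.
Then `E ≤ O_{p'}(H)`. -/
theorem le_pPrimeCore_of_constrained {H : Type*} [Group H] [Finite H] (p : ℕ) [Fact p.Prime]
    (hcent : Subgroup.centralizer ((pCore p (H ⧸ pPrimeCore p H) : Subgroup (H ⧸ pPrimeCore p H)) :
      Set (H ⧸ pPrimeCore p H)) ≤ pCore p (H ⧸ pPrimeCore p H)) (B : Subgroup H) (hB : IsPGroup p B) (E : Subgroup H)
    (hE : (Nat.card E).Coprime p) (hEB : ∀ e ∈ E, ∀ b ∈ B, e * b = b * e)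
    (hEn : ∀ y : H, (∀ b ∈ B, y * b = b * y) → ∀ e ∈ E, y * e * y⁻¹ ∈ E) :
    E ≤ pPrimeCore p H := by
  set N := pPrimeCore p H with hNdef
  set π := QuotientGroup.mk' N with hπdef
  have hπ : Function.Surjective π := QuotientGroup.mk'_surjective _
  have hOn : (pCore p (H ⧸ N)).Normal := Fitting.pCore_normal p
  have hOp : IsPGroup p (pCore p (H ⧸ N)) := Fitting.pCore_isPGroup p
  have hNp : ¬ p ∣ Nat.card N := by
    have h1 := pPrimeCore_card_coprime (G := H) p
    intro hd
    have hp : p.Prime := Fact.out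
    exact hp.one_lt.ne' (Nat.Coprime.eq_one_of_dvd (Nat.coprime_comm.1 h1) hd)
  intro e he
  have hepow : e ^ Nat.card E = 1 := by
    have := pow_card_eq_one' (G := E) (x := ⟨e, he⟩)
    exact congrArg Subtype.val this
  -- the image of e centralizes O_p(H/N)
  have hBp : IsPGroup p (B.map π) := hB.map π
  have hSp : IsPGroup p (pCore p (H ⧸ N) ⊔ B.map π : Subgroup (H ⧸ N)) :=
    IsPGroup.to_sup_of_normal_left hOp hBp
  have hcomm : ∀ x ∈ pCore p (H ⧸ N), x * π e = π e * x := by
    apply Cfsg.Agent.Lib.Helper24.Coprime.thompson_AxB p (pCore p (H ⧸ N) ⊔ B.map π) hSp (B.map π)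
      le_sup_right (π e) ?_ ?_ (pCore p (H ⧸ N)) le_sup_left ?_ ?_ ?_
    · have h1 : orderOf (π e) ∣ Nat.card E :=
        (orderOf_map_dvd π e).trans (orderOf_dvd_of_pow_eq_one hepow)
      exact Nat.Coprime.coprime_dvd_left h1 hE
    · rintro _ ⟨b, hb, rfl⟩
      rw [← map_mul, ← map_mul, hEB e he b hb]
    · rw [Subgroup.normalizer_eq_top]; trivial
    · rw [Subgroup.normalizer_eq_top]; exact le_top
    · intro xb hxb hxB
      obtain ⟨x, rfl⟩ := hπ xb
      have hxk : ∀ k ∈ B, x⁻¹ * k * x * k⁻¹ ∈ N := by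
        intro k hk
        have hc := hxB (π k) ⟨k, hk, rfl⟩
        have h1 : π (x⁻¹ * k * x * k⁻¹) = 1 := by
          rw [map_mul, map_mul, map_mul, map_inv, map_inv, mul_assoc (π x)⁻¹, hc]
          group
        exact (QuotientGroup.eq_one_iff _).1 h1
      have hBN : B ≤ Subgroup.normalizer ((N : Subgroup H) : Set H) := by
        rw [Subgroup.normalizer_eq_top]; exact le_top
      obtain ⟨n, hn, hfix⟩ := Cfsg.Agent.Lib.Helper48.CoprimeQ.exists_fixed_in_coset B N hB hNp hBN
        x hxk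
      have hy : ∀ b ∈ B, (x * n) * b = b * (x * n) := by
        intro b hb
        have := hfix b hb
        calc (x * n) * b = (b * (x * n) * b⁻¹) * b := by rw [this]
          _ = b * (x * n) := by group
      have hπy : π (x * n) = π x := by
        rw [map_mul]
        have : π n = 1 := (QuotientGroup.eq_one_iff n).2 hn
        rw [this, mul_one]
      have hcE : (x * n) * e * (x * n)⁻¹ * e⁻¹ ∈ E := E.mul_mem (hEn _ hy e he) (E.inv_mem he)
      have hcpow : ((x * n) * e * (x * n)⁻¹ * e⁻¹) ^ Nat.card E = 1 := by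
        have := pow_card_eq_one' (G := E) (x := ⟨_, hcE⟩)
        exact congrArg Subtype.val this
      have hπc : π ((x * n) * e * (x * n)⁻¹ * e⁻¹) = π x * π e * (π x)⁻¹ * (π e)⁻¹ := by
        rw [map_mul, map_mul, map_mul, map_inv, map_inv, hπy]
      have hmem : π x * π e * (π x)⁻¹ * (π e)⁻¹ ∈ pCore p (H ⧸ N) := by
        have h1 : π e * (π x)⁻¹ * (π e)⁻¹ ∈ pCore p (H ⧸ N) :=
          hOn.conj_mem _ (inv_mem hxb) (π e)
        have h2 := mul_mem hxb h1
        have h3 : π x * (π e * (π x)⁻¹ * (π e)⁻¹) = π x * π e * (π x)⁻¹ * (π e)⁻¹ := by group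
        rwa [h3] at h2
      obtain ⟨k, hk⟩ := hOp ⟨_, hmem⟩
      have hk' : (π x * π e * (π x)⁻¹ * (π e)⁻¹) ^ (p ^ k) = 1 := congrArg Subtype.val hk
      have hm : (π x * π e * (π x)⁻¹ * (π e)⁻¹) ^ Nat.card E = 1 := by
        rw [← hπc, ← map_pow, hcpow, map_one]
      have h1 := eq_one_of_pow_of_coprime hk' hm hE
      calc π x * π e = (π x * π e * (π x)⁻¹ * (π e)⁻¹) * (π e * π x) := by group
        _ = π e * π x := by rw [h1, one_mul]
  have hmemc : π e ∈ Subgroup.centralizer ((pCore p (H ⧸ N) : Subgroup (H ⧸ N)) : Set (H ⧸ N)) := by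
    rw [Subgroup.mem_centralizer_iff]
    intro x hx
    exact hcomm x hx
  have hmemO : π e ∈ pCore p (H ⧸ N) := hcent hmemc
  obtain ⟨k, hk⟩ := hOp ⟨_, hmemO⟩
  have hk' : (π e) ^ (p ^ k) = 1 := congrArg Subtype.val hk
  have hm : (π e) ^ Nat.card E = 1 := by rw [← map_pow, hepow, map_one]
  have h1 := eq_one_of_pow_of_coprime hk' hm hE
  exact (QuotientGroup.eq_one_iff e).1 h1


/-- If, modulo the largest normal subgroup of order prime to p, the largest normal p-subgroup contains its centralizer, then for every p-subgroup P the p'-core of N_G(P) is just O_p'(G) ∩ N_G(P). -/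
theorem result {G : Type*} [Group G] [Finite G] {p : ℕ} [Fact p.Prime] (hc : Subgroup.centralizer (Cfsg.pCore p (G ⧸ Cfsg.pPrimeCore p G) : Set (G ⧸ Cfsg.pPrimeCore p G)) ≤ Cfsg.pCore p (G ⧸ Cfsg.pPrimeCore p G)) (P : Subgroup G) (hP : IsPGroup p P) : (Cfsg.pPrimeCore p ↥(Subgroup.normalizer (P : Set G))).map (Subgroup.normalizer (P : Set G)).subtype = Cfsg.pPrimeCore p G ⊓ Subgroup.normalizer (P : Set G) := by
  have hp : p.Prime := Fact.out
  set NP := Subgroup.normalizer (P : Set G) with hNP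
  set E := (Cfsg.pPrimeCore p ↥NP).map NP.subtype with hE
  have hEnorm : (Cfsg.pPrimeCore p ↥NP).Normal := pPrimeCore_normal p _
  have hEcard : (Nat.card E).Coprime p := by
    rw [hE, Subgroup.card_map_of_injective (Subgroup.subtype_injective _)]
    exact pPrimeCore_card_coprime p
  have hENP : E ≤ NP := Subgroup.map_subtype_le _
  -- `E` is normalized by `N(P)`
  have hEconj : ∀ y ∈ NP, ∀ e ∈ E, y * e * y⁻¹ ∈ E := by
    rintro y hy _ ⟨e', he', rfl⟩
    exact ⟨⟨y, hy⟩ * e' * ⟨y, hy⟩⁻¹, hEnorm.conj_mem e' he' ⟨y, hy⟩, rfl⟩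
  have hPNP : P ≤ NP := Subgroup.le_normalizer
  apply le_antisymm
  · refine le_inf ?_ hENP
    apply le_pPrimeCore_of_constrained p hc P hP E hEcard
    · intro e he b hb
      -- the commutator lies in `P ⊓ E`
      have h1 : e * b * e⁻¹ * b⁻¹ ∈ P := by
        have h2 : e * b * e⁻¹ ∈ P := (Subgroup.mem_normalizer_iff.mp (hENP he) b).mp hb
        exact P.mul_mem h2 (P.inv_mem hb)
      have h3 : e * b * e⁻¹ * b⁻¹ ∈ E := by
        have h4 : b * e⁻¹ * b⁻¹ ∈ E := hEconj b (hPNP hb) _ (E.inv_mem he)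
        have h5 : e * b * e⁻¹ * b⁻¹ = e * (b * e⁻¹ * b⁻¹) := by group
        rw [h5]; exact E.mul_mem he h4
      obtain ⟨k, hk⟩ := hP ⟨_, h1⟩
      have hk' : (e * b * e⁻¹ * b⁻¹) ^ (p ^ k) = 1 := congrArg Subtype.val hk
      have hm : (e * b * e⁻¹ * b⁻¹) ^ Nat.card E = 1 := by
        have := pow_card_eq_one' (G := E) (x := ⟨_, h3⟩)
        exact congrArg Subtype.val this
      have h6 := eq_one_of_pow_of_coprime hk' hm hEcard
      calc e * b = (e * b * e⁻¹ * b⁻¹) * (b * e) := by group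
        _ = b * e := by rw [h6, one_mul]
    · intro y hy e he
      have hyN : y ∈ NP := by
        rw [hNP, Subgroup.mem_normalizer_iff]
        intro h
        constructor
        · intro hh
          have : y * h * y⁻¹ = h := by rw [hy h hh]; group
          rw [this]; exact hh
        · intro hh
          have h7 : y⁻¹ * (y * h * y⁻¹) * y = y * h * y⁻¹ := by
            have h8 := hy _ hh
            calc y⁻¹ * (y * h * y⁻¹) * y = y⁻¹ * ((y * h * y⁻¹) * y) := by group
              _ = y⁻¹ * (y * (y * h * y⁻¹)) := by rw [h8]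
              _ = y * h * y⁻¹ := by group
          have h9 : y⁻¹ * (y * h * y⁻¹) * y = h := by group
          rw [h9] at h7
          rw [h7]; exact hh
      exact hEconj y hyN e he
  · intro x hx
    obtain ⟨hxN, hxNP⟩ := Subgroup.mem_inf.mp hx
    have hnorm : ((Cfsg.pPrimeCore p G).subgroupOf NP).Normal := by
      have := pPrimeCore_normal p G
      infer_instance
    have hcard : (Nat.card ((Cfsg.pPrimeCore p G).subgroupOf NP)).Coprime p := by
      have h1 : Nat.card ((Cfsg.pPrimeCore p G).subgroupOf NP) ∣ Nat.card (Cfsg.pPrimeCore p G) := by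
        rw [Subgroup.subgroupOf, ← Subgroup.card_map_of_injective (Subgroup.subtype_injective NP)]
        apply Subgroup.card_dvd_of_le
        rintro _ ⟨y, hy, rfl⟩
        exact hy
      exact Nat.Coprime.coprime_dvd_left h1 (pPrimeCore_card_coprime p)
    have hle := le_pPrimeCore p _ hnorm hcard
    exact ⟨⟨x, hxNP⟩, hle (Subgroup.mem_subgroupOf.mpr hxN), rfl⟩

end Cfsg.Agent.S0661
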