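import Mathlib
import Cfsg.Statements.S0631
import Cfsg.Agent.S0661
import Cfsg.Agent.S1473
import Cfsg.Agent.Lib.Helper11.ZJQuot
import Cfsg.Agent.Lib.Helper24.Coprime

set_option autoImplicit false
open Cfsg

namespace Cfsg.Agent.S0631

open Cfsg.Agent.Lib.Helper76.PSolv

theorem isPGroup_of_coprime_trivial {G : Type*} [Group G] [Finite G] (p : ℕ) [Fact p.Prime]
    (C : Subgroup G) (h : ∀ c ∈ C, (orderOf c).Coprime p → c = 1) : IsPGroup p C := by
  have hp : p.Prime := Fact.out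
  intro g
  obtain ⟨k, m, hm, hkm⟩ := Nat.exists_eq_pow_mul_and_not_dvd (orderOf_pos (g : G)).ne' p hp.ne_one
  refine ⟨k, ?_⟩
  have hord : orderOf ((g : G) ^ (p ^ k)) = m := by
    rw [orderOf_pow_of_dvd (pow_ne_zero k hp.ne_zero) (by rw [hkm]; exact dvd_mul_right _ _), hkm,
      Nat.mul_div_cancel_left _ (pow_pos hp.pos k)]
  have := h _ (pow_mem g.2 (p ^ k)) (by rw [hord]; exact ((Nat.Prime.coprime_iff_not_dvd hp).mpr hm).symm)
  exact Subtype.ext (by simpa using this)

theorem constrained_of_between {G : Type*} [Group G] [Finite G] {p : ℕ} [Fact p.Prime]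
    (hG : Cfsg.IsPConstrained p G) (P : Subgroup G) (hP : IsPGroup p P) (H : Subgroup G)
    (hCH : Subgroup.centralizer (P : Set G) ≤ H) (hHN : H ≤ Subgroup.normalizer (P : Set G))
    (hPH : P ≤ H ∨ H ≤ Subgroup.centralizer (P : Set G)) : Cfsg.IsPConstrained p ↥H := by
  classical
  have hp : p.Prime := Fact.out
  have hcent := Cfsg.Agent.Lib.Helper11.ZJQuot.centralizer_pCore_quotient_le hG
  set N₀ := Cfsg.pPrimeCore p G with hN₀
  haveI hN₀n : N₀.Normal := (pPrimeCore_mem p).1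
  have hN₀c : (Nat.card N₀).Coprime p := (pPrimeCore_mem p).2
  set K := Cfsg.pPrimeCore p ↥H with hK
  haveI hKn : K.Normal := (pPrimeCore_mem p).1
  have hKc : (Nat.card K).Coprime p := (pPrimeCore_mem p).2
  -- Step 1: `O_{p'}(H) ≤ O_{p'}(G)`
  have hE : K.map H.subtype ≤ N₀ := by
    apply Cfsg.Agent.S0661.le_pPrimeCore_of_constrained p hcent P hP (K.map H.subtype)
    · rw [Subgroup.card_map_of_injective H.subtype_injective]; exact hKc
    · rintro _ ⟨e, he, rfl⟩ b hb
      rcases hPH with hPH | hPH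
      · have h1 : (e : G) * b * (e : G)⁻¹ * b⁻¹ ∈ P :=
          mul_mem ((Subgroup.mem_normalizer_iff.mp (hHN e.2) b).mp hb) (inv_mem hb)
        have h2 : e * ⟨b, hPH hb⟩ * e⁻¹ * (⟨b, hPH hb⟩ : ↥H)⁻¹ ∈ K := by
          have := hKn.conj_mem e⁻¹ (inv_mem he) ⟨b, hPH hb⟩
          have h3 := mul_mem he this
          simpa [mul_assoc] using h3
        have h4 : (e : G) * b * (e : G)⁻¹ * b⁻¹ ∈ K.map H.subtype := ⟨_, h2, by simp⟩
        have h5 : P ⊓ K.map H.subtype = ⊥ := by
          apply Cfsg.Agent.Lib.Helper11.ZJQuot.inf_eq_bot_of_pgroup_coprime P _ hP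
          rw [Subgroup.card_map_of_injective H.subtype_injective]; exact hKc
        have h6 : (e : G) * b * (e : G)⁻¹ * b⁻¹ = 1 := by
          have : (e : G) * b * (e : G)⁻¹ * b⁻¹ ∈ P ⊓ K.map H.subtype := Subgroup.mem_inf.mpr ⟨h1, h4⟩
          rwa [h5, Subgroup.mem_bot] at this
        calc H.subtype e * b = ((e : G) * b * (e : G)⁻¹ * b⁻¹) * (b * e) := by
              simp only [Subgroup.coe_subtype]; group
          _ = b * H.subtype e := by rw [h6, one_mul]; rfl
      · exact (Subgroup.mem_centralizer_iff.mp (hPH e.2) b hb).symm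
    · intro y hy e he
      obtain ⟨e', he', rfl⟩ := he
      have hyH : y ∈ H := hCH (Subgroup.mem_centralizer_iff.mpr (fun b hb => (hy b hb).symm))
      exact ⟨⟨y, hyH⟩ * e' * ⟨y, hyH⟩⁻¹, hKn.conj_mem e' he' ⟨y, hyH⟩, by simp⟩
  have hN₀K : N₀.subgroupOf H ≤ K := by
    apply le_pPrimeCore inferInstance
    have h1 : Nat.card ↥(N₀.subgroupOf H) = Nat.card ↥(N₀ ⊓ H) := by
      rw [← Subgroup.card_map_of_injective H.subtype_injective, Subgroup.subgroupOf_map_subtype]
    rw [h1]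
    exact Nat.Coprime.coprime_dvd_left (Subgroup.card_dvd_of_le inf_le_left) hN₀c
  have hQn : (Cfsg.pCore p (G ⧸ N₀)).Normal := Cfsg.Agent.Lib.Helper11.PConstr.pCore_normal'' p _
  have hQp : IsPGroup p (Cfsg.pCore p (G ⧸ N₀)) := pCore_isPGroup p
  -- the main claim
  have hmain : ∀ c : ↥H, QuotientGroup.mk' K c ∈ Subgroup.centralizer
      ((Cfsg.pCore p (↥H ⧸ K) : Subgroup (↥H ⧸ K)) : Set (↥H ⧸ K)) →
      (orderOf (QuotientGroup.mk' K c)).Coprime p → c ∈ K := by
    intro c hc hco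
    set cb : G ⧸ N₀ := QuotientGroup.mk' N₀ (c : G) with hcb
    have hcbo : (orderOf cb).Coprime p := by
      apply Nat.Coprime.coprime_dvd_left _ hco
      apply orderOf_dvd_of_pow_eq_one
      have h1 : c ^ orderOf (QuotientGroup.mk' K c) ∈ K := by
        rw [← QuotientGroup.eq_one_iff, QuotientGroup.mk_pow]
        exact pow_orderOf_eq_one _
      have h2 : ((c ^ orderOf (QuotientGroup.mk' K c) : ↥H) : G) ∈ N₀ := hE ⟨_, h1, rfl⟩
      rw [hcb, ← map_pow, QuotientGroup.mk'_apply, QuotientGroup.eq_one_iff]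
      simpa using h2
    have hkey : ∀ y : ↥H, QuotientGroup.mk' K y ∈ Cfsg.pCore p (↥H ⧸ K) →
        QuotientGroup.mk' N₀ (y : G) * cb = cb * QuotientGroup.mk' N₀ (y : G) := by
      intro y hy
      have h1 := Subgroup.mem_centralizer_iff.mp hc _ hy
      rw [← map_mul, ← map_mul, QuotientGroup.mk'_apply, QuotientGroup.mk'_apply,
        QuotientGroup.eq] at h1
      have h2 : (((y * c)⁻¹ * (c * y) : ↥H) : G) ∈ N₀ := hE ⟨_, h1, rfl⟩
      rw [hcb, ← map_mul, ← map_mul, QuotientGroup.mk'_apply, QuotientGroup.mk'_apply,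
        QuotientGroup.eq]
      simpa using h2
    have hnp : ∀ Y : Subgroup ↥H, Y.Normal → (∀ y ∈ Y, ∃ k : ℕ, y ^ (p ^ k) ∈ K) →
        ∀ y ∈ Y, QuotientGroup.mk' K y ∈ Cfsg.pCore p (↥H ⧸ K) := by
      intro Y hYn hYp y hy
      have hmapn : (Y.map (QuotientGroup.mk' K)).Normal :=
        hYn.map _ (QuotientGroup.mk'_surjective K)
      have hmapp : IsPGroup p (Y.map (QuotientGroup.mk' K)) := by
        rintro ⟨_, y', hy', rfl⟩
        obtain ⟨k, hk⟩ := hYp y' hy'
        refine ⟨k, Subtype.ext ?_⟩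
        simp only [Subgroup.coe_pow, Subgroup.coe_one]
        rw [← map_pow, QuotientGroup.mk'_apply, QuotientGroup.eq_one_iff]
        exact hk
      exact le_pCore hmapn hmapp (Subgroup.mem_map_of_mem _ hy)
    have ha : ∀ b ∈ P, QuotientGroup.mk' N₀ b * cb = cb * QuotientGroup.mk' N₀ b := by
      intro b hb
      rcases hPH with hPH | hPH
      · have hPn : (P.subgroupOf H).Normal :=
          (Subgroup.normal_subgroupOf_iff_le_normalizer hPH).mpr hHN
        refine hkey ⟨b, hPH hb⟩ (hnp (P.subgroupOf H) hPn ?_ ⟨b, hPH hb⟩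
          (Subgroup.mem_subgroupOf.mpr hb))
        intro y hy
        obtain ⟨k, hk⟩ := hP ⟨(y : G), Subgroup.mem_subgroupOf.mp hy⟩
        refine ⟨k, ?_⟩
        have : y ^ (p ^ k) = 1 := Subtype.ext (by simpa using congrArg Subtype.val hk)
        rw [this]; exact one_mem _
      · have := Subgroup.mem_centralizer_iff.mp (hPH c.2) b hb
        rw [hcb, ← map_mul, ← map_mul, this]
    have hb' : ∀ yb ∈ Cfsg.pCore p (G ⧸ N₀),
        (∀ b ∈ P, QuotientGroup.mk' N₀ b * yb = yb * QuotientGroup.mk' N₀ b) →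
        yb * cb = cb * yb := by
      intro yb hyb hcomm
      obtain ⟨y₀, rfl⟩ := QuotientGroup.mk'_surjective N₀ yb
      have hScard : Nat.card {y' : G | y₀⁻¹ * y' ∈ N₀} = Nat.card N₀ := by
        apply Nat.card_congr
        exact { toFun := fun y' => ⟨y₀⁻¹ * y'.1, y'.2⟩
                invFun := fun n => ⟨y₀ * n.1, by simp⟩
                left_inv := fun y' => Subtype.ext (by simp)
                right_inv := fun n => Subtype.ext (by simp) }
      have hmem : ∀ y' : G, y' ∈ {y' : G | y₀⁻¹ * y' ∈ N₀} ↔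
          QuotientGroup.mk' N₀ y' = QuotientGroup.mk' N₀ y₀ := by
        intro y'
        rw [Set.mem_ofPred_eq, QuotientGroup.mk'_apply, QuotientGroup.mk'_apply, eq_comm,
          QuotientGroup.eq]
      obtain ⟨y, hyS, hyfix⟩ := Cfsg.Agent.S1473.exists_fixed p P hP {y' : G | y₀⁻¹ * y' ∈ N₀}
        (by
          intro u hu y' hy'
          rw [hmem] at hy' ⊢
          rw [map_mul, map_mul, hy', hcomm u hu, map_inv, mul_inv_cancel_right])
        (by
          rw [hScard]
          intro hd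
          exact hp.one_lt.ne' (Nat.Coprime.eq_one_of_dvd hN₀c.symm hd))
      have hyH : y ∈ H := hCH (Subgroup.mem_centralizer_iff.mpr (fun u hu => by
        have := hyfix u hu
        exact mul_inv_eq_iff_eq_mul.mp this))
      have hyy : QuotientGroup.mk' N₀ y = QuotientGroup.mk' N₀ y₀ := (hmem y).mp hyS
      have hYn : (((Cfsg.pCore p (G ⧸ N₀)).comap (QuotientGroup.mk' N₀)).subgroupOf H).Normal :=
        inferInstance
      have hyY : (⟨y, hyH⟩ : ↥H) ∈ ((Cfsg.pCore p (G ⧸ N₀)).comap (QuotientGroup.mk' N₀)).subgroupOf H := by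
        rw [Subgroup.mem_subgroupOf, Subgroup.mem_comap]
        show QuotientGroup.mk' N₀ y ∈ _
        rw [hyy]; exact hyb
      have := hkey ⟨y, hyH⟩ (hnp _ hYn (by
        intro y' hy'
        rw [Subgroup.mem_subgroupOf, Subgroup.mem_comap] at hy'
        obtain ⟨k, hk⟩ := hQp ⟨_, hy'⟩
        refine ⟨k, hN₀K ?_⟩
        rw [Subgroup.mem_subgroupOf]
        have hk' := congrArg Subtype.val hk
        simp only [Subgroup.coe_pow, Subgroup.coe_one] at hk'
        rw [← map_pow, QuotientGroup.mk'_apply, QuotientGroup.eq_one_iff] at hk'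
        simpa using hk') ⟨y, hyH⟩ hyY)
      rw [← hyy]
      exact this
    set Pb := P.map (QuotientGroup.mk' N₀) with hPb
    have hPbp : IsPGroup p Pb := hP.map _
    have hnorm : ∀ x : G ⧸ N₀, x ∈ Subgroup.normalizer
        ((Cfsg.pCore p (G ⧸ N₀) : Subgroup (G ⧸ N₀)) : Set (G ⧸ N₀)) := by
      intro x
      rw [Subgroup.normalizer_eq_top_iff.mpr hQn]
      exact Subgroup.mem_top x
    have hHp : IsPGroup p ↥(Cfsg.pCore p (G ⧸ N₀) ⊔ Pb) :=
      IsPGroup.to_sup_of_normal_left' hQp hPbp (fun x _ => hnorm x)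
    have hAB := Cfsg.Agent.Lib.Helper24.Coprime.thompson_AxB p (Cfsg.pCore p (G ⧸ N₀) ⊔ Pb) hHp
      Pb le_sup_right cb hcbo
      (by
        rintro _ ⟨b, hb, rfl⟩
        exact ha b hb)
      (Cfsg.pCore p (G ⧸ N₀)) le_sup_left (hnorm cb) (fun x _ => hnorm x)
      (by
        intro x hx hxb
        exact hb' x hx (fun b hb => hxb _ (Subgroup.mem_map_of_mem _ hb)))
    have hcbQ : cb ∈ Cfsg.pCore p (G ⧸ N₀) :=
      hcent (Subgroup.mem_centralizer_iff.mpr (fun x hx => hAB x hx))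
    obtain ⟨k, hk⟩ := hQp ⟨cb, hcbQ⟩
    have hk' : cb ^ (p ^ k) = 1 := by simpa using congrArg Subtype.val hk
    have h1 : orderOf cb = 1 :=
      Nat.Coprime.eq_one_of_dvd (Nat.Coprime.pow_right k hcbo) (orderOf_dvd_of_pow_eq_one hk')
    have h2 : cb = 1 := orderOf_eq_one_iff.mp h1
    rw [hcb, QuotientGroup.mk'_apply, QuotientGroup.eq_one_iff] at h2
    exact hN₀K (Subgroup.mem_subgroupOf.mpr h2)
  have hcentH : Subgroup.centralizer ((Cfsg.pCore p (↥H ⧸ K) : Subgroup (↥H ⧸ K)) : Set (↥H ⧸ K))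
      ≤ Cfsg.pCore p (↥H ⧸ K) := by
    haveI hRn : (Cfsg.pCore p (↥H ⧸ K)).Normal := Cfsg.Agent.Lib.Helper11.PConstr.pCore_normal'' p _
    apply le_pCore inferInstance
    apply isPGroup_of_coprime_trivial
    intro ct hct hco
    obtain ⟨c, rfl⟩ := QuotientGroup.mk'_surjective K ct
    exact (QuotientGroup.eq_one_iff c).mpr (hmain c hct hco)
  intro S x hx
  show QuotientGroup.mk' K x ∈ Cfsg.pCore p (↥H ⧸ K)
  apply hcentH
  rw [← Cfsg.Agent.Lib.Helper11.ZJQuot.map_sylow_eq_pCore S, Subgroup.mem_centralizer_iff]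
  rintro _ ⟨s, hs, rfl⟩
  have := Subgroup.mem_centralizer_iff.mp hx s hs
  rw [← map_mul, ← map_mul, this]

/-- In a p-constrained group the normalizer and the centralizer of any p-subgroup are again p-constrained. -/
theorem result {G : Type*} [Group G] [Finite G] {p : ℕ} [Fact p.Prime] (hG : Cfsg.IsPConstrained p G) (P : Subgroup G) (hP : IsPGroup p P) : Cfsg.IsPConstrained p ↥(Subgroup.normalizer (P : Set G)) ∧ Cfsg.IsPConstrained p ↥(Subgroup.centralizer (P : Set G)) := by
  exact ⟨constrained_of_between hG P hP _ (Subgroup.centralizer_le_normalizer _) le_rfl (Or.inl Subgroup.le_normalizer),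
    constrained_of_between hG P hP _ le_rfl (Subgroup.centralizer_le_normalizer _) (Or.inr le_rfl)⟩

end Cfsg.Agent.S0631
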