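import Cfsg.Statements.S0634
import Cfsg.Agent.Lib.Helper76.PSolv
import Cfsg.Agent.Lib.Helper23.Cores

set_option autoImplicit false
open Cfsg

namespace Cfsg.Agent.S0634

open Cfsg.Agent.Lib.Helper76.PSolv

theorem upper_succ_of_not_even (p : ℕ) (G : Type*) [Group G] (n : ℕ) (hn : ¬ Even n) :
    (Cfsg.upperPSeries p G (n + 1)).1 =
      (Cfsg.pCore p (G ⧸ (Cfsg.upperPSeries p G n).1)).comap (QuotientGroup.mk' _) := by
  rw [Cfsg.upperPSeries]
  simp only [hn, if_false]

theorem upper_succ_of_even (p : ℕ) (G : Type*) [Group G] (n : ℕ) (hn : Even n) :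
    (Cfsg.upperPSeries p G (n + 1)).1 =
      (Cfsg.pPrimeCore p (G ⧸ (Cfsg.upperPSeries p G n).1)).comap (QuotientGroup.mk' _) := by
  rw [Cfsg.upperPSeries]
  simp only [hn, if_true]

/-- The quotient by the preimage of the `p'`-core of a quotient has trivial `p'`-core. -/
theorem pPrimeCore_quotient_comap {G : Type*} [Group G] [Finite G] (p : ℕ) (N : Subgroup G) [N.Normal]
    (M : Subgroup G) [M.Normal]
    (hM : M = (Cfsg.pPrimeCore p (G ⧸ N)).comap (QuotientGroup.mk' N)) :
    Cfsg.pPrimeCore p (G ⧸ M) = ⊥ := by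
  have hNM : N ≤ M := by
    rw [hM]
    intro x hx
    show (QuotientGroup.mk' N x) ∈ Cfsg.pPrimeCore p (G ⧸ N)
    have : QuotientGroup.mk' N x = 1 := (QuotientGroup.eq_one_iff x).mpr hx
    rw [this]; exact Subgroup.one_mem _
  have hmap : M.map (QuotientGroup.mk' N) = Cfsg.pPrimeCore p (G ⧸ N) := by
    rw [hM]
    exact Subgroup.map_comap_eq_self_of_surjective (QuotientGroup.mk'_surjective N) _
  have : (M.map (QuotientGroup.mk' N)).Normal :=
    Subgroup.Normal.map inferInstance _ (QuotientGroup.mk'_surjective N)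
  let e1 : (G ⧸ N) ⧸ M.map (QuotientGroup.mk' N) ≃* G ⧸ M :=
    QuotientGroup.quotientQuotientEquivQuotient N M hNM
  let e2 : (G ⧸ N) ⧸ Cfsg.pPrimeCore p (G ⧸ N) ≃* (G ⧸ N) ⧸ M.map (QuotientGroup.mk' N) :=
    QuotientGroup.quotientMulEquivOfEq hmap.symm
  have h := Cfsg.Agent.Lib.Helper23.Cores.pPrimeCore_map_mulEquiv p (e2.trans e1)
  rw [pPrimeCore_quotient p] at h
  rw [← h]
  simp

/-- In a p-soluble group each p-factor of the upper p-series contains its own centralizer in the corresponding quotient. -/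
theorem result {G : Type*} [Group G] [Finite G] {p : ℕ} [Fact p.Prime] (hsol : Cfsg.IsPSolvable p G) (k : ℕ) : Subgroup.centralizer ((((Cfsg.upperPSeries p G (2 * k + 2)).1.map (QuotientGroup.mk' (Cfsg.upperPSeries p G (2 * k + 1)).1)) : Subgroup (G ⧸ (Cfsg.upperPSeries p G (2 * k + 1)).1)) : Set (G ⧸ (Cfsg.upperPSeries p G (2 * k + 1)).1)) ≤ (Cfsg.upperPSeries p G (2 * k + 2)).1.map (QuotientGroup.mk' (Cfsg.upperPSeries p G (2 * k + 1)).1) := by
  have hodd : ¬ Even (2 * k + 1) := by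
    rw [Nat.not_even_iff_odd]; exact odd_two_mul_add_one k
  have heven : Even (2 * k) := even_two_mul k
  have h1 := upper_succ_of_not_even p G (2 * k + 1) hodd
  have h2 := upper_succ_of_even p G (2 * k) heven
  have hmap : (Cfsg.upperPSeries p G (2 * k + 2)).1.map
      (QuotientGroup.mk' (Cfsg.upperPSeries p G (2 * k + 1)).1) =
      Cfsg.pCore p (G ⧸ (Cfsg.upperPSeries p G (2 * k + 1)).1) := by
    rw [h1]
    exact Subgroup.map_comap_eq_self_of_surjective (QuotientGroup.mk'_surjective _) _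
  rw [hmap]
  apply centralizer_pCore_le p (isPSolvable_quotient p _ hsol)
  exact pPrimeCore_quotient_comap p (Cfsg.upperPSeries p G (2 * k)).1 _ h2

end Cfsg.Agent.S0634
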