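import Cfsg.Statements.S0635
import Cfsg.Agent.S0634
import Cfsg.Agent.Lib.Helper63.PLength

set_option autoImplicit false
open Cfsg

namespace Cfsg.Agent.S0635

open Cfsg.Agent.Lib.Helper63.PLength

universe u

/-- `O_{p',p}(G)` has `p`-length at most one. -/
lemma pLengthLE_upper_two (p : ℕ) [Fact p.Prime] (G : Type u) [Group G] [Finite G] :
    PLengthLE p 1 ↥(upperPSeries p G 2).1 := by
  have hNM : (upperPSeries p G 1).1 ≤ (upperPSeries p G 2).1 := upperPSeries_le_succ p G 1
  have h0 : PLengthLE p 0 ↥((upperPSeries p G 1).1.subgroupOf (upperPSeries p G 2).1) := by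
    apply pLengthLE_zero_of_coprime
    rw [Nat.card_congr (Subgroup.subgroupOfEquivOfLe hNM).toEquiv]
    exact card_upper_one_coprime p G
  have h1 : PLengthLE p 1 (↥(upperPSeries p G 2).1 ⧸
      (upperPSeries p G 1).1.subgroupOf (upperPSeries p G 2).1) := by
    obtain ⟨j, hj⟩ := relIndex_upper_one_two p G
    apply pLengthLE_one_of_card (n := j)
    rw [← Subgroup.index_eq_card]; exact hj
  have h2 := pLengthLE_add _ h0 h1
  rw [zero_add] at h2
  exact h2

theorem main (p : ℕ) [Fact p.Prime] : ∀ (c : ℕ) (G : Type u) [Group G] [Finite G],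
    IsPSolvable p G → ∀ S : Sylow p G, Group.nilpotencyClass ↥(S : Subgroup G) ≤ c →
    PLengthLE p c G := by
  have hp : p.Prime := Fact.out
  intro c
  induction c with
  | zero =>
    intro G _ _ hsol S hS
    haveI : Group.IsNilpotent ↥(S : Subgroup G) := S.isPGroup'.isNilpotent
    have h0 : Group.nilpotencyClass ↥(S : Subgroup G) = 0 := Nat.le_zero.1 hS
    rw [Group.nilpotencyClass_zero_iff_subsingleton] at h0
    have hbot : (S : Subgroup G) = ⊥ := by
      rw [Subgroup.eq_bot_iff_forall]
      intro x hx
      have := Subsingleton.elim (⟨x, hx⟩ : (S : Subgroup G)) 1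
      exact congrArg Subtype.val this
    apply pLengthLE_zero_of_coprime
    rw [Nat.coprime_comm, Nat.Prime.coprime_iff_not_dvd hp]
    intro hdvd
    exact S.ne_bot_of_dvd_card hdvd hbot
  | succ c ih =>
    intro G _ _ hsol S hS
    haveI : Group.IsNilpotent ↥(S : Subgroup G) := S.isPGroup'.isNilpotent
    -- centre of S lies in O_{p',p}(G)
    have hU12 : (upperPSeries p G 1).1 ≤ (upperPSeries p G 2).1 := upperPSeries_le_succ p G 1
    have hmap : (upperPSeries p G 2).1.map (QuotientGroup.mk' (upperPSeries p G 1).1)
        = pCore p (G ⧸ (upperPSeries p G 1).1) := by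
      rw [upperPSeries_succ p G 1,
        Subgroup.map_comap_eq_self_of_surjective (QuotientGroup.mk'_surjective _)]
      unfold stepCore
      rw [if_neg (by decide)]
    have hcent := Cfsg.Agent.S0634.result hsol 0
    have hcent' : Subgroup.centralizer
        (((upperPSeries p G 2).1.map (QuotientGroup.mk' (upperPSeries p G 1).1) :
          Subgroup (G ⧸ (upperPSeries p G 1).1)) : Set (G ⧸ (upperPSeries p G 1).1))
        ≤ (upperPSeries p G 2).1.map (QuotientGroup.mk' (upperPSeries p G 1).1) := hcent
    have hZ : ∀ z : ↥(S : Subgroup G), z ∈ Subgroup.center ↥(S : Subgroup G) →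
        (z : G) ∈ (upperPSeries p G 2).1 := by
      intro z hz
      have h1 : QuotientGroup.mk' (upperPSeries p G 1).1 (z : G) ∈
          (upperPSeries p G 2).1.map (QuotientGroup.mk' (upperPSeries p G 1).1) := by
        apply hcent'
        rw [Subgroup.mem_centralizer_iff]
        intro y hy
        rw [SetLike.mem_coe, hmap] at hy
        have hle : pCore p (G ⧸ (upperPSeries p G 1).1) ≤
            ((S.mapSurjective (QuotientGroup.mk'_surjective (upperPSeries p G 1).1) :
              Sylow p (G ⧸ (upperPSeries p G 1).1)) : Subgroup (G ⧸ (upperPSeries p G 1).1)) :=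
          (Cfsg.Agent.Lib.Helper23.Cores.pCore_isPGroup p).le_sylow_of_normal _
        obtain ⟨s, hs, rfl⟩ := hle hy
        have h2 : (⟨s, hs⟩ : ↥(S : Subgroup G)) * z = z * ⟨s, hs⟩ :=
          Subgroup.mem_center_iff.1 hz ⟨s, hs⟩
        have h3 : s * (z : G) = (z : G) * s := congrArg Subtype.val h2
        rw [← map_mul, ← map_mul, h3]
      have h4 : (z : G) ∈ ((upperPSeries p G 2).1.map
          (QuotientGroup.mk' (upperPSeries p G 1).1)).comap
          (QuotientGroup.mk' (upperPSeries p G 1).1) := h1
      rw [Subgroup.comap_map_eq, QuotientGroup.ker_mk', sup_eq_left.2 hU12] at h4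
      exact h4
    -- the Sylow subgroup of the quotient has smaller class
    have hker : Subgroup.center ↥(S : Subgroup G) ≤
        ((QuotientGroup.mk' (upperPSeries p G 2).1).subgroupMap (S : Subgroup G)).ker := by
      intro z hz
      rw [MonoidHom.mem_ker]
      apply Subtype.ext
      show QuotientGroup.mk' (upperPSeries p G 2).1 (z : G) = 1
      rw [QuotientGroup.mk'_apply, QuotientGroup.eq_one_iff]
      exact hZ z hz
    have hsurj := QuotientGroup.lift_surjective_of_surjective (Subgroup.center ↥(S : Subgroup G))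
      ((QuotientGroup.mk' (upperPSeries p G 2).1).subgroupMap (S : Subgroup G))
      ((QuotientGroup.mk' (upperPSeries p G 2).1).subgroupMap_surjective (S : Subgroup G)) hker
    have hcl := Group.nilpotencyClass_le_of_surjective _ hsurj
    rw [Group.nilpotencyClass_quotient_center] at hcl
    have hcl' : Group.nilpotencyClass
        ↥((S.mapSurjective (QuotientGroup.mk'_surjective (upperPSeries p G 2).1) :
          Sylow p (G ⧸ (upperPSeries p G 2).1)) : Subgroup (G ⧸ (upperPSeries p G 2).1)) ≤ c := by
      have : Group.nilpotencyClass ↥((S : Subgroup G).map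
          (QuotientGroup.mk' (upperPSeries p G 2).1)) ≤ c := by omega
      exact this
    have hQ := ih (G ⧸ (upperPSeries p G 2).1)
      (Cfsg.Agent.Lib.Helper76.PSolv.isPSolvable_quotient p _ hsol) _ hcl'
    have h5 := pLengthLE_add (upperPSeries p G 2).1 (pLengthLE_upper_two p G) hQ
    rw [add_comm] at h5
    exact h5

/-- The p-length of a p-soluble group is at most the nilpotency class of its Sylow p-subgroups. -/
theorem result {G : Type*} [Group G] [Finite G] {p : ℕ} [Fact p.Prime] (hsol : Cfsg.IsPSolvable p G) (S : Sylow p G) : Cfsg.PLengthLE p (Group.nilpotencyClass ↥(S : Subgroup G)) G := by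
  exact main p _ G hsol S le_rfl

end Cfsg.Agent.S0635
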