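import Cfsg.Statements.S0686
import Mathlib
import Cfsg.Agent.Lib.Helper12.MinQuat
import Cfsg.Agent.Lib.Helper12.FpfReg
import Cfsg.Agent.Lib.Helper12.PerfFpf

set_option autoImplicit false
open Cfsg

namespace Cfsg.Agent.S0686

/-- In a linear group over the prime field that is regular on non-zero vectors and has no irreducible cyclic normal subgroup, let `A` be a maximal normal abelian subgroup and `N` a normal subgroup centralising `A` that is minimal among non-abelian normal subgroups centralising `A`. Then `N` is quaternion of order 8 or isomorphic to `SL(2,5)`. -/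
theorem result {p : ℕ} [Fact p.Prime] {V : Type*} [AddCommGroup V] [Module (ZMod p) V] [Finite V] (H : Subgroup (V ≃ₗ[ZMod p] V)) (hreg : ∀ v w : V, v ≠ 0 → w ≠ 0 → ∃! h : H, (h : V ≃ₗ[ZMod p] V) v = w) (hI : ∀ A : Subgroup H, A.Normal → IsCyclic A → ∃ W : Submodule (ZMod p) V, W ≠ ⊥ ∧ W ≠ ⊤ ∧ ∀ a ∈ A, ∀ v ∈ W, ((a : H) : V ≃ₗ[ZMod p] V) v ∈ W) (A : Subgroup H) (hAn : A.Normal) (hAc : IsMulCommutative A) (hAmax : ∀ B : Subgroup H, B.Normal → IsMulCommutative B → A ≤ B → B = A) (N : Subgroup H) (hNn : N.Normal) (hNle : N ≤ Subgroup.centralizer (A : Set H)) (hNna : ¬ IsMulCommutative N) (hNmin : ∀ M : Subgroup H, M.Normal → M ≤ N → ¬ IsMulCommutative M → M = N) : Nonempty (N ≃* QuaternionGroup 2) ∨ Nonempty (N ≃* Matrix.SpecialLinearGroup (Fin 2) (ZMod 5)) := by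
  classical
  open Cfsg.Agent.Lib.Helper12.FpfLin Cfsg.Agent.Lib.Helper12.MinQuat
    Cfsg.Agent.Lib.Helper12.FpfLin in
  haveI : Nontrivial V := by
    obtain ⟨W, hW0, hW1, -⟩ := hI ⊥ inferInstance inferInstance
    by_contra h
    rw [not_nontrivial_iff_subsingleton] at h
    exact hW0 (by ext x; simp [Subsingleton.elim x 0])
  have hf := fpf_of_reg H hreg
  haveI : Finite H := finite_of_fpf hf
  haveI := hNn
  have hcen := cen_of_min A hAn hAc hAmax N hNle hNmin
  have hNna' : ¬ ∀ a ∈ N, ∀ b ∈ N, a * b = b * a := fun h => hNna ((comm_iff N).2 h)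
  by_cases hder : ⁅N, N⁆ = N
  · right
    have hperf : commutator N = ⊤ := by
      haveI : Group.IsPerfect N := Subgroup.isPerfect_iff.mpr hder
      exact Group.IsPerfect.commutator_eq_top
    haveI : Nontrivial N := by
      by_contra hnt
      rw [not_nontrivial_iff_subsingleton] at hnt
      apply hNna'
      intro a ha b hb
      have h1 : (⟨a, ha⟩ : N) = ⟨b, hb⟩ := Subsingleton.elim _ _
      have h2 : a = b := congrArg Subtype.val h1
      rw [h2]
    have hfN : IsFpf (H.subtype.comp N.subtype) :=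
      fun g hg v hv => hf g (fun h => hg (Subtype.ext h)) v hv
    exact Cfsg.Agent.Lib.Helper12.PerfFpf.perf_fpf hfN hperf
  · left
    exact quat_of_min N (fun B hB => abelian_isCyclic hf B hB) hcen hNna' hder

end Cfsg.Agent.S0686
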