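import Cfsg.Statements.S0689
import Mathlib
import Cfsg.Agent.Lib.Helper12.NearJ

set_option autoImplicit false
open Cfsg

namespace Cfsg.Agent.S0689

/-- The insoluble sharply doubly transitive groups: a non-solvable linear group over the prime field that is regular on the non-zero vectors of `V` occurs only for `|V| = 11², 29², 59²`, and is `SL(2,5) × C_m` with `m = 1, 7, 29` respectively. -/
theorem result {p : ℕ} [Fact p.Prime] {V : Type*} [AddCommGroup V] [Module (ZMod p) V] [Finite V] (H : Subgroup (V ≃ₗ[ZMod p] V)) (hreg : ∀ v w : V, v ≠ 0 → w ≠ 0 → ∃! h : H, (h : V ≃ₗ[ZMod p] V) v = w) (hsolv : ¬ Group.IsSolvable H) : (Nat.card V = 121 ∧ Nonempty (H ≃* Matrix.SpecialLinearGroup (Fin 2) (ZMod 5))) ∨ (Nat.card V = 841 ∧ Nonempty (H ≃* Matrix.SpecialLinearGroup (Fin 2) (ZMod 5) × Multiplicative (ZMod 7))) ∨ (Nat.card V = 3481 ∧ Nonempty (H ≃* Matrix.SpecialLinearGroup (Fin 2) (ZMod 5) × Multiplicative (ZMod 29))) := by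
  classical
  open Cfsg.Agent.Lib.Helper12.FpfLin Cfsg.Agent.Lib.Helper12.QuatReg
    Cfsg.Agent.Lib.Helper12.NearJ Cfsg.Agent.Lib.Helper12.PerfD Cfsg.Agent.Lib.Helper12.FpfRing
    Cfsg.Agent.Lib.Helper12.Frame in
  haveI : Nontrivial V := by
    by_contra hV
    rw [not_nontrivial_iff_subsingleton] at hV
    apply hsolv
    haveI : Subsingleton (V ≃ₗ[ZMod p] V) :=
      ⟨fun a b => LinearEquiv.ext (fun v => Subsingleton.elim _ _)⟩
    infer_instance
  have hf := fpf_of_reg H hreg
  haveI : Finite H := finite_of_fpf hf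
  have hcardV := card_of_reg H hreg
  obtain ⟨S, M, hSn, ⟨e⟩, hS120, hnorm, hidx, hinf, hcomm, hsyl, hcop, s, t, hs, ht, F⟩ :=
    Cfsg.Agent.Lib.Helper12.NonSolvD.nonsolv_struct hf hsolv
  have h120 : 120 ∣ Nat.card H := by
    rw [← hS120]; exact Subgroup.card_subgroup_dvd_card S
  have hp2 : p ≠ 2 := by
    intro hp
    have hc := Module.natCard_eq_pow_finrank (K := ZMod p) (V := V)
    rw [Nat.card_zmod] at hc
    have hHpos : 0 < Nat.card H := Nat.card_pos
    rcases Nat.eq_zero_or_pos (Module.finrank (ZMod p) V) with h0 | h0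
    · rw [h0, pow_zero] at hc
      omega
    · have h2 : p ∣ Nat.card V := by
        rw [hc]; exact dvd_pow_self p h0.ne'
      rw [hp] at h2
      omega
  obtain ⟨ψ⟩ := prod_equiv S M hinf hcomm
  have hSM : Nat.card (S ⊔ M : Subgroup H) = 120 * Nat.card M := by
    rw [← Nat.card_congr ψ.toEquiv, Nat.card_prod, hS120]
  have hHcard : Nat.card H = 120 * Nat.card M * (S ⊔ M).index := by
    rw [← hSM]; exact (Subgroup.card_mul_index _).symm
  obtain ⟨W, hW, hWinv⟩ := frame_split F hp2
  have hMW : Nat.card M ∣ Nat.card W - 1 := by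
    have hfM : IsFpf ((H.subtype).comp M.subtype) :=
      fun g hg v hv => hf g (fun h => hg (Subtype.ext h)) v hv
    apply fpf_dvd_sub hfM W
    intro g w hw
    have h1 : toEnd H.subtype (g : H) * toEnd H.subtype s
        = toEnd H.subtype s * toEnd H.subtype (g : H) := by
      rw [← map_mul, ← map_mul, hcomm s hs g g.2]
    have h2 : toEnd H.subtype (g : H) * toEnd H.subtype t
        = toEnd H.subtype t * toEnd H.subtype (g : H) := by
      rw [← map_mul, ← map_mul, hcomm t ht g g.2]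
    exact hWinv (toEnd H.subtype (g : H)) h1 h2 w hw
  have harith := near_arith (Nat.card W) (Nat.card M) (S ⊔ M).index hidx
    (by rw [← hW]; omega) hMW hcop
  rcases harith with ⟨hu, hm, hε⟩ | ⟨hu, hm, hε⟩ | ⟨hu, hm, hε⟩ | ⟨hu, hm, hε⟩
  · left
    refine ⟨by rw [hW, hu], ?_⟩
    have htop : S ⊔ M = ⊤ := Subgroup.index_eq_one.mp hε
    have hMbot : M = ⊥ := Subgroup.card_eq_one.mp hm
    have hStop : S = ⊤ := by rw [hMbot, sup_bot_eq] at htop; exact htop
    exact ⟨((MulEquiv.subgroupCongr hStop).trans Subgroup.topEquiv).symm.trans e⟩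
  · right; left
    refine ⟨by rw [hW, hu], ?_⟩
    have htop : S ⊔ M = ⊤ := Subgroup.index_eq_one.mp hε
    haveI : Fact (Nat.Prime 7) := ⟨by norm_num⟩
    haveI : IsCyclic M := isCyclic_of_prime_card (p := 7) hm
    have eM : M ≃* Multiplicative (ZMod 7) := by
      have e0 := (zmodCyclicMulEquiv (G := M) inferInstance).symm
      rw [hm] at e0
      exact e0
    exact ⟨(Subgroup.topEquiv.symm.trans (MulEquiv.subgroupCongr htop.symm)).trans
      (ψ.symm.trans (MulEquiv.prodCongr e eM))⟩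
  · right; right
    refine ⟨by rw [hW, hu], ?_⟩
    have htop : S ⊔ M = ⊤ := Subgroup.index_eq_one.mp hε
    haveI : Fact (Nat.Prime 29) := ⟨by norm_num⟩
    haveI : IsCyclic M := isCyclic_of_prime_card (p := 29) hm
    have eM : M ≃* Multiplicative (ZMod 29) := by
      have e0 := (zmodCyclicMulEquiv (G := M) inferInstance).symm
      rw [hm] at e0
      exact e0
    exact ⟨(Subgroup.topEquiv.symm.trans (MulEquiv.subgroupCongr htop.symm)).trans
      (ψ.symm.trans (MulEquiv.prodCongr e eM))⟩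
  · exfalso
    exact card_ne_119 p V (by rw [hW, hu])

end Cfsg.Agent.S0689
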