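import Cfsg.Statements.S0692
import Cfsg.Agent.Lib.Helper12.Mat2

set_option autoImplicit false
open Cfsg

namespace Cfsg.Agent.S0692

open Cfsg.Agent.Lib.Helper12.Mat2

def gT : List T := [(0, 10, 1, 0), (2, 4, 1, 8)]

def gTi : List T := [(0, 1, 10, 0), (8, 7, 10, 2)]

def ws : List (List ℕ) :=
  [[], [0], [1], [0, 0], [1, 0], [0, 1], [1, 1], [0, 0, 0], [1, 0, 0], [0, 1, 0], [1, 1, 0], [1, 0, 1], [0, 1, 1], [1, 0, 0, 0], [0, 1, 0, 0], [1, 1, 0, 0], [1, 0, 1, 0], [0, 1, 1, 0], [0, 1, 0, 1], [1, 1, 0, 1], [1, 0, 1, 1], [0, 1, 0, 0, 0], [1, 1, 0, 0, 0], [1, 0, 1, 0, 0], [0, 1, 1, 0, 0], [0, 1, 0, 1, 0], [1, 1, 0, 1, 0], [1, 0, 1, 1, 0], [1, 0, 1, 0, 1], [0, 1, 1, 0, 1], [0, 1, 0, 1, 1], [1, 1, 0, 1, 1], [1, 0, 1, 0, 0, 0], [0, 1, 1, 0, 0, 0], [0, 1,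 0, 1, 0, 0], [1, 1, 0, 1, 0, 0], [1, 0, 1, 1, 0, 0], [1, 0, 1, 0, 1, 0], [0, 1, 1, 0, 1, 0], [0, 1, 0, 1, 1, 0], [1, 1, 0, 1, 1, 0], [1, 1, 0, 1, 0, 1], [1, 0, 1, 1, 0, 1], [1, 0, 1, 0, 1, 1], [0, 1, 0, 1, 0, 0, 0], [1, 1, 0, 1, 0, 0, 0], [1, 0, 1, 1, 0, 0, 0], [1, 0, 1, 0, 1, 0, 0], [0, 1, 1, 0, 1, 0, 0], [0, 1, 0, 1, 1, 0, 0], [1, 1, 0, 1, 1, 0, 0], [1, 1, 0, 1, 0, 1, 0], [1, 0, 1, 1, 0, 1, 0], [1, 0, 1, 0, 1, 1, 0], [0, 1, 1, 0, 1, 0, 1], [0, 1, 0, 1, 1, 0, 1], [1, 1, 0, 1, 1, 0, 1], [1, 1, 0, 1, 0, 1, 1], [1, 0, 1, 0, 1, 0, 0, 0], [0, 1, 1, 0, 1, 0, 0, 0], [0, 1, 0, 1, 1, 0, 0, 0], [1, 1, 0, 1, 1, 0, 0, 0], [1, 1, 0, 1, 0, 1, 0, 0], [1, 0, 1, 1, 0, 1, 0, 0], [1, 0, 1, 0, 1, 1, 0, 0], [0, 1, 1, 0, 1, 0, 1, 0], [0, 1, 0, 1, 1, 0, 1, 0], [1, 1, 0,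 1, 1, 0, 1, 0], [1, 1, 0, 1, 0, 1, 1, 0], [1, 0, 1, 1, 0, 1, 0, 1], [1, 0, 1, 0, 1, 1, 0, 1], [0, 1, 1, 0, 1, 0, 1, 1], [1, 1, 0, 1, 0, 1, 0, 0, 0], [1, 0, 1, 1, 0, 1, 0, 0, 0], [1, 0, 1, 0, 1, 1, 0, 0, 0], [0, 1, 1, 0, 1, 0, 1, 0, 0], [0, 1, 0, 1, 1, 0, 1, 0, 0], [1, 1, 0, 1, 1, 0, 1, 0, 0], [1, 1, 0, 1, 0, 1, 1, 0, 0], [1, 0, 1, 1, 0, 1, 0, 1, 0], [1, 0, 1, 0, 1, 1, 0, 1, 0], [0, 1, 1, 0, 1, 0, 1, 1, 0], [0, 1, 0, 1, 1, 0, 1, 0, 1], [1, 1, 0, 1, 1, 0, 1, 0, 1], [1, 1, 0, 1, 0, 1, 1, 0, 1], [1, 0, 1, 1, 0, 1, 0, 1, 1], [0, 1, 1, 0, 1, 0, 1, 0, 0, 0], [0, 1, 0, 1, 1, 0, 1, 0, 0, 0], [1, 1, 0, 1, 1, 0, 1, 0, 0, 0], [1, 1, 0, 1, 0, 1, 1, 0, 0, 0], [1, 0, 1, 1, 0, 1, 0, 1, 0, 0], [1, 0, 1, 0, 1, 1, 0, 1, 0, 0], [0, 1, 1, 0, 1, 0, 1, 1, 0, 0], [0, 1, 0,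 1, 1, 0, 1, 0, 1, 0], [1, 1, 0, 1, 1, 0, 1, 0, 1, 0], [1, 1, 0, 1, 0, 1, 1, 0, 1, 0], [1, 0, 1, 1, 0, 1, 0, 1, 1, 0], [1, 0, 1, 0, 1, 1, 0, 1, 0, 1], [0, 1, 1, 0, 1, 0, 1, 1, 0, 1], [0, 1, 0, 1, 1, 0, 1, 0, 1, 1], [1, 0, 1, 1, 0, 1, 0, 1, 0, 0, 0], [1, 0, 1, 0, 1, 1, 0, 1, 0, 0, 0], [0, 1, 0, 1, 1, 0, 1, 0, 1, 0, 0], [1, 1, 0, 1, 1, 0, 1, 0, 1, 0, 0], [1, 1, 0, 1, 0, 1, 1, 0, 1, 0, 0], [1, 0, 1, 1, 0, 1, 0, 1, 1, 0, 0], [0, 1, 1, 0, 1, 0, 1, 1, 0, 1, 0], [0, 1, 0, 1, 1, 0, 1, 0, 1, 1, 0], [1, 1, 0, 1, 0, 1, 1, 0, 1, 0, 1], [1, 0, 1, 1, 0, 1, 0, 1, 1, 0, 1], [1, 0, 1, 0, 1, 1, 0, 1, 0, 1, 1], [0, 1, 0, 1, 1, 0, 1, 0, 1, 0, 0, 0], [1, 1, 0, 1, 1, 0, 1, 0, 1, 0, 0, 0], [1, 1, 0, 1, 0, 1, 1, 0, 1, 0, 0, 0], [0, 1, 0, 1, 1, 0, 1, 0, 1, 1, 0, 0], [1, 0,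 1, 1, 0, 1, 0, 1, 1, 0, 1, 0], [1, 0, 1, 0, 1, 1, 0, 1, 0, 1, 1, 0], [0, 1, 1, 0, 1, 0, 1, 1, 0, 1, 0, 1], [0, 1, 0, 1, 1, 0, 1, 0, 1, 1, 0, 1], [1, 1, 0, 1, 0, 1, 1, 0, 1, 0, 1, 1]]

/-- An exceptional sharply doubly transitive group of degree 11^2: the listed matrices generate a subgroup of GL(2,11) of order 120 acting regularly on the non-zero vectors. -/
theorem result (A : Matrix.GeneralLinearGroup (Fin 2) (ZMod 11)) (B : Matrix.GeneralLinearGroup (Fin 2) (ZMod 11)) (hA : (A : Matrix (Fin 2) (Fin 2) (ZMod 11)) = !![0, -1; 1, 0]) (hB : (B : Matrix (Fin 2) (Fin 2) (ZMod 11)) = !![2, 4; 1, -3]) : Nat.card (Subgroup.closure ({A, B} : Set (Matrix.GeneralLinearGroup (Fin 2) (ZMod 11)))) = 120 ∧ ∀ v w : Fin 2 → ZMod 11, v ≠ 0 → w ≠ 0 → ∃! h : Subgroup.closure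 ({A, B} : Set (Matrix.GeneralLinearGroup (Fin 2) (ZMod 11))), Matrix.mulVec ((h : Matrix.GeneralLinearGroup (Fin 2) (ZMod 11)) : Matrix (Fin 2) (Fin 2) (ZMod 11)) v = w := by
  haveI : Fact (Nat.Prime 11) := ⟨by norm_num⟩
  have hA' : (A : Matrix (Fin 2) (Fin 2) (ZMod 11)) = toMat 11 (0, 10, 1, 0) := by
    rw [hA]; decide
  have hAi : ((A⁻¹ : Matrix.GeneralLinearGroup (Fin 2) (ZMod 11)) : Matrix (Fin 2) (Fin 2) (ZMod 11)) = toMat 11 (0, 1, 10, 0) :=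
    inv_tuple hA' (by decide)
  have hB' : (B : Matrix (Fin 2) (Fin 2) (ZMod 11)) = toMat 11 (2, 4, 1, 8) := by
    rw [hB]; decide
  have hBi : ((B⁻¹ : Matrix.GeneralLinearGroup (Fin 2) (ZMod 11)) : Matrix (Fin 2) (Fin 2) (ZMod 11)) = toMat 11 (8, 7, 10, 2) :=
    inv_tuple hB' (by decide)
  have key := main_list (q := 11) ({A, B} : Set (Matrix.GeneralLinearGroup (Fin 2) (ZMod 11))) gT gTi ws ?_ ?_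
    (by decide +kernel) (by decide +kernel) (by decide +kernel) (by decide +kernel) (by decide +kernel)
  · have e : (11 : ℕ) ^ 2 - 1 = 120 := by norm_num
    rw [e] at key
    exact key
  · intro t ht
    simp only [gT, List.mem_cons, List.mem_nil_iff, or_false] at ht
    rcases ht with rfl | rfl
    · exact ⟨A, by simp, hA'⟩
    · exact ⟨B, by simp, hB'⟩
  · intro g hg
    simp only [Set.mem_insert_iff, Set.mem_singleton_iff] at hg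
    rcases hg with rfl | rfl
    · exact ⟨⟨_, by simp [gT, gTi], hA'⟩, ⟨_, by simp [gT, gTi], hAi⟩⟩
    · exact ⟨⟨_, by simp [gT, gTi], hB'⟩, ⟨_, by simp [gT, gTi], hBi⟩⟩

end Cfsg.Agent.S0692
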