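import Cfsg.Statements.S0693
import Cfsg.Agent.Lib.Helper12.Mat2

set_option autoImplicit false
open Cfsg

namespace Cfsg.Agent.S0693

open Cfsg.Agent.Lib.Helper12.Mat2

def gT : List T := [(0, 58, 1, 0), (9, 15, 49, 49)]

def gTi : List T := [(0, 1, 58, 0), (49, 44, 10, 9)]

def ws : List (List ℕ) :=
  [[], [0], [1], [0, 0], [1, 0], [0, 1], [1, 1], [0, 0, 0], [1, 0, 0], [0, 1, 0], [1, 1, 0], [1, 0, 1], [0, 1, 1], [1, 0, 0, 0], [0, 1, 0, 0], [1, 1, 0, 0], [1, 0, 1, 0], [0, 1, 1, 0], [0, 1, 0, 1], [1, 1, 0, 1], [1, 0, 1, 1], [0, 1, 0, 0, 0], [1, 1, 0, 0, 0], [1, 0, 1, 0, 0], [0, 1, 1, 0, 0], [0, 1, 0, 1, 0], [1, 1, 0, 1, 0], [1, 0, 1, 1, 0], [1, 0, 1, 0, 1], [0, 1, 1, 0, 1], [0, 1, 0, 1, 1], [1, 1, 0, 1, 1], [1, 0, 1, 0, 0, 0], [0, 1, 1, 0, 0, 0], [0, 1, 0, 1, 0, 0], [1, 1, 0, 1, 0, 0], [1, 0, 1, 1, 0, 0], [1, 0, 1, 0, 1, 0], [0, 1, 1, 0, 1, 0], [0, 1, 0, 1, 1, 0],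 [1, 1, 0, 1, 1, 0], [1, 1, 0, 1, 0, 1], [1, 0, 1, 1, 0, 1], [1, 0, 1, 0, 1, 1], [0, 1, 0, 1, 0, 0, 0], [1, 1, 0, 1, 0, 0, 0], [1, 0, 1, 1, 0, 0, 0], [1, 0, 1, 0, 1, 0, 0], [0, 1, 1, 0, 1, 0, 0], [0, 1, 0, 1, 1, 0, 0], [1, 1, 0, 1, 1, 0, 0], [1, 1, 0, 1, 0, 1, 0], [1, 0, 1, 1, 0, 1, 0], [1, 0, 1, 0, 1, 1, 0], [0, 1, 1, 0, 1, 0, 1], [0, 1, 0, 1, 1, 0, 1], [1, 1, 0, 1, 1, 0, 1], [1, 1, 0, 1, 0, 1, 1], [1, 0, 1, 0, 1, 0, 0, 0], [0, 1, 1, 0, 1, 0, 0, 0], [0, 1, 0, 1, 1, 0, 0, 0], [1, 1, 0, 1, 1, 0, 0, 0], [1, 1, 0, 1, 0, 1, 0, 0], [1, 0, 1, 1, 0, 1, 0, 0], [1, 0, 1, 0, 1, 1, 0, 0], [0, 1, 1, 0, 1, 0, 1, 0], [0, 1, 0, 1, 1, 0, 1, 0], [1, 1, 0, 1, 1, 0, 1, 0], [1, 1, 0, 1, 0, 1, 1, 0], [1, 0, 1, 1, 0, 1, 0, 1], [1, 0, 1, 0, 1, 1, 0, 1], [0, 1, 1, 0, 1, 0, 1, 1], [1, 1, 0, 1, 0, 1, 0, 0, 0], [1, 0, 1, 1, 0, 1, 0, 0, 0], [1, 0, 1, 0, 1, 1, 0, 0, 0], [0, 1, 1, 0, 1, 0, 1,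 0, 0], [0, 1, 0, 1, 1, 0, 1, 0, 0], [1, 1, 0, 1, 1, 0, 1, 0, 0], [1, 1, 0, 1, 0, 1, 1, 0, 0], [1, 0, 1, 1, 0, 1, 0, 1, 0], [1, 0, 1, 0, 1, 1, 0, 1, 0], [0, 1, 1, 0, 1, 0, 1, 1, 0], [0, 1, 0, 1, 1, 0, 1, 0, 1], [1, 1, 0, 1, 1, 0, 1, 0, 1], [1, 1, 0, 1, 0, 1, 1, 0, 1], [1, 0, 1, 1, 0, 1, 0, 1, 1], [0, 1, 1, 0, 1, 0, 1, 0, 0, 0], [0, 1, 0, 1, 1, 0, 1, 0, 0, 0], [1, 1, 0, 1, 1, 0, 1, 0, 0, 0], [1, 1, 0, 1, 0, 1, 1, 0, 0, 0], [1, 0, 1, 1, 0, 1, 0, 1, 0, 0], [1, 0, 1, 0, 1, 1, 0, 1, 0, 0], [0, 1, 1, 0, 1, 0, 1, 1, 0, 0], [0, 1, 0, 1, 1, 0, 1, 0, 1, 0], [1, 1, 0, 1, 1, 0, 1, 0, 1, 0], [1, 1, 0, 1, 0, 1, 1, 0, 1, 0], [1, 0, 1, 1, 0, 1, 0, 1, 1, 0], [1, 0, 1, 0, 1, 1, 0, 1, 0, 1], [0, 1, 1, 0, 1, 0, 1, 1, 0, 1], [0, 1, 0, 1, 1, 0, 1, 0, 1, 1], [1, 0, 1, 1, 0, 1, 0, 1, 0, 0, 0], [1, 0, 1, 0, 1, 1, 0, 1, 0, 0, 0], [0, 1, 0, 1, 1, 0, 1, 0, 1, 0, 0], [1, 1, 0, 1, 1, 0, 1, 0,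 1, 0, 0], [1, 1, 0, 1, 0, 1, 1, 0, 1, 0, 0], [1, 0, 1, 1, 0, 1, 0, 1, 1, 0, 0], [0, 1, 1, 0, 1, 0, 1, 1, 0, 1, 0], [0, 1, 0, 1, 1, 0, 1, 0, 1, 1, 0], [1, 1, 0, 1, 0, 1, 1, 0, 1, 0, 1], [1, 0, 1, 1, 0, 1, 0, 1, 1, 0, 1], [1, 0, 1, 0, 1, 1, 0, 1, 0, 1, 1], [0, 1, 0, 1, 1, 0, 1, 0, 1, 0, 0, 0], [1, 1, 0, 1, 1, 0, 1, 0, 1, 0, 0, 0], [1, 1, 0, 1, 0, 1, 1, 0, 1, 0, 0, 0], [0, 1, 0, 1, 1, 0, 1, 0, 1, 1, 0, 0], [1, 0, 1, 1, 0, 1, 0, 1, 1, 0, 1, 0], [1, 0, 1, 0, 1, 1, 0, 1, 0, 1, 1, 0], [0, 1, 1, 0, 1, 0, 1, 1, 0, 1, 0, 1], [0, 1, 0, 1, 1, 0, 1, 0, 1, 1, 0, 1], [1, 1, 0, 1, 0, 1, 1, 0, 1, 0, 1, 1]]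

def LS : List T := ws.map (evalW 59 gT)

theorem hclosed : closedB 59 LS (gT ++ gTi) = true := by decide +kernel

theorem hnodup : nodupB LS = true := by decide +kernel

theorem hone : tmem one LS = true := by decide +kernel

theorem hfreeAll : ((List.range 29).all
    (fun i => LS.all (fun s => freeB 59 (tmul 59 (scal (4 ^ i % 59)) s)))) = true := by
  decide +kernel

theorem hlen : ws.length = 120 := by decide +kernel

theorem h429 : (4 : ZMod 59) ^ 29 = 1 := by decide +kernel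

theorem h4ne : (4 : ZMod 59) ≠ 1 := by decide +kernel

/-- An exceptional sharply doubly transitive group of degree 59^2: the listed matrices generate a subgroup of GL(2,59) of order 3480 acting regularly on the non-zero vectors. -/
theorem result (A : Matrix.GeneralLinearGroup (Fin 2) (ZMod 59)) (B : Matrix.GeneralLinearGroup (Fin 2) (ZMod 59)) (C : Matrix.GeneralLinearGroup (Fin 2) (ZMod 59)) (hA : (A : Matrix (Fin 2) (Fin 2) (ZMod 59)) = !![0, -1; 1, 0]) (hB : (B : Matrix (Fin 2) (Fin 2) (ZMod 59)) = !![9, 15; -10, -10]) (hC : (C : Matrix (Fin 2) (Fin 2) (ZMod 59)) = !![4, 0; 0, 4]) : Nat.card (Subgroup.closure ({A, B, C} : Set (Matrix.GeneralLinearGroup (Fin 2) (ZMod 59)))) = 3480 ∧ ∀ v w : Fin 2 → ZMod 59, v ≠ 0 → w ≠ 0 → ∃! h : Subgroup.closure ({A, B, C} : Set (Matrix.GeneralLinearGroup (Fin 2) (ZMod 59))), Matrix.mulVec ((h : Matrix.GeneralLinearGroup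 (Fin 2) (ZMod 59)) : Matrix (Fin 2) (Fin 2) (ZMod 59)) v = w := by
  haveI : Fact (Nat.Prime 59) := ⟨by norm_num⟩
  have hA' : (A : Matrix (Fin 2) (Fin 2) (ZMod 59)) = toMat 59 (0, 58, 1, 0) := by
    rw [hA]; decide +kernel
  have hB' : (B : Matrix (Fin 2) (Fin 2) (ZMod 59)) = toMat 59 (9, 15, 49, 49) := by
    rw [hB]; decide +kernel
  have hC' : (C : Matrix (Fin 2) (Fin 2) (ZMod 59)) = toMat 59 (4, 0, 0, 4) := by
    rw [hC]; decide +kernel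
  have hAi : ((A⁻¹ : Matrix.GeneralLinearGroup (Fin 2) (ZMod 59)) : Matrix (Fin 2) (Fin 2) (ZMod 59)) = toMat 59 (0, 1, 58, 0) :=
    inv_tuple hA' (by decide)
  have hBi : ((B⁻¹ : Matrix.GeneralLinearGroup (Fin 2) (ZMod 59)) : Matrix (Fin 2) (Fin 2) (ZMod 59)) = toMat 59 (49, 44, 10, 9) :=
    inv_tuple hB' (by decide)
  have hCi : ((C⁻¹ : Matrix.GeneralLinearGroup (Fin 2) (ZMod 59)) : Matrix (Fin 2) (Fin 2) (ZMod 59)) = toMat 59 (15, 0, 0, 15) :=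
    inv_tuple hC' (by decide)
  have hCs : (C : Matrix (Fin 2) (Fin 2) (ZMod 59)) = (4 : ZMod 59) • (1 : Matrix (Fin 2) (Fin 2) (ZMod 59)) := by
    rw [hC', show ((4, 0, 0, 4) : T) = scal 4 from rfl, toMat_scal]; rfl
  have hCis : ((C⁻¹ : Matrix.GeneralLinearGroup (Fin 2) (ZMod 59)) : Matrix (Fin 2) (Fin 2) (ZMod 59)) = ((4 : ZMod 59) ^ 28) • (1 : Matrix (Fin 2) (Fin 2) (ZMod 59)) := by
    rw [hCi, show ((15, 0, 0, 15) : T) = scal 15 from rfl, toMat_scal]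
    congr 1
  have hcl := closedB_spec hclosed
  have honeL : one ∈ LS := (tmem_iff _ _).mp hone
  -- the subgroup generated by A and B has order 120
  have hKsub := closure_subset (q := 59) ({A, B} : Set (Matrix.GeneralLinearGroup (Fin 2) (ZMod 59))) LS (gT ++ gTi) honeL
    (by
      intro g hg
      simp only [Set.mem_insert_iff, Set.mem_singleton_iff] at hg
      rcases hg with rfl | rfl
      · exact ⟨⟨_, by simp [gT, gTi], hA'⟩, ⟨_, by simp [gT, gTi], hAi⟩⟩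
      · exact ⟨⟨_, by simp [gT, gTi], hB'⟩, ⟨_, by simp [gT, gTi], hBi⟩⟩) hcl
  have hKle : Nat.card (Subgroup.closure ({A, B} : Set (Matrix.GeneralLinearGroup (Fin 2) (ZMod 59)))) ≤ 120 := by
    have := card_le _ LS hKsub
    simpa [LS, hlen] using this
  have hKge : 120 ≤ Nat.card (Subgroup.closure ({A, B} : Set (Matrix.GeneralLinearGroup (Fin 2) (ZMod 59)))) := by
    have := card_ge (q := 59) (by norm_num) ({A, B} : Set (Matrix.GeneralLinearGroup (Fin 2) (ZMod 59))) gT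
      (by
        intro t ht
        simp only [gT, List.mem_cons, List.mem_nil_iff, or_false] at ht
        rcases ht with rfl | rfl
        · exact ⟨A, by simp, hA'⟩
        · exact ⟨B, by simp, hB'⟩) ws (nodupB_spec hnodup)
    rwa [hlen] at this
  have hK : Nat.card (Subgroup.closure ({A, B} : Set (Matrix.GeneralLinearGroup (Fin 2) (ZMod 59)))) = 120 :=
    le_antisymm hKle hKge
  -- description of the whole group
  have hS : ∀ h ∈ Subgroup.closure ({A, B, C} : Set (Matrix.GeneralLinearGroup (Fin 2) (ZMod 59))),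
      ∃ i : ℕ, ∃ s ∈ LS, (h : Matrix (Fin 2) (Fin 2) (ZMod 59)) = ((4 : ZMod 59) ^ i) • toMat 59 s := by
    intro h hh
    induction hh using Subgroup.closure_induction_right with
    | one => exact ⟨0, one, honeL, by rw [toMat_one, pow_zero, one_smul]; rfl⟩
    | mul_right x hx y hy ih =>
      obtain ⟨i, s, hs, hxs⟩ := ih
      simp only [Set.mem_insert_iff, Set.mem_singleton_iff] at hy
      rcases hy with rfl | rfl | rfl
      · exact ⟨i, _, hcl s hs (0, 58, 1, 0) (by simp [gT, gTi]), by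
          rw [Units.val_mul, hxs, hA', toMat_tmul, Matrix.smul_mul]⟩
      · exact ⟨i, _, hcl s hs (9, 15, 49, 49) (by simp [gT, gTi]), by
          rw [Units.val_mul, hxs, hB', toMat_tmul, Matrix.smul_mul]⟩
      · exact ⟨i + 1, s, hs, by
          rw [Units.val_mul, hxs, hCs, Matrix.mul_smul, mul_one, smul_smul, pow_succ, mul_comm]⟩
    | mul_inv_cancel x hx y hy ih =>
      obtain ⟨i, s, hs, hxs⟩ := ih
      simp only [Set.mem_insert_iff, Set.mem_singleton_iff] at hy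
      rcases hy with rfl | rfl | rfl
      · exact ⟨i, _, hcl s hs (0, 1, 58, 0) (by simp [gT, gTi]), by
          rw [Units.val_mul, hxs, hAi, toMat_tmul, Matrix.smul_mul]⟩
      · exact ⟨i, _, hcl s hs (49, 44, 10, 9) (by simp [gT, gTi]), by
          rw [Units.val_mul, hxs, hBi, toMat_tmul, Matrix.smul_mul]⟩
      · exact ⟨i + 28, s, hs, by
          rw [Units.val_mul, hxs, hCis, Matrix.mul_smul, mul_one, smul_smul, pow_add, mul_comm]⟩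
  have hfree : ∀ h ∈ Subgroup.closure ({A, B, C} : Set (Matrix.GeneralLinearGroup (Fin 2) (ZMod 59))),
      ∃ x : T, (h : Matrix (Fin 2) (Fin 2) (ZMod 59)) = toMat 59 x ∧
        (toMat 59 x = 1 ∨ (toMat 59 x - 1).det ≠ 0) := by
    intro h hh
    obtain ⟨i, s, hs, hxs⟩ := hS h hh
    refine ⟨tmul 59 (scal (4 ^ (i % 29) % 59)) s, ?_, ?_⟩
    · rw [hxs, toMat_tmul, toMat_scal, Matrix.smul_mul, one_mul, pow_eq_pow_mod i h429]
      congr 1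
      rw [ZMod.natCast_mod]
      push_cast
      rfl
    · apply freeB_spec (by norm_num)
      have h1 := hfreeAll
      rw [List.all_eq_true] at h1
      have h2 := h1 (i % 29) (List.mem_range.mpr (Nat.mod_lt _ (by norm_num)))
      rw [List.all_eq_true] at h2
      exact h2 s hs
  -- lower bound by Lagrange
  have hlower : 59 ^ 2 - 1 ≤ Nat.card (Subgroup.closure ({A, B, C} : Set (Matrix.GeneralLinearGroup (Fin 2) (ZMod 59)))) := by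
    have hle : Subgroup.closure ({A, B} : Set (Matrix.GeneralLinearGroup (Fin 2) (ZMod 59))) ≤
        Subgroup.closure ({A, B, C} : Set (Matrix.GeneralLinearGroup (Fin 2) (ZMod 59))) := by
      apply Subgroup.closure_mono
      intro x hx
      simp only [Set.mem_insert_iff, Set.mem_singleton_iff] at hx ⊢
      rcases hx with h | h
      · exact Or.inl h
      · exact Or.inr (Or.inl h)
    have h120 : 120 ∣ Nat.card (Subgroup.closure ({A, B, C} : Set (Matrix.GeneralLinearGroup (Fin 2) (ZMod 59)))) := by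
      rw [← hK]; exact Subgroup.card_dvd_of_le hle
    have hCmem : C ∈ Subgroup.closure ({A, B, C} : Set (Matrix.GeneralLinearGroup (Fin 2) (ZMod 59))) :=
      Subgroup.subset_closure (by simp)
    have hC29 : C ^ 29 = 1 := by
      apply Units.ext
      rw [Units.val_pow_eq_pow_val, hCs, smul_pow, one_pow, h429, one_smul]; rfl
    have hC1 : C ≠ 1 := by
      intro h
      have h2 : (C : Matrix (Fin 2) (Fin 2) (ZMod 59)) 0 0 = (1 : Matrix (Fin 2) (Fin 2) (ZMod 59)) 0 0 := by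
        rw [h]; rfl
      rw [hCs] at h2
      simp at h2
      exact h4ne h2
    haveI : Fact (Nat.Prime 29) := ⟨by norm_num⟩
    have hord : orderOf C = 29 := orderOf_eq_prime hC29 hC1
    have h29 : 29 ∣ Nat.card (Subgroup.closure ({A, B, C} : Set (Matrix.GeneralLinearGroup (Fin 2) (ZMod 59)))) := by
      rw [← hord]
      exact Subgroup.orderOf_dvd_natCard _ hCmem
    have hcop : Nat.Coprime 120 29 := by norm_num
    have h3480 := hcop.mul_dvd_of_dvd_of_dvd h120 h29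
    have hpos : 0 < Nat.card (Subgroup.closure ({A, B, C} : Set (Matrix.GeneralLinearGroup (Fin 2) (ZMod 59)))) := Nat.card_pos
    have := Nat.le_of_dvd hpos h3480
    norm_num at this ⊢
    exact this
  have key := regular (q := 59) _ hfree hlower
  have e : (59 : ℕ) ^ 2 - 1 = 3480 := by norm_num
  rw [e] at key
  exact key

end Cfsg.Agent.S0693
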