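import Cfsg.Statements.S0825
import Mathlib
import Cfsg.Agent.Lib.Helper45.OrthCard
import Cfsg.Agent.Lib.Helper45.OrthDih
import Cfsg.Agent.S5912

set_option autoImplicit false
open Cfsg

namespace Cfsg.Agent.S0825

open Matrix

/-- the `x`-part of the isometric embedding of the hyperbolic space into the even-weight space -/
def Xm : Matrix (Fin 8) (Fin 3) (ZMod 2) :=
  !![1, 1, 1; 1, 1, 0; 1, 0, 1; 1, 0, 0; 0, 0, 0; 0, 1, 0; 0, 1, 1; 0, 0, 1]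

/-- the `y`-part -/
def Ym : Matrix (Fin 8) (Fin 3) (ZMod 2) :=
  !![1, 1, 1; 1, 1, 0; 1, 0, 0; 0, 0, 1; 1, 0, 1; 0, 1, 1; 0, 0, 0; 0, 1, 0]

/-- the embedding matrix -/
def Rm : Matrix (Fin 8) (Fin 3 ⊕ Fin 3) (ZMod 2) :=
  Matrix.of fun i j => Sum.elim (fun a => Xm i a) (fun b => Ym i b) j

/-- the projection matrix -/
def Pm : Matrix (Fin 3 ⊕ Fin 3) (Fin 8) (ZMod 2) :=
  Matrix.of fun j i => Sum.elim (fun a => Ym i a) (fun b => Xm i b) j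

/-- weight of a binary vector -/
def wt (v : Fin 8 → ZMod 2) : ℕ := ∑ i, (v i).val

theorem PR : Pm * Rm = 1 := by decide

theorem P_one : Pm *ᵥ 1 = 0 := by decide

theorem one_R : (1 : Fin 8 → ZMod 2) ᵥ* Rm = 0 := by decide

set_option maxRecDepth 100000 in
theorem F2 : ∀ v : Fin 8 → ZMod 2, ∑ i, v i = 0 →
    (Rm * Pm) *ᵥ v = v ∨ (Rm * Pm) *ᵥ v = v + 1 := by decide

set_option maxRecDepth 100000 in
theorem D2 : ∀ v : Fin 8 → ZMod 2, ∑ i, v i = 0 →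
    Cfsg.quadFormPlus 3 (ZMod 2) (Pm *ᵥ v) = ((wt v / 2 : ℕ) : ZMod 2) := by decide

open Cfsg.Agent.Lib.Helper45.OrthStep Cfsg.Agent.Lib.Helper45.OrthCard

theorem sum_perm (σ : Equiv.Perm (Fin 8)) (v : Fin 8 → ZMod 2) :
    ∑ i, (v ∘ ⇑σ⁻¹) i = ∑ i, v i := Equiv.sum_comp σ⁻¹ v

theorem wt_perm (σ : Equiv.Perm (Fin 8)) (v : Fin 8 → ZMod 2) : wt (v ∘ ⇑σ⁻¹) = wt v :=
  Equiv.sum_comp σ⁻¹ (fun i => (v i).val)

theorem sum_R (w : Fin 3 ⊕ Fin 3 → ZMod 2) : ∑ i, (Rm *ᵥ w) i = 0 := by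
  have h : ∑ i, (Rm *ᵥ w) i = (1 : Fin 8 → ZMod 2) ⬝ᵥ (Rm *ᵥ w) := by
    simp [dotProduct]
  rw [h, Matrix.dotProduct_mulVec, one_R, zero_dotProduct]

/-- the linear map induced by a permutation of the eight coordinates -/
noncomputable def Lm (σ : Equiv.Perm (Fin 8)) :
    (Fin 3 ⊕ Fin 3 → ZMod 2) →ₗ[ZMod 2] (Fin 3 ⊕ Fin 3 → ZMod 2) :=
  Pm.mulVecLin ∘ₗ LinearMap.funLeft (ZMod 2) (ZMod 2) ⇑σ⁻¹ ∘ₗ Rm.mulVecLin

theorem Lm_apply (σ : Equiv.Perm (Fin 8)) (w : Fin 3 ⊕ Fin 3 → ZMod 2) :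
    Lm σ w = Pm *ᵥ ((Rm *ᵥ w) ∘ ⇑σ⁻¹) := rfl

theorem Lm_iso (σ : Equiv.Perm (Fin 8)) : IsIso (QP 3) (Lm σ) := by
  intro w
  rw [QP_apply, QP_apply, Lm_apply, D2 _ (by rw [sum_perm]; exact sum_R w), wt_perm,
    ← D2 _ (sum_R w), Matrix.mulVec_mulVec, PR, Matrix.one_mulVec]

theorem Lm_mul (σ τ : Equiv.Perm (Fin 8)) (w : Fin 3 ⊕ Fin 3 → ZMod 2) :
    Lm (σ * τ) w = Lm σ (Lm τ w) := by
  rw [Lm_apply, Lm_apply, Lm_apply]
  obtain ⟨v, hv⟩ : ∃ v : Fin 8 → ZMod 2, v = (Rm *ᵥ w) ∘ ⇑τ⁻¹ := ⟨_, rfl⟩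
  have hvE : ∑ i, v i = 0 := by
    rw [hv, sum_perm]
    exact sum_R w
  have h1 : (Rm *ᵥ w) ∘ ⇑(σ * τ)⁻¹ = v ∘ ⇑σ⁻¹ := by
    rw [hv, _root_.mul_inv_rev]
    rfl
  rw [h1, ← hv, Matrix.mulVec_mulVec]
  rcases F2 v hvE with h | h
  · rw [h]
  · rw [h]
    have h2 : (v + 1) ∘ ⇑σ⁻¹ = v ∘ ⇑σ⁻¹ + 1 := rfl
    rw [h2, Matrix.mulVec_add, P_one, add_zero]

/-- the homomorphism `S₈ → O⁺₆(2)` over `ZMod 2` -/
noncomputable def Ψ : Equiv.Perm (Fin 8) →*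
    ↥(Cfsg.isometryGroup (ZMod 2) (⇑(QP (F := ZMod 2) 3))) :=
  MonoidHom.mk' (fun σ => mkO (QP 3) (nd_QP 3) (LinearMap.toMatrix' (Lm σ))
      (fun v => by rw [LinearMap.toMatrix'_mulVec]; exact Lm_iso σ v))
    (by
      intro σ τ
      apply Cfsg.Agent.Lib.Helper45.OrthDih.ext_act
      intro v
      rw [Cfsg.Agent.Lib.Helper45.OrthDih.act_mul, mkO_coe, mkO_coe, mkO_coe,
        LinearMap.toMatrix'_mulVec, LinearMap.toMatrix'_mulVec, LinearMap.toMatrix'_mulVec,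
        Lm_mul])

theorem Ψ_apply (σ : Equiv.Perm (Fin 8)) (v : Fin 3 ⊕ Fin 3 → ZMod 2) :
    ((Ψ σ : GL (Fin 3 ⊕ Fin 3) (ZMod 2)) : Matrix (Fin 3 ⊕ Fin 3) (Fin 3 ⊕ Fin 3) (ZMod 2)) *ᵥ v =
      Lm σ v := by
  show (LinearMap.toMatrix' (Lm σ)) *ᵥ v = _
  rw [LinearMap.toMatrix'_mulVec]

theorem cyc_ne : Pm *ᵥ ((Rm *ᵥ (Pi.single (Sum.inl 1) 1)) ∘
    ⇑((Equiv.swap (0 : Fin 8) 1 * Equiv.swap 1 2 : Equiv.Perm (Fin 8))⁻¹)) ≠
      Pi.single (Sum.inl 1) 1 := by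
  decide

theorem Ψ_injective : Function.Injective Ψ := by
  rw [← MonoidHom.ker_eq_bot_iff]
  rcases Cfsg.Agent.S5912.normal_dichotomy (Ω := Fin 8) (by simp) Ψ.ker inferInstance with h | h
  · exact h
  · exfalso
    have hc : (Equiv.swap (0 : Fin 8) 1 * Equiv.swap 1 2) ∈ alternatingGroup (Fin 8) := by
      rw [Equiv.Perm.mem_alternatingGroup]
      decide
    have h1 := h hc
    rw [MonoidHom.mem_ker] at h1
    have h2 := Ψ_apply (Equiv.swap (0 : Fin 8) 1 * Equiv.swap 1 2) (Pi.single (Sum.inl 1) 1)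
    rw [h1, Lm_apply] at h2
    apply cyc_ne
    rw [← h2]
    exact Cfsg.Agent.Lib.Helper45.OrthDih.act_one (QP 3) _

section Transfer

variable {K F : Type*} [Field K] [Field F]

theorem quadFormPlus_map (φ : K →+* F) (m : ℕ) (u : Fin m ⊕ Fin m → K) :
    Cfsg.quadFormPlus m F (φ ∘ u) = φ (Cfsg.quadFormPlus m K u) := by
  simp [Cfsg.quadFormPlus, map_sum]

/-- isometries of the plus form transfer along a ring isomorphism -/
noncomputable def transfer (φ : K ≃+* F) (m : ℕ) :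
    ↥(Cfsg.isometryGroup K (⇑(QP (F := K) m))) →* ↥(Cfsg.isometryGroup F (⇑(QP (F := F) m))) :=
  ((Matrix.GeneralLinearGroup.map (φ : K →+* F)).comp (Subgroup.subtype _)).codRestrict _ (by
    intro g
    rw [mem_iso_iff]
    intro v
    obtain ⟨u, rfl⟩ : ∃ u : Fin m ⊕ Fin m → K, v = (φ : K →+* F) ∘ u :=
      ⟨φ.symm ∘ v, by funext i; simp⟩
    have h1 : (Matrix.map ((g : GL (Fin m ⊕ Fin m) K) : Matrix (Fin m ⊕ Fin m) (Fin m ⊕ Fin m) K)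
        (φ : K →+* F)) *ᵥ ((φ : K →+* F) ∘ u) =
        (φ : K →+* F) ∘ (((g : GL (Fin m ⊕ Fin m) K) :
          Matrix (Fin m ⊕ Fin m) (Fin m ⊕ Fin m) K) *ᵥ u) := by
      funext i
      rw [Function.comp_apply, RingHom.map_mulVec]
    show QP m ((Matrix.map ((g : GL (Fin m ⊕ Fin m) K) :
      Matrix (Fin m ⊕ Fin m) (Fin m ⊕ Fin m) K) (φ : K →+* F)) *ᵥ ((φ : K →+* F) ∘ u)) = QP m _
    rw [h1, QP_apply, QP_apply, quadFormPlus_map, quadFormPlus_map, ← QP_apply, ← QP_apply,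
      iso_apply])

theorem transfer_injective (φ : K ≃+* F) (m : ℕ) : Function.Injective (transfer φ m) := by
  intro g g' h
  have h1 : Matrix.GeneralLinearGroup.map (φ : K →+* F) (g : GL (Fin m ⊕ Fin m) K) =
      Matrix.GeneralLinearGroup.map (φ : K →+* F) (g' : GL (Fin m ⊕ Fin m) K) :=
    congrArg Subtype.val h
  apply Subtype.ext
  apply Units.ext
  ext i j
  have h2 := congrArg (fun x : GL (Fin m ⊕ Fin m) F => x i j) h1
  simp only [Matrix.GeneralLinearGroup.map_apply] at h2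
  exact φ.injective h2

end Transfer

theorem main {F : Type*} [Field F] [Fintype F] (hF : Fintype.card F = 2) :
    Nonempty (↥(Cfsg.isometryGroup F (Cfsg.quadFormPlus 3 F)) ≃* Equiv.Perm (Fin 8)) := by
  rw [← QP_coe]
  have hinj : Function.Injective ((transfer (ZMod.ringEquivOfPrime F Nat.prime_two hF) 3).comp Ψ) :=
    (transfer_injective _ 3).comp Ψ_injective
  have hcard : Nat.card ↥(Cfsg.isometryGroup F (⇑(QP (F := F) 3))) = 40320 := by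
    rw [QP_coe, card_plus hF 2]
    simp [Finset.prod_range_succ]
  have hcardP : Nat.card (Equiv.Perm (Fin 8)) = 40320 := by
    rw [Nat.card_perm, Nat.card_fin]
    rfl
  have hbij := hinj.bijective_of_nat_card_le (by rw [hcard, hcardP])
  exact ⟨(MulEquiv.ofBijective _ hbij).symm⟩

/-- O⁺_6(2) ≅ S_8: the isometry group of the hyperbolic form x_1y_1 + x_2y_2 + x_3y_3 over the field with 2 elements is isomorphic to the symmetric group on 8 letters. -/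
theorem result {F : Type*} [Field F] [Fintype F] (hF : Fintype.card F = 2) : Nonempty (↥(Cfsg.isometryGroup F (Cfsg.quadFormPlus 3 F)) ≃* Equiv.Perm (Fin 8)) := by
  exact main hF

end Cfsg.Agent.S0825
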