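import Cfsg.Statements.S0875
import Cfsg.Agent.Lib.Helper80.RBrauer

set_option autoImplicit false
open Cfsg

namespace Cfsg.Agent.S0875

/-- Let G be a finite group of order m * n with m and n coprime, and g an element whose order is coprime to m. Every x in G factors uniquely as x = u * v with u, v commuting, the order of u coprime to n and the order of v coprime to m; let ϑ be the function on G equal to n at those x whose factor v is conjugate to g and equal to 0 elsewhere. Then ϑ is a linear combination of the irreducible characters of G with algebraic-integer coefficients. -/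
theorem result {G : Type*} [Group G] [Fintype G] (m n : ℕ) (hmn : Nat.card G = m * n) (hcop : Nat.Coprime m n) (g : G) (hg : Nat.Coprime (orderOf g) m) (ϑ : G → ℂ) (hϑ1 : ∀ x : G, (∃ v : G, IsConj v g ∧ (∃ u : G, x = u * v ∧ Commute u v ∧ Nat.Coprime (orderOf u) n ∧ Nat.Coprime (orderOf v) m)) → ϑ x = n) (hϑ0 : ∀ x : G, (¬ ∃ v : G, IsConj v g ∧ (∃ u : G, x = u * v ∧ Commute u v ∧ Nat.Coprime (orderOf u) n ∧ Nat.Coprime (orderOf v) m)) → ϑ x = 0) : ∃ c : Cfsg.IrrCharacter G → ℂ, (∀ χ, c χ ∈ Cfsg.AlgInt) ∧ ϑ = ∑ᶠ χ : Cfsg.IrrCharacter G, c χ • (χ : G → ℂ) := by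
  classical
  have := Cfsg.Agent.Lib.CT.Wedderburn.finite_irrCharacter G
  have := Fintype.ofFinite (IrrCharacter G)
  obtain ⟨e, he1, he0⟩ := Nat.chineseRemainder hcop.symm 1 0
  have hcard : Nat.card G = n * m := by rw [hmn, mul_comm]
  have hϑ : ϑ = Cfsg.Agent.Lib.Helper80.RBrauer.ind g n e := by
    funext x
    by_cases hc : IsConj (x ^ e) g
    · rw [Cfsg.Agent.Lib.Helper80.RBrauer.ind_of_isConj g n e hc]
      exact hϑ1 x ((Cfsg.Agent.Lib.Helper80.RBrauer.exists_decomp_iff n m e hcop.symm hcard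
        he1 he0 g x).2 hc)
    · rw [Cfsg.Agent.Lib.Helper80.RBrauer.ind_of_not_isConj g n e hc]
      exact hϑ0 x (fun h => hc ((Cfsg.Agent.Lib.Helper80.RBrauer.exists_decomp_iff n m e
        hcop.symm hcard he1 he0 g x).1 h))
  refine ⟨fun χ => classInner ϑ (χ : G → ℂ), ?_, ?_⟩
  · intro χ
    rw [hϑ]
    exact Cfsg.Agent.Lib.Helper80.RBrauer.isIntegral_classInner_ind n m e hcop.symm hcard
      he1 he0 g _ (Cfsg.Agent.Lib.CT.Wedderburn.isCharacter_of_irr χ.2)
  · funext x
    rw [finsum_eq_sum_of_fintype, Finset.sum_apply]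
    simp only [Pi.smul_apply, smul_eq_mul]
    exact Cfsg.Agent.Lib.CT.Orth.classFunction_expand_sum ϑ
      (hϑ ▸ Cfsg.Agent.Lib.Helper80.RBrauer.ind_isClassFunction g n e) x

end Cfsg.Agent.S0875
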