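import Cfsg.Statements.S0926
import Cfsg.Agent.Lib.CT.HeightZero
import Cfsg.Agent.S0924

set_option autoImplicit false
open Cfsg

namespace Cfsg.Agent.S0926

open Cfsg.Agent.Lib.CT.HeightZero Cfsg.Agent.Lib.CT.DefectZeroBlock
  Cfsg.Agent.Lib.Helper77.LocalRing Cfsg.Agent.Lib.CT.WBO

/-- Let B be a block of the finite group G with defect group D (relative to a maximal ideal M of the algebraic integers containing p), let χ ∈ B have height zero, and let x be a p-element. Then some conjugate of x lies in D if and only if χ does not vanish on the whole p-section of x (the elements whose p-part is conjugate to x). -/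
theorem result {G : Type*} [Group G] [Finite G] (p : ℕ) [Fact p.Prime] (M : Ideal Cfsg.AlgInt) (hM : Cfsg.IsPModular p M) (B : Set (Cfsg.IrrCharacter G)) (hB : Cfsg.IsPBlock M B) (D : Subgroup G) (hD : Cfsg.IsDefectGroup p M B D) (χ : Cfsg.IrrCharacter G) (hχ : χ ∈ B) (h0 : Cfsg.blockHeight p B (χ : G → ℂ) = 0) (x : G) (hx : ∃ k : ℕ, orderOf x = p ^ k) : (∃ g : G, g * x * g⁻¹ ∈ D) ↔ ∃ u : G, (∃ z : G, Cfsg.IsPPart p u z ∧ IsConj x z) ∧ (χ : G → ℂ) u ≠ 0 := by
  have hMp : M.IsPrime := isPrime_of_isPModular hM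
  have hp : p.Prime := hM.1
  obtain ⟨k, hk⟩ := hx
  constructor
  · rintro ⟨g, hg⟩
    obtain ⟨y0, hy0, P, rfl⟩ := hD
    obtain ⟨x'', -, hx''eq⟩ := hg
    have hcomm : Commute (g * x * g⁻¹) y0 := by
      have := Subgroup.mem_centralizer_iff.mp x''.2 y0 (Set.mem_singleton y0)
      rw [← hx''eq]
      exact this.symm
    have hord : orderOf (g * x * g⁻¹) = p ^ k := by
      rw [← hk]
      exact (MulAut.conj g).orderOf_eq x
    have hpow : (g * x * g⁻¹) ^ (p ^ k) = 1 := by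
      rw [← hord]
      exact pow_orderOf_eq_one _
    have hreg : ¬ p ∣ orderOf y0 := fun h => hy0.2.1 (by
      rw [blockCoeff_eq_zero_of_dvd p M hM B hB y0 h]
      exact memLocalIdeal_zero hMp)
    refine ⟨g * x * g⁻¹ * y0, ⟨g * x * g⁻¹, ⟨y0, rfl, hcomm, ⟨k, hord⟩, hreg⟩,
      isConj_iff.mpr ⟨g, rfl⟩⟩, ?_⟩
    intro h
    apply height_zero_mul_not_mem p hM B hB y0 hy0 χ hχ h0 (g * x * g⁻¹) hcomm k hpow
    rw [h]
    exact memLocalIdeal_zero hMp
  · rintro ⟨u, ⟨z, hz, hxz⟩, hu⟩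
    by_contra hcon
    push Not at hcon
    apply hu
    apply Cfsg.Agent.S0924.result p M hM χ u z hz
    intro D' hD' hzD'
    rw [← eq_blockOf_of_mem hMp hB hχ] at hD'
    obtain ⟨a, ha⟩ := Cfsg.Agent.Lib.Helper16.MinMax.defectGroup_conj hM B hB hD hD'
    rw [ha] at hzD'
    obtain ⟨d, hd, hdz⟩ := hzD'
    obtain ⟨c, hc⟩ := isConj_iff.mp hxz
    apply hcon (a⁻¹ * c)
    have h1 : a * d * a⁻¹ = z := by simpa [MulAut.conj_apply] using hdz
    have : a⁻¹ * c * x * (a⁻¹ * c)⁻¹ = d := by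
      rw [← hc] at h1
      calc a⁻¹ * c * x * (a⁻¹ * c)⁻¹ = a⁻¹ * (c * x * c⁻¹) * a := by group
        _ = a⁻¹ * (a * d * a⁻¹) * a := by rw [h1]
        _ = d := by group
    rw [this]
    exact hd

end Cfsg.Agent.S0926
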