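import Cfsg.Statements.S0994
import Cfsg.Agent.Lib.Helper17.Sylow

set_option autoImplicit false
open Cfsg

namespace Cfsg.Agent.S0994

open Cfsg.Agent.Lib.Helper17.Sylow

/-- No finite simple group has order 1188 = 2^2 * 3^3 * 11. -/
theorem result {G : Type*} [Group G] [Finite G] [IsSimpleGroup G] : Nat.card G ≠ 1188 := by
  intro h
  have hG : ¬ IsMulCommutative G := not_comm_of_not_prime (by rw [h]; norm_num)
  have : Fact (Nat.Prime 11) := ⟨by norm_num⟩
  have h11 : 11 ∣ Nat.card G := by rw [h]; norm_num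
  have hd : Nat.card (Sylow 11 G) ∣ 108 := card_sylow_dvd (k := 1) (h.trans (by norm_num)) (by norm_num)
  have hm := card_sylow_mod (G := G) 11
  have hne := card_sylow_ne_one hG h11
  have key : ∀ n ∈ Nat.divisors 108, n % 11 = 1 → n = 1 ∨ n = 12 := by decide
  have hn : Nat.card (Sylow 11 G) = 12 := by
    rcases key _ (Nat.mem_divisors.mpr ⟨hd, by norm_num⟩) hm with h1 | h1
    · exact absurd h1 hne
    · exact h1
  obtain ⟨P⟩ : Nonempty (Sylow 11 G) := inferInstance
  have hP : Nat.card (P : Subgroup G) = 11 := by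
    simpa using card_sylow_subgroup (k := 1) (m := 108) (h.trans (by norm_num)) (by norm_num) P
  have hN : Nat.card (Subgroup.normalizer ((P : Subgroup G) : Set G)) = 99 := by
    have := card_normalizer_mul_card_sylow P
    rw [hn, h] at this
    omega
  obtain ⟨r, hr1, hr2, hr3⟩ := sylow_prime_relIndex hG P hP
  rw [hN] at hr3
  exact hr1 (eq_one_of_dvd_of_mul_dvd (by norm_num) hr2 hr3 (by norm_num))

end Cfsg.Agent.S0994
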