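import Cfsg.Statements.S0997
import Cfsg.Agent.Lib.Helper80.BTAsm
import Cfsg.Agent.Lib.Helper81.BTONEX
import Cfsg.Agent.Lib.Helper81.BTYFACTS
import Cfsg.Agent.Lib.Helper28.BTTYPES
import Cfsg.Agent.Lib.Helper21.BTT1
import Cfsg.Agent.Lib.Helper76.BTISO1
import Cfsg.Agent.Lib.Helper62.BTNT3
import Cfsg.Agent.Lib.Helper2.BTSC
import Cfsg.Agent.Lib.Helper21.BTG0F
import Cfsg.Agent.Lib.Helper7.BTEPOW
import Cfsg.Agent.Lib.Helper80.BTQTWO
import Cfsg.Agent.Lib.Helper62.BTPOW2A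
import Cfsg.Agent.Lib.Helper80.BTPOW2B
import Cfsg.Agent.Lib.Helper2.BTNT1
import Cfsg.Agent.Lib.Helper72.BTBND
import Cfsg.Agent.Lib.Helper70.BTCINV
import Cfsg.Agent.Lib.Helper64.BTVAN
import Cfsg.Agent.Lib.Helper97.BTNIB
import Cfsg.Agent.Lib.Helper97.BTBTO
import Cfsg.Agent.Lib.Helper70.BTGB
import Cfsg.Agent.Lib.Helper2.BTMODP
import Cfsg.Agent.Lib.Helper2.BTNT2

set_option autoImplicit false
open Cfsg

namespace Cfsg.Agent.S0997

/-- Let G be a non-cyclic finite simple group of order p * q^b * g₀, where p and q are distinct primes and g₀ < p - 1. Then either p has the form 2^m + 1 or 2^m - 1 and G is isomorphic to the projective special linear group of dimension 2 over the field with p elements, or p = 2^m + 1 > 3 and G is isomorphic to that group over the field with 2^m elements. -/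
theorem result {G : Type*} [Group G] [Finite G] [IsSimpleGroup G] (hG : ¬ IsCyclic G) (p q b g₀ : ℕ) (hp : p.Prime) (hq : q.Prime) (hpq : p ≠ q) (hG' : Nat.card G = p * q ^ b * g₀) (hg : g₀ < p - 1) : (∃ (m : ℕ) (F : Type) (_ : Field F) (_ : Fintype F), Fintype.card F = p ∧ (p = 2 ^ m + 1 ∨ p = 2 ^ m - 1) ∧ Nonempty (G ≃* Matrix.ProjectiveSpecialLinearGroup (Fin 2) F)) ∨ (∃ (m : ℕ) (F : Type) (_ : Field F) (_ : Fintype F), Fintype.card F = 2 ^ m ∧ p = 2 ^ m + 1 ∧ 3 < p ∧ Nonempty (G ≃* Matrix.ProjectiveSpecialLinearGroup (Fin 2) F)) := by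
  exact Cfsg.Agent.Lib.Helper80.BTAsm.top
    Cfsg.Agent.Lib.Helper81.BTONEX.main
    Cfsg.Agent.Lib.Helper81.BTYFACTS.main
    Cfsg.Agent.Lib.Helper28.BTTYPES.main
    Cfsg.Agent.Lib.Helper21.BTT1.main
    Cfsg.Agent.Lib.Helper76.BTISO1.main
    Cfsg.Agent.Lib.Helper62.BTNT3.main
    Cfsg.Agent.Lib.Helper2.BTSC.main
    Cfsg.Agent.Lib.Helper21.BTG0F.main
    Cfsg.Agent.Lib.Helper7.BTEPOW.main
    Cfsg.Agent.Lib.Helper80.BTQTWO.main
    Cfsg.Agent.Lib.Helper62.BTPOW2A.main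
    (Cfsg.Agent.Lib.Helper80.BTPOW2B.main Cfsg.Agent.Lib.Helper2.BTNT1.main)
    (Cfsg.Agent.Lib.Helper72.BTBND.main Cfsg.Agent.Lib.Helper70.BTCINV.main
      Cfsg.Agent.Lib.Helper64.BTVAN.main Cfsg.Agent.Lib.Helper97.BTNIB.main
      Cfsg.Agent.Lib.Helper97.BTBTO.main Cfsg.Agent.Lib.Helper70.BTGB.main)
    Cfsg.Agent.Lib.Helper2.BTMODP.main
    Cfsg.Agent.Lib.Helper2.BTNT2.main
    hG p q b g₀ hp hq hpq hG' hg

end Cfsg.Agent.S0997
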