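import Cfsg.Statements.S0998
-- import your own Cfsg.Agent.* helpers here
import Cfsg.Agent.Lib.Helper78.PRQRed
import Cfsg.Agent.Lib.Helper58.PRQFive
import Cfsg.Agent.Lib.Helper1.PRQSeven
import Cfsg.Agent.S0493
import Cfsg.Agent.S0494
import Cfsg.Agent.S0495
import Cfsg.Agent.S0253

set_option autoImplicit false
open Cfsg

namespace Cfsg.Agent.S0998


theorem key {G : Type*} [Group G] [Finite G] [IsSimpleGroup G] (hG : ¬ IsCyclic G) (p q r b : ℕ)
    (hp : p.Prime) (hq : q.Prime) (hr : r.Prime) (hpq : p ≠ q) (hpr : p ≠ r) (hqr : q ≠ r)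
    (hG' : Nat.card G = p * r * q ^ b) (hrp : r < p) :
    (∃ (F : Type) (_ : Field F) (_ : Fintype F), Fintype.card F = 5 ∧
        Nonempty (G ≃* Matrix.ProjectiveSpecialLinearGroup (Fin 2) F)) ∨
    (∃ (F : Type) (_ : Field F) (_ : Fintype F), Fintype.card F = 7 ∧
        Nonempty (G ≃* Matrix.ProjectiveSpecialLinearGroup (Fin 2) F)) := by
  rcases Cfsg.Agent.Lib.Helper78.PRQRed.red hG p q r b hp hq hr hpq hpr hqr hG' hrp with ⟨rfl, rfl, rfl⟩ | ⟨rfl, rfl, rfl⟩
  · left
    have hb := Cfsg.Agent.Lib.Helper58.PRQFive.five hG b hG'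
    have hle : Nat.card G ≤ 100 := by
      rw [hG']
      have : 2 ^ b ≤ 2 ^ 2 := Nat.pow_le_pow_right (by norm_num) hb
      omega
    have h60 := Cfsg.Agent.S0493.result hG hle
    have : Fact (Nat.Prime 5) := ⟨by norm_num⟩
    have hF : Fintype.card (ZMod 5) = 5 := ZMod.card 5
    obtain ⟨e1⟩ := Cfsg.Agent.S0494.result h60
    obtain ⟨e2⟩ := Cfsg.Agent.S0253.result (F := ZMod 5) hF
    exact ⟨ZMod 5, inferInstance, inferInstance, hF, ⟨e1.trans e2.symm⟩⟩
  · right
    have hb := Cfsg.Agent.Lib.Helper1.PRQSeven.seven hG b hG'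
    have h168 : Nat.card G = 168 := by
      by_contra hne
      have hb2 : b ≤ 2 := by
        rcases Nat.lt_or_ge b 3 with h | h
        · omega
        · exfalso
          have : b = 3 := le_antisymm hb h
          subst this
          exact hne (by rw [hG']; norm_num)
      have hle : Nat.card G ≤ 100 := by
        rw [hG']
        have : 2 ^ b ≤ 2 ^ 2 := Nat.pow_le_pow_right (by norm_num) hb2
        omega
      have h60 := Cfsg.Agent.S0493.result hG hle
      rw [hG'] at h60
      interval_cases b <;> omega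
    have : Fact (Nat.Prime 7) := ⟨by norm_num⟩
    have hF : Fintype.card (ZMod 7) = 7 := ZMod.card 7
    obtain ⟨e1⟩ := Cfsg.Agent.S0495.result h168 (F := ZMod 7) hF
    exact ⟨ZMod 7, inferInstance, inferInstance, hF, ⟨e1⟩⟩

/-- A non-cyclic finite simple group whose order has the form p * r * q^b for distinct primes p, q, r is isomorphic to the projective special linear group of dimension 2 over the field with 5 or with 7 elements. -/
theorem result {G : Type*} [Group G] [Finite G] [IsSimpleGroup G] (hG : ¬ IsCyclic G) (p q r b : ℕ) (hp : p.Prime) (hq : q.Prime) (hr : r.Prime) (hpq : p ≠ q) (hpr : p ≠ r) (hqr : q ≠ r) (hG' : Nat.card G = p * r * q ^ b) : (∃ (F : Type) (_ : Field F) (_ : Fintype F), Fintype.card F = 5 ∧ Nonempty (G ≃* Matrix.ProjectiveSpecialLinearGroup (Fin 2) F)) ∨ (∃ (F : Type) (_ : Field F) (_ : Fintype F), Fintype.card F = 7 ∧ Nonempty (G ≃* Matrix.ProjectiveSpecialLinearGroup (Fin 2) F)) := by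
  rcases lt_or_gt_of_ne hpr with h | h
  · exact key hG r q p b hr hq hp (Ne.symm hqr) (Ne.symm hpr) (Ne.symm hpq)
      (by rw [hG']; ring) h
  · exact key hG p q r b hp hq hr hpq hpr hqr hG' h

end Cfsg.Agent.S0998
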