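import Cfsg.Statements.S1075
import Cfsg.Agent.Lib.Helper56.FastMat
import Cfsg.Agent.Lib.Helper56.P504
import Cfsg.Agent.Lib.Helper56.Ree3Tab

set_option autoImplicit false
open Cfsg Cfsg.Lie

namespace Cfsg.Agent.S1075

open Cfsg.Agent.Lib.Helper56.FastMat Cfsg.Agent.Lib.Helper56.P504
  Cfsg.Agent.Lib.Helper56.Ree3Tab
open scoped commutatorElement

/-- If `c` normalizes `H` then the commutator subgroup of `⟨H, c⟩` lies in `H`. -/
theorem comm_le {Γ : Type*} [Group Γ] (H : Subgroup Γ) (c : Γ)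
    (hc : c ∈ Subgroup.normalizer (H : Set Γ)) :
    ⁅H ⊔ Subgroup.zpowers c, H ⊔ Subgroup.zpowers c⁆ ≤ H := by
  have hT : H ⊔ Subgroup.zpowers c ≤ Subgroup.normalizer (H : Set Γ) :=
    sup_le Subgroup.le_normalizer ((Subgroup.zpowers_le).mpr hc)
  let π : Subgroup.normalizer (H : Set Γ) →*
      Subgroup.normalizer (H : Set Γ) ⧸ H.subgroupOf (Subgroup.normalizer (H : Set Γ)) :=
    QuotientGroup.mk' (H.subgroupOf (Subgroup.normalizer (H : Set Γ)))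
  let cN : Subgroup.normalizer (H : Set Γ) := ⟨c, hc⟩
  have key : ∀ t ∈ H ⊔ Subgroup.zpowers c, ∀ ht : t ∈ Subgroup.normalizer (H : Set Γ),
      π ⟨t, ht⟩ ∈ Subgroup.zpowers (π cN) := by
    intro t ht
    rw [Subgroup.sup_eq_closure] at ht
    induction ht using Subgroup.closure_induction with
    | mem t h =>
      intro htN
      rcases h with h | h
      · have h1 : π ⟨t, htN⟩ = 1 :=
          (QuotientGroup.eq_one_iff _).mpr (Subgroup.mem_subgroupOf.mpr h)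
        rw [h1]; exact one_mem _
      · obtain ⟨k, rfl⟩ := Subgroup.mem_zpowers_iff.mp h
        have h1 : (⟨c ^ k, htN⟩ : Subgroup.normalizer (H : Set Γ)) = cN ^ k :=
          Subtype.ext (by simp [cN])
        rw [h1, map_zpow]; exact Subgroup.zpow_mem_zpowers _ _
    | one =>
      intro htN
      have h1 : (⟨1, htN⟩ : Subgroup.normalizer (H : Set Γ)) = 1 := rfl
      rw [h1, map_one]; exact one_mem _
    | mul a b ha hb iha ihb =>
      intro htN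
      have haN : a ∈ Subgroup.normalizer (H : Set Γ) :=
        hT (by rw [Subgroup.sup_eq_closure]; exact ha)
      have hbN : b ∈ Subgroup.normalizer (H : Set Γ) :=
        hT (by rw [Subgroup.sup_eq_closure]; exact hb)
      have h1 : (⟨a * b, htN⟩ : Subgroup.normalizer (H : Set Γ)) = ⟨a, haN⟩ * ⟨b, hbN⟩ := rfl
      rw [h1, map_mul]; exact mul_mem (iha haN) (ihb hbN)
    | inv a ha iha =>
      intro htN
      have haN : a ∈ Subgroup.normalizer (H : Set Γ) :=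
        hT (by rw [Subgroup.sup_eq_closure]; exact ha)
      have h1 : (⟨a⁻¹, htN⟩ : Subgroup.normalizer (H : Set Γ)) =
          (⟨a, haN⟩ : Subgroup.normalizer (H : Set Γ))⁻¹ := rfl
      rw [h1, map_inv]; exact inv_mem (iha haN)
  rw [Subgroup.commutator_le]
  intro g1 h1 g2 h2
  have h1N := hT h1
  have h2N := hT h2
  obtain ⟨k1, e1⟩ := Subgroup.mem_zpowers_iff.mp (key g1 h1 h1N)
  obtain ⟨k2, e2⟩ := Subgroup.mem_zpowers_iff.mp (key g2 h2 h2N)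
  have hcomm : π ((⟨g1, h1N⟩ : Subgroup.normalizer (H : Set Γ)) * ⟨g2, h2N⟩ *
      (⟨g1, h1N⟩ : Subgroup.normalizer (H : Set Γ))⁻¹ *
      (⟨g2, h2N⟩ : Subgroup.normalizer (H : Set Γ))⁻¹) = 1 := by
    have e1' : π ⟨g1, h1N⟩ = π cN ^ k1 := e1.symm
    have e2' : π ⟨g2, h2N⟩ = π cN ^ k2 := e2.symm
    have hc2 : Commute (π cN ^ k1) (π cN ^ k2) := (Commute.refl (π cN)).zpow_zpow k1 k2
    simp only [map_mul, map_inv, e1', e2']
    rw [hc2.eq, mul_inv_cancel_right, mul_inv_cancel]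
  exact Subgroup.mem_subgroupOf.mp ((QuotientGroup.eq_one_iff _).mp hcomm)

theorem pX : TM LX * TM LX = 1 := by
  exact (edge14_x (0, 1)).trans TM_T0

theorem pY1 : TM LY * TM LYY = 1 := by
  rw [TM_mul, ← TM_T0]; exact congrArg TM (by decide +kernel)

theorem pY2 : TM LYY * TM LY = 1 := by
  rw [TM_mul, ← TM_T0]; exact congrArg TM (by decide +kernel)

def hX : G14 := ⟨TM LX, TM LX, pX, pX⟩
def hY : G14 := ⟨TM LY, TM LYY, pY1, pY2⟩

def gG : Fin 2 → G14 := ![hX, hY]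
def nxf : Fin 2 → Idx → Idx := ![nx_x, nx_y]

theorem edgeG (a : Fin 2) (i : Idx) :
    TM (T14 i) * ((gG a : G14) : Matrix I14 I14 (ZMod 3)) = TM (T14 (nxf a i)) := by
  fin_cases a
  · exact edge14_x i
  · exact edge14_y i

theorem walk (w : List (Fin 2)) : ∀ (i : Idx) (g : G14),
    (g : Matrix I14 I14 (ZMod 3)) = TM (T14 i) →
      ((g * (w.map gG).prod : G14) : Matrix I14 I14 (ZMod 3)) =
        TM (T14 (w.foldl (fun j a => nxf a j) i)) := by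
  induction w with
  | nil =>
    intro i g hg
    simpa using hg
  | cons a w ih =>
    intro i g hg
    rw [List.map_cons, List.prod_cons, ← mul_assoc]
    exact ih (nxf a i) (g * gG a) (by rw [Units.val_mul, hg, edgeG])

theorem relG (w : List (Fin 2)) (hw : w.foldl (fun j a => nxf a j) (0, 0) = (0, 0)) :
    (w.map gG).prod = 1 := by
  apply Units.ext
  have h := walk w (0, 0) 1 (by rw [Units.val_one]; exact TM_T0.symm)
  rw [one_mul, hw, TM_T0] at h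
  rw [h]; rfl

theorem lift_rel14 : ∀ r ∈ rels, FreeGroup.lift gG r = 1 := by
  intro r hr
  simp only [rels, Set.mem_insert_iff, Set.mem_singleton_iff] at hr
  rcases hr with rfl | rfl | rfl | rfl
  · simp only [map_mul, FreeGroup.lift_apply_of]
    have h := relG [0, 0] (by decide +kernel)
    simpa [List.prod_cons, mul_assoc] using h
  · simp only [map_mul, FreeGroup.lift_apply_of]
    have h := relG [1, 1, 1] (by decide +kernel)
    simpa [List.prod_cons, mul_assoc] using h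
  · simp only [map_mul, FreeGroup.lift_apply_of]
    have h := relG [0, 1, 0, 1, 0, 1, 0, 1, 0, 1, 0, 1, 0, 1] (by decide +kernel)
    simpa [List.prod_cons, mul_assoc] using h
  · simp only [map_mul, FreeGroup.lift_apply_of]
    have h := relG [0, 1, 0, 1, 0, 1, 1, 0, 1, 0, 1, 0, 1, 1, 0, 1, 1, 0, 1, 0, 1, 0, 1, 1, 0, 1, 0, 1, 0, 1, 1, 0, 1, 1] (by decide +kernel)
    simpa [List.prod_cons, mul_assoc] using h

/-- The presented group inside `GL(14, 3)`. -/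
noncomputable def φ14 : P →* G14 := PresentedGroup.toGroup lift_rel14

theorem φ14_x : φ14 x = hX := by simp [φ14, x, gG]
theorem φ14_y : φ14 y = hY := by simp [φ14, y, gG]

theorem t14_0 : ((φ14 r0 : G14) : Matrix I14 I14 (ZMod 3)) = TM (T14 (0, 0)) := by
  show ((φ14 1 : G14) : Matrix I14 I14 (ZMod 3)) = _
  rw [map_one, Units.val_one]; exact TM_T0.symm
theorem t14_1 : ((φ14 r1 : G14) : Matrix I14 I14 (ZMod 3)) = TM (T14 (0, 1)) := by
  show ((φ14 (r0 * x) : G14) : Matrix I14 I14 (ZMod 3)) = _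
  rw [map_mul, Units.val_mul, t14_0, φ14_x]
  exact edge14_x (0, 0)
theorem t14_2 : ((φ14 r2 : G14) : Matrix I14 I14 (ZMod 3)) = TM (T14 (0, 2)) := by
  show ((φ14 (r0 * y) : G14) : Matrix I14 I14 (ZMod 3)) = _
  rw [map_mul, Units.val_mul, t14_0, φ14_y]
  exact edge14_y (0, 0)
theorem t14_3 : ((φ14 r3 : G14) : Matrix I14 I14 (ZMod 3)) = TM (T14 (0, 3)) := by
  show ((φ14 (r1 * y) : G14) : Matrix I14 I14 (ZMod 3)) = _
  rw [map_mul, Units.val_mul, t14_1, φ14_y]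
  exact edge14_y (0, 1)
theorem t14_4 : ((φ14 r4 : G14) : Matrix I14 I14 (ZMod 3)) = TM (T14 (0, 4)) := by
  show ((φ14 (r2 * x) : G14) : Matrix I14 I14 (ZMod 3)) = _
  rw [map_mul, Units.val_mul, t14_2, φ14_x]
  exact edge14_x (0, 2)
theorem t14_5 : ((φ14 r5 : G14) : Matrix I14 I14 (ZMod 3)) = TM (T14 (0, 5)) := by
  show ((φ14 (r2 * y) : G14) : Matrix I14 I14 (ZMod 3)) = _
  rw [map_mul, Units.val_mul, t14_2, φ14_y]
  exact edge14_y (0, 2)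
theorem t14_6 : ((φ14 r6 : G14) : Matrix I14 I14 (ZMod 3)) = TM (T14 (0, 6)) := by
  show ((φ14 (r3 * x) : G14) : Matrix I14 I14 (ZMod 3)) = _
  rw [map_mul, Units.val_mul, t14_3, φ14_x]
  exact edge14_x (0, 3)
theorem t14_7 : ((φ14 r7 : G14) : Matrix I14 I14 (ZMod 3)) = TM (T14 (0, 7)) := by
  show ((φ14 (r3 * y) : G14) : Matrix I14 I14 (ZMod 3)) = _
  rw [map_mul, Units.val_mul, t14_3, φ14_y]
  exact edge14_y (0, 3)
theorem t14_8 : ((φ14 r8 : G14) : Matrix I14 I14 (ZMod 3)) = TM (T14 (0, 8)) := by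
  show ((φ14 (r4 * y) : G14) : Matrix I14 I14 (ZMod 3)) = _
  rw [map_mul, Units.val_mul, t14_4, φ14_y]
  exact edge14_y (0, 4)
theorem t14_9 : ((φ14 r9 : G14) : Matrix I14 I14 (ZMod 3)) = TM (T14 (0, 9)) := by
  show ((φ14 (r5 * x) : G14) : Matrix I14 I14 (ZMod 3)) = _
  rw [map_mul, Units.val_mul, t14_5, φ14_x]
  exact edge14_x (0, 5)
theorem t14_10 : ((φ14 r10 : G14) : Matrix I14 I14 (ZMod 3)) = TM (T14 (0, 10)) := by
  show ((φ14 (r6 * y) : G14) : Matrix I14 I14 (ZMod 3)) = _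
  rw [map_mul, Units.val_mul, t14_6, φ14_y]
  exact edge14_y (0, 6)
theorem t14_11 : ((φ14 r11 : G14) : Matrix I14 I14 (ZMod 3)) = TM (T14 (0, 11)) := by
  show ((φ14 (r7 * x) : G14) : Matrix I14 I14 (ZMod 3)) = _
  rw [map_mul, Units.val_mul, t14_7, φ14_x]
  exact edge14_x (0, 7)
theorem t14_12 : ((φ14 r12 : G14) : Matrix I14 I14 (ZMod 3)) = TM (T14 (0, 12)) := by
  show ((φ14 (r8 * x) : G14) : Matrix I14 I14 (ZMod 3)) = _
  rw [map_mul, Units.val_mul, t14_8, φ14_x]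
  exact edge14_x (0, 8)
theorem t14_13 : ((φ14 r13 : G14) : Matrix I14 I14 (ZMod 3)) = TM (T14 (0, 13)) := by
  show ((φ14 (r8 * y) : G14) : Matrix I14 I14 (ZMod 3)) = _
  rw [map_mul, Units.val_mul, t14_8, φ14_y]
  exact edge14_y (0, 8)
theorem t14_14 : ((φ14 r14 : G14) : Matrix I14 I14 (ZMod 3)) = TM (T14 (0, 14)) := by
  show ((φ14 (r9 * y) : G14) : Matrix I14 I14 (ZMod 3)) = _
  rw [map_mul, Units.val_mul, t14_9, φ14_y]
  exact edge14_y (0, 9)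
theorem t14_15 : ((φ14 r15 : G14) : Matrix I14 I14 (ZMod 3)) = TM (T14 (0, 15)) := by
  show ((φ14 (r10 * x) : G14) : Matrix I14 I14 (ZMod 3)) = _
  rw [map_mul, Units.val_mul, t14_10, φ14_x]
  exact edge14_x (0, 10)
theorem t14_16 : ((φ14 r16 : G14) : Matrix I14 I14 (ZMod 3)) = TM (T14 (0, 16)) := by
  show ((φ14 (r10 * y) : G14) : Matrix I14 I14 (ZMod 3)) = _
  rw [map_mul, Units.val_mul, t14_10, φ14_y]
  exact edge14_y (0, 10)
theorem t14_17 : ((φ14 r17 : G14) : Matrix I14 I14 (ZMod 3)) = TM (T14 (0, 17)) := by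
  show ((φ14 (r11 * y) : G14) : Matrix I14 I14 (ZMod 3)) = _
  rw [map_mul, Units.val_mul, t14_11, φ14_y]
  exact edge14_y (0, 11)
theorem t14_18 : ((φ14 r18 : G14) : Matrix I14 I14 (ZMod 3)) = TM (T14 (0, 18)) := by
  show ((φ14 (r12 * y) : G14) : Matrix I14 I14 (ZMod 3)) = _
  rw [map_mul, Units.val_mul, t14_12, φ14_y]
  exact edge14_y (0, 12)
theorem t14_19 : ((φ14 r19 : G14) : Matrix I14 I14 (ZMod 3)) = TM (T14 (0, 19)) := by
  show ((φ14 (r13 * x) : G14) : Matrix I14 I14 (ZMod 3)) = _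
  rw [map_mul, Units.val_mul, t14_13, φ14_x]
  exact edge14_x (0, 13)
theorem t14_20 : ((φ14 r20 : G14) : Matrix I14 I14 (ZMod 3)) = TM (T14 (0, 20)) := by
  show ((φ14 (r14 * x) : G14) : Matrix I14 I14 (ZMod 3)) = _
  rw [map_mul, Units.val_mul, t14_14, φ14_x]
  exact edge14_x (0, 14)
theorem t14_21 : ((φ14 r21 : G14) : Matrix I14 I14 (ZMod 3)) = TM (T14 (0, 21)) := by
  show ((φ14 (r14 * y) : G14) : Matrix I14 I14 (ZMod 3)) = _
  rw [map_mul, Units.val_mul, t14_14, φ14_y]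
  exact edge14_y (0, 14)
theorem t14_22 : ((φ14 r22 : G14) : Matrix I14 I14 (ZMod 3)) = TM (T14 (0, 22)) := by
  show ((φ14 (r15 * y) : G14) : Matrix I14 I14 (ZMod 3)) = _
  rw [map_mul, Units.val_mul, t14_15, φ14_y]
  exact edge14_y (0, 15)
theorem t14_23 : ((φ14 r23 : G14) : Matrix I14 I14 (ZMod 3)) = TM (T14 (0, 23)) := by
  show ((φ14 (r16 * x) : G14) : Matrix I14 I14 (ZMod 3)) = _
  rw [map_mul, Units.val_mul, t14_16, φ14_x]
  exact edge14_x (0, 16)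
theorem t14_24 : ((φ14 r24 : G14) : Matrix I14 I14 (ZMod 3)) = TM (T14 (0, 24)) := by
  show ((φ14 (r17 * x) : G14) : Matrix I14 I14 (ZMod 3)) = _
  rw [map_mul, Units.val_mul, t14_17, φ14_x]
  exact edge14_x (0, 17)
theorem t14_25 : ((φ14 r25 : G14) : Matrix I14 I14 (ZMod 3)) = TM (T14 (0, 25)) := by
  show ((φ14 (r17 * y) : G14) : Matrix I14 I14 (ZMod 3)) = _
  rw [map_mul, Units.val_mul, t14_17, φ14_y]
  exact edge14_y (0, 17)
theorem t14_26 : ((φ14 r26 : G14) : Matrix I14 I14 (ZMod 3)) = TM (T14 (0, 26)) := by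
  show ((φ14 (r18 * x) : G14) : Matrix I14 I14 (ZMod 3)) = _
  rw [map_mul, Units.val_mul, t14_18, φ14_x]
  exact edge14_x (0, 18)
theorem t14_27 : ((φ14 r27 : G14) : Matrix I14 I14 (ZMod 3)) = TM (T14 (0, 27)) := by
  show ((φ14 (r18 * y) : G14) : Matrix I14 I14 (ZMod 3)) = _
  rw [map_mul, Units.val_mul, t14_18, φ14_y]
  exact edge14_y (0, 18)
theorem t14_28 : ((φ14 r28 : G14) : Matrix I14 I14 (ZMod 3)) = TM (T14 (0, 28)) := by
  show ((φ14 (r19 * y) : G14) : Matrix I14 I14 (ZMod 3)) = _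
  rw [map_mul, Units.val_mul, t14_19, φ14_y]
  exact edge14_y (0, 19)
theorem t14_29 : ((φ14 r29 : G14) : Matrix I14 I14 (ZMod 3)) = TM (T14 (0, 29)) := by
  show ((φ14 (r20 * y) : G14) : Matrix I14 I14 (ZMod 3)) = _
  rw [map_mul, Units.val_mul, t14_20, φ14_y]
  exact edge14_y (0, 20)
theorem t14_30 : ((φ14 r30 : G14) : Matrix I14 I14 (ZMod 3)) = TM (T14 (0, 30)) := by
  show ((φ14 (r21 * x) : G14) : Matrix I14 I14 (ZMod 3)) = _
  rw [map_mul, Units.val_mul, t14_21, φ14_x]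
  exact edge14_x (0, 21)
theorem t14_31 : ((φ14 r31 : G14) : Matrix I14 I14 (ZMod 3)) = TM (T14 (0, 31)) := by
  show ((φ14 (r22 * x) : G14) : Matrix I14 I14 (ZMod 3)) = _
  rw [map_mul, Units.val_mul, t14_22, φ14_x]
  exact edge14_x (0, 22)
theorem t14_32 : ((φ14 r32 : G14) : Matrix I14 I14 (ZMod 3)) = TM (T14 (0, 32)) := by
  show ((φ14 (r22 * y) : G14) : Matrix I14 I14 (ZMod 3)) = _
  rw [map_mul, Units.val_mul, t14_22, φ14_y]
  exact edge14_y (0, 22)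
theorem t14_33 : ((φ14 r33 : G14) : Matrix I14 I14 (ZMod 3)) = TM (T14 (0, 33)) := by
  show ((φ14 (r23 * y) : G14) : Matrix I14 I14 (ZMod 3)) = _
  rw [map_mul, Units.val_mul, t14_23, φ14_y]
  exact edge14_y (0, 23)
theorem t14_34 : ((φ14 r34 : G14) : Matrix I14 I14 (ZMod 3)) = TM (T14 (0, 34)) := by
  show ((φ14 (r24 * y) : G14) : Matrix I14 I14 (ZMod 3)) = _
  rw [map_mul, Units.val_mul, t14_24, φ14_y]
  exact edge14_y (0, 24)
theorem t14_35 : ((φ14 r35 : G14) : Matrix I14 I14 (ZMod 3)) = TM (T14 (0, 35)) := by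
  show ((φ14 (r25 * x) : G14) : Matrix I14 I14 (ZMod 3)) = _
  rw [map_mul, Units.val_mul, t14_25, φ14_x]
  exact edge14_x (0, 25)
theorem t14_36 : ((φ14 r36 : G14) : Matrix I14 I14 (ZMod 3)) = TM (T14 (0, 36)) := by
  show ((φ14 (r26 * y) : G14) : Matrix I14 I14 (ZMod 3)) = _
  rw [map_mul, Units.val_mul, t14_26, φ14_y]
  exact edge14_y (0, 26)
theorem t14_37 : ((φ14 r37 : G14) : Matrix I14 I14 (ZMod 3)) = TM (T14 (0, 37)) := by
  show ((φ14 (r27 * x) : G14) : Matrix I14 I14 (ZMod 3)) = _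
  rw [map_mul, Units.val_mul, t14_27, φ14_x]
  exact edge14_x (0, 27)
theorem t14_38 : ((φ14 r38 : G14) : Matrix I14 I14 (ZMod 3)) = TM (T14 (0, 38)) := by
  show ((φ14 (r28 * x) : G14) : Matrix I14 I14 (ZMod 3)) = _
  rw [map_mul, Units.val_mul, t14_28, φ14_x]
  exact edge14_x (0, 28)
theorem t14_39 : ((φ14 r39 : G14) : Matrix I14 I14 (ZMod 3)) = TM (T14 (0, 39)) := by
  show ((φ14 (r28 * y) : G14) : Matrix I14 I14 (ZMod 3)) = _
  rw [map_mul, Units.val_mul, t14_28, φ14_y]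
  exact edge14_y (0, 28)
theorem t14_40 : ((φ14 r40 : G14) : Matrix I14 I14 (ZMod 3)) = TM (T14 (0, 40)) := by
  show ((φ14 (r29 * x) : G14) : Matrix I14 I14 (ZMod 3)) = _
  rw [map_mul, Units.val_mul, t14_29, φ14_x]
  exact edge14_x (0, 29)
theorem t14_41 : ((φ14 r41 : G14) : Matrix I14 I14 (ZMod 3)) = TM (T14 (0, 41)) := by
  show ((φ14 (r29 * y) : G14) : Matrix I14 I14 (ZMod 3)) = _
  rw [map_mul, Units.val_mul, t14_29, φ14_y]
  exact edge14_y (0, 29)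
theorem t14_42 : ((φ14 r42 : G14) : Matrix I14 I14 (ZMod 3)) = TM (T14 (0, 42)) := by
  show ((φ14 (r30 * y) : G14) : Matrix I14 I14 (ZMod 3)) = _
  rw [map_mul, Units.val_mul, t14_30, φ14_y]
  exact edge14_y (0, 30)
theorem t14_43 : ((φ14 r43 : G14) : Matrix I14 I14 (ZMod 3)) = TM (T14 (0, 43)) := by
  show ((φ14 (r31 * y) : G14) : Matrix I14 I14 (ZMod 3)) = _
  rw [map_mul, Units.val_mul, t14_31, φ14_y]
  exact edge14_y (0, 31)
theorem t14_44 : ((φ14 r44 : G14) : Matrix I14 I14 (ZMod 3)) = TM (T14 (0, 44)) := by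
  show ((φ14 (r32 * x) : G14) : Matrix I14 I14 (ZMod 3)) = _
  rw [map_mul, Units.val_mul, t14_32, φ14_x]
  exact edge14_x (0, 32)
theorem t14_45 : ((φ14 r45 : G14) : Matrix I14 I14 (ZMod 3)) = TM (T14 (0, 45)) := by
  show ((φ14 (r33 * x) : G14) : Matrix I14 I14 (ZMod 3)) = _
  rw [map_mul, Units.val_mul, t14_33, φ14_x]
  exact edge14_x (0, 33)
theorem t14_46 : ((φ14 r46 : G14) : Matrix I14 I14 (ZMod 3)) = TM (T14 (0, 46)) := by
  show ((φ14 (r33 * y) : G14) : Matrix I14 I14 (ZMod 3)) = _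
  rw [map_mul, Units.val_mul, t14_33, φ14_y]
  exact edge14_y (0, 33)
theorem t14_47 : ((φ14 r47 : G14) : Matrix I14 I14 (ZMod 3)) = TM (T14 (0, 47)) := by
  show ((φ14 (r34 * x) : G14) : Matrix I14 I14 (ZMod 3)) = _
  rw [map_mul, Units.val_mul, t14_34, φ14_x]
  exact edge14_x (0, 34)
theorem t14_48 : ((φ14 r48 : G14) : Matrix I14 I14 (ZMod 3)) = TM (T14 (0, 48)) := by
  show ((φ14 (r34 * y) : G14) : Matrix I14 I14 (ZMod 3)) = _
  rw [map_mul, Units.val_mul, t14_34, φ14_y]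
  exact edge14_y (0, 34)
theorem t14_49 : ((φ14 r49 : G14) : Matrix I14 I14 (ZMod 3)) = TM (T14 (0, 49)) := by
  show ((φ14 (r35 * y) : G14) : Matrix I14 I14 (ZMod 3)) = _
  rw [map_mul, Units.val_mul, t14_35, φ14_y]
  exact edge14_y (0, 35)
theorem t14_50 : ((φ14 r50 : G14) : Matrix I14 I14 (ZMod 3)) = TM (T14 (0, 50)) := by
  show ((φ14 (r36 * x) : G14) : Matrix I14 I14 (ZMod 3)) = _
  rw [map_mul, Units.val_mul, t14_36, φ14_x]
  exact edge14_x (0, 36)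
theorem t14_51 : ((φ14 r51 : G14) : Matrix I14 I14 (ZMod 3)) = TM (T14 (0, 51)) := by
  show ((φ14 (r36 * y) : G14) : Matrix I14 I14 (ZMod 3)) = _
  rw [map_mul, Units.val_mul, t14_36, φ14_y]
  exact edge14_y (0, 36)
theorem t14_52 : ((φ14 r52 : G14) : Matrix I14 I14 (ZMod 3)) = TM (T14 (0, 52)) := by
  show ((φ14 (r37 * y) : G14) : Matrix I14 I14 (ZMod 3)) = _
  rw [map_mul, Units.val_mul, t14_37, φ14_y]
  exact edge14_y (0, 37)
theorem t14_53 : ((φ14 r53 : G14) : Matrix I14 I14 (ZMod 3)) = TM (T14 (0, 53)) := by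
  show ((φ14 (r38 * y) : G14) : Matrix I14 I14 (ZMod 3)) = _
  rw [map_mul, Units.val_mul, t14_38, φ14_y]
  exact edge14_y (0, 38)
theorem t14_54 : ((φ14 r54 : G14) : Matrix I14 I14 (ZMod 3)) = TM (T14 (0, 54)) := by
  show ((φ14 (r39 * x) : G14) : Matrix I14 I14 (ZMod 3)) = _
  rw [map_mul, Units.val_mul, t14_39, φ14_x]
  exact edge14_x (0, 39)
theorem t14_55 : ((φ14 r55 : G14) : Matrix I14 I14 (ZMod 3)) = TM (T14 (0, 55)) := by
  show ((φ14 (r40 * y) : G14) : Matrix I14 I14 (ZMod 3)) = _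
  rw [map_mul, Units.val_mul, t14_40, φ14_y]
  exact edge14_y (0, 40)
theorem t14_56 : ((φ14 r56 : G14) : Matrix I14 I14 (ZMod 3)) = TM (T14 (0, 56)) := by
  show ((φ14 (r41 * x) : G14) : Matrix I14 I14 (ZMod 3)) = _
  rw [map_mul, Units.val_mul, t14_41, φ14_x]
  exact edge14_x (0, 41)
theorem t14_57 : ((φ14 r57 : G14) : Matrix I14 I14 (ZMod 3)) = TM (T14 (0, 57)) := by
  show ((φ14 (r42 * x) : G14) : Matrix I14 I14 (ZMod 3)) = _
  rw [map_mul, Units.val_mul, t14_42, φ14_x]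
  exact edge14_x (0, 42)
theorem t14_58 : ((φ14 r58 : G14) : Matrix I14 I14 (ZMod 3)) = TM (T14 (0, 58)) := by
  show ((φ14 (r42 * y) : G14) : Matrix I14 I14 (ZMod 3)) = _
  rw [map_mul, Units.val_mul, t14_42, φ14_y]
  exact edge14_y (0, 42)
theorem t14_59 : ((φ14 r59 : G14) : Matrix I14 I14 (ZMod 3)) = TM (T14 (0, 59)) := by
  show ((φ14 (r43 * y) : G14) : Matrix I14 I14 (ZMod 3)) = _
  rw [map_mul, Units.val_mul, t14_43, φ14_y]
  exact edge14_y (0, 43)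
theorem t14_60 : ((φ14 r60 : G14) : Matrix I14 I14 (ZMod 3)) = TM (T14 (0, 60)) := by
  show ((φ14 (r44 * y) : G14) : Matrix I14 I14 (ZMod 3)) = _
  rw [map_mul, Units.val_mul, t14_44, φ14_y]
  exact edge14_y (0, 44)
theorem t14_61 : ((φ14 r61 : G14) : Matrix I14 I14 (ZMod 3)) = TM (T14 (0, 61)) := by
  show ((φ14 (r45 * y) : G14) : Matrix I14 I14 (ZMod 3)) = _
  rw [map_mul, Units.val_mul, t14_45, φ14_y]
  exact edge14_y (0, 45)
theorem t14_62 : ((φ14 r62 : G14) : Matrix I14 I14 (ZMod 3)) = TM (T14 (0, 62)) := by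
  show ((φ14 (r46 * x) : G14) : Matrix I14 I14 (ZMod 3)) = _
  rw [map_mul, Units.val_mul, t14_46, φ14_x]
  exact edge14_x (0, 46)
theorem t14_63 : ((φ14 r63 : G14) : Matrix I14 I14 (ZMod 3)) = TM (T14 (1, 0)) := by
  show ((φ14 (r47 * y) : G14) : Matrix I14 I14 (ZMod 3)) = _
  rw [map_mul, Units.val_mul, t14_47, φ14_y]
  exact edge14_y (0, 47)
theorem t14_64 : ((φ14 r64 : G14) : Matrix I14 I14 (ZMod 3)) = TM (T14 (1, 1)) := by
  show ((φ14 (r48 * x) : G14) : Matrix I14 I14 (ZMod 3)) = _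
  rw [map_mul, Units.val_mul, t14_48, φ14_x]
  exact edge14_x (0, 48)
theorem t14_65 : ((φ14 r65 : G14) : Matrix I14 I14 (ZMod 3)) = TM (T14 (1, 2)) := by
  show ((φ14 (r49 * x) : G14) : Matrix I14 I14 (ZMod 3)) = _
  rw [map_mul, Units.val_mul, t14_49, φ14_x]
  exact edge14_x (0, 49)
theorem t14_66 : ((φ14 r66 : G14) : Matrix I14 I14 (ZMod 3)) = TM (T14 (1, 3)) := by
  show ((φ14 (r51 * x) : G14) : Matrix I14 I14 (ZMod 3)) = _
  rw [map_mul, Units.val_mul, t14_51, φ14_x]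
  exact edge14_x (0, 51)
theorem t14_67 : ((φ14 r67 : G14) : Matrix I14 I14 (ZMod 3)) = TM (T14 (1, 4)) := by
  show ((φ14 (r52 * x) : G14) : Matrix I14 I14 (ZMod 3)) = _
  rw [map_mul, Units.val_mul, t14_52, φ14_x]
  exact edge14_x (0, 52)
theorem t14_68 : ((φ14 r68 : G14) : Matrix I14 I14 (ZMod 3)) = TM (T14 (1, 5)) := by
  show ((φ14 (r52 * y) : G14) : Matrix I14 I14 (ZMod 3)) = _
  rw [map_mul, Units.val_mul, t14_52, φ14_y]
  exact edge14_y (0, 52)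
theorem t14_69 : ((φ14 r69 : G14) : Matrix I14 I14 (ZMod 3)) = TM (T14 (1, 6)) := by
  show ((φ14 (r53 * x) : G14) : Matrix I14 I14 (ZMod 3)) = _
  rw [map_mul, Units.val_mul, t14_53, φ14_x]
  exact edge14_x (0, 53)
theorem t14_70 : ((φ14 r70 : G14) : Matrix I14 I14 (ZMod 3)) = TM (T14 (1, 7)) := by
  show ((φ14 (r53 * y) : G14) : Matrix I14 I14 (ZMod 3)) = _
  rw [map_mul, Units.val_mul, t14_53, φ14_y]
  exact edge14_y (0, 53)
theorem t14_71 : ((φ14 r71 : G14) : Matrix I14 I14 (ZMod 3)) = TM (T14 (1, 8)) := by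
  show ((φ14 (r54 * y) : G14) : Matrix I14 I14 (ZMod 3)) = _
  rw [map_mul, Units.val_mul, t14_54, φ14_y]
  exact edge14_y (0, 54)
theorem t14_72 : ((φ14 r72 : G14) : Matrix I14 I14 (ZMod 3)) = TM (T14 (1, 9)) := by
  show ((φ14 (r55 * x) : G14) : Matrix I14 I14 (ZMod 3)) = _
  rw [map_mul, Units.val_mul, t14_55, φ14_x]
  exact edge14_x (0, 55)
theorem t14_73 : ((φ14 r73 : G14) : Matrix I14 I14 (ZMod 3)) = TM (T14 (1, 10)) := by
  show ((φ14 (r55 * y) : G14) : Matrix I14 I14 (ZMod 3)) = _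
  rw [map_mul, Units.val_mul, t14_55, φ14_y]
  exact edge14_y (0, 55)
theorem t14_74 : ((φ14 r74 : G14) : Matrix I14 I14 (ZMod 3)) = TM (T14 (1, 11)) := by
  show ((φ14 (r56 * y) : G14) : Matrix I14 I14 (ZMod 3)) = _
  rw [map_mul, Units.val_mul, t14_56, φ14_y]
  exact edge14_y (0, 56)
theorem t14_75 : ((φ14 r75 : G14) : Matrix I14 I14 (ZMod 3)) = TM (T14 (1, 12)) := by
  show ((φ14 (r57 * y) : G14) : Matrix I14 I14 (ZMod 3)) = _
  rw [map_mul, Units.val_mul, t14_57, φ14_y]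
  exact edge14_y (0, 57)
theorem t14_76 : ((φ14 r76 : G14) : Matrix I14 I14 (ZMod 3)) = TM (T14 (1, 13)) := by
  show ((φ14 (r59 * x) : G14) : Matrix I14 I14 (ZMod 3)) = _
  rw [map_mul, Units.val_mul, t14_59, φ14_x]
  exact edge14_x (0, 59)
theorem t14_77 : ((φ14 r77 : G14) : Matrix I14 I14 (ZMod 3)) = TM (T14 (1, 14)) := by
  show ((φ14 (r60 * x) : G14) : Matrix I14 I14 (ZMod 3)) = _
  rw [map_mul, Units.val_mul, t14_60, φ14_x]
  exact edge14_x (0, 60)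
theorem t14_78 : ((φ14 r78 : G14) : Matrix I14 I14 (ZMod 3)) = TM (T14 (1, 15)) := by
  show ((φ14 (r60 * y) : G14) : Matrix I14 I14 (ZMod 3)) = _
  rw [map_mul, Units.val_mul, t14_60, φ14_y]
  exact edge14_y (0, 60)
theorem t14_79 : ((φ14 r79 : G14) : Matrix I14 I14 (ZMod 3)) = TM (T14 (1, 16)) := by
  show ((φ14 (r61 * x) : G14) : Matrix I14 I14 (ZMod 3)) = _
  rw [map_mul, Units.val_mul, t14_61, φ14_x]
  exact edge14_x (0, 61)
theorem t14_80 : ((φ14 r80 : G14) : Matrix I14 I14 (ZMod 3)) = TM (T14 (1, 17)) := by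
  show ((φ14 (r61 * y) : G14) : Matrix I14 I14 (ZMod 3)) = _
  rw [map_mul, Units.val_mul, t14_61, φ14_y]
  exact edge14_y (0, 61)
theorem t14_81 : ((φ14 r81 : G14) : Matrix I14 I14 (ZMod 3)) = TM (T14 (1, 18)) := by
  show ((φ14 (r62 * y) : G14) : Matrix I14 I14 (ZMod 3)) = _
  rw [map_mul, Units.val_mul, t14_62, φ14_y]
  exact edge14_y (0, 62)
theorem t14_82 : ((φ14 r82 : G14) : Matrix I14 I14 (ZMod 3)) = TM (T14 (1, 19)) := by
  show ((φ14 (r63 * x) : G14) : Matrix I14 I14 (ZMod 3)) = _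
  rw [map_mul, Units.val_mul, t14_63, φ14_x]
  exact edge14_x (1, 0)
theorem t14_83 : ((φ14 r83 : G14) : Matrix I14 I14 (ZMod 3)) = TM (T14 (1, 20)) := by
  show ((φ14 (r63 * y) : G14) : Matrix I14 I14 (ZMod 3)) = _
  rw [map_mul, Units.val_mul, t14_63, φ14_y]
  exact edge14_y (1, 0)
theorem t14_84 : ((φ14 r84 : G14) : Matrix I14 I14 (ZMod 3)) = TM (T14 (1, 21)) := by
  show ((φ14 (r64 * y) : G14) : Matrix I14 I14 (ZMod 3)) = _
  rw [map_mul, Units.val_mul, t14_64, φ14_y]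
  exact edge14_y (1, 1)
theorem t14_85 : ((φ14 r85 : G14) : Matrix I14 I14 (ZMod 3)) = TM (T14 (1, 22)) := by
  show ((φ14 (r65 * y) : G14) : Matrix I14 I14 (ZMod 3)) = _
  rw [map_mul, Units.val_mul, t14_65, φ14_y]
  exact edge14_y (1, 2)
theorem t14_86 : ((φ14 r86 : G14) : Matrix I14 I14 (ZMod 3)) = TM (T14 (1, 23)) := by
  show ((φ14 (r66 * y) : G14) : Matrix I14 I14 (ZMod 3)) = _
  rw [map_mul, Units.val_mul, t14_66, φ14_y]
  exact edge14_y (1, 3)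
theorem t14_87 : ((φ14 r87 : G14) : Matrix I14 I14 (ZMod 3)) = TM (T14 (1, 24)) := by
  show ((φ14 (r67 * y) : G14) : Matrix I14 I14 (ZMod 3)) = _
  rw [map_mul, Units.val_mul, t14_67, φ14_y]
  exact edge14_y (1, 4)
theorem t14_88 : ((φ14 r88 : G14) : Matrix I14 I14 (ZMod 3)) = TM (T14 (1, 25)) := by
  show ((φ14 (r68 * x) : G14) : Matrix I14 I14 (ZMod 3)) = _
  rw [map_mul, Units.val_mul, t14_68, φ14_x]
  exact edge14_x (1, 5)
theorem t14_89 : ((φ14 r89 : G14) : Matrix I14 I14 (ZMod 3)) = TM (T14 (1, 26)) := by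
  show ((φ14 (r69 * y) : G14) : Matrix I14 I14 (ZMod 3)) = _
  rw [map_mul, Units.val_mul, t14_69, φ14_y]
  exact edge14_y (1, 6)
theorem t14_90 : ((φ14 r90 : G14) : Matrix I14 I14 (ZMod 3)) = TM (T14 (1, 27)) := by
  show ((φ14 (r70 * x) : G14) : Matrix I14 I14 (ZMod 3)) = _
  rw [map_mul, Units.val_mul, t14_70, φ14_x]
  exact edge14_x (1, 7)
theorem t14_91 : ((φ14 r91 : G14) : Matrix I14 I14 (ZMod 3)) = TM (T14 (1, 28)) := by
  show ((φ14 (r71 * x) : G14) : Matrix I14 I14 (ZMod 3)) = _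
  rw [map_mul, Units.val_mul, t14_71, φ14_x]
  exact edge14_x (1, 8)
theorem t14_92 : ((φ14 r92 : G14) : Matrix I14 I14 (ZMod 3)) = TM (T14 (1, 29)) := by
  show ((φ14 (r73 * x) : G14) : Matrix I14 I14 (ZMod 3)) = _
  rw [map_mul, Units.val_mul, t14_73, φ14_x]
  exact edge14_x (1, 10)
theorem t14_93 : ((φ14 r93 : G14) : Matrix I14 I14 (ZMod 3)) = TM (T14 (1, 30)) := by
  show ((φ14 (r74 * x) : G14) : Matrix I14 I14 (ZMod 3)) = _
  rw [map_mul, Units.val_mul, t14_74, φ14_x]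
  exact edge14_x (1, 11)
theorem t14_94 : ((φ14 r94 : G14) : Matrix I14 I14 (ZMod 3)) = TM (T14 (1, 31)) := by
  show ((φ14 (r74 * y) : G14) : Matrix I14 I14 (ZMod 3)) = _
  rw [map_mul, Units.val_mul, t14_74, φ14_y]
  exact edge14_y (1, 11)
theorem t14_95 : ((φ14 r95 : G14) : Matrix I14 I14 (ZMod 3)) = TM (T14 (1, 32)) := by
  show ((φ14 (r75 * x) : G14) : Matrix I14 I14 (ZMod 3)) = _
  rw [map_mul, Units.val_mul, t14_75, φ14_x]
  exact edge14_x (1, 12)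
theorem t14_96 : ((φ14 r96 : G14) : Matrix I14 I14 (ZMod 3)) = TM (T14 (1, 33)) := by
  show ((φ14 (r75 * y) : G14) : Matrix I14 I14 (ZMod 3)) = _
  rw [map_mul, Units.val_mul, t14_75, φ14_y]
  exact edge14_y (1, 12)
theorem t14_97 : ((φ14 r97 : G14) : Matrix I14 I14 (ZMod 3)) = TM (T14 (1, 34)) := by
  show ((φ14 (r76 * y) : G14) : Matrix I14 I14 (ZMod 3)) = _
  rw [map_mul, Units.val_mul, t14_76, φ14_y]
  exact edge14_y (1, 13)
theorem t14_98 : ((φ14 r98 : G14) : Matrix I14 I14 (ZMod 3)) = TM (T14 (1, 35)) := by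
  show ((φ14 (r77 * y) : G14) : Matrix I14 I14 (ZMod 3)) = _
  rw [map_mul, Units.val_mul, t14_77, φ14_y]
  exact edge14_y (1, 14)
theorem t14_99 : ((φ14 r99 : G14) : Matrix I14 I14 (ZMod 3)) = TM (T14 (1, 36)) := by
  show ((φ14 (r78 * x) : G14) : Matrix I14 I14 (ZMod 3)) = _
  rw [map_mul, Units.val_mul, t14_78, φ14_x]
  exact edge14_x (1, 15)
theorem t14_100 : ((φ14 r100 : G14) : Matrix I14 I14 (ZMod 3)) = TM (T14 (1, 37)) := by
  show ((φ14 (r79 * y) : G14) : Matrix I14 I14 (ZMod 3)) = _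
  rw [map_mul, Units.val_mul, t14_79, φ14_y]
  exact edge14_y (1, 16)
theorem t14_101 : ((φ14 r101 : G14) : Matrix I14 I14 (ZMod 3)) = TM (T14 (1, 38)) := by
  show ((φ14 (r80 * x) : G14) : Matrix I14 I14 (ZMod 3)) = _
  rw [map_mul, Units.val_mul, t14_80, φ14_x]
  exact edge14_x (1, 17)
theorem t14_102 : ((φ14 r102 : G14) : Matrix I14 I14 (ZMod 3)) = TM (T14 (1, 39)) := by
  show ((φ14 (r81 * x) : G14) : Matrix I14 I14 (ZMod 3)) = _
  rw [map_mul, Units.val_mul, t14_81, φ14_x]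
  exact edge14_x (1, 18)
theorem t14_103 : ((φ14 r103 : G14) : Matrix I14 I14 (ZMod 3)) = TM (T14 (1, 40)) := by
  show ((φ14 (r83 * x) : G14) : Matrix I14 I14 (ZMod 3)) = _
  rw [map_mul, Units.val_mul, t14_83, φ14_x]
  exact edge14_x (1, 20)
theorem t14_104 : ((φ14 r104 : G14) : Matrix I14 I14 (ZMod 3)) = TM (T14 (1, 41)) := by
  show ((φ14 (r84 * x) : G14) : Matrix I14 I14 (ZMod 3)) = _
  rw [map_mul, Units.val_mul, t14_84, φ14_x]
  exact edge14_x (1, 21)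
theorem t14_105 : ((φ14 r105 : G14) : Matrix I14 I14 (ZMod 3)) = TM (T14 (1, 42)) := by
  show ((φ14 (r84 * y) : G14) : Matrix I14 I14 (ZMod 3)) = _
  rw [map_mul, Units.val_mul, t14_84, φ14_y]
  exact edge14_y (1, 21)
theorem t14_106 : ((φ14 r106 : G14) : Matrix I14 I14 (ZMod 3)) = TM (T14 (1, 43)) := by
  show ((φ14 (r85 * x) : G14) : Matrix I14 I14 (ZMod 3)) = _
  rw [map_mul, Units.val_mul, t14_85, φ14_x]
  exact edge14_x (1, 22)
theorem t14_107 : ((φ14 r107 : G14) : Matrix I14 I14 (ZMod 3)) = TM (T14 (1, 44)) := by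
  show ((φ14 (r85 * y) : G14) : Matrix I14 I14 (ZMod 3)) = _
  rw [map_mul, Units.val_mul, t14_85, φ14_y]
  exact edge14_y (1, 22)
theorem t14_108 : ((φ14 r108 : G14) : Matrix I14 I14 (ZMod 3)) = TM (T14 (1, 45)) := by
  show ((φ14 (r86 * x) : G14) : Matrix I14 I14 (ZMod 3)) = _
  rw [map_mul, Units.val_mul, t14_86, φ14_x]
  exact edge14_x (1, 23)
theorem t14_109 : ((φ14 r109 : G14) : Matrix I14 I14 (ZMod 3)) = TM (T14 (1, 46)) := by
  show ((φ14 (r86 * y) : G14) : Matrix I14 I14 (ZMod 3)) = _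
  rw [map_mul, Units.val_mul, t14_86, φ14_y]
  exact edge14_y (1, 23)
theorem t14_110 : ((φ14 r110 : G14) : Matrix I14 I14 (ZMod 3)) = TM (T14 (1, 47)) := by
  show ((φ14 (r87 * x) : G14) : Matrix I14 I14 (ZMod 3)) = _
  rw [map_mul, Units.val_mul, t14_87, φ14_x]
  exact edge14_x (1, 24)
theorem t14_111 : ((φ14 r111 : G14) : Matrix I14 I14 (ZMod 3)) = TM (T14 (1, 48)) := by
  show ((φ14 (r87 * y) : G14) : Matrix I14 I14 (ZMod 3)) = _
  rw [map_mul, Units.val_mul, t14_87, φ14_y]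
  exact edge14_y (1, 24)
theorem t14_112 : ((φ14 r112 : G14) : Matrix I14 I14 (ZMod 3)) = TM (T14 (1, 49)) := by
  show ((φ14 (r88 * y) : G14) : Matrix I14 I14 (ZMod 3)) = _
  rw [map_mul, Units.val_mul, t14_88, φ14_y]
  exact edge14_y (1, 25)
theorem t14_113 : ((φ14 r113 : G14) : Matrix I14 I14 (ZMod 3)) = TM (T14 (1, 50)) := by
  show ((φ14 (r89 * x) : G14) : Matrix I14 I14 (ZMod 3)) = _
  rw [map_mul, Units.val_mul, t14_89, φ14_x]
  exact edge14_x (1, 26)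
theorem t14_114 : ((φ14 r114 : G14) : Matrix I14 I14 (ZMod 3)) = TM (T14 (1, 51)) := by
  show ((φ14 (r89 * y) : G14) : Matrix I14 I14 (ZMod 3)) = _
  rw [map_mul, Units.val_mul, t14_89, φ14_y]
  exact edge14_y (1, 26)
theorem t14_115 : ((φ14 r115 : G14) : Matrix I14 I14 (ZMod 3)) = TM (T14 (1, 52)) := by
  show ((φ14 (r90 * y) : G14) : Matrix I14 I14 (ZMod 3)) = _
  rw [map_mul, Units.val_mul, t14_90, φ14_y]
  exact edge14_y (1, 27)
theorem t14_116 : ((φ14 r116 : G14) : Matrix I14 I14 (ZMod 3)) = TM (T14 (1, 53)) := by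
  show ((φ14 (r91 * y) : G14) : Matrix I14 I14 (ZMod 3)) = _
  rw [map_mul, Units.val_mul, t14_91, φ14_y]
  exact edge14_y (1, 28)
theorem t14_117 : ((φ14 r117 : G14) : Matrix I14 I14 (ZMod 3)) = TM (T14 (1, 54)) := by
  show ((φ14 (r92 * y) : G14) : Matrix I14 I14 (ZMod 3)) = _
  rw [map_mul, Units.val_mul, t14_92, φ14_y]
  exact edge14_y (1, 29)
theorem t14_118 : ((φ14 r118 : G14) : Matrix I14 I14 (ZMod 3)) = TM (T14 (1, 55)) := by
  show ((φ14 (r93 * y) : G14) : Matrix I14 I14 (ZMod 3)) = _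
  rw [map_mul, Units.val_mul, t14_93, φ14_y]
  exact edge14_y (1, 30)
theorem t14_119 : ((φ14 r119 : G14) : Matrix I14 I14 (ZMod 3)) = TM (T14 (1, 56)) := by
  show ((φ14 (r94 * x) : G14) : Matrix I14 I14 (ZMod 3)) = _
  rw [map_mul, Units.val_mul, t14_94, φ14_x]
  exact edge14_x (1, 31)
theorem t14_120 : ((φ14 r120 : G14) : Matrix I14 I14 (ZMod 3)) = TM (T14 (1, 57)) := by
  show ((φ14 (r95 * y) : G14) : Matrix I14 I14 (ZMod 3)) = _
  rw [map_mul, Units.val_mul, t14_95, φ14_y]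
  exact edge14_y (1, 32)
theorem t14_121 : ((φ14 r121 : G14) : Matrix I14 I14 (ZMod 3)) = TM (T14 (1, 58)) := by
  show ((φ14 (r96 * x) : G14) : Matrix I14 I14 (ZMod 3)) = _
  rw [map_mul, Units.val_mul, t14_96, φ14_x]
  exact edge14_x (1, 33)
theorem t14_122 : ((φ14 r122 : G14) : Matrix I14 I14 (ZMod 3)) = TM (T14 (1, 59)) := by
  show ((φ14 (r97 * x) : G14) : Matrix I14 I14 (ZMod 3)) = _
  rw [map_mul, Units.val_mul, t14_97, φ14_x]
  exact edge14_x (1, 34)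
theorem t14_123 : ((φ14 r123 : G14) : Matrix I14 I14 (ZMod 3)) = TM (T14 (1, 60)) := by
  show ((φ14 (r97 * y) : G14) : Matrix I14 I14 (ZMod 3)) = _
  rw [map_mul, Units.val_mul, t14_97, φ14_y]
  exact edge14_y (1, 34)
theorem t14_124 : ((φ14 r124 : G14) : Matrix I14 I14 (ZMod 3)) = TM (T14 (1, 61)) := by
  show ((φ14 (r98 * x) : G14) : Matrix I14 I14 (ZMod 3)) = _
  rw [map_mul, Units.val_mul, t14_98, φ14_x]
  exact edge14_x (1, 35)
theorem t14_125 : ((φ14 r125 : G14) : Matrix I14 I14 (ZMod 3)) = TM (T14 (1, 62)) := by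
  show ((φ14 (r98 * y) : G14) : Matrix I14 I14 (ZMod 3)) = _
  rw [map_mul, Units.val_mul, t14_98, φ14_y]
  exact edge14_y (1, 35)
theorem t14_126 : ((φ14 r126 : G14) : Matrix I14 I14 (ZMod 3)) = TM (T14 (2, 0)) := by
  show ((φ14 (r99 * y) : G14) : Matrix I14 I14 (ZMod 3)) = _
  rw [map_mul, Units.val_mul, t14_99, φ14_y]
  exact edge14_y (1, 36)
theorem t14_127 : ((φ14 r127 : G14) : Matrix I14 I14 (ZMod 3)) = TM (T14 (2, 1)) := by
  show ((φ14 (r100 * x) : G14) : Matrix I14 I14 (ZMod 3)) = _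
  rw [map_mul, Units.val_mul, t14_100, φ14_x]
  exact edge14_x (1, 37)
theorem t14_128 : ((φ14 r128 : G14) : Matrix I14 I14 (ZMod 3)) = TM (T14 (2, 2)) := by
  show ((φ14 (r100 * y) : G14) : Matrix I14 I14 (ZMod 3)) = _
  rw [map_mul, Units.val_mul, t14_100, φ14_y]
  exact edge14_y (1, 37)
theorem t14_129 : ((φ14 r129 : G14) : Matrix I14 I14 (ZMod 3)) = TM (T14 (2, 3)) := by
  show ((φ14 (r101 * y) : G14) : Matrix I14 I14 (ZMod 3)) = _
  rw [map_mul, Units.val_mul, t14_101, φ14_y]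
  exact edge14_y (1, 38)
theorem t14_130 : ((φ14 r130 : G14) : Matrix I14 I14 (ZMod 3)) = TM (T14 (2, 4)) := by
  show ((φ14 (r102 * y) : G14) : Matrix I14 I14 (ZMod 3)) = _
  rw [map_mul, Units.val_mul, t14_102, φ14_y]
  exact edge14_y (1, 39)
theorem t14_131 : ((φ14 r131 : G14) : Matrix I14 I14 (ZMod 3)) = TM (T14 (2, 5)) := by
  show ((φ14 (r103 * y) : G14) : Matrix I14 I14 (ZMod 3)) = _
  rw [map_mul, Units.val_mul, t14_103, φ14_y]
  exact edge14_y (1, 40)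
theorem t14_132 : ((φ14 r132 : G14) : Matrix I14 I14 (ZMod 3)) = TM (T14 (2, 6)) := by
  show ((φ14 (r104 * y) : G14) : Matrix I14 I14 (ZMod 3)) = _
  rw [map_mul, Units.val_mul, t14_104, φ14_y]
  exact edge14_y (1, 41)
theorem t14_133 : ((φ14 r133 : G14) : Matrix I14 I14 (ZMod 3)) = TM (T14 (2, 7)) := by
  show ((φ14 (r105 * x) : G14) : Matrix I14 I14 (ZMod 3)) = _
  rw [map_mul, Units.val_mul, t14_105, φ14_x]
  exact edge14_x (1, 42)
theorem t14_134 : ((φ14 r134 : G14) : Matrix I14 I14 (ZMod 3)) = TM (T14 (2, 8)) := by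
  show ((φ14 (r106 * y) : G14) : Matrix I14 I14 (ZMod 3)) = _
  rw [map_mul, Units.val_mul, t14_106, φ14_y]
  exact edge14_y (1, 43)
theorem t14_135 : ((φ14 r135 : G14) : Matrix I14 I14 (ZMod 3)) = TM (T14 (2, 9)) := by
  show ((φ14 (r107 * x) : G14) : Matrix I14 I14 (ZMod 3)) = _
  rw [map_mul, Units.val_mul, t14_107, φ14_x]
  exact edge14_x (1, 44)
theorem t14_136 : ((φ14 r136 : G14) : Matrix I14 I14 (ZMod 3)) = TM (T14 (2, 10)) := by
  show ((φ14 (r108 * y) : G14) : Matrix I14 I14 (ZMod 3)) = _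
  rw [map_mul, Units.val_mul, t14_108, φ14_y]
  exact edge14_y (1, 45)
theorem t14_137 : ((φ14 r137 : G14) : Matrix I14 I14 (ZMod 3)) = TM (T14 (2, 11)) := by
  show ((φ14 (r109 * x) : G14) : Matrix I14 I14 (ZMod 3)) = _
  rw [map_mul, Units.val_mul, t14_109, φ14_x]
  exact edge14_x (1, 46)
theorem t14_138 : ((φ14 r138 : G14) : Matrix I14 I14 (ZMod 3)) = TM (T14 (2, 12)) := by
  show ((φ14 (r110 * y) : G14) : Matrix I14 I14 (ZMod 3)) = _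
  rw [map_mul, Units.val_mul, t14_110, φ14_y]
  exact edge14_y (1, 47)
theorem t14_139 : ((φ14 r139 : G14) : Matrix I14 I14 (ZMod 3)) = TM (T14 (2, 13)) := by
  show ((φ14 (r111 * x) : G14) : Matrix I14 I14 (ZMod 3)) = _
  rw [map_mul, Units.val_mul, t14_111, φ14_x]
  exact edge14_x (1, 48)
theorem t14_140 : ((φ14 r140 : G14) : Matrix I14 I14 (ZMod 3)) = TM (T14 (2, 14)) := by
  show ((φ14 (r112 * x) : G14) : Matrix I14 I14 (ZMod 3)) = _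
  rw [map_mul, Units.val_mul, t14_112, φ14_x]
  exact edge14_x (1, 49)
theorem t14_141 : ((φ14 r141 : G14) : Matrix I14 I14 (ZMod 3)) = TM (T14 (2, 15)) := by
  show ((φ14 (r114 * x) : G14) : Matrix I14 I14 (ZMod 3)) = _
  rw [map_mul, Units.val_mul, t14_114, φ14_x]
  exact edge14_x (1, 51)
theorem t14_142 : ((φ14 r142 : G14) : Matrix I14 I14 (ZMod 3)) = TM (T14 (2, 16)) := by
  show ((φ14 (r115 * x) : G14) : Matrix I14 I14 (ZMod 3)) = _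
  rw [map_mul, Units.val_mul, t14_115, φ14_x]
  exact edge14_x (1, 52)
theorem t14_143 : ((φ14 r143 : G14) : Matrix I14 I14 (ZMod 3)) = TM (T14 (2, 17)) := by
  show ((φ14 (r115 * y) : G14) : Matrix I14 I14 (ZMod 3)) = _
  rw [map_mul, Units.val_mul, t14_115, φ14_y]
  exact edge14_y (1, 52)
theorem t14_144 : ((φ14 r144 : G14) : Matrix I14 I14 (ZMod 3)) = TM (T14 (2, 18)) := by
  show ((φ14 (r116 * x) : G14) : Matrix I14 I14 (ZMod 3)) = _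
  rw [map_mul, Units.val_mul, t14_116, φ14_x]
  exact edge14_x (1, 53)
theorem t14_145 : ((φ14 r145 : G14) : Matrix I14 I14 (ZMod 3)) = TM (T14 (2, 19)) := by
  show ((φ14 (r116 * y) : G14) : Matrix I14 I14 (ZMod 3)) = _
  rw [map_mul, Units.val_mul, t14_116, φ14_y]
  exact edge14_y (1, 53)
theorem t14_146 : ((φ14 r146 : G14) : Matrix I14 I14 (ZMod 3)) = TM (T14 (2, 20)) := by
  show ((φ14 (r117 * x) : G14) : Matrix I14 I14 (ZMod 3)) = _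
  rw [map_mul, Units.val_mul, t14_117, φ14_x]
  exact edge14_x (1, 54)
theorem t14_147 : ((φ14 r147 : G14) : Matrix I14 I14 (ZMod 3)) = TM (T14 (2, 21)) := by
  show ((φ14 (r117 * y) : G14) : Matrix I14 I14 (ZMod 3)) = _
  rw [map_mul, Units.val_mul, t14_117, φ14_y]
  exact edge14_y (1, 54)
theorem t14_148 : ((φ14 r148 : G14) : Matrix I14 I14 (ZMod 3)) = TM (T14 (2, 22)) := by
  show ((φ14 (r118 * x) : G14) : Matrix I14 I14 (ZMod 3)) = _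
  rw [map_mul, Units.val_mul, t14_118, φ14_x]
  exact edge14_x (1, 55)
theorem t14_149 : ((φ14 r149 : G14) : Matrix I14 I14 (ZMod 3)) = TM (T14 (2, 23)) := by
  show ((φ14 (r118 * y) : G14) : Matrix I14 I14 (ZMod 3)) = _
  rw [map_mul, Units.val_mul, t14_118, φ14_y]
  exact edge14_y (1, 55)
theorem t14_150 : ((φ14 r150 : G14) : Matrix I14 I14 (ZMod 3)) = TM (T14 (2, 24)) := by
  show ((φ14 (r119 * y) : G14) : Matrix I14 I14 (ZMod 3)) = _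
  rw [map_mul, Units.val_mul, t14_119, φ14_y]
  exact edge14_y (1, 56)
theorem t14_151 : ((φ14 r151 : G14) : Matrix I14 I14 (ZMod 3)) = TM (T14 (2, 25)) := by
  show ((φ14 (r120 * x) : G14) : Matrix I14 I14 (ZMod 3)) = _
  rw [map_mul, Units.val_mul, t14_120, φ14_x]
  exact edge14_x (1, 57)
theorem t14_152 : ((φ14 r152 : G14) : Matrix I14 I14 (ZMod 3)) = TM (T14 (2, 26)) := by
  show ((φ14 (r120 * y) : G14) : Matrix I14 I14 (ZMod 3)) = _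
  rw [map_mul, Units.val_mul, t14_120, φ14_y]
  exact edge14_y (1, 57)
theorem t14_153 : ((φ14 r153 : G14) : Matrix I14 I14 (ZMod 3)) = TM (T14 (2, 27)) := by
  show ((φ14 (r121 * y) : G14) : Matrix I14 I14 (ZMod 3)) = _
  rw [map_mul, Units.val_mul, t14_121, φ14_y]
  exact edge14_y (1, 58)
theorem t14_154 : ((φ14 r154 : G14) : Matrix I14 I14 (ZMod 3)) = TM (T14 (2, 28)) := by
  show ((φ14 (r122 * y) : G14) : Matrix I14 I14 (ZMod 3)) = _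
  rw [map_mul, Units.val_mul, t14_122, φ14_y]
  exact edge14_y (1, 59)
theorem t14_155 : ((φ14 r155 : G14) : Matrix I14 I14 (ZMod 3)) = TM (T14 (2, 29)) := by
  show ((φ14 (r123 * x) : G14) : Matrix I14 I14 (ZMod 3)) = _
  rw [map_mul, Units.val_mul, t14_123, φ14_x]
  exact edge14_x (1, 60)
theorem t14_156 : ((φ14 r156 : G14) : Matrix I14 I14 (ZMod 3)) = TM (T14 (2, 30)) := by
  show ((φ14 (r124 * y) : G14) : Matrix I14 I14 (ZMod 3)) = _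
  rw [map_mul, Units.val_mul, t14_124, φ14_y]
  exact edge14_y (1, 61)
theorem t14_157 : ((φ14 r157 : G14) : Matrix I14 I14 (ZMod 3)) = TM (T14 (2, 31)) := by
  show ((φ14 (r125 * x) : G14) : Matrix I14 I14 (ZMod 3)) = _
  rw [map_mul, Units.val_mul, t14_125, φ14_x]
  exact edge14_x (1, 62)
theorem t14_158 : ((φ14 r158 : G14) : Matrix I14 I14 (ZMod 3)) = TM (T14 (2, 32)) := by
  show ((φ14 (r126 * x) : G14) : Matrix I14 I14 (ZMod 3)) = _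
  rw [map_mul, Units.val_mul, t14_126, φ14_x]
  exact edge14_x (2, 0)
theorem t14_159 : ((φ14 r159 : G14) : Matrix I14 I14 (ZMod 3)) = TM (T14 (2, 33)) := by
  show ((φ14 (r128 * x) : G14) : Matrix I14 I14 (ZMod 3)) = _
  rw [map_mul, Units.val_mul, t14_128, φ14_x]
  exact edge14_x (2, 2)
theorem t14_160 : ((φ14 r160 : G14) : Matrix I14 I14 (ZMod 3)) = TM (T14 (2, 34)) := by
  show ((φ14 (r129 * x) : G14) : Matrix I14 I14 (ZMod 3)) = _
  rw [map_mul, Units.val_mul, t14_129, φ14_x]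
  exact edge14_x (2, 3)
theorem t14_161 : ((φ14 r161 : G14) : Matrix I14 I14 (ZMod 3)) = TM (T14 (2, 35)) := by
  show ((φ14 (r129 * y) : G14) : Matrix I14 I14 (ZMod 3)) = _
  rw [map_mul, Units.val_mul, t14_129, φ14_y]
  exact edge14_y (2, 3)
theorem t14_162 : ((φ14 r162 : G14) : Matrix I14 I14 (ZMod 3)) = TM (T14 (2, 36)) := by
  show ((φ14 (r130 * x) : G14) : Matrix I14 I14 (ZMod 3)) = _
  rw [map_mul, Units.val_mul, t14_130, φ14_x]
  exact edge14_x (2, 4)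
theorem t14_163 : ((φ14 r163 : G14) : Matrix I14 I14 (ZMod 3)) = TM (T14 (2, 37)) := by
  show ((φ14 (r130 * y) : G14) : Matrix I14 I14 (ZMod 3)) = _
  rw [map_mul, Units.val_mul, t14_130, φ14_y]
  exact edge14_y (2, 4)
theorem t14_164 : ((φ14 r164 : G14) : Matrix I14 I14 (ZMod 3)) = TM (T14 (2, 38)) := by
  show ((φ14 (r131 * x) : G14) : Matrix I14 I14 (ZMod 3)) = _
  rw [map_mul, Units.val_mul, t14_131, φ14_x]
  exact edge14_x (2, 5)
theorem t14_165 : ((φ14 r165 : G14) : Matrix I14 I14 (ZMod 3)) = TM (T14 (2, 39)) := by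
  show ((φ14 (r131 * y) : G14) : Matrix I14 I14 (ZMod 3)) = _
  rw [map_mul, Units.val_mul, t14_131, φ14_y]
  exact edge14_y (2, 5)
theorem t14_166 : ((φ14 r166 : G14) : Matrix I14 I14 (ZMod 3)) = TM (T14 (2, 40)) := by
  show ((φ14 (r132 * x) : G14) : Matrix I14 I14 (ZMod 3)) = _
  rw [map_mul, Units.val_mul, t14_132, φ14_x]
  exact edge14_x (2, 6)
theorem t14_167 : ((φ14 r167 : G14) : Matrix I14 I14 (ZMod 3)) = TM (T14 (2, 41)) := by
  show ((φ14 (r132 * y) : G14) : Matrix I14 I14 (ZMod 3)) = _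
  rw [map_mul, Units.val_mul, t14_132, φ14_y]
  exact edge14_y (2, 6)
theorem t14_168 : ((φ14 r168 : G14) : Matrix I14 I14 (ZMod 3)) = TM (T14 (2, 42)) := by
  show ((φ14 (r133 * y) : G14) : Matrix I14 I14 (ZMod 3)) = _
  rw [map_mul, Units.val_mul, t14_133, φ14_y]
  exact edge14_y (2, 7)
theorem t14_169 : ((φ14 r169 : G14) : Matrix I14 I14 (ZMod 3)) = TM (T14 (2, 43)) := by
  show ((φ14 (r134 * x) : G14) : Matrix I14 I14 (ZMod 3)) = _
  rw [map_mul, Units.val_mul, t14_134, φ14_x]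
  exact edge14_x (2, 8)
theorem t14_170 : ((φ14 r170 : G14) : Matrix I14 I14 (ZMod 3)) = TM (T14 (2, 44)) := by
  show ((φ14 (r134 * y) : G14) : Matrix I14 I14 (ZMod 3)) = _
  rw [map_mul, Units.val_mul, t14_134, φ14_y]
  exact edge14_y (2, 8)
theorem t14_171 : ((φ14 r171 : G14) : Matrix I14 I14 (ZMod 3)) = TM (T14 (2, 45)) := by
  show ((φ14 (r135 * y) : G14) : Matrix I14 I14 (ZMod 3)) = _
  rw [map_mul, Units.val_mul, t14_135, φ14_y]
  exact edge14_y (2, 9)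
theorem t14_172 : ((φ14 r172 : G14) : Matrix I14 I14 (ZMod 3)) = TM (T14 (2, 46)) := by
  show ((φ14 (r136 * x) : G14) : Matrix I14 I14 (ZMod 3)) = _
  rw [map_mul, Units.val_mul, t14_136, φ14_x]
  exact edge14_x (2, 10)
theorem t14_173 : ((φ14 r173 : G14) : Matrix I14 I14 (ZMod 3)) = TM (T14 (2, 47)) := by
  show ((φ14 (r136 * y) : G14) : Matrix I14 I14 (ZMod 3)) = _
  rw [map_mul, Units.val_mul, t14_136, φ14_y]
  exact edge14_y (2, 10)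
theorem t14_174 : ((φ14 r174 : G14) : Matrix I14 I14 (ZMod 3)) = TM (T14 (2, 48)) := by
  show ((φ14 (r137 * y) : G14) : Matrix I14 I14 (ZMod 3)) = _
  rw [map_mul, Units.val_mul, t14_137, φ14_y]
  exact edge14_y (2, 11)
theorem t14_175 : ((φ14 r175 : G14) : Matrix I14 I14 (ZMod 3)) = TM (T14 (2, 49)) := by
  show ((φ14 (r138 * x) : G14) : Matrix I14 I14 (ZMod 3)) = _
  rw [map_mul, Units.val_mul, t14_138, φ14_x]
  exact edge14_x (2, 12)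
theorem t14_176 : ((φ14 r176 : G14) : Matrix I14 I14 (ZMod 3)) = TM (T14 (2, 50)) := by
  show ((φ14 (r138 * y) : G14) : Matrix I14 I14 (ZMod 3)) = _
  rw [map_mul, Units.val_mul, t14_138, φ14_y]
  exact edge14_y (2, 12)
theorem t14_177 : ((φ14 r177 : G14) : Matrix I14 I14 (ZMod 3)) = TM (T14 (2, 51)) := by
  show ((φ14 (r139 * y) : G14) : Matrix I14 I14 (ZMod 3)) = _
  rw [map_mul, Units.val_mul, t14_139, φ14_y]
  exact edge14_y (2, 13)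
theorem t14_178 : ((φ14 r178 : G14) : Matrix I14 I14 (ZMod 3)) = TM (T14 (2, 52)) := by
  show ((φ14 (r140 * y) : G14) : Matrix I14 I14 (ZMod 3)) = _
  rw [map_mul, Units.val_mul, t14_140, φ14_y]
  exact edge14_y (2, 14)
theorem t14_179 : ((φ14 r179 : G14) : Matrix I14 I14 (ZMod 3)) = TM (T14 (2, 53)) := by
  show ((φ14 (r141 * y) : G14) : Matrix I14 I14 (ZMod 3)) = _
  rw [map_mul, Units.val_mul, t14_141, φ14_y]
  exact edge14_y (2, 15)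
theorem t14_180 : ((φ14 r180 : G14) : Matrix I14 I14 (ZMod 3)) = TM (T14 (2, 54)) := by
  show ((φ14 (r142 * y) : G14) : Matrix I14 I14 (ZMod 3)) = _
  rw [map_mul, Units.val_mul, t14_142, φ14_y]
  exact edge14_y (2, 16)
theorem t14_181 : ((φ14 r181 : G14) : Matrix I14 I14 (ZMod 3)) = TM (T14 (2, 55)) := by
  show ((φ14 (r143 * x) : G14) : Matrix I14 I14 (ZMod 3)) = _
  rw [map_mul, Units.val_mul, t14_143, φ14_x]
  exact edge14_x (2, 17)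
theorem t14_182 : ((φ14 r182 : G14) : Matrix I14 I14 (ZMod 3)) = TM (T14 (2, 56)) := by
  show ((φ14 (r144 * y) : G14) : Matrix I14 I14 (ZMod 3)) = _
  rw [map_mul, Units.val_mul, t14_144, φ14_y]
  exact edge14_y (2, 18)
theorem t14_183 : ((φ14 r183 : G14) : Matrix I14 I14 (ZMod 3)) = TM (T14 (2, 57)) := by
  show ((φ14 (r145 * x) : G14) : Matrix I14 I14 (ZMod 3)) = _
  rw [map_mul, Units.val_mul, t14_145, φ14_x]
  exact edge14_x (2, 19)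
theorem t14_184 : ((φ14 r184 : G14) : Matrix I14 I14 (ZMod 3)) = TM (T14 (2, 58)) := by
  show ((φ14 (r146 * y) : G14) : Matrix I14 I14 (ZMod 3)) = _
  rw [map_mul, Units.val_mul, t14_146, φ14_y]
  exact edge14_y (2, 20)
theorem t14_185 : ((φ14 r185 : G14) : Matrix I14 I14 (ZMod 3)) = TM (T14 (2, 59)) := by
  show ((φ14 (r147 * x) : G14) : Matrix I14 I14 (ZMod 3)) = _
  rw [map_mul, Units.val_mul, t14_147, φ14_x]
  exact edge14_x (2, 21)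
theorem t14_186 : ((φ14 r186 : G14) : Matrix I14 I14 (ZMod 3)) = TM (T14 (2, 60)) := by
  show ((φ14 (r148 * y) : G14) : Matrix I14 I14 (ZMod 3)) = _
  rw [map_mul, Units.val_mul, t14_148, φ14_y]
  exact edge14_y (2, 22)
theorem t14_187 : ((φ14 r187 : G14) : Matrix I14 I14 (ZMod 3)) = TM (T14 (2, 61)) := by
  show ((φ14 (r149 * x) : G14) : Matrix I14 I14 (ZMod 3)) = _
  rw [map_mul, Units.val_mul, t14_149, φ14_x]
  exact edge14_x (2, 23)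
theorem t14_188 : ((φ14 r188 : G14) : Matrix I14 I14 (ZMod 3)) = TM (T14 (2, 62)) := by
  show ((φ14 (r150 * x) : G14) : Matrix I14 I14 (ZMod 3)) = _
  rw [map_mul, Units.val_mul, t14_150, φ14_x]
  exact edge14_x (2, 24)
theorem t14_189 : ((φ14 r189 : G14) : Matrix I14 I14 (ZMod 3)) = TM (T14 (3, 0)) := by
  show ((φ14 (r152 * x) : G14) : Matrix I14 I14 (ZMod 3)) = _
  rw [map_mul, Units.val_mul, t14_152, φ14_x]
  exact edge14_x (2, 26)
theorem t14_190 : ((φ14 r190 : G14) : Matrix I14 I14 (ZMod 3)) = TM (T14 (3, 1)) := by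
  show ((φ14 (r153 * x) : G14) : Matrix I14 I14 (ZMod 3)) = _
  rw [map_mul, Units.val_mul, t14_153, φ14_x]
  exact edge14_x (2, 27)
theorem t14_191 : ((φ14 r191 : G14) : Matrix I14 I14 (ZMod 3)) = TM (T14 (3, 2)) := by
  show ((φ14 (r153 * y) : G14) : Matrix I14 I14 (ZMod 3)) = _
  rw [map_mul, Units.val_mul, t14_153, φ14_y]
  exact edge14_y (2, 27)
theorem t14_192 : ((φ14 r192 : G14) : Matrix I14 I14 (ZMod 3)) = TM (T14 (3, 3)) := by
  show ((φ14 (r154 * x) : G14) : Matrix I14 I14 (ZMod 3)) = _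
  rw [map_mul, Units.val_mul, t14_154, φ14_x]
  exact edge14_x (2, 28)
theorem t14_193 : ((φ14 r193 : G14) : Matrix I14 I14 (ZMod 3)) = TM (T14 (3, 4)) := by
  show ((φ14 (r154 * y) : G14) : Matrix I14 I14 (ZMod 3)) = _
  rw [map_mul, Units.val_mul, t14_154, φ14_y]
  exact edge14_y (2, 28)
theorem t14_194 : ((φ14 r194 : G14) : Matrix I14 I14 (ZMod 3)) = TM (T14 (3, 5)) := by
  show ((φ14 (r155 * y) : G14) : Matrix I14 I14 (ZMod 3)) = _
  rw [map_mul, Units.val_mul, t14_155, φ14_y]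
  exact edge14_y (2, 29)
theorem t14_195 : ((φ14 r195 : G14) : Matrix I14 I14 (ZMod 3)) = TM (T14 (3, 6)) := by
  show ((φ14 (r156 * x) : G14) : Matrix I14 I14 (ZMod 3)) = _
  rw [map_mul, Units.val_mul, t14_156, φ14_x]
  exact edge14_x (2, 30)
theorem t14_196 : ((φ14 r196 : G14) : Matrix I14 I14 (ZMod 3)) = TM (T14 (3, 7)) := by
  show ((φ14 (r156 * y) : G14) : Matrix I14 I14 (ZMod 3)) = _
  rw [map_mul, Units.val_mul, t14_156, φ14_y]
  exact edge14_y (2, 30)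
theorem t14_197 : ((φ14 r197 : G14) : Matrix I14 I14 (ZMod 3)) = TM (T14 (3, 8)) := by
  show ((φ14 (r157 * y) : G14) : Matrix I14 I14 (ZMod 3)) = _
  rw [map_mul, Units.val_mul, t14_157, φ14_y]
  exact edge14_y (2, 31)
theorem t14_198 : ((φ14 r198 : G14) : Matrix I14 I14 (ZMod 3)) = TM (T14 (3, 9)) := by
  show ((φ14 (r158 * y) : G14) : Matrix I14 I14 (ZMod 3)) = _
  rw [map_mul, Units.val_mul, t14_158, φ14_y]
  exact edge14_y (2, 32)
theorem t14_199 : ((φ14 r199 : G14) : Matrix I14 I14 (ZMod 3)) = TM (T14 (3, 10)) := by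
  show ((φ14 (r159 * y) : G14) : Matrix I14 I14 (ZMod 3)) = _
  rw [map_mul, Units.val_mul, t14_159, φ14_y]
  exact edge14_y (2, 33)
theorem t14_200 : ((φ14 r200 : G14) : Matrix I14 I14 (ZMod 3)) = TM (T14 (3, 11)) := by
  show ((φ14 (r160 * y) : G14) : Matrix I14 I14 (ZMod 3)) = _
  rw [map_mul, Units.val_mul, t14_160, φ14_y]
  exact edge14_y (2, 34)
theorem t14_201 : ((φ14 r201 : G14) : Matrix I14 I14 (ZMod 3)) = TM (T14 (3, 12)) := by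
  show ((φ14 (r161 * x) : G14) : Matrix I14 I14 (ZMod 3)) = _
  rw [map_mul, Units.val_mul, t14_161, φ14_x]
  exact edge14_x (2, 35)
theorem t14_202 : ((φ14 r202 : G14) : Matrix I14 I14 (ZMod 3)) = TM (T14 (3, 13)) := by
  show ((φ14 (r162 * y) : G14) : Matrix I14 I14 (ZMod 3)) = _
  rw [map_mul, Units.val_mul, t14_162, φ14_y]
  exact edge14_y (2, 36)
theorem t14_203 : ((φ14 r203 : G14) : Matrix I14 I14 (ZMod 3)) = TM (T14 (3, 14)) := by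
  show ((φ14 (r163 * x) : G14) : Matrix I14 I14 (ZMod 3)) = _
  rw [map_mul, Units.val_mul, t14_163, φ14_x]
  exact edge14_x (2, 37)
theorem t14_204 : ((φ14 r204 : G14) : Matrix I14 I14 (ZMod 3)) = TM (T14 (3, 15)) := by
  show ((φ14 (r164 * y) : G14) : Matrix I14 I14 (ZMod 3)) = _
  rw [map_mul, Units.val_mul, t14_164, φ14_y]
  exact edge14_y (2, 38)
theorem t14_205 : ((φ14 r205 : G14) : Matrix I14 I14 (ZMod 3)) = TM (T14 (3, 16)) := by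
  show ((φ14 (r165 * x) : G14) : Matrix I14 I14 (ZMod 3)) = _
  rw [map_mul, Units.val_mul, t14_165, φ14_x]
  exact edge14_x (2, 39)
theorem t14_206 : ((φ14 r206 : G14) : Matrix I14 I14 (ZMod 3)) = TM (T14 (3, 17)) := by
  show ((φ14 (r166 * y) : G14) : Matrix I14 I14 (ZMod 3)) = _
  rw [map_mul, Units.val_mul, t14_166, φ14_y]
  exact edge14_y (2, 40)
theorem t14_207 : ((φ14 r207 : G14) : Matrix I14 I14 (ZMod 3)) = TM (T14 (3, 18)) := by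
  show ((φ14 (r167 * x) : G14) : Matrix I14 I14 (ZMod 3)) = _
  rw [map_mul, Units.val_mul, t14_167, φ14_x]
  exact edge14_x (2, 41)
theorem t14_208 : ((φ14 r208 : G14) : Matrix I14 I14 (ZMod 3)) = TM (T14 (3, 19)) := by
  show ((φ14 (r168 * x) : G14) : Matrix I14 I14 (ZMod 3)) = _
  rw [map_mul, Units.val_mul, t14_168, φ14_x]
  exact edge14_x (2, 42)
theorem t14_209 : ((φ14 r209 : G14) : Matrix I14 I14 (ZMod 3)) = TM (T14 (3, 20)) := by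
  show ((φ14 (r170 * x) : G14) : Matrix I14 I14 (ZMod 3)) = _
  rw [map_mul, Units.val_mul, t14_170, φ14_x]
  exact edge14_x (2, 44)
theorem t14_210 : ((φ14 r210 : G14) : Matrix I14 I14 (ZMod 3)) = TM (T14 (3, 21)) := by
  show ((φ14 (r171 * x) : G14) : Matrix I14 I14 (ZMod 3)) = _
  rw [map_mul, Units.val_mul, t14_171, φ14_x]
  exact edge14_x (2, 45)
theorem t14_211 : ((φ14 r211 : G14) : Matrix I14 I14 (ZMod 3)) = TM (T14 (3, 22)) := by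
  show ((φ14 (r171 * y) : G14) : Matrix I14 I14 (ZMod 3)) = _
  rw [map_mul, Units.val_mul, t14_171, φ14_y]
  exact edge14_y (2, 45)
theorem t14_212 : ((φ14 r212 : G14) : Matrix I14 I14 (ZMod 3)) = TM (T14 (3, 23)) := by
  show ((φ14 (r172 * y) : G14) : Matrix I14 I14 (ZMod 3)) = _
  rw [map_mul, Units.val_mul, t14_172, φ14_y]
  exact edge14_y (2, 46)
theorem t14_213 : ((φ14 r213 : G14) : Matrix I14 I14 (ZMod 3)) = TM (T14 (3, 24)) := by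
  show ((φ14 (r173 * x) : G14) : Matrix I14 I14 (ZMod 3)) = _
  rw [map_mul, Units.val_mul, t14_173, φ14_x]
  exact edge14_x (2, 47)
theorem t14_214 : ((φ14 r214 : G14) : Matrix I14 I14 (ZMod 3)) = TM (T14 (3, 25)) := by
  show ((φ14 (r174 * x) : G14) : Matrix I14 I14 (ZMod 3)) = _
  rw [map_mul, Units.val_mul, t14_174, φ14_x]
  exact edge14_x (2, 48)
theorem t14_215 : ((φ14 r215 : G14) : Matrix I14 I14 (ZMod 3)) = TM (T14 (3, 26)) := by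
  show ((φ14 (r176 * x) : G14) : Matrix I14 I14 (ZMod 3)) = _
  rw [map_mul, Units.val_mul, t14_176, φ14_x]
  exact edge14_x (2, 50)
theorem t14_216 : ((φ14 r216 : G14) : Matrix I14 I14 (ZMod 3)) = TM (T14 (3, 27)) := by
  show ((φ14 (r177 * x) : G14) : Matrix I14 I14 (ZMod 3)) = _
  rw [map_mul, Units.val_mul, t14_177, φ14_x]
  exact edge14_x (2, 51)
theorem t14_217 : ((φ14 r217 : G14) : Matrix I14 I14 (ZMod 3)) = TM (T14 (3, 28)) := by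
  show ((φ14 (r177 * y) : G14) : Matrix I14 I14 (ZMod 3)) = _
  rw [map_mul, Units.val_mul, t14_177, φ14_y]
  exact edge14_y (2, 51)
theorem t14_218 : ((φ14 r218 : G14) : Matrix I14 I14 (ZMod 3)) = TM (T14 (3, 29)) := by
  show ((φ14 (r178 * x) : G14) : Matrix I14 I14 (ZMod 3)) = _
  rw [map_mul, Units.val_mul, t14_178, φ14_x]
  exact edge14_x (2, 52)
theorem t14_219 : ((φ14 r219 : G14) : Matrix I14 I14 (ZMod 3)) = TM (T14 (3, 30)) := by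
  show ((φ14 (r178 * y) : G14) : Matrix I14 I14 (ZMod 3)) = _
  rw [map_mul, Units.val_mul, t14_178, φ14_y]
  exact edge14_y (2, 52)
theorem t14_220 : ((φ14 r220 : G14) : Matrix I14 I14 (ZMod 3)) = TM (T14 (3, 31)) := by
  show ((φ14 (r179 * x) : G14) : Matrix I14 I14 (ZMod 3)) = _
  rw [map_mul, Units.val_mul, t14_179, φ14_x]
  exact edge14_x (2, 53)
theorem t14_221 : ((φ14 r221 : G14) : Matrix I14 I14 (ZMod 3)) = TM (T14 (3, 32)) := by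
  show ((φ14 (r179 * y) : G14) : Matrix I14 I14 (ZMod 3)) = _
  rw [map_mul, Units.val_mul, t14_179, φ14_y]
  exact edge14_y (2, 53)
theorem t14_222 : ((φ14 r222 : G14) : Matrix I14 I14 (ZMod 3)) = TM (T14 (3, 33)) := by
  show ((φ14 (r180 * x) : G14) : Matrix I14 I14 (ZMod 3)) = _
  rw [map_mul, Units.val_mul, t14_180, φ14_x]
  exact edge14_x (2, 54)
theorem t14_223 : ((φ14 r223 : G14) : Matrix I14 I14 (ZMod 3)) = TM (T14 (3, 34)) := by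
  show ((φ14 (r180 * y) : G14) : Matrix I14 I14 (ZMod 3)) = _
  rw [map_mul, Units.val_mul, t14_180, φ14_y]
  exact edge14_y (2, 54)
theorem t14_224 : ((φ14 r224 : G14) : Matrix I14 I14 (ZMod 3)) = TM (T14 (3, 35)) := by
  show ((φ14 (r181 * y) : G14) : Matrix I14 I14 (ZMod 3)) = _
  rw [map_mul, Units.val_mul, t14_181, φ14_y]
  exact edge14_y (2, 55)
theorem t14_225 : ((φ14 r225 : G14) : Matrix I14 I14 (ZMod 3)) = TM (T14 (3, 36)) := by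
  show ((φ14 (r182 * x) : G14) : Matrix I14 I14 (ZMod 3)) = _
  rw [map_mul, Units.val_mul, t14_182, φ14_x]
  exact edge14_x (2, 56)
theorem t14_226 : ((φ14 r226 : G14) : Matrix I14 I14 (ZMod 3)) = TM (T14 (3, 37)) := by
  show ((φ14 (r182 * y) : G14) : Matrix I14 I14 (ZMod 3)) = _
  rw [map_mul, Units.val_mul, t14_182, φ14_y]
  exact edge14_y (2, 56)
theorem t14_227 : ((φ14 r227 : G14) : Matrix I14 I14 (ZMod 3)) = TM (T14 (3, 38)) := by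
  show ((φ14 (r183 * y) : G14) : Matrix I14 I14 (ZMod 3)) = _
  rw [map_mul, Units.val_mul, t14_183, φ14_y]
  exact edge14_y (2, 57)
theorem t14_228 : ((φ14 r228 : G14) : Matrix I14 I14 (ZMod 3)) = TM (T14 (3, 39)) := by
  show ((φ14 (r184 * x) : G14) : Matrix I14 I14 (ZMod 3)) = _
  rw [map_mul, Units.val_mul, t14_184, φ14_x]
  exact edge14_x (2, 58)
theorem t14_229 : ((φ14 r229 : G14) : Matrix I14 I14 (ZMod 3)) = TM (T14 (3, 40)) := by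
  show ((φ14 (r184 * y) : G14) : Matrix I14 I14 (ZMod 3)) = _
  rw [map_mul, Units.val_mul, t14_184, φ14_y]
  exact edge14_y (2, 58)
theorem t14_230 : ((φ14 r230 : G14) : Matrix I14 I14 (ZMod 3)) = TM (T14 (3, 41)) := by
  show ((φ14 (r185 * y) : G14) : Matrix I14 I14 (ZMod 3)) = _
  rw [map_mul, Units.val_mul, t14_185, φ14_y]
  exact edge14_y (2, 59)
theorem t14_231 : ((φ14 r231 : G14) : Matrix I14 I14 (ZMod 3)) = TM (T14 (3, 42)) := by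
  show ((φ14 (r186 * x) : G14) : Matrix I14 I14 (ZMod 3)) = _
  rw [map_mul, Units.val_mul, t14_186, φ14_x]
  exact edge14_x (2, 60)
theorem t14_232 : ((φ14 r232 : G14) : Matrix I14 I14 (ZMod 3)) = TM (T14 (3, 43)) := by
  show ((φ14 (r186 * y) : G14) : Matrix I14 I14 (ZMod 3)) = _
  rw [map_mul, Units.val_mul, t14_186, φ14_y]
  exact edge14_y (2, 60)
theorem t14_233 : ((φ14 r233 : G14) : Matrix I14 I14 (ZMod 3)) = TM (T14 (3, 44)) := by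
  show ((φ14 (r187 * y) : G14) : Matrix I14 I14 (ZMod 3)) = _
  rw [map_mul, Units.val_mul, t14_187, φ14_y]
  exact edge14_y (2, 61)
theorem t14_234 : ((φ14 r234 : G14) : Matrix I14 I14 (ZMod 3)) = TM (T14 (3, 45)) := by
  show ((φ14 (r188 * y) : G14) : Matrix I14 I14 (ZMod 3)) = _
  rw [map_mul, Units.val_mul, t14_188, φ14_y]
  exact edge14_y (2, 62)
theorem t14_235 : ((φ14 r235 : G14) : Matrix I14 I14 (ZMod 3)) = TM (T14 (3, 46)) := by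
  show ((φ14 (r189 * y) : G14) : Matrix I14 I14 (ZMod 3)) = _
  rw [map_mul, Units.val_mul, t14_189, φ14_y]
  exact edge14_y (3, 0)
theorem t14_236 : ((φ14 r236 : G14) : Matrix I14 I14 (ZMod 3)) = TM (T14 (3, 47)) := by
  show ((φ14 (r190 * y) : G14) : Matrix I14 I14 (ZMod 3)) = _
  rw [map_mul, Units.val_mul, t14_190, φ14_y]
  exact edge14_y (3, 1)
theorem t14_237 : ((φ14 r237 : G14) : Matrix I14 I14 (ZMod 3)) = TM (T14 (3, 48)) := by
  show ((φ14 (r191 * x) : G14) : Matrix I14 I14 (ZMod 3)) = _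
  rw [map_mul, Units.val_mul, t14_191, φ14_x]
  exact edge14_x (3, 2)
theorem t14_238 : ((φ14 r238 : G14) : Matrix I14 I14 (ZMod 3)) = TM (T14 (3, 49)) := by
  show ((φ14 (r193 * x) : G14) : Matrix I14 I14 (ZMod 3)) = _
  rw [map_mul, Units.val_mul, t14_193, φ14_x]
  exact edge14_x (3, 4)
theorem t14_239 : ((φ14 r239 : G14) : Matrix I14 I14 (ZMod 3)) = TM (T14 (3, 50)) := by
  show ((φ14 (r194 * x) : G14) : Matrix I14 I14 (ZMod 3)) = _
  rw [map_mul, Units.val_mul, t14_194, φ14_x]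
  exact edge14_x (3, 5)
theorem t14_240 : ((φ14 r240 : G14) : Matrix I14 I14 (ZMod 3)) = TM (T14 (3, 51)) := by
  show ((φ14 (r196 * x) : G14) : Matrix I14 I14 (ZMod 3)) = _
  rw [map_mul, Units.val_mul, t14_196, φ14_x]
  exact edge14_x (3, 7)
theorem t14_241 : ((φ14 r241 : G14) : Matrix I14 I14 (ZMod 3)) = TM (T14 (3, 52)) := by
  show ((φ14 (r197 * x) : G14) : Matrix I14 I14 (ZMod 3)) = _
  rw [map_mul, Units.val_mul, t14_197, φ14_x]
  exact edge14_x (3, 8)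
theorem t14_242 : ((φ14 r242 : G14) : Matrix I14 I14 (ZMod 3)) = TM (T14 (3, 53)) := by
  show ((φ14 (r197 * y) : G14) : Matrix I14 I14 (ZMod 3)) = _
  rw [map_mul, Units.val_mul, t14_197, φ14_y]
  exact edge14_y (3, 8)
theorem t14_243 : ((φ14 r243 : G14) : Matrix I14 I14 (ZMod 3)) = TM (T14 (3, 54)) := by
  show ((φ14 (r198 * x) : G14) : Matrix I14 I14 (ZMod 3)) = _
  rw [map_mul, Units.val_mul, t14_198, φ14_x]
  exact edge14_x (3, 9)
theorem t14_244 : ((φ14 r244 : G14) : Matrix I14 I14 (ZMod 3)) = TM (T14 (3, 55)) := by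
  show ((φ14 (r198 * y) : G14) : Matrix I14 I14 (ZMod 3)) = _
  rw [map_mul, Units.val_mul, t14_198, φ14_y]
  exact edge14_y (3, 9)
theorem t14_245 : ((φ14 r245 : G14) : Matrix I14 I14 (ZMod 3)) = TM (T14 (3, 56)) := by
  show ((φ14 (r199 * x) : G14) : Matrix I14 I14 (ZMod 3)) = _
  rw [map_mul, Units.val_mul, t14_199, φ14_x]
  exact edge14_x (3, 10)
theorem t14_246 : ((φ14 r246 : G14) : Matrix I14 I14 (ZMod 3)) = TM (T14 (3, 57)) := by
  show ((φ14 (r199 * y) : G14) : Matrix I14 I14 (ZMod 3)) = _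
  rw [map_mul, Units.val_mul, t14_199, φ14_y]
  exact edge14_y (3, 10)
theorem t14_247 : ((φ14 r247 : G14) : Matrix I14 I14 (ZMod 3)) = TM (T14 (3, 58)) := by
  show ((φ14 (r200 * x) : G14) : Matrix I14 I14 (ZMod 3)) = _
  rw [map_mul, Units.val_mul, t14_200, φ14_x]
  exact edge14_x (3, 11)
theorem t14_248 : ((φ14 r248 : G14) : Matrix I14 I14 (ZMod 3)) = TM (T14 (3, 59)) := by
  show ((φ14 (r200 * y) : G14) : Matrix I14 I14 (ZMod 3)) = _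
  rw [map_mul, Units.val_mul, t14_200, φ14_y]
  exact edge14_y (3, 11)
theorem t14_249 : ((φ14 r249 : G14) : Matrix I14 I14 (ZMod 3)) = TM (T14 (3, 60)) := by
  show ((φ14 (r201 * y) : G14) : Matrix I14 I14 (ZMod 3)) = _
  rw [map_mul, Units.val_mul, t14_201, φ14_y]
  exact edge14_y (3, 12)
theorem t14_250 : ((φ14 r250 : G14) : Matrix I14 I14 (ZMod 3)) = TM (T14 (3, 61)) := by
  show ((φ14 (r202 * x) : G14) : Matrix I14 I14 (ZMod 3)) = _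
  rw [map_mul, Units.val_mul, t14_202, φ14_x]
  exact edge14_x (3, 13)
theorem t14_251 : ((φ14 r251 : G14) : Matrix I14 I14 (ZMod 3)) = TM (T14 (3, 62)) := by
  show ((φ14 (r202 * y) : G14) : Matrix I14 I14 (ZMod 3)) = _
  rw [map_mul, Units.val_mul, t14_202, φ14_y]
  exact edge14_y (3, 13)
theorem t14_252 : ((φ14 r252 : G14) : Matrix I14 I14 (ZMod 3)) = TM (T14 (4, 0)) := by
  show ((φ14 (r203 * y) : G14) : Matrix I14 I14 (ZMod 3)) = _
  rw [map_mul, Units.val_mul, t14_203, φ14_y]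
  exact edge14_y (3, 14)
theorem t14_253 : ((φ14 r253 : G14) : Matrix I14 I14 (ZMod 3)) = TM (T14 (4, 1)) := by
  show ((φ14 (r204 * x) : G14) : Matrix I14 I14 (ZMod 3)) = _
  rw [map_mul, Units.val_mul, t14_204, φ14_x]
  exact edge14_x (3, 15)
theorem t14_254 : ((φ14 r254 : G14) : Matrix I14 I14 (ZMod 3)) = TM (T14 (4, 2)) := by
  show ((φ14 (r204 * y) : G14) : Matrix I14 I14 (ZMod 3)) = _
  rw [map_mul, Units.val_mul, t14_204, φ14_y]
  exact edge14_y (3, 15)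
theorem t14_255 : ((φ14 r255 : G14) : Matrix I14 I14 (ZMod 3)) = TM (T14 (4, 3)) := by
  show ((φ14 (r205 * y) : G14) : Matrix I14 I14 (ZMod 3)) = _
  rw [map_mul, Units.val_mul, t14_205, φ14_y]
  exact edge14_y (3, 16)
theorem t14_256 : ((φ14 r256 : G14) : Matrix I14 I14 (ZMod 3)) = TM (T14 (4, 4)) := by
  show ((φ14 (r206 * x) : G14) : Matrix I14 I14 (ZMod 3)) = _
  rw [map_mul, Units.val_mul, t14_206, φ14_x]
  exact edge14_x (3, 17)
theorem t14_257 : ((φ14 r257 : G14) : Matrix I14 I14 (ZMod 3)) = TM (T14 (4, 5)) := by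
  show ((φ14 (r206 * y) : G14) : Matrix I14 I14 (ZMod 3)) = _
  rw [map_mul, Units.val_mul, t14_206, φ14_y]
  exact edge14_y (3, 17)
theorem t14_258 : ((φ14 r258 : G14) : Matrix I14 I14 (ZMod 3)) = TM (T14 (4, 6)) := by
  show ((φ14 (r207 * y) : G14) : Matrix I14 I14 (ZMod 3)) = _
  rw [map_mul, Units.val_mul, t14_207, φ14_y]
  exact edge14_y (3, 18)
theorem t14_259 : ((φ14 r259 : G14) : Matrix I14 I14 (ZMod 3)) = TM (T14 (4, 7)) := by
  show ((φ14 (r208 * y) : G14) : Matrix I14 I14 (ZMod 3)) = _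
  rw [map_mul, Units.val_mul, t14_208, φ14_y]
  exact edge14_y (3, 19)
theorem t14_260 : ((φ14 r260 : G14) : Matrix I14 I14 (ZMod 3)) = TM (T14 (4, 8)) := by
  show ((φ14 (r209 * y) : G14) : Matrix I14 I14 (ZMod 3)) = _
  rw [map_mul, Units.val_mul, t14_209, φ14_y]
  exact edge14_y (3, 20)
theorem t14_261 : ((φ14 r261 : G14) : Matrix I14 I14 (ZMod 3)) = TM (T14 (4, 9)) := by
  show ((φ14 (r210 * y) : G14) : Matrix I14 I14 (ZMod 3)) = _
  rw [map_mul, Units.val_mul, t14_210, φ14_y]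
  exact edge14_y (3, 21)
theorem t14_262 : ((φ14 r262 : G14) : Matrix I14 I14 (ZMod 3)) = TM (T14 (4, 10)) := by
  show ((φ14 (r212 * y) : G14) : Matrix I14 I14 (ZMod 3)) = _
  rw [map_mul, Units.val_mul, t14_212, φ14_y]
  exact edge14_y (3, 23)
theorem t14_263 : ((φ14 r263 : G14) : Matrix I14 I14 (ZMod 3)) = TM (T14 (4, 11)) := by
  show ((φ14 (r213 * y) : G14) : Matrix I14 I14 (ZMod 3)) = _
  rw [map_mul, Units.val_mul, t14_213, φ14_y]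
  exact edge14_y (3, 24)
theorem t14_264 : ((φ14 r264 : G14) : Matrix I14 I14 (ZMod 3)) = TM (T14 (4, 12)) := by
  show ((φ14 (r214 * y) : G14) : Matrix I14 I14 (ZMod 3)) = _
  rw [map_mul, Units.val_mul, t14_214, φ14_y]
  exact edge14_y (3, 25)
theorem t14_265 : ((φ14 r265 : G14) : Matrix I14 I14 (ZMod 3)) = TM (T14 (4, 13)) := by
  show ((φ14 (r215 * y) : G14) : Matrix I14 I14 (ZMod 3)) = _
  rw [map_mul, Units.val_mul, t14_215, φ14_y]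
  exact edge14_y (3, 26)
theorem t14_266 : ((φ14 r266 : G14) : Matrix I14 I14 (ZMod 3)) = TM (T14 (4, 14)) := by
  show ((φ14 (r216 * y) : G14) : Matrix I14 I14 (ZMod 3)) = _
  rw [map_mul, Units.val_mul, t14_216, φ14_y]
  exact edge14_y (3, 27)
theorem t14_267 : ((φ14 r267 : G14) : Matrix I14 I14 (ZMod 3)) = TM (T14 (4, 15)) := by
  show ((φ14 (r217 * x) : G14) : Matrix I14 I14 (ZMod 3)) = _
  rw [map_mul, Units.val_mul, t14_217, φ14_x]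
  exact edge14_x (3, 28)
theorem t14_268 : ((φ14 r268 : G14) : Matrix I14 I14 (ZMod 3)) = TM (T14 (4, 16)) := by
  show ((φ14 (r218 * y) : G14) : Matrix I14 I14 (ZMod 3)) = _
  rw [map_mul, Units.val_mul, t14_218, φ14_y]
  exact edge14_y (3, 29)
theorem t14_269 : ((φ14 r269 : G14) : Matrix I14 I14 (ZMod 3)) = TM (T14 (4, 17)) := by
  show ((φ14 (r219 * x) : G14) : Matrix I14 I14 (ZMod 3)) = _
  rw [map_mul, Units.val_mul, t14_219, φ14_x]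
  exact edge14_x (3, 30)
theorem t14_270 : ((φ14 r270 : G14) : Matrix I14 I14 (ZMod 3)) = TM (T14 (4, 18)) := by
  show ((φ14 (r220 * y) : G14) : Matrix I14 I14 (ZMod 3)) = _
  rw [map_mul, Units.val_mul, t14_220, φ14_y]
  exact edge14_y (3, 31)
theorem t14_271 : ((φ14 r271 : G14) : Matrix I14 I14 (ZMod 3)) = TM (T14 (4, 19)) := by
  show ((φ14 (r221 * x) : G14) : Matrix I14 I14 (ZMod 3)) = _
  rw [map_mul, Units.val_mul, t14_221, φ14_x]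
  exact edge14_x (3, 32)
theorem t14_272 : ((φ14 r272 : G14) : Matrix I14 I14 (ZMod 3)) = TM (T14 (4, 20)) := by
  show ((φ14 (r222 * y) : G14) : Matrix I14 I14 (ZMod 3)) = _
  rw [map_mul, Units.val_mul, t14_222, φ14_y]
  exact edge14_y (3, 33)
theorem t14_273 : ((φ14 r273 : G14) : Matrix I14 I14 (ZMod 3)) = TM (T14 (4, 21)) := by
  show ((φ14 (r223 * x) : G14) : Matrix I14 I14 (ZMod 3)) = _
  rw [map_mul, Units.val_mul, t14_223, φ14_x]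
  exact edge14_x (3, 34)
theorem t14_274 : ((φ14 r274 : G14) : Matrix I14 I14 (ZMod 3)) = TM (T14 (4, 22)) := by
  show ((φ14 (r224 * x) : G14) : Matrix I14 I14 (ZMod 3)) = _
  rw [map_mul, Units.val_mul, t14_224, φ14_x]
  exact edge14_x (3, 35)
theorem t14_275 : ((φ14 r275 : G14) : Matrix I14 I14 (ZMod 3)) = TM (T14 (4, 23)) := by
  show ((φ14 (r226 * x) : G14) : Matrix I14 I14 (ZMod 3)) = _
  rw [map_mul, Units.val_mul, t14_226, φ14_x]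
  exact edge14_x (3, 37)
theorem t14_276 : ((φ14 r276 : G14) : Matrix I14 I14 (ZMod 3)) = TM (T14 (4, 24)) := by
  show ((φ14 (r227 * x) : G14) : Matrix I14 I14 (ZMod 3)) = _
  rw [map_mul, Units.val_mul, t14_227, φ14_x]
  exact edge14_x (3, 38)
theorem t14_277 : ((φ14 r277 : G14) : Matrix I14 I14 (ZMod 3)) = TM (T14 (4, 25)) := by
  show ((φ14 (r227 * y) : G14) : Matrix I14 I14 (ZMod 3)) = _
  rw [map_mul, Units.val_mul, t14_227, φ14_y]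
  exact edge14_y (3, 38)
theorem t14_278 : ((φ14 r278 : G14) : Matrix I14 I14 (ZMod 3)) = TM (T14 (4, 26)) := by
  show ((φ14 (r228 * y) : G14) : Matrix I14 I14 (ZMod 3)) = _
  rw [map_mul, Units.val_mul, t14_228, φ14_y]
  exact edge14_y (3, 39)
theorem t14_279 : ((φ14 r279 : G14) : Matrix I14 I14 (ZMod 3)) = TM (T14 (4, 27)) := by
  show ((φ14 (r229 * x) : G14) : Matrix I14 I14 (ZMod 3)) = _
  rw [map_mul, Units.val_mul, t14_229, φ14_x]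
  exact edge14_x (3, 40)
theorem t14_280 : ((φ14 r280 : G14) : Matrix I14 I14 (ZMod 3)) = TM (T14 (4, 28)) := by
  show ((φ14 (r230 * x) : G14) : Matrix I14 I14 (ZMod 3)) = _
  rw [map_mul, Units.val_mul, t14_230, φ14_x]
  exact edge14_x (3, 41)
theorem t14_281 : ((φ14 r281 : G14) : Matrix I14 I14 (ZMod 3)) = TM (T14 (4, 29)) := by
  show ((φ14 (r232 * x) : G14) : Matrix I14 I14 (ZMod 3)) = _
  rw [map_mul, Units.val_mul, t14_232, φ14_x]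
  exact edge14_x (3, 43)
theorem t14_282 : ((φ14 r282 : G14) : Matrix I14 I14 (ZMod 3)) = TM (T14 (4, 30)) := by
  show ((φ14 (r233 * x) : G14) : Matrix I14 I14 (ZMod 3)) = _
  rw [map_mul, Units.val_mul, t14_233, φ14_x]
  exact edge14_x (3, 44)
theorem t14_283 : ((φ14 r283 : G14) : Matrix I14 I14 (ZMod 3)) = TM (T14 (4, 31)) := by
  show ((φ14 (r233 * y) : G14) : Matrix I14 I14 (ZMod 3)) = _
  rw [map_mul, Units.val_mul, t14_233, φ14_y]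
  exact edge14_y (3, 44)
theorem t14_284 : ((φ14 r284 : G14) : Matrix I14 I14 (ZMod 3)) = TM (T14 (4, 32)) := by
  show ((φ14 (r234 * x) : G14) : Matrix I14 I14 (ZMod 3)) = _
  rw [map_mul, Units.val_mul, t14_234, φ14_x]
  exact edge14_x (3, 45)
theorem t14_285 : ((φ14 r285 : G14) : Matrix I14 I14 (ZMod 3)) = TM (T14 (4, 33)) := by
  show ((φ14 (r234 * y) : G14) : Matrix I14 I14 (ZMod 3)) = _
  rw [map_mul, Units.val_mul, t14_234, φ14_y]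
  exact edge14_y (3, 45)
theorem t14_286 : ((φ14 r286 : G14) : Matrix I14 I14 (ZMod 3)) = TM (T14 (4, 34)) := by
  show ((φ14 (r235 * x) : G14) : Matrix I14 I14 (ZMod 3)) = _
  rw [map_mul, Units.val_mul, t14_235, φ14_x]
  exact edge14_x (3, 46)
theorem t14_287 : ((φ14 r287 : G14) : Matrix I14 I14 (ZMod 3)) = TM (T14 (4, 35)) := by
  show ((φ14 (r235 * y) : G14) : Matrix I14 I14 (ZMod 3)) = _
  rw [map_mul, Units.val_mul, t14_235, φ14_y]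
  exact edge14_y (3, 46)
theorem t14_288 : ((φ14 r288 : G14) : Matrix I14 I14 (ZMod 3)) = TM (T14 (4, 36)) := by
  show ((φ14 (r236 * x) : G14) : Matrix I14 I14 (ZMod 3)) = _
  rw [map_mul, Units.val_mul, t14_236, φ14_x]
  exact edge14_x (3, 47)
theorem t14_289 : ((φ14 r289 : G14) : Matrix I14 I14 (ZMod 3)) = TM (T14 (4, 37)) := by
  show ((φ14 (r236 * y) : G14) : Matrix I14 I14 (ZMod 3)) = _
  rw [map_mul, Units.val_mul, t14_236, φ14_y]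
  exact edge14_y (3, 47)
theorem t14_290 : ((φ14 r290 : G14) : Matrix I14 I14 (ZMod 3)) = TM (T14 (4, 38)) := by
  show ((φ14 (r237 * y) : G14) : Matrix I14 I14 (ZMod 3)) = _
  rw [map_mul, Units.val_mul, t14_237, φ14_y]
  exact edge14_y (3, 48)
theorem t14_291 : ((φ14 r291 : G14) : Matrix I14 I14 (ZMod 3)) = TM (T14 (4, 39)) := by
  show ((φ14 (r238 * y) : G14) : Matrix I14 I14 (ZMod 3)) = _
  rw [map_mul, Units.val_mul, t14_238, φ14_y]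
  exact edge14_y (3, 49)
theorem t14_292 : ((φ14 r292 : G14) : Matrix I14 I14 (ZMod 3)) = TM (T14 (4, 40)) := by
  show ((φ14 (r239 * y) : G14) : Matrix I14 I14 (ZMod 3)) = _
  rw [map_mul, Units.val_mul, t14_239, φ14_y]
  exact edge14_y (3, 50)
theorem t14_293 : ((φ14 r293 : G14) : Matrix I14 I14 (ZMod 3)) = TM (T14 (4, 41)) := by
  show ((φ14 (r240 * y) : G14) : Matrix I14 I14 (ZMod 3)) = _
  rw [map_mul, Units.val_mul, t14_240, φ14_y]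
  exact edge14_y (3, 51)
theorem t14_294 : ((φ14 r294 : G14) : Matrix I14 I14 (ZMod 3)) = TM (T14 (4, 42)) := by
  show ((φ14 (r241 * y) : G14) : Matrix I14 I14 (ZMod 3)) = _
  rw [map_mul, Units.val_mul, t14_241, φ14_y]
  exact edge14_y (3, 52)
theorem t14_295 : ((φ14 r295 : G14) : Matrix I14 I14 (ZMod 3)) = TM (T14 (4, 43)) := by
  show ((φ14 (r242 * x) : G14) : Matrix I14 I14 (ZMod 3)) = _
  rw [map_mul, Units.val_mul, t14_242, φ14_x]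
  exact edge14_x (3, 53)
theorem t14_296 : ((φ14 r296 : G14) : Matrix I14 I14 (ZMod 3)) = TM (T14 (4, 44)) := by
  show ((φ14 (r243 * y) : G14) : Matrix I14 I14 (ZMod 3)) = _
  rw [map_mul, Units.val_mul, t14_243, φ14_y]
  exact edge14_y (3, 54)
theorem t14_297 : ((φ14 r297 : G14) : Matrix I14 I14 (ZMod 3)) = TM (T14 (4, 45)) := by
  show ((φ14 (r244 * x) : G14) : Matrix I14 I14 (ZMod 3)) = _
  rw [map_mul, Units.val_mul, t14_244, φ14_x]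
  exact edge14_x (3, 55)
theorem t14_298 : ((φ14 r298 : G14) : Matrix I14 I14 (ZMod 3)) = TM (T14 (4, 46)) := by
  show ((φ14 (r245 * y) : G14) : Matrix I14 I14 (ZMod 3)) = _
  rw [map_mul, Units.val_mul, t14_245, φ14_y]
  exact edge14_y (3, 56)
theorem t14_299 : ((φ14 r299 : G14) : Matrix I14 I14 (ZMod 3)) = TM (T14 (4, 47)) := by
  show ((φ14 (r246 * x) : G14) : Matrix I14 I14 (ZMod 3)) = _
  rw [map_mul, Units.val_mul, t14_246, φ14_x]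
  exact edge14_x (3, 57)
theorem t14_300 : ((φ14 r300 : G14) : Matrix I14 I14 (ZMod 3)) = TM (T14 (4, 48)) := by
  show ((φ14 (r247 * y) : G14) : Matrix I14 I14 (ZMod 3)) = _
  rw [map_mul, Units.val_mul, t14_247, φ14_y]
  exact edge14_y (3, 58)
theorem t14_301 : ((φ14 r301 : G14) : Matrix I14 I14 (ZMod 3)) = TM (T14 (4, 49)) := by
  show ((φ14 (r248 * x) : G14) : Matrix I14 I14 (ZMod 3)) = _
  rw [map_mul, Units.val_mul, t14_248, φ14_x]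
  exact edge14_x (3, 59)
theorem t14_302 : ((φ14 r302 : G14) : Matrix I14 I14 (ZMod 3)) = TM (T14 (4, 50)) := by
  show ((φ14 (r249 * x) : G14) : Matrix I14 I14 (ZMod 3)) = _
  rw [map_mul, Units.val_mul, t14_249, φ14_x]
  exact edge14_x (3, 60)
theorem t14_303 : ((φ14 r303 : G14) : Matrix I14 I14 (ZMod 3)) = TM (T14 (4, 51)) := by
  show ((φ14 (r251 * x) : G14) : Matrix I14 I14 (ZMod 3)) = _
  rw [map_mul, Units.val_mul, t14_251, φ14_x]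
  exact edge14_x (3, 62)
theorem t14_304 : ((φ14 r304 : G14) : Matrix I14 I14 (ZMod 3)) = TM (T14 (4, 52)) := by
  show ((φ14 (r252 * x) : G14) : Matrix I14 I14 (ZMod 3)) = _
  rw [map_mul, Units.val_mul, t14_252, φ14_x]
  exact edge14_x (4, 0)
theorem t14_305 : ((φ14 r305 : G14) : Matrix I14 I14 (ZMod 3)) = TM (T14 (4, 53)) := by
  show ((φ14 (r252 * y) : G14) : Matrix I14 I14 (ZMod 3)) = _
  rw [map_mul, Units.val_mul, t14_252, φ14_y]
  exact edge14_y (4, 0)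
theorem t14_306 : ((φ14 r306 : G14) : Matrix I14 I14 (ZMod 3)) = TM (T14 (4, 54)) := by
  show ((φ14 (r253 * y) : G14) : Matrix I14 I14 (ZMod 3)) = _
  rw [map_mul, Units.val_mul, t14_253, φ14_y]
  exact edge14_y (4, 1)
theorem t14_307 : ((φ14 r307 : G14) : Matrix I14 I14 (ZMod 3)) = TM (T14 (4, 55)) := by
  show ((φ14 (r254 * x) : G14) : Matrix I14 I14 (ZMod 3)) = _
  rw [map_mul, Units.val_mul, t14_254, φ14_x]
  exact edge14_x (4, 2)
theorem t14_308 : ((φ14 r308 : G14) : Matrix I14 I14 (ZMod 3)) = TM (T14 (4, 56)) := by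
  show ((φ14 (r255 * x) : G14) : Matrix I14 I14 (ZMod 3)) = _
  rw [map_mul, Units.val_mul, t14_255, φ14_x]
  exact edge14_x (4, 3)
theorem t14_309 : ((φ14 r309 : G14) : Matrix I14 I14 (ZMod 3)) = TM (T14 (4, 57)) := by
  show ((φ14 (r257 * x) : G14) : Matrix I14 I14 (ZMod 3)) = _
  rw [map_mul, Units.val_mul, t14_257, φ14_x]
  exact edge14_x (4, 5)
theorem t14_310 : ((φ14 r310 : G14) : Matrix I14 I14 (ZMod 3)) = TM (T14 (4, 58)) := by
  show ((φ14 (r258 * x) : G14) : Matrix I14 I14 (ZMod 3)) = _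
  rw [map_mul, Units.val_mul, t14_258, φ14_x]
  exact edge14_x (4, 6)
theorem t14_311 : ((φ14 r311 : G14) : Matrix I14 I14 (ZMod 3)) = TM (T14 (4, 59)) := by
  show ((φ14 (r258 * y) : G14) : Matrix I14 I14 (ZMod 3)) = _
  rw [map_mul, Units.val_mul, t14_258, φ14_y]
  exact edge14_y (4, 6)
theorem t14_312 : ((φ14 r312 : G14) : Matrix I14 I14 (ZMod 3)) = TM (T14 (4, 60)) := by
  show ((φ14 (r259 * x) : G14) : Matrix I14 I14 (ZMod 3)) = _
  rw [map_mul, Units.val_mul, t14_259, φ14_x]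
  exact edge14_x (4, 7)
theorem t14_313 : ((φ14 r313 : G14) : Matrix I14 I14 (ZMod 3)) = TM (T14 (4, 61)) := by
  show ((φ14 (r259 * y) : G14) : Matrix I14 I14 (ZMod 3)) = _
  rw [map_mul, Units.val_mul, t14_259, φ14_y]
  exact edge14_y (4, 7)
theorem t14_314 : ((φ14 r314 : G14) : Matrix I14 I14 (ZMod 3)) = TM (T14 (4, 62)) := by
  show ((φ14 (r260 * x) : G14) : Matrix I14 I14 (ZMod 3)) = _
  rw [map_mul, Units.val_mul, t14_260, φ14_x]
  exact edge14_x (4, 8)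
theorem t14_315 : ((φ14 r315 : G14) : Matrix I14 I14 (ZMod 3)) = TM (T14 (5, 0)) := by
  show ((φ14 (r260 * y) : G14) : Matrix I14 I14 (ZMod 3)) = _
  rw [map_mul, Units.val_mul, t14_260, φ14_y]
  exact edge14_y (4, 8)
theorem t14_316 : ((φ14 r316 : G14) : Matrix I14 I14 (ZMod 3)) = TM (T14 (5, 1)) := by
  show ((φ14 (r261 * x) : G14) : Matrix I14 I14 (ZMod 3)) = _
  rw [map_mul, Units.val_mul, t14_261, φ14_x]
  exact edge14_x (4, 9)
theorem t14_317 : ((φ14 r317 : G14) : Matrix I14 I14 (ZMod 3)) = TM (T14 (5, 2)) := by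
  show ((φ14 (r261 * y) : G14) : Matrix I14 I14 (ZMod 3)) = _
  rw [map_mul, Units.val_mul, t14_261, φ14_y]
  exact edge14_y (4, 9)
theorem t14_318 : ((φ14 r318 : G14) : Matrix I14 I14 (ZMod 3)) = TM (T14 (5, 3)) := by
  show ((φ14 (r262 * x) : G14) : Matrix I14 I14 (ZMod 3)) = _
  rw [map_mul, Units.val_mul, t14_262, φ14_x]
  exact edge14_x (4, 10)
theorem t14_319 : ((φ14 r319 : G14) : Matrix I14 I14 (ZMod 3)) = TM (T14 (5, 4)) := by
  show ((φ14 (r263 * x) : G14) : Matrix I14 I14 (ZMod 3)) = _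
  rw [map_mul, Units.val_mul, t14_263, φ14_x]
  exact edge14_x (4, 11)
theorem t14_320 : ((φ14 r320 : G14) : Matrix I14 I14 (ZMod 3)) = TM (T14 (5, 5)) := by
  show ((φ14 (r263 * y) : G14) : Matrix I14 I14 (ZMod 3)) = _
  rw [map_mul, Units.val_mul, t14_263, φ14_y]
  exact edge14_y (4, 11)
theorem t14_321 : ((φ14 r321 : G14) : Matrix I14 I14 (ZMod 3)) = TM (T14 (5, 6)) := by
  show ((φ14 (r264 * x) : G14) : Matrix I14 I14 (ZMod 3)) = _
  rw [map_mul, Units.val_mul, t14_264, φ14_x]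
  exact edge14_x (4, 12)
theorem t14_322 : ((φ14 r322 : G14) : Matrix I14 I14 (ZMod 3)) = TM (T14 (5, 7)) := by
  show ((φ14 (r264 * y) : G14) : Matrix I14 I14 (ZMod 3)) = _
  rw [map_mul, Units.val_mul, t14_264, φ14_y]
  exact edge14_y (4, 12)
theorem t14_323 : ((φ14 r323 : G14) : Matrix I14 I14 (ZMod 3)) = TM (T14 (5, 8)) := by
  show ((φ14 (r265 * y) : G14) : Matrix I14 I14 (ZMod 3)) = _
  rw [map_mul, Units.val_mul, t14_265, φ14_y]
  exact edge14_y (4, 13)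
theorem t14_324 : ((φ14 r324 : G14) : Matrix I14 I14 (ZMod 3)) = TM (T14 (5, 9)) := by
  show ((φ14 (r266 * x) : G14) : Matrix I14 I14 (ZMod 3)) = _
  rw [map_mul, Units.val_mul, t14_266, φ14_x]
  exact edge14_x (4, 14)
theorem t14_325 : ((φ14 r325 : G14) : Matrix I14 I14 (ZMod 3)) = TM (T14 (5, 10)) := by
  show ((φ14 (r266 * y) : G14) : Matrix I14 I14 (ZMod 3)) = _
  rw [map_mul, Units.val_mul, t14_266, φ14_y]
  exact edge14_y (4, 14)
theorem t14_326 : ((φ14 r326 : G14) : Matrix I14 I14 (ZMod 3)) = TM (T14 (5, 11)) := by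
  show ((φ14 (r267 * y) : G14) : Matrix I14 I14 (ZMod 3)) = _
  rw [map_mul, Units.val_mul, t14_267, φ14_y]
  exact edge14_y (4, 15)
theorem t14_327 : ((φ14 r327 : G14) : Matrix I14 I14 (ZMod 3)) = TM (T14 (5, 12)) := by
  show ((φ14 (r268 * x) : G14) : Matrix I14 I14 (ZMod 3)) = _
  rw [map_mul, Units.val_mul, t14_268, φ14_x]
  exact edge14_x (4, 16)
theorem t14_328 : ((φ14 r328 : G14) : Matrix I14 I14 (ZMod 3)) = TM (T14 (5, 13)) := by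
  show ((φ14 (r268 * y) : G14) : Matrix I14 I14 (ZMod 3)) = _
  rw [map_mul, Units.val_mul, t14_268, φ14_y]
  exact edge14_y (4, 16)
theorem t14_329 : ((φ14 r329 : G14) : Matrix I14 I14 (ZMod 3)) = TM (T14 (5, 14)) := by
  show ((φ14 (r269 * y) : G14) : Matrix I14 I14 (ZMod 3)) = _
  rw [map_mul, Units.val_mul, t14_269, φ14_y]
  exact edge14_y (4, 17)
theorem t14_330 : ((φ14 r330 : G14) : Matrix I14 I14 (ZMod 3)) = TM (T14 (5, 15)) := by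
  show ((φ14 (r270 * y) : G14) : Matrix I14 I14 (ZMod 3)) = _
  rw [map_mul, Units.val_mul, t14_270, φ14_y]
  exact edge14_y (4, 18)
theorem t14_331 : ((φ14 r331 : G14) : Matrix I14 I14 (ZMod 3)) = TM (T14 (5, 16)) := by
  show ((φ14 (r271 * y) : G14) : Matrix I14 I14 (ZMod 3)) = _
  rw [map_mul, Units.val_mul, t14_271, φ14_y]
  exact edge14_y (4, 19)
theorem t14_332 : ((φ14 r332 : G14) : Matrix I14 I14 (ZMod 3)) = TM (T14 (5, 17)) := by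
  show ((φ14 (r272 * x) : G14) : Matrix I14 I14 (ZMod 3)) = _
  rw [map_mul, Units.val_mul, t14_272, φ14_x]
  exact edge14_x (4, 20)
theorem t14_333 : ((φ14 r333 : G14) : Matrix I14 I14 (ZMod 3)) = TM (T14 (5, 18)) := by
  show ((φ14 (r272 * y) : G14) : Matrix I14 I14 (ZMod 3)) = _
  rw [map_mul, Units.val_mul, t14_272, φ14_y]
  exact edge14_y (4, 20)
theorem t14_334 : ((φ14 r334 : G14) : Matrix I14 I14 (ZMod 3)) = TM (T14 (5, 19)) := by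
  show ((φ14 (r273 * y) : G14) : Matrix I14 I14 (ZMod 3)) = _
  rw [map_mul, Units.val_mul, t14_273, φ14_y]
  exact edge14_y (4, 21)
theorem t14_335 : ((φ14 r335 : G14) : Matrix I14 I14 (ZMod 3)) = TM (T14 (5, 20)) := by
  show ((φ14 (r274 * y) : G14) : Matrix I14 I14 (ZMod 3)) = _
  rw [map_mul, Units.val_mul, t14_274, φ14_y]
  exact edge14_y (4, 22)
theorem t14_336 : ((φ14 r336 : G14) : Matrix I14 I14 (ZMod 3)) = TM (T14 (5, 21)) := by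
  show ((φ14 (r275 * y) : G14) : Matrix I14 I14 (ZMod 3)) = _
  rw [map_mul, Units.val_mul, t14_275, φ14_y]
  exact edge14_y (4, 23)
theorem t14_337 : ((φ14 r337 : G14) : Matrix I14 I14 (ZMod 3)) = TM (T14 (5, 22)) := by
  show ((φ14 (r276 * y) : G14) : Matrix I14 I14 (ZMod 3)) = _
  rw [map_mul, Units.val_mul, t14_276, φ14_y]
  exact edge14_y (4, 24)
theorem t14_338 : ((φ14 r338 : G14) : Matrix I14 I14 (ZMod 3)) = TM (T14 (5, 23)) := by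
  show ((φ14 (r278 * y) : G14) : Matrix I14 I14 (ZMod 3)) = _
  rw [map_mul, Units.val_mul, t14_278, φ14_y]
  exact edge14_y (4, 26)
theorem t14_339 : ((φ14 r339 : G14) : Matrix I14 I14 (ZMod 3)) = TM (T14 (5, 24)) := by
  show ((φ14 (r279 * y) : G14) : Matrix I14 I14 (ZMod 3)) = _
  rw [map_mul, Units.val_mul, t14_279, φ14_y]
  exact edge14_y (4, 27)
theorem t14_340 : ((φ14 r340 : G14) : Matrix I14 I14 (ZMod 3)) = TM (T14 (5, 25)) := by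
  show ((φ14 (r280 * y) : G14) : Matrix I14 I14 (ZMod 3)) = _
  rw [map_mul, Units.val_mul, t14_280, φ14_y]
  exact edge14_y (4, 28)
theorem t14_341 : ((φ14 r341 : G14) : Matrix I14 I14 (ZMod 3)) = TM (T14 (5, 26)) := by
  show ((φ14 (r281 * y) : G14) : Matrix I14 I14 (ZMod 3)) = _
  rw [map_mul, Units.val_mul, t14_281, φ14_y]
  exact edge14_y (4, 29)
theorem t14_342 : ((φ14 r342 : G14) : Matrix I14 I14 (ZMod 3)) = TM (T14 (5, 27)) := by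
  show ((φ14 (r282 * y) : G14) : Matrix I14 I14 (ZMod 3)) = _
  rw [map_mul, Units.val_mul, t14_282, φ14_y]
  exact edge14_y (4, 30)
theorem t14_343 : ((φ14 r343 : G14) : Matrix I14 I14 (ZMod 3)) = TM (T14 (5, 28)) := by
  show ((φ14 (r283 * x) : G14) : Matrix I14 I14 (ZMod 3)) = _
  rw [map_mul, Units.val_mul, t14_283, φ14_x]
  exact edge14_x (4, 31)
theorem t14_344 : ((φ14 r344 : G14) : Matrix I14 I14 (ZMod 3)) = TM (T14 (5, 29)) := by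
  show ((φ14 (r284 * y) : G14) : Matrix I14 I14 (ZMod 3)) = _
  rw [map_mul, Units.val_mul, t14_284, φ14_y]
  exact edge14_y (4, 32)
theorem t14_345 : ((φ14 r345 : G14) : Matrix I14 I14 (ZMod 3)) = TM (T14 (5, 30)) := by
  show ((φ14 (r285 * x) : G14) : Matrix I14 I14 (ZMod 3)) = _
  rw [map_mul, Units.val_mul, t14_285, φ14_x]
  exact edge14_x (4, 33)
theorem t14_346 : ((φ14 r346 : G14) : Matrix I14 I14 (ZMod 3)) = TM (T14 (5, 31)) := by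
  show ((φ14 (r286 * y) : G14) : Matrix I14 I14 (ZMod 3)) = _
  rw [map_mul, Units.val_mul, t14_286, φ14_y]
  exact edge14_y (4, 34)
theorem t14_347 : ((φ14 r347 : G14) : Matrix I14 I14 (ZMod 3)) = TM (T14 (5, 32)) := by
  show ((φ14 (r287 * x) : G14) : Matrix I14 I14 (ZMod 3)) = _
  rw [map_mul, Units.val_mul, t14_287, φ14_x]
  exact edge14_x (4, 35)
theorem t14_348 : ((φ14 r348 : G14) : Matrix I14 I14 (ZMod 3)) = TM (T14 (5, 33)) := by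
  show ((φ14 (r288 * y) : G14) : Matrix I14 I14 (ZMod 3)) = _
  rw [map_mul, Units.val_mul, t14_288, φ14_y]
  exact edge14_y (4, 36)
theorem t14_349 : ((φ14 r349 : G14) : Matrix I14 I14 (ZMod 3)) = TM (T14 (5, 34)) := by
  show ((φ14 (r289 * x) : G14) : Matrix I14 I14 (ZMod 3)) = _
  rw [map_mul, Units.val_mul, t14_289, φ14_x]
  exact edge14_x (4, 37)
theorem t14_350 : ((φ14 r350 : G14) : Matrix I14 I14 (ZMod 3)) = TM (T14 (5, 35)) := by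
  show ((φ14 (r290 * x) : G14) : Matrix I14 I14 (ZMod 3)) = _
  rw [map_mul, Units.val_mul, t14_290, φ14_x]
  exact edge14_x (4, 38)
theorem t14_351 : ((φ14 r351 : G14) : Matrix I14 I14 (ZMod 3)) = TM (T14 (5, 36)) := by
  show ((φ14 (r291 * x) : G14) : Matrix I14 I14 (ZMod 3)) = _
  rw [map_mul, Units.val_mul, t14_291, φ14_x]
  exact edge14_x (4, 39)
theorem t14_352 : ((φ14 r352 : G14) : Matrix I14 I14 (ZMod 3)) = TM (T14 (5, 37)) := by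
  show ((φ14 (r291 * y) : G14) : Matrix I14 I14 (ZMod 3)) = _
  rw [map_mul, Units.val_mul, t14_291, φ14_y]
  exact edge14_y (4, 39)
theorem t14_353 : ((φ14 r353 : G14) : Matrix I14 I14 (ZMod 3)) = TM (T14 (5, 38)) := by
  show ((φ14 (r292 * x) : G14) : Matrix I14 I14 (ZMod 3)) = _
  rw [map_mul, Units.val_mul, t14_292, φ14_x]
  exact edge14_x (4, 40)
theorem t14_354 : ((φ14 r354 : G14) : Matrix I14 I14 (ZMod 3)) = TM (T14 (5, 39)) := by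
  show ((φ14 (r292 * y) : G14) : Matrix I14 I14 (ZMod 3)) = _
  rw [map_mul, Units.val_mul, t14_292, φ14_y]
  exact edge14_y (4, 40)
theorem t14_355 : ((φ14 r355 : G14) : Matrix I14 I14 (ZMod 3)) = TM (T14 (5, 40)) := by
  show ((φ14 (r293 * y) : G14) : Matrix I14 I14 (ZMod 3)) = _
  rw [map_mul, Units.val_mul, t14_293, φ14_y]
  exact edge14_y (4, 41)
theorem t14_356 : ((φ14 r356 : G14) : Matrix I14 I14 (ZMod 3)) = TM (T14 (5, 41)) := by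
  show ((φ14 (r294 * x) : G14) : Matrix I14 I14 (ZMod 3)) = _
  rw [map_mul, Units.val_mul, t14_294, φ14_x]
  exact edge14_x (4, 42)
theorem t14_357 : ((φ14 r357 : G14) : Matrix I14 I14 (ZMod 3)) = TM (T14 (5, 42)) := by
  show ((φ14 (r294 * y) : G14) : Matrix I14 I14 (ZMod 3)) = _
  rw [map_mul, Units.val_mul, t14_294, φ14_y]
  exact edge14_y (4, 42)
theorem t14_358 : ((φ14 r358 : G14) : Matrix I14 I14 (ZMod 3)) = TM (T14 (5, 43)) := by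
  show ((φ14 (r295 * y) : G14) : Matrix I14 I14 (ZMod 3)) = _
  rw [map_mul, Units.val_mul, t14_295, φ14_y]
  exact edge14_y (4, 43)
theorem t14_359 : ((φ14 r359 : G14) : Matrix I14 I14 (ZMod 3)) = TM (T14 (5, 44)) := by
  show ((φ14 (r296 * x) : G14) : Matrix I14 I14 (ZMod 3)) = _
  rw [map_mul, Units.val_mul, t14_296, φ14_x]
  exact edge14_x (4, 44)
theorem t14_360 : ((φ14 r360 : G14) : Matrix I14 I14 (ZMod 3)) = TM (T14 (5, 45)) := by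
  show ((φ14 (r296 * y) : G14) : Matrix I14 I14 (ZMod 3)) = _
  rw [map_mul, Units.val_mul, t14_296, φ14_y]
  exact edge14_y (4, 44)
theorem t14_361 : ((φ14 r361 : G14) : Matrix I14 I14 (ZMod 3)) = TM (T14 (5, 46)) := by
  show ((φ14 (r297 * y) : G14) : Matrix I14 I14 (ZMod 3)) = _
  rw [map_mul, Units.val_mul, t14_297, φ14_y]
  exact edge14_y (4, 45)
theorem t14_362 : ((φ14 r362 : G14) : Matrix I14 I14 (ZMod 3)) = TM (T14 (5, 47)) := by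
  show ((φ14 (r298 * y) : G14) : Matrix I14 I14 (ZMod 3)) = _
  rw [map_mul, Units.val_mul, t14_298, φ14_y]
  exact edge14_y (4, 46)
theorem t14_363 : ((φ14 r363 : G14) : Matrix I14 I14 (ZMod 3)) = TM (T14 (5, 48)) := by
  show ((φ14 (r299 * y) : G14) : Matrix I14 I14 (ZMod 3)) = _
  rw [map_mul, Units.val_mul, t14_299, φ14_y]
  exact edge14_y (4, 47)
theorem t14_364 : ((φ14 r364 : G14) : Matrix I14 I14 (ZMod 3)) = TM (T14 (5, 49)) := by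
  show ((φ14 (r300 * x) : G14) : Matrix I14 I14 (ZMod 3)) = _
  rw [map_mul, Units.val_mul, t14_300, φ14_x]
  exact edge14_x (4, 48)
theorem t14_365 : ((φ14 r365 : G14) : Matrix I14 I14 (ZMod 3)) = TM (T14 (5, 50)) := by
  show ((φ14 (r300 * y) : G14) : Matrix I14 I14 (ZMod 3)) = _
  rw [map_mul, Units.val_mul, t14_300, φ14_y]
  exact edge14_y (4, 48)
theorem t14_366 : ((φ14 r366 : G14) : Matrix I14 I14 (ZMod 3)) = TM (T14 (5, 51)) := by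
  show ((φ14 (r301 * y) : G14) : Matrix I14 I14 (ZMod 3)) = _
  rw [map_mul, Units.val_mul, t14_301, φ14_y]
  exact edge14_y (4, 49)
theorem t14_367 : ((φ14 r367 : G14) : Matrix I14 I14 (ZMod 3)) = TM (T14 (5, 52)) := by
  show ((φ14 (r302 * y) : G14) : Matrix I14 I14 (ZMod 3)) = _
  rw [map_mul, Units.val_mul, t14_302, φ14_y]
  exact edge14_y (4, 50)
theorem t14_368 : ((φ14 r368 : G14) : Matrix I14 I14 (ZMod 3)) = TM (T14 (5, 53)) := by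
  show ((φ14 (r303 * y) : G14) : Matrix I14 I14 (ZMod 3)) = _
  rw [map_mul, Units.val_mul, t14_303, φ14_y]
  exact edge14_y (4, 51)
theorem t14_369 : ((φ14 r369 : G14) : Matrix I14 I14 (ZMod 3)) = TM (T14 (5, 54)) := by
  show ((φ14 (r304 * y) : G14) : Matrix I14 I14 (ZMod 3)) = _
  rw [map_mul, Units.val_mul, t14_304, φ14_y]
  exact edge14_y (4, 52)
theorem t14_370 : ((φ14 r370 : G14) : Matrix I14 I14 (ZMod 3)) = TM (T14 (5, 55)) := by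
  show ((φ14 (r306 * y) : G14) : Matrix I14 I14 (ZMod 3)) = _
  rw [map_mul, Units.val_mul, t14_306, φ14_y]
  exact edge14_y (4, 54)
theorem t14_371 : ((φ14 r371 : G14) : Matrix I14 I14 (ZMod 3)) = TM (T14 (5, 56)) := by
  show ((φ14 (r307 * y) : G14) : Matrix I14 I14 (ZMod 3)) = _
  rw [map_mul, Units.val_mul, t14_307, φ14_y]
  exact edge14_y (4, 55)
theorem t14_372 : ((φ14 r372 : G14) : Matrix I14 I14 (ZMod 3)) = TM (T14 (5, 57)) := by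
  show ((φ14 (r308 * y) : G14) : Matrix I14 I14 (ZMod 3)) = _
  rw [map_mul, Units.val_mul, t14_308, φ14_y]
  exact edge14_y (4, 56)
theorem t14_373 : ((φ14 r373 : G14) : Matrix I14 I14 (ZMod 3)) = TM (T14 (5, 58)) := by
  show ((φ14 (r309 * y) : G14) : Matrix I14 I14 (ZMod 3)) = _
  rw [map_mul, Units.val_mul, t14_309, φ14_y]
  exact edge14_y (4, 57)
theorem t14_374 : ((φ14 r374 : G14) : Matrix I14 I14 (ZMod 3)) = TM (T14 (5, 59)) := by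
  show ((φ14 (r310 * y) : G14) : Matrix I14 I14 (ZMod 3)) = _
  rw [map_mul, Units.val_mul, t14_310, φ14_y]
  exact edge14_y (4, 58)
theorem t14_375 : ((φ14 r375 : G14) : Matrix I14 I14 (ZMod 3)) = TM (T14 (5, 60)) := by
  show ((φ14 (r311 * x) : G14) : Matrix I14 I14 (ZMod 3)) = _
  rw [map_mul, Units.val_mul, t14_311, φ14_x]
  exact edge14_x (4, 59)
theorem t14_376 : ((φ14 r376 : G14) : Matrix I14 I14 (ZMod 3)) = TM (T14 (5, 61)) := by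
  show ((φ14 (r312 * y) : G14) : Matrix I14 I14 (ZMod 3)) = _
  rw [map_mul, Units.val_mul, t14_312, φ14_y]
  exact edge14_y (4, 60)
theorem t14_377 : ((φ14 r377 : G14) : Matrix I14 I14 (ZMod 3)) = TM (T14 (5, 62)) := by
  show ((φ14 (r313 * x) : G14) : Matrix I14 I14 (ZMod 3)) = _
  rw [map_mul, Units.val_mul, t14_313, φ14_x]
  exact edge14_x (4, 61)
theorem t14_378 : ((φ14 r378 : G14) : Matrix I14 I14 (ZMod 3)) = TM (T14 (6, 0)) := by
  show ((φ14 (r314 * y) : G14) : Matrix I14 I14 (ZMod 3)) = _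
  rw [map_mul, Units.val_mul, t14_314, φ14_y]
  exact edge14_y (4, 62)
theorem t14_379 : ((φ14 r379 : G14) : Matrix I14 I14 (ZMod 3)) = TM (T14 (6, 1)) := by
  show ((φ14 (r315 * x) : G14) : Matrix I14 I14 (ZMod 3)) = _
  rw [map_mul, Units.val_mul, t14_315, φ14_x]
  exact edge14_x (5, 0)
theorem t14_380 : ((φ14 r380 : G14) : Matrix I14 I14 (ZMod 3)) = TM (T14 (6, 2)) := by
  show ((φ14 (r316 * y) : G14) : Matrix I14 I14 (ZMod 3)) = _
  rw [map_mul, Units.val_mul, t14_316, φ14_y]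
  exact edge14_y (5, 1)
theorem t14_381 : ((φ14 r381 : G14) : Matrix I14 I14 (ZMod 3)) = TM (T14 (6, 3)) := by
  show ((φ14 (r317 * x) : G14) : Matrix I14 I14 (ZMod 3)) = _
  rw [map_mul, Units.val_mul, t14_317, φ14_x]
  exact edge14_x (5, 2)
theorem t14_382 : ((φ14 r382 : G14) : Matrix I14 I14 (ZMod 3)) = TM (T14 (6, 4)) := by
  show ((φ14 (r318 * y) : G14) : Matrix I14 I14 (ZMod 3)) = _
  rw [map_mul, Units.val_mul, t14_318, φ14_y]
  exact edge14_y (5, 3)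
theorem t14_383 : ((φ14 r383 : G14) : Matrix I14 I14 (ZMod 3)) = TM (T14 (6, 5)) := by
  show ((φ14 (r319 * y) : G14) : Matrix I14 I14 (ZMod 3)) = _
  rw [map_mul, Units.val_mul, t14_319, φ14_y]
  exact edge14_y (5, 4)
theorem t14_384 : ((φ14 r384 : G14) : Matrix I14 I14 (ZMod 3)) = TM (T14 (6, 6)) := by
  show ((φ14 (r320 * x) : G14) : Matrix I14 I14 (ZMod 3)) = _
  rw [map_mul, Units.val_mul, t14_320, φ14_x]
  exact edge14_x (5, 5)
theorem t14_385 : ((φ14 r385 : G14) : Matrix I14 I14 (ZMod 3)) = TM (T14 (6, 7)) := by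
  show ((φ14 (r321 * y) : G14) : Matrix I14 I14 (ZMod 3)) = _
  rw [map_mul, Units.val_mul, t14_321, φ14_y]
  exact edge14_y (5, 6)
theorem t14_386 : ((φ14 r386 : G14) : Matrix I14 I14 (ZMod 3)) = TM (T14 (6, 8)) := by
  show ((φ14 (r322 * x) : G14) : Matrix I14 I14 (ZMod 3)) = _
  rw [map_mul, Units.val_mul, t14_322, φ14_x]
  exact edge14_x (5, 7)
theorem t14_387 : ((φ14 r387 : G14) : Matrix I14 I14 (ZMod 3)) = TM (T14 (6, 9)) := by
  show ((φ14 (r323 * x) : G14) : Matrix I14 I14 (ZMod 3)) = _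
  rw [map_mul, Units.val_mul, t14_323, φ14_x]
  exact edge14_x (5, 8)
theorem t14_388 : ((φ14 r388 : G14) : Matrix I14 I14 (ZMod 3)) = TM (T14 (6, 10)) := by
  show ((φ14 (r324 * y) : G14) : Matrix I14 I14 (ZMod 3)) = _
  rw [map_mul, Units.val_mul, t14_324, φ14_y]
  exact edge14_y (5, 9)
theorem t14_389 : ((φ14 r389 : G14) : Matrix I14 I14 (ZMod 3)) = TM (T14 (6, 11)) := by
  show ((φ14 (r325 * x) : G14) : Matrix I14 I14 (ZMod 3)) = _
  rw [map_mul, Units.val_mul, t14_325, φ14_x]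
  exact edge14_x (5, 10)
theorem t14_390 : ((φ14 r390 : G14) : Matrix I14 I14 (ZMod 3)) = TM (T14 (6, 12)) := by
  show ((φ14 (r328 * x) : G14) : Matrix I14 I14 (ZMod 3)) = _
  rw [map_mul, Units.val_mul, t14_328, φ14_x]
  exact edge14_x (5, 13)
theorem t14_391 : ((φ14 r391 : G14) : Matrix I14 I14 (ZMod 3)) = TM (T14 (6, 13)) := by
  show ((φ14 (r329 * x) : G14) : Matrix I14 I14 (ZMod 3)) = _
  rw [map_mul, Units.val_mul, t14_329, φ14_x]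
  exact edge14_x (5, 14)
theorem t14_392 : ((φ14 r392 : G14) : Matrix I14 I14 (ZMod 3)) = TM (T14 (6, 14)) := by
  show ((φ14 (r329 * y) : G14) : Matrix I14 I14 (ZMod 3)) = _
  rw [map_mul, Units.val_mul, t14_329, φ14_y]
  exact edge14_y (5, 14)
theorem t14_393 : ((φ14 r393 : G14) : Matrix I14 I14 (ZMod 3)) = TM (T14 (6, 15)) := by
  show ((φ14 (r331 * x) : G14) : Matrix I14 I14 (ZMod 3)) = _
  rw [map_mul, Units.val_mul, t14_331, φ14_x]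
  exact edge14_x (5, 16)
theorem t14_394 : ((φ14 r394 : G14) : Matrix I14 I14 (ZMod 3)) = TM (T14 (6, 16)) := by
  show ((φ14 (r333 * x) : G14) : Matrix I14 I14 (ZMod 3)) = _
  rw [map_mul, Units.val_mul, t14_333, φ14_x]
  exact edge14_x (5, 18)
theorem t14_395 : ((φ14 r395 : G14) : Matrix I14 I14 (ZMod 3)) = TM (T14 (6, 17)) := by
  show ((φ14 (r334 * x) : G14) : Matrix I14 I14 (ZMod 3)) = _
  rw [map_mul, Units.val_mul, t14_334, φ14_x]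
  exact edge14_x (5, 19)
theorem t14_396 : ((φ14 r396 : G14) : Matrix I14 I14 (ZMod 3)) = TM (T14 (6, 18)) := by
  show ((φ14 (r334 * y) : G14) : Matrix I14 I14 (ZMod 3)) = _
  rw [map_mul, Units.val_mul, t14_334, φ14_y]
  exact edge14_y (5, 19)
theorem t14_397 : ((φ14 r397 : G14) : Matrix I14 I14 (ZMod 3)) = TM (T14 (6, 19)) := by
  show ((φ14 (r335 * x) : G14) : Matrix I14 I14 (ZMod 3)) = _
  rw [map_mul, Units.val_mul, t14_335, φ14_x]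
  exact edge14_x (5, 20)
theorem t14_398 : ((φ14 r398 : G14) : Matrix I14 I14 (ZMod 3)) = TM (T14 (6, 20)) := by
  show ((φ14 (r335 * y) : G14) : Matrix I14 I14 (ZMod 3)) = _
  rw [map_mul, Units.val_mul, t14_335, φ14_y]
  exact edge14_y (5, 20)
theorem t14_399 : ((φ14 r399 : G14) : Matrix I14 I14 (ZMod 3)) = TM (T14 (6, 21)) := by
  show ((φ14 (r336 * x) : G14) : Matrix I14 I14 (ZMod 3)) = _
  rw [map_mul, Units.val_mul, t14_336, φ14_x]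
  exact edge14_x (5, 21)
theorem t14_400 : ((φ14 r400 : G14) : Matrix I14 I14 (ZMod 3)) = TM (T14 (6, 22)) := by
  show ((φ14 (r336 * y) : G14) : Matrix I14 I14 (ZMod 3)) = _
  rw [map_mul, Units.val_mul, t14_336, φ14_y]
  exact edge14_y (5, 21)
theorem t14_401 : ((φ14 r401 : G14) : Matrix I14 I14 (ZMod 3)) = TM (T14 (6, 23)) := by
  show ((φ14 (r337 * y) : G14) : Matrix I14 I14 (ZMod 3)) = _
  rw [map_mul, Units.val_mul, t14_337, φ14_y]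
  exact edge14_y (5, 22)
theorem t14_402 : ((φ14 r402 : G14) : Matrix I14 I14 (ZMod 3)) = TM (T14 (6, 24)) := by
  show ((φ14 (r339 * x) : G14) : Matrix I14 I14 (ZMod 3)) = _
  rw [map_mul, Units.val_mul, t14_339, φ14_x]
  exact edge14_x (5, 24)
theorem t14_403 : ((φ14 r403 : G14) : Matrix I14 I14 (ZMod 3)) = TM (T14 (6, 25)) := by
  show ((φ14 (r339 * y) : G14) : Matrix I14 I14 (ZMod 3)) = _
  rw [map_mul, Units.val_mul, t14_339, φ14_y]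
  exact edge14_y (5, 24)
theorem t14_404 : ((φ14 r404 : G14) : Matrix I14 I14 (ZMod 3)) = TM (T14 (6, 26)) := by
  show ((φ14 (r340 * x) : G14) : Matrix I14 I14 (ZMod 3)) = _
  rw [map_mul, Units.val_mul, t14_340, φ14_x]
  exact edge14_x (5, 25)
theorem t14_405 : ((φ14 r405 : G14) : Matrix I14 I14 (ZMod 3)) = TM (T14 (6, 27)) := by
  show ((φ14 (r340 * y) : G14) : Matrix I14 I14 (ZMod 3)) = _
  rw [map_mul, Units.val_mul, t14_340, φ14_y]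
  exact edge14_y (5, 25)
theorem t14_406 : ((φ14 r406 : G14) : Matrix I14 I14 (ZMod 3)) = TM (T14 (6, 28)) := by
  show ((φ14 (r341 * y) : G14) : Matrix I14 I14 (ZMod 3)) = _
  rw [map_mul, Units.val_mul, t14_341, φ14_y]
  exact edge14_y (5, 26)
theorem t14_407 : ((φ14 r407 : G14) : Matrix I14 I14 (ZMod 3)) = TM (T14 (6, 29)) := by
  show ((φ14 (r342 * x) : G14) : Matrix I14 I14 (ZMod 3)) = _
  rw [map_mul, Units.val_mul, t14_342, φ14_x]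
  exact edge14_x (5, 27)
theorem t14_408 : ((φ14 r408 : G14) : Matrix I14 I14 (ZMod 3)) = TM (T14 (6, 30)) := by
  show ((φ14 (r342 * y) : G14) : Matrix I14 I14 (ZMod 3)) = _
  rw [map_mul, Units.val_mul, t14_342, φ14_y]
  exact edge14_y (5, 27)
theorem t14_409 : ((φ14 r409 : G14) : Matrix I14 I14 (ZMod 3)) = TM (T14 (6, 31)) := by
  show ((φ14 (r343 * y) : G14) : Matrix I14 I14 (ZMod 3)) = _
  rw [map_mul, Units.val_mul, t14_343, φ14_y]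
  exact edge14_y (5, 28)
theorem t14_410 : ((φ14 r410 : G14) : Matrix I14 I14 (ZMod 3)) = TM (T14 (6, 32)) := by
  show ((φ14 (r344 * x) : G14) : Matrix I14 I14 (ZMod 3)) = _
  rw [map_mul, Units.val_mul, t14_344, φ14_x]
  exact edge14_x (5, 29)
theorem t14_411 : ((φ14 r411 : G14) : Matrix I14 I14 (ZMod 3)) = TM (T14 (6, 33)) := by
  show ((φ14 (r344 * y) : G14) : Matrix I14 I14 (ZMod 3)) = _
  rw [map_mul, Units.val_mul, t14_344, φ14_y]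
  exact edge14_y (5, 29)
theorem t14_412 : ((φ14 r412 : G14) : Matrix I14 I14 (ZMod 3)) = TM (T14 (6, 34)) := by
  show ((φ14 (r345 * y) : G14) : Matrix I14 I14 (ZMod 3)) = _
  rw [map_mul, Units.val_mul, t14_345, φ14_y]
  exact edge14_y (5, 30)
theorem t14_413 : ((φ14 r413 : G14) : Matrix I14 I14 (ZMod 3)) = TM (T14 (6, 35)) := by
  show ((φ14 (r346 * y) : G14) : Matrix I14 I14 (ZMod 3)) = _
  rw [map_mul, Units.val_mul, t14_346, φ14_y]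
  exact edge14_y (5, 31)
theorem t14_414 : ((φ14 r414 : G14) : Matrix I14 I14 (ZMod 3)) = TM (T14 (6, 36)) := by
  show ((φ14 (r347 * y) : G14) : Matrix I14 I14 (ZMod 3)) = _
  rw [map_mul, Units.val_mul, t14_347, φ14_y]
  exact edge14_y (5, 32)
theorem t14_415 : ((φ14 r415 : G14) : Matrix I14 I14 (ZMod 3)) = TM (T14 (6, 37)) := by
  show ((φ14 (r348 * x) : G14) : Matrix I14 I14 (ZMod 3)) = _
  rw [map_mul, Units.val_mul, t14_348, φ14_x]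
  exact edge14_x (5, 33)
theorem t14_416 : ((φ14 r416 : G14) : Matrix I14 I14 (ZMod 3)) = TM (T14 (6, 38)) := by
  show ((φ14 (r348 * y) : G14) : Matrix I14 I14 (ZMod 3)) = _
  rw [map_mul, Units.val_mul, t14_348, φ14_y]
  exact edge14_y (5, 33)
theorem t14_417 : ((φ14 r417 : G14) : Matrix I14 I14 (ZMod 3)) = TM (T14 (6, 39)) := by
  show ((φ14 (r349 * y) : G14) : Matrix I14 I14 (ZMod 3)) = _
  rw [map_mul, Units.val_mul, t14_349, φ14_y]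
  exact edge14_y (5, 34)
theorem t14_418 : ((φ14 r418 : G14) : Matrix I14 I14 (ZMod 3)) = TM (T14 (6, 40)) := by
  show ((φ14 (r350 * y) : G14) : Matrix I14 I14 (ZMod 3)) = _
  rw [map_mul, Units.val_mul, t14_350, φ14_y]
  exact edge14_y (5, 35)
theorem t14_419 : ((φ14 r419 : G14) : Matrix I14 I14 (ZMod 3)) = TM (T14 (6, 41)) := by
  show ((φ14 (r352 * x) : G14) : Matrix I14 I14 (ZMod 3)) = _
  rw [map_mul, Units.val_mul, t14_352, φ14_x]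
  exact edge14_x (5, 37)
theorem t14_420 : ((φ14 r420 : G14) : Matrix I14 I14 (ZMod 3)) = TM (T14 (6, 42)) := by
  show ((φ14 (r353 * y) : G14) : Matrix I14 I14 (ZMod 3)) = _
  rw [map_mul, Units.val_mul, t14_353, φ14_y]
  exact edge14_y (5, 38)
theorem t14_421 : ((φ14 r421 : G14) : Matrix I14 I14 (ZMod 3)) = TM (T14 (6, 43)) := by
  show ((φ14 (r354 * x) : G14) : Matrix I14 I14 (ZMod 3)) = _
  rw [map_mul, Units.val_mul, t14_354, φ14_x]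
  exact edge14_x (5, 39)
theorem t14_422 : ((φ14 r422 : G14) : Matrix I14 I14 (ZMod 3)) = TM (T14 (6, 44)) := by
  show ((φ14 (r357 * x) : G14) : Matrix I14 I14 (ZMod 3)) = _
  rw [map_mul, Units.val_mul, t14_357, φ14_x]
  exact edge14_x (5, 42)
theorem t14_423 : ((φ14 r423 : G14) : Matrix I14 I14 (ZMod 3)) = TM (T14 (6, 45)) := by
  show ((φ14 (r365 * x) : G14) : Matrix I14 I14 (ZMod 3)) = _
  rw [map_mul, Units.val_mul, t14_365, φ14_x]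
  exact edge14_x (5, 50)
theorem t14_424 : ((φ14 r424 : G14) : Matrix I14 I14 (ZMod 3)) = TM (T14 (6, 46)) := by
  show ((φ14 (r366 * x) : G14) : Matrix I14 I14 (ZMod 3)) = _
  rw [map_mul, Units.val_mul, t14_366, φ14_x]
  exact edge14_x (5, 51)
theorem t14_425 : ((φ14 r425 : G14) : Matrix I14 I14 (ZMod 3)) = TM (T14 (6, 47)) := by
  show ((φ14 (r366 * y) : G14) : Matrix I14 I14 (ZMod 3)) = _
  rw [map_mul, Units.val_mul, t14_366, φ14_y]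
  exact edge14_y (5, 51)
theorem t14_426 : ((φ14 r426 : G14) : Matrix I14 I14 (ZMod 3)) = TM (T14 (6, 48)) := by
  show ((φ14 (r367 * y) : G14) : Matrix I14 I14 (ZMod 3)) = _
  rw [map_mul, Units.val_mul, t14_367, φ14_y]
  exact edge14_y (5, 52)
theorem t14_427 : ((φ14 r427 : G14) : Matrix I14 I14 (ZMod 3)) = TM (T14 (6, 49)) := by
  show ((φ14 (r369 * y) : G14) : Matrix I14 I14 (ZMod 3)) = _
  rw [map_mul, Units.val_mul, t14_369, φ14_y]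
  exact edge14_y (5, 54)
theorem t14_428 : ((φ14 r428 : G14) : Matrix I14 I14 (ZMod 3)) = TM (T14 (6, 50)) := by
  show ((φ14 (r371 * x) : G14) : Matrix I14 I14 (ZMod 3)) = _
  rw [map_mul, Units.val_mul, t14_371, φ14_x]
  exact edge14_x (5, 56)
theorem t14_429 : ((φ14 r429 : G14) : Matrix I14 I14 (ZMod 3)) = TM (T14 (6, 51)) := by
  show ((φ14 (r371 * y) : G14) : Matrix I14 I14 (ZMod 3)) = _
  rw [map_mul, Units.val_mul, t14_371, φ14_y]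
  exact edge14_y (5, 56)
theorem t14_430 : ((φ14 r430 : G14) : Matrix I14 I14 (ZMod 3)) = TM (T14 (6, 52)) := by
  show ((φ14 (r373 * y) : G14) : Matrix I14 I14 (ZMod 3)) = _
  rw [map_mul, Units.val_mul, t14_373, φ14_y]
  exact edge14_y (5, 58)
theorem t14_431 : ((φ14 r431 : G14) : Matrix I14 I14 (ZMod 3)) = TM (T14 (6, 53)) := by
  show ((φ14 (r374 * x) : G14) : Matrix I14 I14 (ZMod 3)) = _
  rw [map_mul, Units.val_mul, t14_374, φ14_x]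
  exact edge14_x (5, 59)
theorem t14_432 : ((φ14 r432 : G14) : Matrix I14 I14 (ZMod 3)) = TM (T14 (6, 54)) := by
  show ((φ14 (r374 * y) : G14) : Matrix I14 I14 (ZMod 3)) = _
  rw [map_mul, Units.val_mul, t14_374, φ14_y]
  exact edge14_y (5, 59)
theorem t14_433 : ((φ14 r433 : G14) : Matrix I14 I14 (ZMod 3)) = TM (T14 (6, 55)) := by
  show ((φ14 (r375 * y) : G14) : Matrix I14 I14 (ZMod 3)) = _
  rw [map_mul, Units.val_mul, t14_375, φ14_y]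
  exact edge14_y (5, 60)
theorem t14_434 : ((φ14 r434 : G14) : Matrix I14 I14 (ZMod 3)) = TM (T14 (6, 56)) := by
  show ((φ14 (r376 * x) : G14) : Matrix I14 I14 (ZMod 3)) = _
  rw [map_mul, Units.val_mul, t14_376, φ14_x]
  exact edge14_x (5, 61)
theorem t14_435 : ((φ14 r435 : G14) : Matrix I14 I14 (ZMod 3)) = TM (T14 (6, 57)) := by
  show ((φ14 (r377 * y) : G14) : Matrix I14 I14 (ZMod 3)) = _
  rw [map_mul, Units.val_mul, t14_377, φ14_y]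
  exact edge14_y (5, 62)
theorem t14_436 : ((φ14 r436 : G14) : Matrix I14 I14 (ZMod 3)) = TM (T14 (6, 58)) := by
  show ((φ14 (r378 * y) : G14) : Matrix I14 I14 (ZMod 3)) = _
  rw [map_mul, Units.val_mul, t14_378, φ14_y]
  exact edge14_y (6, 0)
theorem t14_437 : ((φ14 r437 : G14) : Matrix I14 I14 (ZMod 3)) = TM (T14 (6, 59)) := by
  show ((φ14 (r380 * x) : G14) : Matrix I14 I14 (ZMod 3)) = _
  rw [map_mul, Units.val_mul, t14_380, φ14_x]
  exact edge14_x (6, 2)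
theorem t14_438 : ((φ14 r438 : G14) : Matrix I14 I14 (ZMod 3)) = TM (T14 (6, 60)) := by
  show ((φ14 (r380 * y) : G14) : Matrix I14 I14 (ZMod 3)) = _
  rw [map_mul, Units.val_mul, t14_380, φ14_y]
  exact edge14_y (6, 2)
theorem t14_439 : ((φ14 r439 : G14) : Matrix I14 I14 (ZMod 3)) = TM (T14 (6, 61)) := by
  show ((φ14 (r381 * y) : G14) : Matrix I14 I14 (ZMod 3)) = _
  rw [map_mul, Units.val_mul, t14_381, φ14_y]
  exact edge14_y (6, 3)
theorem t14_440 : ((φ14 r440 : G14) : Matrix I14 I14 (ZMod 3)) = TM (T14 (6, 62)) := by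
  show ((φ14 (r382 * y) : G14) : Matrix I14 I14 (ZMod 3)) = _
  rw [map_mul, Units.val_mul, t14_382, φ14_y]
  exact edge14_y (6, 4)
theorem t14_441 : ((φ14 r441 : G14) : Matrix I14 I14 (ZMod 3)) = TM (T14 (7, 0)) := by
  show ((φ14 (r383 * y) : G14) : Matrix I14 I14 (ZMod 3)) = _
  rw [map_mul, Units.val_mul, t14_383, φ14_y]
  exact edge14_y (6, 5)
theorem t14_442 : ((φ14 r442 : G14) : Matrix I14 I14 (ZMod 3)) = TM (T14 (7, 1)) := by
  show ((φ14 (r386 * y) : G14) : Matrix I14 I14 (ZMod 3)) = _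
  rw [map_mul, Units.val_mul, t14_386, φ14_y]
  exact edge14_y (6, 8)
theorem t14_443 : ((φ14 r443 : G14) : Matrix I14 I14 (ZMod 3)) = TM (T14 (7, 2)) := by
  show ((φ14 (r388 * y) : G14) : Matrix I14 I14 (ZMod 3)) = _
  rw [map_mul, Units.val_mul, t14_388, φ14_y]
  exact edge14_y (6, 10)
theorem t14_444 : ((φ14 r444 : G14) : Matrix I14 I14 (ZMod 3)) = TM (T14 (7, 3)) := by
  show ((φ14 (r389 * y) : G14) : Matrix I14 I14 (ZMod 3)) = _
  rw [map_mul, Units.val_mul, t14_389, φ14_y]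
  exact edge14_y (6, 11)
theorem t14_445 : ((φ14 r445 : G14) : Matrix I14 I14 (ZMod 3)) = TM (T14 (7, 4)) := by
  show ((φ14 (r391 * y) : G14) : Matrix I14 I14 (ZMod 3)) = _
  rw [map_mul, Units.val_mul, t14_391, φ14_y]
  exact edge14_y (6, 13)
theorem t14_446 : ((φ14 r446 : G14) : Matrix I14 I14 (ZMod 3)) = TM (T14 (7, 5)) := by
  show ((φ14 (r394 * y) : G14) : Matrix I14 I14 (ZMod 3)) = _
  rw [map_mul, Units.val_mul, t14_394, φ14_y]
  exact edge14_y (6, 16)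
theorem t14_447 : ((φ14 r447 : G14) : Matrix I14 I14 (ZMod 3)) = TM (T14 (7, 6)) := by
  show ((φ14 (r395 * y) : G14) : Matrix I14 I14 (ZMod 3)) = _
  rw [map_mul, Units.val_mul, t14_395, φ14_y]
  exact edge14_y (6, 17)
theorem t14_448 : ((φ14 r448 : G14) : Matrix I14 I14 (ZMod 3)) = TM (T14 (7, 7)) := by
  show ((φ14 (r396 * x) : G14) : Matrix I14 I14 (ZMod 3)) = _
  rw [map_mul, Units.val_mul, t14_396, φ14_x]
  exact edge14_x (6, 18)
theorem t14_449 : ((φ14 r449 : G14) : Matrix I14 I14 (ZMod 3)) = TM (T14 (7, 8)) := by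
  show ((φ14 (r397 * y) : G14) : Matrix I14 I14 (ZMod 3)) = _
  rw [map_mul, Units.val_mul, t14_397, φ14_y]
  exact edge14_y (6, 19)
theorem t14_450 : ((φ14 r450 : G14) : Matrix I14 I14 (ZMod 3)) = TM (T14 (7, 9)) := by
  show ((φ14 (r401 * x) : G14) : Matrix I14 I14 (ZMod 3)) = _
  rw [map_mul, Units.val_mul, t14_401, φ14_x]
  exact edge14_x (6, 23)
theorem t14_451 : ((φ14 r451 : G14) : Matrix I14 I14 (ZMod 3)) = TM (T14 (7, 10)) := by
  show ((φ14 (r402 * y) : G14) : Matrix I14 I14 (ZMod 3)) = _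
  rw [map_mul, Units.val_mul, t14_402, φ14_y]
  exact edge14_y (6, 24)
theorem t14_452 : ((φ14 r452 : G14) : Matrix I14 I14 (ZMod 3)) = TM (T14 (7, 11)) := by
  show ((φ14 (r406 * x) : G14) : Matrix I14 I14 (ZMod 3)) = _
  rw [map_mul, Units.val_mul, t14_406, φ14_x]
  exact edge14_x (6, 28)
theorem t14_453 : ((φ14 r453 : G14) : Matrix I14 I14 (ZMod 3)) = TM (T14 (7, 12)) := by
  show ((φ14 (r407 * y) : G14) : Matrix I14 I14 (ZMod 3)) = _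
  rw [map_mul, Units.val_mul, t14_407, φ14_y]
  exact edge14_y (6, 29)
theorem t14_454 : ((φ14 r454 : G14) : Matrix I14 I14 (ZMod 3)) = TM (T14 (7, 13)) := by
  show ((φ14 (r408 * x) : G14) : Matrix I14 I14 (ZMod 3)) = _
  rw [map_mul, Units.val_mul, t14_408, φ14_x]
  exact edge14_x (6, 30)
theorem t14_455 : ((φ14 r455 : G14) : Matrix I14 I14 (ZMod 3)) = TM (T14 (7, 14)) := by
  show ((φ14 (r412 * y) : G14) : Matrix I14 I14 (ZMod 3)) = _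
  rw [map_mul, Units.val_mul, t14_412, φ14_y]
  exact edge14_y (6, 34)
theorem t14_456 : ((φ14 r456 : G14) : Matrix I14 I14 (ZMod 3)) = TM (T14 (7, 15)) := by
  show ((φ14 (r417 * x) : G14) : Matrix I14 I14 (ZMod 3)) = _
  rw [map_mul, Units.val_mul, t14_417, φ14_x]
  exact edge14_x (6, 39)
theorem t14_457 : ((φ14 r457 : G14) : Matrix I14 I14 (ZMod 3)) = TM (T14 (7, 16)) := by
  show ((φ14 (r417 * y) : G14) : Matrix I14 I14 (ZMod 3)) = _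
  rw [map_mul, Units.val_mul, t14_417, φ14_y]
  exact edge14_y (6, 39)
theorem t14_458 : ((φ14 r458 : G14) : Matrix I14 I14 (ZMod 3)) = TM (T14 (7, 17)) := by
  show ((φ14 (r418 * y) : G14) : Matrix I14 I14 (ZMod 3)) = _
  rw [map_mul, Units.val_mul, t14_418, φ14_y]
  exact edge14_y (6, 40)
theorem t14_459 : ((φ14 r459 : G14) : Matrix I14 I14 (ZMod 3)) = TM (T14 (7, 18)) := by
  show ((φ14 (r421 * y) : G14) : Matrix I14 I14 (ZMod 3)) = _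
  rw [map_mul, Units.val_mul, t14_421, φ14_y]
  exact edge14_y (6, 43)
theorem t14_460 : ((φ14 r460 : G14) : Matrix I14 I14 (ZMod 3)) = TM (T14 (7, 19)) := by
  show ((φ14 (r422 * y) : G14) : Matrix I14 I14 (ZMod 3)) = _
  rw [map_mul, Units.val_mul, t14_422, φ14_y]
  exact edge14_y (6, 44)
theorem t14_461 : ((φ14 r461 : G14) : Matrix I14 I14 (ZMod 3)) = TM (T14 (7, 20)) := by
  show ((φ14 (r423 * y) : G14) : Matrix I14 I14 (ZMod 3)) = _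
  rw [map_mul, Units.val_mul, t14_423, φ14_y]
  exact edge14_y (6, 45)
theorem t14_462 : ((φ14 r462 : G14) : Matrix I14 I14 (ZMod 3)) = TM (T14 (7, 21)) := by
  show ((φ14 (r424 * y) : G14) : Matrix I14 I14 (ZMod 3)) = _
  rw [map_mul, Units.val_mul, t14_424, φ14_y]
  exact edge14_y (6, 46)
theorem t14_463 : ((φ14 r463 : G14) : Matrix I14 I14 (ZMod 3)) = TM (T14 (7, 22)) := by
  show ((φ14 (r425 * x) : G14) : Matrix I14 I14 (ZMod 3)) = _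
  rw [map_mul, Units.val_mul, t14_425, φ14_x]
  exact edge14_x (6, 47)
theorem t14_464 : ((φ14 r464 : G14) : Matrix I14 I14 (ZMod 3)) = TM (T14 (7, 23)) := by
  show ((φ14 (r430 * x) : G14) : Matrix I14 I14 (ZMod 3)) = _
  rw [map_mul, Units.val_mul, t14_430, φ14_x]
  exact edge14_x (6, 52)
theorem t14_465 : ((φ14 r465 : G14) : Matrix I14 I14 (ZMod 3)) = TM (T14 (7, 24)) := by
  show ((φ14 (r431 * y) : G14) : Matrix I14 I14 (ZMod 3)) = _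
  rw [map_mul, Units.val_mul, t14_431, φ14_y]
  exact edge14_y (6, 53)
theorem t14_466 : ((φ14 r466 : G14) : Matrix I14 I14 (ZMod 3)) = TM (T14 (7, 25)) := by
  show ((φ14 (r432 * x) : G14) : Matrix I14 I14 (ZMod 3)) = _
  rw [map_mul, Units.val_mul, t14_432, φ14_x]
  exact edge14_x (6, 54)
theorem t14_467 : ((φ14 r467 : G14) : Matrix I14 I14 (ZMod 3)) = TM (T14 (7, 26)) := by
  show ((φ14 (r435 * y) : G14) : Matrix I14 I14 (ZMod 3)) = _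
  rw [map_mul, Units.val_mul, t14_435, φ14_y]
  exact edge14_y (6, 57)
theorem t14_468 : ((φ14 r468 : G14) : Matrix I14 I14 (ZMod 3)) = TM (T14 (7, 27)) := by
  show ((φ14 (r439 * x) : G14) : Matrix I14 I14 (ZMod 3)) = _
  rw [map_mul, Units.val_mul, t14_439, φ14_x]
  exact edge14_x (6, 61)
theorem t14_469 : ((φ14 r469 : G14) : Matrix I14 I14 (ZMod 3)) = TM (T14 (7, 28)) := by
  show ((φ14 (r439 * y) : G14) : Matrix I14 I14 (ZMod 3)) = _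
  rw [map_mul, Units.val_mul, t14_439, φ14_y]
  exact edge14_y (6, 61)
theorem t14_470 : ((φ14 r470 : G14) : Matrix I14 I14 (ZMod 3)) = TM (T14 (7, 29)) := by
  show ((φ14 (r441 * x) : G14) : Matrix I14 I14 (ZMod 3)) = _
  rw [map_mul, Units.val_mul, t14_441, φ14_x]
  exact edge14_x (7, 0)
theorem t14_471 : ((φ14 r471 : G14) : Matrix I14 I14 (ZMod 3)) = TM (T14 (7, 30)) := by
  show ((φ14 (r444 * x) : G14) : Matrix I14 I14 (ZMod 3)) = _
  rw [map_mul, Units.val_mul, t14_444, φ14_x]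
  exact edge14_x (7, 3)
theorem t14_472 : ((φ14 r472 : G14) : Matrix I14 I14 (ZMod 3)) = TM (T14 (7, 31)) := by
  show ((φ14 (r444 * y) : G14) : Matrix I14 I14 (ZMod 3)) = _
  rw [map_mul, Units.val_mul, t14_444, φ14_y]
  exact edge14_y (7, 3)
theorem t14_473 : ((φ14 r473 : G14) : Matrix I14 I14 (ZMod 3)) = TM (T14 (7, 32)) := by
  show ((φ14 (r446 * y) : G14) : Matrix I14 I14 (ZMod 3)) = _
  rw [map_mul, Units.val_mul, t14_446, φ14_y]
  exact edge14_y (7, 5)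
theorem t14_474 : ((φ14 r474 : G14) : Matrix I14 I14 (ZMod 3)) = TM (T14 (7, 33)) := by
  show ((φ14 (r447 * x) : G14) : Matrix I14 I14 (ZMod 3)) = _
  rw [map_mul, Units.val_mul, t14_447, φ14_x]
  exact edge14_x (7, 6)
theorem t14_475 : ((φ14 r475 : G14) : Matrix I14 I14 (ZMod 3)) = TM (T14 (7, 34)) := by
  show ((φ14 (r447 * y) : G14) : Matrix I14 I14 (ZMod 3)) = _
  rw [map_mul, Units.val_mul, t14_447, φ14_y]
  exact edge14_y (7, 6)
theorem t14_476 : ((φ14 r476 : G14) : Matrix I14 I14 (ZMod 3)) = TM (T14 (7, 35)) := by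
  show ((φ14 (r448 * y) : G14) : Matrix I14 I14 (ZMod 3)) = _
  rw [map_mul, Units.val_mul, t14_448, φ14_y]
  exact edge14_y (7, 7)
theorem t14_477 : ((φ14 r477 : G14) : Matrix I14 I14 (ZMod 3)) = TM (T14 (7, 36)) := by
  show ((φ14 (r449 * x) : G14) : Matrix I14 I14 (ZMod 3)) = _
  rw [map_mul, Units.val_mul, t14_449, φ14_x]
  exact edge14_x (7, 8)
theorem t14_478 : ((φ14 r478 : G14) : Matrix I14 I14 (ZMod 3)) = TM (T14 (7, 37)) := by
  show ((φ14 (r450 * y) : G14) : Matrix I14 I14 (ZMod 3)) = _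
  rw [map_mul, Units.val_mul, t14_450, φ14_y]
  exact edge14_y (7, 9)
theorem t14_479 : ((φ14 r479 : G14) : Matrix I14 I14 (ZMod 3)) = TM (T14 (7, 38)) := by
  show ((φ14 (r451 * y) : G14) : Matrix I14 I14 (ZMod 3)) = _
  rw [map_mul, Units.val_mul, t14_451, φ14_y]
  exact edge14_y (7, 10)
theorem t14_480 : ((φ14 r480 : G14) : Matrix I14 I14 (ZMod 3)) = TM (T14 (7, 39)) := by
  show ((φ14 (r453 * y) : G14) : Matrix I14 I14 (ZMod 3)) = _
  rw [map_mul, Units.val_mul, t14_453, φ14_y]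
  exact edge14_y (7, 12)
theorem t14_481 : ((φ14 r481 : G14) : Matrix I14 I14 (ZMod 3)) = TM (T14 (7, 40)) := by
  show ((φ14 (r454 * y) : G14) : Matrix I14 I14 (ZMod 3)) = _
  rw [map_mul, Units.val_mul, t14_454, φ14_y]
  exact edge14_y (7, 13)
theorem t14_482 : ((φ14 r482 : G14) : Matrix I14 I14 (ZMod 3)) = TM (T14 (7, 41)) := by
  show ((φ14 (r456 * y) : G14) : Matrix I14 I14 (ZMod 3)) = _
  rw [map_mul, Units.val_mul, t14_456, φ14_y]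
  exact edge14_y (7, 15)
theorem t14_483 : ((φ14 r483 : G14) : Matrix I14 I14 (ZMod 3)) = TM (T14 (7, 42)) := by
  show ((φ14 (r457 * x) : G14) : Matrix I14 I14 (ZMod 3)) = _
  rw [map_mul, Units.val_mul, t14_457, φ14_x]
  exact edge14_x (7, 16)
theorem t14_484 : ((φ14 r484 : G14) : Matrix I14 I14 (ZMod 3)) = TM (T14 (7, 43)) := by
  show ((φ14 (r460 * x) : G14) : Matrix I14 I14 (ZMod 3)) = _
  rw [map_mul, Units.val_mul, t14_460, φ14_x]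
  exact edge14_x (7, 19)
theorem t14_485 : ((φ14 r485 : G14) : Matrix I14 I14 (ZMod 3)) = TM (T14 (7, 44)) := by
  show ((φ14 (r460 * y) : G14) : Matrix I14 I14 (ZMod 3)) = _
  rw [map_mul, Units.val_mul, t14_460, φ14_y]
  exact edge14_y (7, 19)
theorem t14_486 : ((φ14 r486 : G14) : Matrix I14 I14 (ZMod 3)) = TM (T14 (7, 45)) := by
  show ((φ14 (r462 * x) : G14) : Matrix I14 I14 (ZMod 3)) = _
  rw [map_mul, Units.val_mul, t14_462, φ14_x]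
  exact edge14_x (7, 21)
theorem t14_487 : ((φ14 r487 : G14) : Matrix I14 I14 (ZMod 3)) = TM (T14 (7, 46)) := by
  show ((φ14 (r462 * y) : G14) : Matrix I14 I14 (ZMod 3)) = _
  rw [map_mul, Units.val_mul, t14_462, φ14_y]
  exact edge14_y (7, 21)
theorem t14_488 : ((φ14 r488 : G14) : Matrix I14 I14 (ZMod 3)) = TM (T14 (7, 47)) := by
  show ((φ14 (r463 * y) : G14) : Matrix I14 I14 (ZMod 3)) = _
  rw [map_mul, Units.val_mul, t14_463, φ14_y]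
  exact edge14_y (7, 22)
theorem t14_489 : ((φ14 r489 : G14) : Matrix I14 I14 (ZMod 3)) = TM (T14 (7, 48)) := by
  show ((φ14 (r465 * y) : G14) : Matrix I14 I14 (ZMod 3)) = _
  rw [map_mul, Units.val_mul, t14_465, φ14_y]
  exact edge14_y (7, 24)
theorem t14_490 : ((φ14 r490 : G14) : Matrix I14 I14 (ZMod 3)) = TM (T14 (7, 49)) := by
  show ((φ14 (r466 * y) : G14) : Matrix I14 I14 (ZMod 3)) = _
  rw [map_mul, Units.val_mul, t14_466, φ14_y]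
  exact edge14_y (7, 25)
theorem t14_491 : ((φ14 r491 : G14) : Matrix I14 I14 (ZMod 3)) = TM (T14 (7, 50)) := by
  show ((φ14 (r468 * y) : G14) : Matrix I14 I14 (ZMod 3)) = _
  rw [map_mul, Units.val_mul, t14_468, φ14_y]
  exact edge14_y (7, 27)
theorem t14_492 : ((φ14 r492 : G14) : Matrix I14 I14 (ZMod 3)) = TM (T14 (7, 51)) := by
  show ((φ14 (r472 * x) : G14) : Matrix I14 I14 (ZMod 3)) = _
  rw [map_mul, Units.val_mul, t14_472, φ14_x]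
  exact edge14_x (7, 31)
theorem t14_493 : ((φ14 r493 : G14) : Matrix I14 I14 (ZMod 3)) = TM (T14 (7, 52)) := by
  show ((φ14 (r475 * x) : G14) : Matrix I14 I14 (ZMod 3)) = _
  rw [map_mul, Units.val_mul, t14_475, φ14_x]
  exact edge14_x (7, 34)
theorem t14_494 : ((φ14 r494 : G14) : Matrix I14 I14 (ZMod 3)) = TM (T14 (7, 53)) := by
  show ((φ14 (r478 * x) : G14) : Matrix I14 I14 (ZMod 3)) = _
  rw [map_mul, Units.val_mul, t14_478, φ14_x]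
  exact edge14_x (7, 37)
theorem t14_495 : ((φ14 r495 : G14) : Matrix I14 I14 (ZMod 3)) = TM (T14 (7, 54)) := by
  show ((φ14 (r479 * x) : G14) : Matrix I14 I14 (ZMod 3)) = _
  rw [map_mul, Units.val_mul, t14_479, φ14_x]
  exact edge14_x (7, 38)
theorem t14_496 : ((φ14 r496 : G14) : Matrix I14 I14 (ZMod 3)) = TM (T14 (7, 55)) := by
  show ((φ14 (r481 * x) : G14) : Matrix I14 I14 (ZMod 3)) = _
  rw [map_mul, Units.val_mul, t14_481, φ14_x]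
  exact edge14_x (7, 40)
theorem t14_497 : ((φ14 r497 : G14) : Matrix I14 I14 (ZMod 3)) = TM (T14 (7, 56)) := by
  show ((φ14 (r482 * x) : G14) : Matrix I14 I14 (ZMod 3)) = _
  rw [map_mul, Units.val_mul, t14_482, φ14_x]
  exact edge14_x (7, 41)
theorem t14_498 : ((φ14 r498 : G14) : Matrix I14 I14 (ZMod 3)) = TM (T14 (7, 57)) := by
  show ((φ14 (r485 * x) : G14) : Matrix I14 I14 (ZMod 3)) = _
  rw [map_mul, Units.val_mul, t14_485, φ14_x]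
  exact edge14_x (7, 44)
theorem t14_499 : ((φ14 r499 : G14) : Matrix I14 I14 (ZMod 3)) = TM (T14 (7, 58)) := by
  show ((φ14 (r487 * x) : G14) : Matrix I14 I14 (ZMod 3)) = _
  rw [map_mul, Units.val_mul, t14_487, φ14_x]
  exact edge14_x (7, 46)
theorem t14_500 : ((φ14 r500 : G14) : Matrix I14 I14 (ZMod 3)) = TM (T14 (7, 59)) := by
  show ((φ14 (r490 * x) : G14) : Matrix I14 I14 (ZMod 3)) = _
  rw [map_mul, Units.val_mul, t14_490, φ14_x]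
  exact edge14_x (7, 49)
theorem t14_501 : ((φ14 r501 : G14) : Matrix I14 I14 (ZMod 3)) = TM (T14 (7, 60)) := by
  show ((φ14 (r491 * x) : G14) : Matrix I14 I14 (ZMod 3)) = _
  rw [map_mul, Units.val_mul, t14_491, φ14_x]
  exact edge14_x (7, 50)
theorem t14_502 : ((φ14 r502 : G14) : Matrix I14 I14 (ZMod 3)) = TM (T14 (7, 61)) := by
  show ((φ14 (r493 * y) : G14) : Matrix I14 I14 (ZMod 3)) = _
  rw [map_mul, Units.val_mul, t14_493, φ14_y]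
  exact edge14_y (7, 52)
theorem t14_503 : ((φ14 r503 : G14) : Matrix I14 I14 (ZMod 3)) = TM (T14 (7, 62)) := by
  show ((φ14 (r499 * y) : G14) : Matrix I14 I14 (ZMod 3)) = _
  rw [map_mul, Units.val_mul, t14_499, φ14_y]
  exact edge14_y (7, 58)
theorem φ14_rep_c0 : ∀ b : Fin 63, ((φ14 (rep_c0 b) : G14) : Matrix I14 I14 (ZMod 3)) = TM (T14_c0 b)
  | ⟨0, _⟩ => t14_0
  | ⟨1, _⟩ => t14_1
  | ⟨2, _⟩ => t14_2
  | ⟨3, _⟩ => t14_3
  | ⟨4, _⟩ => t14_4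
  | ⟨5, _⟩ => t14_5
  | ⟨6, _⟩ => t14_6
  | ⟨7, _⟩ => t14_7
  | ⟨8, _⟩ => t14_8
  | ⟨9, _⟩ => t14_9
  | ⟨10, _⟩ => t14_10
  | ⟨11, _⟩ => t14_11
  | ⟨12, _⟩ => t14_12
  | ⟨13, _⟩ => t14_13
  | ⟨14, _⟩ => t14_14
  | ⟨15, _⟩ => t14_15
  | ⟨16, _⟩ => t14_16
  | ⟨17, _⟩ => t14_17
  | ⟨18, _⟩ => t14_18
  | ⟨19, _⟩ => t14_19
  | ⟨20, _⟩ => t14_20
  | ⟨21, _⟩ => t14_21
  | ⟨22, _⟩ => t14_22
  | ⟨23, _⟩ => t14_23
  | ⟨24, _⟩ => t14_24
  | ⟨25, _⟩ => t14_25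
  | ⟨26, _⟩ => t14_26
  | ⟨27, _⟩ => t14_27
  | ⟨28, _⟩ => t14_28
  | ⟨29, _⟩ => t14_29
  | ⟨30, _⟩ => t14_30
  | ⟨31, _⟩ => t14_31
  | ⟨32, _⟩ => t14_32
  | ⟨33, _⟩ => t14_33
  | ⟨34, _⟩ => t14_34
  | ⟨35, _⟩ => t14_35
  | ⟨36, _⟩ => t14_36
  | ⟨37, _⟩ => t14_37
  | ⟨38, _⟩ => t14_38
  | ⟨39, _⟩ => t14_39
  | ⟨40, _⟩ => t14_40
  | ⟨41, _⟩ => t14_41
  | ⟨42, _⟩ => t14_42
  | ⟨43, _⟩ => t14_43
  | ⟨44, _⟩ => t14_44
  | ⟨45, _⟩ => t14_45
  | ⟨46, _⟩ => t14_46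
  | ⟨47, _⟩ => t14_47
  | ⟨48, _⟩ => t14_48
  | ⟨49, _⟩ => t14_49
  | ⟨50, _⟩ => t14_50
  | ⟨51, _⟩ => t14_51
  | ⟨52, _⟩ => t14_52
  | ⟨53, _⟩ => t14_53
  | ⟨54, _⟩ => t14_54
  | ⟨55, _⟩ => t14_55
  | ⟨56, _⟩ => t14_56
  | ⟨57, _⟩ => t14_57
  | ⟨58, _⟩ => t14_58
  | ⟨59, _⟩ => t14_59
  | ⟨60, _⟩ => t14_60
  | ⟨61, _⟩ => t14_61
  | ⟨62, _⟩ => t14_62
  | ⟨n+63, h⟩ => absurd h (by omega)
theorem φ14_rep_c1 : ∀ b : Fin 63, ((φ14 (rep_c1 b) : G14) : Matrix I14 I14 (ZMod 3)) = TM (T14_c1 b)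
  | ⟨0, _⟩ => t14_63
  | ⟨1, _⟩ => t14_64
  | ⟨2, _⟩ => t14_65
  | ⟨3, _⟩ => t14_66
  | ⟨4, _⟩ => t14_67
  | ⟨5, _⟩ => t14_68
  | ⟨6, _⟩ => t14_69
  | ⟨7, _⟩ => t14_70
  | ⟨8, _⟩ => t14_71
  | ⟨9, _⟩ => t14_72
  | ⟨10, _⟩ => t14_73
  | ⟨11, _⟩ => t14_74
  | ⟨12, _⟩ => t14_75
  | ⟨13, _⟩ => t14_76
  | ⟨14, _⟩ => t14_77
  | ⟨15, _⟩ => t14_78
  | ⟨16, _⟩ => t14_79
  | ⟨17, _⟩ => t14_80
  | ⟨18, _⟩ => t14_81
  | ⟨19, _⟩ => t14_82
  | ⟨20, _⟩ => t14_83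
  | ⟨21, _⟩ => t14_84
  | ⟨22, _⟩ => t14_85
  | ⟨23, _⟩ => t14_86
  | ⟨24, _⟩ => t14_87
  | ⟨25, _⟩ => t14_88
  | ⟨26, _⟩ => t14_89
  | ⟨27, _⟩ => t14_90
  | ⟨28, _⟩ => t14_91
  | ⟨29, _⟩ => t14_92
  | ⟨30, _⟩ => t14_93
  | ⟨31, _⟩ => t14_94
  | ⟨32, _⟩ => t14_95
  | ⟨33, _⟩ => t14_96
  | ⟨34, _⟩ => t14_97
  | ⟨35, _⟩ => t14_98
  | ⟨36, _⟩ => t14_99
  | ⟨37, _⟩ => t14_100
  | ⟨38, _⟩ => t14_101
  | ⟨39, _⟩ => t14_102
  | ⟨40, _⟩ => t14_103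
  | ⟨41, _⟩ => t14_104
  | ⟨42, _⟩ => t14_105
  | ⟨43, _⟩ => t14_106
  | ⟨44, _⟩ => t14_107
  | ⟨45, _⟩ => t14_108
  | ⟨46, _⟩ => t14_109
  | ⟨47, _⟩ => t14_110
  | ⟨48, _⟩ => t14_111
  | ⟨49, _⟩ => t14_112
  | ⟨50, _⟩ => t14_113
  | ⟨51, _⟩ => t14_114
  | ⟨52, _⟩ => t14_115
  | ⟨53, _⟩ => t14_116
  | ⟨54, _⟩ => t14_117
  | ⟨55, _⟩ => t14_118
  | ⟨56, _⟩ => t14_119
  | ⟨57, _⟩ => t14_120
  | ⟨58, _⟩ => t14_121
  | ⟨59, _⟩ => t14_122
  | ⟨60, _⟩ => t14_123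
  | ⟨61, _⟩ => t14_124
  | ⟨62, _⟩ => t14_125
  | ⟨n+63, h⟩ => absurd h (by omega)
theorem φ14_rep_c2 : ∀ b : Fin 63, ((φ14 (rep_c2 b) : G14) : Matrix I14 I14 (ZMod 3)) = TM (T14_c2 b)
  | ⟨0, _⟩ => t14_126
  | ⟨1, _⟩ => t14_127
  | ⟨2, _⟩ => t14_128
  | ⟨3, _⟩ => t14_129
  | ⟨4, _⟩ => t14_130
  | ⟨5, _⟩ => t14_131
  | ⟨6, _⟩ => t14_132
  | ⟨7, _⟩ => t14_133
  | ⟨8, _⟩ => t14_134
  | ⟨9, _⟩ => t14_135
  | ⟨10, _⟩ => t14_136
  | ⟨11, _⟩ => t14_137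
  | ⟨12, _⟩ => t14_138
  | ⟨13, _⟩ => t14_139
  | ⟨14, _⟩ => t14_140
  | ⟨15, _⟩ => t14_141
  | ⟨16, _⟩ => t14_142
  | ⟨17, _⟩ => t14_143
  | ⟨18, _⟩ => t14_144
  | ⟨19, _⟩ => t14_145
  | ⟨20, _⟩ => t14_146
  | ⟨21, _⟩ => t14_147
  | ⟨22, _⟩ => t14_148
  | ⟨23, _⟩ => t14_149
  | ⟨24, _⟩ => t14_150
  | ⟨25, _⟩ => t14_151
  | ⟨26, _⟩ => t14_152
  | ⟨27, _⟩ => t14_153
  | ⟨28, _⟩ => t14_154
  | ⟨29, _⟩ => t14_155
  | ⟨30, _⟩ => t14_156
  | ⟨31, _⟩ => t14_157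
  | ⟨32, _⟩ => t14_158
  | ⟨33, _⟩ => t14_159
  | ⟨34, _⟩ => t14_160
  | ⟨35, _⟩ => t14_161
  | ⟨36, _⟩ => t14_162
  | ⟨37, _⟩ => t14_163
  | ⟨38, _⟩ => t14_164
  | ⟨39, _⟩ => t14_165
  | ⟨40, _⟩ => t14_166
  | ⟨41, _⟩ => t14_167
  | ⟨42, _⟩ => t14_168
  | ⟨43, _⟩ => t14_169
  | ⟨44, _⟩ => t14_170
  | ⟨45, _⟩ => t14_171
  | ⟨46, _⟩ => t14_172
  | ⟨47, _⟩ => t14_173
  | ⟨48, _⟩ => t14_174
  | ⟨49, _⟩ => t14_175
  | ⟨50, _⟩ => t14_176
  | ⟨51, _⟩ => t14_177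
  | ⟨52, _⟩ => t14_178
  | ⟨53, _⟩ => t14_179
  | ⟨54, _⟩ => t14_180
  | ⟨55, _⟩ => t14_181
  | ⟨56, _⟩ => t14_182
  | ⟨57, _⟩ => t14_183
  | ⟨58, _⟩ => t14_184
  | ⟨59, _⟩ => t14_185
  | ⟨60, _⟩ => t14_186
  | ⟨61, _⟩ => t14_187
  | ⟨62, _⟩ => t14_188
  | ⟨n+63, h⟩ => absurd h (by omega)
theorem φ14_rep_c3 : ∀ b : Fin 63, ((φ14 (rep_c3 b) : G14) : Matrix I14 I14 (ZMod 3)) = TM (T14_c3 b)
  | ⟨0, _⟩ => t14_189
  | ⟨1, _⟩ => t14_190
  | ⟨2, _⟩ => t14_191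
  | ⟨3, _⟩ => t14_192
  | ⟨4, _⟩ => t14_193
  | ⟨5, _⟩ => t14_194
  | ⟨6, _⟩ => t14_195
  | ⟨7, _⟩ => t14_196
  | ⟨8, _⟩ => t14_197
  | ⟨9, _⟩ => t14_198
  | ⟨10, _⟩ => t14_199
  | ⟨11, _⟩ => t14_200
  | ⟨12, _⟩ => t14_201
  | ⟨13, _⟩ => t14_202
  | ⟨14, _⟩ => t14_203
  | ⟨15, _⟩ => t14_204
  | ⟨16, _⟩ => t14_205
  | ⟨17, _⟩ => t14_206
  | ⟨18, _⟩ => t14_207
  | ⟨19, _⟩ => t14_208
  | ⟨20, _⟩ => t14_209
  | ⟨21, _⟩ => t14_210
  | ⟨22, _⟩ => t14_211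
  | ⟨23, _⟩ => t14_212
  | ⟨24, _⟩ => t14_213
  | ⟨25, _⟩ => t14_214
  | ⟨26, _⟩ => t14_215
  | ⟨27, _⟩ => t14_216
  | ⟨28, _⟩ => t14_217
  | ⟨29, _⟩ => t14_218
  | ⟨30, _⟩ => t14_219
  | ⟨31, _⟩ => t14_220
  | ⟨32, _⟩ => t14_221
  | ⟨33, _⟩ => t14_222
  | ⟨34, _⟩ => t14_223
  | ⟨35, _⟩ => t14_224
  | ⟨36, _⟩ => t14_225
  | ⟨37, _⟩ => t14_226
  | ⟨38, _⟩ => t14_227
  | ⟨39, _⟩ => t14_228
  | ⟨40, _⟩ => t14_229
  | ⟨41, _⟩ => t14_230
  | ⟨42, _⟩ => t14_231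
  | ⟨43, _⟩ => t14_232
  | ⟨44, _⟩ => t14_233
  | ⟨45, _⟩ => t14_234
  | ⟨46, _⟩ => t14_235
  | ⟨47, _⟩ => t14_236
  | ⟨48, _⟩ => t14_237
  | ⟨49, _⟩ => t14_238
  | ⟨50, _⟩ => t14_239
  | ⟨51, _⟩ => t14_240
  | ⟨52, _⟩ => t14_241
  | ⟨53, _⟩ => t14_242
  | ⟨54, _⟩ => t14_243
  | ⟨55, _⟩ => t14_244
  | ⟨56, _⟩ => t14_245
  | ⟨57, _⟩ => t14_246
  | ⟨58, _⟩ => t14_247
  | ⟨59, _⟩ => t14_248
  | ⟨60, _⟩ => t14_249
  | ⟨61, _⟩ => t14_250
  | ⟨62, _⟩ => t14_251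
  | ⟨n+63, h⟩ => absurd h (by omega)
theorem φ14_rep_c4 : ∀ b : Fin 63, ((φ14 (rep_c4 b) : G14) : Matrix I14 I14 (ZMod 3)) = TM (T14_c4 b)
  | ⟨0, _⟩ => t14_252
  | ⟨1, _⟩ => t14_253
  | ⟨2, _⟩ => t14_254
  | ⟨3, _⟩ => t14_255
  | ⟨4, _⟩ => t14_256
  | ⟨5, _⟩ => t14_257
  | ⟨6, _⟩ => t14_258
  | ⟨7, _⟩ => t14_259
  | ⟨8, _⟩ => t14_260
  | ⟨9, _⟩ => t14_261
  | ⟨10, _⟩ => t14_262
  | ⟨11, _⟩ => t14_263
  | ⟨12, _⟩ => t14_264
  | ⟨13, _⟩ => t14_265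
  | ⟨14, _⟩ => t14_266
  | ⟨15, _⟩ => t14_267
  | ⟨16, _⟩ => t14_268
  | ⟨17, _⟩ => t14_269
  | ⟨18, _⟩ => t14_270
  | ⟨19, _⟩ => t14_271
  | ⟨20, _⟩ => t14_272
  | ⟨21, _⟩ => t14_273
  | ⟨22, _⟩ => t14_274
  | ⟨23, _⟩ => t14_275
  | ⟨24, _⟩ => t14_276
  | ⟨25, _⟩ => t14_277
  | ⟨26, _⟩ => t14_278
  | ⟨27, _⟩ => t14_279
  | ⟨28, _⟩ => t14_280
  | ⟨29, _⟩ => t14_281
  | ⟨30, _⟩ => t14_282
  | ⟨31, _⟩ => t14_283
  | ⟨32, _⟩ => t14_284
  | ⟨33, _⟩ => t14_285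
  | ⟨34, _⟩ => t14_286
  | ⟨35, _⟩ => t14_287
  | ⟨36, _⟩ => t14_288
  | ⟨37, _⟩ => t14_289
  | ⟨38, _⟩ => t14_290
  | ⟨39, _⟩ => t14_291
  | ⟨40, _⟩ => t14_292
  | ⟨41, _⟩ => t14_293
  | ⟨42, _⟩ => t14_294
  | ⟨43, _⟩ => t14_295
  | ⟨44, _⟩ => t14_296
  | ⟨45, _⟩ => t14_297
  | ⟨46, _⟩ => t14_298
  | ⟨47, _⟩ => t14_299
  | ⟨48, _⟩ => t14_300
  | ⟨49, _⟩ => t14_301
  | ⟨50, _⟩ => t14_302
  | ⟨51, _⟩ => t14_303
  | ⟨52, _⟩ => t14_304
  | ⟨53, _⟩ => t14_305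
  | ⟨54, _⟩ => t14_306
  | ⟨55, _⟩ => t14_307
  | ⟨56, _⟩ => t14_308
  | ⟨57, _⟩ => t14_309
  | ⟨58, _⟩ => t14_310
  | ⟨59, _⟩ => t14_311
  | ⟨60, _⟩ => t14_312
  | ⟨61, _⟩ => t14_313
  | ⟨62, _⟩ => t14_314
  | ⟨n+63, h⟩ => absurd h (by omega)
theorem φ14_rep_c5 : ∀ b : Fin 63, ((φ14 (rep_c5 b) : G14) : Matrix I14 I14 (ZMod 3)) = TM (T14_c5 b)
  | ⟨0, _⟩ => t14_315
  | ⟨1, _⟩ => t14_316
  | ⟨2, _⟩ => t14_317
  | ⟨3, _⟩ => t14_318
  | ⟨4, _⟩ => t14_319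
  | ⟨5, _⟩ => t14_320
  | ⟨6, _⟩ => t14_321
  | ⟨7, _⟩ => t14_322
  | ⟨8, _⟩ => t14_323
  | ⟨9, _⟩ => t14_324
  | ⟨10, _⟩ => t14_325
  | ⟨11, _⟩ => t14_326
  | ⟨12, _⟩ => t14_327
  | ⟨13, _⟩ => t14_328
  | ⟨14, _⟩ => t14_329
  | ⟨15, _⟩ => t14_330
  | ⟨16, _⟩ => t14_331
  | ⟨17, _⟩ => t14_332
  | ⟨18, _⟩ => t14_333
  | ⟨19, _⟩ => t14_334
  | ⟨20, _⟩ => t14_335
  | ⟨21, _⟩ => t14_336
  | ⟨22, _⟩ => t14_337
  | ⟨23, _⟩ => t14_338
  | ⟨24, _⟩ => t14_339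
  | ⟨25, _⟩ => t14_340
  | ⟨26, _⟩ => t14_341
  | ⟨27, _⟩ => t14_342
  | ⟨28, _⟩ => t14_343
  | ⟨29, _⟩ => t14_344
  | ⟨30, _⟩ => t14_345
  | ⟨31, _⟩ => t14_346
  | ⟨32, _⟩ => t14_347
  | ⟨33, _⟩ => t14_348
  | ⟨34, _⟩ => t14_349
  | ⟨35, _⟩ => t14_350
  | ⟨36, _⟩ => t14_351
  | ⟨37, _⟩ => t14_352
  | ⟨38, _⟩ => t14_353
  | ⟨39, _⟩ => t14_354
  | ⟨40, _⟩ => t14_355
  | ⟨41, _⟩ => t14_356
  | ⟨42, _⟩ => t14_357
  | ⟨43, _⟩ => t14_358
  | ⟨44, _⟩ => t14_359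
  | ⟨45, _⟩ => t14_360
  | ⟨46, _⟩ => t14_361
  | ⟨47, _⟩ => t14_362
  | ⟨48, _⟩ => t14_363
  | ⟨49, _⟩ => t14_364
  | ⟨50, _⟩ => t14_365
  | ⟨51, _⟩ => t14_366
  | ⟨52, _⟩ => t14_367
  | ⟨53, _⟩ => t14_368
  | ⟨54, _⟩ => t14_369
  | ⟨55, _⟩ => t14_370
  | ⟨56, _⟩ => t14_371
  | ⟨57, _⟩ => t14_372
  | ⟨58, _⟩ => t14_373
  | ⟨59, _⟩ => t14_374
  | ⟨60, _⟩ => t14_375
  | ⟨61, _⟩ => t14_376
  | ⟨62, _⟩ => t14_377
  | ⟨n+63, h⟩ => absurd h (by omega)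
theorem φ14_rep_c6 : ∀ b : Fin 63, ((φ14 (rep_c6 b) : G14) : Matrix I14 I14 (ZMod 3)) = TM (T14_c6 b)
  | ⟨0, _⟩ => t14_378
  | ⟨1, _⟩ => t14_379
  | ⟨2, _⟩ => t14_380
  | ⟨3, _⟩ => t14_381
  | ⟨4, _⟩ => t14_382
  | ⟨5, _⟩ => t14_383
  | ⟨6, _⟩ => t14_384
  | ⟨7, _⟩ => t14_385
  | ⟨8, _⟩ => t14_386
  | ⟨9, _⟩ => t14_387
  | ⟨10, _⟩ => t14_388
  | ⟨11, _⟩ => t14_389
  | ⟨12, _⟩ => t14_390
  | ⟨13, _⟩ => t14_391
  | ⟨14, _⟩ => t14_392
  | ⟨15, _⟩ => t14_393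
  | ⟨16, _⟩ => t14_394
  | ⟨17, _⟩ => t14_395
  | ⟨18, _⟩ => t14_396
  | ⟨19, _⟩ => t14_397
  | ⟨20, _⟩ => t14_398
  | ⟨21, _⟩ => t14_399
  | ⟨22, _⟩ => t14_400
  | ⟨23, _⟩ => t14_401
  | ⟨24, _⟩ => t14_402
  | ⟨25, _⟩ => t14_403
  | ⟨26, _⟩ => t14_404
  | ⟨27, _⟩ => t14_405
  | ⟨28, _⟩ => t14_406
  | ⟨29, _⟩ => t14_407
  | ⟨30, _⟩ => t14_408
  | ⟨31, _⟩ => t14_409
  | ⟨32, _⟩ => t14_410
  | ⟨33, _⟩ => t14_411
  | ⟨34, _⟩ => t14_412
  | ⟨35, _⟩ => t14_413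
  | ⟨36, _⟩ => t14_414
  | ⟨37, _⟩ => t14_415
  | ⟨38, _⟩ => t14_416
  | ⟨39, _⟩ => t14_417
  | ⟨40, _⟩ => t14_418
  | ⟨41, _⟩ => t14_419
  | ⟨42, _⟩ => t14_420
  | ⟨43, _⟩ => t14_421
  | ⟨44, _⟩ => t14_422
  | ⟨45, _⟩ => t14_423
  | ⟨46, _⟩ => t14_424
  | ⟨47, _⟩ => t14_425
  | ⟨48, _⟩ => t14_426
  | ⟨49, _⟩ => t14_427
  | ⟨50, _⟩ => t14_428
  | ⟨51, _⟩ => t14_429
  | ⟨52, _⟩ => t14_430
  | ⟨53, _⟩ => t14_431
  | ⟨54, _⟩ => t14_432
  | ⟨55, _⟩ => t14_433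
  | ⟨56, _⟩ => t14_434
  | ⟨57, _⟩ => t14_435
  | ⟨58, _⟩ => t14_436
  | ⟨59, _⟩ => t14_437
  | ⟨60, _⟩ => t14_438
  | ⟨61, _⟩ => t14_439
  | ⟨62, _⟩ => t14_440
  | ⟨n+63, h⟩ => absurd h (by omega)
theorem φ14_rep_c7 : ∀ b : Fin 63, ((φ14 (rep_c7 b) : G14) : Matrix I14 I14 (ZMod 3)) = TM (T14_c7 b)
  | ⟨0, _⟩ => t14_441
  | ⟨1, _⟩ => t14_442
  | ⟨2, _⟩ => t14_443
  | ⟨3, _⟩ => t14_444
  | ⟨4, _⟩ => t14_445
  | ⟨5, _⟩ => t14_446
  | ⟨6, _⟩ => t14_447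
  | ⟨7, _⟩ => t14_448
  | ⟨8, _⟩ => t14_449
  | ⟨9, _⟩ => t14_450
  | ⟨10, _⟩ => t14_451
  | ⟨11, _⟩ => t14_452
  | ⟨12, _⟩ => t14_453
  | ⟨13, _⟩ => t14_454
  | ⟨14, _⟩ => t14_455
  | ⟨15, _⟩ => t14_456
  | ⟨16, _⟩ => t14_457
  | ⟨17, _⟩ => t14_458
  | ⟨18, _⟩ => t14_459
  | ⟨19, _⟩ => t14_460
  | ⟨20, _⟩ => t14_461
  | ⟨21, _⟩ => t14_462
  | ⟨22, _⟩ => t14_463
  | ⟨23, _⟩ => t14_464
  | ⟨24, _⟩ => t14_465
  | ⟨25, _⟩ => t14_466
  | ⟨26, _⟩ => t14_467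
  | ⟨27, _⟩ => t14_468
  | ⟨28, _⟩ => t14_469
  | ⟨29, _⟩ => t14_470
  | ⟨30, _⟩ => t14_471
  | ⟨31, _⟩ => t14_472
  | ⟨32, _⟩ => t14_473
  | ⟨33, _⟩ => t14_474
  | ⟨34, _⟩ => t14_475
  | ⟨35, _⟩ => t14_476
  | ⟨36, _⟩ => t14_477
  | ⟨37, _⟩ => t14_478
  | ⟨38, _⟩ => t14_479
  | ⟨39, _⟩ => t14_480
  | ⟨40, _⟩ => t14_481
  | ⟨41, _⟩ => t14_482
  | ⟨42, _⟩ => t14_483
  | ⟨43, _⟩ => t14_484
  | ⟨44, _⟩ => t14_485
  | ⟨45, _⟩ => t14_486
  | ⟨46, _⟩ => t14_487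
  | ⟨47, _⟩ => t14_488
  | ⟨48, _⟩ => t14_489
  | ⟨49, _⟩ => t14_490
  | ⟨50, _⟩ => t14_491
  | ⟨51, _⟩ => t14_492
  | ⟨52, _⟩ => t14_493
  | ⟨53, _⟩ => t14_494
  | ⟨54, _⟩ => t14_495
  | ⟨55, _⟩ => t14_496
  | ⟨56, _⟩ => t14_497
  | ⟨57, _⟩ => t14_498
  | ⟨58, _⟩ => t14_499
  | ⟨59, _⟩ => t14_500
  | ⟨60, _⟩ => t14_501
  | ⟨61, _⟩ => t14_502
  | ⟨62, _⟩ => t14_503
  | ⟨n+63, h⟩ => absurd h (by omega)
theorem φ14_rep_ch : ∀ (a : Fin 8) (b : Fin 63), ((φ14 (rep_ch a b) : G14) : Matrix I14 I14 (ZMod 3)) = TM (T14_ch a b)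
  | ⟨0, _⟩ => φ14_rep_c0
  | ⟨1, _⟩ => φ14_rep_c1
  | ⟨2, _⟩ => φ14_rep_c2
  | ⟨3, _⟩ => φ14_rep_c3
  | ⟨4, _⟩ => φ14_rep_c4
  | ⟨5, _⟩ => φ14_rep_c5
  | ⟨6, _⟩ => φ14_rep_c6
  | ⟨7, _⟩ => φ14_rep_c7
  | ⟨n+8, h⟩ => absurd h (by omega)
theorem φ14_rep (i : Idx) : ((φ14 (rep i) : G14) : Matrix I14 I14 (ZMod 3)) = TM (T14 i) :=
  φ14_rep_ch i.1 i.2


theorem φ14_inj : Function.Injective φ14 := by
  rw [injective_iff_map_eq_one]
  intro p hp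
  obtain ⟨i, rfl⟩ := rep_surj p
  have h1 : ((φ14 (rep i) : G14) : Matrix I14 I14 (ZMod 3)) = 1 := by rw [hp]; rfl
  rw [φ14_rep] at h1
  rw [ker14 i h1]
  rfl

/-! ### The element `c` of order three and the generators of the twisted group -/

def cL : List (List ℕ) := [[1, 0, 0, 1, 0, 1, 0, 0, 0, 0, 0, 0, 0, 0], [0, 1, 0, 1, 0, 0, 0, 0, 0, 0, 0, 0, 0, 0], [0, 0, 1, 0, 0, 0, 0, 0, 0, 0, 0, 0, 0, 0], [0, 0, 0, 1, 0, 0, 0, 0, 0, 0, 0, 0, 0, 0], [0, 0, 2, 0, 1, 0, 0, 0, 0, 0, 0, 0, 0, 0], [0, 0, 0, 0, 0, 1, 0, 0, 0, 0, 0, 0, 0, 0], [0, 0, 1, 0, 1, 0, 1, 0, 0, 0, 0, 0, 0, 0], [0, 0, 1, 0, 0, 0, 0, 1, 0, 0, 0, 0, 0, 0], [0, 0, 1, 0, 0, 0, 0, 0, 1, 0, 0, 0, 0, 0], [0, 0, 2, 0, 1, 0, 0, 2, 0, 1, 0, 0, 0, 0], [1, 2, 0, 0, 0, 2, 0, 0, 0, 0, 1, 0, 0, 0], [0, 0, 2, 0, 2, 0, 2, 2, 0, 2, 0, 1, 0, 0], [0, 1, 0, 2, 0, 0, 0, 0, 0, 0, 0, 0, 1, 0], [0, 0, 2, 0, 0, 0, 0, 2, 2, 0, 0, 0, 0, 1]]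
def ciL : List (List ℕ) := [[1, 0, 0, 2, 0, 2, 0, 0, 0, 0, 0, 0, 0, 0], [0, 1, 0, 2, 0, 0, 0, 0, 0, 0, 0, 0, 0, 0], [0, 0, 1, 0, 0, 0, 0, 0, 0, 0, 0, 0, 0, 0], [0, 0, 0, 1, 0, 0, 0, 0, 0, 0, 0, 0, 0, 0], [0, 0, 1, 0, 1, 0, 0, 0, 0, 0, 0, 0, 0, 0], [0, 0, 0, 0, 0, 1, 0, 0, 0, 0, 0, 0, 0, 0], [0, 0, 1, 0, 2, 0, 1, 0, 0, 0, 0, 0, 0, 0], [0, 0, 2, 0, 0, 0, 0, 1, 0, 0, 0, 0, 0, 0], [0, 0, 2, 0, 0, 0, 0, 0, 1, 0, 0, 0, 0, 0], [0, 0, 2, 0, 2, 0, 0, 1, 0, 1, 0, 0, 0, 0], [2, 1, 0, 0, 0, 2, 0, 0, 0, 0, 1, 0, 0, 0], [0, 0, 1, 0, 2, 0, 1, 2, 0, 1, 0, 1, 0, 0], [0, 2, 0, 2, 0, 0, 0, 0, 0, 0, 0, 0, 1, 0], [0, 0, 2, 0, 0, 0, 0, 1, 1, 0, 0, 0, 0, 1]]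
def c2L : List (List ℕ) := [[1, 0, 0, 2, 0, 2, 0, 0, 0, 0, 0, 0, 0, 0], [0, 1, 0, 2, 0, 0, 0, 0, 0, 0, 0, 0, 0, 0], [0, 0, 1, 0, 0, 0, 0, 0, 0, 0, 0, 0, 0, 0], [0, 0, 0, 1, 0, 0, 0, 0, 0, 0, 0, 0, 0, 0], [0, 0, 1, 0, 1, 0, 0, 0, 0, 0, 0, 0, 0, 0], [0, 0, 0, 0, 0, 1, 0, 0, 0, 0, 0, 0, 0, 0], [0, 0, 1, 0, 2, 0, 1, 0, 0, 0, 0, 0, 0, 0], [0, 0, 2, 0, 0, 0, 0, 1, 0, 0, 0, 0, 0, 0], [0, 0, 2, 0, 0, 0, 0, 0, 1, 0, 0, 0, 0, 0], [0, 0, 2, 0, 2, 0, 0, 1, 0, 1, 0, 0, 0, 0], [2, 1, 0, 0, 0, 2, 0, 0, 0, 0, 1, 0, 0, 0], [0, 0, 1, 0, 2, 0, 1, 2, 0, 1, 0, 1, 0, 0], [0, 2, 0, 2, 0, 0, 0, 0, 0, 0, 0, 0, 1, 0], [0, 0, 2, 0, 0, 0, 0, 1, 1, 0, 0, 0, 0, 1]]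

theorem pc1 : TM cL * TM ciL = 1 := by
  rw [TM_mul, ← TM_one]; exact congrArg TM (by decide +kernel)
theorem pc2 : TM ciL * TM cL = 1 := by
  rw [TM_mul, ← TM_one]; exact congrArg TM (by decide +kernel)

def cG : G14 := ⟨TM cL, TM ciL, pc1, pc2⟩

def cP (k : ℕ) : List (List ℕ) := if k = 0 then id14 else if k = 1 then cL else c2L

theorem cpow_val (k : ℕ) (hk : k < 3) :
    ((cG ^ k : G14) : Matrix I14 I14 (ZMod 3)) = TM (cP k) := by
  interval_cases k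
  · rw [pow_zero, Units.val_one]; exact TM_one.symm
  · rw [pow_one]; rfl
  · rw [pow_two, Units.val_mul]
    show TM cL * TM cL = TM c2L
    rw [TM_mul]; exact congrArg TM (by decide +kernel)

def code3 (t u v : ZMod 3) : ℕ := 9 * t.val + 3 * u.val + v.val

def jUL : List Idx := [(0, 0), (0, 5), (0, 2), (0, 0), (0, 5), (0, 2), (0, 0), (0, 5), (0, 2), (7, 26), (6, 57), (5, 62), (7, 26), (6, 57), (5, 62), (7, 26), (6, 57), (5, 62), (4, 46), (3, 56), (5, 47), (4, 46), (3, 56), (5, 47), (4, 46), (3, 56), (5, 47)]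
def kUL : List ℕ := [0, 0, 0, 1, 1, 1, 2, 2, 2, 2, 2, 2, 0, 0, 0, 1, 1, 1, 2, 2, 2, 0, 0, 0, 1, 1, 1]
def jVL : List Idx := [(0, 0), (0, 62), (0, 44), (7, 19), (1, 52), (7, 38), (3, 28), (6, 31), (2, 15), (7, 49), (7, 39), (7, 32), (2, 58), (7, 9), (2, 18), (5, 37), (3, 22), (6, 47), (2, 11), (6, 34), (6, 43), (4, 38), (2, 44), (5, 50), (3, 62), (3, 7), (0, 27)]
def kVL : List ℕ := [0, 0, 0, 1, 1, 1, 2, 2, 2, 2, 2, 2, 0, 0, 0, 1, 1, 1, 2, 2, 2, 0, 0, 0, 1, 1, 1]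

set_option maxRecDepth 100000 in
theorem genU : ∀ t u v : ZMod 3, wordL (Cfsg.Lie.reeWordU 1 t u v) =
    mul14 (T14 (jUL.getD (code3 t u v) (0, 0))) (cP (kUL.getD (code3 t u v) 0)) := by
  decide +kernel

set_option maxRecDepth 100000 in
theorem genV : ∀ t u v : ZMod 3, wordL (Cfsg.Lie.reeWordV 1 t u v) =
    mul14 (T14 (jVL.getD (code3 t u v) (0, 0))) (cP (kVL.getD (code3 t u v) 0)) := by
  decide +kernel

theorem kU_lt : ∀ t u v : ZMod 3, kUL.getD (code3 t u v) 0 < 3 := by decide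
theorem kV_lt : ∀ t u v : ZMod 3, kVL.getD (code3 t u v) 0 < 3 := by decide

theorem gen_mem (g : G14)
    (hg : ∃ w ∈ Cfsg.Lie.g2Words (ZMod 3) 1, (g : Matrix I14 I14 (ZMod 3)) = D.wordMat (ZMod 3) w) :
    g ∈ φ14.range ⊔ Subgroup.zpowers cG := by
  obtain ⟨w, ⟨t, u, v, hw⟩, hg⟩ := hg
  rcases hw with rfl | rfl
  · have h : g = φ14 (rep (jUL.getD (code3 t u v) (0, 0))) * cG ^ (kUL.getD (code3 t u v) 0) := by
      apply Units.ext
      rw [hg, wordMat_eq, genU, Units.val_mul, φ14_rep, cpow_val _ (kU_lt t u v), TM_mul]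
    rw [h]
    exact Subgroup.mul_mem_sup (MonoidHom.mem_range.mpr ⟨_, rfl⟩)
      (Subgroup.pow_mem _ (Subgroup.mem_zpowers cG) _)
  · have h : g = φ14 (rep (jVL.getD (code3 t u v) (0, 0))) * cG ^ (kVL.getD (code3 t u v) 0) := by
      apply Units.ext
      rw [hg, wordMat_eq, genV, Units.val_mul, φ14_rep, cpow_val _ (kV_lt t u v), TM_mul]
    rw [h]
    exact Subgroup.mul_mem_sup (MonoidHom.mem_range.mpr ⟨_, rfl⟩)
      (Subgroup.pow_mem _ (Subgroup.mem_zpowers cG) _)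

abbrev G : Subgroup G14 := Cfsg.Lie.twistedG2 (ZMod 3) 1

theorem G_le : G ≤ φ14.range ⊔ Subgroup.zpowers cG := by
  unfold G Cfsg.Lie.twistedG2 Cfsg.Lie.ChevalleyDatum.genSubgroup
  rw [Subgroup.closure_le]
  intro g hg
  exact gen_mem g hg

/-! ### `c` normalizes the image -/

theorem conj_x : cG * hX * cG⁻¹ = φ14 (rep (5, 1)) := by
  apply Units.ext
  rw [φ14_rep]
  show TM cL * TM LX * TM ciL = _
  rw [TM_mul, TM_mul]; exact congrArg TM (by decide +kernel)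

theorem conj_y : cG * hY * cG⁻¹ = φ14 (rep (0, 2)) := by
  apply Units.ext
  rw [φ14_rep]
  show TM cL * TM LY * TM ciL = _
  rw [TM_mul, TM_mul]; exact congrArg TM (by decide +kernel)

theorem conj_x' : cG⁻¹ * hX * cG = φ14 (rep (5, 45)) := by
  apply Units.ext
  rw [φ14_rep]
  show TM ciL * TM LX * TM cL = _
  rw [TM_mul, TM_mul]; exact congrArg TM (by decide +kernel)

theorem conj_y' : cG⁻¹ * hY * cG = φ14 (rep (0, 2)) := by
  apply Units.ext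
  rw [φ14_rep]
  show TM ciL * TM LY * TM cL = _
  rw [TM_mul, TM_mul]; exact congrArg TM (by decide +kernel)

theorem conj_mem (p : P) : cG * φ14 p * cG⁻¹ ∈ φ14.range := by
  have hgen : ∀ j : Fin 2, (PresentedGroup.of j : P) ∈
      (φ14.range.comap (MulAut.conj cG).toMonoidHom).comap φ14 := by
    intro j
    fin_cases j
    · show cG * φ14 x * cG⁻¹ ∈ φ14.range
      rw [φ14_x, conj_x]; exact ⟨_, rfl⟩
    · show cG * φ14 y * cG⁻¹ ∈ φ14.range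
      rw [φ14_y, conj_y]; exact ⟨_, rfl⟩
  exact PresentedGroup.generated_by rels _ hgen p

theorem conj_mem' (p : P) : cG⁻¹ * φ14 p * cG ∈ φ14.range := by
  have hgen : ∀ j : Fin 2, (PresentedGroup.of j : P) ∈
      (φ14.range.comap (MulAut.conj cG⁻¹).toMonoidHom).comap φ14 := by
    intro j
    fin_cases j
    · show cG⁻¹ * φ14 x * cG⁻¹⁻¹ ∈ φ14.range
      rw [inv_inv, φ14_x, conj_x']; exact ⟨_, rfl⟩
    · show cG⁻¹ * φ14 y * cG⁻¹⁻¹ ∈ φ14.range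
      rw [inv_inv, φ14_y, conj_y']; exact ⟨_, rfl⟩
  have h := PresentedGroup.generated_by rels _ hgen p
  have h2 : cG⁻¹ * φ14 p * cG⁻¹⁻¹ ∈ φ14.range := h
  rw [inv_inv] at h2
  exact h2

theorem c_norm : cG ∈ Subgroup.normalizer (φ14.range : Set G14) := by
  rw [Subgroup.mem_normalizer_iff]
  intro h
  constructor
  · rintro ⟨p, rfl⟩
    exact conj_mem p
  · rintro ⟨p, hp⟩
    have h1 := conj_mem' p
    rw [hp] at h1
    have e : cG⁻¹ * (cG * h * cG⁻¹) * cG = h := by group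
    rw [e] at h1
    exact h1

/-! ### The image lies in the twisted group and is perfect -/

theorem mem_of_wordU (g : G14) (t u v : ZMod 3)
    (h : (g : Matrix I14 I14 (ZMod 3)) = TM (wordL (Cfsg.Lie.reeWordU 1 t u v))) : g ∈ G := by
  unfold G Cfsg.Lie.twistedG2 Cfsg.Lie.ChevalleyDatum.genSubgroup
  exact Subgroup.subset_closure ⟨_, ⟨t, u, v, Or.inl rfl⟩, h.trans (wordMat_eq _).symm⟩

theorem mem_of_wordV (g : G14) (t u v : ZMod 3)
    (h : (g : Matrix I14 I14 (ZMod 3)) = TM (wordL (Cfsg.Lie.reeWordV 1 t u v))) : g ∈ G := by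
  unfold G Cfsg.Lie.twistedG2 Cfsg.Lie.ChevalleyDatum.genSubgroup
  exact Subgroup.subset_closure ⟨_, ⟨t, u, v, Or.inr rfl⟩, h.trans (wordMat_eq _).symm⟩

def uL : List (List ℕ) := [[1, 0, 2, 2, 2, 0, 1, 0, 0, 0, 0, 0, 0, 0], [0, 1, 2, 0, 0, 0, 0, 1, 0, 0, 0, 0, 0, 0], [0, 0, 1, 0, 0, 0, 0, 0, 0, 0, 0, 0, 0, 0], [0, 0, 2, 1, 0, 0, 0, 0, 0, 0, 0, 0, 0, 0], [0, 0, 0, 2, 1, 0, 0, 0, 0, 0, 0, 0, 0, 0], [0, 0, 1, 2, 2, 1, 0, 0, 0, 0, 0, 0, 0, 0], [0, 0, 2, 2, 1, 2, 1, 0, 0, 0, 0, 0, 0, 0], [0, 0, 1, 2, 0, 0, 0, 1, 0, 0, 0, 0, 0, 0], [0, 1, 0, 1, 0, 0, 0, 2, 1, 0, 0, 0, 0, 0], [1, 1, 2, 1, 0, 1, 2, 0, 0, 1, 0, 0, 0, 0], [1, 1, 2, 0, 2, 1, 1, 0, 2, 1, 1, 0, 0, 0], [2, 0, 1, 2, 1, 1, 1, 0, 1, 0, 1, 1, 0, 0], [0, 1, 2, 1, 0, 0, 0, 1, 1, 0, 0, 0, 1, 0], [0, 2, 1, 1, 0, 0, 0, 1, 0, 0, 0, 0, 1, 1]]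
def uiL : List (List ℕ) := [[1, 0, 1, 0, 1, 2, 2, 0, 0, 0, 0, 0, 0, 0], [0, 1, 1, 2, 0, 0, 0, 2, 0, 0, 0, 0, 0, 0], [0, 0, 1, 0, 0, 0, 0, 0, 0, 0, 0, 0, 0, 0], [0, 0, 1, 1, 0, 0, 0, 0, 0, 0, 0, 0, 0, 0], [0, 0, 1, 1, 1, 0, 0, 0, 0, 0, 0, 0, 0, 0], [0, 0, 1, 2, 1, 1, 0, 0, 0, 0, 0, 0, 0, 0], [0, 0, 2, 2, 0, 1, 1, 0, 0, 0, 0, 0, 0, 0], [0, 0, 0, 1, 0, 0, 0, 1, 0, 0, 0, 0, 0, 0], [0, 2, 1, 1, 0, 0, 0, 2, 1, 0, 0, 0, 0, 0], [2, 2, 2, 0, 1, 1, 2, 1, 0, 1, 0, 0, 0, 0], [0, 2, 2, 2, 1, 1, 1, 2, 1, 2, 1, 0, 0, 0], [1, 2, 0, 2, 1, 2, 0, 2, 1, 1, 2, 1, 0, 0], [0, 0, 1, 1, 0, 0, 0, 1, 2, 0, 0, 0, 1, 0], [0, 1, 1, 2, 0, 0, 0, 0, 1, 0, 0, 0, 2, 1]]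
def vL : List (List ℕ) := [[1, 0, 0, 0, 0, 0, 0, 0, 0, 1, 2, 1, 1, 2], [0, 1, 0, 0, 0, 0, 0, 0, 1, 0, 0, 0, 2, 1], [0, 1, 1, 1, 0, 0, 0, 1, 2, 0, 0, 0, 1, 2], [0, 0, 0, 1, 0, 0, 0, 1, 1, 0, 0, 0, 2, 0], [1, 1, 0, 0, 1, 1, 1, 1, 2, 2, 1, 2, 0, 0], [0, 2, 0, 0, 0, 1, 1, 2, 1, 1, 2, 0, 1, 2], [1, 1, 0, 0, 0, 0, 1, 0, 1, 2, 0, 0, 2, 0], [0, 1, 0, 0, 0, 0, 0, 1, 2, 0, 0, 0, 0, 0], [0, 0, 0, 0, 0, 0, 0, 0, 1, 0, 0, 0, 2, 0], [0, 0, 0, 0, 0, 0, 0, 0, 0, 1, 2, 0, 2, 1], [0, 0, 0, 0, 0, 0, 0, 0, 0, 0, 1, 2, 2, 0], [0, 0, 0, 0, 0, 0, 0, 0, 0, 0, 0, 1, 2, 1], [0, 0, 0, 0, 0, 0, 0, 0, 0, 0, 0, 0, 1, 2], [0, 0, 0, 0, 0, 0, 0, 0, 0, 0, 0, 0, 0, 1]]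
def viL : List (List ℕ) := [[1, 0, 0, 0, 0, 0, 0, 0, 0, 2, 0, 2, 0, 0], [0, 1, 0, 0, 0, 0, 0, 0, 2, 0, 0, 0, 0, 2], [0, 2, 1, 2, 0, 0, 0, 0, 0, 0, 0, 0, 0, 2], [0, 1, 0, 1, 0, 0, 0, 2, 0, 0, 0, 0, 2, 1], [2, 0, 0, 0, 1, 2, 0, 1, 0, 0, 0, 2, 1, 0], [1, 1, 0, 0, 0, 1, 2, 1, 0, 0, 2, 1, 1, 1], [2, 2, 0, 0, 0, 0, 1, 0, 0, 2, 1, 2, 0, 2], [0, 2, 0, 0, 0, 0, 0, 1, 2, 0, 0, 0, 1, 2], [0, 0, 0, 0, 0, 0, 0, 0, 1, 0, 0, 0, 1, 1], [0, 0, 0, 0, 0, 0, 0, 0, 0, 1, 1, 1, 0, 1], [0, 0, 0, 0, 0, 0, 0, 0, 0, 0, 1, 1, 2, 1], [0, 0, 0, 0, 0, 0, 0, 0, 0, 0, 0, 1, 1, 0], [0, 0, 0, 0, 0, 0, 0, 0, 0, 0, 0, 0, 1, 1], [0, 0, 0, 0, 0, 0, 0, 0, 0, 0, 0, 0, 0, 1]]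

theorem pu1 : TM uL * TM uiL = 1 := by
  rw [TM_mul, ← TM_one]; exact congrArg TM (by decide +kernel)
theorem pu2 : TM uiL * TM uL = 1 := by
  rw [TM_mul, ← TM_one]; exact congrArg TM (by decide +kernel)
theorem pv1 : TM vL * TM viL = 1 := by
  rw [TM_mul, ← TM_one]; exact congrArg TM (by decide +kernel)
theorem pv2 : TM viL * TM vL = 1 := by
  rw [TM_mul, ← TM_one]; exact congrArg TM (by decide +kernel)

def uG : G14 := ⟨TM uL, TM uiL, pu1, pu2⟩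
def vG : G14 := ⟨TM vL, TM viL, pv1, pv2⟩

theorem uG_mem : uG ∈ G :=
  mem_of_wordU uG 1 0 1 (congrArg TM (by decide +kernel))

theorem vG_mem : vG ∈ G :=
  mem_of_wordV vG 1 2 1 (congrArg TM (by decide +kernel))

theorem hX_eq : hX = uG * vG := by
  apply Units.ext
  show TM LX = TM uL * TM vL
  rw [TM_mul]; exact congrArg TM (by decide +kernel)

theorem hX_mem : hX ∈ G := by
  rw [hX_eq]; exact mul_mem uG_mem vG_mem

theorem hY_mem : hY ∈ G :=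
  mem_of_wordU hY 0 0 2 (congrArg TM (by decide +kernel))

theorem H_le : φ14.range ≤ G := by
  rintro _ ⟨p, rfl⟩
  have hgen : ∀ j : Fin 2, (PresentedGroup.of j : P) ∈ G.comap φ14 := by
    intro j
    fin_cases j
    · show φ14 x ∈ G
      rw [φ14_x]; exact hX_mem
    · show φ14 y ∈ G
      rw [φ14_y]; exact hY_mem
  exact PresentedGroup.generated_by rels _ hgen p

theorem mulrep_51_132 : r51 * r132 = r480 := by
  have hb : r132 = x * y * y * x * y * x * y * y * x * y * x * y := by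
    simp only [r132, r104, r84, r64, r48, r34, r24, r17, r11, r7, r3, r1, r0, one_mul]
  have h2 : r51 * (x * y * y * x * y * x * y * y * x * y * x * y) = r480 := by
    try simp only [← mul_assoc]
    simp only [e_51_x, e_66_y, e_86_y, e_109_x, e_137_y, e_174_x, e_214_y, e_264_y, e_322_x, e_386_y, e_442_x, e_453_y]
  exact (congrArg (fun t => r51 * t) hb).trans h2
theorem mulrep_1_132 : r1 * r132 = r118 := by
  have hb : r132 = x * y * y * x * y * x * y * y * x * y * x * y := by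
    simp only [r132, r104, r84, r64, r48, r34, r24, r17, r11, r7, r3, r1, r0, one_mul]
  have h2 : r1 * (x * y * y * x * y * x * y * y * x * y * x * y) = r118 := by
    try simp only [← mul_assoc]
    simp only [e_1_x, e_0_y, e_2_y, e_5_x, e_9_y, e_14_x, e_20_y, e_29_y, e_41_x, e_56_y, e_74_x, e_93_y]
  exact (congrArg (fun t => r1 * t) hb).trans h2
theorem mulrep_118_51 : r118 * r51 = r480 := by
  have hb : r51 = y * x * y * x * y * x * y * y := by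
    simp only [r51, r36, r26, r18, r12, r8, r4, r2, r0, one_mul]
  have h2 : r118 * (y * x * y * x * y * x * y * y) = r480 := by
    try simp only [← mul_assoc]
    simp only [e_118_y, e_149_x, e_187_y, e_233_x, e_282_y, e_342_x, e_407_y, e_453_y]
  exact (congrArg (fun t => r118 * t) hb).trans h2
theorem mulrep_303_2 : r303 * r2 = r368 := by
  have hb : r2 = y := by
    simp only [r2, r0, one_mul]
  have h2 : r303 * (y) = r368 := by
    try simp only [← mul_assoc]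
    simp only [e_303_y]
  exact (congrArg (fun t => r303 * t) hb).trans h2
theorem mulrep_2_2 : r2 * r2 = r5 := by
  have hb : r2 = y := by
    simp only [r2, r0, one_mul]
  have h2 : r2 * (y) = r5 := by
    try simp only [← mul_assoc]
    simp only [e_2_y]
  exact (congrArg (fun t => r2 * t) hb).trans h2
theorem mulrep_5_303 : r5 * r303 = r368 := by
  have hb : r303 = x * y * x * y * y * x * y * y * x * y * x * y * x * y * y * x := by
    simp only [r303, r251, r202, r162, r130, r102, r81, r62, r46, r33, r23, r16, r10, r6, r3, r1, r0, one_mul]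
  have h2 : r5 * (x * y * x * y * y * x * y * y * x * y * x * y * x * y * y * x) = r368 := by
    try simp only [← mul_assoc]
    simp only [e_5_x, e_9_y, e_14_x, e_20_y, e_29_y, e_41_x, e_56_y, e_74_y, e_94_x, e_119_y, e_150_x, e_188_y, e_234_x, e_284_y, e_344_y, e_411_x]
  exact (congrArg (fun t => r5 * t) hb).trans h2

theorem comm_x : ⁅r51, r132⁆ = x := by
  have ht : x = r1 := by simp only [r1, r0, one_mul]
  have h : r51 * r132 = x * r132 * r51 := by rw [ht, mulrep_51_132, mulrep_1_132, mulrep_118_51]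
  rw [commutatorElement_def, h]
  group

theorem comm_y : ⁅r303, r2⁆ = y := by
  have ht : y = r2 := by simp only [r2, r0, one_mul]
  have h : r303 * r2 = y * r2 * r303 := by rw [ht, mulrep_303_2, mulrep_2_2, mulrep_5_303]
  rw [commutatorElement_def, h]
  group

theorem H_perf : φ14.range ≤ ⁅G, G⁆ := by
  rintro _ ⟨p, rfl⟩
  have hgen : ∀ j : Fin 2, (PresentedGroup.of j : P) ∈ (⁅G, G⁆).comap φ14 := by
    intro j
    fin_cases j
    · show φ14 x ∈ ⁅G, G⁆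
      rw [← comm_x, map_commutatorElement]
      exact Subgroup.commutator_mem_commutator (H_le ⟨_, rfl⟩) (H_le ⟨_, rfl⟩)
    · show φ14 y ∈ ⁅G, G⁆
      rw [← comm_y, map_commutatorElement]
      exact Subgroup.commutator_mem_commutator (H_le ⟨_, rfl⟩) (H_le ⟨_, rfl⟩)
  exact PresentedGroup.generated_by rels _ hgen p

theorem comm_eq : ⁅G, G⁆ = φ14.range :=
  le_antisymm ((Subgroup.commutator_mono G_le G_le).trans (comm_le _ _ c_norm)) H_perf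

/-- The derived subgroup is the presented group. -/
theorem iso_P : Nonempty (↥(commutator ↥G) ≃* P) := by
  have hmap : (commutator ↥G).map G.subtype = φ14.range :=
    (Subgroup.map_subtype_commutator G).trans comm_eq
  exact ⟨((commutator ↥G).equivMapOfInjective G.subtype (Subgroup.subtype_injective G)).trans
    ((MulEquiv.subgroupCongr hmap).trans (MonoidHom.ofInjective φ14_inj).symm)⟩

/-- The derived subgroup of ²G₂(3) (θ = identity over the field with three elements) has order 504 = 1512/3 and is isomorphic to PSL₂ over the field with eight elements. -/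
theorem result {L : Type*} [Field L] [Fintype L] (hL : Fintype.card L = 8) :
    Nat.card ↥(commutator ↥(Cfsg.Lie.twistedG2 (ZMod 3) 1)) = 504 ∧
      Nonempty (↥(commutator ↥(Cfsg.Lie.twistedG2 (ZMod 3) 1)) ≃* Matrix.ProjectiveSpecialLinearGroup (Fin 2) L) := by
  obtain ⟨e⟩ := iso_P
  obtain ⟨e2⟩ := iso_PSL hL
  exact ⟨(Nat.card_congr e.toEquiv).trans card_P, ⟨e.trans e2⟩⟩

end Cfsg.Agent.S1075
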