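import Cfsg.Statements.S1159
import Mathlib
import Cfsg.Agent.Lib.Helper42.ReeSpStmt
import Cfsg.Agent.Lib.Helper42.ReeRaw
import Cfsg.Agent.Lib.Helper95.ReeSpTRA
import Cfsg.Agent.Lib.Helper90.ReeSpTR9
import Cfsg.Agent.Lib.Helper90.ReeSpTRI
import Cfsg.Agent.Lib.Helper95.ReeSpTRH
import Cfsg.Agent.Lib.Helper72.ReeSpTRAA
import Cfsg.Agent.Lib.Helper93.ReeSpTISYL
import Cfsg.Agent.Lib.Helper4.ReeSpSYL
import Cfsg.Agent.Lib.Helper74.ReeSpTHREE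
import Cfsg.Agent.Lib.Helper97.ReeSpEVEN
import Cfsg.Agent.Lib.Helper33.ReeSpODDH
import Cfsg.Agent.Lib.Helper97.ReeSpODDA
import Cfsg.Agent.Lib.Helper67.ReeSpEXIST
import Cfsg.Agent.Lib.Helper77.ReeSpRC1
import Cfsg.Agent.Lib.Helper38.ReeSpRC2
import Cfsg.Agent.Lib.Helper15.ReeSpHALL
import Cfsg.Agent.Lib.Helper4.ReeSpNH
import Cfsg.Agent.Lib.Helper74.ReeSpNA
import Cfsg.Agent.Lib.Helper33.ReeSpC3
import Cfsg.Agent.Lib.Helper33.ReeSpC2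
import Cfsg.Agent.Lib.Helper66.ReeSpC6
import Cfsg.Agent.Lib.Helper4.ReeSpCT1
import Cfsg.Agent.Lib.Helper65.ReeSpCT2
import Cfsg.Agent.Lib.Helper67.ReeSpCE
import Cfsg.Agent.Lib.Helper7.ReeSpCP
import Cfsg.Agent.Lib.Helper7.ReeSpORB
import Cfsg.Agent.Lib.Helper93.ReeSpDIO
import Cfsg.Agent.Lib.Helper15.ReeSpASM

set_option autoImplicit false
open Cfsg

namespace Cfsg.Agent.S1159

/-- In the small Ree group ²G₂(q), q = 3^(2m+1) with m ≥ 1, realised as G¹ inside the Chevalley group G₂ over the field with q elements (θ the 3^m-th power map), with `r = 3^(m+1)`: a natural number is the order of an element of `G¹` iff it divides one of `6`, `9`, `q - 1`, `(q + 1)/2`, `q - r + 1`, `q + r + 1`. -/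
theorem result {K : Type*} [Field K] [Fintype K] {m : ℕ} (hm : 1 ≤ m) (hK : Fintype.card K = 3 ^ (2 * m + 1)) (d : ℕ) :
    (∃ g : ↥(Cfsg.Lie.twistedG2 K (3 ^ m)), orderOf g = d) ↔
      (d ∣ 6 ∨ d ∣ 9 ∨ d ∣ 3 ^ (2 * m + 1) - 1 ∨ d ∣ (3 ^ (2 * m + 1) + 1) / 2 ∨
        d ∣ 3 ^ (2 * m + 1) - 3 ^ (m + 1) + 1 ∨ d ∣ 3 ^ (2 * m + 1) + 3 ^ (m + 1) + 1) := by
  exact Cfsg.Agent.Lib.Helper42.ReeSpStmt.spec_of_raw
    Cfsg.Agent.Lib.Helper95.ReeSpTRA.main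
    Cfsg.Agent.Lib.Helper90.ReeSpTR9.main
    Cfsg.Agent.Lib.Helper90.ReeSpTRI.main
    Cfsg.Agent.Lib.Helper95.ReeSpTRH.main
    Cfsg.Agent.Lib.Helper72.ReeSpTRAA.main
    Cfsg.Agent.Lib.Helper93.ReeSpTISYL.main
    Cfsg.Agent.Lib.Helper4.ReeSpSYL.main
    Cfsg.Agent.Lib.Helper74.ReeSpTHREE.main
    Cfsg.Agent.Lib.Helper97.ReeSpEVEN.main
    Cfsg.Agent.Lib.Helper33.ReeSpODDH.main
    Cfsg.Agent.Lib.Helper97.ReeSpODDA.main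
    Cfsg.Agent.Lib.Helper67.ReeSpEXIST.main
    Cfsg.Agent.Lib.Helper77.ReeSpRC1.main
    Cfsg.Agent.Lib.Helper38.ReeSpRC2.main
    Cfsg.Agent.Lib.Helper15.ReeSpHALL.main
    Cfsg.Agent.Lib.Helper4.ReeSpNH.main
    Cfsg.Agent.Lib.Helper74.ReeSpNA.main
    Cfsg.Agent.Lib.Helper33.ReeSpC3.main
    Cfsg.Agent.Lib.Helper33.ReeSpC2.main
    Cfsg.Agent.Lib.Helper66.ReeSpC6.main
    Cfsg.Agent.Lib.Helper4.ReeSpCT1.main
    Cfsg.Agent.Lib.Helper65.ReeSpCT2.main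
    Cfsg.Agent.Lib.Helper67.ReeSpCE.main
    Cfsg.Agent.Lib.Helper7.ReeSpCP.main
    Cfsg.Agent.Lib.Helper7.ReeSpORB.main
    Cfsg.Agent.Lib.Helper93.ReeSpDIO.main
    Cfsg.Agent.Lib.Helper15.ReeSpASM.main
    (Cfsg.Agent.Lib.Helper42.ReeRaw.raw hm hK) d

end Cfsg.Agent.S1159
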