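import Cfsg.Statements.S1168
import Mathlib

set_option autoImplicit false
open Cfsg

namespace Cfsg.Agent.S1168

section aux

variable {F : Type*} [Field F] {α : Type*} [Fintype α]

/-- functions representable as `x ↦ ∑ c p * (m p.1 x * m p.2 x)` -/
def Rep (m : α → F → F) (f : F → F) : Prop :=
  ∃ c : α × α → F, ∀ x, f x = ∑ p : α × α, c p * (m p.1 x * m p.2 x)

lemma rep_sum (m : α → F → F) {ι : Type*} (S : Finset ι) (f : ι → F → F)
    (h : ∀ i ∈ S, Rep m (f i)) : Rep m (fun x => ∑ i ∈ S, f i x) := by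
  classical
  have h' : ∀ i : ι, ∃ c : α × α → F, i ∈ S → ∀ x, f i x = ∑ p : α × α, c p * (m p.1 x * m p.2 x) := by
    intro i
    by_cases hi : i ∈ S
    · obtain ⟨c, hc⟩ := h i hi
      exact ⟨c, fun _ => hc⟩
    · exact ⟨0, fun h => absurd h hi⟩
  choose c hc using h'
  refine ⟨fun p => ∑ i ∈ S, c i p, fun x => ?_⟩
  simp only [Finset.sum_mul]
  rw [Finset.sum_comm]
  exact Finset.sum_congr rfl fun i hi => hc i hi x

lemma rep_add (m : α → F → F) {f g : F → F} (hf : Rep m f) (hg : Rep m g) :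
    Rep m (fun x => f x + g x) := by
  obtain ⟨c, hc⟩ := hf
  obtain ⟨d, hd⟩ := hg
  refine ⟨fun p => c p + d p, fun x => ?_⟩
  simp only [add_mul, Finset.sum_add_distrib, hc x, hd x]

lemma rep_prod (m : α → F → F) (h k : α → F) (w : F) :
    Rep m (fun x => (∑ σ, m σ x * h σ) * (∑ τ, m τ x * k τ) * w) := by
  refine ⟨fun p => h p.1 * k p.2 * w, fun x => ?_⟩
  show (∑ σ, m σ x * h σ) * (∑ τ, m τ x * k τ) * w
      = ∑ p : α × α, (h p.1 * k p.2 * w) * (m p.1 x * m p.2 x)
  rw [Fintype.sum_prod_type, Finset.sum_mul_sum, Finset.sum_mul]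
  refine Finset.sum_congr rfl fun σ _ => ?_
  rw [Finset.sum_mul]
  exact Finset.sum_congr rfl fun τ _ => by ring

end aux


/-- For a finite field `F` of characteristic 2: if `q : F → F` is quadratic over the prime field, i.e. `(x, y) ↦ q (x + y) + q x + q y` is additive in each variable, then `q x = Σ c_{σ,τ} σ(x) τ(x)` for some coefficients indexed by pairs of field automorphisms. -/
theorem result {F : Type*} [Field F] [Fintype F] [CharP F 2]
    (q : F → F)
    (hq : ∀ x y z : F, q (x + y + z) + q (x + y) + q (x + z) + q (y + z) + q x + q y + q z = 0) :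
    ∃ (s : Finset ((F ≃+* F) × (F ≃+* F))) (c : (F ≃+* F) × (F ≃+* F) → F),
      ∀ x : F, q x = ∑ p ∈ s, c p * (p.1 x * p.2 x) := by
  classical
  let _ : Algebra (ZMod 2) F := ZMod.algebra F 2
  have h2 : (2 : F) = 0 := CharTwo.two_eq_zero
  have q0 : q 0 = 0 := by
    have := hq 0 0 0
    simp only [add_zero] at this
    linear_combination this - 3 * q 0 * h2
  obtain ⟨B, hB⟩ : ∃ B : F → F → F, B = fun u v => q (u + v) + q u + q v := ⟨_, rfl⟩
  have B_zero_right : ∀ u, B u 0 = 0 := by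
    intro u; simp only [hB, add_zero, q0]; linear_combination q u * h2
  have B_zero_left : ∀ v, B 0 v = 0 := by
    intro v; simp only [hB, zero_add, q0, add_zero]; linear_combination q v * h2
  have B_add : ∀ u v w, B u (v + w) = B u v + B u w := by
    intro u v w
    simp only [hB]
    have := hq u v w
    rw [← add_assoc]
    linear_combination this - (q (u + v) + q (u + w) + q u + q v + q w) * h2
  have B_sum : ∀ (u : F) (S : Finset ℕ) (f : ℕ → F), B u (∑ j ∈ S, f j) = ∑ j ∈ S, B u (f j) := by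
    intro u S f
    induction S using Finset.induction_on with
    | empty => simp [B_zero_right]
    | insert a S ha ih => rw [Finset.sum_insert ha, Finset.sum_insert ha, B_add, ih]
  have q_add : ∀ u y, q (y + u) = q y + q u + B u y := by
    intro u y
    simp only [hB]
    rw [add_comm y u]
    linear_combination -(q u + q y) * h2
  have ht : ∀ a : ZMod 2, a = 0 ∨ a = 1 := by decide
  have hq1 : ∀ (a : ZMod 2) (v : F),
      q (a • v) = algebraMap (ZMod 2) F a * algebraMap (ZMod 2) F a * q v := by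
    intro a v; rcases ht a with rfl | rfl <;> simp [q0]
  have hB1 : ∀ (a c : ZMod 2) (u v : F),
      B (a • u) (c • v) = algebraMap (ZMod 2) F a * algebraMap (ZMod 2) F c * B u v := by
    intro a c u v
    rcases ht a with rfl | rfl <;> rcases ht c with rfl | rfl <;> simp [B_zero_left, B_zero_right]
  have key : ∀ (t : ℕ → ZMod 2) (e : ℕ → F) (k : ℕ),
      q (∑ i ∈ Finset.range k, t i • e i) =
        ∑ i ∈ Finset.range k, algebraMap (ZMod 2) F (t i) * algebraMap (ZMod 2) F (t i) * q (e i) +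
        ∑ i ∈ Finset.range k, ∑ j ∈ Finset.range i,
          algebraMap (ZMod 2) F (t i) * algebraMap (ZMod 2) F (t j) * B (e i) (e j) := by
    intro t e k
    induction k with
    | zero => simp [q0]
    | succ k ih =>
      rw [Finset.sum_range_succ, q_add, ih, Finset.sum_range_succ, Finset.sum_range_succ, B_sum, hq1]
      simp only [hB1]
      ring
  -- trace-dual coordinates
  set n := Module.finrank (ZMod 2) F with hn
  let b : Module.Basis (Fin n) (ZMod 2) F := Module.finBasis (ZMod 2) F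
  have hnd := traceForm_nondegenerate (ZMod 2) F
  let d := (Algebra.traceForm (ZMod 2) F).dualBasis hnd b
  let bb : ℕ → F := fun i => if h : i < n then b ⟨i, h⟩ else 0
  let ee : ℕ → F := fun i => if h : i < n then d ⟨i, h⟩ else 0
  have hx : ∀ x : F, x = ∑ i ∈ Finset.range n, (Algebra.trace (ZMod 2) F (x * bb i)) • ee i := by
    intro x
    rw [Finset.sum_range]
    have := d.sum_repr x
    conv_lhs => rw [← this]
    apply Finset.sum_congr rfl
    intro i _
    simp only [bb, ee, Fin.is_lt, dite_true, Fin.eta]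
    rw [LinearMap.BilinForm.dualBasis_repr_apply, Algebra.traceForm_apply]
  have htr : ∀ y : F, algebraMap (ZMod 2) F (Algebra.trace (ZMod 2) F y)
      = ∑ σ : F ≃ₐ[ZMod 2] F, σ y := fun y => trace_eq_sum_automorphisms y
  -- representation over the Galois group
  have hrep : Rep (fun (σ : F ≃ₐ[ZMod 2] F) (x : F) => σ x) q := by
    have h1 : ∀ x, q x =
        ∑ i ∈ Finset.range n, (∑ σ : F ≃ₐ[ZMod 2] F, σ x * σ (bb i)) *
          (∑ σ : F ≃ₐ[ZMod 2] F, σ x * σ (bb i)) * q (ee i) +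
        ∑ i ∈ Finset.range n, ∑ j ∈ Finset.range i, (∑ σ : F ≃ₐ[ZMod 2] F, σ x * σ (bb i)) *
          (∑ σ : F ≃ₐ[ZMod 2] F, σ x * σ (bb j)) * B (ee i) (ee j) := by
      intro x
      conv_lhs => rw [hx x]
      rw [key]
      simp only [htr, map_mul]
    have hT : ∀ u v w : F, Rep (fun (σ : F ≃ₐ[ZMod 2] F) (x : F) => σ x)
        (fun x => (∑ σ : F ≃ₐ[ZMod 2] F, σ x * σ u) * (∑ σ : F ≃ₐ[ZMod 2] F, σ x * σ v) * w) :=
      fun u v w => rep_prod (fun (σ : F ≃ₐ[ZMod 2] F) (x : F) => σ x) (fun σ => σ u) (fun σ => σ v) w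
    have hR1 : Rep (fun (σ : F ≃ₐ[ZMod 2] F) (x : F) => σ x)
        (fun x => ∑ i ∈ Finset.range n, (∑ σ : F ≃ₐ[ZMod 2] F, σ x * σ (bb i)) *
          (∑ σ : F ≃ₐ[ZMod 2] F, σ x * σ (bb i)) * q (ee i)) :=
      rep_sum (fun (σ : F ≃ₐ[ZMod 2] F) (x : F) => σ x) (Finset.range n)
        (fun i x => (∑ σ : F ≃ₐ[ZMod 2] F, σ x * σ (bb i)) *
          (∑ σ : F ≃ₐ[ZMod 2] F, σ x * σ (bb i)) * q (ee i))
        (fun i _ => hT (bb i) (bb i) (q (ee i)))
    have hR2 : Rep (fun (σ : F ≃ₐ[ZMod 2] F) (x : F) => σ x)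
        (fun x => ∑ i ∈ Finset.range n, ∑ j ∈ Finset.range i,
          (∑ σ : F ≃ₐ[ZMod 2] F, σ x * σ (bb i)) *
          (∑ σ : F ≃ₐ[ZMod 2] F, σ x * σ (bb j)) * B (ee i) (ee j)) :=
      rep_sum (fun (σ : F ≃ₐ[ZMod 2] F) (x : F) => σ x) (Finset.range n)
        (fun i x => ∑ j ∈ Finset.range i, (∑ σ : F ≃ₐ[ZMod 2] F, σ x * σ (bb i)) *
          (∑ σ : F ≃ₐ[ZMod 2] F, σ x * σ (bb j)) * B (ee i) (ee j))
        (fun i _ => rep_sum (fun (σ : F ≃ₐ[ZMod 2] F) (x : F) => σ x) (Finset.range i)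
          (fun j x => (∑ σ : F ≃ₐ[ZMod 2] F, σ x * σ (bb i)) *
            (∑ σ : F ≃ₐ[ZMod 2] F, σ x * σ (bb j)) * B (ee i) (ee j))
          (fun j _ => hT (bb i) (bb j) (B (ee i) (ee j))))
    have h3 := rep_add (fun (σ : F ≃ₐ[ZMod 2] F) (x : F) => σ x) hR1 hR2
    obtain ⟨c, hc⟩ := h3
    exact ⟨c, fun x => by rw [h1 x]; exact hc x⟩
  obtain ⟨c, hc⟩ := hrep
  -- transport to ring automorphisms
  have hψ : ∀ f : F ≃+* F, ∀ r : ZMod 2, f (algebraMap (ZMod 2) F r) = algebraMap (ZMod 2) F r := by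
    intro f r
    have : (f : F →+* F).comp (algebraMap (ZMod 2) F) = algebraMap (ZMod 2) F :=
      Subsingleton.elim _ _
    exact RingHom.congr_fun this r
  let ψ : (F ≃+* F) → (F ≃ₐ[ZMod 2] F) := fun f => AlgEquiv.ofRingEquiv (f := f) (hψ f)
  have hψ1 : ∀ σ : F ≃ₐ[ZMod 2] F, ψ σ.toRingEquiv = σ := by
    intro σ; ext x; rfl
  let g : (F ≃ₐ[ZMod 2] F) × (F ≃ₐ[ZMod 2] F) → (F ≃+* F) × (F ≃+* F) :=
    fun p => (p.1.toRingEquiv, p.2.toRingEquiv)
  have hg : ∀ p ∈ (Finset.univ : Finset ((F ≃ₐ[ZMod 2] F) × (F ≃ₐ[ZMod 2] F))),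
      ∀ p' ∈ (Finset.univ : Finset ((F ≃ₐ[ZMod 2] F) × (F ≃ₐ[ZMod 2] F))), g p = g p' → p = p' := by
    intro p _ p' _ h
    have h1 := congrArg (fun r => ψ r.1) h
    have h2 := congrArg (fun r => ψ r.2) h
    simp only [g, hψ1] at h1 h2
    exact Prod.ext h1 h2
  refine ⟨Finset.univ.image g, fun p => c (ψ p.1, ψ p.2), fun x => ?_⟩
  rw [Finset.sum_image hg, hc x]
  apply Finset.sum_congr rfl
  intro p _
  simp only [g, hψ1]
  rfl

end Cfsg.Agent.S1168
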