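import Cfsg.Statements.S1249

set_option autoImplicit false
open Cfsg

namespace Cfsg.Agent.S1249

/-- Let P and Q be Sylow p-subgroups of the finite group G both containing the subgroup A. If A is strongly closed in P, then A is strongly closed in Q. -/
theorem result {G : Type*} [Group G] [Finite G] {p : ℕ} [Fact p.Prime] (P Q : Sylow p G) (A : Subgroup G) (hAQ : A ≤ Q) (hA : Cfsg.IsStronglyClosed A (P : Subgroup G)) : Cfsg.IsStronglyClosed A (Q : Subgroup G) := by
  obtain ⟨hAP, hcl⟩ := hA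
  refine ⟨hAQ, ?_⟩
  obtain ⟨g, hg⟩ := MulAction.exists_smul_eq G Q P
  have hiff : ∀ y : G, g * y * g⁻¹ ∈ (P : Subgroup G) ↔ y ∈ (Q : Subgroup G) := by
    intro y
    rw [← hg, Sylow.smul_def, Sylow.pointwise_smul_def,
      Subgroup.mem_pointwise_smul_iff_inv_smul_mem]
    simp [MulAut.smul_def, mul_assoc]
  have hgA : ∀ a ∈ A, g * a * g⁻¹ ∈ A := fun a ha => hcl a ha g ((hiff a).2 (hAQ ha))
  have hsurj : ∀ b ∈ A, ∃ a ∈ A, g * a * g⁻¹ = b := by
    let f : A → A := fun a => ⟨g * a.1 * g⁻¹, hgA a.1 a.2⟩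
    have hf : Function.Injective f := by
      intro a b hab
      have : g * a.1 * g⁻¹ = g * b.1 * g⁻¹ := congrArg Subtype.val hab
      apply Subtype.ext
      simpa using this
    have hf' : Function.Surjective f := Finite.surjective_of_injective hf
    intro b hb
    obtain ⟨a, ha⟩ := hf' ⟨b, hb⟩
    exact ⟨a.1, a.2, congrArg Subtype.val ha⟩
  intro x hx h hxQ
  have h1 : (g * h) * x * (g * h)⁻¹ ∈ (P : Subgroup G) := by
    have := (hiff _).2 hxQ
    simpa [mul_assoc] using this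
  have h2 : (g * h) * x * (g * h)⁻¹ ∈ A := hcl x hx (g * h) h1
  obtain ⟨a, ha, hae⟩ := hsurj _ h2
  have : a = h * x * h⁻¹ := by
    have h3 : g * a * g⁻¹ = g * (h * x * h⁻¹) * g⁻¹ := by
      rw [hae]; simp [mul_assoc]
    simpa using h3
  rw [← this]; exact ha

end Cfsg.Agent.S1249
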