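import Cfsg.Statements.S1250

set_option autoImplicit false
open Cfsg

namespace Cfsg.Agent.S1250

/-- A `p`-element of a subgroup `K` containing the Sylow subgroup `S` is `K`-conjugate into `S`. -/
theorem exists_conj_mem_sylow {G : Type*} [Group G] [Finite G] {p : ℕ} [Fact p.Prime]
    (S : Sylow p G) (K : Subgroup G) (hSK : (S : Subgroup G) ≤ K) (y : G) (hyK : y ∈ K)
    (hy : ∃ k : ℕ, orderOf y = p ^ k) : ∃ k ∈ K, k * y * k⁻¹ ∈ (S : Subgroup G) := by
  classical
  let S' : Sylow p K := S.subtype hSK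
  have hpg : IsPGroup p (Subgroup.zpowers (⟨y, hyK⟩ : K)) := by
    obtain ⟨k, hk⟩ := hy
    rw [IsPGroup.iff_card, Nat.card_zpowers]
    refine ⟨k, ?_⟩
    rw [← hk]
    exact (Subgroup.orderOf_mk y hyK)
  obtain ⟨Q, hQ⟩ := hpg.exists_le_sylow
  obtain ⟨k, hk⟩ := MulAction.exists_smul_eq K Q S'
  refine ⟨k.1, k.2, ?_⟩
  have h1 : (⟨y, hyK⟩ : K) ∈ (Q : Subgroup K) := hQ (Subgroup.mem_zpowers _)
  have h2 : k * (⟨y, hyK⟩ : K) * k⁻¹ ∈ (S' : Subgroup K) := by
    rw [← hk, Sylow.smul_def, Sylow.pointwise_smul_def,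
      Subgroup.mem_pointwise_smul_iff_inv_smul_mem]
    simpa [MulAut.smul_def, mul_assoc] using h1
  have h3 : k * (⟨y, hyK⟩ : K) * k⁻¹ ∈ (S : Subgroup G).subgroupOf K := by
    rw [← Sylow.coe_subtype S hSK]; exact h2
  simpa [Subgroup.mem_subgroupOf] using h3

/-- Let S be a Sylow p-subgroup of the finite group G, A ≤ S strongly closed in S, and N a normal subgroup. Then the image of A in G ⧸ N is strongly closed in the image of S (which is a Sylow p-subgroup of G ⧸ N). -/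
theorem result {G : Type*} [Group G] [Finite G] {p : ℕ} [Fact p.Prime] (S : Sylow p G) (A : Subgroup G) (hA : Cfsg.IsStronglyClosed A (S : Subgroup G)) (N : Subgroup G) [N.Normal] : Cfsg.IsStronglyClosed (A.map (QuotientGroup.mk' N)) ((S : Subgroup G).map (QuotientGroup.mk' N)) := by
  obtain ⟨hAS, hcl⟩ := hA
  refine ⟨Subgroup.map_mono hAS, ?_⟩
  rintro _ ⟨a, ha, rfl⟩ gbar hg
  obtain ⟨g, rfl⟩ := QuotientGroup.mk'_surjective N gbar
  obtain ⟨s, hs, hsg⟩ := hg
  -- y = g a g⁻¹ lies in N ⊔ S and is a p-element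
  set y := g * a * g⁻¹ with hy
  have hsy : (QuotientGroup.mk' N) s = (QuotientGroup.mk' N) y := by
    rw [hsg]; simp [hy]
  have hyN : s⁻¹ * y ∈ N := (QuotientGroup.eq (s := N)).1 hsy
  have hyK : y ∈ N ⊔ (S : Subgroup G) := by
    have h1 : s ∈ N ⊔ (S : Subgroup G) := (le_sup_right : (S : Subgroup G) ≤ _) hs
    have h2 : s⁻¹ * y ∈ N ⊔ (S : Subgroup G) := (le_sup_left : N ≤ _) hyN
    have := mul_mem h1 h2
    simpa using this
  have hyp : ∃ k : ℕ, orderOf y = p ^ k := by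
    have hconj : orderOf y = orderOf a := by
      have hsc : SemiconjBy g a y := by
        simp [SemiconjBy, hy]
      exact (hsc.orderOf_eq g).symm
    rw [hconj]
    have haS : a ∈ (S : Subgroup G) := hAS ha
    obtain ⟨k, hk⟩ := (IsPGroup.iff_orderOf.1 S.isPGroup') ⟨a, haS⟩
    exact ⟨k, by rw [← hk]; exact (Subgroup.orderOf_mk a haS).symm⟩
  obtain ⟨k, hkK, hk⟩ := exists_conj_mem_sylow S (N ⊔ (S : Subgroup G)) le_sup_right y hyK hyp
  -- k = s' * n
  rw [sup_comm, Subgroup.mem_sup_of_normal_right] at hkK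
  obtain ⟨s', hs', n, hn, rfl⟩ := hkK
  have h1 : n * y * n⁻¹ ∈ (S : Subgroup G) := by
    have : s'⁻¹ * (s' * n * y * (s' * n)⁻¹) * s' ∈ (S : Subgroup G) :=
      mul_mem (mul_mem (inv_mem hs') hk) hs'
    simpa [mul_assoc] using this
  have h2 : (n * g) * a * (n * g)⁻¹ ∈ A := by
    apply hcl a ha
    simpa [hy, mul_assoc] using h1
  refine ⟨(n * g) * a * (n * g)⁻¹, h2, ?_⟩
  have hn1 : (QuotientGroup.mk' N) n = 1 := by
    simpa using hn
  simp only [map_mul, map_inv, hn1, one_mul]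

end Cfsg.Agent.S1250
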