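import Mathlib
import Cfsg.Statements.S1293
import Cfsg.Agent.S0661
import Cfsg.Agent.S3800
import Cfsg.Agent.Lib.Helper22.PCons
import Cfsg.Agent.Lib.Helper21.PLocal2
import Cfsg.Agent.Lib.Helper30.NoComp

set_option autoImplicit false
open Cfsg

namespace Cfsg.Agent.S1293

open Cfsg.Agent.Lib.Helper23.Cores
open Cfsg.Agent.Lib.Helper78

/-- Let G be finite with L_{p'}(G) = 1, and H = N_G(P) for a nontrivial p-subgroup P. Then L_{p'}(H) = 1 and O_{p'}(H) ≤ O_{p'}(G). -/
theorem result {G : Type*} [Group G] [Finite G] (p : ℕ) [Fact p.Prime] (hL : Cfsg.pLayer p G = ⊥) (P : Subgroup G) (hP : IsPGroup p ↥P) (hP1 : P ≠ ⊥) : Cfsg.pLayer p ↥(Subgroup.normalizer (P : Set G)) = ⊥ ∧ (Cfsg.pPrimeCore p ↥(Subgroup.normalizer (P : Set G))).map (Subgroup.normalizer (P : Set G)).subtype ≤ Cfsg.pPrimeCore p G := by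
  have hp : p.Prime := Fact.out
  set N := Subgroup.normalizer (P : Set G) with hN
  set O := pPrimeCore p G with hO
  have hOn : O.Normal := Cfsg.pPrimeCore_normal p G
  have hlayer : layer (G ⧸ O) = ⊥ := (Cfsg.Agent.Lib.Helper22.PCons.pLayer_eq_bot_iff p).1 hL
  have hgfs : generalizedFittingSubgroup (G ⧸ O) = pCore p (G ⧸ O) := by
    unfold generalizedFittingSubgroup
    rw [hlayer, bot_sup_eq]
    exact Cfsg.Agent.Lib.Helper22.PCons.fitting_quotient_eq p
  have hcent : Subgroup.centralizer ((pCore p (G ⧸ O) : Subgroup (G ⧸ O)) : Set (G ⧸ O))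
      ≤ pCore p (G ⧸ O) :=
    Cfsg.Agent.Lib.Helper30.NoComp.centralizer_pCore_le_of_gfs_eq p hgfs
  have hONn : (pPrimeCore p ↥N).Normal := Cfsg.pPrimeCore_normal p ↥N
  have hONc : (Nat.card (pPrimeCore p ↥N)).Coprime p := pPrimeCore_card_coprime (G := ↥N) p
  have hPN : P ≤ N := Subgroup.le_normalizer
  -- part 2
  have h2 : (pPrimeCore p ↥N).map N.subtype ≤ O := by
    apply Cfsg.Agent.S0661.le_pPrimeCore_of_constrained p hcent P hP
    · rw [Subgroup.card_map_of_injective N.subtype_injective]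
      exact hONc
    · rintro _ ⟨e, he, rfl⟩ b hb
      have hPn : (P.subgroupOf N).Normal := Subgroup.normal_in_normalizer
      have hdisj : Disjoint (pPrimeCore p ↥N) (P.subgroupOf N) := by
        apply Subgroup.disjoint_of_coprime_natCard
        have hYs : IsPGroup p (P.subgroupOf N) := hP.comap_subtype
        obtain ⟨i, hi⟩ := IsPGroup.iff_card.1 hYs
        rw [hi]
        exact Nat.Coprime.pow_right i hONc
      have := Subgroup.commute_of_normal_of_disjoint _ _ hONn hPn hdisj e ⟨b, hPN hb⟩ he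
        (by simpa [Subgroup.mem_subgroupOf] using hb)
      exact congrArg Subtype.val this.eq
    · rintro y hy _ ⟨e, he, rfl⟩
      have hyN : y ∈ N := by
        rw [hN, Subgroup.mem_normalizer_iff]
        intro x
        constructor
        · intro hx
          have := hy x hx
          rw [this]
          simpa using hx
        · intro hx
          have h1 := hy _ hx
          have h3 : x = y * x * y⁻¹ := by
            have h4 : y * (y * x * y⁻¹) = y * x * y⁻¹ * y := h1
            have h5 : y * x * y⁻¹ * y = y * x := by group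
            rw [h5] at h4
            exact (mul_left_cancel h4).symm
          rw [h3]; exact hx
      refine ⟨⟨y, hyN⟩ * e * ⟨y, hyN⟩⁻¹, hONn.conj_mem e he ⟨y, hyN⟩, ?_⟩
      simp
  refine ⟨?_, h2⟩
  -- part 1
  rw [Cfsg.Agent.Lib.Helper22.PCons.pLayer_eq_bot_iff p]
  have hON : pPrimeCore p ↥N = O.subgroupOf N := by
    apply le_antisymm
    · intro x hx
      rw [Subgroup.mem_subgroupOf]
      exact h2 ⟨x, hx, rfl⟩
    · exact Cfsg.Agent.Lib.Helper34.PComp2.subgroupOf_le_pPrimeCore p N
  set π := QuotientGroup.mk' O with hπ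
  set φ : ↥N →* G ⧸ O := π.comp N.subtype with hφ
  have hker : pPrimeCore p ↥N = φ.ker := by
    rw [hON]
    ext x
    rw [Subgroup.mem_subgroupOf, MonoidHom.mem_ker, hφ, MonoidHom.comp_apply, hπ,
      QuotientGroup.mk'_apply, QuotientGroup.eq_one_iff]
    rfl
  have hOc : (Nat.card O).Coprime p := pPrimeCore_card_coprime (G := G) p
  have hrange : φ.range = Subgroup.normalizer ((P.map π : Subgroup (G ⧸ O)) : Set (G ⧸ O)) := by
    rw [(Cfsg.Agent.S3800.result O hOc P hP).1, hφ, MonoidHom.range_comp, Subgroup.range_subtype]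
  let E : (↥N ⧸ pPrimeCore p ↥N) ≃*
      ↥(Subgroup.normalizer ((P.map π : Subgroup (G ⧸ O)) : Set (G ⧸ O))) :=
    ((QuotientGroup.quotientMulEquivOfEq hker).trans (QuotientGroup.quotientKerEquivRange φ)).trans
      (MulEquiv.subgroupCongr hrange)
  have hgfs' := Cfsg.Agent.Lib.Helper21.PLocal2.gfs_normalizer_eq p hgfs (P.map π) (hP.map π)
    _ rfl
  have hpg : IsPGroup p ↥(generalizedFittingSubgroup
      ↥(Subgroup.normalizer ((P.map π : Subgroup (G ⧸ O)) : Set (G ⧸ O)))) := by
    rw [hgfs']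
    exact Fitting.pCore_isPGroup p
  have hnc := Cfsg.Agent.Lib.Helper30.NoComp.no_component_of_isPGroup p hpg
  unfold layer
  rw [sSup_eq_bot]
  intro K hK
  exact absurd (Cfsg.Agent.Lib.Helper21.Comp.isComponent_map_equiv E hK) (hnc _)

end Cfsg.Agent.S1293
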