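import Cfsg.Statements.S1323
import Mathlib

set_option autoImplicit false
open Cfsg

namespace Cfsg.Agent.S1323

open Equiv Equiv.Perm

variable {n : ℕ}

theorem c3_mem (a b c : Fin n) (hab : a ≠ b) (hac : a ≠ c) :
    swap a b * swap a c ∈ alternatingGroup (Fin n) := by
  rw [Equiv.Perm.mem_alternatingGroup, Equiv.Perm.sign_mul, Equiv.Perm.sign_swap hab,
    Equiv.Perm.sign_swap hac]
  simp

theorem c3_fix (a b c y : Fin n) (hya : y ≠ a) (hyb : y ≠ b) (hyc : y ≠ c) :
    (swap a b * swap a c) y = y := by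
  rw [Equiv.Perm.mul_apply, swap_apply_of_ne_of_ne hya hyc, swap_apply_of_ne_of_ne hya hyb]

theorem c3_move (a b c : Fin n) (hca : c ≠ a) (hcb : c ≠ b) :
    (swap a b * swap a c) a = c := by
  rw [Equiv.Perm.mul_apply, swap_apply_left, swap_apply_of_ne_of_ne hca hcb]

/-- even permutations fixing every point satisfying `P` -/
def fx (n : ℕ) (P : Fin n → Prop) : Subgroup ↥(alternatingGroup (Fin n)) where
  carrier := {σ | ∀ x, P x → (σ : Perm (Fin n)) x = x}
  mul_mem' := by
    intro a b ha hb x hx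
    simp only [Set.mem_ofPred_eq] at ha hb
    rw [Subgroup.coe_mul, Perm.mul_apply, hb x hx, ha x hx]
  one_mem' := by intro x _; simp
  inv_mem' := by
    intro a ha x hx
    simp only [Set.mem_ofPred_eq] at ha
    rw [Subgroup.coe_inv, Perm.inv_eq_iff_eq]; exact (ha x hx).symm

theorem mem_fx {P : Fin n → Prop} {σ : ↥(alternatingGroup (Fin n))} :
    σ ∈ fx n P ↔ ∀ x, P x → (σ : Perm (Fin n)) x = x := Iff.rfl

theorem perm_iff_of_imp {α : Type*} [Finite α] (f : Equiv.Perm α) (P : α → Prop)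
    (h : ∀ x, P x → P (f x)) : ∀ x, P (f x) ↔ P x := by
  refine fun x => ⟨fun hx => ?_, h x⟩
  let φ : {x // P x} → {x // P x} := fun w => ⟨f w, h w w.2⟩
  have hinj : Function.Injective φ := by
    intro a b hab
    have : f a = f b := congrArg Subtype.val hab
    exact Subtype.ext (f.injective this)
  obtain ⟨w, hw⟩ := (Finite.injective_iff_surjective.1 hinj) ⟨f x, hx⟩
  have h1 : f w = f x := congrArg Subtype.val hw
  have h2 := f.injective h1
  rw [← h2]; exact w.2

theorem mem_normalizer_fx (P : Fin n → Prop)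
    (hP : ∀ x, ¬ P x → ∃ τ ∈ fx n P, (τ : Perm (Fin n)) x ≠ x)
    (g : ↥(alternatingGroup (Fin n))) :
    g ∈ Subgroup.normalizer (fx n P : Set ↥(alternatingGroup (Fin n))) ↔
      ∀ x, P ((g : Perm (Fin n)) x) ↔ P x := by
  constructor
  · intro hg
    apply perm_iff_of_imp
    intro x hx
    by_contra hgx
    obtain ⟨τ, hτ, hτx⟩ := hP _ hgx
    have h1 : g⁻¹ * τ * g ∈ fx n P := by
      rw [Subgroup.mem_normalizer_iff] at hg
      apply (hg _).2
      have : g * (g⁻¹ * τ * g) * g⁻¹ = τ := by group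
      rw [this]; exact hτ
    have h2 := h1 x hx
    apply hτx
    simp only [Subgroup.coe_mul, Subgroup.coe_inv, Perm.mul_apply] at h2
    rw [Perm.inv_eq_iff_eq] at h2
    exact h2
  · intro h
    rw [Subgroup.mem_normalizer_iff]
    intro τ
    constructor
    · intro hτ x hx
      have hx' : P ((g : Perm (Fin n))⁻¹ x) := by
        rw [← h]; simpa using hx
      simp only [Subgroup.coe_mul, Subgroup.coe_inv, Perm.mul_apply]
      rw [hτ _ hx']; simp
    · intro hτ x hx
      have hx' : P ((g : Perm (Fin n)) x) := (h x).2 hx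
      have := hτ _ hx'
      simp only [Subgroup.coe_mul, Subgroup.coe_inv, Perm.mul_apply, Perm.coe_inv,
        symm_apply_apply] at this
      exact (g : Perm (Fin n)).injective this

theorem exists_two (hn : 9 ≤ n) (x y : Fin n) :
    ∃ u v : Fin n, 4 ≤ u.val ∧ 4 ≤ v.val ∧ u ≠ v ∧ u ≠ x ∧ u ≠ y ∧ v ≠ x ∧ v ≠ y := by
  have key : ∃ a b : ℕ, 4 ≤ a ∧ a < 8 ∧ 4 ≤ b ∧ b < 8 ∧ a ≠ b ∧ a ≠ x.val ∧ a ≠ y.val ∧
      b ≠ x.val ∧ b ≠ y.val := by
    by_cases h4x : x.val = 4 ∨ y.val = 4
    · by_cases h5 : x.val = 5 ∨ y.val = 5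
      · refine ⟨6, 7, ?_, ?_, ?_, ?_, ?_, ?_, ?_, ?_, ?_⟩ <;> omega
      · by_cases h6 : x.val = 6 ∨ y.val = 6
        · refine ⟨5, 7, ?_, ?_, ?_, ?_, ?_, ?_, ?_, ?_, ?_⟩ <;> omega
        · refine ⟨5, 6, ?_, ?_, ?_, ?_, ?_, ?_, ?_, ?_, ?_⟩ <;> omega
    · by_cases h5 : x.val = 5 ∨ y.val = 5
      · by_cases h6 : x.val = 6 ∨ y.val = 6
        · refine ⟨4, 7, ?_, ?_, ?_, ?_, ?_, ?_, ?_, ?_, ?_⟩ <;> omega
        · refine ⟨4, 6, ?_, ?_, ?_, ?_, ?_, ?_, ?_, ?_, ?_⟩ <;> omega
      · refine ⟨4, 5, ?_, ?_, ?_, ?_, ?_, ?_, ?_, ?_, ?_⟩ <;> omega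
  obtain ⟨a, b, ha4, ha8, hb4, hb8, hab, hax, hay, hbx, hby⟩ := key
  refine ⟨⟨a, by omega⟩, ⟨b, by omega⟩, ha4, hb4, ?_, ?_, ?_, ?_, ?_⟩
  all_goals (intro h; have := congrArg Fin.val h; simp at this; omega)

theorem exists_two_lt (h4 : 4 ≤ n) (x : Fin n) :
    ∃ u v : Fin n, u.val < 4 ∧ v.val < 4 ∧ u ≠ v ∧ u ≠ x ∧ v ≠ x := by
  have key : ∃ a b : ℕ, a < 3 ∧ b < 3 ∧ a ≠ b ∧ a ≠ x.val ∧ b ≠ x.val := by
    by_cases h0 : x.val = 0
    · refine ⟨1, 2, ?_, ?_, ?_, ?_, ?_⟩ <;> omega
    · by_cases h1 : x.val = 1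
      · refine ⟨0, 2, ?_, ?_, ?_, ?_, ?_⟩ <;> omega
      · refine ⟨0, 1, ?_, ?_, ?_, ?_, ?_⟩ <;> omega
  obtain ⟨a, b, ha, hb, hab, hax, hbx⟩ := key
  refine ⟨⟨a, by omega⟩, ⟨b, by omega⟩, by simp; omega, by simp; omega, ?_, ?_, ?_⟩
  all_goals (intro h; have := congrArg Fin.val h; simp at this; omega)

/-- every point `≥ 4` is moved by some element fixing the points `< 4`. -/
theorem hPL (hn : 9 ≤ n) (x : Fin n) (hx : ¬ x.val < 4) :
    ∃ τ ∈ fx n (fun x => x.val < 4), (τ : Perm (Fin n)) x ≠ x := by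
  obtain ⟨u, v, hu, hv, huv, hux, -, hvx, -⟩ := exists_two hn x x
  refine ⟨⟨swap x u * swap x v, c3_mem x u v hux.symm hvx.symm⟩, ?_, ?_⟩
  · intro y hy
    show (swap x u * swap x v) y = y
    apply c3_fix
    · intro h; rw [h] at hy; omega
    · intro h; rw [h] at hy; omega
    · intro h; rw [h] at hy; omega
  · show (swap x u * swap x v) x ≠ x
    rw [c3_move x u v hvx (Ne.symm huv)]
    exact hvx

theorem hPC (h4 : 4 ≤ n) (x : Fin n) (hx : ¬ 4 ≤ x.val) :
    ∃ τ ∈ fx n (fun x => 4 ≤ x.val), (τ : Perm (Fin n)) x ≠ x := by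
  obtain ⟨u, v, hu, hv, huv, hux, hvx⟩ := exists_two_lt h4 x
  refine ⟨⟨swap x u * swap x v, c3_mem x u v hux.symm hvx.symm⟩, ?_, ?_⟩
  · intro y hy
    show (swap x u * swap x v) y = y
    apply c3_fix
    · intro h; rw [h] at hy; omega
    · intro h; rw [h] at hy; omega
    · intro h; rw [h] at hy; omega
  · show (swap x u * swap x v) x ≠ x
    rw [c3_move x u v hvx (Ne.symm huv)]
    exact hvx

theorem centralizer_fx_lt (hn : 9 ≤ n) :
    Subgroup.centralizer (fx n (fun x => x.val < 4) : Set ↥(alternatingGroup (Fin n))) =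
      fx n (fun x => 4 ≤ x.val) := by
  ext σ
  rw [Subgroup.mem_centralizer_iff, mem_fx]
  constructor
  · intro h x hx
    by_contra hne
    obtain ⟨u, v, hu, hv, huv, hux, huy, hvx, hvy⟩ := exists_two hn x ((σ : Perm (Fin n)) x)
    have hτmem : swap x u * swap x v ∈ alternatingGroup (Fin n) :=
      c3_mem x u v hux.symm hvx.symm
    have hτ : (⟨swap x u * swap x v, hτmem⟩ : ↥(alternatingGroup (Fin n))) ∈
        fx n (fun x => x.val < 4) := by
      intro y hy
      show (swap x u * swap x v) y = y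
      apply c3_fix
      · intro h; rw [h] at hy; omega
      · intro h; rw [h] at hy; omega
      · intro h; rw [h] at hy; omega
    have h1 := h _ hτ
    have h2 : (swap x u * swap x v) ((σ : Perm (Fin n)) x) =
        (σ : Perm (Fin n)) ((swap x u * swap x v) x) :=
      congrArg (fun p : ↥(alternatingGroup (Fin n)) => (p : Perm (Fin n)) x) h1
    rw [c3_fix x u v _ hne (Ne.symm huy) (Ne.symm hvy), c3_move x u v hvx (Ne.symm huv)] at h2
    exact hvx ((σ : Perm (Fin n)).injective h2).symm
  · intro h τ hτ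
    apply Subtype.ext
    rw [Subgroup.coe_mul, Subgroup.coe_mul]
    have hd : Perm.Disjoint (τ : Perm (Fin n)) (σ : Perm (Fin n)) := by
      intro x
      by_cases hx : x.val < 4
      · exact Or.inl (hτ x hx)
      · exact Or.inr (h x (by omega))
    exact hd.commute.eq

theorem L_eq (h4 : 4 ≤ n) :
    (⨅ i : Fin 4, MulAction.stabilizer ↥(alternatingGroup (Fin n)) (Fin.castLE h4 i : Fin n)) =
      fx n (fun x => x.val < 4) := by
  ext σ
  simp only [Subgroup.mem_iInf, MulAction.mem_stabilizer_iff, mem_fx]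
  constructor
  · intro h x hx
    have := h ⟨x.val, hx⟩
    have hx' : Fin.castLE h4 ⟨x.val, hx⟩ = x := Fin.ext rfl
    rw [hx'] at this
    exact this
  · intro h i
    exact h _ (by simp)

theorem five_le_card (hn : 9 ≤ n) :
    5 ≤ (Finset.univ.filter (fun x : Fin n => 4 ≤ x.val)).card := by
  have : (Finset.univ : Finset (Fin 5)).card ≤
      (Finset.univ.filter (fun x : Fin n => 4 ≤ x.val)).card := by
    apply Finset.card_le_card_of_injOn (fun i : Fin 5 => (⟨i.val + 4, by omega⟩ : Fin n))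
    · intro i _; simp
    · intro i _ j _ h
      simp only [Fin.mk.injEq] at h
      exact Fin.ext (by omega)
  simpa using this

theorem card_lt_four_le (n : ℕ) :
    (Finset.univ.filter (fun x : Fin n => x.val < 4)).card ≤ 4 := by
  have : (Finset.univ.filter (fun x : Fin n => x.val < 4)).card ≤
      (Finset.univ : Finset (Fin 4)).card := by
    apply Finset.card_le_card_of_injOn
      (fun x : Fin n => (⟨x.val % 4, Nat.mod_lt _ (by norm_num)⟩ : Fin 4))
    · intro i _; simp
    · intro i hi j hj h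
      simp only [Finset.coe_filter, Finset.mem_univ, true_and, Set.mem_ofPred_eq] at hi hj
      simp only [Fin.mk.injEq] at h
      exact Fin.ext (by omega)
  simpa using this

theorem fx_lt_eq_range (n : ℕ) :
    fx n (fun x => x.val < 4) =
      (alternatingGroup.ofSubtype (Finset.univ.filter (fun x : Fin n => 4 ≤ x.val))).range := by
  ext σ
  constructor
  · intro hσ
    rw [mem_fx] at hσ
    have h₁ : ∀ x, ((σ : Perm (Fin n)) x ∈ Finset.univ.filter (fun x : Fin n => 4 ≤ x.val)) ↔
        (x ∈ Finset.univ.filter (fun x : Fin n => 4 ≤ x.val)) := by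
      intro x
      simp only [Finset.mem_filter, Finset.mem_univ, true_and]
      constructor
      · intro h
        by_contra hx
        rw [hσ x (by omega)] at h
        exact hx h
      · intro h
        by_contra hx
        have h1 := hσ _ (by omega : ((σ : Perm (Fin n)) x).val < 4)
        have h2 := (σ : Perm (Fin n)).injective h1
        rw [h2] at hx
        exact hx h
    have h₂ : ∀ x, (σ : Perm (Fin n)) x ≠ x →
        x ∈ Finset.univ.filter (fun x : Fin n => 4 ≤ x.val) := by
      intro x hx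
      simp only [Finset.mem_filter, Finset.mem_univ, true_and]
      by_contra h
      exact hx (hσ x (by omega))
    have hsign : Perm.subtypePerm (σ : Perm (Fin n)) h₁ ∈
        alternatingGroup ↥(Finset.univ.filter (fun x : Fin n => 4 ≤ x.val)) := by
      rw [Equiv.Perm.mem_alternatingGroup]
      have hs := Equiv.Perm.sign_subtypePerm (σ : Perm (Fin n)) h₁ h₂
      rw [Equiv.Perm.mem_alternatingGroup.1 σ.2] at hs
      convert hs
    refine ⟨⟨_, hsign⟩, ?_⟩
    apply Subtype.ext
    rw [alternatingGroup.coe_ofSubtype]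
    exact Equiv.Perm.ofSubtype_subtypePerm h₁ h₂
  · rintro ⟨f, rfl⟩
    intro x hx
    rw [alternatingGroup.coe_ofSubtype]
    apply Equiv.Perm.ofSubtype_apply_of_not_mem
    simp only [Finset.mem_filter, Finset.mem_univ, true_and]
    omega

theorem isQuasisimple_of_simple {H : Type*} [Group H] [IsSimpleGroup H]
    (hna : ∃ a b : H, a * b ≠ b * a) : Cfsg.IsQuasisimple H := by
  obtain ⟨a, b, hab⟩ := hna
  have hc : Subgroup.center H = ⊥ := by
    rcases (inferInstance : (Subgroup.center H).Normal).eq_bot_or_eq_top with h | h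
    · exact h
    · exfalso
      have ha : a ∈ Subgroup.center H := by rw [h]; trivial
      exact hab ((Subgroup.mem_center_iff.1 ha b).symm)
  refine ⟨?_, ?_⟩
  · rw [Group.isPerfect_def]
    rcases (inferInstance : (commutator H).Normal).eq_bot_or_eq_top with h | h
    · exfalso
      rw [commutator_eq_bot_iff_center_eq_top] at h
      have ha : a ∈ Subgroup.center H := by rw [h]; trivial
      exact hab ((Subgroup.mem_center_iff.1 ha b).symm)
    · exact h
  · exact ((QuotientGroup.quotientMulEquivOfEq hc).trans QuotientGroup.quotientBot).isSimpleGroup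

theorem quasi (hn : 9 ≤ n) : Cfsg.IsQuasisimple ↥(fx n (fun x => x.val < 4)) := by
  have hsimple : IsSimpleGroup ↥(fx n (fun x => x.val < 4)) := by
    rw [fx_lt_eq_range]
    have h5 : 5 ≤ Nat.card ↥(Finset.univ.filter (fun x : Fin n => 4 ≤ x.val)) := by
      rw [Nat.card_eq_fintype_card, Fintype.card_coe]
      exact five_le_card hn
    have := alternatingGroup.isSimpleGroup h5
    exact (MonoidHom.ofInjective
      (alternatingGroup.ofSubtype_injective
        (s := Finset.univ.filter (fun x : Fin n => 4 ≤ x.val)))).symm.isSimpleGroup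
  apply isQuasisimple_of_simple
  by_contra hcomm
  push Not at hcomm
  -- then the group is trivial
  obtain ⟨σ, hσ⟩ := exists_ne (1 : ↥(fx n (fun x => x.val < 4)))
  apply hσ
  have hcent : (σ : ↥(alternatingGroup (Fin n))) ∈
      Subgroup.centralizer (fx n (fun x => x.val < 4) : Set ↥(alternatingGroup (Fin n))) := by
    rw [Subgroup.mem_centralizer_iff]
    intro τ hτ
    have := hcomm ⟨τ, hτ⟩ σ
    exact congrArg Subtype.val this
  rw [centralizer_fx_lt hn, mem_fx] at hcent
  apply Subtype.ext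
  apply Subtype.ext
  ext x
  by_cases hx : x.val < 4
  · rw [σ.2 x hx]; simp
  · rw [hcent x (by omega)]; simp

theorem even_card (h4 : 4 ≤ n) : Even (Nat.card ↥(fx n (fun x => 4 ≤ x.val))) := by
  set a : Fin n := ⟨0, by omega⟩ with ha
  set b : Fin n := ⟨1, by omega⟩ with hb
  set c : Fin n := ⟨2, by omega⟩ with hc
  set d : Fin n := ⟨3, by omega⟩ with hd
  have hab : a ≠ b := by intro h; have := congrArg Fin.val h; simp [ha, hb] at this
  have hcd : c ≠ d := by intro h; have := congrArg Fin.val h; simp [hc, hd] at this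
  have hnd : [a, b, c, d].Nodup := by
    simp only [List.nodup_cons, List.mem_cons, List.not_mem_nil, or_false, not_or,
      List.nodup_nil, and_true, not_false_eq_true]
    refine ⟨⟨?_, ?_, ?_⟩, ⟨?_, ?_⟩, ?_⟩ <;>
      (intro h; have := congrArg Fin.val h; simp [ha, hb, hc, hd] at this)
  have hmem : swap a b * swap c d ∈ alternatingGroup (Fin n) := by
    rw [Equiv.Perm.mem_alternatingGroup, Equiv.Perm.sign_mul, Equiv.Perm.sign_swap hab,
      Equiv.Perm.sign_swap hcd]
    simp
  have hfx : (⟨swap a b * swap c d, hmem⟩ : ↥(alternatingGroup (Fin n))) ∈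
      fx n (fun x => 4 ≤ x.val) := by
    intro y hy
    show (swap a b * swap c d) y = y
    have hya : y ≠ a := by intro h; rw [h] at hy; simp [ha] at hy
    have hyb : y ≠ b := by intro h; rw [h] at hy; simp [hb] at hy
    have hyc : y ≠ c := by intro h; rw [h] at hy; simp [hc] at hy
    have hyd : y ≠ d := by intro h; rw [h] at hy; simp [hd] at hy
    rw [Equiv.Perm.mul_apply, swap_apply_of_ne_of_ne hyc hyd, swap_apply_of_ne_of_ne hya hyb]
  have hsq : (swap a b * swap c d) * (swap a b * swap c d) = 1 := by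
    have hcomm : Commute (swap c d) (swap a b) := (Equiv.Perm.disjoint_swap_swap hnd).commute.symm
    rw [hcomm.mul_mul_mul_comm, swap_mul_self, swap_mul_self, one_mul]
  have hne : (swap a b * swap c d) ≠ 1 := by
    intro h
    have h1 := congrArg (fun p : Perm (Fin n) => p a) h
    simp only [Perm.mul_apply, Perm.one_apply] at h1
    have hac : a ≠ c := by intro h; have := congrArg Fin.val h; simp [ha, hc] at this
    have had : a ≠ d := by intro h; have := congrArg Fin.val h; simp [ha, hd] at this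
    rw [swap_apply_of_ne_of_ne hac had, swap_apply_left] at h1
    exact hab h1.symm
  have hord : orderOf (⟨⟨swap a b * swap c d, hmem⟩, hfx⟩ : ↥(fx n (fun x => 4 ≤ x.val))) = 2 := by
    apply orderOf_eq_prime
    · apply Subtype.ext
      apply Subtype.ext
      rw [pow_two]
      exact hsq
    · intro h
      apply hne
      have := congrArg (fun p : ↥(fx n (fun x => 4 ≤ x.val)) =>
        ((p : ↥(alternatingGroup (Fin n))) : Perm (Fin n))) h
      exact this
  rw [even_iff_two_dvd, ← hord]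
  exact orderOf_dvd_natCard _

theorem odd_card (h4 : 4 ≤ n) (g : ↥(alternatingGroup (Fin n)))
    (hg : g ∉ Subgroup.normalizer (fx n (fun x => 4 ≤ x.val) : Set ↥(alternatingGroup (Fin n)))) :
    Odd (Nat.card ↥(fx n (fun x => 4 ≤ x.val) ⊓
      (fx n (fun x => 4 ≤ x.val)).map (MulAut.conj g).toMonoidHom)) := by
  rw [mem_normalizer_fx _ (hPC h4)] at hg
  -- a point `w ≥ 4` with `g w < 4`
  have hw : ∃ w : Fin n, 4 ≤ w.val ∧ ((g : Perm (Fin n)) w).val < 4 := by
    by_contra hcon
    push Not at hcon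
    exact hg (perm_iff_of_imp (g : Perm (Fin n)) (fun x => 4 ≤ x.val) hcon)
  obtain ⟨w, hw4, hgw⟩ := hw
  have hpow : ∀ σ : ↥(alternatingGroup (Fin n)),
      σ ∈ fx n (fun x => 4 ≤ x.val) ⊓
        (fx n (fun x => 4 ≤ x.val)).map (MulAut.conj g).toMonoidHom → σ ^ 3 = 1 := by
    intro σ hσ
    obtain ⟨h1, h2⟩ := Subgroup.mem_inf.1 hσ
    obtain ⟨σ', hσ', rfl⟩ := Subgroup.mem_map.1 h2
    have hfixy : ((MulAut.conj g).toMonoidHom σ' : Perm (Fin n)) ((g : Perm (Fin n)) w) =
        (g : Perm (Fin n)) w := by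
      simp only [MulEquiv.toMonoidHom_eq_coe, MonoidHom.coe_coe, MulAut.conj_apply,
        Subgroup.coe_mul, Subgroup.coe_inv, Perm.mul_apply, Perm.coe_inv, symm_apply_apply]
      rw [hσ' w hw4]
    set ρ : Perm (Fin n) := ((MulAut.conj g).toMonoidHom σ' : Perm (Fin n)) with hρ
    have hsupp : ρ.support ⊆
        (Finset.univ.filter (fun x : Fin n => x.val < 4)).erase ((g : Perm (Fin n)) w) := by
      intro x hx
      rw [Equiv.Perm.mem_support] at hx
      rw [Finset.mem_erase, Finset.mem_filter]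
      refine ⟨?_, Finset.mem_univ _, ?_⟩
      · intro h; rw [h] at hx; exact hx hfixy
      · by_contra hx4
        exact hx (h1 x (by omega))
    have hcard : ρ.support.card ≤ 3 := by
      have h3 := Finset.card_le_card hsupp
      have h4' : ((g : Perm (Fin n)) w) ∈ Finset.univ.filter (fun x : Fin n => x.val < 4) := by
        simp [hgw]
      rw [Finset.card_erase_of_mem h4'] at h3
      have := card_lt_four_le n
      omega
    have hρ3 : ρ ^ 3 = 1 := by
      have hsign : Equiv.Perm.sign ρ = 1 :=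
        Equiv.Perm.mem_alternatingGroup.1 ((MulAut.conj g).toMonoidHom σ').2
      have h0 : ρ.support.card = 0 ∨ ρ.support.card = 1 ∨ ρ.support.card = 2 ∨
          ρ.support.card = 3 := by omega
      rcases h0 with h0 | h0 | h0 | h0
      · rw [Equiv.Perm.card_support_eq_zero] at h0
        rw [h0]; simp
      · exact absurd h0 (Equiv.Perm.card_support_ne_one ρ)
      · rw [Equiv.Perm.card_support_eq_two] at h0
        rw [h0.sign_eq] at hsign
        exact absurd hsign (by decide)
      · rw [_root_.card_support_eq_three_iff] at h0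
        rw [← h0.orderOf]
        exact pow_orderOf_eq_one ρ
    apply Subtype.ext
    rw [Subgroup.coe_pow]
    exact hρ3
  have hp : IsPGroup 3 ↥(fx n (fun x => 4 ≤ x.val) ⊓
      (fx n (fun x => 4 ≤ x.val)).map (MulAut.conj g).toMonoidHom) := by
    intro k
    refine ⟨1, ?_⟩
    apply Subtype.ext
    rw [pow_one, Subgroup.coe_pow]
    exact hpow _ k.2
  have : Fact (Nat.Prime 3) := ⟨by norm_num⟩
  obtain ⟨m, hm⟩ := IsPGroup.iff_card.1 hp
  rw [hm]
  exact Odd.pow (by decide)

theorem exists_ge_ge (hn : 9 ≤ n) (g : Perm (Fin n)) :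
    ∃ w : Fin n, 4 ≤ w.val ∧ 4 ≤ (g w).val := by
  by_contra hcon
  push Not at hcon
  have hinj : Function.Injective
      (fun i : Fin 5 => (⟨(g ⟨i.val + 4, by omega⟩).val, hcon _ (by simp)⟩ : Fin 4)) := by
    intro i j hij
    simp only [Fin.mk.injEq] at hij
    have h1 := g.injective (Fin.ext hij)
    simp only [Fin.mk.injEq] at h1
    exact Fin.ext (by omega)
  have := Fintype.card_le_of_injective _ hinj
  simp at this


/-- For n ≥ 9, the subgroup of the alternating group on Fin n fixing each of the points 0, 1, 2, 3 is a standard subgroup. -/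
theorem result (n : ℕ) (h4 : 4 ≤ n) (hn : 9 ≤ n) : Cfsg.IsStandardSubgroup (⨅ i : Fin 4, MulAction.stabilizer ↥(alternatingGroup (Fin n)) (Fin.castLE h4 i : Fin n)) := by
  rw [L_eq h4]
  have hC := centralizer_fx_lt hn
  refine ⟨quasi hn, ?_, ?_, ?_⟩
  · rw [hC]
    exact ⟨even_card h4, fun g hg => odd_card h4 g hg⟩
  · intro g _ hbot
    rw [Subgroup.commutator_comm, Subgroup.commutator_eq_bot_iff_le_centralizer, hC] at hbot
    obtain ⟨w, hw4, hgw⟩ := exists_ge_ge hn (g : Equiv.Perm (Fin n))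
    obtain ⟨τ, hτ, hτw⟩ := hPL hn w (by omega)
    have h1 : (MulAut.conj g).toMonoidHom τ ∈ fx n (fun x => 4 ≤ x.val) :=
      hbot (Subgroup.mem_map_of_mem _ hτ)
    have h2 := h1 _ hgw
    simp only [MulEquiv.toMonoidHom_eq_coe, MonoidHom.coe_coe, MulAut.conj_apply,
      Subgroup.coe_mul, Subgroup.coe_inv, Equiv.Perm.mul_apply, Equiv.Perm.coe_inv,
      Equiv.symm_apply_apply] at h2
    exact hτw ((g : Equiv.Perm (Fin n)).injective h2)
  · rw [hC]
    ext g
    rw [mem_normalizer_fx _ (hPL hn), mem_normalizer_fx _ (hPC h4)]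
    constructor
    · intro h x
      have := h x
      omega
    · intro h x
      have := h x
      omega

end Cfsg.Agent.S1323
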