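-- Statement S1339: F*(C(t)) = O_2(C(t)) for a transvection t of SL(n, 2).
import Cfsg.Statements.S1339
import Cfsg.Agent.Lib.Helper23.TransvCent
import Cfsg.Agent.Lib.Helper48.CharPGfs

set_option autoImplicit false
open Cfsg

namespace Cfsg.Agent.S1339

open Cfsg.Agent.Lib.Helper23.TransvCent

/-- Let F be a field with 2 elements, n ≥ 3, and t ∈ SL(n, F) a transvection (t = 1 + E_{ij}, i ≠ j). Then the generalized Fitting subgroup of C(t) is O_2(C(t)). -/
theorem result {F : Type*} [Field F] [Fintype F] [DecidableEq F] (hF : Fintype.card F = 2) (n : ℕ) (hn : 3 ≤ n) (i j : Fin n) (hij : i ≠ j) (t : Matrix.SpecialLinearGroup (Fin n) F) (ht : (t : Matrix (Fin n) (Fin n) F) = Matrix.transvection i j 1) : Cfsg.generalizedFittingSubgroup ↥(Subgroup.centralizer ({t} : Set (Matrix.SpecialLinearGroup (Fin n) F))) = Cfsg.pCore 2 ↥(Subgroup.centralizer ({t} : Set (Matrix.SpecialLinearGroup (Fin n) F))) := by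
  have h01 := eq_zero_or_one_of_card hF
  have h2 := add_self_of_card hF
  have hdet : ∀ g : Matrix.SpecialLinearGroup (Fin n) F,
      (g : Matrix (Fin n) (Fin n) F).det ≠ 0 := fun g => by
    rw [g.det_coe]; exact one_ne_zero
  -- the matrix of an element of the centralizer commutes with the transvection
  have hcomm : ∀ c : ↥(Subgroup.centralizer ({t} : Set (Matrix.SpecialLinearGroup (Fin n) F))),
      Matrix.transvection i j 1 * ((c : Matrix.SpecialLinearGroup (Fin n) F) : Matrix (Fin n) (Fin n) F)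
        = ((c : Matrix.SpecialLinearGroup (Fin n) F) : Matrix (Fin n) (Fin n) F) *
          Matrix.transvection i j 1 := by
    intro c
    have h := Subgroup.mem_centralizer_iff.mp c.2 t rfl
    have h' := congrArg (fun x : Matrix.SpecialLinearGroup (Fin n) F =>
      (x : Matrix (Fin n) (Fin n) F)) h
    simp only [Matrix.SpecialLinearGroup.coe_mul, ht] at h'
    exact h'
  -- the self-centralizing normal 2-subgroup
  let Q : Subgroup ↥(Subgroup.centralizer ({t} : Set (Matrix.SpecialLinearGroup (Fin n) F))) :=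
    { carrier := {g | RowStd i ((g : Matrix.SpecialLinearGroup (Fin n) F) : Matrix (Fin n) (Fin n) F)}
      one_mem' := rowStd_one i
      mul_mem' := fun {a b} ha hb => by
        show RowStd i ((((a * b : ↥(Subgroup.centralizer ({t} : Set (Matrix.SpecialLinearGroup (Fin n) F)))) :
          Matrix.SpecialLinearGroup (Fin n) F)) : Matrix (Fin n) (Fin n) F)
        rw [Subgroup.coe_mul, Matrix.SpecialLinearGroup.coe_mul]
        exact rowStd_mul ha hb
      inv_mem' := fun {a} ha => by
        refine rowStd_of_mul_eq_one ha ?_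
        rw [← Matrix.SpecialLinearGroup.coe_mul, ← Subgroup.coe_mul, mul_inv_cancel]
        rfl }
  have hQmem : ∀ g, g ∈ Q ↔
      RowStd i ((g : Matrix.SpecialLinearGroup (Fin n) F) : Matrix (Fin n) (Fin n) F) :=
    fun g => Iff.rfl
  have hQn : Q.Normal := by
    constructor
    intro q hq c
    rw [hQmem] at hq ⊢
    rw [Subgroup.coe_mul, Subgroup.coe_mul, Matrix.SpecialLinearGroup.coe_mul,
      Matrix.SpecialLinearGroup.coe_mul]
    refine rowStd_conj hq (col_eq_zero_of_commute (hcomm c)) ?_
    rw [← Matrix.SpecialLinearGroup.coe_mul, ← Subgroup.coe_mul, mul_inv_cancel]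
    rfl
  have hQp : IsPGroup 2 Q := by
    intro g
    refine ⟨1, ?_⟩
    have hg := (hQmem g.1).mp g.2
    have hii := diag_eq_one_of_rowStd h01 hg (hdet _)
    have hsq := mul_self_of_rowStd hg hii h2
    rw [pow_one, pow_two]
    apply Subtype.ext
    apply Subtype.ext
    apply Subtype.ext
    exact hsq
  have hQle : Q ≤ Cfsg.pCore 2 ↥(Subgroup.centralizer ({t} : Set (Matrix.SpecialLinearGroup (Fin n) F))) :=
    Cfsg.Agent.Lib.Helper78.Fitting.le_pCore hQn hQp
  apply Cfsg.Agent.Lib.Helper48.CharPGfs.gfs_eq_pCore_of_centralizer_le 2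
  intro g hg
  apply hQle
  rw [hQmem]
  refine rowStd_of_commute_transvection h01 (hdet _) ?_
  intro b hb
  -- the transvection `1 + E_{ib}` as an element of `Q`
  obtain ⟨T, hT⟩ : ∃ T : Matrix.SpecialLinearGroup (Fin n) F,
      (T : Matrix (Fin n) (Fin n) F) = Matrix.transvection i b 1 :=
    ⟨⟨Matrix.transvection i b (1 : F), Matrix.det_transvection_of_ne i b hb.symm 1⟩, rfl⟩
  have hTc : T ∈ Subgroup.centralizer ({t} : Set (Matrix.SpecialLinearGroup (Fin n) F)) := by
    refine Subgroup.mem_centralizer_iff.mpr ?_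
    intro h hh
    rw [Set.mem_singleton_iff] at hh
    subst hh
    apply Subtype.ext
    rw [Matrix.SpecialLinearGroup.coe_mul, Matrix.SpecialLinearGroup.coe_mul, ht, hT]
    exact transvection_comm hij hb
  obtain ⟨T', hT'⟩ : ∃ T' : ↥(Subgroup.centralizer ({t} : Set (Matrix.SpecialLinearGroup (Fin n) F))),
      (T' : Matrix.SpecialLinearGroup (Fin n) F) = T := ⟨⟨T, hTc⟩, rfl⟩
  have hTQ : T' ∈ Q := by
    rw [hQmem, hT', hT]
    exact rowStd_transvection
  have h := Subgroup.mem_centralizer_iff.mp hg _ (hQle hTQ)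
  have h' := congrArg (fun x : ↥(Subgroup.centralizer ({t} : Set (Matrix.SpecialLinearGroup (Fin n) F))) =>
      ((x : Matrix.SpecialLinearGroup (Fin n) F) : Matrix (Fin n) (Fin n) F)) h
  simp only [Subgroup.coe_mul, Matrix.SpecialLinearGroup.coe_mul, hT', hT] at h'
  exact h'.symm

end Cfsg.Agent.S1339
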