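import Cfsg.Statements.S1340
import Cfsg.Agent.Lib.Helper5.BlockLast
import Cfsg.Agent.Lib.Helper21.Quasi
import Cfsg.Agent.Lib.Helper22.PComp2
import Cfsg.Agent.Lib.Helper23.Cores
import Cfsg.Agent.S0248
import Cfsg.Agent.S0249

set_option autoImplicit false
open Cfsg

namespace Cfsg.Agent.S1340

open Cfsg.Agent.Lib.Helper5.BlockLast
open Cfsg.Agent.Lib.Helper21

section

variable {F : Type*} [Field F] {m : ℕ}

/-- the involution `diag(1, …, 1, -1)` -/
def tt (m : ℕ) (F : Type*) [Field F] : Matrix.GeneralLinearGroup (Fin (m + 1)) F :=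
  ⟨blk 1 (-1), blk 1 (-1), by rw [blk_mul]; simp [blk_one], by rw [blk_mul]; simp [blk_one]⟩

lemma tt_coe : ((tt m F : Matrix.GeneralLinearGroup (Fin (m + 1)) F) :
    Matrix (Fin (m + 1)) (Fin (m + 1)) F) = blk 1 (-1) := rfl

lemma tt_coe' : ((tt m F : Matrix.GeneralLinearGroup (Fin (m + 1)) F) :
    Matrix (Fin (m + 1)) (Fin (m + 1)) F) = Matrix.diagonal (Fin.lastCases (-1 : F) (fun _ => 1)) := by
  rw [tt_coe, ← blk_smul_one, one_smul]

lemma isBlk_of_comm (h2 : (2 : F) ≠ 0) {g : Matrix.GeneralLinearGroup (Fin (m + 1)) F}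
    (hg : g * tt m F = tt m F * g) :
    IsBlk (g : Matrix (Fin (m + 1)) (Fin (m + 1)) F) := by
  apply isBlk_of_commute (d := Fin.lastCases (-1 : F) (fun _ => 1))
  · have := congrArg Units.val hg
    rw [Units.val_mul, Units.val_mul, tt_coe'] at this
    exact this
  · intro i
    simp only [Fin.lastCases_castSucc, Fin.lastCases_last]
    intro h
    apply h2
    linear_combination h

lemma inv_comm {G : Type*} [Group G] {g t : G} (hg : g * t = t * g) : g⁻¹ * t = t * g⁻¹ := by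
  calc g⁻¹ * t = g⁻¹ * (t * g) * g⁻¹ := by group
    _ = g⁻¹ * (g * t) * g⁻¹ := by rw [hg]
    _ = t * g⁻¹ := by group

lemma orderOf_tt (h2 : (2 : F) ≠ 0) : orderOf (tt m F) = 2 := by
  apply orderOf_eq_prime
  · apply Units.ext
    rw [pow_two, Units.val_mul, tt_coe, blk_mul]
    simp [blk_one]
  · intro h1
    have := congrArg Units.val h1
    rw [tt_coe] at this
    have h3 := congrFun (congrFun this (Fin.last m)) (Fin.last m)
    rw [blk_ll] at h3
    simp at h3
    apply h2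
    linear_combination (-1 : F) * h3

lemma tt_not_center (h2 : (2 : F) ≠ 0) (hm : 1 ≤ m) :
    tt m F ∉ Subgroup.center (Matrix.GeneralLinearGroup (Fin (m + 1)) F) := by
  intro hc
  rw [Subgroup.mem_center_iff] at hc
  have hne : (Fin.castSucc (⟨0, by omega⟩ : Fin m) : Fin (m + 1)) ≠ Fin.last m := by
    simp [Fin.ext_iff]; omega
  have h1 := isBlk_of_comm h2 (hc (Matrix.SpecialLinearGroup.toGL
    (Matrix.SpecialLinearGroup.transvection hne (1 : F))))
  have h3 := h1.1 ⟨0, by omega⟩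
  rw [Matrix.SpecialLinearGroup.coe_GL_coe_matrix, Matrix.SpecialLinearGroup.transvection_coe] at h3
  have hm0 : m ≠ 0 := by omega
  simp [Matrix.one_apply, hm0] at h3

/-- an involution in `SL_{k+2}`. -/
def s0 (k : ℕ) (F : Type*) [Field F] : Matrix.SpecialLinearGroup (Fin (k + 1 + 1)) F :=
  ⟨blk (blk 1 (-1)) (-1), by rw [det_blk, det_blk]; simp⟩

lemma orderOf_s0 (h2 : (2 : F) ≠ 0) (k : ℕ) : orderOf (s0 k F) = 2 := by
  apply orderOf_eq_prime
  · apply Subtype.ext
    rw [pow_two, Matrix.SpecialLinearGroup.coe_mul]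
    change blk (blk 1 (-1)) (-1) * blk (blk 1 (-1)) (-1) = 1
    rw [blk_mul, blk_mul]
    simp [blk_one]
  · intro h1
    have := congrArg Subtype.val h1
    have h3 := congrFun (congrFun this (Fin.last (k + 1))) (Fin.last (k + 1))
    change blk (blk 1 (-1)) (-1) (Fin.last (k + 1)) (Fin.last (k + 1)) = (1 : Matrix _ _ F) _ _ at h3
    rw [blk_ll] at h3
    simp at h3
    apply h2
    linear_combination (-1 : F) * h3

end

section fin

variable {F : Type*} [Field F] [Fintype F] [DecidableEq F] {m : ℕ}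

lemma quasi_SL (hm : 2 ≤ m) (h : m = 2 → 4 ≤ Fintype.card F) :
    IsQuasisimple (Matrix.SpecialLinearGroup (Fin m) F) := by
  rcases Nat.lt_or_ge m 3 with h3 | h3
  · obtain rfl : m = 2 := by omega
    have h4 := h rfl
    obtain ⟨a, ha⟩ : ∃ a : F, a ∉ ({0, 1, -1} : Finset F) := by
      by_contra hcon
      simp only [not_exists, not_not] at hcon
      have : (Finset.univ : Finset F) ⊆ {0, 1, -1} := fun x _ => hcon x
      have h5 := Finset.card_le_card this
      rw [Finset.card_univ] at h5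
      have h6 : ({0, 1, -1} : Finset F).card ≤ 3 := Finset.card_le_three
      omega
    simp only [Finset.mem_insert, Finset.mem_singleton, not_or] at ha
    have hasq : a ^ 2 ≠ 1 := by
      intro h7
      rcases eq_or_eq_neg_of_sq_eq_sq a 1 (by rw [h7, one_pow]) with h8 | h8
      · exact ha.2.1 h8
      · exact ha.2.2 h8
    refine ⟨⟨Matrix.SL2.commutator_eq_top ha.1 hasq⟩, ?_⟩
    exact Matrix.ProjectiveSpecialLinearGroup.rank_two_simple (by
      rw [Nat.card_eq_fintype_card]; exact h4)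
  · exact ⟨⟨Cfsg.Agent.S0248.result m h3⟩, Cfsg.Agent.S0249.result m h3⟩

theorem main (h2 : (2 : F) ≠ 0) (k : ℕ) (h : k = 0 → 4 ≤ Fintype.card F) :
    Cfsg.HasComponent (↥(Subgroup.centralizer
      ({tt (k + 1 + 1) F} : Set (Matrix.GeneralLinearGroup (Fin (k + 1 + 1 + 1)) F))) ⧸
      Cfsg.oddCore ↥(Subgroup.centralizer
      ({tt (k + 1 + 1) F} : Set (Matrix.GeneralLinearGroup (Fin (k + 1 + 1 + 1)) F)))) := by
  set C := Subgroup.centralizer
      ({tt (k + 1 + 1) F} : Set (Matrix.GeneralLinearGroup (Fin (k + 1 + 1 + 1)) F)) with hC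
  have hcomm : ∀ x : ↥C, (x : Matrix.GeneralLinearGroup (Fin (k + 1 + 1 + 1)) F) * tt (k + 1 + 1) F
      = tt (k + 1 + 1) F * x := fun x =>
    (Subgroup.mem_centralizer_iff.1 x.2 _ rfl).symm
  have hmemC : ∀ S : Matrix.SpecialLinearGroup (Fin (k + 1 + 1)) F,
      (Matrix.SpecialLinearGroup.toGL.comp emb) S ∈ C := by
    intro S
    rw [hC, Subgroup.mem_centralizer_iff]
    intro h hh
    rw [Set.mem_singleton_iff] at hh
    subst hh
    apply Units.ext
    rw [Units.val_mul, Units.val_mul, tt_coe]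
    change blk 1 (-1) * blk S.1 1 = blk S.1 1 * blk 1 (-1)
    rw [blk_mul, blk_mul]
    simp
  let ψ : Matrix.SpecialLinearGroup (Fin (k + 1 + 1)) F →* ↥C :=
    (Matrix.SpecialLinearGroup.toGL.comp emb).codRestrict C hmemC
  have hψcoe : ∀ S, (((ψ S : ↥C) : Matrix.GeneralLinearGroup (Fin (k + 1 + 1 + 1)) F) :
      Matrix (Fin (k + 1 + 1 + 1)) (Fin (k + 1 + 1 + 1)) F) = blk S.1 1 := fun S => rfl
  have hψinj : Function.Injective ψ := by
    intro S T hST
    apply Subtype.ext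
    have h1 : blk S.1 (1 : F) = blk T.1 1 := by rw [← hψcoe, ← hψcoe, hST]
    exact (blk_inj h1).1
  have hmem : ∀ x : ↥C, x ∈ ψ.range ↔
      ((x : Matrix.GeneralLinearGroup (Fin (k + 1 + 1 + 1)) F) :
        Matrix (Fin (k + 1 + 1 + 1)) (Fin (k + 1 + 1 + 1)) F) (Fin.last _) (Fin.last _) = 1 ∧
      ((x : Matrix.GeneralLinearGroup (Fin (k + 1 + 1 + 1)) F) :
        Matrix (Fin (k + 1 + 1 + 1)) (Fin (k + 1 + 1 + 1)) F).det = 1 := by
    intro x
    constructor
    · rintro ⟨S, rfl⟩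
      rw [hψcoe, blk_ll, det_blk, S.2, mul_one]
      exact ⟨rfl, rfl⟩
    · rintro ⟨h1, h3⟩
      obtain ⟨S, hS⟩ := exists_of_isBlk (isBlk_of_comm h2 (hcomm x)) h1 h3
      refine ⟨S, ?_⟩
      apply Subtype.ext
      apply Units.ext
      rw [hψcoe, hS]
  have hnormal : (ψ.range).Normal := by
    constructor
    intro x hx g
    rw [hmem] at hx ⊢
    have hgg : ((g : Matrix.GeneralLinearGroup (Fin (k + 1 + 1 + 1)) F) :
        Matrix (Fin (k + 1 + 1 + 1)) (Fin (k + 1 + 1 + 1)) F) *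
        (((g⁻¹ : ↥C) : Matrix.GeneralLinearGroup (Fin (k + 1 + 1 + 1)) F) :
        Matrix (Fin (k + 1 + 1 + 1)) (Fin (k + 1 + 1 + 1)) F) = 1 := by
      rw [Subgroup.coe_inv, ← Units.val_mul, mul_inv_cancel]; rfl
    have key := conj_blk (isBlk_of_comm h2 (hcomm g)) (isBlk_of_comm h2 (hcomm g⁻¹))
      (isBlk_of_comm h2 (hcomm x)) hx.1 hgg
    have e : (((g * x * g⁻¹ : ↥C) : Matrix.GeneralLinearGroup (Fin (k + 1 + 1 + 1)) F) :
        Matrix (Fin (k + 1 + 1 + 1)) (Fin (k + 1 + 1 + 1)) F)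
        = ((g : Matrix.GeneralLinearGroup (Fin (k + 1 + 1 + 1)) F) :
        Matrix (Fin (k + 1 + 1 + 1)) (Fin (k + 1 + 1 + 1)) F) *
        ((x : Matrix.GeneralLinearGroup (Fin (k + 1 + 1 + 1)) F) :
        Matrix (Fin (k + 1 + 1 + 1)) (Fin (k + 1 + 1 + 1)) F) *
        (((g⁻¹ : ↥C) : Matrix.GeneralLinearGroup (Fin (k + 1 + 1 + 1)) F) :
        Matrix (Fin (k + 1 + 1 + 1)) (Fin (k + 1 + 1 + 1)) F) := by
      rw [Subgroup.coe_mul, Subgroup.coe_mul, Units.val_mul, Units.val_mul]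
    rw [e]
    refine ⟨key.2, ?_⟩
    rw [Matrix.det_mul, Matrix.det_mul, hx.2, mul_one, ← Matrix.det_mul, hgg, Matrix.det_one]
  have hQ : IsQuasisimple ↥(ψ.range) :=
    Quasi.of_mulEquiv (MonoidHom.ofInjective hψinj) (quasi_SL (by omega) (fun hk => h (by omega)))
  have hcomp : IsComponent (ψ.range) := ⟨hnormal.isSubnormal, hQ⟩
  have heven : 2 ∣ Nat.card ↥(ψ.range) := by
    have h1 : orderOf (ψ (s0 k F)) = 2 := by
      rw [orderOf_injective ψ hψinj, orderOf_s0 h2]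
    have := Subgroup.orderOf_dvd_natCard (ψ.range) (⟨s0 k F, rfl⟩ : ψ (s0 k F) ∈ ψ.range)
    rwa [h1] at this
  have : Fact (Nat.Prime 2) := ⟨Nat.prime_two⟩
  rcases Cfsg.Agent.Lib.Helper22.PComp2.isComponent_map_mk 2 hcomp with hbot | hc
  · exfalso
    rw [Subgroup.map_eq_bot_iff, QuotientGroup.ker_mk'] at hbot
    have h1 := Subgroup.card_dvd_of_le hbot
    have h3 := Cfsg.Agent.Lib.Helper23.Cores.pPrimeCore_card_coprime (G := ↥C) 2
    have h4 : 2 ∣ Nat.card ↥(pPrimeCore 2 ↥C) := heven.trans h1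
    have h5 := Nat.Coprime.eq_one_of_dvd h3.symm h4
    omega
  · exact ⟨_, hc.1, hc.2⟩

end fin

/-- Let F be a finite field of odd order and n ≥ 3 with (n, |F|) ≠ (3, 3). Then GL(n, F) has a non-central involution t such that C(t) / O(C(t)) has a component. -/
theorem result {F : Type*} [Field F] [Fintype F] [DecidableEq F] (hF : Odd (Fintype.card F)) (n : ℕ) (hn : 3 ≤ n) (h33 : ¬ (n = 3 ∧ Fintype.card F = 3)) : ∃ t : Matrix.GeneralLinearGroup (Fin n) F, orderOf t = 2 ∧ t ∉ Subgroup.center (Matrix.GeneralLinearGroup (Fin n) F) ∧ Cfsg.HasComponent (↥(Subgroup.centralizer ({t} : Set (Matrix.GeneralLinearGroup (Fin n) F))) ⧸ Cfsg.oddCore ↥(Subgroup.centralizer ({t} : Set (Matrix.GeneralLinearGroup (Fin n) F)))) := by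
  obtain ⟨k, rfl⟩ : ∃ k, n = k + 1 + 1 + 1 := ⟨n - 3, by omega⟩
  have h2 : (2 : F) ≠ 0 := by
    intro h20
    have hch : ringChar F = 2 := CharP.ringChar_of_prime_eq_zero Nat.prime_two h20
    have := FiniteField.even_card_of_char_two hch
    rcases hF with ⟨j, hj⟩
    omega
  refine ⟨tt (k + 1 + 1) F, orderOf_tt h2, tt_not_center h2 (by omega), main h2 k ?_⟩
  intro hk
  subst hk
  have h1 : 1 < Fintype.card F := Fintype.one_lt_card
  have h3 : Fintype.card F ≠ 3 := fun h => h33 ⟨rfl, h⟩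
  rcases hF with ⟨j, hj⟩
  omega

end Cfsg.Agent.S1340
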