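import Cfsg.Statements.S1357
import Cfsg.Agent.Lib.Helper62.S57Asm
import Cfsg.Agent.Lib.Helper62.S57KPRIMEABS
import Cfsg.Agent.Lib.Helper62.S55SYLNILP
import Cfsg.Agent.Lib.Helper62.S64SYLN
import Cfsg.Agent.Lib.Helper31.S64QUOTPRIME
import Cfsg.Agent.Lib.Helper96.S64FITQ
import Cfsg.Agent.Lib.Helper47.S64DECOMP
import Cfsg.Agent.Lib.Helper93.S64GLUEA
import Cfsg.Agent.Lib.Helper93.S64GLUEB
import Cfsg.Agent.Lib.Helper47.S55KNE
import Cfsg.Agent.Lib.Helper53.S56HALLD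
import Cfsg.Agent.Lib.Helper61.S56FRAT
import Cfsg.Agent.Lib.Helper87.S56LIFT
import Cfsg.Agent.Lib.Helper50.S57QUOTP
import Cfsg.Agent.Lib.Helper70.S57FROBMODP
import Cfsg.Agent.Lib.Helper47.S57NILPROD2
import Cfsg.Agent.Lib.Helper20.S57QBETA
import Cfsg.Agent.Lib.Helper52.S57TICORE
import Cfsg.Agent.Lib.Helper48.S57NILCOMM

set_option autoImplicit false
open Cfsg

namespace Cfsg.Agent.S1357

/-- Let G be a minimal simple group of odd order and M a maximal subgroup with standard factorisation M = K U M_σ. If M_F ≠ M_σ then U = 1, the Fitting subgroup F(M) meets its conjugates by elements outside its normalizer trivially, and K has prime order. -/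
theorem result {G : Type*} [Group G] [Finite G] (hG : Cfsg.IsMinSimpleOddOrder G)
    (M : Subgroup G) (hM : IsCoatom M) (K U : Subgroup G) (hKU : Cfsg.IsSigmaDecomposition M K U) (hne : Cfsg.fittingHallOf M ≠ Cfsg.sigmaCore M) :
    U = ⊥ ∧ Cfsg.IsTISubset (Cfsg.fittingOf M : Set G) ∧ (Nat.card K).Prime := by
  have hSN : Cfsg.Agent.Lib.Helper93.S64Stmt.SylNormal :=
    Cfsg.Agent.Lib.Helper62.S64SYLN.main Cfsg.Agent.Lib.Helper31.S64QUOTPRIME.main
      Cfsg.Agent.Lib.Helper96.S64FITQ.main Cfsg.Agent.Lib.Helper47.S64DECOMP.main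
  have hSP : Cfsg.Agent.Lib.Helper62.S55Stmt.SylNilp :=
    Cfsg.Agent.Lib.Helper62.S55SYLNILP.main Cfsg.Agent.Lib.Helper31.S64QUOTPRIME.main
      Cfsg.Agent.Lib.Helper96.S64FITQ.main Cfsg.Agent.Lib.Helper47.S64DECOMP.main
  have hKP : Cfsg.Agent.Lib.Helper62.S57Stmt.KPrimeAbs :=
    Cfsg.Agent.Lib.Helper62.S57KPRIMEABS.main hSN hSP Cfsg.Agent.Lib.Helper53.S56HALLD.main
      Cfsg.Agent.Lib.Helper61.S56FRAT.main Cfsg.Agent.Lib.Helper87.S56LIFT.main
      (Cfsg.Agent.Lib.Helper50.S57QUOTP.main Cfsg.Agent.Lib.Helper31.S64QUOTPRIME.main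
        Cfsg.Agent.Lib.Helper70.S57FROBMODP.main)
      Cfsg.Agent.Lib.Helper47.S57NILPROD2.main
  exact Cfsg.Agent.Lib.Helper62.S57Asm.final Cfsg.Agent.Lib.Helper47.S55KNE.main
    Cfsg.Agent.Lib.Helper93.S64GLUEA.main Cfsg.Agent.Lib.Helper93.S64GLUEB.main hSN hKP
    (Cfsg.Agent.Lib.Helper20.S57QBETA.main Cfsg.Agent.Lib.Helper47.S57NILPROD2.main hSN hSP
      Cfsg.Agent.Lib.Helper93.S64GLUEA.main Cfsg.Agent.Lib.Helper93.S64GLUEB.main)
    (Cfsg.Agent.Lib.Helper52.S57TICORE.main Cfsg.Agent.Lib.Helper48.S57NILCOMM.main)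
    hG M hM K U hKU hne

end Cfsg.Agent.S1357
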