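import Cfsg.Statements.S1449
import Cfsg.Agent.Lib.Helper9.Rank2Aut

set_option autoImplicit false
open Cfsg

namespace Cfsg.Agent.S1449

/-- Let G be a finite group, p an odd prime, R a p-subgroup with no elementary abelian subgroup of order p ^ 3, and A a solvable subgroup of odd order normalizing R with A ∩ C_G(R) = 1. Then the derived subgroup [A, A] is a p-group. -/
theorem result {G : Type*} [Group G] [Finite G] (p : ℕ) [Fact p.Prime] (hp : p ≠ 2) (R A : Subgroup G) (hR : IsPGroup p R) (hr : Cfsg.PRankLE p 2 R)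
    (hA : (A ≤ Subgroup.normalizer (R : Set G))) (hAs : Group.IsSolvable A) (hAodd : Odd (Nat.card A)) (hfaith : A ⊓ Subgroup.centralizer (R : Set G) = ⊥) :
    IsPGroup p ↥⁅A, A⁆ := by
  have hpp : p.Prime := Fact.out
  have key := Cfsg.Agent.Lib.Helper9.Rank2Aut.conj_derived p hp R A hR hr hA hAs hAodd
  have hle : ⁅A, A⁆ ≤ A := Cfsg.Agent.Lib.Helper9.GL2Odd.commutator_self_le A
  intro g
  have hpos : 0 < orderOf g := orderOf_pos g
  obtain ⟨k, m, hm, hkm⟩ := Nat.exists_eq_pow_mul_and_not_dvd hpos.ne' p hpp.ne_one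
  refine ⟨k, ?_⟩
  have h1 : orderOf (g ^ (p ^ k)) ∣ m := by
    apply orderOf_dvd_of_pow_eq_one
    rw [← pow_mul, ← hkm]
    exact pow_orderOf_eq_one g
  have hcop : (orderOf ((g ^ (p ^ k) : ↥⁅A, A⁆) : G)).Coprime p := by
    rw [Subgroup.orderOf_coe]
    exact Nat.Coprime.coprime_dvd_left h1 ((Nat.Prime.coprime_iff_not_dvd hpp).mpr hm).symm
  have h2 := key _ (g ^ (p ^ k)).2 hcop
  have h3 : ((g ^ (p ^ k) : ↥⁅A, A⁆) : G) ∈ A ⊓ Subgroup.centralizer (R : Set G) :=
    ⟨hle (g ^ (p ^ k)).2, h2⟩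
  rw [hfaith, Subgroup.mem_bot] at h3
  exact Subtype.ext h3

end Cfsg.Agent.S1449
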