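import Cfsg.Statements.S1483
import Cfsg.Agent.Lib.Helper50.CNMax

set_option autoImplicit false
open Cfsg

namespace Cfsg.Agent.S1483

/-- Let G be a minimal simple group of odd order in which every non-identity element has nilpotent centralizer. Then any two nilpotent subgroups each contained in no larger nilpotent subgroup are either conjugate or of coprime orders; and for primes p, q, r: if some elements x, y ≠ 1 of p-power and q-power order commute, and some elements y', z ≠ 1 of q-power and r-power order commute, then some elements of p-power and r-power order, both ≠ 1, commute. -/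
theorem result {G : Type*} [Group G] [Finite G] (hG : Cfsg.IsMinSimpleOddOrder G) (hCN : Cfsg.IsCNGroup G) :
    (∀ H₁ H₂ : Subgroup G, (Group.IsNilpotent ↥H₁ ∧ ∀ L : Subgroup G, Group.IsNilpotent L → H₁ ≤ L → L = H₁) → (Group.IsNilpotent ↥H₂ ∧ ∀ L : Subgroup G, Group.IsNilpotent L → H₂ ≤ L → L = H₂) → (∃ g : G, H₂ = H₁.map (MulAut.conj g).toMonoidHom) ∨ (Nat.card H₁).Coprime (Nat.card H₂)) ∧
      ∀ (p q r : ℕ), p.Prime → q.Prime → r.Prime → ∀ (x y y' z : G), x ≠ 1 → y ≠ 1 → y' ≠ 1 → z ≠ 1 →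
        IsPGroup p (Subgroup.zpowers x) → IsPGroup q (Subgroup.zpowers y) → IsPGroup q (Subgroup.zpowers y') → IsPGroup r (Subgroup.zpowers z) →
        x * y = y * x → y' * z = z * y' →
        ∃ x' z' : G, x' ≠ 1 ∧ z' ≠ 1 ∧ IsPGroup p (Subgroup.zpowers x') ∧ IsPGroup r (Subgroup.zpowers z') ∧ x' * z' = z' * x' := by
  refine ⟨?_, ?_⟩
  · intro H₁ H₂ h₁ h₂
    exact Cfsg.Agent.Lib.Helper50.CNMax.IsMaxNil.conj_or_coprime hCN h₁ h₂
  · intro p q r hp hq hr x y y' z hx1 hy1 hy'1 hz1 hxp hyq hy'q hzr hxy hyz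
    haveI := Fact.mk hp
    haveI := Fact.mk hq
    haveI := Fact.mk hr
    obtain ⟨H₁, hH₁, hle₁⟩ := Cfsg.Agent.Lib.Helper50.CNMax.exists_maxNil_ge _
      (Subgroup.centralizer ({x} : Set G)) (hCN x hx1) rfl
    obtain ⟨H₂, hH₂, hle₂⟩ := Cfsg.Agent.Lib.Helper50.CNMax.exists_maxNil_ge _
      (Subgroup.centralizer ({y'} : Set G)) (hCN y' hy'1) rfl
    have hxH : x ∈ H₁ := hle₁ (Subgroup.mem_centralizer_singleton_iff.mpr rfl)
    have hyH : y ∈ H₁ := hle₁ (Subgroup.mem_centralizer_singleton_iff.mpr hxy.symm)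
    have hy'H : y' ∈ H₂ := hle₂ (Subgroup.mem_centralizer_singleton_iff.mpr rfl)
    have hzH : z ∈ H₂ := hle₂ (Subgroup.mem_centralizer_singleton_iff.mpr hyz.symm)
    have hqd : ∀ (w : G), w ≠ 1 → IsPGroup q (Subgroup.zpowers w) → ∀ K : Subgroup G, w ∈ K →
        q ∣ Nat.card K := by
      intro w hw1 hwq K hwK
      obtain ⟨j, hj⟩ := IsPGroup.iff_card.mp hwq
      rw [Nat.card_zpowers] at hj
      have hj0 : j ≠ 0 := by
        rintro rfl
        rw [pow_zero] at hj
        exact hw1 (orderOf_eq_one_iff.mp hj)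
      have h1 : q ∣ orderOf w := by rw [hj]; exact dvd_pow_self q hj0
      exact h1.trans (Subgroup.orderOf_dvd_natCard K hwK)
    have hq1 := hqd y hy1 hyq H₁ hyH
    have hq2 := hqd y' hy'1 hy'q H₂ hy'H
    rcases hH₁.conj_or_coprime hCN hH₂ with ⟨g, hg⟩ | hcop
    · have hz' : g⁻¹ * z * g ∈ H₁ := by
        rw [← Cfsg.Agent.Lib.Helper50.CNMax.mem_cj, ← hg]; exact hzH
      have hz'1 : g⁻¹ * z * g ≠ 1 := by
        intro h0
        apply hz1
        have e : z = g * (g⁻¹ * z * g) * g⁻¹ := by group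
        rw [e, h0]; group
      have hz'r : IsPGroup r (Subgroup.zpowers (g⁻¹ * z * g)) := by
        obtain ⟨j, hj⟩ := IsPGroup.iff_card.mp hzr
        rw [Nat.card_zpowers] at hj
        apply IsPGroup.of_card (n := j)
        rw [Nat.card_zpowers, Cfsg.Agent.Lib.Helper50.CNZJ.orderOf_conj', hj]
      by_cases hpr : p = r
      · subst hpr
        exact ⟨x, x, hx1, hx1, hxp, hxp, rfl⟩
      · refine ⟨x, g⁻¹ * z * g, hx1, hz'1, hxp, hz'r, ?_⟩
        apply Cfsg.Agent.S1477.commute_in_nilpotent H₁ hH₁.1 hxH hz'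
        obtain ⟨i, hi⟩ := IsPGroup.iff_card.mp hxp
        obtain ⟨j, hj⟩ := IsPGroup.iff_card.mp hz'r
        rw [Nat.card_zpowers] at hi hj
        rw [hi, hj]
        exact Nat.Coprime.pow _ _ ((Nat.coprime_primes hp hr).mpr hpr)
    · exfalso
      have h3 := Nat.dvd_gcd hq1 hq2
      rw [Nat.Coprime.gcd_eq_one hcop] at h3
      exact hq.one_lt.ne' (Nat.dvd_one.mp h3)

end Cfsg.Agent.S1483
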