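import Cfsg.Statements.S1484
import Cfsg.Agent.Lib.Helper50.CNMax

set_option autoImplicit false
open Cfsg

namespace Cfsg.Agent.S1484

/-- Let G be a minimal simple group of odd order in which every non-identity element has nilpotent centralizer, and M₁, …, M_k maximal subgroups, pairwise non-conjugate, such that every maximal subgroup is conjugate to some M_i. Let H_i be the largest normal nilpotent Hall subgroup of M_i. Then the orders of the H_i are pairwise coprime, their product is the order of G, and every element of G is conjugate to an element of some H_i. -/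
theorem result {G : Type*} [Group G] [Finite G] (hG : Cfsg.IsMinSimpleOddOrder G) (hCN : Cfsg.IsCNGroup G) (k : ℕ) (Mrep : Fin k → Subgroup G) (hmax : ∀ i, IsCoatom (Mrep i))
    (hnc : ∀ i j, i ≠ j → ∀ g : G, Mrep j ≠ (Mrep i).map (MulAut.conj g).toMonoidHom) (hall : ∀ M : Subgroup G, IsCoatom M → ∃ i, ∃ g : G, M = (Mrep i).map (MulAut.conj g).toMonoidHom) :
    (∀ i j, i ≠ j → (Nat.card (Cfsg.fittingHallOf (Mrep i))).Coprime (Nat.card (Cfsg.fittingHallOf (Mrep j)))) ∧
      ∏ i, Nat.card (Cfsg.fittingHallOf (Mrep i)) = Nat.card G ∧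
      ∀ x : G, ∃ i, ∃ g : G, g * x * g⁻¹ ∈ Cfsg.fittingHallOf (Mrep i) := by
  have hmn : ∀ i, Cfsg.Agent.Lib.Helper50.CNMax.IsMaxNil (Cfsg.fittingHallOf (Mrep i)) :=
    fun i => (Cfsg.Agent.Lib.Helper50.CNMax.coatom_fittingHallOf hG hCN _ (hmax i)).1
  have hnorm : ∀ i, Subgroup.normalizer ((Cfsg.fittingHallOf (Mrep i) : Subgroup G) : Set G) =
      Mrep i :=
    fun i => (Cfsg.Agent.Lib.Helper50.CNMax.coatom_fittingHallOf hG hCN _ (hmax i)).2.1
  have hcop : ∀ i j, i ≠ j → (Nat.card (Cfsg.fittingHallOf (Mrep i))).Coprime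
      (Nat.card (Cfsg.fittingHallOf (Mrep j))) := by
    intro i j hij
    rcases (hmn i).conj_or_coprime hCN (hmn j) with ⟨g, hg⟩ | hc
    · exfalso
      apply hnc i j hij g
      have h1 := hnorm j
      rw [hg, Cfsg.Agent.Lib.Helper50.CNMax.normalizer_cj, hnorm i] at h1
      exact h1.symm
    · exact hc
  have hconj : ∀ L : Subgroup G, Group.IsNilpotent ↥L →
      ∃ i, ∃ g : G, L.map (MulAut.conj g).toMonoidHom ≤ Cfsg.fittingHallOf (Mrep i) := by
    intro L hL
    obtain ⟨H, hH, hLH⟩ := Cfsg.Agent.Lib.Helper50.CNMax.exists_maxNil_ge _ L hL rfl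
    obtain ⟨i, g, hg⟩ := hH.exists_rep hG hCN k Mrep hall
    exact ⟨i, g, by rw [← hg]; exact Subgroup.map_mono hLH⟩
  refine ⟨hcop, ?_, ?_⟩
  · apply Nat.dvd_antisymm
    · apply Fintype.prod_dvd_of_isRelPrime
      · intro i j hij
        exact Nat.coprime_iff_isRelPrime.mp (hcop i j hij)
      · intro i
        exact Subgroup.card_subgroup_dvd_card _
    · have hG0 : Nat.card G ≠ 0 := Nat.card_pos.ne'
      have hP0 : ∏ i, Nat.card (Cfsg.fittingHallOf (Mrep i)) ≠ 0 :=
        Finset.prod_ne_zero_iff.mpr (fun i _ => Nat.card_pos.ne')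
      rw [← Nat.factorization_prime_le_iff_dvd hG0 hP0]
      intro p hp
      haveI := Fact.mk hp
      obtain ⟨P⟩ : Nonempty (Sylow p G) := inferInstance
      obtain ⟨i, g, hg⟩ := hconj (P : Subgroup G) P.isPGroup'.isNilpotent
      have h1 : p ^ (Nat.card G).factorization p ∣
          ∏ i, Nat.card (Cfsg.fittingHallOf (Mrep i)) := by
        rw [← P.card_eq_multiplicity, ← Cfsg.Agent.Lib.Helper50.CNMax.card_cj (P : Subgroup G) g]
        exact (Subgroup.card_dvd_of_le hg).trans (Finset.dvd_prod_of_mem _ (Finset.mem_univ i))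
      exact (hp.pow_dvd_iff_le_factorization hP0).mp h1
  · intro x
    obtain ⟨i, g, hg⟩ := hconj (Subgroup.zpowers x)
      (Cfsg.Agent.Lib.Helper50.CNMax.zpowers_nilpotent x)
    refine ⟨i, g, hg ?_⟩
    rw [Cfsg.Agent.Lib.Helper50.CNMax.mem_cj]
    have e : g⁻¹ * (g * x * g⁻¹) * g = x := by group
    rw [e]; exact Subgroup.mem_zpowers x

end Cfsg.Agent.S1484
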