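import Cfsg.Statements.S1498
import Mathlib

set_option autoImplicit false
open Cfsg

namespace Cfsg.Agent.S1498

theorem mem_of_coprime_index {C : Type*} [Group C] (N : Subgroup C) [N.Normal] (y : C)
    (h : (N.index).Coprime (orderOf y)) : y ∈ N := by
  obtain ⟨k, hk⟩ := exists_pow_eq_self_of_coprime h
  rw [← hk]; exact N.pow_mem (N.pow_index_mem y) k

theorem conj_mem_aux {G : Type*} [Group G] [Finite G] (A : Set G) (L : Subgroup G) (H : G → Subgroup G)
    (hD : Cfsg.DadeHypothesis A L H) (a : G) (ha : a ∈ A) (x : G) (hx : x ∈ L) (u : G)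
    (hu : u ∈ H a) : x * u * x⁻¹ ∈ H (x * a * x⁻¹) := by
  have ha' : x * a * x⁻¹ ∈ A := hD.conj_mem x hx a ha
  generalize hdef : x * a * x⁻¹ = a' at ha' ⊢
  have hua : u * a = a * u := by
    have := hD.le_centralizer a ha hu
    rwa [Subgroup.mem_centralizer_singleton_iff] at this
  have hyC : x * u * x⁻¹ ∈ Subgroup.centralizer ({a'} : Set G) := by
    rw [Subgroup.mem_centralizer_singleton_iff, ← hdef]
    calc x * u * x⁻¹ * (x * a * x⁻¹) = x * (u * a) * x⁻¹ := by group
      _ = x * (a * u) * x⁻¹ := by rw [hua]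
      _ = x * a * x⁻¹ * (x * u * x⁻¹) := by group
  have hNC : H a' ≤ Subgroup.centralizer ({a'} : Set G) := hD.le_centralizer a' ha'
  haveI hnorm : ((H a').subgroupOf (Subgroup.centralizer ({a'} : Set G))).Normal := by
    constructor
    intro n hn c
    rw [Subgroup.mem_subgroupOf] at hn ⊢
    exact hD.conj_mem_H a' ha' c c.2 n hn
  have hsup : (H a').subgroupOf (Subgroup.centralizer ({a'} : Set G)) ⊔
      (L ⊓ Subgroup.centralizer ({a'} : Set G)).subgroupOf (Subgroup.centralizer ({a'} : Set G)) = ⊤ := by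
    rw [← Subgroup.subgroupOf_sup hNC inf_le_right, hD.sup_eq a' ha']
    exact Subgroup.subgroupOf_self _
  have hidx : ((H a').subgroupOf (Subgroup.centralizer ({a'} : Set G))).index ∣
      Nat.card ↥(L ⊓ Subgroup.centralizer ({a'} : Set G)) := by
    rw [← Subgroup.relIndex_top_right, ← hsup, Subgroup.relIndex_sup_left]
    have := Subgroup.relIndex_dvd_card ((H a').subgroupOf (Subgroup.centralizer ({a'} : Set G)))
      ((L ⊓ Subgroup.centralizer ({a'} : Set G)).subgroupOf (Subgroup.centralizer ({a'} : Set G)))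
    rwa [Nat.card_congr (Subgroup.subgroupOfEquivOfLe
      (inf_le_right : L ⊓ Subgroup.centralizer ({a'} : Set G) ≤ _)).toEquiv] at this
  have hord : orderOf (⟨x * u * x⁻¹, hyC⟩ : Subgroup.centralizer ({a'} : Set G)) = orderOf u := by
    rw [← Subgroup.orderOf_coe]
    exact (MulAut.conj x).orderOf_eq u
  have hcop : (((H a').subgroupOf (Subgroup.centralizer ({a'} : Set G))).index).Coprime
      (orderOf (⟨x * u * x⁻¹, hyC⟩ : Subgroup.centralizer ({a'} : Set G))) := by
    rw [hord]
    have h1 : orderOf u ∣ Nat.card (H a) := Subgroup.orderOf_dvd_natCard (H a) hu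
    have h2 := hD.coprime a ha a' ha'
    exact ((h2.coprime_dvd_left h1).coprime_dvd_right hidx).symm
  have := mem_of_coprime_index _ _ hcop
  rwa [Subgroup.mem_subgroupOf] at this

/-- Under the Dade hypothesis for (A, L, H): for a ∈ A and x ∈ L, the subgroup attached to x * a * x⁻¹ is the conjugate of H a by x. -/
theorem result {G : Type*} [Group G] [Finite G] (A : Set G) (L : Subgroup G) (H : G → Subgroup G) (hD : Cfsg.DadeHypothesis A L H) (a : G) (ha : a ∈ A) (x : G) (hx : x ∈ L) : H (x * a * x⁻¹) = (H a).map (MulAut.conj x).toMonoidHom := by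
  apply le_antisymm
  · intro n hn
    have ha' : x * a * x⁻¹ ∈ A := hD.conj_mem x hx a ha
    have h := conj_mem_aux A L H hD (x * a * x⁻¹) ha' x⁻¹ (L.inv_mem hx) n hn
    have e : x⁻¹ * (x * a * x⁻¹) * x⁻¹⁻¹ = a := by group
    rw [e] at h
    refine ⟨x⁻¹ * n * x⁻¹⁻¹, h, ?_⟩
    simp only [MulEquiv.coe_toMonoidHom, MulAut.conj_apply]
    group
  · rintro _ ⟨u, hu, rfl⟩
    simp only [MulEquiv.coe_toMonoidHom, MulAut.conj_apply]
    exact conj_mem_aux A L H hD a ha x hx u hu

end Cfsg.Agent.S1498
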