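import Cfsg.Statements.S1499
import Mathlib

set_option autoImplicit false
open Cfsg

namespace Cfsg.Agent.S1499

theorem pow_trick {G : Type*} [Group G] [Finite G] (A : Set G) (L : Subgroup G) (H : G → Subgroup G)
    (hD : Cfsg.DadeHypothesis A L H) (a b : G) (ha : a ∈ A) (hb : b ∈ A) (u v : G)
    (hu : u ∈ H a) (hv : v ∈ H b) :
    ∃ e : ℕ, (a * u) ^ e = a ∧ (b * v) ^ e = b := by
  set N := Nat.card (H a) * Nat.card (H b) with hN
  set M := Nat.card ↥(L ⊓ Subgroup.centralizer ({a} : Set G)) *
    Nat.card ↥(L ⊓ Subgroup.centralizer ({b} : Set G)) with hM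
  have hcop : Nat.Coprime N M := by
    rw [hN, hM]
    exact Nat.Coprime.mul_left
      (Nat.Coprime.mul_right (hD.coprime a ha a ha) (hD.coprime a ha b hb))
      (Nat.Coprime.mul_right (hD.coprime b hb a ha) (hD.coprime b hb b hb))
  obtain ⟨e, he0, he1⟩ := Nat.chineseRemainder hcop 0 1
  have hua : Commute a u := by
    have := hD.le_centralizer a ha hu
    rw [Subgroup.mem_centralizer_singleton_iff] at this
    exact this.symm
  have hvb : Commute b v := by
    have := hD.le_centralizer b hb hv
    rw [Subgroup.mem_centralizer_singleton_iff] at this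
    exact this.symm
  have hNe : N ∣ e := (Nat.modEq_zero_iff_dvd).mp he0
  have huo : orderOf u ∣ N := by
    have : orderOf u ∣ Nat.card (H a) := by
      have := Subgroup.orderOf_dvd_natCard (H a) hu
      exact this
    exact this.trans (Dvd.intro _ rfl)
  have hvo : orderOf v ∣ N := by
    have : orderOf v ∣ Nat.card (H b) := Subgroup.orderOf_dvd_natCard (H b) hv
    exact this.trans (Dvd.intro_left _ rfl)
  have hao : orderOf a ∣ M := by
    have hmem : a ∈ L ⊓ Subgroup.centralizer ({a} : Set G) :=
      ⟨hD.subset ha, Subgroup.mem_centralizer_singleton_iff.mpr rfl⟩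
    have : orderOf a ∣ Nat.card ↥(L ⊓ Subgroup.centralizer ({a} : Set G)) :=
      Subgroup.orderOf_dvd_natCard _ hmem
    exact this.trans (Dvd.intro _ rfl)
  have hbo : orderOf b ∣ M := by
    have hmem : b ∈ L ⊓ Subgroup.centralizer ({b} : Set G) :=
      ⟨hD.subset hb, Subgroup.mem_centralizer_singleton_iff.mpr rfl⟩
    have : orderOf b ∣ Nat.card ↥(L ⊓ Subgroup.centralizer ({b} : Set G)) :=
      Subgroup.orderOf_dvd_natCard _ hmem
    exact this.trans (Dvd.intro_left _ rfl)
  have hue : u ^ e = 1 := orderOf_dvd_iff_pow_eq_one.mp (huo.trans hNe)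
  have hve : v ^ e = 1 := orderOf_dvd_iff_pow_eq_one.mp (hvo.trans hNe)
  have hae : a ^ e = a := by
    have h1 : a ^ e = a ^ 1 := by
      rw [pow_eq_pow_iff_modEq]
      exact he1.of_dvd hao
    simpa using h1
  have hbe : b ^ e = b := by
    have h1 : b ^ e = b ^ 1 := by
      rw [pow_eq_pow_iff_modEq]
      exact he1.of_dvd hbo
    simpa using h1
  refine ⟨e, ?_, ?_⟩
  · rw [hua.mul_pow, hue, hae, mul_one]
  · rw [hvb.mul_pow, hve, hbe, mul_one]

/-- Under the Dade hypothesis for (A, L, H), let a, b ∈ A. If an element of the coset a·H(a) is conjugate in G to an element of b·H(b), then a and b are conjugate by an element of L. Moreover the set normaliser of the coset a·H(a) is the centraliser of a. -/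
theorem result {G : Type*} [Group G] [Finite G] (A : Set G) (L : Subgroup G) (H : G → Subgroup G) (hD : Cfsg.DadeHypothesis A L H) (a b : G) (ha : a ∈ A) (hb : b ∈ A) : ((∃ u ∈ H a, ∃ v ∈ H b, ∃ g : G, g * (a * u) * g⁻¹ = b * v) → ∃ x ∈ L, x * a * x⁻¹ = b) ∧ Subgroup.normalizer ((fun u : G => a * u) '' (H a : Set G)) = Subgroup.centralizer ({a} : Set G) := by
  constructor
  · rintro ⟨u, hu, v, hv, g, hg⟩
    obtain ⟨e, he1, he2⟩ := pow_trick A L H hD a b ha hb u v hu hv
    have hgab : g * a * g⁻¹ = b := by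
      have h := congrArg (fun z => z ^ e) hg
      simp only [conj_pow] at h
      rw [he1, he2] at h
      exact h
    obtain ⟨x, hx, hxe⟩ := hD.fusion a ha g (by rw [hgab]; exact hb)
    exact ⟨x, hx, hxe.trans hgab⟩
  · apply le_antisymm
    · intro g hg
      rw [Subgroup.mem_set_normalizer_iff] at hg
      have h1 : a ∈ (fun u : G => a * u) '' (H a : Set G) := ⟨1, (H a).one_mem, mul_one a⟩
      obtain ⟨v, hv, hve⟩ := (hg a).mp h1
      obtain ⟨e, he1, he2⟩ := pow_trick A L H hD a a ha ha 1 v (H a).one_mem hv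
      rw [mul_one] at he1
      have hgab : g * a * g⁻¹ = a := by
        have h := congrArg (fun z => z ^ e) hve
        simp only [conj_pow] at h
        rw [he1, he2] at h
        exact h.symm
      rw [Subgroup.mem_centralizer_singleton_iff]
      calc g * a = g * a * g⁻¹ * g := by group
        _ = a * g := by rw [hgab]
    · intro c hc
      have hc' := hc
      rw [Subgroup.mem_centralizer_singleton_iff] at hc
      have hci : c⁻¹ ∈ Subgroup.centralizer ({a} : Set G) := Subgroup.inv_mem _ hc'
      have hci' := hci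
      rw [Subgroup.mem_centralizer_singleton_iff] at hci'
      rw [Subgroup.mem_set_normalizer_iff]
      intro h
      constructor
      · rintro ⟨u, hu, rfl⟩
        refine ⟨c * u * c⁻¹, hD.conj_mem_H a ha c hc' u hu, ?_⟩
        calc a * (c * u * c⁻¹) = (a * c) * u * c⁻¹ := by group
          _ = (c * a) * u * c⁻¹ := by rw [hc]
          _ = c * (a * u) * c⁻¹ := by group
      · rintro ⟨u, hu, hue⟩
        refine ⟨c⁻¹ * u * c⁻¹⁻¹, hD.conj_mem_H a ha c⁻¹ hci u hu, ?_⟩
        have hue' : a * u = c * h * c⁻¹ := hue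
        have : h = c⁻¹ * (a * u) * c := by rw [hue']; group
        rw [this]
        calc a * (c⁻¹ * u * c⁻¹⁻¹) = (a * c⁻¹) * u * c := by group
          _ = (c⁻¹ * a) * u * c := by rw [hci']
          _ = c⁻¹ * (a * u) * c := by group

end Cfsg.Agent.S1499
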