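import Cfsg.Statements.S1500
import Cfsg.Agent.S1498
import Cfsg.Agent.S1499
import Mathlib

set_option autoImplicit false
open Cfsg

namespace Cfsg.Agent.S1500

open scoped ComplexConjugate

section

variable {G : Type*} [Group G] [Fintype G] (A : Set G) (L : Subgroup G) (H : G → Subgroup G)

theorem conj_A_part (hD : DadeHypothesis A L H) (a b : G) (ha : a ∈ A) (hb : b ∈ A) (u v : G)
    (hu : u ∈ H a) (hv : v ∈ H b) (g : G) (hg : g * (a * u) * g⁻¹ = b * v) :
    g * a * g⁻¹ = b := by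
  obtain ⟨e, he1, he2⟩ := Cfsg.Agent.S1499.pow_trick A L H hD a b ha hb u v hu hv
  have h := congrArg (fun z => z ^ e) hg
  simp only [conj_pow] at h
  rw [he1, he2] at h
  exact h

theorem dade_eq (hD : DadeHypothesis A L H) (α : L → ℂ) (hα : IsClassFunction L α) (a : L)
    (ha : (a : G) ∈ A) (g x u : G) (hu : u ∈ H a) (hx : x * g * x⁻¹ = a * u) :
    dadeIsometry A L H α g = α a := by
  classical
  have h : ∃ a : ↥L, (a : G) ∈ A ∧ ∃ x : G, ∃ u ∈ H (a : G), x * g * x⁻¹ = (a : G) * u :=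
    ⟨a, ha, x, u, hu, hx⟩
  unfold dadeIsometry
  rw [dif_pos h]
  obtain ⟨ha', x', u', hu', hx'⟩ := Classical.choose_spec h
  generalize Classical.choose h = a' at ha' hu' hx'
  have e : (x * x'⁻¹) * ((a' : G) * u') * (x * x'⁻¹)⁻¹ = (a : G) * u := by
    rw [← hx', ← hx]; group
  have hc := conj_A_part A L H hD a' a ha' ha u' u hu' hu _ e
  obtain ⟨l, hl, hle⟩ := hD.fusion a' ha' (x * x'⁻¹) (by rw [hc]; exact ha)
  have h2 : a = ⟨l, hl⟩ * a' * ⟨l, hl⟩⁻¹ := by
    apply Subtype.ext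
    simp only [Subgroup.coe_mul, Subgroup.coe_inv]
    rw [hle, hc]
  rw [h2, hα]

theorem dade_zero (α : L → ℂ) (g : G)
    (h : ¬ ∃ a : ↥L, (a : G) ∈ A ∧ ∃ x : G, ∃ u ∈ H (a : G), x * g * x⁻¹ = (a : G) * u) :
    dadeIsometry A L H α g = 0 := by
  unfold dadeIsometry
  rw [dif_neg h]

theorem dade_class (hD : DadeHypothesis A L H) (α : L → ℂ) (hα : IsClassFunction L α) :
    IsClassFunction G (dadeIsometry A L H α) := by
  intro g y
  by_cases h : ∃ a : ↥L, (a : G) ∈ A ∧ ∃ x : G, ∃ u ∈ H (a : G), x * g * x⁻¹ = (a : G) * u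
  · obtain ⟨a, ha, x, u, hu, hx⟩ := h
    rw [dade_eq A L H hD α hα a ha g x u hu hx]
    exact dade_eq A L H hD α hα a ha (y * g * y⁻¹) (x * y⁻¹) u hu (by rw [← hx]; group)
  · rw [dade_zero A L H α g h]
    apply dade_zero
    rintro ⟨a, ha, x, u, hu, hx⟩
    exact h ⟨a, ha, x * y, u, hu, by rw [← hx]; group⟩

open Classical in
/-- weight: `|H a|⁻¹` at the elements of `a * H a`, `a ∈ A`. -/
noncomputable def wt (z : G) : ℂ :=
  ∑ a : G, if (a ∈ A ∧ a⁻¹ * z ∈ H a) then ((Nat.card (H a) : ℂ))⁻¹ else 0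

open Classical in
theorem sum_wt (Φ : G → ℂ) :
    ∑ z : G, wt A H z * Φ z =
      ∑ a : G, if a ∈ A then ((Nat.card (H a) : ℂ))⁻¹ *
        ∑ u : G, (if u ∈ H a then Φ (a * u) else 0) else 0 := by
  unfold wt
  simp_rw [Finset.sum_mul]
  rw [Finset.sum_comm]
  apply Finset.sum_congr rfl
  intro a _
  by_cases ha : a ∈ A
  · rw [if_pos ha, Finset.mul_sum]
    apply (Fintype.sum_equiv (Equiv.mulLeft a) _ _ _).symm
    intro u
    simp only [Equiv.coe_mulLeft, inv_mul_cancel_left]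
    by_cases hu : u ∈ H a
    · rw [if_pos hu, if_pos ⟨ha, hu⟩]
    · rw [if_neg hu, if_neg (fun h => hu h.2)]; simp
  · rw [if_neg ha]
    apply Finset.sum_eq_zero
    intro z _
    rw [if_neg (fun h => ha h.1), zero_mul]

/-- the set of `x` with `x a₀ x⁻¹ ∈ A` is `L * H a₀`, in bijection with `L × H a₀`. -/
theorem card_conj_A (hD : DadeHypothesis A L H) (a₀ : G) (ha₀ : a₀ ∈ A) :
    Nat.card {x : G // x * a₀ * x⁻¹ ∈ A} = Nat.card L * Nat.card (H a₀) := by
  classical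
  have hHC : H a₀ ≤ Subgroup.centralizer ({a₀} : Set G) := hD.le_centralizer a₀ ha₀
  have hcomm : ∀ h ∈ H a₀, h * a₀ * h⁻¹ = a₀ := by
    intro h hh
    have := hHC hh
    rw [Subgroup.mem_centralizer_singleton_iff] at this
    rw [this]; group
  have hwd : ∀ p : L × H a₀, ((p.1 : G) * (p.2 : G)) * a₀ * ((p.1 : G) * (p.2 : G))⁻¹ ∈ A := by
    rintro ⟨l, h⟩
    have e : ((l : G) * (h : G)) * a₀ * ((l : G) * (h : G))⁻¹ =
        (l : G) * ((h : G) * a₀ * (h : G)⁻¹) * (l : G)⁻¹ := by group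
    rw [e, hcomm h h.2]
    exact hD.conj_mem l l.2 a₀ ha₀
  rw [← Nat.card_prod]
  symm
  apply Nat.card_congr
  apply Equiv.ofBijective (fun p : L × H a₀ => (⟨(p.1 : G) * (p.2 : G), hwd p⟩ :
    {x : G // x * a₀ * x⁻¹ ∈ A}))
  constructor
  · rintro ⟨l, h⟩ ⟨l', h'⟩ heq
    have heq' : (l : G) * (h : G) = (l' : G) * (h' : G) := congrArg Subtype.val heq
    have h1 : (l' : G)⁻¹ * (l : G) = (h' : G) * (h : G)⁻¹ := by
      rw [eq_mul_inv_iff_mul_eq, mul_assoc, heq']; group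
    have h2 : (h' : G) * (h : G)⁻¹ ∈ H a₀ ⊓ (L ⊓ Subgroup.centralizer ({a₀} : Set G)) := by
      have hm : (h' : G) * (h : G)⁻¹ ∈ H a₀ := (H a₀).mul_mem h'.2 ((H a₀).inv_mem h.2)
      refine Subgroup.mem_inf.mpr ⟨hm, Subgroup.mem_inf.mpr ⟨?_, hHC hm⟩⟩
      rw [← h1]
      exact L.mul_mem (L.inv_mem l'.2) l.2
    rw [hD.inf_eq_bot a₀ ha₀, Subgroup.mem_bot] at h2
    have h3 : (h' : G) = (h : G) := by
      rw [mul_inv_eq_one] at h2; exact h2
    have h4 : (l : G) = (l' : G) := by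
      rw [h3] at heq'
      exact mul_right_cancel heq'
    exact Prod.ext (Subtype.ext h4) (Subtype.ext h3.symm)
  · rintro ⟨x, hx⟩
    obtain ⟨l, hl, hle⟩ := hD.fusion a₀ ha₀ x hx
    have hc : l⁻¹ * x ∈ Subgroup.centralizer ({a₀} : Set G) := by
      rw [Subgroup.mem_centralizer_singleton_iff]
      have e : x * a₀ = l * a₀ * l⁻¹ * x := by rw [hle]; group
      calc l⁻¹ * x * a₀ = l⁻¹ * (x * a₀) := by group
        _ = l⁻¹ * (l * a₀ * l⁻¹ * x) := by rw [e]
        _ = a₀ * (l⁻¹ * x) := by group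
    -- decompose in the centralizer
    haveI hnorm : ((H a₀).subgroupOf (Subgroup.centralizer ({a₀} : Set G))).Normal := by
      constructor
      intro n hn c
      rw [Subgroup.mem_subgroupOf] at hn ⊢
      exact hD.conj_mem_H a₀ ha₀ c c.2 n hn
    have hsup : (L ⊓ Subgroup.centralizer ({a₀} : Set G)).subgroupOf
          (Subgroup.centralizer ({a₀} : Set G)) ⊔
        (H a₀).subgroupOf (Subgroup.centralizer ({a₀} : Set G)) = ⊤ := by
      rw [← Subgroup.subgroupOf_sup inf_le_right hHC, sup_comm, hD.sup_eq a₀ ha₀]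
      exact Subgroup.subgroupOf_self _
    have hmem : (⟨l⁻¹ * x, hc⟩ : Subgroup.centralizer ({a₀} : Set G)) ∈
        (((L ⊓ Subgroup.centralizer ({a₀} : Set G)).subgroupOf
          (Subgroup.centralizer ({a₀} : Set G)) ⊔
        (H a₀).subgroupOf (Subgroup.centralizer ({a₀} : Set G)) :
          Subgroup (Subgroup.centralizer ({a₀} : Set G))) :
          Set (Subgroup.centralizer ({a₀} : Set G))) := by
      rw [hsup]; exact Set.mem_univ _
    rw [Subgroup.mul_normal] at hmem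
    obtain ⟨m, hm, n, hn, hmn⟩ := hmem
    rw [SetLike.mem_coe, Subgroup.mem_subgroupOf] at hm hn
    have hmn' : (m : G) * (n : G) = l⁻¹ * x := congrArg Subtype.val hmn
    refine ⟨(⟨l * (m : G), L.mul_mem hl hm.1⟩, ⟨(n : G), hn⟩), ?_⟩
    apply Subtype.ext
    simp only
    rw [mul_assoc, hmn']; group

open Classical in
theorem wt_conj_val (hD : DadeHypothesis A L H) (a₀ u₀ : G) (ha₀ : a₀ ∈ A) (hu₀ : u₀ ∈ H a₀)
    (x : G) :
    wt A H (x * (a₀ * u₀) * x⁻¹) =
      if x * a₀ * x⁻¹ ∈ A then ((Nat.card (H a₀) : ℂ))⁻¹ else 0 := by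
  unfold wt
  have hpart : ∀ b : G, b ∈ A → b⁻¹ * (x * (a₀ * u₀) * x⁻¹) ∈ H b → x * a₀ * x⁻¹ = b := by
    intro b hbA hbH
    exact conj_A_part A L H hD a₀ b ha₀ hbA u₀ _ hu₀ hbH x (by group)
  by_cases hx : x * a₀ * x⁻¹ ∈ A
  · rw [if_pos hx]
    obtain ⟨l, hl, hle⟩ := hD.fusion a₀ ha₀ x hx
    have hc : l⁻¹ * x ∈ Subgroup.centralizer ({a₀} : Set G) := by
      rw [Subgroup.mem_centralizer_singleton_iff]
      have e : x * a₀ = l * a₀ * l⁻¹ * x := by rw [hle]; group
      calc l⁻¹ * x * a₀ = l⁻¹ * (x * a₀) := by group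
        _ = l⁻¹ * (l * a₀ * l⁻¹ * x) := by rw [e]
        _ = a₀ * (l⁻¹ * x) := by group
    have hxu : x * u₀ * x⁻¹ ∈ H (x * a₀ * x⁻¹) := by
      have h1 : (l⁻¹ * x) * u₀ * (l⁻¹ * x)⁻¹ ∈ H a₀ := hD.conj_mem_H a₀ ha₀ _ hc u₀ hu₀
      have h2 := Cfsg.Agent.S1498.conj_mem_aux A L H hD a₀ ha₀ l hl _ h1
      rw [hle] at h2
      have e : l * ((l⁻¹ * x) * u₀ * (l⁻¹ * x)⁻¹) * l⁻¹ = x * u₀ * x⁻¹ := by group
      rwa [e] at h2
    have hcard : Nat.card (H (x * a₀ * x⁻¹)) = Nat.card (H a₀) := by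
      rw [← hle, Cfsg.Agent.S1498.result A L H hD a₀ ha₀ l hl]
      exact Nat.card_congr
        ((H a₀).equivMapOfInjective _ (MulAut.conj l).injective).symm.toEquiv
    rw [Finset.sum_eq_single (x * a₀ * x⁻¹)]
    · have e : (x * a₀ * x⁻¹)⁻¹ * (x * (a₀ * u₀) * x⁻¹) = x * u₀ * x⁻¹ := by group
      rw [if_pos ⟨hx, by rw [e]; exact hxu⟩, hcard]
    · intro b _ hb
      rw [if_neg]
      rintro ⟨hbA, hbH⟩
      exact hb (hpart b hbA hbH).symm
    · intro h; exact absurd (Finset.mem_univ _) h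
  · rw [if_neg hx]
    apply Finset.sum_eq_zero
    intro b _
    rw [if_neg]
    rintro ⟨hbA, hbH⟩
    apply hx
    rw [hpart b hbA hbH]; exact hbA

theorem c_val (hD : DadeHypothesis A L H) (a₀ u₀ : G) (ha₀ : a₀ ∈ A) (hu₀ : u₀ ∈ H a₀) :
    ∑ x : G, wt A H (x * (a₀ * u₀) * x⁻¹) = (Nat.card L : ℂ) := by
  classical
  simp_rw [wt_conj_val A L H hD a₀ u₀ ha₀ hu₀]
  rw [Finset.sum_ite, Finset.sum_const_zero, add_zero, Finset.sum_const, nsmul_eq_mul]
  have hc : (Finset.univ.filter (fun x : G => x * a₀ * x⁻¹ ∈ A)).card =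
      Nat.card L * Nat.card (H a₀) := by
    rw [← card_conj_A A L H hD a₀ ha₀, Nat.card_eq_fintype_card, Fintype.card_subtype]
  rw [hc]
  push_cast
  have hne : (Nat.card (H a₀) : ℂ) ≠ 0 := by exact_mod_cast Nat.card_pos.ne'
  field_simp

theorem c_conj (g y : G) :
    ∑ x : G, wt A H (x * (y * g * y⁻¹) * x⁻¹) = ∑ x : G, wt A H (x * g * x⁻¹) := by
  apply Fintype.sum_equiv (Equiv.mulRight y)
  intro x
  simp only [Equiv.coe_mulRight]
  congr 1
  group

open Classical in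
theorem key (hD : DadeHypothesis A L H) (F : G → ℂ) (hF : IsClassFunction G F)
    (hF0 : ∀ g : G, (¬ ∃ a ∈ A, ∃ x : G, ∃ u ∈ H a, x * g * x⁻¹ = a * u) → F g = 0) :
    (Nat.card L : ℂ) * ∑ g : G, F g =
      (Nat.card G : ℂ) * ∑ a : G, if a ∈ A then ((Nat.card (H a) : ℂ))⁻¹ *
        ∑ u : G, (if u ∈ H a then F (a * u) else 0) else 0 := by
  rw [← sum_wt A H F]
  have h1 : (Nat.card L : ℂ) * ∑ g : G, F g = ∑ g : G, F g * ∑ x : G, wt A H (x * g * x⁻¹) := by
    rw [Finset.mul_sum]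
    apply Finset.sum_congr rfl
    intro g _
    by_cases h : ∃ a ∈ A, ∃ x : G, ∃ u ∈ H a, x * g * x⁻¹ = a * u
    · obtain ⟨a, ha, x, u, hu, hx⟩ := h
      rw [← c_conj A H g x, hx, c_val A L H hD a u ha hu, mul_comm]
    · rw [hF0 g h]; simp
  have h2 : ∀ x : G, ∑ g : G, F g * wt A H (x * g * x⁻¹) = ∑ z : G, wt A H z * F z := by
    intro x
    apply Fintype.sum_equiv (MulAut.conj x).toEquiv
    intro g
    have e : (MulAut.conj x).toEquiv g = x * g * x⁻¹ := rfl
    rw [e, hF g x, mul_comm]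
  calc (Nat.card L : ℂ) * ∑ g : G, F g = ∑ g : G, F g * ∑ x : G, wt A H (x * g * x⁻¹) := h1
    _ = ∑ g : G, ∑ x : G, F g * wt A H (x * g * x⁻¹) := by simp_rw [Finset.mul_sum]
    _ = ∑ x : G, ∑ g : G, F g * wt A H (x * g * x⁻¹) := Finset.sum_comm
    _ = ∑ x : G, ∑ z : G, wt A H z * F z := Finset.sum_congr rfl (fun x _ => h2 x)
    _ = (Nat.card G : ℂ) * ∑ z : G, wt A H z * F z := by
      rw [Finset.sum_const, Finset.card_univ, nsmul_eq_mul, Nat.card_eq_fintype_card]

open Classical in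
theorem finsum_mem_eq (S : Subgroup G) (f : G → ℂ) :
    ∑ᶠ u ∈ (S : Set G), f u = ∑ u : G, if u ∈ S then f u else 0 := by
  rw [finsum_mem_def, finsum_eq_sum_of_fintype]
  apply Finset.sum_congr rfl
  intro u _
  simp [Set.indicator_apply]

theorem part_ii [Fintype L] (hD : DadeHypothesis A L H) (α : L → ℂ) (hα : IsClassFunction L α)
    (hαA : ∀ x : L, (x : G) ∉ A → α x = 0) (χ : G → ℂ) (ψ : L → ℂ) (hχ : IsClassFunction G χ)
    (hψ : ∀ a : L, (a : G) ∈ A →
      ψ a = (Nat.card (H a) : ℂ)⁻¹ * ∑ᶠ u ∈ (H a : Set G), χ (a * u)) :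
    classInner (dadeIsometry A L H α) χ = classInner α ψ := by
  classical
  unfold classInner
  have hF : IsClassFunction G (fun g => dadeIsometry A L H α g * conj (χ g)) := by
    intro g y
    simp only
    rw [dade_class A L H hD α hα g y, hχ g y]
  have hF0 : ∀ g : G, (¬ ∃ a ∈ A, ∃ x : G, ∃ u ∈ H a, x * g * x⁻¹ = a * u) →
      dadeIsometry A L H α g * conj (χ g) = 0 := by
    intro g hg
    rw [dade_zero, zero_mul]
    rintro ⟨a, ha, x, u, hu, hx⟩
    exact hg ⟨a, ha, x, u, hu, hx⟩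
  have hkey := key A L H hD _ hF hF0
  have hL : (Nat.card L : ℂ) ≠ 0 := by exact_mod_cast Nat.card_pos.ne'
  have hG : (Nat.card G : ℂ) ≠ 0 := by exact_mod_cast Nat.card_pos.ne'
  have hsum : (∑ a : G, if a ∈ A then ((Nat.card (H a) : ℂ))⁻¹ *
        ∑ u : G, (if u ∈ H a then dadeIsometry A L H α (a * u) * conj (χ (a * u)) else 0)
        else 0) = ∑ a : L, α a * conj (ψ a) := by
    rw [← Finset.sum_filter_of_ne (p := fun a : G => a ∈ L)
      (fun a _ hne => by
        by_contra hcon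
        exact hne (if_neg (fun h => hcon (hD.subset h))))]
    rw [Finset.sum_subtype (p := fun a : G => a ∈ L) _ (by simp)]
    apply Finset.sum_congr rfl
    intro a _
    by_cases ha : (a : G) ∈ A
    · rw [if_pos ha, hψ a ha, finsum_mem_eq]
      have e : ∀ u : G, (if u ∈ H a then dadeIsometry A L H α ((a : G) * u) *
          conj (χ ((a : G) * u)) else 0) = α a * conj (if u ∈ H a then χ ((a : G) * u) else 0) := by
        intro u
        by_cases hu : u ∈ H a
        · rw [if_pos hu, if_pos hu, dade_eq A L H hD α hα a ha ((a : G) * u) 1 u hu (by group)]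
        · rw [if_neg hu, if_neg hu, map_zero, mul_zero]
      simp_rw [e]
      rw [← Finset.mul_sum, map_mul, map_inv₀, map_natCast, map_sum]
      ring
    · rw [if_neg ha, hαA a ha, zero_mul]
  rw [hsum] at hkey
  field_simp
  linear_combination hkey

end

/-- Under the Dade hypothesis for (A, L, H), let α be a class function of L vanishing outside A. Then (i) for every class function β of L vanishing outside A, the inner product over G of the Dade images of α and β equals the inner product of α and β over L; and (ii) for every class function χ of G and every function ψ on L whose value at each a ∈ A is the average of χ over the coset a·H(a), the inner product over G of the Dade image of α with χ equals the inner product over L of α with ψ. -/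
theorem result {G : Type*} [Group G] [Fintype G] (A : Set G) (L : Subgroup G) [Fintype L] (H : G → Subgroup G) (hD : Cfsg.DadeHypothesis A L H) (α : L → ℂ) (hα : Cfsg.IsClassFunction L α) (hαA : ∀ x : L, (x : G) ∉ A → α x = 0) : (∀ β : L → ℂ, Cfsg.IsClassFunction L β → (∀ x : L, (x : G) ∉ A → β x = 0) → Cfsg.classInner (Cfsg.dadeIsometry A L H α) (Cfsg.dadeIsometry A L H β) = Cfsg.classInner α β) ∧ (∀ (χ : G → ℂ) (ψ : L → ℂ), Cfsg.IsClassFunction G χ → (∀ a : L, (a : G) ∈ A → ψ a = (Nat.card (H a) : ℂ)⁻¹ * ∑ᶠ u ∈ (H a : Set G), χ (a * u)) → Cfsg.classInner (Cfsg.dadeIsometry A L H α) χ = Cfsg.classInner α ψ) := by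
  classical
  constructor
  · intro β hβ hβA
    apply part_ii A L H hD α hα hαA _ β (dade_class A L H hD β hβ)
    intro a ha
    rw [finsum_mem_eq]
    have e : ∀ u : G, (if u ∈ H a then dadeIsometry A L H β ((a : G) * u) else 0) =
        if u ∈ H a then β a else 0 := by
      intro u
      by_cases hu : u ∈ H a
      · rw [if_pos hu, if_pos hu, dade_eq A L H hD β hβ a ha ((a : G) * u) 1 u hu (by group)]
      · rw [if_neg hu, if_neg hu]
    simp_rw [e]
    rw [Finset.sum_ite, Finset.sum_const_zero, add_zero, Finset.sum_const, nsmul_eq_mul]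
    have hc : ((Finset.univ.filter (fun u : G => u ∈ H a)).card : ℂ) = (Nat.card (H a) : ℂ) := by
      rw [Nat.card_eq_fintype_card, Fintype.card_subtype]
    rw [hc]
    have hne : (Nat.card (H a) : ℂ) ≠ 0 := by exact_mod_cast Nat.card_pos.ne'
    field_simp
  · intro χ ψ hχ hψ
    exact part_ii A L H hD α hα hαA χ ψ hχ hψ

end Cfsg.Agent.S1500
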