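import Cfsg.Statements.S1536
import Mathlib
import Cfsg.Agent.Lib.Helper3.Irr
import Cfsg.Agent.Lib.Helper3.ClassCount
import Cfsg.Agent.Lib.CT.Ops
import Cfsg.Agent.Lib.CT.Clifford
import Cfsg.Agent.S0001
import Cfsg.Agent.S0059

set_option autoImplicit false
open Cfsg

namespace Cfsg.Agent.S1536

open Cfsg.Agent.Lib.Helper3.Irr Cfsg.Agent.Lib.CT.Clifford
open scoped Pointwise

universe u

/-- If `x` fixes the `H`-class of `k ∈ H`, for a normal Hall subgroup `H`, then `x` centralises a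
conjugate of `k` (Glauberman's lemma for the cyclic group generated by `x`). -/
theorem exists_commute_of_conj {M : Type u} [Group M] [Finite M] (H : Subgroup M) [hN : H.Normal]
    (hHall : Nat.Coprime (Nat.card H) H.index) (x k y : M) (hk : k ∈ H) (hk1 : k ≠ 1)
    (hy : y ∈ H) (hxy : x * k * x⁻¹ = y * k * y⁻¹) : ∃ h ∈ H, h ≠ 1 ∧ x * h = h * x := by
  classical
  by_cases hcase : ∃ i : ℤ, x ^ i ∈ H ∧ x ^ i ≠ 1
  · obtain ⟨i, hi, hi1⟩ := hcase
    refine ⟨x ^ i, hi, hi1, ?_⟩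
    have h1 : Commute x (x ^ i) := Commute.zpow_right (Commute.refl x) i
    exact h1.eq
  · push Not at hcase
    have hHL : H ≤ H ⊔ Subgroup.zpowers x := le_sup_left
    have hxL : x ∈ H ⊔ Subgroup.zpowers x :=
      (le_sup_right : Subgroup.zpowers x ≤ H ⊔ Subgroup.zpowers x) (Subgroup.mem_zpowers x)
    generalize hLdef : H ⊔ Subgroup.zpowers x = L at hHL hxL
    haveI hKn : (H.subgroupOf L).Normal := hN.subgroupOf L
    have hdecomp : ∀ l : L, ∃ (h : M) (hh : h ∈ H) (i : ℤ),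
        l = (⟨h, hHL hh⟩ : L) * (⟨x, hxL⟩ : L) ^ i := by
      intro l
      have h1 : (l : M) ∈ ((H ⊔ Subgroup.zpowers x : Subgroup M) : Set M) := by
        rw [hLdef]
        exact l.2
      rw [Subgroup.normal_mul H (Subgroup.zpowers x)] at h1
      obtain ⟨h, hh, z, hz, hl⟩ := Set.mem_mul.1 h1
      obtain ⟨i, rfl⟩ := Subgroup.mem_zpowers_iff.1 hz
      refine ⟨h, hh, i, ?_⟩
      apply Subtype.ext
      rw [Subgroup.coe_mul, Subgroup.coe_zpow]
      exact hl.symm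
    have hdisj : Disjoint (H.subgroupOf L) (Subgroup.zpowers (⟨x, hxL⟩ : L)) := by
      rw [Subgroup.disjoint_def]
      intro z hzK hzA
      obtain ⟨i, rfl⟩ := Subgroup.mem_zpowers_iff.1 hzA
      have h1 : x ^ i ∈ H := by
        have := Subgroup.mem_subgroupOf.1 hzK
        rwa [Subgroup.coe_zpow] at this
      apply Subtype.ext
      rw [Subgroup.coe_zpow]
      exact hcase i h1
    have hmul : ((H.subgroupOf L : Subgroup L) : Set L) * (Subgroup.zpowers (⟨x, hxL⟩ : L) : Set L)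
        = Set.univ := by
      apply Set.eq_univ_of_forall
      intro l
      obtain ⟨h, hh, i, rfl⟩ := hdecomp l
      exact Set.mul_mem_mul (Subgroup.mem_subgroupOf.2 hh)
        (Subgroup.zpow_mem _ (Subgroup.mem_zpowers _) i)
    have hcA : Subgroup.IsComplement' (H.subgroupOf L) (Subgroup.zpowers (⟨x, hxL⟩ : L)) :=
      Subgroup.isComplement'_of_disjoint_and_mul_eq_univ hdisj hmul
    have hcardA : Nat.card (Subgroup.zpowers (⟨x, hxL⟩ : L)) ∣ H.index := by
      rw [Nat.card_zpowers, ← Subgroup.orderOf_coe]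
      apply orderOf_dvd_of_pow_eq_one
      have h1 := Subgroup.pow_index_mem H x
      have h2 := hcase (H.index : ℤ) (by rw [zpow_natCast]; exact h1)
      rwa [zpow_natCast] at h2
    have hcardK : Nat.card (H.subgroupOf L) = Nat.card H :=
      Nat.card_congr (Subgroup.subgroupOfEquivOfLe hHL).toEquiv
    have hcop : (Nat.card (H.subgroupOf L)).Coprime
        (Nat.card (Subgroup.zpowers (⟨x, hxL⟩ : L))) := by
      rw [hcardK]
      exact Nat.Coprime.coprime_dvd_right hcardA hHall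
    have hSK : Subgroup.centralizer {(⟨k, hHL hk⟩ : L)} ⊔ H.subgroupOf L = ⊤ := by
      rw [eq_top_iff]
      intro l _
      obtain ⟨h, hh, i, rfl⟩ := hdecomp l
      apply Subgroup.mul_mem
      · exact (le_sup_right : H.subgroupOf L ≤ _) (Subgroup.mem_subgroupOf.2 hh)
      · apply Subgroup.zpow_mem
        have h1 : (⟨x, hxL⟩ : L) = (⟨y, hHL hy⟩ : L) * ((⟨y, hHL hy⟩ : L)⁻¹ * ⟨x, hxL⟩) := by
          group
        rw [h1]
        apply Subgroup.mul_mem
        · exact (le_sup_right : H.subgroupOf L ≤ _) (Subgroup.mem_subgroupOf.2 hy)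
        · apply (le_sup_left : Subgroup.centralizer {(⟨k, hHL hk⟩ : L)} ≤ _)
          rw [Subgroup.mem_centralizer_iff]
          intro w hw
          rw [Set.mem_singleton_iff] at hw
          rw [hw]
          apply Subtype.ext
          show k * (y⁻¹ * x) = y⁻¹ * x * k
          have e1 : y⁻¹ * x * k = y⁻¹ * (x * k * x⁻¹) * x := by group
          rw [e1, hxy]
          group
    have hcopidx : (Nat.card (H.subgroupOf L)).Coprime (H.subgroupOf L).index := by
      rw [hcA.symm.index_eq_card]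
      exact hcop
    obtain ⟨H₀, hH₀S, hH₀⟩ := Cfsg.Agent.S0059.exists_compl_le (H.subgroupOf L)
      (Subgroup.centralizer {(⟨k, hHL hk⟩ : L)}) hcopidx hSK
    have hsolv : Group.IsSolvable (Subgroup.zpowers (⟨x, hxL⟩ : L)) := by
      apply Group.isSolvable_of_comm
      rintro ⟨a, ha⟩ ⟨b, hb⟩
      obtain ⟨i, rfl⟩ := Subgroup.mem_zpowers_iff.1 ha
      obtain ⟨j, rfl⟩ := Subgroup.mem_zpowers_iff.1 hb
      apply Subtype.ext
      show (⟨x, hxL⟩ : L) ^ i * (⟨x, hxL⟩ : L) ^ j = (⟨x, hxL⟩ : L) ^ j * (⟨x, hxL⟩ : L) ^ i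
      rw [← zpow_add, ← zpow_add, add_comm]
    obtain ⟨g, hg⟩ := Cfsg.Agent.S0001.sz_conj (H.subgroupOf L)
      (Subgroup.zpowers (⟨x, hxL⟩ : L)) H₀ hcA hH₀ hcop (Or.inr hsolv)
    have h1 : MulAut.conj g • (⟨x, hxL⟩ : L) ∈ H₀ := by
      rw [← hg]
      exact Subgroup.smul_mem_pointwise_smul _ _ _ (Subgroup.mem_zpowers _)
    have h2 := hH₀S h1
    rw [Subgroup.mem_centralizer_iff] at h2
    have h3 := h2 _ rfl
    rw [MulAut.smul_def, MulAut.conj_apply] at h3
    -- h3 : k' * (g * x' * g⁻¹) = g * x' * g⁻¹ * k'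
    refine ⟨((g⁻¹ * (⟨k, hHL hk⟩ : L) * g : L) : M), ?_, ?_, ?_⟩
    · have h4 : ((g⁻¹ * (⟨k, hHL hk⟩ : L) * g : L) : M) = (g : M)⁻¹ * k * ((g : M)⁻¹)⁻¹ := by
        simp
      rw [h4]
      exact hN.conj_mem k hk _
    · intro h5
      apply hk1
      have h6 : (g⁻¹ * (⟨k, hHL hk⟩ : L) * g : L) = 1 := Subtype.ext h5
      have h7 : (⟨k, hHL hk⟩ : L) = g * (g⁻¹ * (⟨k, hHL hk⟩ : L) * g) * g⁻¹ := by group
      rw [h6] at h7
      have h8 : (⟨k, hHL hk⟩ : L) = 1 := by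
        rw [h7]
        group
      exact congrArg Subtype.val h8
    · have h9 : (⟨x, hxL⟩ : L) * (g⁻¹ * (⟨k, hHL hk⟩ : L) * g)
          = (g⁻¹ * (⟨k, hHL hk⟩ : L) * g) * (⟨x, hxL⟩ : L) := by
        have e1 : (⟨x, hxL⟩ : L) * (g⁻¹ * (⟨k, hHL hk⟩ : L) * g)
            = g⁻¹ * (g * (⟨x, hxL⟩ : L) * g⁻¹ * (⟨k, hHL hk⟩ : L)) * g := by group
        have e2 : (g⁻¹ * (⟨k, hHL hk⟩ : L) * g) * (⟨x, hxL⟩ : L)
            = g⁻¹ * ((⟨k, hHL hk⟩ : L) * (g * (⟨x, hxL⟩ : L) * g⁻¹)) * g := by group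
        rw [e1, e2, h3]
      exact congrArg Subtype.val h9

/-- Let H be a normal subgroup of the finite group M whose order is coprime to its index. For x ∈ M: some non-principal irreducible character of H is unchanged under h ↦ θ(x h x⁻¹) if and only if some non-identity element of H commutes with x. -/
theorem result {M : Type*} [Group M] [Finite M] (H : Subgroup M) [hN : H.Normal] (hHall : Nat.Coprime (Nat.card H) H.index) (x : M) : (∃ θ : H → ℂ, Cfsg.IsIrrCharacter H θ ∧ θ ≠ (fun _ => 1) ∧ (fun h : H => θ ⟨x * h * x⁻¹, hN.conj_mem h h.2 x⟩) = θ) ↔ ∃ h ∈ H, h ≠ 1 ∧ x * h = h * x := by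
  classical
  let a : H → H := fun h => ⟨x * h * x⁻¹, hN.conj_mem h h.2 x⟩
  have ha : ∀ c g : H, a (c * g * c⁻¹) = a c * a g * (a c)⁻¹ := by
    intro c g
    apply Subtype.ext
    show x * ((c : M) * (g : M) * (c : M)⁻¹) * x⁻¹
      = x * (c : M) * x⁻¹ * (x * (g : M) * x⁻¹) * (x * (c : M) * x⁻¹)⁻¹
    group
  let f : IrrCharacter H → IrrCharacter H := fun χ =>
    ⟨Cfsg.Agent.Lib.CT.Clifford.conjFun H hN χ.1 x, isIrrCharacter_conjFun H hN χ.2 x⟩
  let p : ConjClasses H → Prop := fun C => ∃ g : H, ConjClasses.mk g = C ∧ IsConj g (a g)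
  have hp : ∀ g : H, p (ConjClasses.mk g) ↔ IsConj g (a g) := by
    intro g
    constructor
    · rintro ⟨g', hg', hc⟩
      obtain ⟨c, hcg⟩ := isConj_iff.1 (ConjClasses.mk_eq_mk_iff_isConj.1 hg')
      have h1 : IsConj (a g') (a g) := by
        rw [isConj_iff]
        refine ⟨a c, ?_⟩
        rw [← ha, hcg]
      exact ((ConjClasses.mk_eq_mk_iff_isConj.1 hg').symm.trans hc).trans h1
    · intro h
      exact ⟨g, rfl, h⟩
  have hcount := Cfsg.Agent.Lib.Helper3.ClassCount.card_irr_fixed_eq_card_classes f a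
    (fun χ g => rfl) p hp
  have htriv : f ⟨fun _ => 1, Cfsg.Agent.Lib.CT.Ops.isIrrCharacter_one⟩
      = ⟨fun _ => 1, Cfsg.Agent.Lib.CT.Ops.isIrrCharacter_one⟩ := Subtype.ext rfl
  have ha1 : a 1 = 1 := Subtype.ext (by show x * ((1 : H) : M) * x⁻¹ = 1; simp)
  have hp1 : p (ConjClasses.mk 1) := ⟨1, rfl, by rw [ha1]⟩
  have := finite_irrCharacter (G := H)
  constructor
  · rintro ⟨θ, hθ, hθ1, hθfix⟩
    have hnt : Nontrivial {χ : IrrCharacter H // f χ = χ} := by
      refine ⟨⟨⟨_, htriv⟩, ⟨⟨θ, hθ⟩, Subtype.ext hθfix⟩, ?_⟩⟩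
      intro h
      apply hθ1
      have h1 := congrArg (fun z : {χ : IrrCharacter H // f χ = χ} => (z.1 : H → ℂ)) h
      exact h1.symm
    have hlt : 1 < Nat.card {C : ConjClasses H // p C} := by
      rw [← hcount]
      exact Finite.one_lt_card_iff_nontrivial.2 hnt
    haveI := Finite.one_lt_card_iff_nontrivial.1 hlt
    obtain ⟨⟨C, g, rfl, hg⟩, hC⟩ := exists_ne (⟨ConjClasses.mk 1, hp1⟩ : {C : ConjClasses H // p C})
    have hg1 : g ≠ 1 := by
      rintro rfl
      exact hC rfl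
    obtain ⟨c, hc⟩ := isConj_iff.1 hg
    have hc' : x * (g : M) * x⁻¹ = (c : M) * (g : M) * (c : M)⁻¹ := by
      have := congrArg Subtype.val hc
      exact this.symm
    exact exists_commute_of_conj H hHall x (g : M) (c : M) g.2
      (fun h => hg1 (Subtype.ext h)) c.2 hc'
  · rintro ⟨h, hh, hh1, hxh⟩
    have hah : a ⟨h, hh⟩ = ⟨h, hh⟩ := by
      apply Subtype.ext
      show x * h * x⁻¹ = h
      rw [hxh, mul_inv_cancel_right]
    have hph : p (ConjClasses.mk ⟨h, hh⟩) := ⟨⟨h, hh⟩, rfl, by rw [hah]⟩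
    have hnt : Nontrivial {C : ConjClasses H // p C} := by
      refine ⟨⟨⟨_, hp1⟩, ⟨_, hph⟩, ?_⟩⟩
      intro heq
      have h1 : ConjClasses.mk (1 : H) = ConjClasses.mk ⟨h, hh⟩ := congrArg Subtype.val heq
      have h2 := isConj_one_right.1 (ConjClasses.mk_eq_mk_iff_isConj.1 h1)
      exact hh1 (congrArg Subtype.val h2)
    have hlt : 1 < Nat.card {χ : IrrCharacter H // f χ = χ} := by
      rw [hcount]
      exact Finite.one_lt_card_iff_nontrivial.2 hnt
    haveI := Finite.one_lt_card_iff_nontrivial.1 hlt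
    obtain ⟨⟨χ, hχfix⟩, hχ⟩ := exists_ne (⟨⟨fun _ => 1, Cfsg.Agent.Lib.CT.Ops.isIrrCharacter_one⟩,
      htriv⟩ : {χ : IrrCharacter H // f χ = χ})
    refine ⟨χ.1, χ.2, ?_, congrArg Subtype.val hχfix⟩
    intro h1
    apply hχ
    apply Subtype.ext
    apply Subtype.ext
    exact h1

end Cfsg.Agent.S1536
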