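import Cfsg.Statements.S1611
import Cfsg.Agent.S1610

set_option autoImplicit false
open Cfsg

namespace Cfsg.Agent.S1611

open Cfsg.Agent.S1610

section Helpers

variable {K : Type*} [CommRing K]

/-- the three generators of the hexacode -/
def gen (w : K) (j : Fin 3) : Fin 6 → K :=
  ![![w, w ^ 2, w ^ 2, w, w ^ 2, w], ![w ^ 2, w, w, w ^ 2, w ^ 2, w],
    ![w ^ 2, w, w ^ 2, w, w, w ^ 2]] j

/-- the monomial image of a generator, the scalars being powers of `w` -/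
def mon (w : K) (σ : Equiv.Perm (Fin 6)) (k : Fin 6 → Fin 3) (j : Fin 3) : Fin 6 → K :=
  fun i => w ^ (k i : ℕ) * gen w j (σ.symm i)

theorem gen_map {L : Type*} [CommRing L] (e : K →+* L) (w : K) (j : Fin 3) (i : Fin 6) :
    e (gen w j i) = gen (e w) j i := by
  fin_cases j <;> fin_cases i <;> simp [gen]

theorem diag_rigid : ∀ k0 k1 k2 k3 k4 k5 : Fin 3,
    (∀ j, Sys w0 (mon w0 1 ![k0, k1, k2, k3, k4, k5] j)) →
      k0 = k1 ∧ k0 = k2 ∧ k0 = k3 ∧ k0 = k4 ∧ k0 = k5 := by decide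

theorem swap_bad : ∀ k0 k1 k2 k3 k4 k5 : Fin 3,
    ¬ ∀ j, Sys w0 (mon w0 (Equiv.swap 0 1) ![k0, k1, k2, k3, k4, k5] j) := by decide

/-- witnesses for the three-cycles -/
def wit : Fin 6 → Fin 6 → Fin 6 → Fin 6 → Fin 3 :=
![
  ![![![0, 0, 0, 0, 0, 0], ![0, 0, 0, 0, 0, 0], ![0, 0, 0, 0, 0, 0], ![0, 0, 0, 0, 0, 0], ![0, 0, 0, 0, 0, 0], ![0, 0, 0, 0, 0, 0]],
    ![![0, 0, 0, 0, 0, 0], ![0, 0, 0, 0, 0, 0], ![0, 0, 0, 0, 1, 2], ![0, 0, 0, 0, 2, 1], ![0, 0, 1, 2, 0, 0], ![0, 0, 2, 1, 0, 0]],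
    ![![0, 0, 0, 0, 0, 0], ![0, 0, 0, 0, 2, 1], ![0, 0, 0, 0, 0, 0], ![0, 0, 0, 0, 1, 2], ![0, 2, 2, 1, 1, 0], ![0, 1, 1, 2, 0, 2]],
    ![![0, 0, 0, 0, 0, 0], ![0, 0, 0, 0, 1, 2], ![0, 0, 0, 0, 2, 1], ![0, 0, 0, 0, 0, 0], ![0, 1, 2, 1, 2, 0], ![0, 2, 1, 2, 0, 1]],
    ![![0, 0, 0, 0, 0, 0], ![0, 0, 2, 1, 0, 0], ![0, 2, 1, 0, 2, 1], ![0, 1, 0, 2, 1, 2], ![0, 0, 0, 0, 0, 0], ![0, 0, 1, 2, 0, 0]],
    ![![0, 0, 0, 0, 0, 0], ![0, 0, 1, 2, 0, 0], ![0, 1, 2, 0, 2, 1], ![0, 2, 0, 1, 1, 2], ![0, 0, 2, 1, 0, 0], ![0, 0, 0, 0, 0, 0]]],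
  ![![![0, 0, 0, 0, 0, 0], ![0, 0, 0, 0, 0, 0], ![0, 0, 0, 0, 2, 1], ![0, 0, 0, 0, 1, 2], ![0, 0, 2, 1, 0, 0], ![0, 0, 1, 2, 0, 0]],
    ![![0, 0, 0, 0, 0, 0], ![0, 0, 0, 0, 0, 0], ![0, 0, 0, 0, 0, 0], ![0, 0, 0, 0, 0, 0], ![0, 0, 0, 0, 0, 0], ![0, 0, 0, 0, 0, 0]],
    ![![0, 0, 0, 0, 1, 2], ![0, 0, 0, 0, 0, 0], ![0, 0, 0, 0, 0, 0], ![0, 0, 0, 0, 2, 1], ![0, 2, 0, 1, 1, 2], ![0, 1, 0, 2, 1, 2]],
    ![![0, 0, 0, 0, 2, 1], ![0, 0, 0, 0, 0, 0], ![0, 0, 0, 0, 1, 2], ![0, 0, 0, 0, 0, 0], ![0, 1, 2, 0, 2, 1], ![0, 2, 1, 0, 2, 1]],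
    ![![0, 0, 1, 2, 0, 0], ![0, 0, 0, 0, 0, 0], ![0, 2, 1, 2, 0, 1], ![0, 1, 1, 2, 0, 2], ![0, 0, 0, 0, 0, 0], ![0, 0, 2, 1, 0, 0]],
    ![![0, 0, 2, 1, 0, 0], ![0, 0, 0, 0, 0, 0], ![0, 1, 2, 1, 2, 0], ![0, 2, 2, 1, 1, 0], ![0, 0, 1, 2, 0, 0], ![0, 0, 0, 0, 0, 0]]],
  ![![![0, 0, 0, 0, 0, 0], ![0, 0, 0, 0, 1, 2], ![0, 0, 0, 0, 0, 0], ![0, 0, 0, 0, 2, 1], ![0, 2, 1, 0, 2, 1], ![0, 1, 2, 0, 2, 1]],
    ![![0, 0, 0, 0, 2, 1], ![0, 0, 0, 0, 0, 0], ![0, 0, 0, 0, 0, 0], ![0, 0, 0, 0, 1, 2], ![0, 2, 1, 2, 0, 1], ![0, 1, 2, 1, 2, 0]],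
    ![![0, 0, 0, 0, 0, 0], ![0, 0, 0, 0, 0, 0], ![0, 0, 0, 0, 0, 0], ![0, 0, 0, 0, 0, 0], ![0, 0, 0, 0, 0, 0], ![0, 0, 0, 0, 0, 0]],
    ![![0, 0, 0, 0, 1, 2], ![0, 0, 0, 0, 2, 1], ![0, 0, 0, 0, 0, 0], ![0, 0, 0, 0, 0, 0], ![0, 1, 2, 2, 2, 2], ![0, 2, 1, 1, 1, 1]],
    ![![0, 2, 2, 1, 1, 0], ![0, 2, 0, 1, 1, 2], ![0, 0, 0, 0, 0, 0], ![0, 2, 1, 1, 1, 1], ![0, 0, 0, 0, 0, 0], ![0, 1, 2, 2, 2, 2]],
    ![![0, 1, 1, 2, 0, 2], ![0, 1, 0, 2, 1, 2], ![0, 0, 0, 0, 0, 0], ![0, 1, 2, 2, 2, 2], ![0, 2, 1, 1, 1, 1], ![0, 0, 0, 0, 0, 0]]],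
  ![![![0, 0, 0, 0, 0, 0], ![0, 0, 0, 0, 2, 1], ![0, 0, 0, 0, 1, 2], ![0, 0, 0, 0, 0, 0], ![0, 1, 0, 2, 1, 2], ![0, 2, 0, 1, 1, 2]],
    ![![0, 0, 0, 0, 1, 2], ![0, 0, 0, 0, 0, 0], ![0, 0, 0, 0, 2, 1], ![0, 0, 0, 0, 0, 0], ![0, 1, 1, 2, 0, 2], ![0, 2, 2, 1, 1, 0]],
    ![![0, 0, 0, 0, 2, 1], ![0, 0, 0, 0, 1, 2], ![0, 0, 0, 0, 0, 0], ![0, 0, 0, 0, 0, 0], ![0, 2, 1, 1, 1, 1], ![0, 1, 2, 2, 2, 2]],
    ![![0, 0, 0, 0, 0, 0], ![0, 0, 0, 0, 0, 0], ![0, 0, 0, 0, 0, 0], ![0, 0, 0, 0, 0, 0], ![0, 0, 0, 0, 0, 0], ![0, 0, 0, 0, 0, 0]],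
    ![![0, 1, 2, 1, 2, 0], ![0, 1, 2, 0, 2, 1], ![0, 1, 2, 2, 2, 2], ![0, 0, 0, 0, 0, 0], ![0, 0, 0, 0, 0, 0], ![0, 2, 1, 1, 1, 1]],
    ![![0, 2, 1, 2, 0, 1], ![0, 2, 1, 0, 2, 1], ![0, 2, 1, 1, 1, 1], ![0, 0, 0, 0, 0, 0], ![0, 1, 2, 2, 2, 2], ![0, 0, 0, 0, 0, 0]]],
  ![![![0, 0, 0, 0, 0, 0], ![0, 0, 1, 2, 0, 0], ![0, 2, 2, 1, 1, 0], ![0, 1, 2, 1, 2, 0], ![0, 0, 0, 0, 0, 0], ![0, 0, 2, 1, 0, 0]],
    ![![0, 0, 2, 1, 0, 0], ![0, 0, 0, 0, 0, 0], ![0, 2, 0, 1, 1, 2], ![0, 1, 2, 0, 2, 1], ![0, 0, 0, 0, 0, 0], ![0, 0, 1, 2, 0, 0]],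
    ![![0, 2, 1, 0, 2, 1], ![0, 2, 1, 2, 0, 1], ![0, 0, 0, 0, 0, 0], ![0, 1, 2, 2, 2, 2], ![0, 0, 0, 0, 0, 0], ![0, 2, 1, 1, 1, 1]],
    ![![0, 1, 0, 2, 1, 2], ![0, 1, 1, 2, 0, 2], ![0, 2, 1, 1, 1, 1], ![0, 0, 0, 0, 0, 0], ![0, 0, 0, 0, 0, 0], ![0, 1, 2, 2, 2, 2]],
    ![![0, 0, 0, 0, 0, 0], ![0, 0, 0, 0, 0, 0], ![0, 0, 0, 0, 0, 0], ![0, 0, 0, 0, 0, 0], ![0, 0, 0, 0, 0, 0], ![0, 0, 0, 0, 0, 0]],
    ![![0, 0, 1, 2, 0, 0], ![0, 0, 2, 1, 0, 0], ![0, 1, 2, 2, 2, 2], ![0, 2, 1, 1, 1, 1], ![0, 0, 0, 0, 0, 0], ![0, 0, 0, 0, 0, 0]]],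
  ![![![0, 0, 0, 0, 0, 0], ![0, 0, 2, 1, 0, 0], ![0, 1, 1, 2, 0, 2], ![0, 2, 1, 2, 0, 1], ![0, 0, 1, 2, 0, 0], ![0, 0, 0, 0, 0, 0]],
    ![![0, 0, 1, 2, 0, 0], ![0, 0, 0, 0, 0, 0], ![0, 1, 0, 2, 1, 2], ![0, 2, 1, 0, 2, 1], ![0, 0, 2, 1, 0, 0], ![0, 0, 0, 0, 0, 0]],
    ![![0, 1, 2, 0, 2, 1], ![0, 1, 2, 1, 2, 0], ![0, 0, 0, 0, 0, 0], ![0, 2, 1, 1, 1, 1], ![0, 1, 2, 2, 2, 2], ![0, 0, 0, 0, 0, 0]],
    ![![0, 2, 0, 1, 1, 2], ![0, 2, 2, 1, 1, 0], ![0, 1, 2, 2, 2, 2], ![0, 0, 0, 0, 0, 0], ![0, 2, 1, 1, 1, 1], ![0, 0, 0, 0, 0, 0]],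
    ![![0, 0, 2, 1, 0, 0], ![0, 0, 1, 2, 0, 0], ![0, 2, 1, 1, 1, 1], ![0, 1, 2, 2, 2, 2], ![0, 0, 0, 0, 0, 0], ![0, 0, 0, 0, 0, 0]],
    ![![0, 0, 0, 0, 0, 0], ![0, 0, 0, 0, 0, 0], ![0, 0, 0, 0, 0, 0], ![0, 0, 0, 0, 0, 0], ![0, 0, 0, 0, 0, 0], ![0, 0, 0, 0, 0, 0]]]]

theorem wit_ok : ∀ a b c : Fin 6, a ≠ b → a ≠ c →
    ∀ j, Sys w0 (mon w0 (Equiv.swap a b * Equiv.swap a c) (wit a b c) j) := by decide

theorem units_R4 : ∀ r : R4, r ≠ 0 → ∃ k : Fin 3, r = w0 ^ (k : ℕ) := by decide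

theorem vec_eta {α : Type*} (k : Fin 6 → α) : k = ![k 0, k 1, k 2, k 3, k 4, k 5] := by
  funext i
  fin_cases i <;> rfl

section Transport

variable {F : Type*} [Field F]

/-- the monomial map as a linear map -/
def mmL (σ : Equiv.Perm (Fin 6)) (c : Fin 6 → Fˣ) : (Fin 6 → F) →ₗ[F] (Fin 6 → F) where
  toFun := Cfsg.monomialMap σ c
  map_add' := by
    intro x y
    funext i
    simp [Cfsg.monomialMap, mul_add]
  map_smul' := by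
    intro a x
    funext i
    simp only [Cfsg.monomialMap, Pi.smul_apply, smul_eq_mul, RingHom.id_apply]
    ring

/-- the property of preserving the hexacode -/
def Pres (ω : F) (σ : Equiv.Perm (Fin 6)) (c : Fin 6 → Fˣ) : Prop :=
  ∀ x ∈ Cfsg.hexacode F ω, Cfsg.monomialMap σ c x ∈ Cfsg.hexacode F ω

theorem pres_iff_gen (ω : F) (σ : Equiv.Perm (Fin 6)) (c : Fin 6 → Fˣ) :
    Pres ω σ c ↔ ∀ j : Fin 3, Cfsg.monomialMap σ c (gen ω j) ∈ Cfsg.hexacode F ω := by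
  have h1 : Pres ω σ c ↔ Cfsg.hexacode F ω ≤ (Cfsg.hexacode F ω).comap (mmL σ c) := Iff.rfl
  rw [h1]
  unfold Cfsg.hexacode
  rw [Submodule.span_le]
  constructor
  · intro h j
    apply h
    fin_cases j <;> simp [gen]
  · intro h x hx
    simp only [Set.mem_insert_iff, Set.mem_singleton_iff] at hx
    rcases hx with rfl | rfl | rfl
    · exact h 0
    · exact h 1
    · exact h 2

variable (e : R4 ≃+* F)

theorem pres_iff_mon (σ : Equiv.Perm (Fin 6)) (c : Fin 6 → Fˣ) (k : Fin 6 → Fin 3)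
    (hk : ∀ i, (c i : F) = e w0 ^ (k i : ℕ)) :
    Pres (e w0) σ c ↔ ∀ j : Fin 3, Sys w0 (mon w0 σ k j) := by
  rw [pres_iff_gen]
  refine forall_congr' fun j => ?_
  rw [mem_iff_sys, ← sys_map (e : R4 →+* F) e.injective w0]
  have : Cfsg.monomialMap σ c (gen (e w0) j) = fun i => (e : R4 →+* F) (mon w0 σ k j i) := by
    funext i
    simp only [Cfsg.monomialMap, mon, map_mul, map_pow, hk i]
    rw [gen_map]
    rfl
  rw [this]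
  rfl

theorem exists_exp (c : Fin 6 → Fˣ) : ∃ k : Fin 6 → Fin 3, ∀ i, (c i : F) = e w0 ^ (k i : ℕ) := by
  have h : ∀ i, ∃ k : Fin 3, (c i : F) = e w0 ^ (k : ℕ) := by
    intro i
    obtain ⟨r, hr⟩ := e.surjective (c i : F)
    have hr0 : r ≠ 0 := by
      rintro rfl
      rw [map_zero] at hr
      exact (c i).ne_zero hr.symm
    obtain ⟨k, rfl⟩ := units_R4 r hr0
    exact ⟨k, by rw [← hr, map_pow]⟩
  choose k hk using h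
  exact ⟨k, hk⟩

theorem pres_one_const (c : Fin 6 → Fˣ) (h : Pres (e w0) 1 c) : ∀ i j, c i = c j := by
  obtain ⟨k, hk⟩ := exists_exp e c
  rw [pres_iff_mon e 1 c k hk, vec_eta k] at h
  obtain ⟨h1, h2, h3, h4, h5⟩ := diag_rigid _ _ _ _ _ _ h
  have hconst : ∀ i, k i = k 0 := by
    intro i
    fin_cases i
    · rfl
    · exact h1.symm
    · exact h2.symm
    · exact h3.symm
    · exact h4.symm
    · exact h5.symm
  intro i j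
  apply Units.ext
  rw [hk i, hk j, hconst i, hconst j]

theorem pres_one (ω : F) : Pres ω 1 1 := by
  intro x hx
  have : Cfsg.monomialMap (1 : Equiv.Perm (Fin 6)) (1 : Fin 6 → Fˣ) x = x := by
    funext i
    simp only [Cfsg.monomialMap, Pi.one_apply, Units.val_one, one_mul]
    rfl
  rw [this]
  exact hx

theorem pres_mul (ω : F) (σ τ : Equiv.Perm (Fin 6)) (c d : Fin 6 → Fˣ) (h1 : Pres ω σ c)
    (h2 : Pres ω τ d) : Pres ω (σ * τ) (fun i => c i * d (σ.symm i)) := by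
  intro x hx
  have : Cfsg.monomialMap (σ * τ) (fun i => c i * d (σ.symm i)) x =
      Cfsg.monomialMap σ c (Cfsg.monomialMap τ d x) := by
    funext i
    simp only [Cfsg.monomialMap, Units.val_mul]
    rw [mul_assoc]
    rfl
  rw [this]
  exact h1 _ (h2 x hx)

theorem pres_smul (ω : F) (σ : Equiv.Perm (Fin 6)) (c : Fin 6 → Fˣ) (μ : Fˣ) (h : Pres ω σ c) :
    Pres ω σ (fun i => μ * c i) := by
  intro x hx
  have : Cfsg.monomialMap σ (fun i => μ * c i) x = (μ : F) • Cfsg.monomialMap σ c x := by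
    funext i
    simp only [Cfsg.monomialMap, Units.val_mul, Pi.smul_apply, smul_eq_mul]
    rw [mul_assoc]
  rw [this]
  exact Submodule.smul_mem _ _ (h x hx)

theorem pres_surj [Finite F] (ω : F) (σ : Equiv.Perm (Fin 6)) (c : Fin 6 → Fˣ) (h : Pres ω σ c)
    (y : Fin 6 → F) (hy : y ∈ Cfsg.hexacode F ω) :
    ∃ x ∈ Cfsg.hexacode F ω, Cfsg.monomialMap σ c x = y := by
  let g : ↥(Cfsg.hexacode F ω) → ↥(Cfsg.hexacode F ω) := fun x => ⟨Cfsg.monomialMap σ c x.1, h x.1 x.2⟩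
  have hinj : Function.Injective g := by
    intro x x' hxx
    have h1 : Cfsg.monomialMap σ c x.1 = Cfsg.monomialMap σ c x'.1 := Subtype.ext_iff.mp hxx
    apply Subtype.ext
    funext i
    have h2 := congrFun h1 (σ i)
    simp only [Cfsg.monomialMap, Equiv.symm_apply_apply] at h2
    exact mul_left_cancel₀ (c (σ i)).ne_zero h2
  obtain ⟨x, hx⟩ := Finite.surjective_of_injective hinj ⟨y, hy⟩
  exact ⟨x.1, x.2, Subtype.ext_iff.mp hx⟩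

theorem pres_unique [Finite F] (σ : Equiv.Perm (Fin 6)) (c c' : Fin 6 → Fˣ)
    (h : Pres (e w0) σ c) (h' : Pres (e w0) σ c') (i j : Fin 6) :
    c' i * (c i)⁻¹ = c' j * (c j)⁻¹ := by
  have hP : Pres (e w0) 1 (fun i => c' i * (c i)⁻¹) := by
    intro y hy
    obtain ⟨x, hx, rfl⟩ := pres_surj (e w0) σ c h y hy
    have : Cfsg.monomialMap 1 (fun i => c' i * (c i)⁻¹) (Cfsg.monomialMap σ c x) =
        Cfsg.monomialMap σ c' x := by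
      funext i
      simp only [Cfsg.monomialMap, Units.val_mul]
      show (c' i : F) * ((c i)⁻¹ : Fˣ).val * ((c i : F) * x (σ.symm i)) = (c' i : F) * x (σ.symm i)
      rw [mul_assoc, ← mul_assoc ((c i)⁻¹ : Fˣ).val, ← Units.val_mul, inv_mul_cancel, Units.val_one,
        one_mul]
    rw [this]
    exact h' x hx
  exact pres_one_const e _ hP i j

/-- the permutation parts -/
def T (ω : F) : Set (Equiv.Perm (Fin 6)) := {σ | ∃ c : Fin 6 → Fˣ, Pres ω σ c}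

theorem T_one (ω : F) : (1 : Equiv.Perm (Fin 6)) ∈ T ω := ⟨1, pres_one ω⟩

theorem T_mul (ω : F) {σ τ : Equiv.Perm (Fin 6)} (h1 : σ ∈ T ω) (h2 : τ ∈ T ω) : σ * τ ∈ T ω := by
  obtain ⟨c, hc⟩ := h1
  obtain ⟨d, hd⟩ := h2
  exact ⟨_, pres_mul ω σ τ c d hc hd⟩

theorem T_swap_swap_same (a b c : Fin 6) (hab : a ≠ b) (hac : a ≠ c) :
    Equiv.swap a b * Equiv.swap a c ∈ T (e w0) := by
  have hw : e w0 ≠ 0 := by
    intro h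
    have : w0 = 0 := e.injective (by rw [h, map_zero])
    exact absurd this (by decide)
  refine ⟨fun i => Units.mk0 (e w0) hw ^ (wit a b c i : ℕ), ?_⟩
  rw [pres_iff_mon e _ _ (wit a b c) (fun i => by simp)]
  exact wit_ok a b c hab hac

theorem T_swap_swap {s t : Equiv.Perm (Fin 6)} (hs : s.IsSwap) (ht : t.IsSwap) :
    s * t ∈ T (e w0) := by
  obtain ⟨a, b, ab, rfl⟩ := hs
  obtain ⟨c, d, cd, rfl⟩ := ht
  by_cases ac : a = c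
  · subst ac
    exact T_swap_swap_same e a b d ab cd
  have h' : Equiv.swap a b * Equiv.swap c d =
      Equiv.swap a b * Equiv.swap a c * (Equiv.swap c a * Equiv.swap c d) := by
    simp [Equiv.swap_comm c a, mul_assoc]
  rw [h']
  exact T_mul _ (T_swap_swap_same e a b c ab ac) (T_swap_swap_same e c a d (Ne.symm ac) cd)

theorem alt_le_T {σ : Equiv.Perm (Fin 6)} (hσ : σ ∈ alternatingGroup (Fin 6)) : σ ∈ T (e w0) := by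
  suffices hind : ∀ (n : ℕ) (l : List (Equiv.Perm (Fin 6))) (_ : ∀ g, g ∈ l → g.IsSwap)
      (_ : l.length = 2 * n), l.prod ∈ T (e w0) by
    obtain ⟨l, rfl, hl⟩ := Equiv.Perm.truncSwapFactors σ
    obtain ⟨n, hn⟩ := (Equiv.Perm.prod_list_swap_mem_alternatingGroup_iff_even_length hl).1 hσ
    rw [← two_mul] at hn
    exact hind n l hl hn
  intro n
  induction n with
  | zero =>
    intro l hl hn
    rw [List.length_eq_zero_iff.1 hn]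
    exact T_one _
  | succ n ih =>
    intro l hl hn
    rw [Nat.mul_succ] at hn
    obtain ⟨a, l, rfl⟩ := l.exists_of_length_succ hn
    rw [List.length_cons, Nat.succ_inj] at hn
    obtain ⟨b, l, rfl⟩ := l.exists_of_length_succ hn
    rw [List.prod_cons, List.prod_cons, ← mul_assoc]
    rw [List.length_cons, Nat.succ_inj] at hn
    exact T_mul _ (T_swap_swap e (hl a List.mem_cons_self)
        (hl b (List.mem_cons_of_mem a List.mem_cons_self)))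
      (ih _ (fun g hg => hl g (List.mem_cons_of_mem _ (List.mem_cons_of_mem _ hg))) hn)

theorem swap_not_mem : Equiv.swap (0 : Fin 6) 1 ∉ T (e w0) := by
  rintro ⟨c, hc⟩
  obtain ⟨k, hk⟩ := exists_exp e c
  rw [pres_iff_mon e _ c k hk, vec_eta k] at hc
  exact swap_bad _ _ _ _ _ _ hc

theorem T_eq : T (e w0) = (alternatingGroup (Fin 6) : Set (Equiv.Perm (Fin 6))) := by
  ext σ
  constructor
  · intro hσ
    by_contra hcon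
    have hs : Equiv.Perm.sign σ = -1 := by
      rcases Int.units_eq_one_or (Equiv.Perm.sign σ) with h | h
      · exact absurd (Equiv.Perm.mem_alternatingGroup.mpr h) hcon
      · exact h
    have h1 : Equiv.swap (0 : Fin 6) 1 * σ⁻¹ ∈ alternatingGroup (Fin 6) := by
      rw [Equiv.Perm.mem_alternatingGroup, map_mul, map_inv, hs,
        Equiv.Perm.sign_swap (by decide)]
      decide
    have h2 := T_mul _ (alt_le_T e h1) hσ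
    rw [inv_mul_cancel_right] at h2
    exact swap_not_mem e h2
  · exact fun h => alt_le_T e h

end Transport

end Helpers


/-- The monomial automorphism group of the hexacode has order 1080: its diagonal part is the scalars and its permutation parts form the alternating group of degree 6. -/
theorem result (F : Type*) [Field F] [Fintype F] [DecidableEq F] (hF : Fintype.card F = 4) (ω : F) (hω : ω ^ 2 + ω + 1 = 0) : Nat.card {f : Equiv.Perm (Fin 6) × (Fin 6 → Fˣ) // (∀ x ∈ Cfsg.hexacode F ω, Cfsg.monomialMap f.1 f.2 x ∈ Cfsg.hexacode F ω)} = 1080 ∧ (∀ c : Fin 6 → Fˣ, (∀ x ∈ Cfsg.hexacode F ω, Cfsg.monomialMap 1 c x ∈ Cfsg.hexacode F ω) → ∀ i j, c i = c j) ∧ {σ : Equiv.Perm (Fin 6) | ∃ c : Fin 6 → Fˣ, (∀ x ∈ Cfsg.hexacode F ω, Cfsg.monomialMap σ c x ∈ Cfsg.hexacode F ω)} = (alternatingGroup (Fin 6) : Set (Equiv.Perm (Fin 6))) := by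
  obtain ⟨e, rfl⟩ := exists_equiv hF ω hω
  refine ⟨?_, fun c hc => pres_one_const e c hc, T_eq e⟩
  have hmem : ∀ f : {f : Equiv.Perm (Fin 6) × (Fin 6 → Fˣ) // Pres (e w0) f.1 f.2},
      f.1.1 ∈ alternatingGroup (Fin 6) := by
    intro f
    have : f.1.1 ∈ T (e w0) := ⟨f.1.2, f.2⟩
    rw [T_eq] at this
    exact this
  let Φ : {f : Equiv.Perm (Fin 6) × (Fin 6 → Fˣ) // Pres (e w0) f.1 f.2} →
      alternatingGroup (Fin 6) × Fˣ := fun f => (⟨f.1.1, hmem f⟩, f.1.2 0)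
  have hinj : Function.Injective Φ := by
    rintro ⟨⟨σ, c⟩, hf⟩ ⟨⟨σ', c'⟩, hf'⟩ h
    have h1 : σ = σ' := congrArg (fun t => (t.1 : Equiv.Perm (Fin 6))) h
    have h2 : c 0 = c' 0 := congrArg Prod.snd h
    subst h1
    have h3 : c = c' := by
      funext i
      have := pres_unique e σ c c' hf hf' i 0
      rw [h2, mul_inv_cancel] at this
      exact (mul_inv_eq_one.mp this).symm
    subst h3
    rfl
  have hsurj : Function.Surjective Φ := by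
    rintro ⟨⟨σ, hσ⟩, μ⟩
    have hσ' : σ ∈ T (e w0) := by rw [T_eq]; exact hσ
    obtain ⟨c, hc⟩ := hσ'
    refine ⟨⟨(σ, fun i => (μ * (c 0)⁻¹) * c i), pres_smul _ σ c _ hc⟩, ?_⟩
    simp only [Φ]
    rw [inv_mul_cancel_right]
  show Nat.card {f : Equiv.Perm (Fin 6) × (Fin 6 → Fˣ) // Pres (e w0) f.1 f.2} = 1080
  rw [Nat.card_congr (Equiv.ofBijective Φ ⟨hinj, hsurj⟩), Nat.card_prod,
    nat_card_alternatingGroup, Nat.card_units]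
  have hF' : Nat.card F = 4 := by rw [Nat.card_eq_fintype_card, hF]
  rw [hF', Nat.card_eq_fintype_card, Fintype.card_fin]
  decide

end Cfsg.Agent.S1611
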