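import Cfsg.Statements.S1615
import Cfsg.Agent.Lib.Helper28.DxMain
import Cfsg.Agent.Lib.Helper78.DxKBASE
import Cfsg.Agent.Lib.Helper78.DxKCONJ
import Cfsg.Agent.Lib.Helper33.DxKNE
import Cfsg.Agent.Lib.Helper58.DxTWINB
import Cfsg.Agent.Lib.Helper58.DxF7
import Cfsg.Agent.Lib.Helper90.DxFULLNC
import Cfsg.Agent.Lib.Helper90.DxCENTT2
import Cfsg.Agent.Lib.Helper28.DxMOD
import Cfsg.Agent.Lib.Helper33.DxSINGLE
import Cfsg.Agent.Lib.Helper29.DxPOW3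
import Cfsg.Agent.Lib.Helper28.DxKPOW
import Cfsg.Agent.Lib.Helper58.DxMUPOW
import Cfsg.Agent.Lib.Helper65.DxCOUNT
import Cfsg.Agent.Lib.Helper70.DxSRGSQ
import Cfsg.Agent.Lib.Helper97.DxDELTASQ
import Cfsg.Agent.Lib.Helper29.DxNUMTH
import Cfsg.Agent.Lib.Helper65.DxMUNEK
import Cfsg.Agent.Lib.Helper8.DxLOC
import Cfsg.Agent.Lib.Helper28.DxFIN5

set_option autoImplicit false
open Cfsg

namespace Cfsg.Agent.S1615

/-- If O(⟨D_x⟩) is not central in ⟨D_x⟩ for some transposition x, the 3-transposition group is the symmetric group of degree 5. -/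
theorem result {G : Type*} [Group G] [Finite G] (hsol : ∀ N : Subgroup G, N.Normal → Group.IsSolvable ↥N → N = ⊥) (hperf : ⁅commutator G, commutator G⁆ = commutator G) {D : Set G} (hD : Cfsg.IsThreeTranspositionClass D) (x : G) (hx : x ∈ D) (h : ¬ Cfsg.oddCore ↥(Subgroup.closure {y : G | y ∈ D ∧ y ≠ x ∧ Commute x y}) ≤ Subgroup.center ↥(Subgroup.closure {y : G | y ∈ D ∧ y ≠ x ∧ Commute x y})) : Nonempty (G ≃* Equiv.Perm (Fin 5)) := by
  exact Cfsg.Agent.Lib.Helper28.DxMain.main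
    Cfsg.Agent.Lib.Helper78.DxKBASE.main
    Cfsg.Agent.Lib.Helper78.DxKCONJ.main
    Cfsg.Agent.Lib.Helper33.DxKNE.main
    Cfsg.Agent.Lib.Helper58.DxTWINB.main
    Cfsg.Agent.Lib.Helper58.DxF7.main
    Cfsg.Agent.Lib.Helper90.DxFULLNC.main
    Cfsg.Agent.Lib.Helper90.DxCENTT2.main
    Cfsg.Agent.Lib.Helper28.DxMOD.main
    Cfsg.Agent.Lib.Helper33.DxSINGLE.main
    Cfsg.Agent.Lib.Helper29.DxPOW3.main
    Cfsg.Agent.Lib.Helper28.DxKPOW.main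
    Cfsg.Agent.Lib.Helper58.DxMUPOW.main
    Cfsg.Agent.Lib.Helper65.DxCOUNT.main
    Cfsg.Agent.Lib.Helper70.DxSRGSQ.main
    Cfsg.Agent.Lib.Helper97.DxDELTASQ.main
    Cfsg.Agent.Lib.Helper29.DxNUMTH.main
    Cfsg.Agent.Lib.Helper65.DxMUNEK.main
    Cfsg.Agent.Lib.Helper8.DxLOC.main
    Cfsg.Agent.Lib.Helper28.DxFIN5.main
    hsol hperf hD x hx h

end Cfsg.Agent.S1615
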