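import Cfsg.Statements.S1642
import Cfsg.Agent.Lib.Helper27.CoStd
import Cfsg.Agent.Lib.Helper27.Invol

set_option autoImplicit false
open Cfsg

namespace Cfsg.Agent.S1642

open Cfsg.Agent.Lib.Helper27 Cfsg.Agent.Lib.Helper27.Bits Cfsg.Agent.Lib.Helper27.Pk
open Cfsg.Agent.Lib.Helper27.MinTab Cfsg.Agent.Lib.Helper27.MinEnum Cfsg.Agent.Lib.Helper27.MinFast
open Cfsg.Agent.Lib.Helper27.MinAll Cfsg.Agent.Lib.Helper27.LDot Cfsg.Agent.Lib.Helper27.LMat
open Cfsg.Agent.Lib.Helper27.Spread Cfsg.Agent.Lib.Helper27.Co0Act Cfsg.Agent.Lib.Helper27.LApp
open Cfsg.Agent.Lib.Helper27.OrbCert Cfsg.Agent.Lib.Helper27.CoGlue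
open Cfsg.Agent.Lib.Helper27.CertBase Cfsg.Agent.Lib.Helper27.CoStd

/-- the matrix of an involution fixing `U0` and `X1` -/
def tM : ℕ := 0x1000800080008000a00080008000800080008000a00080008000800080008000a0008000a0008000a0008000a0006000e0001000800080008000a00080008000800080008000a00080008000800080008000a0008000a0008000a0008000a000e000600010008000800080006000800080008000800080006000800080008000800080006000800060008000e00080006000a000a0001000a000a000a0008000a0006000a000a00060008000a000a00060006000a0008000a00080006000800060008000800080001000800080008000600080008000800080008000600080008000800080008000600080006000800060008000e000a000a0001000a0006000a00080006000a000a000a000a00080006000a000a000a000a0008000600080006000800060008000800080001000800080008000600080008000800080008000e000800080008000800080006000800060008000600080006000a000a0001000a000a00060008000a00060006000a000a0008000a0006000a000a000a00080006000800060008000a0008000800080001000800080008000e000800080008000800080006000800080008000800080006000800060008000600080006000a000a0001000a0006000a0008000a0006000a000a000a000800060006000a000600060008000a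0008000a0008000a0008000800080001000a000a000600080006000a0006000a000a0008000a000a000a000600060008000a0008000a0008000600080008000800010006000600060008000a000a000a000a00060008000a0006000a000a000a0008000a0008000a000800060008000800080001000a000a000a00080006000a000a000a00060008000a00060006000a0006000800060008000a0008000a0008000800080001000a0006000a0008000a000a0006000600060008000a000a000a000a00060008000a000800060008000a000800080008000100080008000800060008000800080008000800060008000800080008000800060008000e0008000600080006000a000a0001000a000a000a0008000a000a00060006000a0008000600060006000a000a0008000a0008000a0008000600080008000800010006000a000a0008000600060006000a000600080006000a000a000a000a0008000a0008000a0008000a0008000800080001000a000a00060008000a000a000a0006000600080006000a000a0006000a000800060008000a0008000a00080008000800010006000a000a0008000a0006000a0006000a0008000a000a000a000a0006000800060008000a0008000600080008000800010006000a000a00080006000a000a0006000a0008000a0006000a0006000a0008000a000800060008000a0008000800080001000800080008000600080008000800080008000600080008000800080008000e000800060008000600080006000a000a000100060006000a0008000a000a0006000a000a0008000a000a00060006000a000800060008000a0008000a00080008000800010006000a00060008000a000a000a000a000a00080006000a0006000a00060008000a000800060008000a0008000800080001000a00060006000800060006000a0006000a0008000a000a0006000a000a0008000a0008000a0008000a000800080008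

/-- its correction vector -/
def tCv : ℕ := 0xc800c800c800d000c800c800c800c800c800d000c800c800c800c800c800d000c800d000c800d000c800d000c000c0

/-- the codes of the images of the 100 vectors of the table -/
def imgW : ℕ := 0x107800001490000016d00000184880000b98000008f000000c90000000a0000010a800001848600007d800001510000000e000000ed800000eb800001849400003b800001848e00003d800001848200016680000184840001278000018495000055800001848300012c000001848c000037800001849600013b0000008380000143000000bc800000e48000016080000183000000fd800000c1000000a980000081800001848f00018497000118000001848a00006c800001848900012f00000031800000110000002a8000001300000184910000338000011500000130800001849300002c0000006e8000010e800000168000004b000000430000004f800001849200001b0000013e0000010d800001848d0000420000002f800000b2000000ec80000000040001678000000c0000000f00000090000000a18000009b8000007b00000184850001848700014d000000c3800000e180000074800000b5000000d7800000210000002400000087800000a4000000cd800000dd00000051000001848b000053000001849000006000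

/-- the code of the image of the vector of row `i` -/
def img (i : ℕ) : ℕ := Nat.land (Nat.shiftRight imgW (Nat.mul 32 i)) 4294967295

theorem t_ok : gensOK [U0, X1] [(tM, tCv)] = true := by decide +kernel

theorem t_sym : Cfsg.Agent.Lib.Helper27.Invol.symB tM = true := by decide +kernel

theorem t_move : allB 100 (Cfsg.Agent.Lib.Helper27.Invol.moveRow tM tCv
    Cfsg.Agent.Lib.Helper27.CertHS.tHT img) = true := by decide +kernel


/-- Some involution of the Higman–Sims group acts without fixed points on its 100 points. -/
theorem result (v w : ↥Cfsg.leechLattice) (hv : Cfsg.sqNorm (v : Cfsg.GolayPt → ℤ) = 48) (hw : Cfsg.sqNorm (w : Cfsg.GolayPt → ℤ) = 48) (hvw : Cfsg.dotInt (v : Cfsg.GolayPt → ℤ) (w : Cfsg.GolayPt → ℤ) = -32) : ∃ g : ↥Cfsg.Co0, g • v = v ∧ g • w = w ∧ orderOf g = 2 ∧ ∀ x ∈ {x : ↥Cfsg.leechLattice | Cfsg.sqNorm (x : Cfsg.GolayPt → ℤ) = 32 ∧ Cfsg.dotInt (v : Cfsg.GolayPt → ℤ) (x : Cfsg.GolayPt → ℤ) = 24 ∧ Cfsg.dotInt (w : Cfsg.GolayPt → ℤ) (x : Cfsg.GolayPt → ℤ) = -24}, g • x ≠ x := by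

  obtain ⟨g0, h1, h2⟩ := std_vw v w hv hw hvw
  obtain ⟨hchk, hfix⟩ := Cfsg.Agent.Lib.Helper27.Invol.gens_single t_ok
  obtain ⟨hM, -, -⟩ := matChk_sound hchk
  have ht2 : Cfsg.Agent.Lib.Helper27.Invol.matCo tM hM * Cfsg.Agent.Lib.Helper27.Invol.matCo tM hM
      = 1 := Cfsg.Agent.Lib.Helper27.Invol.matCo_sq hM t_sym
  have htu : Cfsg.Agent.Lib.Helper27.Invol.matCo tM hM • u0 = u0 :=
    Subtype.ext (hfix U0 (by simp))
  have htx : Cfsg.Agent.Lib.Helper27.Invol.matCo tM hM • x1 = x1 :=
    Subtype.ext (hfix X1 (by simp))
  have hmove : ∀ y : leechLattice, (y : GolayPt → ℤ) ∈ Om Cfsg.Agent.Lib.Helper27.CertHS.cH →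
      Cfsg.Agent.Lib.Helper27.Invol.matCo tM hM • y ≠ y := by
    intro y hy heq
    exact Cfsg.Agent.Lib.Helper27.Invol.move_spec Cfsg.Agent.Lib.Helper27.CertHS.tabH
      Cfsg.Agent.Lib.Helper27.CertHS.hcH hchk img t_move _ hy (congrArg Subtype.val heq)
  generalize Cfsg.Agent.Lib.Helper27.Invol.matCo tM hM = t at ht2 htu htx hmove
  have hgv : (g0⁻¹ * t * g0) • v = v := by
    rw [mul_smul, mul_smul, h1, htu, inv_smul_eq_iff, h1]
  refine ⟨g0⁻¹ * t * g0, hgv, ?_, ?_, ?_⟩
  · apply fix_of_sum _ hgv
    rw [mul_smul, mul_smul, h2, htx, inv_smul_eq_iff, h2]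
  · have hne : g0⁻¹ * t * g0 ≠ 1 := by
      intro h
      have h' : t = 1 := by
        have e : t = g0 * (g0⁻¹ * t * g0) * g0⁻¹ := by group
        rw [e, h]
        group
      apply hmove y0 y0_om
      rw [h', one_smul]
    have hsq : (g0⁻¹ * t * g0) ^ 2 = 1 := by
      have e : (g0⁻¹ * t * g0) * (g0⁻¹ * t * g0) = g0⁻¹ * (t * t) * g0 := by group
      rw [sq, e, ht2]
      group
    exact orderOf_eq_prime hsq hne
  · intro x hx heq
    apply hmove (g0 • x) ((mem_H g0 h1 h2 x).mp hx)
    rw [mul_smul, mul_smul, inv_smul_eq_iff] at heq
    exact heq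

end Cfsg.Agent.S1642
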