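import Cfsg.Statements.S1893
import Cfsg.Agent.Lib.Helper49.AxB
import Cfsg.Agent.Lib.Helper2.QStable
import Cfsg.Agent.Lib.Helper11.QuadStable
import Cfsg.Agent.Lib.Helper78.Fitting
import Cfsg.Agent.Lib.Helper76.SylowTools
import Cfsg.Agent.S0552
import Cfsg.Agent.S4309
import Mathlib

set_option autoImplicit false
set_option linter.style.haveILetI false
open Cfsg

namespace Cfsg.Agent.S1893

theorem eq_one_of_pow_coprime {G : Type*} [Group G] (g : G) (m n : ℕ) (h : Nat.Coprime m n)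
    (hm : g ^ m = 1) (hn : g ^ n = 1) : g = 1 := by
  have h1 := orderOf_dvd_of_pow_eq_one hm
  have h2 := orderOf_dvd_of_pow_eq_one hn
  have h3 : orderOf g ∣ Nat.gcd m n := Nat.dvd_gcd h1 h2
  have h4 : Nat.gcd m n = 1 := h
  rw [h4] at h3
  exact orderOf_eq_one_iff.mp (Nat.dvd_one.mp h3)

theorem eq_one_of_pi {G : Type*} [Group G] (π : Set ℕ) (g : G) (m n : ℕ) (hm : g ^ m = 1)
    (hn : g ^ n = 1) (hmπ : ∀ p : ℕ, p.Prime → p ∣ m → p ∈ π)
    (hnπ : ∀ p : ℕ, p.Prime → p ∣ n → p ∉ π) : g = 1 := by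
  rw [← orderOf_eq_one_iff]
  by_contra h
  obtain ⟨p, hp, hpd⟩ := Nat.exists_prime_and_dvd h
  exact hnπ p hp (hpd.trans (orderOf_dvd_of_pow_eq_one hn))
    (hmπ p hp (hpd.trans (orderOf_dvd_of_pow_eq_one hm)))

theorem pow_card_of_mem {G : Type*} [Group G] (H : Subgroup G) {a : G} (ha : a ∈ H) :
    a ^ Nat.card H = 1 := by
  have h : (⟨a, ha⟩ : H) ^ Nat.card H = 1 := pow_card_eq_one'
  exact congrArg (fun z : H => (z : G)) h

theorem pow_mem_pgroup {G : Type*} [Group G] {p : ℕ} {P : Subgroup G} (hP : IsPGroup p P) {z : G}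
    (hz : z ∈ P) : ∃ j : ℕ, z ^ (p ^ j) = 1 := by
  obtain ⟨j, hj⟩ := hP ⟨z, hz⟩
  refine ⟨j, ?_⟩
  have h' := congrArg (fun z : P => (z : G)) hj
  simpa using h'

theorem conj_mem_of_normalizer {G : Type*} [Group G] {A : Subgroup G} {g a : G}
    (hg : g ∈ Subgroup.normalizer (A : Set G)) (ha : a ∈ A) : g * a * g⁻¹ ∈ A :=
  (Subgroup.mem_normalizer_iff.mp hg a).mp ha

theorem conj_mem_of_normalizer' {G : Type*} [Group G] {A : Subgroup G} {g a : G}
    (hg : g ∈ Subgroup.normalizer (A : Set G)) (ha : a ∈ A) : g⁻¹ * a * g ∈ A :=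
  (Subgroup.mem_normalizer_iff''.mp hg a).mp ha

theorem fitting_map_le {G G' : Type*} [Group G] [Group G'] (e : G ≃* G') :
    (Cfsg.fittingSubgroup G).map e.toMonoidHom ≤ Cfsg.fittingSubgroup G' := by
  rw [Subgroup.map_le_iff_le_comap]
  unfold Cfsg.fittingSubgroup
  apply sSup_le
  rintro N ⟨hN, hnil⟩
  rw [← Subgroup.map_le_iff_le_comap]
  apply le_sSup
  refine ⟨hN.map _ e.surjective, ?_⟩
  haveI := hnil
  exact Group.nilpotent_of_surjective (e.toMonoidHom.subgroupMap N)
    (e.toMonoidHom.subgroupMap_surjective N)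

theorem fitting_map_equiv {G G' : Type*} [Group G] [Group G'] (e : G ≃* G') :
    (Cfsg.fittingSubgroup G).map e.toMonoidHom = Cfsg.fittingSubgroup G' := by
  apply le_antisymm (fitting_map_le e)
  have h := fitting_map_le e.symm
  intro y hy
  refine ⟨e.symm y, h ⟨y, hy, rfl⟩, ?_⟩
  exact e.apply_symm_apply y

/-- Transport of an `SCN`-subgroup of `F(H)` along a homomorphism injective on `H`. -/
theorem scn_map {S T : Type*} [Group S] [Group T] (f : S →* T) (H : Subgroup S)
    (hker : ∀ g : S, g ∈ H → f g = 1 → g = 1) (A : Subgroup S)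
    (hA : Cfsg.IsSCN ((Cfsg.fittingSubgroup H).map H.subtype) A) :
    Cfsg.IsSCN ((Cfsg.fittingSubgroup (H.map f)).map (H.map f).subtype) (A.map f) := by
  obtain ⟨hAF, hFN, hFC⟩ := hA
  have hFH : (Cfsg.fittingSubgroup H).map H.subtype ≤ H := Subgroup.map_subtype_le _
  have hinj : Function.Injective (f.subgroupMap H) := by
    rw [injective_iff_map_eq_one]
    intro h hh
    have h1 : f (h : S) = 1 := by
      have := congrArg (fun z : H.map f => (z : T)) hh
      simpa using this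
    exact Subtype.ext (hker _ h.2 h1)
  let e : H ≃* H.map f :=
    MulEquiv.ofBijective (f.subgroupMap H) ⟨hinj, f.subgroupMap_surjective H⟩
  have hcomp : (H.map f).subtype.comp e.toMonoidHom = f.comp H.subtype := by
    ext h
    rfl
  have hF' : (Cfsg.fittingSubgroup (H.map f)).map (H.map f).subtype
      = ((Cfsg.fittingSubgroup H).map H.subtype).map f := by
    rw [← fitting_map_equiv e, Subgroup.map_map, Subgroup.map_map, hcomp]
  rw [hF']
  have hab : ∀ a ∈ A, ∀ b ∈ A, a * b = b * a := by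
    intro a ha b hb
    have hb' : b ∈ Subgroup.centralizer (A : Set S) := by
      have : b ∈ (Cfsg.fittingSubgroup H).map H.subtype ⊓ Subgroup.centralizer (A : Set S) := by
        rw [hFC]; exact hb
      exact this.2
    exact Subgroup.mem_centralizer_iff.mp hb' a ha
  refine ⟨Subgroup.map_mono hAF, ?_, ?_⟩
  · exact (Subgroup.map_mono hFN).trans (Subgroup.le_normalizer_map f)
  · apply le_antisymm
    · rintro y' ⟨⟨y, hyF, rfl⟩, hyC⟩
      refine ⟨y, ?_, rfl⟩
      have hyCA : y ∈ Subgroup.centralizer (A : Set S) := by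
        rw [Subgroup.mem_centralizer_iff]
        intro a ha
        have ha' : a ∈ A := ha
        have hya : y * a * y⁻¹ ∈ A := conj_mem_of_normalizer (hFN hyF) ha'
        have hz : y * a * y⁻¹ * a⁻¹ ∈ H :=
          H.mul_mem (hFH (hAF hya)) (H.inv_mem (hFH (hAF ha')))
        have hfz : f (y * a * y⁻¹ * a⁻¹) = 1 := by
          have hc : f a * f y = f y * f a :=
            Subgroup.mem_centralizer_iff.mp hyC (f a) (Subgroup.mem_map_of_mem f ha')
          rw [map_mul, map_mul, map_mul, map_inv, map_inv, ← hc]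
          group
        have h1 := hker _ hz hfz
        calc a * y = (y * a * y⁻¹ * a⁻¹)⁻¹ * (y * a) := by group
          _ = y * a := by rw [h1, inv_one, one_mul]
      have : y ∈ (Cfsg.fittingSubgroup H).map H.subtype ⊓ Subgroup.centralizer (A : Set S) :=
        ⟨hyF, hyCA⟩
      rw [hFC] at this
      exact this
    · rintro y' ⟨a, ha, rfl⟩
      refine Subgroup.mem_inf.mpr ⟨Subgroup.mem_map_of_mem f (hAF ha), ?_⟩
      rw [Subgroup.mem_centralizer_iff]
      rintro b' ⟨b, hb, rfl⟩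
      rw [← map_mul, ← map_mul, hab b hb a ha]

/-- The elements of `q`-power order in an abelian subgroup. -/
def qPart {S : Type*} [Group S] (A : Subgroup S) (hab : ∀ a ∈ A, ∀ b ∈ A, a * b = b * a)
    (q : ℕ) : Subgroup S where
  carrier := {a | a ∈ A ∧ ∃ j : ℕ, a ^ (q ^ j) = 1}
  one_mem' := ⟨A.one_mem, 0, one_pow _⟩
  mul_mem' := by
    rintro a b ⟨ha, j, hj⟩ ⟨hb, l, hl⟩
    refine ⟨A.mul_mem ha hb, j + l, ?_⟩
    have hc : Commute a b := hab a ha b hb
    rw [hc.mul_pow, pow_add, pow_mul, hj, one_pow, mul_comm (q ^ j) (q ^ l), pow_mul, hl,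
      one_pow, one_mul]
  inv_mem' := by
    rintro a ⟨ha, j, hj⟩
    exact ⟨A.inv_mem ha, j, by rw [inv_pow, hj, inv_one]⟩

theorem mem_qPart {S : Type*} [Group S] (A : Subgroup S)
    (hab : ∀ a ∈ A, ∀ b ∈ A, a * b = b * a) (q : ℕ) (a : S) :
    a ∈ qPart A hab q ↔ a ∈ A ∧ ∃ j : ℕ, a ^ (q ^ j) = 1 := Iff.rfl

theorem qPart_isPGroup {S : Type*} [Group S] (A : Subgroup S)
    (hab : ∀ a ∈ A, ∀ b ∈ A, a * b = b * a) (q : ℕ) : IsPGroup q (qPart A hab q) := by
  rintro ⟨a, ha⟩
  obtain ⟨-, j, hj⟩ := (mem_qPart A hab q a).mp ha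
  exact ⟨j, Subtype.ext (by simpa using hj)⟩

/-- Endgame: an element whose image lies in `O_r(S / C_S(R))`, `R = O_r(S)`, and which
centralizes all `O_q(S)`, `q ≠ r`, lies in the Fitting subgroup. -/
theorem endgame {S : Type*} [Group S] [Finite S] [Group.IsSolvable S] (r : ℕ) [Fact r.Prime]
    (R : Subgroup S) [R.Normal] (hRp : IsPGroup r R) (hRle : Cfsg.pCore r S ≤ R) (x : S)
    (hxq : ∀ q : ℕ, q.Prime → q ≠ r → ∀ y ∈ Cfsg.pCore q S, Commute x y)
    (hxM : (QuotientGroup.mk x : S ⧸ Subgroup.centralizer (R : Set S)) ∈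
      Cfsg.pCore r (S ⧸ Subgroup.centralizer (R : Set S))) :
    x ∈ Cfsg.fittingSubgroup S := by
  classical
  obtain ⟨E, hEn, hEle, hEx⟩ : ∃ E : Subgroup S, E.Normal ∧
      (∀ q : ℕ, q.Prime → q ≠ r → Cfsg.pCore q S ≤ E) ∧ (∀ y ∈ E, Commute x y) := by
    refine ⟨sSup {N : Subgroup S | N.Normal ∧ ∃ q : ℕ, q.Prime ∧ q ≠ r ∧ N = Cfsg.pCore q S},
      ?_, ?_, ?_⟩
    · exact Subgroup.sSup_normal _ (fun N hN => hN.1)
    · intro q hq hqr
      exact le_sSup ⟨Cfsg.Agent.Lib.Helper78.Fitting.pCore_normal q, q, hq, hqr, rfl⟩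
    · have hle : sSup {N : Subgroup S | N.Normal ∧ ∃ q : ℕ, q.Prime ∧ q ≠ r ∧ N = Cfsg.pCore q S}
          ≤ Subgroup.centralizer ({x} : Set S) := by
        apply sSup_le
        rintro N ⟨-, q, hq, hqr, rfl⟩
        intro y hy
        rw [Subgroup.mem_centralizer_iff]
        intro z hz
        rw [Set.mem_singleton_iff] at hz
        rw [hz]
        exact (hxq q hq hqr y hy).eq
      intro y hy
      have := Subgroup.mem_centralizer_iff.mp (hle hy) x (Set.mem_singleton x)
      exact this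
  haveI := hEn
  have hFle : Cfsg.fittingSubgroup S ≤ R ⊔ E := by
    rw [Cfsg.Agent.Lib.Helper78.Fitting.fitting_eq_iSup_pCore]
    apply iSup_le
    intro p
    by_cases hpr : (p : ℕ) = r
    · rw [hpr]; exact hRle.trans le_sup_left
    · exact (hEle p p.2 hpr).trans le_sup_right
  have hcent : ∀ g : S, (∀ y ∈ R, Commute g y) → (∀ y ∈ E, Commute g y) → g ∈ R ⊔ E := by
    intro g hgR hgE
    apply hFle
    apply Cfsg.Agent.S0552.centralizer_fitting_le
    rw [Subgroup.mem_centralizer_iff]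
    intro h hh
    have hle : R ⊔ E ≤ Subgroup.centralizer ({g} : Set S) := by
      apply sup_le
      · intro y hy
        rw [Subgroup.mem_centralizer_iff]
        intro z hz
        rw [Set.mem_singleton_iff] at hz
        rw [hz]; exact (hgR y hy).eq
      · intro y hy
        rw [Subgroup.mem_centralizer_iff]
        intro z hz
        rw [Set.mem_singleton_iff] at hz
        rw [hz]; exact (hgE y hy).eq
    have := Subgroup.mem_centralizer_iff.mp (hle (hFle hh)) g (Set.mem_singleton g)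
    exact this.symm
  have hkey : ∀ g : S,
      (QuotientGroup.mk g : S ⧸ Subgroup.centralizer (R : Set S)) ∈
        Cfsg.pCore r (S ⧸ Subgroup.centralizer (R : Set S)) →
      (∀ y ∈ E, Commute g y) → ∃ j : ℕ, g ^ (r ^ j) ∈ E := by
    intro g hgM hgE
    have hQp : IsPGroup r (Cfsg.pCore r (S ⧸ Subgroup.centralizer (R : Set S))) :=
      Cfsg.Agent.Lib.Helper78.Fitting.pCore_isPGroup r
    obtain ⟨j₁, hj₁⟩ := pow_mem_pgroup hQp hgM
    have hg1 : g ^ (r ^ j₁) ∈ Subgroup.centralizer (R : Set S) := by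
      apply (QuotientGroup.eq_one_iff _).mp
      rw [QuotientGroup.mk_pow]
      exact hj₁
    have hg1R : ∀ y ∈ R, Commute (g ^ (r ^ j₁)) y := by
      intro y hy
      exact (Subgroup.mem_centralizer_iff.mp hg1 y hy).symm
    have hg1E : ∀ y ∈ E, Commute (g ^ (r ^ j₁)) y := fun y hy => (hgE y hy).pow_left _
    have hmem := hcent _ hg1R hg1E
    rw [Subgroup.mem_sup_of_normal_right] at hmem
    obtain ⟨u, hu, v, hv, huv⟩ := hmem
    obtain ⟨j₂, hj₂⟩ := pow_mem_pgroup hRp hu
    have huv' : Commute u v := by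
      have h1 : Commute u (g ^ (r ^ j₁)) := (hg1R u hu).symm
      have h2 : v = u⁻¹ * g ^ (r ^ j₁) := by rw [← huv]; group
      rw [h2]
      exact (Commute.refl u).inv_right.mul_right h1
    refine ⟨j₁ + j₂, ?_⟩
    have : g ^ (r ^ (j₁ + j₂)) = v ^ (r ^ j₂) := by
      rw [pow_add, pow_mul, ← huv, huv'.mul_pow, hj₂, one_mul]
    rw [this]
    exact Subgroup.pow_mem _ hv _
  obtain ⟨M₁, hM₁n, hxM₁, hM₁M, hM₁E⟩ : ∃ M₁ : Subgroup S, M₁.Normal ∧ x ∈ M₁ ∧
      (∀ g ∈ M₁, (QuotientGroup.mk g : S ⧸ Subgroup.centralizer (R : Set S)) ∈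
        Cfsg.pCore r (S ⧸ Subgroup.centralizer (R : Set S))) ∧
      (∀ g ∈ M₁, ∀ y ∈ E, Commute g y) := by
    haveI hMn : ((Cfsg.pCore r (S ⧸ Subgroup.centralizer (R : Set S))).comap
        (QuotientGroup.mk' (Subgroup.centralizer (R : Set S)))).Normal :=
      (Cfsg.Agent.Lib.Helper78.Fitting.pCore_normal r).comap _
    refine ⟨((Cfsg.pCore r (S ⧸ Subgroup.centralizer (R : Set S))).comap
        (QuotientGroup.mk' (Subgroup.centralizer (R : Set S)))) ⊓
          Subgroup.centralizer (E : Set S), inferInstance, Subgroup.mem_inf.mpr ⟨?_, ?_⟩, ?_, ?_⟩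
    · exact hxM
    · rw [Subgroup.mem_centralizer_iff]
      intro y hy
      exact (hEx y hy).eq.symm
    · intro g hg
      exact hg.1
    · intro g hg y hy
      exact (Subgroup.mem_centralizer_iff.mp hg.2 y hy).symm
  have hnil : Group.IsNilpotent M₁ := by
    have hpq : IsPGroup r (M₁ ⧸ Subgroup.center M₁) := by
      intro g'
      obtain ⟨g, rfl⟩ := QuotientGroup.mk_surjective g'
      obtain ⟨j, hj⟩ := hkey g.1 (hM₁M g.1 g.2) (hM₁E g.1 g.2)
      refine ⟨j, ?_⟩
      rw [← QuotientGroup.mk_pow, QuotientGroup.eq_one_iff, Subgroup.mem_center_iff]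
      intro h
      apply Subtype.ext
      rw [Subgroup.coe_mul, Subgroup.coe_mul, Subgroup.coe_pow]
      exact (hM₁E h.1 h.2 _ hj).eq
    haveI : Group.IsNilpotent (M₁ ⧸ Subgroup.center M₁) := hpq.isNilpotent
    exact Subgroup.isNilpotent_of_ker_le_center (QuotientGroup.mk' (Subgroup.center M₁))
      (le_of_eq (QuotientGroup.ker_mk' _))
  exact Cfsg.Agent.Lib.Helper78.Fitting.le_fitting hM₁n hnil hxM₁

/-- The main claim when no `O_q(S)`, `q ∉ π`, is nontrivial. -/
theorem case_two {S : Type*} [Group S] [Finite S] [Group.IsSolvable S]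
    (π : Set ℕ) (H : Subgroup S) (hH : Cfsg.IsPiHall π H)
    (A : Subgroup S) (hA : Cfsg.IsSCN ((Cfsg.fittingSubgroup H).map H.subtype) A)
    (hcore : ∀ q : ℕ, q.Prime → q ∉ π → Cfsg.pCore q S = ⊥)
    (r : ℕ) (hr : r.Prime) (hr2 : r ≠ 2) (hr3 : r ≠ 3) (k : ℕ) (x : S)
    (hxC : x ∈ Subgroup.centralizer (A : Set S)) (hxr : x ^ (r ^ k) = 1) : x ∈ A := by
  classical
  obtain ⟨hAF, hFN, hFC⟩ := hA
  haveI : Fact r.Prime := ⟨hr⟩
  have hFH : (Cfsg.fittingSubgroup H).map H.subtype ≤ H := Subgroup.map_subtype_le _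
  have hab : ∀ a ∈ A, ∀ b ∈ A, a * b = b * a := by
    intro a ha b hb
    have hb' : b ∈ Subgroup.centralizer (A : Set S) := by
      have : b ∈ (Cfsg.fittingSubgroup H).map H.subtype ⊓ Subgroup.centralizer (A : Set S) := by
        rw [hFC]; exact hb
      exact this.2
    exact Subgroup.mem_centralizer_iff.mp hb' a ha
  -- every `p`-core lies in `F(H)`
  have hcoreF : ∀ q : ℕ, q.Prime → Cfsg.pCore q S ≤ (Cfsg.fittingSubgroup H).map H.subtype := by
    intro q hq
    haveI : Fact q.Prime := ⟨hq⟩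
    have hle : Cfsg.pCore q S ≤ H := by
      by_cases hqπ : q ∈ π
      · obtain ⟨P, hP⟩ :=
          Cfsg.Agent.Lib.Helper76.SylowTools.exists_sylow_le_of_not_dvd_index H (hH.2 q hq hqπ)
        exact (Cfsg.Agent.Lib.Helper78.Fitting.pCore_le_sylow P).trans hP
      · rw [hcore q hq hqπ]; exact bot_le
    have hn : ((Cfsg.pCore q S).subgroupOf H).Normal := by
      haveI := Cfsg.Agent.Lib.Helper78.Fitting.pCore_normal (G := S) q
      infer_instance
    have hp : IsPGroup q ((Cfsg.pCore q S).subgroupOf H) :=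
      (Cfsg.Agent.Lib.Helper78.Fitting.pCore_isPGroup (G := S) q).comap_of_injective H.subtype
        H.subtype_injective
    have h1 : (Cfsg.pCore q S).subgroupOf H ≤ Cfsg.fittingSubgroup H :=
      Cfsg.Agent.Lib.Helper78.Fitting.le_fitting hn hp.isNilpotent
    have h2 := Subgroup.map_mono (f := H.subtype) h1
    rw [Subgroup.map_subgroupOf_eq_of_le hle] at h2
    exact h2
  -- `x` centralizes `O_q(S)` for `q ≠ r`
  have hxq : ∀ q : ℕ, q.Prime → q ≠ r → ∀ y ∈ Cfsg.pCore q S, Commute x y := by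
    intro q hq hqr
    haveI : Fact q.Prime := ⟨hq⟩
    haveI hPn : (Cfsg.pCore q S).Normal := Cfsg.Agent.Lib.Helper78.Fitting.pCore_normal q
    have hPp : IsPGroup q (Cfsg.pCore q S) := Cfsg.Agent.Lib.Helper78.Fitting.pCore_isPGroup q
    have hxQ : ∀ a ∈ qPart A hab q, Commute x a := by
      intro a ha
      exact (Subgroup.mem_centralizer_iff.mp hxC a ((mem_qPart A hab q a).mp ha).1).symm
    have hxCQ : ∀ y ∈ Cfsg.pCore q S, (∀ a ∈ qPart A hab q, Commute y a) → Commute x y := by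
      intro y hy hyQ
      have hyF : y ∈ (Cfsg.fittingSubgroup H).map H.subtype := hcoreF q hq hy
      have hyN : y ∈ Subgroup.normalizer (A : Set S) := hFN hyF
      have hyCA : y ∈ Subgroup.centralizer (A : Set S) := by
        rw [Subgroup.mem_centralizer_iff]
        intro a ha
        have ha' : a ∈ A := ha
        have hn0 : orderOf a ≠ 0 := (orderOf_pos a).ne'
        obtain ⟨e, m', hm', hn⟩ := Nat.exists_eq_pow_mul_and_not_dvd hn0 q hq.ne_one
        have hbQ : a ^ m' ∈ qPart A hab q := by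
          rw [mem_qPart]
          refine ⟨A.pow_mem ha' _, e, ?_⟩
          rw [← pow_mul, mul_comm, ← hn, pow_orderOf_eq_one]
        have hyb : Commute y (a ^ m') := hyQ _ hbQ
        have hya : y * a * y⁻¹ ∈ A := conj_mem_of_normalizer hyN ha'
        have hzm : (y * a * y⁻¹ * a⁻¹) ^ m' = 1 := by
          have hc : Commute (y * a * y⁻¹) a⁻¹ := hab _ hya _ (A.inv_mem ha')
          rw [hc.mul_pow, conj_pow, inv_pow, hyb.eq, mul_inv_cancel_right, mul_inv_cancel]
        have hzP : y * a * y⁻¹ * a⁻¹ ∈ Cfsg.pCore q S := by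
          have h1 : a * y⁻¹ * a⁻¹ ∈ Cfsg.pCore q S := hPn.conj_mem _ (Subgroup.inv_mem _ hy) a
          have h2 := Subgroup.mul_mem _ hy h1
          have e1 : y * a * y⁻¹ * a⁻¹ = y * (a * y⁻¹ * a⁻¹) := by group
          rw [e1]; exact h2
        obtain ⟨j, hj⟩ := pow_mem_pgroup hPp hzP
        have hcop : Nat.Coprime m' (q ^ j) :=
          (Nat.Coprime.pow_left j ((Nat.Prime.coprime_iff_not_dvd hq).mpr hm')).symm
        have hz1 := eq_one_of_pow_coprime _ _ _ hcop hzm hj
        calc a * y = (y * a * y⁻¹ * a⁻¹)⁻¹ * (y * a) := by group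
          _ = y * a := by rw [hz1, inv_one, one_mul]
      have hyA : y ∈ A := by
        have : y ∈ (Cfsg.fittingSubgroup H).map H.subtype ⊓ Subgroup.centralizer (A : Set S) :=
          ⟨hyF, hyCA⟩
        rw [hFC] at this
        exact this
      exact (Subgroup.mem_centralizer_iff.mp hxC y hyA).symm
    have hcopr : Nat.Coprime (r ^ k) q :=
      Nat.Coprime.pow_left k ((Nat.coprime_primes hr hq).mpr (Ne.symm hqr))
    exact Cfsg.Agent.Lib.Helper49.AxB.thompson_AxB (Cfsg.pCore q S) (qPart A hab q) hPp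
      (qPart_isPGroup A hab q) x hcopr hxr hxQ hxCQ
  -- `x` acts quadratically on `O_r(S)`
  haveI hRn : (Cfsg.pCore r S).Normal := Cfsg.Agent.Lib.Helper78.Fitting.pCore_normal r
  have hRp : IsPGroup r (Cfsg.pCore r S) := Cfsg.Agent.Lib.Helper78.Fitting.pCore_isPGroup r
  have hquad : ⁅⁅Cfsg.pCore r S, Subgroup.zpowers x⁆, Subgroup.zpowers x⁆ = ⊥ := by
    have hzx : Subgroup.zpowers x ≤ Subgroup.centralizer (A : Set S) :=
      Subgroup.zpowers_le.mpr hxC
    have h1 : ⁅Cfsg.pCore r S, Subgroup.zpowers x⁆ ≤ A := by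
      rw [Subgroup.commutator_le]
      intro g hg h hh
      have hgF : g ∈ (Cfsg.fittingSubgroup H).map H.subtype := hcoreF r hr hg
      have hgN := hFN hgF
      have hhC := hzx hh
      rw [commutatorElement_def]
      have hmem : g * h * g⁻¹ * h⁻¹ ∈
          (Cfsg.fittingSubgroup H).map H.subtype ⊓ Subgroup.centralizer (A : Set S) := by
        refine Subgroup.mem_inf.mpr ⟨?_, ?_⟩
        · apply hcoreF r hr
          have h1 : h * g⁻¹ * h⁻¹ ∈ Cfsg.pCore r S := hRn.conj_mem _ (Subgroup.inv_mem _ hg) h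
          have e1 : g * h * g⁻¹ * h⁻¹ = g * (h * g⁻¹ * h⁻¹) := by group
          rw [e1]; exact Subgroup.mul_mem _ hg h1
        · rw [Subgroup.mem_centralizer_iff]
          intro a ha
          have ha' : a ∈ A := ha
          have ha2 : g⁻¹ * a * g ∈ A := conj_mem_of_normalizer' hgN ha'
          have e1 : a * h⁻¹ = h⁻¹ * a :=
            Subgroup.mem_centralizer_iff.mp (Subgroup.inv_mem _ hhC) a ha
          have e2 : (g⁻¹ * a * g) * h = h * (g⁻¹ * a * g) :=
            Subgroup.mem_centralizer_iff.mp hhC _ ha2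
          calc a * (g * h * g⁻¹ * h⁻¹) = g * ((g⁻¹ * a * g) * h) * g⁻¹ * h⁻¹ := by group
            _ = g * (h * (g⁻¹ * a * g)) * g⁻¹ * h⁻¹ := by rw [e2]
            _ = g * h * g⁻¹ * (a * h⁻¹) := by group
            _ = g * h * g⁻¹ * (h⁻¹ * a) := by rw [e1]
            _ = g * h * g⁻¹ * h⁻¹ * a := by group
      rw [hFC] at hmem
      exact hmem
    rw [eq_bot_iff, Subgroup.commutator_le]
    intro g hg h hh
    rw [Subgroup.mem_bot, commutatorElement_eq_one_iff_commute]
    exact Subgroup.mem_centralizer_iff.mp (hzx hh) g (h1 hg)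
  -- `p`-stability
  have hfree : ¬ Cfsg.Involves (Matrix.SpecialLinearGroup (Fin 2) (ZMod r)) S := by
    intro hinv
    exact hr3 (Cfsg.Agent.Lib.Helper11.QuadSolv.eq_three_of_pChain_SL2 hr2
      (Cfsg.Agent.Lib.Helper11.QuadStable.pChain_of_involves
        (Cfsg.Agent.Lib.Helper2.QStable.pChain_of_isSolvable r S) hinv))
  have hstab : Cfsg.IsPStableOn r (Cfsg.pCore r S) :=
    Cfsg.Agent.Lib.Helper11.QuadStable.isPStableOn_of_not_involves hr2 (Cfsg.pCore r S) hRp hfree
  have hxM := hstab x hquad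
  have hxF : x ∈ Cfsg.fittingSubgroup S := endgame r (Cfsg.pCore r S) hRp le_rfl x hxq hxM
  have hFSF : Cfsg.fittingSubgroup S ≤ (Cfsg.fittingSubgroup H).map H.subtype := by
    rw [Cfsg.Agent.Lib.Helper78.Fitting.fitting_eq_iSup_pCore]
    apply iSup_le
    intro p
    exact hcoreF p p.2
  have : x ∈ (Cfsg.fittingSubgroup H).map H.subtype ⊓ Subgroup.centralizer (A : Set S) :=
    ⟨hFSF hxF, hxC⟩
  rw [hFC] at this
  exact this

/-- Main claim: every `π`-element of prime power order centralizing `A` lies in `A`. -/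
theorem main_claim.{u} : ∀ (n : ℕ) (S : Type u) [Group S] [Finite S] [Group.IsSolvable S],
    Nat.card S = n → ∀ (π : Set ℕ), 2 ∉ π → 3 ∉ π → ∀ (H : Subgroup S), Cfsg.IsPiHall π H →
    ∀ (A : Subgroup S), Cfsg.IsSCN ((Cfsg.fittingSubgroup H).map H.subtype) A →
    ∀ (r : ℕ), r.Prime → r ∈ π → ∀ (k : ℕ) (x : S), x ∈ Subgroup.centralizer (A : Set S) →
      x ^ (r ^ k) = 1 → x ∈ A := by
  intro n
  induction n using Nat.strong_induction_on with
  | _ n ih =>
    intro S _ _ _ hn π h2 h3 H hH A hA r hr hrπ k x hxC hxr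
    by_cases hcore : ∃ q : ℕ, q.Prime ∧ q ∉ π ∧ Cfsg.pCore q S ≠ ⊥
    · obtain ⟨q, hq, hqπ, hne⟩ := hcore
      haveI : Fact q.Prime := ⟨hq⟩
      haveI hNn : (Cfsg.pCore q S).Normal := Cfsg.Agent.Lib.Helper78.Fitting.pCore_normal q
      have hNp : IsPGroup q (Cfsg.pCore q S) := Cfsg.Agent.Lib.Helper78.Fitting.pCore_isPGroup q
      have hNπ : ∀ p : ℕ, p.Prime → p ∣ Nat.card (Cfsg.pCore q S) → p ∉ π := by
        intro p hp hpd
        obtain ⟨j, hj⟩ := hNp.exists_card_eq
        rw [hj] at hpd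
        have : p = q := (Nat.prime_dvd_prime_iff_eq hp hq).mp (hp.dvd_of_dvd_pow hpd)
        rw [this]; exact hqπ
      have hker : ∀ g : S, g ∈ H → (QuotientGroup.mk' (Cfsg.pCore q S)) g = 1 → g = 1 := by
        intro g hgH hg1
        have hgN : g ∈ Cfsg.pCore q S := (QuotientGroup.eq_one_iff g).mp hg1
        exact eq_one_of_pi π g (Nat.card H) (Nat.card (Cfsg.pCore q S)) (pow_card_of_mem H hgH)
          (pow_card_of_mem _ hgN) hH.1 hNπ
      have hA' := scn_map (QuotientGroup.mk' (Cfsg.pCore q S)) H hker A hA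
      have hH' := (Cfsg.Agent.S4309.result π H (Cfsg.pCore q S) hH).2
      have hlt : Nat.card (S ⧸ Cfsg.pCore q S) < n := by
        rw [← hn, Subgroup.card_eq_card_quotient_mul_card_subgroup (Cfsg.pCore q S)]
        have h1 : 1 < Nat.card (Cfsg.pCore q S) :=
          (Subgroup.one_lt_card_iff_ne_bot _).mpr hne
        have h0 : 0 < Nat.card (S ⧸ Cfsg.pCore q S) := Nat.card_pos
        exact lt_mul_of_one_lt_right h0 h1
      have hx' : (QuotientGroup.mk' (Cfsg.pCore q S)) x ∈ Subgroup.centralizer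
          ((A.map (QuotientGroup.mk' (Cfsg.pCore q S)) : Subgroup (S ⧸ Cfsg.pCore q S)) :
            Set (S ⧸ Cfsg.pCore q S)) := by
        rw [Subgroup.mem_centralizer_iff]
        rintro b' ⟨b, hb, rfl⟩
        rw [← map_mul, ← map_mul, Subgroup.mem_centralizer_iff.mp hxC b hb]
      have hxr' : ((QuotientGroup.mk' (Cfsg.pCore q S)) x) ^ (r ^ k) = 1 := by
        rw [← map_pow, hxr, map_one]
      have hmem := ih _ hlt (S ⧸ Cfsg.pCore q S) rfl π h2 h3 _ hH' _ hA' r hr hrπ k _ hx' hxr'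
      obtain ⟨a, ha, hax⟩ := hmem
      have hcomm : Commute a⁻¹ x :=
        Commute.inv_left (show Commute a x from Subgroup.mem_centralizer_iff.mp hxC a ha)
      have hf1 : (QuotientGroup.mk' (Cfsg.pCore q S)) (a⁻¹ * x) = 1 := by
        rw [map_mul, map_inv, hax, inv_mul_cancel]
      have hnN : a⁻¹ * x ∈ Cfsg.pCore q S := (QuotientGroup.eq_one_iff _).mp hf1
      have haH : a ∈ H := (Subgroup.map_subtype_le _) (hA.1 ha)
      have hpow1 : (a⁻¹ * x) ^ (Nat.card H * r ^ k) = 1 := by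
        rw [hcomm.mul_pow, pow_mul, inv_pow, pow_card_of_mem H haH, inv_one, one_pow, one_mul,
          mul_comm, pow_mul, hxr, one_pow]
      have hpow2 : (a⁻¹ * x) ^ Nat.card (Cfsg.pCore q S) = 1 := pow_card_of_mem _ hnN
      have h1 : a⁻¹ * x = 1 := by
        apply eq_one_of_pi π (a⁻¹ * x) (Nat.card H * r ^ k) (Nat.card (Cfsg.pCore q S)) hpow1 hpow2
        · intro p hp hpd
          rcases (Nat.Prime.dvd_mul hp).mp hpd with h | h
          · exact hH.1 p hp h
          · have : p = r := (Nat.prime_dvd_prime_iff_eq hp hr).mp (hp.dvd_of_dvd_pow h)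
            rw [this]; exact hrπ
        · exact hNπ
      have hax' : a = x := inv_mul_eq_one.mp h1
      rw [← hax']; exact ha
    · have hcore' : ∀ q : ℕ, q.Prime → q ∉ π → Cfsg.pCore q S = ⊥ := by
        intro q hq hqπ
        by_contra hne
        exact hcore ⟨q, hq, hqπ, hne⟩
      exact case_two π H hH A hA hcore' r hr (by rintro rfl; exact h2 hrπ)
        (by rintro rfl; exact h3 hrπ) k x hxC hxr

/-- A central subgroup `A` of `C` containing all prime-power-order `π`-elements of `C` has a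
normal complement of `π'`-order. -/
theorem split_of_hall {S : Type*} [Group S] [Finite S] (π : Set ℕ) (A C : Subgroup S)
    (hAC : A ≤ C) (hcent : ∀ a ∈ A, ∀ c ∈ C, a * c = c * a)
    (hAπ : ∀ p : ℕ, p.Prime → p ∣ Nat.card A → p ∈ π)
    (hMC : ∀ (r : ℕ), r.Prime → r ∈ π → ∀ (k : ℕ) (x : S), x ∈ C → x ^ (r ^ k) = 1 → x ∈ A) :
    ∃ D : Subgroup S, D ≤ C ∧ (∀ c ∈ C, ∀ d ∈ D, c * d * c⁻¹ ∈ D) ∧ A ⊓ D = ⊥ ∧ A ⊔ D = C ∧
      ∀ q : ℕ, q.Prime → q ∣ Nat.card D → q ∉ π := by
  classical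
  have hcentral : ∀ (a : C), a ∈ A.subgroupOf C → ∀ c : C, a * c = c * a := by
    intro a ha c
    apply Subtype.ext
    rw [Subgroup.coe_mul, Subgroup.coe_mul]
    exact hcent a (Subgroup.mem_subgroupOf.mp ha) c c.2
  haveI hA'n : (A.subgroupOf C).Normal := by
    constructor
    intro a ha c
    have : c * a * c⁻¹ = a := by rw [← hcentral a ha c, mul_inv_cancel_right]
    rw [this]; exact ha
  have hidx : ∀ p : ℕ, p.Prime → p ∈ π → ¬ p ∣ (A.subgroupOf C).index := by
    intro p hp hpπ hpd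
    haveI : Fact p.Prime := ⟨hp⟩
    obtain ⟨P⟩ := (inferInstance : Nonempty (Sylow p C))
    have hPle : (P : Subgroup C) ≤ A.subgroupOf C := by
      intro g hg
      obtain ⟨j, hj⟩ := pow_mem_pgroup P.isPGroup' hg
      rw [Subgroup.mem_subgroupOf]
      apply hMC p hp hpπ j (g : S) g.2
      have := congrArg (fun z : C => (z : S)) hj
      simpa using this
    exact P.not_dvd_index (hpd.trans (Subgroup.index_dvd_of_le hPle))
  have hcop : Nat.Coprime (Nat.card (A.subgroupOf C)) (A.subgroupOf C).index := by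
    apply Nat.coprime_of_dvd
    intro p hp hpd
    apply hidx p hp
    apply hAπ p hp
    have e : Nat.card (A.subgroupOf C) = Nat.card A :=
      Nat.card_congr (Subgroup.subgroupOfEquivOfLe hAC).toEquiv
    rw [e] at hpd
    exact hpd
  obtain ⟨K, hK⟩ := Subgroup.exists_right_complement'_of_coprime hcop
  have hdecomp : ∀ c : C, ∃ a ∈ A.subgroupOf C, ∃ k ∈ K, a * k = c := by
    intro c
    obtain ⟨⟨⟨a, ha⟩, ⟨k, hk⟩⟩, hak⟩ := hK.2 c
    exact ⟨a, ha, k, hk, hak⟩
  refine ⟨K.map C.subtype, Subgroup.map_subtype_le K, ?_, ?_, ?_, ?_⟩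
  · rintro c hc d ⟨k, hk, rfl⟩
    obtain ⟨a, ha, k', hk', hak⟩ := hdecomp ⟨c, hc⟩
    refine ⟨k' * k * k'⁻¹, K.mul_mem (K.mul_mem hk' hk) (K.inv_mem hk'), ?_⟩
    have h1 : (⟨c, hc⟩ : C) * k * (⟨c, hc⟩ : C)⁻¹ = k' * k * k'⁻¹ := by
      rw [← hak]
      have e1 := hcentral a ha (k' * k * k'⁻¹)
      calc a * k' * k * (a * k')⁻¹ = a * (k' * k * k'⁻¹) * a⁻¹ := by group
        _ = (k' * k * k'⁻¹) * a * a⁻¹ := by rw [e1]
        _ = k' * k * k'⁻¹ := by group
    have h2 := congrArg (fun z : C => (z : S)) h1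
    simpa using h2.symm
  · rw [eq_bot_iff]
    rintro y ⟨hyA, k, hk, rfl⟩
    have hkA : k ∈ A.subgroupOf C := Subgroup.mem_subgroupOf.mpr hyA
    have hk1 : k ∈ A.subgroupOf C ⊓ K := ⟨hkA, hk⟩
    rw [hK.disjoint.eq_bot, Subgroup.mem_bot] at hk1
    rw [Subgroup.mem_bot, hk1, map_one]
  · apply le_antisymm
    · exact sup_le hAC (Subgroup.map_subtype_le K)
    · intro c hc
      obtain ⟨a, ha, k, hk, hak⟩ := hdecomp ⟨c, hc⟩
      have hc' : c = (a : S) * (k : S) := by
        have := congrArg (fun z : C => (z : S)) hak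
        simpa using this.symm
      rw [hc']
      exact Subgroup.mul_mem_sup (Subgroup.mem_subgroupOf.mp ha) (Subgroup.mem_map_of_mem _ hk)
  · intro q hq hqd hqπ
    apply hidx q hq hqπ
    rw [Subgroup.card_subtype] at hqd
    rw [hK.symm.index_eq_card]
    exact hqd

/-- Let S be a finite solvable group, π a set of primes containing neither 2 nor 3, H a Hall π-subgroup of S, and A a self-centralizing normal subgroup of the Fitting subgroup F(H). Then C_S(A) = A × D for a normal subgroup D of C_S(A) whose order has no prime divisor in π. -/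
theorem result {S : Type*} [Group S] [Finite S] [Group.IsSolvable S]
    (π : Set ℕ) (h2 : 2 ∉ π) (h3 : 3 ∉ π) (H : Subgroup S) (hH : Cfsg.IsPiHall π H)
    (A : Subgroup S) (hA : Cfsg.IsSCN ((Cfsg.fittingSubgroup H).map H.subtype) A) :
    ∃ D : Subgroup S, D ≤ Subgroup.centralizer (A : Set S) ∧
      (∀ c ∈ Subgroup.centralizer (A : Set S), ∀ d ∈ D, c * d * c⁻¹ ∈ D) ∧
      A ⊓ D = ⊥ ∧ A ⊔ D = Subgroup.centralizer (A : Set S) ∧
      ∀ q : ℕ, q.Prime → q ∣ Nat.card D → q ∉ π := by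
  have hFC := hA.2.2
  have hAC : A ≤ Subgroup.centralizer (A : Set S) := by
    intro a ha
    have : a ∈ (Cfsg.fittingSubgroup H).map H.subtype ⊓ Subgroup.centralizer (A : Set S) := by
      rw [hFC]; exact ha
    exact this.2
  have hAH : A ≤ H := hA.1.trans (Subgroup.map_subtype_le _)
  apply split_of_hall π A (Subgroup.centralizer (A : Set S)) hAC
  · intro a ha c hc
    exact Subgroup.mem_centralizer_iff.mp hc a ha
  · intro p hp hpd
    exact hH.1 p hp (hpd.trans (Subgroup.card_dvd_of_le hAH))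
  · intro r hr hrπ k x hxC hxr
    exact main_claim (Nat.card S) S rfl π h2 h3 H hH A hA r hr hrπ k x hxC hxr

end Cfsg.Agent.S1893
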