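import Cfsg.Statements.S1895
import Cfsg.Agent.Lib.Helper70.Blackburn5
import Cfsg.Agent.Lib.Helper34.Chief
import Cfsg.Agent.S1335
import Cfsg.Agent.S0639

set_option autoImplicit false
open Cfsg

namespace Cfsg.Agent.S1895

open Subgroup
open scoped commutatorElement

/-- a `p`-chief factor is elementary abelian -/
theorem elem_ab {G : Type*} [Group G] [Finite G] {p : ℕ} [hp' : Fact p.Prime]
    (H K : Subgroup G) [H.Normal] [K.Normal] (hKH : K < H) (n : ℕ) (hn : K.relIndex H = p ^ n)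
    (hchief : ∀ L : Subgroup G, L.Normal → K ≤ L → L ≤ H → L = K ∨ L = H) :
    (∀ h ∈ H, h ^ p ∈ K) ∧ (∀ a ∈ H, ∀ b ∈ H, ⁅a, b⁆ ∈ K) := by
  have hpp := hp'.out
  have hch : IsChiefFactor H K := ⟨hKH, inferInstance, inferInstance, hchief⟩
  have hcard : Nat.card (↥H ⧸ K.subgroupOf H) = p ^ n := hn
  have hVp : IsPGroup p (↥H ⧸ K.subgroupOf H) := IsPGroup.of_card hcard
  have hnt : Nontrivial (↥H ⧸ K.subgroupOf H) := Cfsg.Agent.Lib.Helper34.Chief.nontrivial_sec H K hKH
  have hn0 : n ≠ 0 := by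
    rintro rfl
    rw [pow_zero] at hcard
    have := Finite.one_lt_card_iff_nontrivial.mpr (inferInstance : Nontrivial (↥H ⧸ K.subgroupOf H))
    omega
  -- commutator
  have hcomm : commutator (↥H ⧸ K.subgroupOf H) = ⊥ := by
    have hinv : ∀ x ∈ (Cfsg.Agent.Lib.Helper34.Chief.act H K).range,
        ∀ v ∈ commutator (↥H ⧸ K.subgroupOf H), x v ∈ commutator (↥H ⧸ K.subgroupOf H) := by
      rintro x - v hv
      have hchar : (commutator (↥H ⧸ K.subgroupOf H)).Characteristic := inferInstance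
      have h1 := Subgroup.characteristic_iff_map_eq.mp hchar x
      rw [← h1]
      exact ⟨v, hv, rfl⟩
    rcases Cfsg.Agent.Lib.Helper34.Chief.irr H K hch (commutator (↥H ⧸ K.subgroupOf H)) hinv
      with h | h
    · exact h
    · exfalso
      have hnil : Group.IsNilpotent (↥H ⧸ K.subgroupOf H) := hVp.isNilpotent
      have := Group.IsSolvable.commutator_lt_top_of_nontrivial (↥H ⧸ K.subgroupOf H)
      exact this.ne h
  have hab : ∀ a b : ↥H ⧸ K.subgroupOf H, a * b = b * a := by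
    intro a b
    have h1 : ⁅a, b⁆ ∈ commutator (↥H ⧸ K.subgroupOf H) := by
      rw [_root_.commutator_def]
      exact Subgroup.commutator_mem_commutator (Subgroup.mem_top a) (Subgroup.mem_top b)
    rw [hcomm, Subgroup.mem_bot] at h1
    exact commutatorElement_eq_one_iff_mul_comm.mp h1
  -- exponent
  let B : Subgroup (↥H ⧸ K.subgroupOf H) :=
    { carrier := {v | v ^ p = 1}
      mul_mem' := by
        intro a b ha hb
        show (a * b) ^ p = 1
        rw [(show Commute a b from hab a b).mul_pow, show a ^ p = 1 from ha,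
          show b ^ p = 1 from hb, one_mul]
      one_mem' := one_pow p
      inv_mem' := by
        intro a ha
        show a⁻¹ ^ p = 1
        rw [inv_pow, show a ^ p = 1 from ha, inv_one] }
  have hexp : ∀ v : ↥H ⧸ K.subgroupOf H, v ^ p = 1 := by
    have hinv : ∀ x ∈ (Cfsg.Agent.Lib.Helper34.Chief.act H K).range, ∀ v ∈ B, x v ∈ B := by
      rintro x - v hv
      show (x v) ^ p = 1
      rw [← map_pow, show v ^ p = 1 from hv, map_one]
    rcases Cfsg.Agent.Lib.Helper34.Chief.irr H K hch B hinv with h | h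
    · exfalso
      have hdvd : p ∣ Nat.card (↥H ⧸ K.subgroupOf H) := by
        rw [hcard]; exact dvd_pow_self p hn0
      obtain ⟨x, hx⟩ := exists_prime_orderOf_dvd_card' p hdvd
      have hxB : x ∈ B := by
        show x ^ p = 1
        rw [← hx]; exact pow_orderOf_eq_one x
      rw [h, Subgroup.mem_bot] at hxB
      rw [hxB, orderOf_one] at hx
      exact hpp.one_lt.ne hx
    · intro v
      have : v ∈ B := by rw [h]; exact Subgroup.mem_top v
      exact this
  constructor
  · intro h hh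
    have h1 := hexp (QuotientGroup.mk ⟨h, hh⟩)
    rw [← QuotientGroup.mk_pow, QuotientGroup.eq_one_iff, Subgroup.mem_subgroupOf] at h1
    simpa using h1
  · intro a ha b hb
    have h1 := hab (QuotientGroup.mk ⟨a, ha⟩) (QuotientGroup.mk ⟨b, hb⟩)
    rw [← commutatorElement_eq_one_iff_mul_comm] at h1
    have h2 : (QuotientGroup.mk ⁅(⟨a, ha⟩ : ↥H), ⟨b, hb⟩⁆ : ↥H ⧸ K.subgroupOf H) = 1 := by
      rw [← h1]; rfl
    rw [QuotientGroup.eq_one_iff, Subgroup.mem_subgroupOf] at h2
    exact h2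

theorem main {G : Type*} [Group G] [Finite G] {p : ℕ} [hp' : Fact p.Prime] (hp : p ≠ 2)
    (hr : Cfsg.PRankLE p 2 G)
    (H K : Subgroup G) [H.Normal] [K.Normal] (hKH : K < H) (n : ℕ) (hn : K.relIndex H = p ^ n)
    (hchief : ∀ L : Subgroup G, L.Normal → K ≤ L → L ≤ H → L = K ∨ L = H) : n ≤ 2 := by
  have hpp := hp'.out
  by_contra hn3
  rw [not_le] at hn3
  obtain ⟨hpow, hcomm⟩ := elem_ab H K hKH n hn hchief
  obtain PH : Sylow p H := default
  set Q : Subgroup G := (PH : Subgroup H).map H.subtype with hQ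
  have hQH : Q ≤ H := by rintro _ ⟨u, -, rfl⟩; exact u.2
  have hQp : IsPGroup p Q := by
    rw [hQ]
    exact PH.isPGroup'.map H.subtype
  have hfr : normalizer (Q : Set G) ⊔ H = ⊤ := Sylow.normalizer_sup_eq_top PH
  have hsup : (PH : Subgroup H) ⊔ K.subgroupOf H = ⊤ := by
    rw [← Subgroup.index_eq_one]
    have h1 : ((PH : Subgroup H) ⊔ K.subgroupOf H).index ∣ (PH : Subgroup H).index :=
      Subgroup.index_dvd_of_le le_sup_left
    have h2 : ((PH : Subgroup H) ⊔ K.subgroupOf H).index ∣ p ^ n := by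
      have := Subgroup.index_dvd_of_le (le_sup_right : K.subgroupOf H ≤ (PH : Subgroup H) ⊔ K.subgroupOf H)
      rw [← hn]; exact this
    obtain ⟨j, -, hj⟩ := (Nat.dvd_prime_pow hpp).mp h2
    rcases Nat.eq_zero_or_pos j with rfl | hjpos
    · rw [hj, pow_zero]
    · exfalso
      have h3 : p ∣ (PH : Subgroup H).index := by
        refine dvd_trans ?_ h1
        rw [hj]; exact dvd_pow_self p hjpos.ne'
      exact PH.not_dvd_index h3
  have hQK : Q ⊔ K = H := by
    have h1 := congrArg (Subgroup.map H.subtype) hsup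
    rw [Subgroup.map_sup, Subgroup.subgroupOf_map_subtype, ← MonoidHom.range_eq_map,
      Subgroup.range_subtype] at h1
    rw [inf_eq_left.mpr hKH.le] at h1
    exact h1
  -- apply rankR
  have hrQ : Cfsg.PRankLE p 2 ↥Q :=
    Cfsg.Agent.S1335.pRankLE_of_injective p 2 Q.subtype Q.subtype_injective hr
  have hpowQ : ∀ g : ↥Q, g ^ p ∈ K.subgroupOf Q := by
    intro g
    rw [Subgroup.mem_subgroupOf]
    simpa using hpow g (hQH g.2)
  have hcommQ : ∀ a b : ↥Q, ⁅a, b⁆ ∈ K.subgroupOf Q := by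
    intro a b
    rw [Subgroup.mem_subgroupOf]
    exact hcomm a (hQH a.2) b (hQH b.2)
  have hidx : p ^ 3 ≤ (K.subgroupOf Q).index := by
    have h1 : (K.subgroupOf Q).index = K.relIndex Q := rfl
    rw [h1, ← Subgroup.relIndex_sup_right Q K, hQK, hn]
    exact Nat.pow_le_pow_right hpp.pos hn3
  obtain ⟨W, hW, hWK, hWtop⟩ :=
    Cfsg.Agent.Lib.Helper70.Blackburn5.rankR hp hQp hrQ (K.subgroupOf Q) hpowQ hcommQ hidx
  set X : Subgroup G := W.map Q.subtype with hX
  have hXmem : ∀ x : G, x ∈ X ↔ x ∈ Q ∧ x ^ p = 1 := by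
    intro x
    constructor
    · rintro ⟨w, hw, rfl⟩
      refine ⟨w.2, ?_⟩
      have := (hW w).mp hw
      have h2 := congrArg Subtype.val this
      simpa using h2
    · rintro ⟨hxQ, hxp⟩
      refine ⟨⟨x, hxQ⟩, (hW _).mpr ?_, rfl⟩
      apply Subtype.ext
      simpa using hxp
  have hXQ : X ≤ Q := fun x hx => ((hXmem x).mp hx).1
  have hLmem : ∀ c : G, c ∈ K ⊔ X ↔ ∃ k ∈ K, ∃ x ∈ X, c = k * x := by
    intro c
    rw [← SetLike.mem_coe, Subgroup.normal_mul, Set.mem_mul]
    constructor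
    · rintro ⟨k, hk, x, hx, rfl⟩
      exact ⟨k, hk, x, hx, rfl⟩
    · rintro ⟨k, hk, x, hx, rfl⟩
      exact ⟨k, hk, x, hx, rfl⟩
  have hLn : (K ⊔ X).Normal := by
    rw [← Subgroup.normalizer_eq_top_iff, eq_top_iff, ← hfr]
    apply sup_le
    · intro g hg
      apply Cfsg.Agent.S0639.mem_normalizer_of_conj
      intro c hc
      obtain ⟨k, hk, x, hx, rfl⟩ := (hLmem c).mp hc
      rw [hLmem]
      refine ⟨g * k * g⁻¹, ‹K.Normal›.conj_mem k hk g, g * x * g⁻¹, ?_, by group⟩
      rw [hXmem] at hx ⊢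
      refine ⟨(Subgroup.mem_normalizer_iff.mp hg x).mp hx.1, ?_⟩
      rw [conj_pow, hx.2, mul_one, mul_inv_cancel]
    · intro h hh
      apply Cfsg.Agent.S0639.mem_normalizer_of_conj
      intro c hc
      obtain ⟨k, hk, x, hx, rfl⟩ := (hLmem c).mp hc
      rw [hLmem]
      refine ⟨h * k * h⁻¹ * ⁅h, x⁆, ?_, x, hx, ?_⟩
      · exact mul_mem (‹K.Normal›.conj_mem k hk h) (hcomm h hh x (hQH (hXQ hx)))
      · rw [commutatorElement_def]; group
  rcases hchief (K ⊔ X) hLn le_sup_left (sup_le hKH.le (hXQ.trans hQH)) with h | h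
  · apply hWK
    intro w hw
    rw [Subgroup.mem_subgroupOf]
    have h1 : (w : G) ∈ X := ⟨w, hw, rfl⟩
    have h2 : (w : G) ∈ K ⊔ X := (le_sup_right : X ≤ K ⊔ X) h1
    rw [h] at h2
    exact h2
  · apply hWtop
    rw [eq_top_iff]
    intro q _
    have h1 : (q : G) ∈ K ⊔ X := by rw [h]; exact hQH q.2
    obtain ⟨k, hk, x, hx, hqkx⟩ := (hLmem _).mp h1
    have hxQ : x ∈ Q := hXQ hx
    have hkQ : k ∈ Q := by
      have : k = (q : G) * x⁻¹ := by rw [hqkx]; group
      rw [this]
      exact mul_mem q.2 (inv_mem hxQ)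
    have hq : q = (⟨k, hkQ⟩ : ↥Q) * ⟨x, hxQ⟩ := Subtype.ext hqkx
    rw [hq]
    apply mul_mem
    · apply (le_sup_right : K.subgroupOf Q ≤ W ⊔ K.subgroupOf Q)
      rw [Subgroup.mem_subgroupOf]; exact hk
    · apply (le_sup_left : W ≤ W ⊔ K.subgroupOf Q)
      rw [hW]
      apply Subtype.ext
      simpa using ((hXmem x).mp hx).2

/-- Let p be an odd prime and G a finite p-solvable group with no elementary abelian subgroup of order p³. Then every chief factor H/K of G (H, K normal in G with no normal subgroup of G strictly between them) whose order is a power of p has order p or p². -/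
theorem result {G : Type*} [Group G] [Finite G] {p : ℕ} [Fact p.Prime] (hp : p ≠ 2)
    (hG : Cfsg.IsPSolvable p G) (hr : Cfsg.PRankLE p 2 G)
    (H K : Subgroup G) [H.Normal] [K.Normal] (hKH : K < H) (hpow : ∃ n : ℕ, K.relIndex H = p ^ n)
    (hchief : ∀ L : Subgroup G, L.Normal → K ≤ L → L ≤ H → L = K ∨ L = H) :
    K.relIndex H = p ∨ K.relIndex H = p ^ 2 := by
  have _ := hG
  obtain ⟨n, hn⟩ := hpow
  have hn2 := main hp hr H K hKH n hn hchief
  have hn0 : n ≠ 0 := by
    rintro rfl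
    rw [pow_zero, Subgroup.relIndex_eq_one] at hn
    exact hKH.not_ge hn
  rw [hn]
  interval_cases n
  · exact absurd rfl hn0
  · left; exact pow_one p
  · right; rfl

end Cfsg.Agent.S1895
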