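import Cfsg.Statements.S1897
import Cfsg.Agent.S0255

set_option autoImplicit false
open Cfsg

namespace Cfsg.Agent.S1897

open Cfsg.Agent.S0255
open Matrix

/-! The group `P ≃ PSL(2,7)` of S0255 (168 explicit coset representatives) is mapped injectively
into `SU(3,3)`, realised over `F9 = F_3[i]`. -/

abbrev F9 := QuadraticAlgebra (ZMod 3) (-1) 0

instance hab : Fact (∀ r : ZMod 3, r ^ 2 ≠ -1 + 0 * r) := ⟨by decide⟩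

instance fintypeF9 : Fintype F9 :=
  Fintype.ofEquiv (ZMod 3 × ZMod 3) (QuadraticAlgebra.equivProd (-1) 0).symm

theorem card_F9 : Fintype.card F9 = 9 := by
  rw [Fintype.card_congr (QuadraticAlgebra.equivProd (-1 : ZMod 3) 0)]
  simp

abbrev S9 := Matrix.SpecialLinearGroup (Fin 3) F9

/-- The Gram condition: the columns are orthonormal for the Hermitian form. -/
def Gram {R : Type*} [CommRing R] (m : Matrix (Fin 3) (Fin 3) R) : Prop :=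
  m.transpose * m.map (fun a => a ^ 3) = 1

instance (m : Matrix (Fin 3) (Fin 3) F9) : Decidable (Gram m) := by
  unfold Gram; infer_instance

def gX : S9 := ⟨!![⟨0, 0⟩, ⟨0, 0⟩, ⟨0, 2⟩; ⟨0, 0⟩, ⟨2, 0⟩, ⟨0, 0⟩; ⟨0, 1⟩, ⟨0, 0⟩, ⟨0, 0⟩], by rw [Matrix.det_fin_three]; decide⟩
def gY : S9 := ⟨!![⟨0, 0⟩, ⟨1, 2⟩, ⟨2, 1⟩; ⟨1, 1⟩, ⟨2, 0⟩, ⟨2, 0⟩; ⟨1, 1⟩, ⟨1, 0⟩, ⟨1, 0⟩], by rw [Matrix.det_fin_three]; decide⟩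

theorem hX : Gram gX.1 := by decide
theorem hY : Gram gY.1 := by decide

theorem hX2 : gX ^ 2 = 1 := by decide
theorem hY3 : gY ^ 3 = 1 := by decide
theorem hXY7 : (gX * gY) ^ 7 = 1 := by decide
theorem hC4 : (gX * gY * gX * gY * gY) ^ 4 = 1 := by decide

def m_0 : S9 := ⟨!![⟨1, 0⟩, ⟨0, 0⟩, ⟨0, 0⟩; ⟨0, 0⟩, ⟨1, 0⟩, ⟨0, 0⟩; ⟨0, 0⟩, ⟨0, 0⟩, ⟨1, 0⟩], by rw [Matrix.det_fin_three]; decide⟩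
def m_1 : S9 := ⟨!![⟨0, 0⟩, ⟨0, 0⟩, ⟨0, 2⟩; ⟨0, 0⟩, ⟨2, 0⟩, ⟨0, 0⟩; ⟨0, 1⟩, ⟨0, 0⟩, ⟨0, 0⟩], by rw [Matrix.det_fin_three]; decide⟩
def m_2 : S9 := ⟨!![⟨0, 0⟩, ⟨1, 2⟩, ⟨2, 1⟩; ⟨1, 1⟩, ⟨2, 0⟩, ⟨2, 0⟩; ⟨1, 1⟩, ⟨1, 0⟩, ⟨1, 0⟩], by rw [Matrix.det_fin_three]; decide⟩
def m_3 : S9 := ⟨!![⟨1, 2⟩, ⟨0, 2⟩, ⟨0, 2⟩; ⟨2, 2⟩, ⟨1, 0⟩, ⟨1, 0⟩; ⟨0, 0⟩, ⟨1, 1⟩, ⟨2, 2⟩], by rw [Matrix.det_fin_three]; decide⟩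
def m_4 : S9 := ⟨!![⟨2, 2⟩, ⟨2, 1⟩, ⟨0, 0⟩; ⟨0, 2⟩, ⟨1, 0⟩, ⟨1, 2⟩; ⟨0, 1⟩, ⟨2, 0⟩, ⟨1, 2⟩], by rw [Matrix.det_fin_three]; decide⟩
def m_5 : S9 := ⟨!![⟨0, 0⟩, ⟨1, 2⟩, ⟨1, 2⟩; ⟨1, 1⟩, ⟨2, 0⟩, ⟨1, 0⟩; ⟨2, 2⟩, ⟨2, 0⟩, ⟨1, 0⟩], by rw [Matrix.det_fin_three]; decide⟩
def m_6 : S9 := ⟨!![⟨1, 0⟩, ⟨0, 1⟩, ⟨2, 2⟩; ⟨0, 1⟩, ⟨2, 0⟩, ⟨2, 1⟩; ⟨1, 2⟩, ⟨2, 2⟩, ⟨0, 0⟩], by rw [Matrix.det_fin_three]; decide⟩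
def m_7 : S9 := ⟨!![⟨2, 1⟩, ⟨0, 1⟩, ⟨0, 2⟩; ⟨2, 2⟩, ⟨1, 0⟩, ⟨2, 0⟩; ⟨0, 0⟩, ⟨1, 1⟩, ⟨1, 1⟩], by rw [Matrix.det_fin_three]; decide⟩
def m_8 : S9 := ⟨!![⟨1, 0⟩, ⟨2, 2⟩, ⟨0, 2⟩; ⟨0, 1⟩, ⟨2, 1⟩, ⟨1, 0⟩; ⟨1, 2⟩, ⟨0, 0⟩, ⟨1, 1⟩], by rw [Matrix.det_fin_three]; decide⟩
def m_9 : S9 := ⟨!![⟨1, 1⟩, ⟨2, 1⟩, ⟨0, 0⟩; ⟨0, 1⟩, ⟨1, 0⟩, ⟨1, 2⟩; ⟨0, 1⟩, ⟨1, 0⟩, ⟨2, 1⟩], by rw [Matrix.det_fin_three]; decide⟩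
def m_10 : S9 := ⟨!![⟨2, 2⟩, ⟨0, 0⟩, ⟨1, 2⟩; ⟨0, 2⟩, ⟨1, 2⟩, ⟨2, 0⟩; ⟨0, 1⟩, ⟨1, 2⟩, ⟨1, 0⟩], by rw [Matrix.det_fin_three]; decide⟩
def m_11 : S9 := ⟨!![⟨1, 0⟩, ⟨0, 2⟩, ⟨1, 1⟩; ⟨0, 2⟩, ⟨2, 0⟩, ⟨2, 1⟩; ⟨2, 1⟩, ⟨2, 2⟩, ⟨0, 0⟩], by rw [Matrix.det_fin_three]; decide⟩
def m_12 : S9 := ⟨!![⟨1, 0⟩, ⟨1, 1⟩, ⟨0, 2⟩; ⟨0, 1⟩, ⟨1, 2⟩, ⟨1, 0⟩; ⟨2, 1⟩, ⟨0, 0⟩, ⟨2, 2⟩], by rw [Matrix.det_fin_three]; decide⟩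
def m_13 : S9 := ⟨!![⟨1, 0⟩, ⟨2, 2⟩, ⟨0, 1⟩; ⟨2, 1⟩, ⟨0, 0⟩, ⟨1, 1⟩; ⟨0, 2⟩, ⟨1, 2⟩, ⟨1, 0⟩], by rw [Matrix.det_fin_three]; decide⟩
def m_14 : S9 := ⟨!![⟨1, 0⟩, ⟨0, 2⟩, ⟨2, 2⟩; ⟨0, 1⟩, ⟨1, 0⟩, ⟨2, 1⟩; ⟨2, 1⟩, ⟨2, 2⟩, ⟨0, 0⟩], by rw [Matrix.det_fin_three]; decide⟩
def m_15 : S9 := ⟨!![⟨1, 1⟩, ⟨0, 0⟩, ⟨2, 1⟩; ⟨0, 2⟩, ⟨2, 1⟩, ⟨2, 0⟩; ⟨0, 1⟩, ⟨2, 1⟩, ⟨1, 0⟩], by rw [Matrix.det_fin_three]; decide⟩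
def m_16 : S9 := ⟨!![⟨2, 0⟩, ⟨2, 2⟩, ⟨0, 2⟩; ⟨1, 2⟩, ⟨0, 0⟩, ⟨2, 2⟩; ⟨0, 1⟩, ⟨1, 2⟩, ⟨2, 0⟩], by rw [Matrix.det_fin_three]; decide⟩
def m_17 : S9 := ⟨!![⟨1, 1⟩, ⟨2, 1⟩, ⟨0, 0⟩; ⟨0, 2⟩, ⟨2, 0⟩, ⟨1, 2⟩; ⟨0, 1⟩, ⟨1, 0⟩, ⟨1, 2⟩], by rw [Matrix.det_fin_three]; decide⟩
def m_18 : S9 := ⟨!![⟨1, 1⟩, ⟨0, 0⟩, ⟨1, 2⟩; ⟨0, 1⟩, ⟨1, 2⟩, ⟨2, 0⟩; ⟨0, 1⟩, ⟨2, 1⟩, ⟨2, 0⟩], by rw [Matrix.det_fin_three]; decide⟩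
def m_19 : S9 := ⟨!![⟨2, 0⟩, ⟨1, 1⟩, ⟨0, 2⟩; ⟨2, 1⟩, ⟨0, 0⟩, ⟨1, 1⟩; ⟨0, 1⟩, ⟨2, 1⟩, ⟨2, 0⟩], by rw [Matrix.det_fin_three]; decide⟩
def m_20 : S9 := ⟨!![⟨1, 2⟩, ⟨0, 1⟩, ⟨0, 2⟩; ⟨2, 2⟩, ⟨2, 0⟩, ⟨1, 0⟩; ⟨0, 0⟩, ⟨1, 1⟩, ⟨1, 1⟩], by rw [Matrix.det_fin_three]; decide⟩
def m_21 : S9 := ⟨!![⟨1, 0⟩, ⟨0, 2⟩, ⟨1, 1⟩; ⟨2, 1⟩, ⟨2, 2⟩, ⟨0, 0⟩; ⟨0, 1⟩, ⟨1, 0⟩, ⟨1, 2⟩], by rw [Matrix.det_fin_three]; decide⟩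
def m_22 : S9 := ⟨!![⟨1, 0⟩, ⟨1, 1⟩, ⟨0, 1⟩; ⟨0, 2⟩, ⟨2, 1⟩, ⟨1, 0⟩; ⟨2, 1⟩, ⟨0, 0⟩, ⟨1, 1⟩], by rw [Matrix.det_fin_three]; decide⟩
def m_23 : S9 := ⟨!![⟨1, 0⟩, ⟨1, 1⟩, ⟨0, 1⟩; ⟨1, 2⟩, ⟨0, 0⟩, ⟨2, 2⟩; ⟨0, 2⟩, ⟨2, 1⟩, ⟨1, 0⟩], by rw [Matrix.det_fin_three]; decide⟩
def m_24 : S9 := ⟨!![⟨0, 0⟩, ⟨1, 2⟩, ⟨1, 2⟩; ⟨1, 1⟩, ⟨1, 0⟩, ⟨2, 0⟩; ⟨1, 1⟩, ⟨2, 0⟩, ⟨1, 0⟩], by rw [Matrix.det_fin_three]; decide⟩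
def m_25 : S9 := ⟨!![⟨1, 0⟩, ⟨0, 2⟩, ⟨2, 2⟩; ⟨1, 2⟩, ⟨1, 1⟩, ⟨0, 0⟩; ⟨0, 1⟩, ⟨1, 0⟩, ⟨2, 1⟩], by rw [Matrix.det_fin_three]; decide⟩
def m_26 : S9 := ⟨!![⟨1, 1⟩, ⟨0, 0⟩, ⟨1, 2⟩; ⟨0, 2⟩, ⟨2, 1⟩, ⟨1, 0⟩; ⟨0, 2⟩, ⟨1, 2⟩, ⟨1, 0⟩], by rw [Matrix.det_fin_three]; decide⟩
def m_27 : S9 := ⟨!![⟨2, 0⟩, ⟨0, 2⟩, ⟨2, 2⟩; ⟨1, 2⟩, ⟨2, 2⟩, ⟨0, 0⟩; ⟨0, 2⟩, ⟨1, 0⟩, ⟨2, 1⟩], by rw [Matrix.det_fin_three]; decide⟩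
def m_28 : S9 := ⟨!![⟨1, 1⟩, ⟨1, 2⟩, ⟨0, 0⟩; ⟨0, 2⟩, ⟨1, 0⟩, ⟨1, 2⟩; ⟨0, 2⟩, ⟨1, 0⟩, ⟨2, 1⟩], by rw [Matrix.det_fin_three]; decide⟩
def m_29 : S9 := ⟨!![⟨0, 0⟩, ⟨0, 2⟩, ⟨0, 0⟩; ⟨0, 0⟩, ⟨0, 0⟩, ⟨1, 0⟩; ⟨0, 1⟩, ⟨0, 0⟩, ⟨0, 0⟩], by rw [Matrix.det_fin_three]; decide⟩
def m_30 : S9 := ⟨!![⟨2, 1⟩, ⟨0, 1⟩, ⟨0, 2⟩; ⟨0, 0⟩, ⟨1, 1⟩, ⟨1, 1⟩; ⟨1, 1⟩, ⟨2, 0⟩, ⟨1, 0⟩], by rw [Matrix.det_fin_three]; decide⟩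
def m_31 : S9 := ⟨!![⟨2, 0⟩, ⟨2, 2⟩, ⟨0, 2⟩; ⟨0, 1⟩, ⟨1, 2⟩, ⟨2, 0⟩; ⟨2, 1⟩, ⟨0, 0⟩, ⟨1, 1⟩], by rw [Matrix.det_fin_three]; decide⟩
def m_32 : S9 := ⟨!![⟨2, 0⟩, ⟨0, 2⟩, ⟨1, 1⟩; ⟨2, 1⟩, ⟨1, 1⟩, ⟨0, 0⟩; ⟨0, 2⟩, ⟨1, 0⟩, ⟨1, 2⟩], by rw [Matrix.det_fin_three]; decide⟩
def m_33 : S9 := ⟨!![⟨2, 0⟩, ⟨0, 2⟩, ⟨1, 1⟩; ⟨0, 1⟩, ⟨2, 0⟩, ⟨2, 1⟩; ⟨2, 1⟩, ⟨1, 1⟩, ⟨0, 0⟩], by rw [Matrix.det_fin_three]; decide⟩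
def m_34 : S9 := ⟨!![⟨1, 0⟩, ⟨0, 0⟩, ⟨0, 0⟩; ⟨0, 0⟩, ⟨0, 0⟩, ⟨2, 0⟩; ⟨0, 0⟩, ⟨1, 0⟩, ⟨0, 0⟩], by rw [Matrix.det_fin_three]; decide⟩
def m_35 : S9 := ⟨!![⟨1, 2⟩, ⟨0, 1⟩, ⟨0, 2⟩; ⟨0, 0⟩, ⟨2, 2⟩, ⟨2, 2⟩; ⟨2, 2⟩, ⟨2, 0⟩, ⟨1, 0⟩], by rw [Matrix.det_fin_three]; decide⟩
def m_36 : S9 := ⟨!![⟨2, 0⟩, ⟨0, 2⟩, ⟨2, 2⟩; ⟨2, 1⟩, ⟨1, 1⟩, ⟨0, 0⟩; ⟨0, 1⟩, ⟨2, 0⟩, ⟨1, 2⟩], by rw [Matrix.det_fin_three]; decide⟩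
def m_37 : S9 := ⟨!![⟨1, 2⟩, ⟨0, 1⟩, ⟨0, 1⟩; ⟨0, 0⟩, ⟨1, 1⟩, ⟨2, 2⟩; ⟨2, 2⟩, ⟨2, 0⟩, ⟨2, 0⟩], by rw [Matrix.det_fin_three]; decide⟩
def m_38 : S9 := ⟨!![⟨0, 0⟩, ⟨2, 1⟩, ⟨1, 2⟩; ⟨1, 1⟩, ⟨2, 0⟩, ⟨2, 0⟩; ⟨2, 2⟩, ⟨2, 0⟩, ⟨2, 0⟩], by rw [Matrix.det_fin_three]; decide⟩
def m_39 : S9 := ⟨!![⟨2, 0⟩, ⟨1, 1⟩, ⟨0, 1⟩; ⟨0, 1⟩, ⟨2, 1⟩, ⟨1, 0⟩; ⟨2, 1⟩, ⟨0, 0⟩, ⟨2, 2⟩], by rw [Matrix.det_fin_three]; decide⟩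
def m_40 : S9 := ⟨!![⟨0, 0⟩, ⟨0, 1⟩, ⟨0, 0⟩; ⟨0, 1⟩, ⟨0, 0⟩, ⟨0, 0⟩; ⟨0, 0⟩, ⟨0, 0⟩, ⟨1, 0⟩], by rw [Matrix.det_fin_three]; decide⟩
def m_41 : S9 := ⟨!![⟨1, 2⟩, ⟨0, 1⟩, ⟨0, 1⟩; ⟨1, 1⟩, ⟨1, 0⟩, ⟨1, 0⟩; ⟨0, 0⟩, ⟨1, 1⟩, ⟨2, 2⟩], by rw [Matrix.det_fin_three]; decide⟩
def m_42 : S9 := ⟨!![⟨0, 0⟩, ⟨0, 0⟩, ⟨0, 2⟩; ⟨0, 1⟩, ⟨0, 0⟩, ⟨0, 0⟩; ⟨0, 0⟩, ⟨1, 0⟩, ⟨0, 0⟩], by rw [Matrix.det_fin_three]; decide⟩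
def m_43 : S9 := ⟨!![⟨1, 0⟩, ⟨0, 1⟩, ⟨2, 2⟩; ⟨1, 2⟩, ⟨2, 2⟩, ⟨0, 0⟩; ⟨0, 2⟩, ⟨1, 0⟩, ⟨1, 2⟩], by rw [Matrix.det_fin_three]; decide⟩
def m_44 : S9 := ⟨!![⟨2, 1⟩, ⟨0, 1⟩, ⟨0, 1⟩; ⟨0, 0⟩, ⟨2, 2⟩, ⟨1, 1⟩; ⟨1, 1⟩, ⟨2, 0⟩, ⟨2, 0⟩], by rw [Matrix.det_fin_three]; decide⟩
def m_45 : S9 := ⟨!![⟨2, 1⟩, ⟨0, 1⟩, ⟨0, 1⟩; ⟨2, 2⟩, ⟨1, 0⟩, ⟨1, 0⟩; ⟨0, 0⟩, ⟨2, 2⟩, ⟨1, 1⟩], by rw [Matrix.det_fin_three]; decide⟩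
def m_46 : S9 := ⟨!![⟨1, 1⟩, ⟨0, 0⟩, ⟨2, 1⟩; ⟨0, 2⟩, ⟨1, 2⟩, ⟨2, 0⟩; ⟨0, 2⟩, ⟨2, 1⟩, ⟨2, 0⟩], by rw [Matrix.det_fin_three]; decide⟩
def m_47 : S9 := ⟨!![⟨0, 0⟩, ⟨0, 0⟩, ⟨0, 2⟩; ⟨0, 2⟩, ⟨0, 0⟩, ⟨0, 0⟩; ⟨0, 0⟩, ⟨2, 0⟩, ⟨0, 0⟩], by rw [Matrix.det_fin_three]; decide⟩
def m_48 : S9 := ⟨!![⟨0, 0⟩, ⟨1, 2⟩, ⟨2, 1⟩; ⟨2, 2⟩, ⟨2, 0⟩, ⟨2, 0⟩; ⟨1, 1⟩, ⟨2, 0⟩, ⟨2, 0⟩], by rw [Matrix.det_fin_three]; decide⟩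
def m_49 : S9 := ⟨!![⟨0, 0⟩, ⟨0, 2⟩, ⟨0, 0⟩; ⟨0, 2⟩, ⟨0, 0⟩, ⟨0, 0⟩; ⟨0, 0⟩, ⟨0, 0⟩, ⟨1, 0⟩], by rw [Matrix.det_fin_three]; decide⟩
def m_50 : S9 := ⟨!![⟨1, 2⟩, ⟨0, 1⟩, ⟨0, 1⟩; ⟨0, 0⟩, ⟨2, 2⟩, ⟨1, 1⟩; ⟨1, 1⟩, ⟨1, 0⟩, ⟨1, 0⟩], by rw [Matrix.det_fin_three]; decide⟩
def m_51 : S9 := ⟨!![⟨1, 0⟩, ⟨1, 1⟩, ⟨0, 2⟩; ⟨0, 2⟩, ⟨2, 1⟩, ⟨2, 0⟩; ⟨1, 2⟩, ⟨0, 0⟩, ⟨1, 1⟩], by rw [Matrix.det_fin_three]; decide⟩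
def m_52 : S9 := ⟨!![⟨1, 2⟩, ⟨0, 1⟩, ⟨0, 2⟩; ⟨0, 0⟩, ⟨1, 1⟩, ⟨1, 1⟩; ⟨1, 1⟩, ⟨1, 0⟩, ⟨2, 0⟩], by rw [Matrix.det_fin_three]; decide⟩
def m_53 : S9 := ⟨!![⟨0, 0⟩, ⟨2, 1⟩, ⟨2, 1⟩; ⟨1, 1⟩, ⟨2, 0⟩, ⟨1, 0⟩; ⟨1, 1⟩, ⟨1, 0⟩, ⟨2, 0⟩], by rw [Matrix.det_fin_three]; decide⟩
def m_54 : S9 := ⟨!![⟨2, 0⟩, ⟨2, 2⟩, ⟨0, 1⟩; ⟨0, 1⟩, ⟨1, 2⟩, ⟨1, 0⟩; ⟨1, 2⟩, ⟨0, 0⟩, ⟨1, 1⟩], by rw [Matrix.det_fin_three]; decide⟩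
def m_55 : S9 := ⟨!![⟨2, 1⟩, ⟨0, 2⟩, ⟨0, 2⟩; ⟨0, 0⟩, ⟨1, 1⟩, ⟨2, 2⟩; ⟨1, 1⟩, ⟨1, 0⟩, ⟨1, 0⟩], by rw [Matrix.det_fin_three]; decide⟩
def m_56 : S9 := ⟨!![⟨2, 0⟩, ⟨0, 2⟩, ⟨2, 2⟩; ⟨0, 1⟩, ⟨2, 0⟩, ⟨1, 2⟩; ⟨1, 2⟩, ⟨2, 2⟩, ⟨0, 0⟩], by rw [Matrix.det_fin_three]; decide⟩
def m_57 : S9 := ⟨!![⟨1, 0⟩, ⟨0, 0⟩, ⟨0, 0⟩; ⟨0, 0⟩, ⟨0, 0⟩, ⟨1, 0⟩; ⟨0, 0⟩, ⟨2, 0⟩, ⟨0, 0⟩], by rw [Matrix.det_fin_three]; decide⟩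
def m_58 : S9 := ⟨!![⟨1, 2⟩, ⟨0, 2⟩, ⟨0, 2⟩; ⟨0, 0⟩, ⟨1, 1⟩, ⟨2, 2⟩; ⟨1, 1⟩, ⟨2, 0⟩, ⟨2, 0⟩], by rw [Matrix.det_fin_three]; decide⟩
def m_59 : S9 := ⟨!![⟨2, 2⟩, ⟨0, 0⟩, ⟨1, 2⟩; ⟨0, 1⟩, ⟨1, 2⟩, ⟨1, 0⟩; ⟨0, 1⟩, ⟨2, 1⟩, ⟨1, 0⟩], by rw [Matrix.det_fin_three]; decide⟩
def m_60 : S9 := ⟨!![⟨1, 2⟩, ⟨0, 2⟩, ⟨0, 1⟩; ⟨0, 0⟩, ⟨2, 2⟩, ⟨2, 2⟩; ⟨1, 1⟩, ⟨2, 0⟩, ⟨1, 0⟩], by rw [Matrix.det_fin_three]; decide⟩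
def m_61 : S9 := ⟨!![⟨1, 2⟩, ⟨0, 2⟩, ⟨0, 1⟩; ⟨2, 2⟩, ⟨1, 0⟩, ⟨2, 0⟩; ⟨0, 0⟩, ⟨2, 2⟩, ⟨2, 2⟩], by rw [Matrix.det_fin_three]; decide⟩
def m_62 : S9 := ⟨!![⟨2, 2⟩, ⟨0, 0⟩, ⟨1, 2⟩; ⟨0, 2⟩, ⟨2, 1⟩, ⟨2, 0⟩; ⟨0, 2⟩, ⟨1, 2⟩, ⟨2, 0⟩], by rw [Matrix.det_fin_three]; decide⟩
def m_63 : S9 := ⟨!![⟨1, 2⟩, ⟨0, 2⟩, ⟨0, 2⟩; ⟨0, 0⟩, ⟨2, 2⟩, ⟨1, 1⟩; ⟨2, 2⟩, ⟨1, 0⟩, ⟨1, 0⟩], by rw [Matrix.det_fin_three]; decide⟩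
def m_64 : S9 := ⟨!![⟨2, 2⟩, ⟨2, 1⟩, ⟨0, 0⟩; ⟨0, 2⟩, ⟨1, 0⟩, ⟨2, 1⟩; ⟨0, 2⟩, ⟨1, 0⟩, ⟨1, 2⟩], by rw [Matrix.det_fin_three]; decide⟩
def m_65 : S9 := ⟨!![⟨0, 0⟩, ⟨0, 1⟩, ⟨0, 0⟩; ⟨0, 0⟩, ⟨0, 0⟩, ⟨2, 0⟩; ⟨0, 1⟩, ⟨0, 0⟩, ⟨0, 0⟩], by rw [Matrix.det_fin_three]; decide⟩
def m_66 : S9 := ⟨!![⟨1, 0⟩, ⟨2, 2⟩, ⟨0, 2⟩; ⟨0, 2⟩, ⟨1, 2⟩, ⟨2, 0⟩; ⟨2, 1⟩, ⟨0, 0⟩, ⟨2, 2⟩], by rw [Matrix.det_fin_three]; decide⟩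
def m_67 : S9 := ⟨!![⟨1, 0⟩, ⟨0, 2⟩, ⟨2, 2⟩; ⟨2, 1⟩, ⟨2, 2⟩, ⟨0, 0⟩; ⟨0, 2⟩, ⟨2, 0⟩, ⟨1, 2⟩], by rw [Matrix.det_fin_three]; decide⟩
def m_68 : S9 := ⟨!![⟨0, 0⟩, ⟨0, 2⟩, ⟨0, 0⟩; ⟨0, 1⟩, ⟨0, 0⟩, ⟨0, 0⟩; ⟨0, 0⟩, ⟨0, 0⟩, ⟨2, 0⟩], by rw [Matrix.det_fin_three]; decide⟩
def m_69 : S9 := ⟨!![⟨2, 2⟩, ⟨1, 2⟩, ⟨0, 0⟩; ⟨0, 1⟩, ⟨1, 0⟩, ⟨1, 2⟩; ⟨0, 2⟩, ⟨2, 0⟩, ⟨1, 2⟩], by rw [Matrix.det_fin_three]; decide⟩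
def m_70 : S9 := ⟨!![⟨2, 0⟩, ⟨0, 0⟩, ⟨0, 0⟩; ⟨0, 0⟩, ⟨1, 0⟩, ⟨0, 0⟩; ⟨0, 0⟩, ⟨0, 0⟩, ⟨2, 0⟩], by rw [Matrix.det_fin_three]; decide⟩
def m_71 : S9 := ⟨!![⟨2, 2⟩, ⟨0, 0⟩, ⟨2, 1⟩; ⟨0, 1⟩, ⟨1, 2⟩, ⟨2, 0⟩; ⟨0, 2⟩, ⟨1, 2⟩, ⟨1, 0⟩], by rw [Matrix.det_fin_three]; decide⟩
def m_72 : S9 := ⟨!![⟨1, 0⟩, ⟨0, 1⟩, ⟨1, 1⟩; ⟨1, 2⟩, ⟨2, 2⟩, ⟨0, 0⟩; ⟨0, 1⟩, ⟨2, 0⟩, ⟨1, 2⟩], by rw [Matrix.det_fin_three]; decide⟩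
def m_73 : S9 := ⟨!![⟨2, 1⟩, ⟨0, 2⟩, ⟨0, 1⟩; ⟨0, 0⟩, ⟨1, 1⟩, ⟨1, 1⟩; ⟨2, 2⟩, ⟨2, 0⟩, ⟨1, 0⟩], by rw [Matrix.det_fin_three]; decide⟩
def m_74 : S9 := ⟨!![⟨1, 0⟩, ⟨1, 1⟩, ⟨0, 2⟩; ⟨1, 2⟩, ⟨0, 0⟩, ⟨1, 1⟩; ⟨0, 1⟩, ⟨1, 2⟩, ⟨1, 0⟩], by rw [Matrix.det_fin_three]; decide⟩
def m_75 : S9 := ⟨!![⟨0, 0⟩, ⟨1, 2⟩, ⟨2, 1⟩; ⟨1, 1⟩, ⟨1, 0⟩, ⟨1, 0⟩; ⟨2, 2⟩, ⟨1, 0⟩, ⟨1, 0⟩], by rw [Matrix.det_fin_three]; decide⟩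
def m_76 : S9 := ⟨!![⟨1, 1⟩, ⟨0, 0⟩, ⟨2, 1⟩; ⟨0, 1⟩, ⟨2, 1⟩, ⟨1, 0⟩; ⟨0, 1⟩, ⟨1, 2⟩, ⟨1, 0⟩], by rw [Matrix.det_fin_three]; decide⟩
def m_77 : S9 := ⟨!![⟨2, 0⟩, ⟨0, 1⟩, ⟨2, 2⟩; ⟨1, 2⟩, ⟨1, 1⟩, ⟨0, 0⟩; ⟨0, 1⟩, ⟨1, 0⟩, ⟨1, 2⟩], by rw [Matrix.det_fin_three]; decide⟩
def m_78 : S9 := ⟨!![⟨0, 0⟩, ⟨0, 0⟩, ⟨0, 1⟩; ⟨0, 2⟩, ⟨0, 0⟩, ⟨0, 0⟩; ⟨0, 0⟩, ⟨1, 0⟩, ⟨0, 0⟩], by rw [Matrix.det_fin_three]; decide⟩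
def m_79 : S9 := ⟨!![⟨2, 0⟩, ⟨0, 1⟩, ⟨2, 2⟩; ⟨0, 2⟩, ⟨2, 0⟩, ⟨2, 1⟩; ⟨1, 2⟩, ⟨1, 1⟩, ⟨0, 0⟩], by rw [Matrix.det_fin_three]; decide⟩
def m_80 : S9 := ⟨!![⟨0, 0⟩, ⟨0, 0⟩, ⟨0, 1⟩; ⟨0, 0⟩, ⟨2, 0⟩, ⟨0, 0⟩; ⟨0, 2⟩, ⟨0, 0⟩, ⟨0, 0⟩], by rw [Matrix.det_fin_three]; decide⟩
def m_81 : S9 := ⟨!![⟨2, 0⟩, ⟨2, 2⟩, ⟨0, 2⟩; ⟨0, 2⟩, ⟨2, 1⟩, ⟨1, 0⟩; ⟨1, 2⟩, ⟨0, 0⟩, ⟨2, 2⟩], by rw [Matrix.det_fin_three]; decide⟩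
def m_82 : S9 := ⟨!![⟨1, 0⟩, ⟨0, 1⟩, ⟨2, 2⟩; ⟨2, 1⟩, ⟨1, 1⟩, ⟨0, 0⟩; ⟨0, 1⟩, ⟨2, 0⟩, ⟨2, 1⟩], by rw [Matrix.det_fin_three]; decide⟩
def m_83 : S9 := ⟨!![⟨2, 1⟩, ⟨0, 1⟩, ⟨0, 2⟩; ⟨0, 0⟩, ⟨2, 2⟩, ⟨2, 2⟩; ⟨2, 2⟩, ⟨1, 0⟩, ⟨2, 0⟩], by rw [Matrix.det_fin_three]; decide⟩
def m_84 : S9 := ⟨!![⟨1, 0⟩, ⟨2, 2⟩, ⟨0, 2⟩; ⟨2, 1⟩, ⟨0, 0⟩, ⟨2, 2⟩; ⟨0, 1⟩, ⟨2, 1⟩, ⟨1, 0⟩], by rw [Matrix.det_fin_three]; decide⟩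
def m_85 : S9 := ⟨!![⟨2, 1⟩, ⟨0, 2⟩, ⟨0, 2⟩; ⟨2, 2⟩, ⟨2, 0⟩, ⟨2, 0⟩; ⟨0, 0⟩, ⟨1, 1⟩, ⟨2, 2⟩], by rw [Matrix.det_fin_three]; decide⟩
def m_86 : S9 := ⟨!![⟨1, 0⟩, ⟨2, 2⟩, ⟨0, 1⟩; ⟨1, 2⟩, ⟨0, 0⟩, ⟨2, 2⟩; ⟨0, 1⟩, ⟨2, 1⟩, ⟨2, 0⟩], by rw [Matrix.det_fin_three]; decide⟩
def m_87 : S9 := ⟨!![⟨1, 0⟩, ⟨0, 2⟩, ⟨1, 1⟩; ⟨0, 1⟩, ⟨1, 0⟩, ⟨1, 2⟩; ⟨1, 2⟩, ⟨1, 1⟩, ⟨0, 0⟩], by rw [Matrix.det_fin_three]; decide⟩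
def m_88 : S9 := ⟨!![⟨0, 0⟩, ⟨0, 1⟩, ⟨0, 0⟩; ⟨0, 0⟩, ⟨0, 0⟩, ⟨1, 0⟩; ⟨0, 2⟩, ⟨0, 0⟩, ⟨0, 0⟩], by rw [Matrix.det_fin_three]; decide⟩
def m_89 : S9 := ⟨!![⟨2, 0⟩, ⟨0, 1⟩, ⟨1, 1⟩; ⟨0, 1⟩, ⟨1, 0⟩, ⟨2, 1⟩; ⟨1, 2⟩, ⟨1, 1⟩, ⟨0, 0⟩], by rw [Matrix.det_fin_three]; decide⟩
def m_90 : S9 := ⟨!![⟨2, 2⟩, ⟨0, 0⟩, ⟨2, 1⟩; ⟨0, 2⟩, ⟨2, 1⟩, ⟨1, 0⟩; ⟨0, 1⟩, ⟨2, 1⟩, ⟨2, 0⟩], by rw [Matrix.det_fin_three]; decide⟩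
def m_91 : S9 := ⟨!![⟨2, 0⟩, ⟨0, 1⟩, ⟨1, 1⟩; ⟨2, 1⟩, ⟨2, 2⟩, ⟨0, 0⟩; ⟨0, 1⟩, ⟨1, 0⟩, ⟨2, 1⟩], by rw [Matrix.det_fin_three]; decide⟩
def m_92 : S9 := ⟨!![⟨1, 1⟩, ⟨0, 0⟩, ⟨1, 2⟩; ⟨0, 2⟩, ⟨1, 2⟩, ⟨1, 0⟩; ⟨0, 1⟩, ⟨1, 2⟩, ⟨2, 0⟩], by rw [Matrix.det_fin_three]; decide⟩
def m_93 : S9 := ⟨!![⟨2, 2⟩, ⟨2, 1⟩, ⟨0, 0⟩; ⟨0, 1⟩, ⟨2, 0⟩, ⟨1, 2⟩; ⟨0, 1⟩, ⟨2, 0⟩, ⟨2, 1⟩], by rw [Matrix.det_fin_three]; decide⟩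
def m_94 : S9 := ⟨!![⟨0, 0⟩, ⟨1, 2⟩, ⟨1, 2⟩; ⟨2, 2⟩, ⟨2, 0⟩, ⟨1, 0⟩; ⟨2, 2⟩, ⟨1, 0⟩, ⟨2, 0⟩], by rw [Matrix.det_fin_three]; decide⟩
def m_95 : S9 := ⟨!![⟨1, 0⟩, ⟨1, 1⟩, ⟨0, 1⟩; ⟨2, 1⟩, ⟨0, 0⟩, ⟨1, 1⟩; ⟨0, 1⟩, ⟨1, 2⟩, ⟨2, 0⟩], by rw [Matrix.det_fin_three]; decide⟩
def m_96 : S9 := ⟨!![⟨2, 2⟩, ⟨1, 2⟩, ⟨0, 0⟩; ⟨0, 2⟩, ⟨2, 0⟩, ⟨2, 1⟩; ⟨0, 1⟩, ⟨1, 0⟩, ⟨2, 1⟩], by rw [Matrix.det_fin_three]; decide⟩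
def m_97 : S9 := ⟨!![⟨2, 0⟩, ⟨0, 0⟩, ⟨0, 0⟩; ⟨0, 0⟩, ⟨0, 0⟩, ⟨2, 0⟩; ⟨0, 0⟩, ⟨2, 0⟩, ⟨0, 0⟩], by rw [Matrix.det_fin_three]; decide⟩
def m_98 : S9 := ⟨!![⟨2, 2⟩, ⟨1, 2⟩, ⟨0, 0⟩; ⟨0, 2⟩, ⟨2, 0⟩, ⟨1, 2⟩; ⟨0, 2⟩, ⟨2, 0⟩, ⟨2, 1⟩], by rw [Matrix.det_fin_three]; decide⟩
def m_99 : S9 := ⟨!![⟨1, 0⟩, ⟨1, 1⟩, ⟨0, 1⟩; ⟨0, 1⟩, ⟨1, 2⟩, ⟨2, 0⟩; ⟨1, 2⟩, ⟨0, 0⟩, ⟨2, 2⟩], by rw [Matrix.det_fin_three]; decide⟩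
def m_100 : S9 := ⟨!![⟨1, 0⟩, ⟨0, 2⟩, ⟨1, 1⟩; ⟨1, 2⟩, ⟨1, 1⟩, ⟨0, 0⟩; ⟨0, 2⟩, ⟨2, 0⟩, ⟨2, 1⟩], by rw [Matrix.det_fin_three]; decide⟩
def m_101 : S9 := ⟨!![⟨1, 0⟩, ⟨2, 2⟩, ⟨0, 1⟩; ⟨0, 1⟩, ⟨2, 1⟩, ⟨2, 0⟩; ⟨2, 1⟩, ⟨0, 0⟩, ⟨1, 1⟩], by rw [Matrix.det_fin_three]; decide⟩
def m_102 : S9 := ⟨!![⟨1, 0⟩, ⟨0, 1⟩, ⟨1, 1⟩; ⟨0, 2⟩, ⟨1, 0⟩, ⟨2, 1⟩; ⟨1, 2⟩, ⟨2, 2⟩, ⟨0, 0⟩], by rw [Matrix.det_fin_three]; decide⟩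
def m_103 : S9 := ⟨!![⟨2, 1⟩, ⟨0, 2⟩, ⟨0, 1⟩; ⟨1, 1⟩, ⟨1, 0⟩, ⟨2, 0⟩; ⟨0, 0⟩, ⟨1, 1⟩, ⟨1, 1⟩], by rw [Matrix.det_fin_three]; decide⟩
def m_104 : S9 := ⟨!![⟨2, 0⟩, ⟨1, 1⟩, ⟨0, 2⟩; ⟨1, 2⟩, ⟨0, 0⟩, ⟨2, 2⟩; ⟨0, 2⟩, ⟨1, 2⟩, ⟨1, 0⟩], by rw [Matrix.det_fin_three]; decide⟩
def m_105 : S9 := ⟨!![⟨2, 2⟩, ⟨2, 1⟩, ⟨0, 0⟩; ⟨0, 1⟩, ⟨2, 0⟩, ⟨2, 1⟩; ⟨0, 2⟩, ⟨1, 0⟩, ⟨2, 1⟩], by rw [Matrix.det_fin_three]; decide⟩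
def m_106 : S9 := ⟨!![⟨2, 1⟩, ⟨0, 1⟩, ⟨0, 2⟩; ⟨1, 1⟩, ⟨2, 0⟩, ⟨1, 0⟩; ⟨0, 0⟩, ⟨2, 2⟩, ⟨2, 2⟩], by rw [Matrix.det_fin_three]; decide⟩
def m_107 : S9 := ⟨!![⟨1, 1⟩, ⟨2, 1⟩, ⟨0, 0⟩; ⟨0, 1⟩, ⟨1, 0⟩, ⟨2, 1⟩; ⟨0, 2⟩, ⟨2, 0⟩, ⟨2, 1⟩], by rw [Matrix.det_fin_three]; decide⟩
def m_108 : S9 := ⟨!![⟨2, 1⟩, ⟨0, 2⟩, ⟨0, 2⟩; ⟨1, 1⟩, ⟨1, 0⟩, ⟨1, 0⟩; ⟨0, 0⟩, ⟨2, 2⟩, ⟨1, 1⟩], by rw [Matrix.det_fin_three]; decide⟩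
def m_109 : S9 := ⟨!![⟨2, 1⟩, ⟨0, 2⟩, ⟨0, 1⟩; ⟨2, 2⟩, ⟨2, 0⟩, ⟨1, 0⟩; ⟨0, 0⟩, ⟨2, 2⟩, ⟨2, 2⟩], by rw [Matrix.det_fin_three]; decide⟩
def m_110 : S9 := ⟨!![⟨2, 0⟩, ⟨0, 1⟩, ⟨2, 2⟩; ⟨2, 1⟩, ⟨2, 2⟩, ⟨0, 0⟩; ⟨0, 2⟩, ⟨2, 0⟩, ⟨2, 1⟩], by rw [Matrix.det_fin_three]; decide⟩
def m_111 : S9 := ⟨!![⟨1, 0⟩, ⟨0, 1⟩, ⟨1, 1⟩; ⟨2, 1⟩, ⟨1, 1⟩, ⟨0, 0⟩; ⟨0, 2⟩, ⟨1, 0⟩, ⟨2, 1⟩], by rw [Matrix.det_fin_three]; decide⟩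
def m_112 : S9 := ⟨!![⟨2, 0⟩, ⟨0, 1⟩, ⟨2, 2⟩; ⟨0, 1⟩, ⟨1, 0⟩, ⟨1, 2⟩; ⟨2, 1⟩, ⟨2, 2⟩, ⟨0, 0⟩], by rw [Matrix.det_fin_three]; decide⟩
def m_113 : S9 := ⟨!![⟨1, 1⟩, ⟨0, 0⟩, ⟨1, 2⟩; ⟨0, 1⟩, ⟨2, 1⟩, ⟨2, 0⟩; ⟨0, 2⟩, ⟨2, 1⟩, ⟨1, 0⟩], by rw [Matrix.det_fin_three]; decide⟩
def m_114 : S9 := ⟨!![⟨1, 0⟩, ⟨2, 2⟩, ⟨0, 2⟩; ⟨1, 2⟩, ⟨0, 0⟩, ⟨1, 1⟩; ⟨0, 2⟩, ⟨1, 2⟩, ⟨2, 0⟩], by rw [Matrix.det_fin_three]; decide⟩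
def m_115 : S9 := ⟨!![⟨2, 0⟩, ⟨2, 2⟩, ⟨0, 2⟩; ⟨2, 1⟩, ⟨0, 0⟩, ⟨1, 1⟩; ⟨0, 2⟩, ⟨2, 1⟩, ⟨1, 0⟩], by rw [Matrix.det_fin_three]; decide⟩
def m_116 : S9 := ⟨!![⟨2, 0⟩, ⟨0, 2⟩, ⟨1, 1⟩; ⟨0, 2⟩, ⟨1, 0⟩, ⟨1, 2⟩; ⟨1, 2⟩, ⟨2, 2⟩, ⟨0, 0⟩], by rw [Matrix.det_fin_three]; decide⟩
def m_117 : S9 := ⟨!![⟨0, 0⟩, ⟨2, 1⟩, ⟨2, 1⟩; ⟨2, 2⟩, ⟨1, 0⟩, ⟨2, 0⟩; ⟨2, 2⟩, ⟨2, 0⟩, ⟨1, 0⟩], by rw [Matrix.det_fin_three]; decide⟩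
def m_118 : S9 := ⟨!![⟨2, 0⟩, ⟨0, 1⟩, ⟨1, 1⟩; ⟨0, 2⟩, ⟨2, 0⟩, ⟨1, 2⟩; ⟨2, 1⟩, ⟨2, 2⟩, ⟨0, 0⟩], by rw [Matrix.det_fin_three]; decide⟩
def m_119 : S9 := ⟨!![⟨0, 0⟩, ⟨2, 1⟩, ⟨1, 2⟩; ⟨2, 2⟩, ⟨2, 0⟩, ⟨2, 0⟩; ⟨2, 2⟩, ⟨1, 0⟩, ⟨1, 0⟩], by rw [Matrix.det_fin_three]; decide⟩
def m_120 : S9 := ⟨!![⟨0, 0⟩, ⟨2, 1⟩, ⟨2, 1⟩; ⟨1, 1⟩, ⟨1, 0⟩, ⟨2, 0⟩; ⟨2, 2⟩, ⟨1, 0⟩, ⟨2, 0⟩], by rw [Matrix.det_fin_three]; decide⟩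
def m_121 : S9 := ⟨!![⟨2, 0⟩, ⟨0, 1⟩, ⟨1, 1⟩; ⟨1, 2⟩, ⟨1, 1⟩, ⟨0, 0⟩; ⟨0, 2⟩, ⟨2, 0⟩, ⟨1, 2⟩], by rw [Matrix.det_fin_three]; decide⟩
def m_122 : S9 := ⟨!![⟨2, 0⟩, ⟨0, 2⟩, ⟨1, 1⟩; ⟨1, 2⟩, ⟨2, 2⟩, ⟨0, 0⟩; ⟨0, 1⟩, ⟨2, 0⟩, ⟨2, 1⟩], by rw [Matrix.det_fin_three]; decide⟩
def m_123 : S9 := ⟨!![⟨1, 1⟩, ⟨2, 1⟩, ⟨0, 0⟩; ⟨0, 2⟩, ⟨2, 0⟩, ⟨2, 1⟩; ⟨0, 2⟩, ⟨2, 0⟩, ⟨1, 2⟩], by rw [Matrix.det_fin_three]; decide⟩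
def m_124 : S9 := ⟨!![⟨2, 0⟩, ⟨1, 1⟩, ⟨0, 2⟩; ⟨0, 2⟩, ⟨1, 2⟩, ⟨1, 0⟩; ⟨2, 1⟩, ⟨0, 0⟩, ⟨1, 1⟩], by rw [Matrix.det_fin_three]; decide⟩
def m_125 : S9 := ⟨!![⟨2, 0⟩, ⟨2, 2⟩, ⟨0, 1⟩; ⟨2, 1⟩, ⟨0, 0⟩, ⟨2, 2⟩; ⟨0, 1⟩, ⟨1, 2⟩, ⟨1, 0⟩], by rw [Matrix.det_fin_three]; decide⟩
def m_126 : S9 := ⟨!![⟨1, 1⟩, ⟨1, 2⟩, ⟨0, 0⟩; ⟨0, 1⟩, ⟨2, 0⟩, ⟨2, 1⟩; ⟨0, 1⟩, ⟨2, 0⟩, ⟨1, 2⟩], by rw [Matrix.det_fin_three]; decide⟩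
def m_127 : S9 := ⟨!![⟨0, 0⟩, ⟨1, 2⟩, ⟨2, 1⟩; ⟨2, 2⟩, ⟨1, 0⟩, ⟨1, 0⟩; ⟨2, 2⟩, ⟨2, 0⟩, ⟨2, 0⟩], by rw [Matrix.det_fin_three]; decide⟩
def m_128 : S9 := ⟨!![⟨0, 0⟩, ⟨0, 0⟩, ⟨0, 2⟩; ⟨0, 0⟩, ⟨1, 0⟩, ⟨0, 0⟩; ⟨0, 2⟩, ⟨0, 0⟩, ⟨0, 0⟩], by rw [Matrix.det_fin_three]; decide⟩
def m_129 : S9 := ⟨!![⟨1, 0⟩, ⟨0, 1⟩, ⟨1, 1⟩; ⟨0, 1⟩, ⟨2, 0⟩, ⟨1, 2⟩; ⟨2, 1⟩, ⟨1, 1⟩, ⟨0, 0⟩], by rw [Matrix.det_fin_three]; decide⟩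
def m_130 : S9 := ⟨!![⟨1, 2⟩, ⟨0, 2⟩, ⟨0, 1⟩; ⟨0, 0⟩, ⟨1, 1⟩, ⟨1, 1⟩; ⟨2, 2⟩, ⟨1, 0⟩, ⟨2, 0⟩], by rw [Matrix.det_fin_three]; decide⟩
def m_131 : S9 := ⟨!![⟨2, 1⟩, ⟨0, 2⟩, ⟨0, 2⟩; ⟨0, 0⟩, ⟨2, 2⟩, ⟨1, 1⟩; ⟨2, 2⟩, ⟨2, 0⟩, ⟨2, 0⟩], by rw [Matrix.det_fin_three]; decide⟩
def m_132 : S9 := ⟨!![⟨2, 0⟩, ⟨2, 2⟩, ⟨0, 1⟩; ⟨0, 2⟩, ⟨2, 1⟩, ⟨2, 0⟩; ⟨2, 1⟩, ⟨0, 0⟩, ⟨2, 2⟩], by rw [Matrix.det_fin_three]; decide⟩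
def m_133 : S9 := ⟨!![⟨1, 2⟩, ⟨0, 2⟩, ⟨0, 1⟩; ⟨1, 1⟩, ⟨2, 0⟩, ⟨1, 0⟩; ⟨0, 0⟩, ⟨1, 1⟩, ⟨1, 1⟩], by rw [Matrix.det_fin_three]; decide⟩
def m_134 : S9 := ⟨!![⟨2, 2⟩, ⟨1, 2⟩, ⟨0, 0⟩; ⟨0, 1⟩, ⟨1, 0⟩, ⟨2, 1⟩; ⟨0, 1⟩, ⟨1, 0⟩, ⟨1, 2⟩], by rw [Matrix.det_fin_three]; decide⟩
def m_135 : S9 := ⟨!![⟨2, 0⟩, ⟨0, 2⟩, ⟨2, 2⟩; ⟨0, 2⟩, ⟨1, 0⟩, ⟨2, 1⟩; ⟨2, 1⟩, ⟨1, 1⟩, ⟨0, 0⟩], by rw [Matrix.det_fin_three]; decide⟩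
def m_136 : S9 := ⟨!![⟨1, 0⟩, ⟨1, 1⟩, ⟨0, 2⟩; ⟨2, 1⟩, ⟨0, 0⟩, ⟨2, 2⟩; ⟨0, 2⟩, ⟨2, 1⟩, ⟨2, 0⟩], by rw [Matrix.det_fin_three]; decide⟩
def m_137 : S9 := ⟨!![⟨1, 0⟩, ⟨2, 2⟩, ⟨0, 1⟩; ⟨0, 2⟩, ⟨1, 2⟩, ⟨1, 0⟩; ⟨1, 2⟩, ⟨0, 0⟩, ⟨2, 2⟩], by rw [Matrix.det_fin_three]; decide⟩
def m_138 : S9 := ⟨!![⟨1, 0⟩, ⟨0, 1⟩, ⟨2, 2⟩; ⟨0, 2⟩, ⟨1, 0⟩, ⟨1, 2⟩; ⟨2, 1⟩, ⟨1, 1⟩, ⟨0, 0⟩], by rw [Matrix.det_fin_three]; decide⟩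
def m_139 : S9 := ⟨!![⟨2, 1⟩, ⟨0, 1⟩, ⟨0, 1⟩; ⟨1, 1⟩, ⟨2, 0⟩, ⟨2, 0⟩; ⟨0, 0⟩, ⟨1, 1⟩, ⟨2, 2⟩], by rw [Matrix.det_fin_three]; decide⟩
def m_140 : S9 := ⟨!![⟨2, 0⟩, ⟨0, 0⟩, ⟨0, 0⟩; ⟨0, 0⟩, ⟨2, 0⟩, ⟨0, 0⟩; ⟨0, 0⟩, ⟨0, 0⟩, ⟨1, 0⟩], by rw [Matrix.det_fin_three]; decide⟩
def m_141 : S9 := ⟨!![⟨1, 1⟩, ⟨1, 2⟩, ⟨0, 0⟩; ⟨0, 2⟩, ⟨1, 0⟩, ⟨2, 1⟩; ⟨0, 1⟩, ⟨2, 0⟩, ⟨2, 1⟩], by rw [Matrix.det_fin_three]; decide⟩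
def m_142 : S9 := ⟨!![⟨2, 1⟩, ⟨0, 2⟩, ⟨0, 1⟩; ⟨0, 0⟩, ⟨2, 2⟩, ⟨2, 2⟩; ⟨1, 1⟩, ⟨1, 0⟩, ⟨2, 0⟩], by rw [Matrix.det_fin_three]; decide⟩
def m_143 : S9 := ⟨!![⟨2, 1⟩, ⟨0, 1⟩, ⟨0, 1⟩; ⟨0, 0⟩, ⟨1, 1⟩, ⟨2, 2⟩; ⟨2, 2⟩, ⟨1, 0⟩, ⟨1, 0⟩], by rw [Matrix.det_fin_three]; decide⟩
def m_144 : S9 := ⟨!![⟨1, 1⟩, ⟨0, 0⟩, ⟨2, 1⟩; ⟨0, 1⟩, ⟨1, 2⟩, ⟨1, 0⟩; ⟨0, 2⟩, ⟨1, 2⟩, ⟨2, 0⟩], by rw [Matrix.det_fin_three]; decide⟩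
def m_145 : S9 := ⟨!![⟨0, 0⟩, ⟨1, 2⟩, ⟨1, 2⟩; ⟨2, 2⟩, ⟨1, 0⟩, ⟨2, 0⟩; ⟨1, 1⟩, ⟨1, 0⟩, ⟨2, 0⟩], by rw [Matrix.det_fin_three]; decide⟩
def m_146 : S9 := ⟨!![⟨1, 0⟩, ⟨0, 2⟩, ⟨2, 2⟩; ⟨0, 2⟩, ⟨2, 0⟩, ⟨1, 2⟩; ⟨1, 2⟩, ⟨1, 1⟩, ⟨0, 0⟩], by rw [Matrix.det_fin_three]; decide⟩
def m_147 : S9 := ⟨!![⟨1, 1⟩, ⟨1, 2⟩, ⟨0, 0⟩; ⟨0, 1⟩, ⟨2, 0⟩, ⟨1, 2⟩; ⟨0, 2⟩, ⟨1, 0⟩, ⟨1, 2⟩], by rw [Matrix.det_fin_three]; decide⟩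
def m_148 : S9 := ⟨!![⟨2, 0⟩, ⟨1, 1⟩, ⟨0, 1⟩; ⟨1, 2⟩, ⟨0, 0⟩, ⟨1, 1⟩; ⟨0, 1⟩, ⟨2, 1⟩, ⟨1, 0⟩], by rw [Matrix.det_fin_three]; decide⟩
def m_149 : S9 := ⟨!![⟨2, 2⟩, ⟨0, 0⟩, ⟨2, 1⟩; ⟨0, 1⟩, ⟨2, 1⟩, ⟨2, 0⟩; ⟨0, 1⟩, ⟨1, 2⟩, ⟨2, 0⟩], by rw [Matrix.det_fin_three]; decide⟩
def m_150 : S9 := ⟨!![⟨0, 0⟩, ⟨2, 1⟩, ⟨1, 2⟩; ⟨2, 2⟩, ⟨1, 0⟩, ⟨1, 0⟩; ⟨1, 1⟩, ⟨1, 0⟩, ⟨1, 0⟩], by rw [Matrix.det_fin_three]; decide⟩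
def m_151 : S9 := ⟨!![⟨2, 0⟩, ⟨1, 1⟩, ⟨0, 1⟩; ⟨0, 2⟩, ⟨1, 2⟩, ⟨2, 0⟩; ⟨1, 2⟩, ⟨0, 0⟩, ⟨1, 1⟩], by rw [Matrix.det_fin_three]; decide⟩
def m_152 : S9 := ⟨!![⟨1, 0⟩, ⟨0, 0⟩, ⟨0, 0⟩; ⟨0, 0⟩, ⟨2, 0⟩, ⟨0, 0⟩; ⟨0, 0⟩, ⟨0, 0⟩, ⟨2, 0⟩], by rw [Matrix.det_fin_three]; decide⟩
def m_153 : S9 := ⟨!![⟨1, 2⟩, ⟨0, 2⟩, ⟨0, 2⟩; ⟨1, 1⟩, ⟨2, 0⟩, ⟨2, 0⟩; ⟨0, 0⟩, ⟨2, 2⟩, ⟨1, 1⟩], by rw [Matrix.det_fin_three]; decide⟩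
def m_154 : S9 := ⟨!![⟨2, 0⟩, ⟨2, 2⟩, ⟨0, 1⟩; ⟨1, 2⟩, ⟨0, 0⟩, ⟨1, 1⟩; ⟨0, 2⟩, ⟨2, 1⟩, ⟨2, 0⟩], by rw [Matrix.det_fin_three]; decide⟩
def m_155 : S9 := ⟨!![⟨0, 0⟩, ⟨0, 0⟩, ⟨0, 1⟩; ⟨0, 1⟩, ⟨0, 0⟩, ⟨0, 0⟩; ⟨0, 0⟩, ⟨2, 0⟩, ⟨0, 0⟩], by rw [Matrix.det_fin_three]; decide⟩
def m_156 : S9 := ⟨!![⟨0, 0⟩, ⟨0, 0⟩, ⟨0, 1⟩; ⟨0, 0⟩, ⟨1, 0⟩, ⟨0, 0⟩; ⟨0, 1⟩, ⟨0, 0⟩, ⟨0, 0⟩], by rw [Matrix.det_fin_three]; decide⟩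
def m_157 : S9 := ⟨!![⟨0, 0⟩, ⟨2, 1⟩, ⟨2, 1⟩; ⟨2, 2⟩, ⟨2, 0⟩, ⟨1, 0⟩; ⟨1, 1⟩, ⟨2, 0⟩, ⟨1, 0⟩], by rw [Matrix.det_fin_three]; decide⟩
def m_158 : S9 := ⟨!![⟨1, 2⟩, ⟨0, 1⟩, ⟨0, 1⟩; ⟨2, 2⟩, ⟨2, 0⟩, ⟨2, 0⟩; ⟨0, 0⟩, ⟨2, 2⟩, ⟨1, 1⟩], by rw [Matrix.det_fin_three]; decide⟩
def m_159 : S9 := ⟨!![⟨2, 0⟩, ⟨1, 1⟩, ⟨0, 2⟩; ⟨0, 1⟩, ⟨2, 1⟩, ⟨2, 0⟩; ⟨1, 2⟩, ⟨0, 0⟩, ⟨2, 2⟩], by rw [Matrix.det_fin_three]; decide⟩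
def m_160 : S9 := ⟨!![⟨2, 2⟩, ⟨0, 0⟩, ⟨1, 2⟩; ⟨0, 1⟩, ⟨2, 1⟩, ⟨1, 0⟩; ⟨0, 2⟩, ⟨2, 1⟩, ⟨2, 0⟩], by rw [Matrix.det_fin_three]; decide⟩
def m_161 : S9 := ⟨!![⟨2, 0⟩, ⟨1, 1⟩, ⟨0, 1⟩; ⟨2, 1⟩, ⟨0, 0⟩, ⟨2, 2⟩; ⟨0, 2⟩, ⟨1, 2⟩, ⟨2, 0⟩], by rw [Matrix.det_fin_three]; decide⟩
def m_162 : S9 := ⟨!![⟨0, 0⟩, ⟨0, 1⟩, ⟨0, 0⟩; ⟨0, 2⟩, ⟨0, 0⟩, ⟨0, 0⟩; ⟨0, 0⟩, ⟨0, 0⟩, ⟨2, 0⟩], by rw [Matrix.det_fin_three]; decide⟩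
def m_163 : S9 := ⟨!![⟨1, 2⟩, ⟨0, 1⟩, ⟨0, 2⟩; ⟨1, 1⟩, ⟨1, 0⟩, ⟨2, 0⟩; ⟨0, 0⟩, ⟨2, 2⟩, ⟨2, 2⟩], by rw [Matrix.det_fin_three]; decide⟩
def m_164 : S9 := ⟨!![⟨0, 0⟩, ⟨2, 1⟩, ⟨1, 2⟩; ⟨1, 1⟩, ⟨1, 0⟩, ⟨1, 0⟩; ⟨1, 1⟩, ⟨2, 0⟩, ⟨2, 0⟩], by rw [Matrix.det_fin_three]; decide⟩
def m_165 : S9 := ⟨!![⟨2, 2⟩, ⟨0, 0⟩, ⟨2, 1⟩; ⟨0, 2⟩, ⟨1, 2⟩, ⟨1, 0⟩; ⟨0, 2⟩, ⟨2, 1⟩, ⟨1, 0⟩], by rw [Matrix.det_fin_three]; decide⟩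
def m_166 : S9 := ⟨!![⟨2, 0⟩, ⟨0, 0⟩, ⟨0, 0⟩; ⟨0, 0⟩, ⟨0, 0⟩, ⟨1, 0⟩; ⟨0, 0⟩, ⟨1, 0⟩, ⟨0, 0⟩], by rw [Matrix.det_fin_three]; decide⟩
def m_167 : S9 := ⟨!![⟨0, 0⟩, ⟨0, 2⟩, ⟨0, 0⟩; ⟨0, 0⟩, ⟨0, 0⟩, ⟨2, 0⟩; ⟨0, 2⟩, ⟨0, 0⟩, ⟨0, 0⟩], by rw [Matrix.det_fin_three]; decide⟩

def M : Fin 168 → S9
  | ⟨0, _⟩ => m_0
  | ⟨1, _⟩ => m_1
  | ⟨2, _⟩ => m_2
  | ⟨3, _⟩ => m_3
  | ⟨4, _⟩ => m_4
  | ⟨5, _⟩ => m_5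
  | ⟨6, _⟩ => m_6
  | ⟨7, _⟩ => m_7
  | ⟨8, _⟩ => m_8
  | ⟨9, _⟩ => m_9
  | ⟨10, _⟩ => m_10
  | ⟨11, _⟩ => m_11
  | ⟨12, _⟩ => m_12
  | ⟨13, _⟩ => m_13
  | ⟨14, _⟩ => m_14
  | ⟨15, _⟩ => m_15
  | ⟨16, _⟩ => m_16
  | ⟨17, _⟩ => m_17
  | ⟨18, _⟩ => m_18
  | ⟨19, _⟩ => m_19
  | ⟨20, _⟩ => m_20
  | ⟨21, _⟩ => m_21
  | ⟨22, _⟩ => m_22
  | ⟨23, _⟩ => m_23
  | ⟨24, _⟩ => m_24
  | ⟨25, _⟩ => m_25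
  | ⟨26, _⟩ => m_26
  | ⟨27, _⟩ => m_27
  | ⟨28, _⟩ => m_28
  | ⟨29, _⟩ => m_29
  | ⟨30, _⟩ => m_30
  | ⟨31, _⟩ => m_31
  | ⟨32, _⟩ => m_32
  | ⟨33, _⟩ => m_33
  | ⟨34, _⟩ => m_34
  | ⟨35, _⟩ => m_35
  | ⟨36, _⟩ => m_36
  | ⟨37, _⟩ => m_37
  | ⟨38, _⟩ => m_38
  | ⟨39, _⟩ => m_39
  | ⟨40, _⟩ => m_40
  | ⟨41, _⟩ => m_41
  | ⟨42, _⟩ => m_42
  | ⟨43, _⟩ => m_43
  | ⟨44, _⟩ => m_44
  | ⟨45, _⟩ => m_45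
  | ⟨46, _⟩ => m_46
  | ⟨47, _⟩ => m_47
  | ⟨48, _⟩ => m_48
  | ⟨49, _⟩ => m_49
  | ⟨50, _⟩ => m_50
  | ⟨51, _⟩ => m_51
  | ⟨52, _⟩ => m_52
  | ⟨53, _⟩ => m_53
  | ⟨54, _⟩ => m_54
  | ⟨55, _⟩ => m_55
  | ⟨56, _⟩ => m_56
  | ⟨57, _⟩ => m_57
  | ⟨58, _⟩ => m_58
  | ⟨59, _⟩ => m_59
  | ⟨60, _⟩ => m_60
  | ⟨61, _⟩ => m_61
  | ⟨62, _⟩ => m_62
  | ⟨63, _⟩ => m_63
  | ⟨64, _⟩ => m_64
  | ⟨65, _⟩ => m_65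
  | ⟨66, _⟩ => m_66
  | ⟨67, _⟩ => m_67
  | ⟨68, _⟩ => m_68
  | ⟨69, _⟩ => m_69
  | ⟨70, _⟩ => m_70
  | ⟨71, _⟩ => m_71
  | ⟨72, _⟩ => m_72
  | ⟨73, _⟩ => m_73
  | ⟨74, _⟩ => m_74
  | ⟨75, _⟩ => m_75
  | ⟨76, _⟩ => m_76
  | ⟨77, _⟩ => m_77
  | ⟨78, _⟩ => m_78
  | ⟨79, _⟩ => m_79
  | ⟨80, _⟩ => m_80
  | ⟨81, _⟩ => m_81
  | ⟨82, _⟩ => m_82
  | ⟨83, _⟩ => m_83
  | ⟨84, _⟩ => m_84
  | ⟨85, _⟩ => m_85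
  | ⟨86, _⟩ => m_86
  | ⟨87, _⟩ => m_87
  | ⟨88, _⟩ => m_88
  | ⟨89, _⟩ => m_89
  | ⟨90, _⟩ => m_90
  | ⟨91, _⟩ => m_91
  | ⟨92, _⟩ => m_92
  | ⟨93, _⟩ => m_93
  | ⟨94, _⟩ => m_94
  | ⟨95, _⟩ => m_95
  | ⟨96, _⟩ => m_96
  | ⟨97, _⟩ => m_97
  | ⟨98, _⟩ => m_98
  | ⟨99, _⟩ => m_99
  | ⟨100, _⟩ => m_100
  | ⟨101, _⟩ => m_101
  | ⟨102, _⟩ => m_102
  | ⟨103, _⟩ => m_103
  | ⟨104, _⟩ => m_104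
  | ⟨105, _⟩ => m_105
  | ⟨106, _⟩ => m_106
  | ⟨107, _⟩ => m_107
  | ⟨108, _⟩ => m_108
  | ⟨109, _⟩ => m_109
  | ⟨110, _⟩ => m_110
  | ⟨111, _⟩ => m_111
  | ⟨112, _⟩ => m_112
  | ⟨113, _⟩ => m_113
  | ⟨114, _⟩ => m_114
  | ⟨115, _⟩ => m_115
  | ⟨116, _⟩ => m_116
  | ⟨117, _⟩ => m_117
  | ⟨118, _⟩ => m_118
  | ⟨119, _⟩ => m_119
  | ⟨120, _⟩ => m_120
  | ⟨121, _⟩ => m_121
  | ⟨122, _⟩ => m_122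
  | ⟨123, _⟩ => m_123
  | ⟨124, _⟩ => m_124
  | ⟨125, _⟩ => m_125
  | ⟨126, _⟩ => m_126
  | ⟨127, _⟩ => m_127
  | ⟨128, _⟩ => m_128
  | ⟨129, _⟩ => m_129
  | ⟨130, _⟩ => m_130
  | ⟨131, _⟩ => m_131
  | ⟨132, _⟩ => m_132
  | ⟨133, _⟩ => m_133
  | ⟨134, _⟩ => m_134
  | ⟨135, _⟩ => m_135
  | ⟨136, _⟩ => m_136
  | ⟨137, _⟩ => m_137
  | ⟨138, _⟩ => m_138
  | ⟨139, _⟩ => m_139
  | ⟨140, _⟩ => m_140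
  | ⟨141, _⟩ => m_141
  | ⟨142, _⟩ => m_142
  | ⟨143, _⟩ => m_143
  | ⟨144, _⟩ => m_144
  | ⟨145, _⟩ => m_145
  | ⟨146, _⟩ => m_146
  | ⟨147, _⟩ => m_147
  | ⟨148, _⟩ => m_148
  | ⟨149, _⟩ => m_149
  | ⟨150, _⟩ => m_150
  | ⟨151, _⟩ => m_151
  | ⟨152, _⟩ => m_152
  | ⟨153, _⟩ => m_153
  | ⟨154, _⟩ => m_154
  | ⟨155, _⟩ => m_155
  | ⟨156, _⟩ => m_156
  | ⟨157, _⟩ => m_157
  | ⟨158, _⟩ => m_158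
  | ⟨159, _⟩ => m_159
  | ⟨160, _⟩ => m_160
  | ⟨161, _⟩ => m_161
  | ⟨162, _⟩ => m_162
  | ⟨163, _⟩ => m_163
  | ⟨164, _⟩ => m_164
  | ⟨165, _⟩ => m_165
  | ⟨166, _⟩ => m_166
  | ⟨167, _⟩ => m_167
  | ⟨n+168, h⟩ => absurd h (by omega)

set_option maxRecDepth 100000 in
theorem cen : ∀ i : Fin 168, M i * gX = gX * M i → M i * gY = gY * M i → i = 0 := by
  decide +kernel

section target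

variable {F : Type*} [Field F] (f : F9 →+* F)

theorem charF (f : F9 →+* F) : CharP F 3 := by
  have h : Function.Injective (f.comp (algebraMap (ZMod 3) F9)) := RingHom.injective _
  exact charP_of_injective_ringHom h 3

theorem mem_SU (f : F9 →+* F) (m : Matrix.SpecialLinearGroup (Fin 3) F) (h : Gram m.1) :
    m ∈ Cfsg.SU 3 F 3 := by
  haveI := charF f
  intro u v
  show Cfsg.hermForm 3 F 3 (m.1 *ᵥ u) (m.1 *ᵥ v) = Cfsg.hermForm 3 F 3 u v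
  have hG : ∀ j k, ∑ i, m.1 i j * m.1 i k ^ 3 = if j = k then 1 else 0 := by
    intro j k
    have := congrFun (congrFun h j) k
    rw [Matrix.mul_apply, Matrix.one_apply] at this
    simpa [Matrix.transpose_apply, Matrix.map_apply] using this
  have e00 := hG 0 0
  have e01 := hG 0 1
  have e02 := hG 0 2
  have e10 := hG 1 0
  have e11 := hG 1 1
  have e12 := hG 1 2
  have e20 := hG 2 0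
  have e21 := hG 2 1
  have e22 := hG 2 2
  simp only [Fin.sum_univ_three, Fin.isValue, if_true] at e00 e11 e22
  simp only [Fin.sum_univ_three, Fin.isValue] at e01 e02 e10 e12 e20 e21
  rw [if_neg (by decide)] at e01 e02 e10 e12 e20 e21
  simp only [Cfsg.hermForm, Matrix.mulVec, dotProduct, Fin.sum_univ_three, add_pow_char, mul_pow]
  linear_combination u 0 * v 0 ^ 3 * e00 + u 0 * v 1 ^ 3 * e01 + u 0 * v 2 ^ 3 * e02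
    + u 1 * v 0 ^ 3 * e10 + u 1 * v 1 ^ 3 * e11 + u 1 * v 2 ^ 3 * e12
    + u 2 * v 0 ^ 3 * e20 + u 2 * v 1 ^ 3 * e21 + u 2 * v 2 ^ 3 * e22

theorem gram_map (m : S9) (h : Gram m.1) : Gram (Matrix.SpecialLinearGroup.map f m).1 := by
  unfold Gram at h ⊢
  have e : (Matrix.SpecialLinearGroup.map f m).1 = m.1.map f := rfl
  rw [e]
  have h2 := congrArg (fun A : Matrix (Fin 3) (Fin 3) F9 => A.map f) h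
  simp only [Matrix.map_mul, Matrix.map_one f (map_zero f) (map_one f)] at h2
  rw [← h2]
  congr 1
  ext i j
  simp [Matrix.map_apply]

/-- A unitary matrix over `F9`, as an element of `SU(3, F)`. -/
def toSU (m : S9) (h : Gram m.1) : Cfsg.SU 3 F 3 :=
  ⟨Matrix.SpecialLinearGroup.map f m, mem_SU f _ (gram_map f m h)⟩

theorem toSU_val (m : S9) (h : Gram m.1) :
    (toSU f m h).1 = Matrix.SpecialLinearGroup.map f m := rfl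

theorem lift_rel : ∀ r ∈ rels, FreeGroup.lift ![toSU f gX hX, toSU f gY hY] r = 1 := by
  intro r hr
  simp only [rels, Set.mem_insert_iff, Set.mem_singleton_iff] at hr
  rcases hr with rfl | rfl | rfl | rfl
  · simp only [map_pow, FreeGroup.lift_apply_of]
    apply Subtype.ext
    show (Matrix.SpecialLinearGroup.map f gX) ^ 2 = 1
    rw [← map_pow, hX2, map_one]
  · simp only [map_pow, FreeGroup.lift_apply_of]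
    apply Subtype.ext
    show (Matrix.SpecialLinearGroup.map f gY) ^ 3 = 1
    rw [← map_pow, hY3, map_one]
  · simp only [map_pow, map_mul, FreeGroup.lift_apply_of]
    apply Subtype.ext
    show (Matrix.SpecialLinearGroup.map f gX * Matrix.SpecialLinearGroup.map f gY) ^ 7 = 1
    rw [← map_mul, ← map_pow, hXY7, map_one]
  · simp only [map_pow, map_mul, FreeGroup.lift_apply_of]
    apply Subtype.ext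
    show (Matrix.SpecialLinearGroup.map f gX * Matrix.SpecialLinearGroup.map f gY
      * Matrix.SpecialLinearGroup.map f gX * Matrix.SpecialLinearGroup.map f gY
      * Matrix.SpecialLinearGroup.map f gY) ^ 4 = 1
    rw [← map_mul, ← map_mul, ← map_mul, ← map_mul, ← map_pow, hC4, map_one]

noncomputable def θ0 : P →* Cfsg.SU 3 F 3 := PresentedGroup.toGroup (lift_rel f)

theorem θ0_x : θ0 f x = toSU f gX hX := by simp [θ0, x]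
theorem θ0_y : θ0 f y = toSU f gY hY := by simp [θ0, y]

theorem m_0_eq : m_0 = 1 := by decide
theorem t_0 : (θ0 f r0).1 = Matrix.SpecialLinearGroup.map f m_0 := by
  show (θ0 f 1).1 = Matrix.SpecialLinearGroup.map f m_0
  rw [map_one, m_0_eq, map_one]; rfl
theorem t_1 : (θ0 f r1).1 = Matrix.SpecialLinearGroup.map f m_1 := by
  show (θ0 f (r0 * x)).1 = Matrix.SpecialLinearGroup.map f m_1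
  rw [map_mul, Subgroup.coe_mul, t_0, θ0_x, toSU_val, ← map_mul]
  exact congrArg _ (by decide)
theorem t_2 : (θ0 f r2).1 = Matrix.SpecialLinearGroup.map f m_2 := by
  show (θ0 f (r0 * y)).1 = Matrix.SpecialLinearGroup.map f m_2
  rw [map_mul, Subgroup.coe_mul, t_0, θ0_y, toSU_val, ← map_mul]
  exact congrArg _ (by decide)
theorem t_3 : (θ0 f r3).1 = Matrix.SpecialLinearGroup.map f m_3 := by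
  show (θ0 f (r1 * y)).1 = Matrix.SpecialLinearGroup.map f m_3
  rw [map_mul, Subgroup.coe_mul, t_1, θ0_y, toSU_val, ← map_mul]
  exact congrArg _ (by decide)
theorem t_4 : (θ0 f r4).1 = Matrix.SpecialLinearGroup.map f m_4 := by
  show (θ0 f (r2 * x)).1 = Matrix.SpecialLinearGroup.map f m_4
  rw [map_mul, Subgroup.coe_mul, t_2, θ0_x, toSU_val, ← map_mul]
  exact congrArg _ (by decide)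
theorem t_5 : (θ0 f r5).1 = Matrix.SpecialLinearGroup.map f m_5 := by
  show (θ0 f (r2 * y)).1 = Matrix.SpecialLinearGroup.map f m_5
  rw [map_mul, Subgroup.coe_mul, t_2, θ0_y, toSU_val, ← map_mul]
  exact congrArg _ (by decide)
theorem t_6 : (θ0 f r6).1 = Matrix.SpecialLinearGroup.map f m_6 := by
  show (θ0 f (r3 * x)).1 = Matrix.SpecialLinearGroup.map f m_6
  rw [map_mul, Subgroup.coe_mul, t_3, θ0_x, toSU_val, ← map_mul]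
  exact congrArg _ (by decide)
theorem t_7 : (θ0 f r7).1 = Matrix.SpecialLinearGroup.map f m_7 := by
  show (θ0 f (r3 * y)).1 = Matrix.SpecialLinearGroup.map f m_7
  rw [map_mul, Subgroup.coe_mul, t_3, θ0_y, toSU_val, ← map_mul]
  exact congrArg _ (by decide)
theorem t_8 : (θ0 f r8).1 = Matrix.SpecialLinearGroup.map f m_8 := by
  show (θ0 f (r4 * y)).1 = Matrix.SpecialLinearGroup.map f m_8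
  rw [map_mul, Subgroup.coe_mul, t_4, θ0_y, toSU_val, ← map_mul]
  exact congrArg _ (by decide)
theorem t_9 : (θ0 f r9).1 = Matrix.SpecialLinearGroup.map f m_9 := by
  show (θ0 f (r5 * x)).1 = Matrix.SpecialLinearGroup.map f m_9
  rw [map_mul, Subgroup.coe_mul, t_5, θ0_x, toSU_val, ← map_mul]
  exact congrArg _ (by decide)
theorem t_10 : (θ0 f r10).1 = Matrix.SpecialLinearGroup.map f m_10 := by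
  show (θ0 f (r6 * y)).1 = Matrix.SpecialLinearGroup.map f m_10
  rw [map_mul, Subgroup.coe_mul, t_6, θ0_y, toSU_val, ← map_mul]
  exact congrArg _ (by decide)
theorem t_11 : (θ0 f r11).1 = Matrix.SpecialLinearGroup.map f m_11 := by
  show (θ0 f (r7 * x)).1 = Matrix.SpecialLinearGroup.map f m_11
  rw [map_mul, Subgroup.coe_mul, t_7, θ0_x, toSU_val, ← map_mul]
  exact congrArg _ (by decide)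
theorem t_12 : (θ0 f r12).1 = Matrix.SpecialLinearGroup.map f m_12 := by
  show (θ0 f (r8 * x)).1 = Matrix.SpecialLinearGroup.map f m_12
  rw [map_mul, Subgroup.coe_mul, t_8, θ0_x, toSU_val, ← map_mul]
  exact congrArg _ (by decide)
theorem t_13 : (θ0 f r13).1 = Matrix.SpecialLinearGroup.map f m_13 := by
  show (θ0 f (r8 * y)).1 = Matrix.SpecialLinearGroup.map f m_13
  rw [map_mul, Subgroup.coe_mul, t_8, θ0_y, toSU_val, ← map_mul]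
  exact congrArg _ (by decide)
theorem t_14 : (θ0 f r14).1 = Matrix.SpecialLinearGroup.map f m_14 := by
  show (θ0 f (r9 * y)).1 = Matrix.SpecialLinearGroup.map f m_14
  rw [map_mul, Subgroup.coe_mul, t_9, θ0_y, toSU_val, ← map_mul]
  exact congrArg _ (by decide)
theorem t_15 : (θ0 f r15).1 = Matrix.SpecialLinearGroup.map f m_15 := by
  show (θ0 f (r10 * x)).1 = Matrix.SpecialLinearGroup.map f m_15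
  rw [map_mul, Subgroup.coe_mul, t_10, θ0_x, toSU_val, ← map_mul]
  exact congrArg _ (by decide)
theorem t_16 : (θ0 f r16).1 = Matrix.SpecialLinearGroup.map f m_16 := by
  show (θ0 f (r10 * y)).1 = Matrix.SpecialLinearGroup.map f m_16
  rw [map_mul, Subgroup.coe_mul, t_10, θ0_y, toSU_val, ← map_mul]
  exact congrArg _ (by decide)
theorem t_17 : (θ0 f r17).1 = Matrix.SpecialLinearGroup.map f m_17 := by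
  show (θ0 f (r11 * y)).1 = Matrix.SpecialLinearGroup.map f m_17
  rw [map_mul, Subgroup.coe_mul, t_11, θ0_y, toSU_val, ← map_mul]
  exact congrArg _ (by decide)
theorem t_18 : (θ0 f r18).1 = Matrix.SpecialLinearGroup.map f m_18 := by
  show (θ0 f (r12 * y)).1 = Matrix.SpecialLinearGroup.map f m_18
  rw [map_mul, Subgroup.coe_mul, t_12, θ0_y, toSU_val, ← map_mul]
  exact congrArg _ (by decide)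
theorem t_19 : (θ0 f r19).1 = Matrix.SpecialLinearGroup.map f m_19 := by
  show (θ0 f (r13 * x)).1 = Matrix.SpecialLinearGroup.map f m_19
  rw [map_mul, Subgroup.coe_mul, t_13, θ0_x, toSU_val, ← map_mul]
  exact congrArg _ (by decide)
theorem t_20 : (θ0 f r20).1 = Matrix.SpecialLinearGroup.map f m_20 := by
  show (θ0 f (r14 * x)).1 = Matrix.SpecialLinearGroup.map f m_20
  rw [map_mul, Subgroup.coe_mul, t_14, θ0_x, toSU_val, ← map_mul]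
  exact congrArg _ (by decide)
theorem t_21 : (θ0 f r21).1 = Matrix.SpecialLinearGroup.map f m_21 := by
  show (θ0 f (r14 * y)).1 = Matrix.SpecialLinearGroup.map f m_21
  rw [map_mul, Subgroup.coe_mul, t_14, θ0_y, toSU_val, ← map_mul]
  exact congrArg _ (by decide)
theorem t_22 : (θ0 f r22).1 = Matrix.SpecialLinearGroup.map f m_22 := by
  show (θ0 f (r15 * y)).1 = Matrix.SpecialLinearGroup.map f m_22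
  rw [map_mul, Subgroup.coe_mul, t_15, θ0_y, toSU_val, ← map_mul]
  exact congrArg _ (by decide)
theorem t_23 : (θ0 f r23).1 = Matrix.SpecialLinearGroup.map f m_23 := by
  show (θ0 f (r16 * x)).1 = Matrix.SpecialLinearGroup.map f m_23
  rw [map_mul, Subgroup.coe_mul, t_16, θ0_x, toSU_val, ← map_mul]
  exact congrArg _ (by decide)
theorem t_24 : (θ0 f r24).1 = Matrix.SpecialLinearGroup.map f m_24 := by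
  show (θ0 f (r17 * x)).1 = Matrix.SpecialLinearGroup.map f m_24
  rw [map_mul, Subgroup.coe_mul, t_17, θ0_x, toSU_val, ← map_mul]
  exact congrArg _ (by decide)
theorem t_25 : (θ0 f r25).1 = Matrix.SpecialLinearGroup.map f m_25 := by
  show (θ0 f (r17 * y)).1 = Matrix.SpecialLinearGroup.map f m_25
  rw [map_mul, Subgroup.coe_mul, t_17, θ0_y, toSU_val, ← map_mul]
  exact congrArg _ (by decide)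
theorem t_26 : (θ0 f r26).1 = Matrix.SpecialLinearGroup.map f m_26 := by
  show (θ0 f (r18 * x)).1 = Matrix.SpecialLinearGroup.map f m_26
  rw [map_mul, Subgroup.coe_mul, t_18, θ0_x, toSU_val, ← map_mul]
  exact congrArg _ (by decide)
theorem t_27 : (θ0 f r27).1 = Matrix.SpecialLinearGroup.map f m_27 := by
  show (θ0 f (r18 * y)).1 = Matrix.SpecialLinearGroup.map f m_27
  rw [map_mul, Subgroup.coe_mul, t_18, θ0_y, toSU_val, ← map_mul]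
  exact congrArg _ (by decide)
theorem t_28 : (θ0 f r28).1 = Matrix.SpecialLinearGroup.map f m_28 := by
  show (θ0 f (r19 * y)).1 = Matrix.SpecialLinearGroup.map f m_28
  rw [map_mul, Subgroup.coe_mul, t_19, θ0_y, toSU_val, ← map_mul]
  exact congrArg _ (by decide)
theorem t_29 : (θ0 f r29).1 = Matrix.SpecialLinearGroup.map f m_29 := by
  show (θ0 f (r20 * y)).1 = Matrix.SpecialLinearGroup.map f m_29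
  rw [map_mul, Subgroup.coe_mul, t_20, θ0_y, toSU_val, ← map_mul]
  exact congrArg _ (by decide)
theorem t_30 : (θ0 f r30).1 = Matrix.SpecialLinearGroup.map f m_30 := by
  show (θ0 f (r21 * x)).1 = Matrix.SpecialLinearGroup.map f m_30
  rw [map_mul, Subgroup.coe_mul, t_21, θ0_x, toSU_val, ← map_mul]
  exact congrArg _ (by decide)
theorem t_31 : (θ0 f r31).1 = Matrix.SpecialLinearGroup.map f m_31 := by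
  show (θ0 f (r22 * x)).1 = Matrix.SpecialLinearGroup.map f m_31
  rw [map_mul, Subgroup.coe_mul, t_22, θ0_x, toSU_val, ← map_mul]
  exact congrArg _ (by decide)
theorem t_32 : (θ0 f r32).1 = Matrix.SpecialLinearGroup.map f m_32 := by
  show (θ0 f (r22 * y)).1 = Matrix.SpecialLinearGroup.map f m_32
  rw [map_mul, Subgroup.coe_mul, t_22, θ0_y, toSU_val, ← map_mul]
  exact congrArg _ (by decide)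
theorem t_33 : (θ0 f r33).1 = Matrix.SpecialLinearGroup.map f m_33 := by
  show (θ0 f (r23 * y)).1 = Matrix.SpecialLinearGroup.map f m_33
  rw [map_mul, Subgroup.coe_mul, t_23, θ0_y, toSU_val, ← map_mul]
  exact congrArg _ (by decide)
theorem t_34 : (θ0 f r34).1 = Matrix.SpecialLinearGroup.map f m_34 := by
  show (θ0 f (r24 * y)).1 = Matrix.SpecialLinearGroup.map f m_34
  rw [map_mul, Subgroup.coe_mul, t_24, θ0_y, toSU_val, ← map_mul]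
  exact congrArg _ (by decide)
theorem t_35 : (θ0 f r35).1 = Matrix.SpecialLinearGroup.map f m_35 := by
  show (θ0 f (r25 * x)).1 = Matrix.SpecialLinearGroup.map f m_35
  rw [map_mul, Subgroup.coe_mul, t_25, θ0_x, toSU_val, ← map_mul]
  exact congrArg _ (by decide)
theorem t_36 : (θ0 f r36).1 = Matrix.SpecialLinearGroup.map f m_36 := by
  show (θ0 f (r26 * y)).1 = Matrix.SpecialLinearGroup.map f m_36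
  rw [map_mul, Subgroup.coe_mul, t_26, θ0_y, toSU_val, ← map_mul]
  exact congrArg _ (by decide)
theorem t_37 : (θ0 f r37).1 = Matrix.SpecialLinearGroup.map f m_37 := by
  show (θ0 f (r27 * x)).1 = Matrix.SpecialLinearGroup.map f m_37
  rw [map_mul, Subgroup.coe_mul, t_27, θ0_x, toSU_val, ← map_mul]
  exact congrArg _ (by decide)
theorem t_38 : (θ0 f r38).1 = Matrix.SpecialLinearGroup.map f m_38 := by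
  show (θ0 f (r28 * x)).1 = Matrix.SpecialLinearGroup.map f m_38
  rw [map_mul, Subgroup.coe_mul, t_28, θ0_x, toSU_val, ← map_mul]
  exact congrArg _ (by decide)
theorem t_39 : (θ0 f r39).1 = Matrix.SpecialLinearGroup.map f m_39 := by
  show (θ0 f (r28 * y)).1 = Matrix.SpecialLinearGroup.map f m_39
  rw [map_mul, Subgroup.coe_mul, t_28, θ0_y, toSU_val, ← map_mul]
  exact congrArg _ (by decide)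
theorem t_40 : (θ0 f r40).1 = Matrix.SpecialLinearGroup.map f m_40 := by
  show (θ0 f (r29 * x)).1 = Matrix.SpecialLinearGroup.map f m_40
  rw [map_mul, Subgroup.coe_mul, t_29, θ0_x, toSU_val, ← map_mul]
  exact congrArg _ (by decide)
theorem t_41 : (θ0 f r41).1 = Matrix.SpecialLinearGroup.map f m_41 := by
  show (θ0 f (r29 * y)).1 = Matrix.SpecialLinearGroup.map f m_41
  rw [map_mul, Subgroup.coe_mul, t_29, θ0_y, toSU_val, ← map_mul]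
  exact congrArg _ (by decide)
theorem t_42 : (θ0 f r42).1 = Matrix.SpecialLinearGroup.map f m_42 := by
  show (θ0 f (r30 * y)).1 = Matrix.SpecialLinearGroup.map f m_42
  rw [map_mul, Subgroup.coe_mul, t_30, θ0_y, toSU_val, ← map_mul]
  exact congrArg _ (by decide)
theorem t_43 : (θ0 f r43).1 = Matrix.SpecialLinearGroup.map f m_43 := by
  show (θ0 f (r31 * y)).1 = Matrix.SpecialLinearGroup.map f m_43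
  rw [map_mul, Subgroup.coe_mul, t_31, θ0_y, toSU_val, ← map_mul]
  exact congrArg _ (by decide)
theorem t_44 : (θ0 f r44).1 = Matrix.SpecialLinearGroup.map f m_44 := by
  show (θ0 f (r32 * x)).1 = Matrix.SpecialLinearGroup.map f m_44
  rw [map_mul, Subgroup.coe_mul, t_32, θ0_x, toSU_val, ← map_mul]
  exact congrArg _ (by decide)
theorem t_45 : (θ0 f r45).1 = Matrix.SpecialLinearGroup.map f m_45 := by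
  show (θ0 f (r33 * x)).1 = Matrix.SpecialLinearGroup.map f m_45
  rw [map_mul, Subgroup.coe_mul, t_33, θ0_x, toSU_val, ← map_mul]
  exact congrArg _ (by decide)
theorem t_46 : (θ0 f r46).1 = Matrix.SpecialLinearGroup.map f m_46 := by
  show (θ0 f (r33 * y)).1 = Matrix.SpecialLinearGroup.map f m_46
  rw [map_mul, Subgroup.coe_mul, t_33, θ0_y, toSU_val, ← map_mul]
  exact congrArg _ (by decide)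
theorem t_47 : (θ0 f r47).1 = Matrix.SpecialLinearGroup.map f m_47 := by
  show (θ0 f (r34 * x)).1 = Matrix.SpecialLinearGroup.map f m_47
  rw [map_mul, Subgroup.coe_mul, t_34, θ0_x, toSU_val, ← map_mul]
  exact congrArg _ (by decide)
theorem t_48 : (θ0 f r48).1 = Matrix.SpecialLinearGroup.map f m_48 := by
  show (θ0 f (r34 * y)).1 = Matrix.SpecialLinearGroup.map f m_48
  rw [map_mul, Subgroup.coe_mul, t_34, θ0_y, toSU_val, ← map_mul]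
  exact congrArg _ (by decide)
theorem t_49 : (θ0 f r49).1 = Matrix.SpecialLinearGroup.map f m_49 := by
  show (θ0 f (r35 * y)).1 = Matrix.SpecialLinearGroup.map f m_49
  rw [map_mul, Subgroup.coe_mul, t_35, θ0_y, toSU_val, ← map_mul]
  exact congrArg _ (by decide)
theorem t_50 : (θ0 f r50).1 = Matrix.SpecialLinearGroup.map f m_50 := by
  show (θ0 f (r36 * x)).1 = Matrix.SpecialLinearGroup.map f m_50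
  rw [map_mul, Subgroup.coe_mul, t_36, θ0_x, toSU_val, ← map_mul]
  exact congrArg _ (by decide)
theorem t_51 : (θ0 f r51).1 = Matrix.SpecialLinearGroup.map f m_51 := by
  show (θ0 f (r36 * y)).1 = Matrix.SpecialLinearGroup.map f m_51
  rw [map_mul, Subgroup.coe_mul, t_36, θ0_y, toSU_val, ← map_mul]
  exact congrArg _ (by decide)
theorem t_52 : (θ0 f r52).1 = Matrix.SpecialLinearGroup.map f m_52 := by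
  show (θ0 f (r37 * y)).1 = Matrix.SpecialLinearGroup.map f m_52
  rw [map_mul, Subgroup.coe_mul, t_37, θ0_y, toSU_val, ← map_mul]
  exact congrArg _ (by decide)
theorem t_53 : (θ0 f r53).1 = Matrix.SpecialLinearGroup.map f m_53 := by
  show (θ0 f (r38 * y)).1 = Matrix.SpecialLinearGroup.map f m_53
  rw [map_mul, Subgroup.coe_mul, t_38, θ0_y, toSU_val, ← map_mul]
  exact congrArg _ (by decide)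
theorem t_54 : (θ0 f r54).1 = Matrix.SpecialLinearGroup.map f m_54 := by
  show (θ0 f (r39 * x)).1 = Matrix.SpecialLinearGroup.map f m_54
  rw [map_mul, Subgroup.coe_mul, t_39, θ0_x, toSU_val, ← map_mul]
  exact congrArg _ (by decide)
theorem t_55 : (θ0 f r55).1 = Matrix.SpecialLinearGroup.map f m_55 := by
  show (θ0 f (r40 * y)).1 = Matrix.SpecialLinearGroup.map f m_55
  rw [map_mul, Subgroup.coe_mul, t_40, θ0_y, toSU_val, ← map_mul]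
  exact congrArg _ (by decide)
theorem t_56 : (θ0 f r56).1 = Matrix.SpecialLinearGroup.map f m_56 := by
  show (θ0 f (r41 * x)).1 = Matrix.SpecialLinearGroup.map f m_56
  rw [map_mul, Subgroup.coe_mul, t_41, θ0_x, toSU_val, ← map_mul]
  exact congrArg _ (by decide)
theorem t_57 : (θ0 f r57).1 = Matrix.SpecialLinearGroup.map f m_57 := by
  show (θ0 f (r42 * x)).1 = Matrix.SpecialLinearGroup.map f m_57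
  rw [map_mul, Subgroup.coe_mul, t_42, θ0_x, toSU_val, ← map_mul]
  exact congrArg _ (by decide)
theorem t_58 : (θ0 f r58).1 = Matrix.SpecialLinearGroup.map f m_58 := by
  show (θ0 f (r42 * y)).1 = Matrix.SpecialLinearGroup.map f m_58
  rw [map_mul, Subgroup.coe_mul, t_42, θ0_y, toSU_val, ← map_mul]
  exact congrArg _ (by decide)
theorem t_59 : (θ0 f r59).1 = Matrix.SpecialLinearGroup.map f m_59 := by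
  show (θ0 f (r43 * y)).1 = Matrix.SpecialLinearGroup.map f m_59
  rw [map_mul, Subgroup.coe_mul, t_43, θ0_y, toSU_val, ← map_mul]
  exact congrArg _ (by decide)
theorem t_60 : (θ0 f r60).1 = Matrix.SpecialLinearGroup.map f m_60 := by
  show (θ0 f (r44 * y)).1 = Matrix.SpecialLinearGroup.map f m_60
  rw [map_mul, Subgroup.coe_mul, t_44, θ0_y, toSU_val, ← map_mul]
  exact congrArg _ (by decide)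
theorem t_61 : (θ0 f r61).1 = Matrix.SpecialLinearGroup.map f m_61 := by
  show (θ0 f (r45 * y)).1 = Matrix.SpecialLinearGroup.map f m_61
  rw [map_mul, Subgroup.coe_mul, t_45, θ0_y, toSU_val, ← map_mul]
  exact congrArg _ (by decide)
theorem t_62 : (θ0 f r62).1 = Matrix.SpecialLinearGroup.map f m_62 := by
  show (θ0 f (r46 * x)).1 = Matrix.SpecialLinearGroup.map f m_62
  rw [map_mul, Subgroup.coe_mul, t_46, θ0_x, toSU_val, ← map_mul]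
  exact congrArg _ (by decide)
theorem t_63 : (θ0 f r63).1 = Matrix.SpecialLinearGroup.map f m_63 := by
  show (θ0 f (r47 * y)).1 = Matrix.SpecialLinearGroup.map f m_63
  rw [map_mul, Subgroup.coe_mul, t_47, θ0_y, toSU_val, ← map_mul]
  exact congrArg _ (by decide)
theorem t_64 : (θ0 f r64).1 = Matrix.SpecialLinearGroup.map f m_64 := by
  show (θ0 f (r48 * x)).1 = Matrix.SpecialLinearGroup.map f m_64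
  rw [map_mul, Subgroup.coe_mul, t_48, θ0_x, toSU_val, ← map_mul]
  exact congrArg _ (by decide)
theorem t_65 : (θ0 f r65).1 = Matrix.SpecialLinearGroup.map f m_65 := by
  show (θ0 f (r49 * x)).1 = Matrix.SpecialLinearGroup.map f m_65
  rw [map_mul, Subgroup.coe_mul, t_49, θ0_x, toSU_val, ← map_mul]
  exact congrArg _ (by decide)
theorem t_66 : (θ0 f r66).1 = Matrix.SpecialLinearGroup.map f m_66 := by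
  show (θ0 f (r51 * x)).1 = Matrix.SpecialLinearGroup.map f m_66
  rw [map_mul, Subgroup.coe_mul, t_51, θ0_x, toSU_val, ← map_mul]
  exact congrArg _ (by decide)
theorem t_67 : (θ0 f r67).1 = Matrix.SpecialLinearGroup.map f m_67 := by
  show (θ0 f (r52 * x)).1 = Matrix.SpecialLinearGroup.map f m_67
  rw [map_mul, Subgroup.coe_mul, t_52, θ0_x, toSU_val, ← map_mul]
  exact congrArg _ (by decide)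
theorem t_68 : (θ0 f r68).1 = Matrix.SpecialLinearGroup.map f m_68 := by
  show (θ0 f (r52 * y)).1 = Matrix.SpecialLinearGroup.map f m_68
  rw [map_mul, Subgroup.coe_mul, t_52, θ0_y, toSU_val, ← map_mul]
  exact congrArg _ (by decide)
theorem t_69 : (θ0 f r69).1 = Matrix.SpecialLinearGroup.map f m_69 := by
  show (θ0 f (r53 * x)).1 = Matrix.SpecialLinearGroup.map f m_69
  rw [map_mul, Subgroup.coe_mul, t_53, θ0_x, toSU_val, ← map_mul]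
  exact congrArg _ (by decide)
theorem t_70 : (θ0 f r70).1 = Matrix.SpecialLinearGroup.map f m_70 := by
  show (θ0 f (r53 * y)).1 = Matrix.SpecialLinearGroup.map f m_70
  rw [map_mul, Subgroup.coe_mul, t_53, θ0_y, toSU_val, ← map_mul]
  exact congrArg _ (by decide)
theorem t_71 : (θ0 f r71).1 = Matrix.SpecialLinearGroup.map f m_71 := by
  show (θ0 f (r54 * y)).1 = Matrix.SpecialLinearGroup.map f m_71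
  rw [map_mul, Subgroup.coe_mul, t_54, θ0_y, toSU_val, ← map_mul]
  exact congrArg _ (by decide)
theorem t_72 : (θ0 f r72).1 = Matrix.SpecialLinearGroup.map f m_72 := by
  show (θ0 f (r55 * x)).1 = Matrix.SpecialLinearGroup.map f m_72
  rw [map_mul, Subgroup.coe_mul, t_55, θ0_x, toSU_val, ← map_mul]
  exact congrArg _ (by decide)
theorem t_73 : (θ0 f r73).1 = Matrix.SpecialLinearGroup.map f m_73 := by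
  show (θ0 f (r55 * y)).1 = Matrix.SpecialLinearGroup.map f m_73
  rw [map_mul, Subgroup.coe_mul, t_55, θ0_y, toSU_val, ← map_mul]
  exact congrArg _ (by decide)
theorem t_74 : (θ0 f r74).1 = Matrix.SpecialLinearGroup.map f m_74 := by
  show (θ0 f (r56 * y)).1 = Matrix.SpecialLinearGroup.map f m_74
  rw [map_mul, Subgroup.coe_mul, t_56, θ0_y, toSU_val, ← map_mul]
  exact congrArg _ (by decide)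
theorem t_75 : (θ0 f r75).1 = Matrix.SpecialLinearGroup.map f m_75 := by
  show (θ0 f (r57 * y)).1 = Matrix.SpecialLinearGroup.map f m_75
  rw [map_mul, Subgroup.coe_mul, t_57, θ0_y, toSU_val, ← map_mul]
  exact congrArg _ (by decide)
theorem t_76 : (θ0 f r76).1 = Matrix.SpecialLinearGroup.map f m_76 := by
  show (θ0 f (r59 * x)).1 = Matrix.SpecialLinearGroup.map f m_76
  rw [map_mul, Subgroup.coe_mul, t_59, θ0_x, toSU_val, ← map_mul]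
  exact congrArg _ (by decide)
theorem t_77 : (θ0 f r77).1 = Matrix.SpecialLinearGroup.map f m_77 := by
  show (θ0 f (r60 * x)).1 = Matrix.SpecialLinearGroup.map f m_77
  rw [map_mul, Subgroup.coe_mul, t_60, θ0_x, toSU_val, ← map_mul]
  exact congrArg _ (by decide)
theorem t_78 : (θ0 f r78).1 = Matrix.SpecialLinearGroup.map f m_78 := by
  show (θ0 f (r60 * y)).1 = Matrix.SpecialLinearGroup.map f m_78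
  rw [map_mul, Subgroup.coe_mul, t_60, θ0_y, toSU_val, ← map_mul]
  exact congrArg _ (by decide)
theorem t_79 : (θ0 f r79).1 = Matrix.SpecialLinearGroup.map f m_79 := by
  show (θ0 f (r61 * x)).1 = Matrix.SpecialLinearGroup.map f m_79
  rw [map_mul, Subgroup.coe_mul, t_61, θ0_x, toSU_val, ← map_mul]
  exact congrArg _ (by decide)
theorem t_80 : (θ0 f r80).1 = Matrix.SpecialLinearGroup.map f m_80 := by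
  show (θ0 f (r61 * y)).1 = Matrix.SpecialLinearGroup.map f m_80
  rw [map_mul, Subgroup.coe_mul, t_61, θ0_y, toSU_val, ← map_mul]
  exact congrArg _ (by decide)
theorem t_81 : (θ0 f r81).1 = Matrix.SpecialLinearGroup.map f m_81 := by
  show (θ0 f (r62 * y)).1 = Matrix.SpecialLinearGroup.map f m_81
  rw [map_mul, Subgroup.coe_mul, t_62, θ0_y, toSU_val, ← map_mul]
  exact congrArg _ (by decide)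
theorem t_82 : (θ0 f r82).1 = Matrix.SpecialLinearGroup.map f m_82 := by
  show (θ0 f (r63 * x)).1 = Matrix.SpecialLinearGroup.map f m_82
  rw [map_mul, Subgroup.coe_mul, t_63, θ0_x, toSU_val, ← map_mul]
  exact congrArg _ (by decide)
theorem t_83 : (θ0 f r83).1 = Matrix.SpecialLinearGroup.map f m_83 := by
  show (θ0 f (r63 * y)).1 = Matrix.SpecialLinearGroup.map f m_83
  rw [map_mul, Subgroup.coe_mul, t_63, θ0_y, toSU_val, ← map_mul]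
  exact congrArg _ (by decide)
theorem t_84 : (θ0 f r84).1 = Matrix.SpecialLinearGroup.map f m_84 := by
  show (θ0 f (r64 * y)).1 = Matrix.SpecialLinearGroup.map f m_84
  rw [map_mul, Subgroup.coe_mul, t_64, θ0_y, toSU_val, ← map_mul]
  exact congrArg _ (by decide)
theorem t_85 : (θ0 f r85).1 = Matrix.SpecialLinearGroup.map f m_85 := by
  show (θ0 f (r65 * y)).1 = Matrix.SpecialLinearGroup.map f m_85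
  rw [map_mul, Subgroup.coe_mul, t_65, θ0_y, toSU_val, ← map_mul]
  exact congrArg _ (by decide)
theorem t_86 : (θ0 f r86).1 = Matrix.SpecialLinearGroup.map f m_86 := by
  show (θ0 f (r66 * y)).1 = Matrix.SpecialLinearGroup.map f m_86
  rw [map_mul, Subgroup.coe_mul, t_66, θ0_y, toSU_val, ← map_mul]
  exact congrArg _ (by decide)
theorem t_87 : (θ0 f r87).1 = Matrix.SpecialLinearGroup.map f m_87 := by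
  show (θ0 f (r67 * y)).1 = Matrix.SpecialLinearGroup.map f m_87
  rw [map_mul, Subgroup.coe_mul, t_67, θ0_y, toSU_val, ← map_mul]
  exact congrArg _ (by decide)
theorem t_88 : (θ0 f r88).1 = Matrix.SpecialLinearGroup.map f m_88 := by
  show (θ0 f (r68 * x)).1 = Matrix.SpecialLinearGroup.map f m_88
  rw [map_mul, Subgroup.coe_mul, t_68, θ0_x, toSU_val, ← map_mul]
  exact congrArg _ (by decide)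
theorem t_89 : (θ0 f r89).1 = Matrix.SpecialLinearGroup.map f m_89 := by
  show (θ0 f (r69 * y)).1 = Matrix.SpecialLinearGroup.map f m_89
  rw [map_mul, Subgroup.coe_mul, t_69, θ0_y, toSU_val, ← map_mul]
  exact congrArg _ (by decide)
theorem t_90 : (θ0 f r90).1 = Matrix.SpecialLinearGroup.map f m_90 := by
  show (θ0 f (r71 * x)).1 = Matrix.SpecialLinearGroup.map f m_90
  rw [map_mul, Subgroup.coe_mul, t_71, θ0_x, toSU_val, ← map_mul]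
  exact congrArg _ (by decide)
theorem t_91 : (θ0 f r91).1 = Matrix.SpecialLinearGroup.map f m_91 := by
  show (θ0 f (r73 * x)).1 = Matrix.SpecialLinearGroup.map f m_91
  rw [map_mul, Subgroup.coe_mul, t_73, θ0_x, toSU_val, ← map_mul]
  exact congrArg _ (by decide)
theorem t_92 : (θ0 f r92).1 = Matrix.SpecialLinearGroup.map f m_92 := by
  show (θ0 f (r74 * y)).1 = Matrix.SpecialLinearGroup.map f m_92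
  rw [map_mul, Subgroup.coe_mul, t_74, θ0_y, toSU_val, ← map_mul]
  exact congrArg _ (by decide)
theorem t_93 : (θ0 f r93).1 = Matrix.SpecialLinearGroup.map f m_93 := by
  show (θ0 f (r75 * x)).1 = Matrix.SpecialLinearGroup.map f m_93
  rw [map_mul, Subgroup.coe_mul, t_75, θ0_x, toSU_val, ← map_mul]
  exact congrArg _ (by decide)
theorem t_94 : (θ0 f r94).1 = Matrix.SpecialLinearGroup.map f m_94 := by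
  show (θ0 f (r75 * y)).1 = Matrix.SpecialLinearGroup.map f m_94
  rw [map_mul, Subgroup.coe_mul, t_75, θ0_y, toSU_val, ← map_mul]
  exact congrArg _ (by decide)
theorem t_95 : (θ0 f r95).1 = Matrix.SpecialLinearGroup.map f m_95 := by
  show (θ0 f (r76 * y)).1 = Matrix.SpecialLinearGroup.map f m_95
  rw [map_mul, Subgroup.coe_mul, t_76, θ0_y, toSU_val, ← map_mul]
  exact congrArg _ (by decide)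
theorem t_96 : (θ0 f r96).1 = Matrix.SpecialLinearGroup.map f m_96 := by
  show (θ0 f (r77 * y)).1 = Matrix.SpecialLinearGroup.map f m_96
  rw [map_mul, Subgroup.coe_mul, t_77, θ0_y, toSU_val, ← map_mul]
  exact congrArg _ (by decide)
theorem t_97 : (θ0 f r97).1 = Matrix.SpecialLinearGroup.map f m_97 := by
  show (θ0 f (r78 * x)).1 = Matrix.SpecialLinearGroup.map f m_97
  rw [map_mul, Subgroup.coe_mul, t_78, θ0_x, toSU_val, ← map_mul]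
  exact congrArg _ (by decide)
theorem t_98 : (θ0 f r98).1 = Matrix.SpecialLinearGroup.map f m_98 := by
  show (θ0 f (r79 * y)).1 = Matrix.SpecialLinearGroup.map f m_98
  rw [map_mul, Subgroup.coe_mul, t_79, θ0_y, toSU_val, ← map_mul]
  exact congrArg _ (by decide)
theorem t_99 : (θ0 f r99).1 = Matrix.SpecialLinearGroup.map f m_99 := by
  show (θ0 f (r81 * x)).1 = Matrix.SpecialLinearGroup.map f m_99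
  rw [map_mul, Subgroup.coe_mul, t_81, θ0_x, toSU_val, ← map_mul]
  exact congrArg _ (by decide)
theorem t_100 : (θ0 f r100).1 = Matrix.SpecialLinearGroup.map f m_100 := by
  show (θ0 f (r83 * x)).1 = Matrix.SpecialLinearGroup.map f m_100
  rw [map_mul, Subgroup.coe_mul, t_83, θ0_x, toSU_val, ← map_mul]
  exact congrArg _ (by decide)
theorem t_101 : (θ0 f r101).1 = Matrix.SpecialLinearGroup.map f m_101 := by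
  show (θ0 f (r84 * y)).1 = Matrix.SpecialLinearGroup.map f m_101
  rw [map_mul, Subgroup.coe_mul, t_84, θ0_y, toSU_val, ← map_mul]
  exact congrArg _ (by decide)
theorem t_102 : (θ0 f r102).1 = Matrix.SpecialLinearGroup.map f m_102 := by
  show (θ0 f (r85 * x)).1 = Matrix.SpecialLinearGroup.map f m_102
  rw [map_mul, Subgroup.coe_mul, t_85, θ0_x, toSU_val, ← map_mul]
  exact congrArg _ (by decide)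
theorem t_103 : (θ0 f r103).1 = Matrix.SpecialLinearGroup.map f m_103 := by
  show (θ0 f (r85 * y)).1 = Matrix.SpecialLinearGroup.map f m_103
  rw [map_mul, Subgroup.coe_mul, t_85, θ0_y, toSU_val, ← map_mul]
  exact congrArg _ (by decide)
theorem t_104 : (θ0 f r104).1 = Matrix.SpecialLinearGroup.map f m_104 := by
  show (θ0 f (r86 * x)).1 = Matrix.SpecialLinearGroup.map f m_104
  rw [map_mul, Subgroup.coe_mul, t_86, θ0_x, toSU_val, ← map_mul]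
  exact congrArg _ (by decide)
theorem t_105 : (θ0 f r105).1 = Matrix.SpecialLinearGroup.map f m_105 := by
  show (θ0 f (r86 * y)).1 = Matrix.SpecialLinearGroup.map f m_105
  rw [map_mul, Subgroup.coe_mul, t_86, θ0_y, toSU_val, ← map_mul]
  exact congrArg _ (by decide)
theorem t_106 : (θ0 f r106).1 = Matrix.SpecialLinearGroup.map f m_106 := by
  show (θ0 f (r87 * x)).1 = Matrix.SpecialLinearGroup.map f m_106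
  rw [map_mul, Subgroup.coe_mul, t_87, θ0_x, toSU_val, ← map_mul]
  exact congrArg _ (by decide)
theorem t_107 : (θ0 f r107).1 = Matrix.SpecialLinearGroup.map f m_107 := by
  show (θ0 f (r87 * y)).1 = Matrix.SpecialLinearGroup.map f m_107
  rw [map_mul, Subgroup.coe_mul, t_87, θ0_y, toSU_val, ← map_mul]
  exact congrArg _ (by decide)
theorem t_108 : (θ0 f r108).1 = Matrix.SpecialLinearGroup.map f m_108 := by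
  show (θ0 f (r88 * y)).1 = Matrix.SpecialLinearGroup.map f m_108
  rw [map_mul, Subgroup.coe_mul, t_88, θ0_y, toSU_val, ← map_mul]
  exact congrArg _ (by decide)
theorem t_109 : (θ0 f r109).1 = Matrix.SpecialLinearGroup.map f m_109 := by
  show (θ0 f (r89 * x)).1 = Matrix.SpecialLinearGroup.map f m_109
  rw [map_mul, Subgroup.coe_mul, t_89, θ0_x, toSU_val, ← map_mul]
  exact congrArg _ (by decide)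
theorem t_110 : (θ0 f r110).1 = Matrix.SpecialLinearGroup.map f m_110 := by
  show (θ0 f (r89 * y)).1 = Matrix.SpecialLinearGroup.map f m_110
  rw [map_mul, Subgroup.coe_mul, t_89, θ0_y, toSU_val, ← map_mul]
  exact congrArg _ (by decide)
theorem t_111 : (θ0 f r111).1 = Matrix.SpecialLinearGroup.map f m_111 := by
  show (θ0 f (r90 * y)).1 = Matrix.SpecialLinearGroup.map f m_111
  rw [map_mul, Subgroup.coe_mul, t_90, θ0_y, toSU_val, ← map_mul]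
  exact congrArg _ (by decide)
theorem t_112 : (θ0 f r112).1 = Matrix.SpecialLinearGroup.map f m_112 := by
  show (θ0 f (r91 * y)).1 = Matrix.SpecialLinearGroup.map f m_112
  rw [map_mul, Subgroup.coe_mul, t_91, θ0_y, toSU_val, ← map_mul]
  exact congrArg _ (by decide)
theorem t_113 : (θ0 f r113).1 = Matrix.SpecialLinearGroup.map f m_113 := by
  show (θ0 f (r92 * x)).1 = Matrix.SpecialLinearGroup.map f m_113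
  rw [map_mul, Subgroup.coe_mul, t_92, θ0_x, toSU_val, ← map_mul]
  exact congrArg _ (by decide)
theorem t_114 : (θ0 f r114).1 = Matrix.SpecialLinearGroup.map f m_114 := by
  show (θ0 f (r93 * y)).1 = Matrix.SpecialLinearGroup.map f m_114
  rw [map_mul, Subgroup.coe_mul, t_93, θ0_y, toSU_val, ← map_mul]
  exact congrArg _ (by decide)
theorem t_115 : (θ0 f r115).1 = Matrix.SpecialLinearGroup.map f m_115 := by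
  show (θ0 f (r95 * x)).1 = Matrix.SpecialLinearGroup.map f m_115
  rw [map_mul, Subgroup.coe_mul, t_95, θ0_x, toSU_val, ← map_mul]
  exact congrArg _ (by decide)
theorem t_116 : (θ0 f r116).1 = Matrix.SpecialLinearGroup.map f m_116 := by
  show (θ0 f (r95 * y)).1 = Matrix.SpecialLinearGroup.map f m_116
  rw [map_mul, Subgroup.coe_mul, t_95, θ0_y, toSU_val, ← map_mul]
  exact congrArg _ (by decide)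
theorem t_117 : (θ0 f r117).1 = Matrix.SpecialLinearGroup.map f m_117 := by
  show (θ0 f (r96 * x)).1 = Matrix.SpecialLinearGroup.map f m_117
  rw [map_mul, Subgroup.coe_mul, t_96, θ0_x, toSU_val, ← map_mul]
  exact congrArg _ (by decide)
theorem t_118 : (θ0 f r118).1 = Matrix.SpecialLinearGroup.map f m_118 := by
  show (θ0 f (r96 * y)).1 = Matrix.SpecialLinearGroup.map f m_118
  rw [map_mul, Subgroup.coe_mul, t_96, θ0_y, toSU_val, ← map_mul]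
  exact congrArg _ (by decide)
theorem t_119 : (θ0 f r119).1 = Matrix.SpecialLinearGroup.map f m_119 := by
  show (θ0 f (r97 * y)).1 = Matrix.SpecialLinearGroup.map f m_119
  rw [map_mul, Subgroup.coe_mul, t_97, θ0_y, toSU_val, ← map_mul]
  exact congrArg _ (by decide)
theorem t_120 : (θ0 f r120).1 = Matrix.SpecialLinearGroup.map f m_120 := by
  show (θ0 f (r98 * x)).1 = Matrix.SpecialLinearGroup.map f m_120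
  rw [map_mul, Subgroup.coe_mul, t_98, θ0_x, toSU_val, ← map_mul]
  exact congrArg _ (by decide)
theorem t_121 : (θ0 f r121).1 = Matrix.SpecialLinearGroup.map f m_121 := by
  show (θ0 f (r98 * y)).1 = Matrix.SpecialLinearGroup.map f m_121
  rw [map_mul, Subgroup.coe_mul, t_98, θ0_y, toSU_val, ← map_mul]
  exact congrArg _ (by decide)
theorem t_122 : (θ0 f r122).1 = Matrix.SpecialLinearGroup.map f m_122 := by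
  show (θ0 f (r99 * y)).1 = Matrix.SpecialLinearGroup.map f m_122
  rw [map_mul, Subgroup.coe_mul, t_99, θ0_y, toSU_val, ← map_mul]
  exact congrArg _ (by decide)
theorem t_123 : (θ0 f r123).1 = Matrix.SpecialLinearGroup.map f m_123 := by
  show (θ0 f (r100 * y)).1 = Matrix.SpecialLinearGroup.map f m_123
  rw [map_mul, Subgroup.coe_mul, t_100, θ0_y, toSU_val, ← map_mul]
  exact congrArg _ (by decide)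
theorem t_124 : (θ0 f r124).1 = Matrix.SpecialLinearGroup.map f m_124 := by
  show (θ0 f (r101 * x)).1 = Matrix.SpecialLinearGroup.map f m_124
  rw [map_mul, Subgroup.coe_mul, t_101, θ0_x, toSU_val, ← map_mul]
  exact congrArg _ (by decide)
theorem t_125 : (θ0 f r125).1 = Matrix.SpecialLinearGroup.map f m_125 := by
  show (θ0 f (r102 * y)).1 = Matrix.SpecialLinearGroup.map f m_125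
  rw [map_mul, Subgroup.coe_mul, t_102, θ0_y, toSU_val, ← map_mul]
  exact congrArg _ (by decide)
theorem t_126 : (θ0 f r126).1 = Matrix.SpecialLinearGroup.map f m_126 := by
  show (θ0 f (r104 * y)).1 = Matrix.SpecialLinearGroup.map f m_126
  rw [map_mul, Subgroup.coe_mul, t_104, θ0_y, toSU_val, ← map_mul]
  exact congrArg _ (by decide)
theorem t_127 : (θ0 f r127).1 = Matrix.SpecialLinearGroup.map f m_127 := by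
  show (θ0 f (r105 * x)).1 = Matrix.SpecialLinearGroup.map f m_127
  rw [map_mul, Subgroup.coe_mul, t_105, θ0_x, toSU_val, ← map_mul]
  exact congrArg _ (by decide)
theorem t_128 : (θ0 f r128).1 = Matrix.SpecialLinearGroup.map f m_128 := by
  show (θ0 f (r106 * y)).1 = Matrix.SpecialLinearGroup.map f m_128
  rw [map_mul, Subgroup.coe_mul, t_106, θ0_y, toSU_val, ← map_mul]
  exact congrArg _ (by decide)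
theorem t_129 : (θ0 f r129).1 = Matrix.SpecialLinearGroup.map f m_129 := by
  show (θ0 f (r108 * x)).1 = Matrix.SpecialLinearGroup.map f m_129
  rw [map_mul, Subgroup.coe_mul, t_108, θ0_x, toSU_val, ← map_mul]
  exact congrArg _ (by decide)
theorem t_130 : (θ0 f r130).1 = Matrix.SpecialLinearGroup.map f m_130 := by
  show (θ0 f (r110 * x)).1 = Matrix.SpecialLinearGroup.map f m_130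
  rw [map_mul, Subgroup.coe_mul, t_110, θ0_x, toSU_val, ← map_mul]
  exact congrArg _ (by decide)
theorem t_131 : (θ0 f r131).1 = Matrix.SpecialLinearGroup.map f m_131 := by
  show (θ0 f (r111 * x)).1 = Matrix.SpecialLinearGroup.map f m_131
  rw [map_mul, Subgroup.coe_mul, t_111, θ0_x, toSU_val, ← map_mul]
  exact congrArg _ (by decide)
theorem t_132 : (θ0 f r132).1 = Matrix.SpecialLinearGroup.map f m_132 := by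
  show (θ0 f (r111 * y)).1 = Matrix.SpecialLinearGroup.map f m_132
  rw [map_mul, Subgroup.coe_mul, t_111, θ0_y, toSU_val, ← map_mul]
  exact congrArg _ (by decide)
theorem t_133 : (θ0 f r133).1 = Matrix.SpecialLinearGroup.map f m_133 := by
  show (θ0 f (r112 * x)).1 = Matrix.SpecialLinearGroup.map f m_133
  rw [map_mul, Subgroup.coe_mul, t_112, θ0_x, toSU_val, ← map_mul]
  exact congrArg _ (by decide)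
theorem t_134 : (θ0 f r134).1 = Matrix.SpecialLinearGroup.map f m_134 := by
  show (θ0 f (r112 * y)).1 = Matrix.SpecialLinearGroup.map f m_134
  rw [map_mul, Subgroup.coe_mul, t_112, θ0_y, toSU_val, ← map_mul]
  exact congrArg _ (by decide)
theorem t_135 : (θ0 f r135).1 = Matrix.SpecialLinearGroup.map f m_135 := by
  show (θ0 f (r113 * y)).1 = Matrix.SpecialLinearGroup.map f m_135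
  rw [map_mul, Subgroup.coe_mul, t_113, θ0_y, toSU_val, ← map_mul]
  exact congrArg _ (by decide)
theorem t_136 : (θ0 f r136).1 = Matrix.SpecialLinearGroup.map f m_136 := by
  show (θ0 f (r114 * x)).1 = Matrix.SpecialLinearGroup.map f m_136
  rw [map_mul, Subgroup.coe_mul, t_114, θ0_x, toSU_val, ← map_mul]
  exact congrArg _ (by decide)
theorem t_137 : (θ0 f r137).1 = Matrix.SpecialLinearGroup.map f m_137 := by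
  show (θ0 f (r114 * y)).1 = Matrix.SpecialLinearGroup.map f m_137
  rw [map_mul, Subgroup.coe_mul, t_114, θ0_y, toSU_val, ← map_mul]
  exact congrArg _ (by decide)
theorem t_138 : (θ0 f r138).1 = Matrix.SpecialLinearGroup.map f m_138 := by
  show (θ0 f (r115 * y)).1 = Matrix.SpecialLinearGroup.map f m_138
  rw [map_mul, Subgroup.coe_mul, t_115, θ0_y, toSU_val, ← map_mul]
  exact congrArg _ (by decide)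
theorem t_139 : (θ0 f r139).1 = Matrix.SpecialLinearGroup.map f m_139 := by
  show (θ0 f (r116 * x)).1 = Matrix.SpecialLinearGroup.map f m_139
  rw [map_mul, Subgroup.coe_mul, t_116, θ0_x, toSU_val, ← map_mul]
  exact congrArg _ (by decide)
theorem t_140 : (θ0 f r140).1 = Matrix.SpecialLinearGroup.map f m_140 := by
  show (θ0 f (r117 * y)).1 = Matrix.SpecialLinearGroup.map f m_140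
  rw [map_mul, Subgroup.coe_mul, t_117, θ0_y, toSU_val, ← map_mul]
  exact congrArg _ (by decide)
theorem t_141 : (θ0 f r141).1 = Matrix.SpecialLinearGroup.map f m_141 := by
  show (θ0 f (r119 * x)).1 = Matrix.SpecialLinearGroup.map f m_141
  rw [map_mul, Subgroup.coe_mul, t_119, θ0_x, toSU_val, ← map_mul]
  exact congrArg _ (by decide)
theorem t_142 : (θ0 f r142).1 = Matrix.SpecialLinearGroup.map f m_142 := by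
  show (θ0 f (r121 * x)).1 = Matrix.SpecialLinearGroup.map f m_142
  rw [map_mul, Subgroup.coe_mul, t_121, θ0_x, toSU_val, ← map_mul]
  exact congrArg _ (by decide)
theorem t_143 : (θ0 f r143).1 = Matrix.SpecialLinearGroup.map f m_143 := by
  show (θ0 f (r122 * x)).1 = Matrix.SpecialLinearGroup.map f m_143
  rw [map_mul, Subgroup.coe_mul, t_122, θ0_x, toSU_val, ← map_mul]
  exact congrArg _ (by decide)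
theorem t_144 : (θ0 f r144).1 = Matrix.SpecialLinearGroup.map f m_144 := by
  show (θ0 f (r122 * y)).1 = Matrix.SpecialLinearGroup.map f m_144
  rw [map_mul, Subgroup.coe_mul, t_122, θ0_y, toSU_val, ← map_mul]
  exact congrArg _ (by decide)
theorem t_145 : (θ0 f r145).1 = Matrix.SpecialLinearGroup.map f m_145 := by
  show (θ0 f (r123 * x)).1 = Matrix.SpecialLinearGroup.map f m_145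
  rw [map_mul, Subgroup.coe_mul, t_123, θ0_x, toSU_val, ← map_mul]
  exact congrArg _ (by decide)
theorem t_146 : (θ0 f r146).1 = Matrix.SpecialLinearGroup.map f m_146 := by
  show (θ0 f (r123 * y)).1 = Matrix.SpecialLinearGroup.map f m_146
  rw [map_mul, Subgroup.coe_mul, t_123, θ0_y, toSU_val, ← map_mul]
  exact congrArg _ (by decide)
theorem t_147 : (θ0 f r147).1 = Matrix.SpecialLinearGroup.map f m_147 := by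
  show (θ0 f (r124 * y)).1 = Matrix.SpecialLinearGroup.map f m_147
  rw [map_mul, Subgroup.coe_mul, t_124, θ0_y, toSU_val, ← map_mul]
  exact congrArg _ (by decide)
theorem t_148 : (θ0 f r148).1 = Matrix.SpecialLinearGroup.map f m_148 := by
  show (θ0 f (r125 * x)).1 = Matrix.SpecialLinearGroup.map f m_148
  rw [map_mul, Subgroup.coe_mul, t_125, θ0_x, toSU_val, ← map_mul]
  exact congrArg _ (by decide)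
theorem t_149 : (θ0 f r149).1 = Matrix.SpecialLinearGroup.map f m_149 := by
  show (θ0 f (r125 * y)).1 = Matrix.SpecialLinearGroup.map f m_149
  rw [map_mul, Subgroup.coe_mul, t_125, θ0_y, toSU_val, ← map_mul]
  exact congrArg _ (by decide)
theorem t_150 : (θ0 f r150).1 = Matrix.SpecialLinearGroup.map f m_150 := by
  show (θ0 f (r126 * x)).1 = Matrix.SpecialLinearGroup.map f m_150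
  rw [map_mul, Subgroup.coe_mul, t_126, θ0_x, toSU_val, ← map_mul]
  exact congrArg _ (by decide)
theorem t_151 : (θ0 f r151).1 = Matrix.SpecialLinearGroup.map f m_151 := by
  show (θ0 f (r126 * y)).1 = Matrix.SpecialLinearGroup.map f m_151
  rw [map_mul, Subgroup.coe_mul, t_126, θ0_y, toSU_val, ← map_mul]
  exact congrArg _ (by decide)
theorem t_152 : (θ0 f r152).1 = Matrix.SpecialLinearGroup.map f m_152 := by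
  show (θ0 f (r128 * x)).1 = Matrix.SpecialLinearGroup.map f m_152
  rw [map_mul, Subgroup.coe_mul, t_128, θ0_x, toSU_val, ← map_mul]
  exact congrArg _ (by decide)
theorem t_153 : (θ0 f r153).1 = Matrix.SpecialLinearGroup.map f m_153 := by
  show (θ0 f (r128 * y)).1 = Matrix.SpecialLinearGroup.map f m_153
  rw [map_mul, Subgroup.coe_mul, t_128, θ0_y, toSU_val, ← map_mul]
  exact congrArg _ (by decide)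
theorem t_154 : (θ0 f r154).1 = Matrix.SpecialLinearGroup.map f m_154 := by
  show (θ0 f (r129 * y)).1 = Matrix.SpecialLinearGroup.map f m_154
  rw [map_mul, Subgroup.coe_mul, t_129, θ0_y, toSU_val, ← map_mul]
  exact congrArg _ (by decide)
theorem t_155 : (θ0 f r155).1 = Matrix.SpecialLinearGroup.map f m_155 := by
  show (θ0 f (r130 * y)).1 = Matrix.SpecialLinearGroup.map f m_155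
  rw [map_mul, Subgroup.coe_mul, t_130, θ0_y, toSU_val, ← map_mul]
  exact congrArg _ (by decide)
theorem t_156 : (θ0 f r156).1 = Matrix.SpecialLinearGroup.map f m_156 := by
  show (θ0 f (r133 * y)).1 = Matrix.SpecialLinearGroup.map f m_156
  rw [map_mul, Subgroup.coe_mul, t_133, θ0_y, toSU_val, ← map_mul]
  exact congrArg _ (by decide)
theorem t_157 : (θ0 f r157).1 = Matrix.SpecialLinearGroup.map f m_157 := by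
  show (θ0 f (r134 * x)).1 = Matrix.SpecialLinearGroup.map f m_157
  rw [map_mul, Subgroup.coe_mul, t_134, θ0_x, toSU_val, ← map_mul]
  exact congrArg _ (by decide)
theorem t_158 : (θ0 f r158).1 = Matrix.SpecialLinearGroup.map f m_158 := by
  show (θ0 f (r135 * x)).1 = Matrix.SpecialLinearGroup.map f m_158
  rw [map_mul, Subgroup.coe_mul, t_135, θ0_x, toSU_val, ← map_mul]
  exact congrArg _ (by decide)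
theorem t_159 : (θ0 f r159).1 = Matrix.SpecialLinearGroup.map f m_159 := by
  show (θ0 f (r137 * x)).1 = Matrix.SpecialLinearGroup.map f m_159
  rw [map_mul, Subgroup.coe_mul, t_137, θ0_x, toSU_val, ← map_mul]
  exact congrArg _ (by decide)
theorem t_160 : (θ0 f r160).1 = Matrix.SpecialLinearGroup.map f m_160 := by
  show (θ0 f (r138 * y)).1 = Matrix.SpecialLinearGroup.map f m_160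
  rw [map_mul, Subgroup.coe_mul, t_138, θ0_y, toSU_val, ← map_mul]
  exact congrArg _ (by decide)
theorem t_161 : (θ0 f r161).1 = Matrix.SpecialLinearGroup.map f m_161 := by
  show (θ0 f (r141 * y)).1 = Matrix.SpecialLinearGroup.map f m_161
  rw [map_mul, Subgroup.coe_mul, t_141, θ0_y, toSU_val, ← map_mul]
  exact congrArg _ (by decide)
theorem t_162 : (θ0 f r162).1 = Matrix.SpecialLinearGroup.map f m_162 := by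
  show (θ0 f (r142 * y)).1 = Matrix.SpecialLinearGroup.map f m_162
  rw [map_mul, Subgroup.coe_mul, t_142, θ0_y, toSU_val, ← map_mul]
  exact congrArg _ (by decide)
theorem t_163 : (θ0 f r163).1 = Matrix.SpecialLinearGroup.map f m_163 := by
  show (θ0 f (r146 * x)).1 = Matrix.SpecialLinearGroup.map f m_163
  rw [map_mul, Subgroup.coe_mul, t_146, θ0_x, toSU_val, ← map_mul]
  exact congrArg _ (by decide)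
theorem t_164 : (θ0 f r164).1 = Matrix.SpecialLinearGroup.map f m_164 := by
  show (θ0 f (r147 * x)).1 = Matrix.SpecialLinearGroup.map f m_164
  rw [map_mul, Subgroup.coe_mul, t_147, θ0_x, toSU_val, ← map_mul]
  exact congrArg _ (by decide)
theorem t_165 : (θ0 f r165).1 = Matrix.SpecialLinearGroup.map f m_165 := by
  show (θ0 f (r149 * x)).1 = Matrix.SpecialLinearGroup.map f m_165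
  rw [map_mul, Subgroup.coe_mul, t_149, θ0_x, toSU_val, ← map_mul]
  exact congrArg _ (by decide)
theorem t_166 : (θ0 f r166).1 = Matrix.SpecialLinearGroup.map f m_166 := by
  show (θ0 f (r155 * x)).1 = Matrix.SpecialLinearGroup.map f m_166
  rw [map_mul, Subgroup.coe_mul, t_155, θ0_x, toSU_val, ← map_mul]
  exact congrArg _ (by decide)
theorem t_167 : (θ0 f r167).1 = Matrix.SpecialLinearGroup.map f m_167 := by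
  show (θ0 f (r162 * x)).1 = Matrix.SpecialLinearGroup.map f m_167
  rw [map_mul, Subgroup.coe_mul, t_162, θ0_x, toSU_val, ← map_mul]
  exact congrArg _ (by decide)
theorem θ0_rep : ∀ i : Fin 168, (θ0 f (rep i)).1 = Matrix.SpecialLinearGroup.map f (M i)
  | ⟨0, _⟩ => t_0 f
  | ⟨1, _⟩ => t_1 f
  | ⟨2, _⟩ => t_2 f
  | ⟨3, _⟩ => t_3 f
  | ⟨4, _⟩ => t_4 f
  | ⟨5, _⟩ => t_5 f
  | ⟨6, _⟩ => t_6 f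
  | ⟨7, _⟩ => t_7 f
  | ⟨8, _⟩ => t_8 f
  | ⟨9, _⟩ => t_9 f
  | ⟨10, _⟩ => t_10 f
  | ⟨11, _⟩ => t_11 f
  | ⟨12, _⟩ => t_12 f
  | ⟨13, _⟩ => t_13 f
  | ⟨14, _⟩ => t_14 f
  | ⟨15, _⟩ => t_15 f
  | ⟨16, _⟩ => t_16 f
  | ⟨17, _⟩ => t_17 f
  | ⟨18, _⟩ => t_18 f
  | ⟨19, _⟩ => t_19 f
  | ⟨20, _⟩ => t_20 f
  | ⟨21, _⟩ => t_21 f
  | ⟨22, _⟩ => t_22 f
  | ⟨23, _⟩ => t_23 f
  | ⟨24, _⟩ => t_24 f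
  | ⟨25, _⟩ => t_25 f
  | ⟨26, _⟩ => t_26 f
  | ⟨27, _⟩ => t_27 f
  | ⟨28, _⟩ => t_28 f
  | ⟨29, _⟩ => t_29 f
  | ⟨30, _⟩ => t_30 f
  | ⟨31, _⟩ => t_31 f
  | ⟨32, _⟩ => t_32 f
  | ⟨33, _⟩ => t_33 f
  | ⟨34, _⟩ => t_34 f
  | ⟨35, _⟩ => t_35 f
  | ⟨36, _⟩ => t_36 f
  | ⟨37, _⟩ => t_37 f
  | ⟨38, _⟩ => t_38 f
  | ⟨39, _⟩ => t_39 f
  | ⟨40, _⟩ => t_40 f
  | ⟨41, _⟩ => t_41 f
  | ⟨42, _⟩ => t_42 f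
  | ⟨43, _⟩ => t_43 f
  | ⟨44, _⟩ => t_44 f
  | ⟨45, _⟩ => t_45 f
  | ⟨46, _⟩ => t_46 f
  | ⟨47, _⟩ => t_47 f
  | ⟨48, _⟩ => t_48 f
  | ⟨49, _⟩ => t_49 f
  | ⟨50, _⟩ => t_50 f
  | ⟨51, _⟩ => t_51 f
  | ⟨52, _⟩ => t_52 f
  | ⟨53, _⟩ => t_53 f
  | ⟨54, _⟩ => t_54 f
  | ⟨55, _⟩ => t_55 f
  | ⟨56, _⟩ => t_56 f
  | ⟨57, _⟩ => t_57 f
  | ⟨58, _⟩ => t_58 f
  | ⟨59, _⟩ => t_59 f
  | ⟨60, _⟩ => t_60 f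
  | ⟨61, _⟩ => t_61 f
  | ⟨62, _⟩ => t_62 f
  | ⟨63, _⟩ => t_63 f
  | ⟨64, _⟩ => t_64 f
  | ⟨65, _⟩ => t_65 f
  | ⟨66, _⟩ => t_66 f
  | ⟨67, _⟩ => t_67 f
  | ⟨68, _⟩ => t_68 f
  | ⟨69, _⟩ => t_69 f
  | ⟨70, _⟩ => t_70 f
  | ⟨71, _⟩ => t_71 f
  | ⟨72, _⟩ => t_72 f
  | ⟨73, _⟩ => t_73 f
  | ⟨74, _⟩ => t_74 f
  | ⟨75, _⟩ => t_75 f
  | ⟨76, _⟩ => t_76 f
  | ⟨77, _⟩ => t_77 f
  | ⟨78, _⟩ => t_78 f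
  | ⟨79, _⟩ => t_79 f
  | ⟨80, _⟩ => t_80 f
  | ⟨81, _⟩ => t_81 f
  | ⟨82, _⟩ => t_82 f
  | ⟨83, _⟩ => t_83 f
  | ⟨84, _⟩ => t_84 f
  | ⟨85, _⟩ => t_85 f
  | ⟨86, _⟩ => t_86 f
  | ⟨87, _⟩ => t_87 f
  | ⟨88, _⟩ => t_88 f
  | ⟨89, _⟩ => t_89 f
  | ⟨90, _⟩ => t_90 f
  | ⟨91, _⟩ => t_91 f
  | ⟨92, _⟩ => t_92 f
  | ⟨93, _⟩ => t_93 f
  | ⟨94, _⟩ => t_94 f
  | ⟨95, _⟩ => t_95 f
  | ⟨96, _⟩ => t_96 f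
  | ⟨97, _⟩ => t_97 f
  | ⟨98, _⟩ => t_98 f
  | ⟨99, _⟩ => t_99 f
  | ⟨100, _⟩ => t_100 f
  | ⟨101, _⟩ => t_101 f
  | ⟨102, _⟩ => t_102 f
  | ⟨103, _⟩ => t_103 f
  | ⟨104, _⟩ => t_104 f
  | ⟨105, _⟩ => t_105 f
  | ⟨106, _⟩ => t_106 f
  | ⟨107, _⟩ => t_107 f
  | ⟨108, _⟩ => t_108 f
  | ⟨109, _⟩ => t_109 f
  | ⟨110, _⟩ => t_110 f
  | ⟨111, _⟩ => t_111 f
  | ⟨112, _⟩ => t_112 f
  | ⟨113, _⟩ => t_113 f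
  | ⟨114, _⟩ => t_114 f
  | ⟨115, _⟩ => t_115 f
  | ⟨116, _⟩ => t_116 f
  | ⟨117, _⟩ => t_117 f
  | ⟨118, _⟩ => t_118 f
  | ⟨119, _⟩ => t_119 f
  | ⟨120, _⟩ => t_120 f
  | ⟨121, _⟩ => t_121 f
  | ⟨122, _⟩ => t_122 f
  | ⟨123, _⟩ => t_123 f
  | ⟨124, _⟩ => t_124 f
  | ⟨125, _⟩ => t_125 f
  | ⟨126, _⟩ => t_126 f
  | ⟨127, _⟩ => t_127 f
  | ⟨128, _⟩ => t_128 f
  | ⟨129, _⟩ => t_129 f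
  | ⟨130, _⟩ => t_130 f
  | ⟨131, _⟩ => t_131 f
  | ⟨132, _⟩ => t_132 f
  | ⟨133, _⟩ => t_133 f
  | ⟨134, _⟩ => t_134 f
  | ⟨135, _⟩ => t_135 f
  | ⟨136, _⟩ => t_136 f
  | ⟨137, _⟩ => t_137 f
  | ⟨138, _⟩ => t_138 f
  | ⟨139, _⟩ => t_139 f
  | ⟨140, _⟩ => t_140 f
  | ⟨141, _⟩ => t_141 f
  | ⟨142, _⟩ => t_142 f
  | ⟨143, _⟩ => t_143 f
  | ⟨144, _⟩ => t_144 f
  | ⟨145, _⟩ => t_145 f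
  | ⟨146, _⟩ => t_146 f
  | ⟨147, _⟩ => t_147 f
  | ⟨148, _⟩ => t_148 f
  | ⟨149, _⟩ => t_149 f
  | ⟨150, _⟩ => t_150 f
  | ⟨151, _⟩ => t_151 f
  | ⟨152, _⟩ => t_152 f
  | ⟨153, _⟩ => t_153 f
  | ⟨154, _⟩ => t_154 f
  | ⟨155, _⟩ => t_155 f
  | ⟨156, _⟩ => t_156 f
  | ⟨157, _⟩ => t_157 f
  | ⟨158, _⟩ => t_158 f
  | ⟨159, _⟩ => t_159 f
  | ⟨160, _⟩ => t_160 f
  | ⟨161, _⟩ => t_161 f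
  | ⟨162, _⟩ => t_162 f
  | ⟨163, _⟩ => t_163 f
  | ⟨164, _⟩ => t_164 f
  | ⟨165, _⟩ => t_165 f
  | ⟨166, _⟩ => t_166 f
  | ⟨167, _⟩ => t_167 f
  | ⟨n+168, h⟩ => absurd h (by omega)

theorem map_inj : Function.Injective (Matrix.SpecialLinearGroup.map (n := Fin 3) f) := by
  intro A B h
  apply Subtype.ext
  apply Matrix.ext
  intro i j
  have h1 := congrArg (fun X : Matrix.SpecialLinearGroup (Fin 3) F => X.1 i j) h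
  simp only [Matrix.SpecialLinearGroup.map_apply_coe, RingHom.mapMatrix_apply, Matrix.map_apply] at h1
  exact RingHom.injective f h1

/-- `P → PSU(3, F)`. -/
noncomputable def θ : P →* Cfsg.PSU 3 F 3 :=
  (QuotientGroup.mk' (Subgroup.center (Cfsg.SU 3 F 3))).comp (θ0 f)

theorem θ_inj : Function.Injective (θ f) := by
  rw [injective_iff_map_eq_one]
  intro p hp
  have hc : θ0 f p ∈ Subgroup.center (Cfsg.SU 3 F 3) := by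
    have : (QuotientGroup.mk' (Subgroup.center (Cfsg.SU 3 F 3))) (θ0 f p) = 1 := hp
    rwa [QuotientGroup.mk'_apply, QuotientGroup.eq_one_iff] at this
  rw [Subgroup.mem_center_iff] at hc
  obtain ⟨i, rfl⟩ := rep_surj p
  have h1 := congrArg Subtype.val (hc (toSU f gX hX))
  have h2 := congrArg Subtype.val (hc (toSU f gY hY))
  rw [Subgroup.coe_mul, Subgroup.coe_mul, θ0_rep, toSU_val, ← map_mul, ← map_mul] at h1 h2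
  have h1' := map_inj f h1
  have h2' := map_inj f h2
  rw [cen i h1'.symm h2'.symm]
  rfl

end target

/-- The projective special unitary group PSU₃(3) (realised over the field with 9 elements) has a subgroup isomorphic to PSL₂(7). -/
theorem result {F : Type*} [Field F] [Fintype F] (hF : Fintype.card F = 9)
    {K : Type*} [Field K] [Fintype K] (hK : Fintype.card K = 7) :
    ∃ H : Subgroup (Cfsg.PSU 3 F 3), Nonempty (H ≃* Matrix.ProjectiveSpecialLinearGroup (Fin 2) K) := by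
  classical
  let f9 : F9 →+* F := (FiniteField.ringEquivOfCardEq (card_F9.trans hF.symm)).toRingHom
  let f7 : ZMod 7 →+* K := (ZMod.ringEquivOfPrime K (by norm_num) hK).toRingHom
  have hfinK : Finite (Matrix.ProjectiveSpecialLinearGroup (Fin 2) K) :=
    Nat.finite_of_card_ne_zero (by rw [card_PSL27 hK]; norm_num)
  have hb1 : Function.Bijective (Φ f7) :=
    (Φ_inj f7).bijective_of_nat_card_le (by rw [card_PSL27 hK, card_P])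
  exact ⟨(θ f9).range, ⟨(MonoidHom.ofInjective (θ_inj f9)).symm.trans
    (MulEquiv.ofBijective (Φ f7) hb1)⟩⟩

end Cfsg.Agent.S1897
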