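import Cfsg.Statements.S1939

set_option autoImplicit false
open Cfsg

namespace Cfsg.Agent.S1939

theorem exists_conj_mem_sylow_of_le {G : Type*} [Group G] [Finite G] {p : ℕ} [Fact p.Prime]
    (P : Sylow p G) (H : Subgroup G) (hPH : (P : Subgroup G) ≤ H) (a : G) (haH : a ∈ H)
    (ha : ∃ k : ℕ, a ^ p ^ k = 1) : ∃ c ∈ H, c * a * c⁻¹ ∈ (P : Subgroup G) := by
  classical
  let P' : Sylow p H := P.subtype hPH
  let a' : H := ⟨a, haH⟩
  have hZ : IsPGroup p (Subgroup.zpowers a') := by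
    obtain ⟨k, hk⟩ := ha
    rintro ⟨x, hx⟩
    obtain ⟨m, rfl⟩ := Subgroup.mem_zpowers_iff.mp hx
    refine ⟨k, ?_⟩
    apply Subtype.ext
    apply Subtype.ext
    simp only [Subgroup.coe_pow, Subgroup.coe_zpow, Subgroup.coe_one]
    show (a ^ m) ^ p ^ k = 1
    rw [← zpow_natCast, ← zpow_mul, mul_comm, zpow_mul, zpow_natCast, hk, one_zpow]
  obtain ⟨Q, hQ⟩ := IsPGroup.exists_le_sylow hZ
  obtain ⟨c, hc⟩ := MulAction.exists_smul_eq H Q P'
  refine ⟨c, c.2, ?_⟩
  have h1 : a' ∈ (Q : Subgroup H) := hQ (Subgroup.mem_zpowers a')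
  have h2 : c * a' * c⁻¹ ∈ (P' : Subgroup H) := by
    rw [← hc]
    rw [Sylow.coe_subgroup_smul]
    have := Subgroup.smul_mem_pointwise_smul a' (MulAut.conj c) (Q : Subgroup H) h1
    simpa [MulAut.smul_def] using this
  have h3 : ((c * a' * c⁻¹ : H) : G) ∈ (P : Subgroup G) := by
    have := h2
    simp only [P', Sylow.coe_subtype, Subgroup.mem_subgroupOf] at this
    exact this
  simpa using h3

/-- Let S be a Sylow p-subgroup of the finite group G and a an element of S that is the only G-conjugate of a lying in S. Then every power of a has the same property: for every n, the only G-conjugate of a^n lying in S is a^n. -/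
theorem result {G : Type*} [Group G] [Finite G] {p : ℕ} [Fact p.Prime] (S : Sylow p G) (a : G)
    (haS : a ∈ (S : Subgroup G)) (hwc : ∀ g : G, g * a * g⁻¹ ∈ (S : Subgroup G) → g * a * g⁻¹ = a) (n : ℕ) :
    ∀ g : G, g * a ^ n * g⁻¹ ∈ (S : Subgroup G) → g * a ^ n * g⁻¹ = a ^ n := by
  intro g hg
  -- a is central in S
  have hcen : ∀ s ∈ (S : Subgroup G), s * a = a * s := by
    intro s hs
    have h1 : s * a * s⁻¹ ∈ (S : Subgroup G) := S.1.mul_mem (S.1.mul_mem hs haS) (S.1.inv_mem hs)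
    have h2 := hwc s h1
    rw [mul_inv_eq_iff_eq_mul] at h2
    exact h2
  -- a is a p-element
  have hap : ∃ k : ℕ, a ^ p ^ k = 1 := by
    obtain ⟨k, hk⟩ := S.2 ⟨a, haS⟩
    exact ⟨k, by simpa using congrArg Subtype.val hk⟩
  set y := g * a ^ n * g⁻¹ with hy
  -- the conjugate Sylow subgroup
  let S' : Sylow p G := g • S
  have hS' : ∀ x, x ∈ (S' : Subgroup G) ↔ g⁻¹ * x * g ∈ (S : Subgroup G) := by
    intro x
    show x ∈ ((g • S : Sylow p G) : Subgroup G) ↔ _
    rw [Sylow.coe_subgroup_smul, Subgroup.mem_pointwise_smul_iff_inv_smul_mem]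
    simp [MulAut.smul_def]
  have hS'C : (S' : Subgroup G) ≤ Subgroup.centralizer {y} := by
    intro x hx
    rw [hS'] at hx
    rw [Subgroup.mem_centralizer_singleton_iff]
    have h1 := hcen _ hx
    -- g⁻¹ x g commutes with a, so with a^n
    have h2 : g⁻¹ * x * g * a ^ n = a ^ n * (g⁻¹ * x * g) := by
      have : Commute (g⁻¹ * x * g) a := h1
      exact (this.pow_right n).eq
    rw [hy]
    have h3 : x = g * (g⁻¹ * x * g) * g⁻¹ := by group
    rw [h3]
    calc g * (g⁻¹ * x * g) * g⁻¹ * (g * a ^ n * g⁻¹) = g * ((g⁻¹ * x * g) * a ^ n) * g⁻¹ := by group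
      _ = g * (a ^ n * (g⁻¹ * x * g)) * g⁻¹ := by rw [h2]
      _ = g * a ^ n * g⁻¹ * (g * (g⁻¹ * x * g) * g⁻¹) := by group
  have haC : a ∈ Subgroup.centralizer {y} := by
    rw [Subgroup.mem_centralizer_singleton_iff]
    exact (hcen y hg).symm
  obtain ⟨c, hc, hca⟩ := exists_conj_mem_sylow_of_le S' (Subgroup.centralizer {y}) hS'C a haC hap
  rw [hS'] at hca
  have h4 : (g⁻¹ * c) * a * (g⁻¹ * c)⁻¹ = a := by
    apply hwc
    convert hca using 1
    group
  rw [Subgroup.mem_centralizer_singleton_iff] at hc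
  -- g⁻¹ c commutes with a, hence with a^n
  have h5 : Commute (g⁻¹ * c) a := by
    rw [mul_inv_eq_iff_eq_mul] at h4
    exact h4
  have h6 := (h5.pow_right n).eq
  have h7 : a ^ n = c⁻¹ * y * c := by
    have : a ^ n = (g⁻¹ * c)⁻¹ * (g⁻¹ * c * a ^ n) := by group
    rw [this, h6, hy]; group
  have h8 : c⁻¹ * y * c = y := by
    rw [mul_assoc, ← hc]; group
  rw [h7, h8]

end Cfsg.Agent.S1939
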