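import Cfsg.Statements.S1901
import Cfsg.Agent.Lib.Helper76.PSolv
import Cfsg.Agent.Lib.Helper24.Coprime
import Cfsg.Agent.Lib.Helper32.SylowRel
import Cfsg.Agent.S1939

set_option autoImplicit false
open Cfsg

namespace Cfsg.Agent.S1901

universe u

/-- In a `p`-solvable group, a `p`-element normalizing a `p'`-subgroup `Q` that normalizes a
Sylow `p`-subgroup centralizes `Q`. -/
theorem key (p : ℕ) [hp : Fact p.Prime] (n : ℕ) : ∀ (G : Type u) [Group G] [Finite G],
    Nat.card G ≤ n → Cfsg.IsPSolvable p G → ∀ (Q : Subgroup G), (Nat.card Q).Coprime p →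
    ∀ (P : Sylow p G), Q ≤ Subgroup.normalizer ((P : Subgroup G) : Set G) →
    ∀ x : G, (∃ k : ℕ, x ^ p ^ k = 1) → (∀ y ∈ Q, x * y * x⁻¹ ∈ Q) →
      ∀ y ∈ Q, x * y = y * x := by
  induction n with
  | zero =>
    intro G _ _ hcard
    have := Nat.card_pos (α := G)
    omega
  | succ n ih =>
    intro G _ _ hcard hG Q hQ P hQP x hx hxQ y hy
    obtain ⟨k, hk⟩ := hx
    by_contra hne
    have hG' := hG
    obtain ⟨m, H, h0, hlast, hmono, hnormal, hstep⟩ := hG
    have hex : ∃ i : Fin m, H i.castSucc = ⊥ ∧ H i.succ ≠ ⊥ := by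
      by_contra hno
      push Not at hno
      have hall : ∀ j : Fin (m + 1), H j = ⊥ := by
        intro j
        induction j using Fin.induction with
        | zero => exact h0
        | succ i ih' => exact hno i ih'
      have htop : (⊤ : Subgroup G) = ⊥ := by rw [← hlast]; exact hall _
      have h1 : ∀ g : G, g = 1 := fun g => by
        have h2 : g ∈ (⊤ : Subgroup G) := Subgroup.mem_top g
        rw [htop] at h2
        exact Subgroup.mem_bot.1 h2
      exact hne (by rw [h1 x, h1 y])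
    obtain ⟨i, hi0, hi1⟩ := hex
    have hMcard : (∃ e : ℕ, Nat.card (H i.succ) = p ^ e) ∨ (Nat.card (H i.succ)).Coprime p := by
      have h1 := hstep i
      rw [hi0, Subgroup.relIndex_bot_left] at h1
      exact h1
    have hMn : (H i.succ).Normal := hnormal i.succ
    generalize H i.succ = M at hi1 hMcard hMn
    have hcardq : Nat.card (G ⧸ M) ≤ n := by
      have h1 := Subgroup.card_eq_card_quotient_mul_card_subgroup M
      have h2 : 1 < Nat.card M := (Subgroup.one_lt_card_iff_ne_bot M).2 hi1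
      have h3 : Nat.card (G ⧸ M) * 2 ≤ Nat.card (G ⧸ M) * Nat.card M :=
        Nat.mul_le_mul_left _ h2
      omega
    have hsolq : Cfsg.IsPSolvable p (G ⧸ M) :=
      Cfsg.Agent.Lib.Helper76.PSolv.isPSolvable_quotient p M hG'
    have hsurj : Function.Surjective (QuotientGroup.mk' M) := QuotientGroup.mk'_surjective M
    have hQbar : (Nat.card (Q.map (QuotientGroup.mk' M))).Coprime p :=
      Nat.Coprime.coprime_dvd_left (Subgroup.card_map_dvd Q (QuotientGroup.mk' M)) hQ
    have hPbar : Q.map (QuotientGroup.mk' M) ≤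
        Subgroup.normalizer
          (((P.mapSurjective hsurj : Sylow p (G ⧸ M)) : Subgroup (G ⧸ M)) : Set (G ⧸ M)) := by
      rw [Sylow.coe_mapSurjective]
      exact (Subgroup.map_mono hQP).trans (Subgroup.le_normalizer_map _)
    have hxbar : ∃ k : ℕ, (QuotientGroup.mk' M x) ^ p ^ k = 1 :=
      ⟨k, by rw [← map_pow, hk, map_one]⟩
    have hxQbar : ∀ y' ∈ Q.map (QuotientGroup.mk' M),
        QuotientGroup.mk' M x * y' * (QuotientGroup.mk' M x)⁻¹ ∈ Q.map (QuotientGroup.mk' M) := by
      rintro _ ⟨y', hy', rfl⟩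
      exact ⟨x * y' * x⁻¹, hxQ y' hy', by simp only [map_mul, map_inv]⟩
    have hcomm : ∀ y' ∈ Q, x * y' * x⁻¹ * y'⁻¹ ∈ M := by
      intro y' hy'
      have h1 := ih (G ⧸ M) hcardq hsolq (Q.map (QuotientGroup.mk' M)) hQbar
        (P.mapSurjective hsurj) hPbar (QuotientGroup.mk' M x) hxbar hxQbar
        (QuotientGroup.mk' M y') (Subgroup.mem_map_of_mem _ hy')
      have h5 : QuotientGroup.mk' M (x * y' * x⁻¹ * y'⁻¹) = 1 := by
        simp only [map_mul, map_inv]
        rw [h1]; group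
      rw [← QuotientGroup.ker_mk' M]
      exact MonoidHom.mem_ker.2 h5
    have hc := hcomm y hy
    have hcQ : x * y * x⁻¹ * y⁻¹ ∈ Q := Q.mul_mem (hxQ y hy) (Q.inv_mem hy)
    rcases hMcard with ⟨e, he⟩ | hMcop
    · -- M is a p-group
      apply hne
      have hpow : (x * y * x⁻¹ * y⁻¹) ^ p ^ e = 1 := by
        have h1 : (⟨_, hc⟩ : M) ^ Nat.card M = 1 := pow_card_eq_one'
        rw [he] at h1
        exact congrArg Subtype.val h1
      have h1 := Cfsg.Agent.Lib.Helper32.SylowRel.eq_one_of_pow_of_coprime Q hQ _ hcQ e hpow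
      calc x * y = (x * y * x⁻¹ * y⁻¹) * (y * x) := by group
        _ = y * x := by rw [h1, one_mul]
    · -- M is a p'-group
      apply hne
      have hPcent : ∀ g ∈ (P : Subgroup G), ∀ z ∈ M ⊓ Q, g * z = z * g := by
        intro g hg z hz
        have hzM : z ∈ M := (Subgroup.mem_inf.1 hz).1
        have hzQ : z ∈ Q := (Subgroup.mem_inf.1 hz).2
        have hw1 : g * z * g⁻¹ * z⁻¹ ∈ M := M.mul_mem (hMn.conj_mem z hzM g) (M.inv_mem hzM)
        have hw2 : g * z * g⁻¹ * z⁻¹ ∈ (P : Subgroup G) := by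
          have h1 : z * g⁻¹ * z⁻¹ ∈ (P : Subgroup G) :=
            (Subgroup.mem_normalizer_iff.1 (hQP hzQ) g⁻¹).1 (Subgroup.inv_mem _ hg)
          have e1 : g * z * g⁻¹ * z⁻¹ = g * (z * g⁻¹ * z⁻¹) := by group
          rw [e1]
          exact Subgroup.mul_mem _ hg h1
        obtain ⟨j, hj⟩ := P.isPGroup' ⟨_, hw2⟩
        have hj' : (g * z * g⁻¹ * z⁻¹) ^ p ^ j = 1 := congrArg Subtype.val hj
        have h1 := Cfsg.Agent.Lib.Helper32.SylowRel.eq_one_of_pow_of_coprime M hMcop _ hw1 j hj'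
        calc g * z = (g * z * g⁻¹ * z⁻¹) * (z * g) := by group
          _ = z * g := by rw [h1, one_mul]
      have hPN : (P : Subgroup G) ≤ Subgroup.normalizer ((M ⊓ Q : Subgroup G) : Set G) := by
        intro g hg
        exact Cfsg.Agent.Lib.Helper24.Coprime.mem_normalizer_of_commute
          (fun z hz => (hPcent g hg z hz).symm)
      have hconjmem : ∀ z ∈ M ⊓ Q, x * z * x⁻¹ ∈ M ⊓ Q := fun z hz =>
        Subgroup.mem_inf.2 ⟨hMn.conj_mem _ (Subgroup.mem_inf.1 hz).1 x,
          hxQ _ (Subgroup.mem_inf.1 hz).2⟩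
      have hxN : x ∈ Subgroup.normalizer ((M ⊓ Q : Subgroup G) : Set G) := by
        have hxinv : ∀ t : ℕ, ∀ z ∈ M ⊓ Q, x ^ t * z * (x ^ t)⁻¹ ∈ M ⊓ Q := by
          intro t
          induction t with
          | zero => intro z hz; simpa using hz
          | succ t iht =>
            intro z hz
            have h2 := hconjmem _ (iht z hz)
            have e1 : x ^ (t + 1) * z * (x ^ (t + 1))⁻¹ = x * (x ^ t * z * (x ^ t)⁻¹) * x⁻¹ := by
              rw [pow_succ']; group
            rw [e1]; exact h2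
        have hpos : 0 < p ^ k := pow_pos hp.out.pos k
        have hinv : x⁻¹ = x ^ (p ^ k - 1) := by
          apply inv_eq_of_mul_eq_one_right
          rw [← pow_succ', Nat.sub_add_cancel hpos, hk]
        rw [Subgroup.mem_normalizer_iff]
        intro z
        constructor
        · intro hz
          exact hconjmem z hz
        · intro hz
          have h1 := hxinv (p ^ k - 1) _ hz
          rw [← hinv] at h1
          have e1 : x⁻¹ * (x * z * x⁻¹) * x⁻¹⁻¹ = z := by group
          rw [e1] at h1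
          exact h1
      have hxcent : ∀ z ∈ M ⊓ Q, x * z = z * x := by
        intro z hz
        obtain ⟨c, hcN, hcP⟩ :=
          Cfsg.Agent.S1939.exists_conj_mem_sylow_of_le P _ hPN x hxN ⟨k, hk⟩
        have hz' : c * z * c⁻¹ ∈ M ⊓ Q := (Subgroup.mem_normalizer_iff.1 hcN z).1 hz
        have h1 := hPcent _ hcP _ hz'
        calc x * z = c⁻¹ * ((c * x * c⁻¹) * (c * z * c⁻¹)) * c := by group
          _ = c⁻¹ * ((c * z * c⁻¹) * (c * x * c⁻¹)) * c := by rw [h1]
          _ = z * x := by group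
      have hcx := hxcent _ (Subgroup.mem_inf.2 ⟨hc, hcQ⟩)
      have hconj : y * x * y⁻¹ = (x * y * x⁻¹ * y⁻¹)⁻¹ * x := by group
      have hzpow : ((x * y * x⁻¹ * y⁻¹)⁻¹) ^ Nat.card Q = 1 := by
        have h1 : (⟨_, Q.inv_mem hcQ⟩ : Q) ^ Nat.card Q = 1 := pow_card_eq_one'
        exact congrArg Subtype.val h1
      have hcop : (orderOf x).Coprime (Nat.card Q) := by
        have h1 : orderOf x ∣ p ^ k := orderOf_dvd_of_pow_eq_one hk
        exact Nat.Coprime.coprime_dvd_left h1 (Nat.Coprime.pow_left k hQ.symm)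
      have hza : (x * y * x⁻¹ * y⁻¹)⁻¹ * x = x * (x * y * x⁻¹ * y⁻¹)⁻¹ := by
        have h1 : Commute x (x * y * x⁻¹ * y⁻¹) := hcx
        exact (h1.inv_right).eq.symm
      have h1 := Cfsg.Agent.Lib.Helper24.Coprime.eq_one_of_conj_eq_mul x y _ (Nat.card Q)
        hzpow hcop hza hconj
      have h2 : x * y * x⁻¹ * y⁻¹ = 1 := inv_eq_one.1 h1
      calc x * y = (x * y * x⁻¹ * y⁻¹) * (y * x) := by group
        _ = y * x := by rw [h2, one_mul]

/-- Let G be a finite p-solvable group and Q a subgroup of order prime to p such that p divides the index of C_G(Q) in N_G(Q). Then Q normalizes no Sylow p-subgroup of G. -/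
theorem result {G : Type*} [Group G] [Finite G] {p : ℕ} [Fact p.Prime]
    (hG : Cfsg.IsPSolvable p G) (Q : Subgroup G) (hQ : ¬ p ∣ Nat.card Q)
    (hA : p ∣ (Subgroup.centralizer (Q : Set G)).relIndex (Subgroup.normalizer (Q : Set G)))
    (P : Sylow p G) : ¬ Q ≤ Subgroup.normalizer ((P : Subgroup G) : Set G) := by
  intro hQP
  have hp : p.Prime := Fact.out
  have hQc : (Nat.card Q).Coprime p := ((Nat.Prime.coprime_iff_not_dvd hp).2 hQ).symm
  have hkey := key p (Nat.card G) G le_rfl hG Q hQc P hQP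
  obtain ⟨R⟩ := (inferInstance : Nonempty (Sylow p (Subgroup.normalizer (Q : Set G))))
  have hR : (R : Subgroup (Subgroup.normalizer (Q : Set G))) ≤
      (Subgroup.centralizer (Q : Set G)).subgroupOf (Subgroup.normalizer (Q : Set G)) := by
    intro r hr
    rw [Subgroup.mem_subgroupOf, Subgroup.mem_centralizer_iff]
    intro y hy
    obtain ⟨k, hk⟩ := R.isPGroup' ⟨r, hr⟩
    have hk' : (r : G) ^ p ^ k = 1 := by
      have h2 : r ^ p ^ k = 1 := congrArg Subtype.val hk
      exact congrArg Subtype.val h2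
    have hnorm : ∀ y ∈ Q, (r : G) * y * (r : G)⁻¹ ∈ Q := fun y hy =>
      (Subgroup.mem_normalizer_iff.1 r.2 y).1 hy
    exact (hkey (r : G) ⟨k, hk'⟩ hnorm y hy).symm
  have hdvd : (Subgroup.centralizer (Q : Set G)).relIndex (Subgroup.normalizer (Q : Set G)) ∣
      (R : Subgroup (Subgroup.normalizer (Q : Set G))).index :=
    Subgroup.index_dvd_of_le hR
  exact R.not_dvd_index (hA.trans hdvd)

end Cfsg.Agent.S1901
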