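import Cfsg.Statements.S1902
import Mathlib
import Cfsg.Agent.S1302
import Cfsg.Agent.S0630
import Cfsg.Agent.Lib.Helper76.PSolv
import Cfsg.Agent.Lib.Helper31.SigBasic

set_option autoImplicit false
open Cfsg

namespace Cfsg.Agent.S1902

open Subgroup
open scoped Pointwise

/-- A `p`-solvable finite group is `p`-constrained. -/
theorem isPConstrained_of_isPSolvable {G : Type*} [Group G] [Finite G] {p : ℕ} [Fact p.Prime]
    (hG : Cfsg.IsPSolvable p G) : Cfsg.IsPConstrained p G := by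
  haveI : (Cfsg.pPrimeCore p G).Normal := (Cfsg.Agent.Lib.Helper76.PSolv.pPrimeCore_mem p).1
  rw [Cfsg.Agent.S0630.isPConstrained_iff_centralizer]
  exact Cfsg.Agent.Lib.Helper76.PSolv.centralizer_pCore_le p
    (Cfsg.Agent.Lib.Helper76.PSolv.isPSolvable_quotient p _ hG)
    (Cfsg.Agent.Lib.Helper76.PSolv.pPrimeCore_quotient p)

/-- If `B = Ω₁(P)` for a Sylow `p`-subgroup `P` of `C_G(b₀)`, `b₀ ∈ B`, and `B` is elementary
abelian, then `B` contains every element of order `p` of `C_G(B)`. -/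
theorem mem_of_centralizes {G : Type*} [Group G] [Finite G] {p : ℕ} [Fact p.Prime]
    (B : Subgroup G) (hB : Cfsg.IsElementaryAbelian p B)
    (b₀ : G) (hb₀ : b₀ ∈ B) (P : Sylow p ↥(Subgroup.centralizer ({b₀} : Set G)))
    (hBP : B = Subgroup.closure {x : G | x ∈ ((P : Subgroup ↥(Subgroup.centralizer ({b₀} : Set G))).map
      (Subgroup.centralizer ({b₀} : Set G)).subtype : Subgroup G) ∧ orderOf x = p})
    (x : G) (hx : x ∈ Subgroup.centralizer (B : Set G)) (hxp : orderOf x = p) : x ∈ B := by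
  have hp : p.Prime := Fact.out
  obtain ⟨hBc, hBe⟩ := hB
  have hBcomm : ∀ a ∈ B, ∀ b ∈ B, a * b = b * a := fun a ha b hb =>
    congrArg Subtype.val ((hBc.is_comm).comm ⟨a, ha⟩ ⟨b, hb⟩)
  have hxB : ∀ b ∈ B, b * x = x * b := fun b hb => (Subgroup.mem_centralizer_iff.mp hx) b hb
  -- the subgroup `E = B ⊔ ⟨x⟩`
  have hnorm : Subgroup.zpowers x ≤ Subgroup.normalizer (B : Set G) := by
    rw [Subgroup.zpowers_le]
    exact Subgroup.centralizer_le_normalizer _ hx
  have hEmem : ∀ e ∈ B ⊔ Subgroup.zpowers x, ∃ b ∈ B, ∃ k : ℤ, e = b * x ^ k := by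
    intro e he
    obtain ⟨b, hb, y, hy, rfl⟩ :=
      Cfsg.Agent.Lib.Helper31.SigBasic.mem_sup_of_le_normalizer B (Subgroup.zpowers x) hnorm he
    obtain ⟨k, rfl⟩ := Subgroup.mem_zpowers_iff.mp hy
    exact ⟨b, hb, k, rfl⟩
  have hxpow : x ^ p = 1 := by rw [← hxp]; exact pow_orderOf_eq_one x
  have hEexp : ∀ e ∈ B ⊔ Subgroup.zpowers x, e ^ p = 1 := by
    intro e he
    obtain ⟨b, hb, k, rfl⟩ := hEmem e he
    have hc : Commute b (x ^ k) := (show Commute b x from hxB b hb).zpow_right k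
    rw [hc.mul_pow, hBe b hb, one_mul, ← zpow_natCast, ← zpow_mul, mul_comm, zpow_mul,
      zpow_natCast, hxpow, one_zpow]
  have hEC : B ⊔ Subgroup.zpowers x ≤ Subgroup.centralizer ({b₀} : Set G) := by
    apply sup_le
    · intro b hb
      rw [Subgroup.mem_centralizer_singleton_iff]
      exact hBcomm b hb b₀ hb₀
    · rw [Subgroup.zpowers_le, Subgroup.mem_centralizer_singleton_iff]
      exact (hxB b₀ hb₀).symm
  have hEp : IsPGroup p ((B ⊔ Subgroup.zpowers x).subgroupOf (Subgroup.centralizer ({b₀} : Set G))) := by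
    intro g
    refine ⟨1, ?_⟩
    apply Subtype.ext
    apply Subtype.ext
    have := hEexp (g : Subgroup.centralizer ({b₀} : Set G)) g.2
    simpa using this
  obtain ⟨P', hP'⟩ := hEp.exists_le_sylow
  obtain ⟨c, hc⟩ := MulAction.exists_smul_eq (↥(Subgroup.centralizer ({b₀} : Set G))) P P'
  -- `E ≤ c B c⁻¹`
  have hle : B ⊔ Subgroup.zpowers x ≤ B.map (MulAut.conj (c : G)).toMonoidHom := by
    intro e he
    by_cases he1 : e = 1
    · rw [he1]; exact one_mem _
    have heC : e ∈ Subgroup.centralizer ({b₀} : Set G) := hEC he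
    have h1 : (⟨e, heC⟩ : ↥(Subgroup.centralizer ({b₀} : Set G))) ∈ P' :=
      hP' (Subgroup.mem_subgroupOf.mpr he)
    rw [← hc] at h1
    have h2 : c⁻¹ * ⟨e, heC⟩ * c ∈ (P : Subgroup ↥(Subgroup.centralizer ({b₀} : Set G))) := by
      have h3 : (⟨e, heC⟩ : ↥(Subgroup.centralizer ({b₀} : Set G))) ∈
          (MulAut.conj c • (P : Subgroup ↥(Subgroup.centralizer ({b₀} : Set G)))) := h1
      rw [Subgroup.mem_pointwise_smul_iff_inv_smul_mem] at h3
      simpa [MulAut.smul_def] using h3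
    have h4 : (c : G)⁻¹ * e * (c : G) ∈ B := by
      rw [hBP]
      apply Subgroup.subset_closure
      refine ⟨⟨_, h2, rfl⟩, ?_⟩
      have h5 : orderOf e = p := by
        have h6 : orderOf e ∣ p := orderOf_dvd_of_pow_eq_one (hEexp e he)
        rcases (Nat.dvd_prime hp).mp h6 with h7 | h7
        · exact absurd (orderOf_eq_one_iff.mp h7) he1
        · exact h7
      have h8 : (c : G)⁻¹ * e * (c : G) = (MulAut.conj (c : G)⁻¹) e := by
        simp [MulAut.conj_apply]
      rw [h8, MulEquiv.orderOf_eq]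
      exact h5
    refine ⟨(c : G)⁻¹ * e * (c : G), h4, ?_⟩
    simp [MulAut.conj_apply, mul_assoc]
  have hcard : Nat.card (B.map (MulAut.conj (c : G)).toMonoidHom) = Nat.card B :=
    Nat.card_congr (B.equivMapOfInjective _ (MulAut.conj (c : G)).injective).toEquiv.symm
  have hcard2 : Nat.card ↥(B ⊔ Subgroup.zpowers x) ≤ Nat.card B := by
    rw [← hcard]
    exact Nat.le_of_dvd Nat.card_pos (Subgroup.card_dvd_of_le hle)
  have heq : B = B ⊔ Subgroup.zpowers x := Subgroup.eq_of_le_of_card_ge le_sup_left hcard2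
  rw [heq]
  exact Subgroup.mem_sup_right (Subgroup.mem_zpowers x)

/-- Let p be an odd prime, G a finite p-solvable group, and B an elementary abelian subgroup of order p² such that B is the subgroup generated by the elements of order p of some Sylow p-subgroup of C_G(b₀), for some nontrivial b₀ ∈ B. Then every B-invariant subgroup of G of order prime to p lies in O_{p'}(G). -/
theorem result {G : Type*} [Group G] [Finite G] {p : ℕ} [Fact p.Prime] (hp : p ≠ 2)
    (hG : Cfsg.IsPSolvable p G) (B : Subgroup G) (hB : Cfsg.IsElementaryAbelian p B) (hBc : Nat.card B = p ^ 2)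
    (b₀ : G) (hb₀ : b₀ ∈ B) (hb₁ : b₀ ≠ 1) (P : Sylow p ↥(Subgroup.centralizer ({b₀} : Set G)))
    (hBP : B = Subgroup.closure {x : G | x ∈ ((P : Subgroup ↥(Subgroup.centralizer ({b₀} : Set G))).map
      (Subgroup.centralizer ({b₀} : Set G)).subtype : Subgroup G) ∧ orderOf x = p})
    (Q : Subgroup G) (hQ : ¬ p ∣ Nat.card Q) (hinv : ∀ b ∈ B, ∀ x ∈ Q, b * x * b⁻¹ ∈ Q) :
    Q ≤ Cfsg.pPrimeCore p G := by
  have hBp : IsPGroup p ↥B := by
    intro g
    refine ⟨1, ?_⟩
    apply Subtype.ext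
    have := hB.2 (g : G) g.2
    simpa using this
  exact Cfsg.Agent.S1302.result p hp (isPConstrained_of_isPSolvable hG) B hB.1 hBp
    (fun x hx hxp => mem_of_centralizes B hB b₀ hb₀ P hBP x hx hxp) Q hQ
    (Cfsg.Agent.Lib.Helper31.SigBasic.le_normalizer_of_conj_mem B Q hinv)

end Cfsg.Agent.S1902
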