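import Cfsg.Statements.S1907
import Cfsg.Agent.Lib.Helper32.SylowRel

set_option autoImplicit false
open Cfsg

namespace Cfsg.Agent.S1907

open Cfsg.Agent.Lib.Helper32.SylowRel

/-- Let P be a Sylow p-subgroup of a finite group G, H = P ∩ O_{p',p}(G), N = N_G(H) and D = O_{p'}(G). (a) If y is an element of p-power order of N and d ∈ D with d⁻¹ y d ∈ N, then d = d₁ d₂ with d₁ ∈ C_D(y) and d₂ ∈ C_D(H). (b) Two elements of P that are conjugate in G are conjugate in N. -/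
theorem result {G : Type*} [Group G] [Finite G] {p : ℕ} [Fact p.Prime] (P : Sylow p G) :
    (∀ y ∈ Subgroup.normalizer (((P : Subgroup G) ⊓ Cfsg.pPrimePCore p G : Subgroup G) : Set G), (∃ k : ℕ, orderOf y = p ^ k) →
      ∀ d ∈ Cfsg.pPrimeCore p G, d⁻¹ * y * d ∈ Subgroup.normalizer (((P : Subgroup G) ⊓ Cfsg.pPrimePCore p G : Subgroup G) : Set G) →
        ∃ d₁ ∈ Cfsg.pPrimeCore p G ⊓ Subgroup.centralizer ({y} : Set G),
          ∃ d₂ ∈ Cfsg.pPrimeCore p G ⊓ Subgroup.centralizer (((P : Subgroup G) ⊓ Cfsg.pPrimePCore p G : Subgroup G) : Set G), d = d₁ * d₂) ∧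
    ∀ x y : G, x ∈ (P : Subgroup G) → y ∈ (P : Subgroup G) → IsConj x y →
      ∃ n ∈ Subgroup.normalizer (((P : Subgroup G) ⊓ Cfsg.pPrimePCore p G : Subgroup G) : Set G), n * x * n⁻¹ = y := by
  classical
  have hprime : p.Prime := Fact.out
  set D := Cfsg.pPrimeCore p G with hD
  set W := Cfsg.pPrimePCore p G with hW
  set H := (P : Subgroup G) ⊓ W with hH
  set N := Subgroup.normalizer (H : Set G) with hN
  have hDn : D.Normal := inferInstance
  have hWn : W.Normal := by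
    rw [hW]; unfold Cfsg.pPrimePCore; infer_instance
  have hDcop : (Nat.card D).Coprime p := pPrimeCore_coprime p
  have hHp : IsPGroup p H := P.2.to_le inf_le_left
  -- H ∩ D = 1
  have hHD : ∀ x, x ∈ H → x ∈ D → x = 1 := by
    intro x hxH hxD
    obtain ⟨m, hm⟩ := hHp ⟨x, hxH⟩
    have hm' : x ^ p ^ m = 1 := by simpa using congrArg Subtype.val hm
    exact eq_one_of_pow_of_coprime D hDcop x hxD m hm'
  -- elements of D ∩ N centralize H
  have hDNcen : ∀ c, c ∈ D → c ∈ N → c ∈ Subgroup.centralizer (H : Set G) := by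
    intro c hcD hcN
    rw [Subgroup.mem_centralizer_iff]
    intro h hh
    have h1 : c * h * c⁻¹ ∈ H := (Subgroup.mem_normalizer_iff.mp hcN h).mp hh
    have h2 : c * h * c⁻¹ * h⁻¹ ∈ H := H.mul_mem h1 (H.inv_mem hh)
    have h3 : c * h * c⁻¹ * h⁻¹ ∈ D := by
      have : c * h * c⁻¹ * h⁻¹ = c * (h * c⁻¹ * h⁻¹) := by group
      rw [this]
      exact D.mul_mem hcD (hDn.conj_mem _ (D.inv_mem hcD) h)
    have h4 := hHD _ h2 h3
    have h5 : c * h * c⁻¹ = h := mul_inv_eq_one.mp h4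
    have h6 : c * h = h * c := mul_inv_eq_iff_eq_mul.mp h5
    exact h6.symm
  set C := D ⊓ Subgroup.centralizer (H : Set G) with hC
  -- N normalizes C
  have hNC : ∀ n ∈ N, ∀ c ∈ C, n * c * n⁻¹ ∈ C := by
    intro n hn c hc
    refine Subgroup.mem_inf.mpr ⟨hDn.conj_mem c hc.1 n, ?_⟩
    rw [Subgroup.mem_centralizer_iff]
    intro h hh
    have hn' : n⁻¹ ∈ N := N.inv_mem hn
    have hh' : n⁻¹ * h * n ∈ H := by
      have := (Subgroup.mem_normalizer_iff.mp hn' h).mp hh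
      rwa [inv_inv] at this
    have hcomm := (Subgroup.mem_centralizer_iff.mp hc.2) _ hh'
    calc h * (n * c * n⁻¹) = n * ((n⁻¹ * h * n) * c) * n⁻¹ := by group
      _ = n * (c * (n⁻¹ * h * n)) * n⁻¹ := by rw [hcomm]
      _ = n * c * n⁻¹ * h := by group
  -- part (a)
  have partA : ∀ y ∈ N, (∃ k : ℕ, orderOf y = p ^ k) → ∀ d ∈ D, d⁻¹ * y * d ∈ N →
      ∃ d₁ ∈ D ⊓ Subgroup.centralizer ({y} : Set G), ∃ d₂ ∈ C, d = d₁ * d₂ := by
    intro y hyN hyord d hdD hy'N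
    obtain ⟨k, hk⟩ := hyord
    have hypow : y ^ p ^ k = 1 := by rw [← hk]; exact pow_orderOf_eq_one y
    set Z := Subgroup.zpowers y with hZ
    have hZN : Z ≤ N := by rw [hZ, Subgroup.zpowers_le]; exact hyN
    have hZC : Z ≤ Subgroup.normalizer (C : Set G) := by
      intro z hz
      rw [Subgroup.mem_normalizer_iff]
      intro c
      constructor
      · exact hNC z (hZN hz) c
      · intro h
        have := hNC z⁻¹ (N.inv_mem (hZN hz)) _ h
        convert this using 1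
        group
    set K := Z ⊔ C with hKdef
    have hc₀D : d⁻¹ * y * d * y⁻¹ ∈ D := by
      have : d⁻¹ * y * d * y⁻¹ = d⁻¹ * (y * d * y⁻¹) := by group
      rw [this]; exact D.mul_mem (D.inv_mem hdD) (hDn.conj_mem d hdD y)
    have hc₀N : d⁻¹ * y * d * y⁻¹ ∈ N := N.mul_mem hy'N (N.inv_mem hyN)
    have hc₀C : d⁻¹ * y * d * y⁻¹ ∈ C := ⟨hc₀D, hDNcen _ hc₀D hc₀N⟩
    have hy'K : d⁻¹ * y * d ∈ K := by
      have : d⁻¹ * y * d = (d⁻¹ * y * d * y⁻¹) * y := by group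
      rw [this]
      exact K.mul_mem (Subgroup.mem_sup_right hc₀C) (Subgroup.mem_sup_left (Subgroup.mem_zpowers y))
    -- Z is a Sylow p-subgroup of K
    have hcardK : Nat.card K ∣ Nat.card Z * Nat.card C := Cfsg.Agent.H32.card_sup_dvd Z C hZC
    have hZK : Z ≤ K := le_sup_left
    have h1 : Nat.card Z * Z.relIndex K = Nat.card K := by
      have := Subgroup.relIndex_mul_relIndex ⊥ Z K bot_le hZK
      rwa [Subgroup.relIndex_bot_left, Subgroup.relIndex_bot_left] at this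
    have hrel : Z.relIndex K ∣ Nat.card C := by
      rw [← h1] at hcardK
      exact Nat.dvd_of_mul_dvd_mul_left Nat.card_pos hcardK
    have hCcop : (Nat.card C).Coprime p :=
      Nat.Coprime.coprime_dvd_left (Subgroup.card_dvd_of_le inf_le_left) hDcop
    have hidx : ¬ p ∣ Z.relIndex K := by
      intro hdvd
      have h2 := hdvd.trans hrel
      have h3 : p = 1 := Nat.Coprime.eq_one_of_dvd hCcop.symm h2
      exact hprime.one_lt.ne' h3
    have hZp : IsPGroup p Z := by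
      apply IsPGroup.of_card (n := k)
      rw [hZ, Nat.card_zpowers, hk]
    have hy'pow : (d⁻¹ * y * d) ^ p ^ k = 1 := by
      have : d⁻¹ * y * d = d⁻¹ * y * d⁻¹⁻¹ := by rw [inv_inv]
      rw [this, conj_pow, hypow]; group
    obtain ⟨k₀, hk₀K, hk₀⟩ := exists_conj_mem_of_relIndex K Z hZp hidx (d⁻¹ * y * d) hy'K ⟨k, hy'pow⟩
    -- decompose k₀ = z * c₁
    have hk₀' : k₀ ∈ ((Z ⊔ C : Subgroup G) : Set G) := hk₀K
    rw [Subgroup.coe_mul_of_left_le_normalizer_right Z C hZC] at hk₀'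
    obtain ⟨z, hz, c₁, hc₁, rfl⟩ := Set.mem_mul.mp hk₀'
    obtain ⟨i, rfl⟩ := Subgroup.mem_zpowers_iff.mp hz
    obtain ⟨j, hj⟩ := Subgroup.mem_zpowers_iff.mp hk₀
    have hc₁C : c₁ ∈ C := hc₁
    -- (*) d⁻¹ y d = c₁⁻¹ y^j c₁
    have hstar : d⁻¹ * y * d = c₁⁻¹ * y ^ j * c₁ := by
      have e1 : d⁻¹ * y * d = (y ^ i * c₁)⁻¹ * (y ^ j) * (y ^ i * c₁) := by
        rw [hj]; group
      rw [e1]
      have e2 : (y ^ i * c₁)⁻¹ * (y ^ j) * (y ^ i * c₁) = c₁⁻¹ * ((y ^ i)⁻¹ * y ^ j * y ^ i) * c₁ := by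
        group
      rw [e2]
      congr 2
      rw [← zpow_neg, ← zpow_add, ← zpow_add]
      congr 1
      ring
    -- y^j = y
    have hyj : y ^ j = y := by
      have he : y ^ j * y⁻¹ ∈ D := by
        have e1 : y ^ j = c₁ * (d⁻¹ * y * d) * c₁⁻¹ := by rw [hstar]; group
        have e2 : y ^ j * y⁻¹ = c₁ * d⁻¹ * (y * (d * c₁⁻¹) * y⁻¹) := by rw [e1]; group
        rw [e2]
        exact D.mul_mem (D.mul_mem hc₁C.1 (D.inv_mem hdD))
          (hDn.conj_mem _ (D.mul_mem hdD (D.inv_mem hc₁C.1)) y)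
      have hepow : (y ^ j * y⁻¹) ^ p ^ k = 1 := by
        rw [← zpow_sub_one, ← zpow_natCast, ← zpow_mul, mul_comm, zpow_mul, zpow_natCast, hypow, one_zpow]
      have := eq_one_of_pow_of_coprime D hDcop _ he k hepow
      exact mul_inv_eq_one.mp this
    rw [hyj] at hstar
    refine ⟨d * c₁⁻¹, Subgroup.mem_inf.mpr ⟨D.mul_mem hdD (D.inv_mem hc₁C.1), ?_⟩, c₁, hc₁C, by group⟩
    rw [Subgroup.mem_centralizer_singleton_iff]
    -- (d c₁⁻¹) y = y (d c₁⁻¹)
    have e1 : y = d * (c₁⁻¹ * y * c₁) * d⁻¹ := by rw [← hstar]; group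
    calc d * c₁⁻¹ * y = d * (c₁⁻¹ * y * c₁) * d⁻¹ * (d * c₁⁻¹) := by group
      _ = y * (d * c₁⁻¹) := by rw [← e1]
  refine ⟨partA, ?_⟩
  -- part (b)
  intro x y hxP hyP hconj
  obtain ⟨g, hg⟩ := isConj_iff.mp hconj
  -- P ≤ N
  have hPN : (P : Subgroup G) ≤ N := by
    intro a ha
    rw [hN, Subgroup.mem_normalizer_iff]
    intro h
    constructor
    · intro hh
      exact ⟨(P : Subgroup G).mul_mem ((P : Subgroup G).mul_mem ha hh.1) ((P : Subgroup G).inv_mem ha),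
        hWn.conj_mem h hh.2 a⟩
    · intro hh
      have h1 : a⁻¹ * (a * h * a⁻¹) * a ∈ (P : Subgroup G) :=
        (P : Subgroup G).mul_mem ((P : Subgroup G).mul_mem ((P : Subgroup G).inv_mem ha) hh.1) ha
      have h2 : a⁻¹ * (a * h * a⁻¹) * a⁻¹⁻¹ ∈ W := hWn.conj_mem _ hh.2 a⁻¹
      rw [inv_inv] at h2
      have e : a⁻¹ * (a * h * a⁻¹) * a = h := by group
      rw [e] at h1 h2
      exact ⟨h1, h2⟩
  have hHN : H ≤ N := inf_le_left.trans hPN
  have hcenN : Subgroup.centralizer (H : Set G) ≤ N := Subgroup.centralizer_le_normalizer _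
  -- H is a Sylow p-subgroup of W
  have hHW : H ≤ W := inf_le_right
  have hHrel : ¬ p ∣ H.relIndex W := by
    rw [hH, Subgroup.inf_relIndex_right]
    intro hdvd
    exact P.not_dvd_index (hdvd.trans (relIndex_dvd_index_of_normal_right (P : Subgroup G) W))
  have hHW' : IsPGroup p (H.subgroupOf W) := hHp.comap_subtype
  let Q : Sylow p W := hHW'.toSylow hHrel
  have hfrat := Sylow.normalizer_sup_eq_top Q
  have hQmap : ((Q : Subgroup W).map W.subtype) = H := by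
    show (H.subgroupOf W).map W.subtype = H
    rw [Subgroup.map_subgroupOf_eq_of_le hHW]
  rw [hQmap] at hfrat
  -- W = H D
  have hDW : D ≤ W := by
    intro d hd
    rw [hW]
    unfold Cfsg.pPrimePCore
    rw [Subgroup.mem_comap]
    have : (QuotientGroup.mk' (Cfsg.pPrimeCore p G)) d = 1 := (QuotientGroup.eq_one_iff d).mpr hd
    rw [this]
    exact Subgroup.one_mem _
  have hWHD : W ≤ H ⊔ D := by
    rw [← Subgroup.relIndex_eq_one]
    have h1 : (H ⊔ D).relIndex W ∣ H.relIndex W := Subgroup.relIndex_dvd_of_le_left W le_sup_left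
    have h2 : (H ⊔ D).relIndex W ∣ D.relIndex W := Subgroup.relIndex_dvd_of_le_left W le_sup_right
    -- D.relIndex W is a power of p
    have h3 : ∃ m : ℕ, D.relIndex W = p ^ m := by
      have hpc : IsPGroup p (Cfsg.pCore p (G ⧸ D)) :=
        Sylow.sSup_of_normal _ (fun H h => h.2) (fun H h => h.1)
      obtain ⟨m, hm⟩ := IsPGroup.iff_card.mp hpc
      refine ⟨m, ?_⟩
      have e1 : D = (⊥ : Subgroup (G ⧸ D)).comap (QuotientGroup.mk' D) := by
        rw [MonoidHom.comap_bot, QuotientGroup.ker_mk']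
      have e2 : W.map (QuotientGroup.mk' D) = Cfsg.pCore p (G ⧸ D) := by
        rw [hW]
        unfold Cfsg.pPrimePCore
        exact Subgroup.map_comap_eq_self_of_surjective (QuotientGroup.mk'_surjective _) _
      conv_lhs => rw [e1]
      rw [Subgroup.relIndex_comap, e2, Subgroup.relIndex_bot_left, hm]
    obtain ⟨m, hm⟩ := h3
    rw [hm] at h2
    obtain ⟨i, -, hi⟩ := (Nat.dvd_prime_pow hprime).mp h2
    rw [hi] at h1 ⊢
    rcases Nat.eq_zero_or_pos i with h0 | hpos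
    · rw [h0, pow_zero]
    · exfalso
      exact hHrel ((dvd_pow_self p hpos.ne').trans h1)
  -- decompose g
  have hgtop : g ∈ N ⊔ W := by rw [hfrat]; trivial
  obtain ⟨n, hn, w, hw, rfl⟩ := Subgroup.mem_sup_of_normal_right.mp hgtop
  obtain ⟨h, hh, d', hd', rfl⟩ := Subgroup.mem_sup_of_normal_right.mp (hWHD hw)
  -- x is a p-element of N
  have hxord : ∃ k : ℕ, orderOf x = p ^ k := by
    obtain ⟨m, hm⟩ := P.2 ⟨x, hxP⟩
    have hm' : x ^ p ^ m = 1 := by simpa using congrArg Subtype.val hm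
    obtain ⟨i, -, hi⟩ := (Nat.dvd_prime_pow hprime).mp (orderOf_dvd_of_pow_eq_one hm')
    exact ⟨i, hi⟩
  have hx₁N : (d'⁻¹)⁻¹ * x * d'⁻¹ ∈ N := by
    have e : (d'⁻¹)⁻¹ * x * d'⁻¹ = (n * h)⁻¹ * (n * (h * d') * x * (n * (h * d'))⁻¹) * (n * h) := by group
    rw [e, hg]
    exact N.mul_mem (N.mul_mem (N.inv_mem (N.mul_mem hn (hHN hh))) (hPN hyP)) (N.mul_mem hn (hHN hh))
  obtain ⟨d₁, hd₁, d₂, hd₂, hdd⟩ := partA x (hPN hxP) hxord d'⁻¹ (D.inv_mem hd') hx₁N
  have hd₁x : d₁ * x = x * d₁ := Subgroup.mem_centralizer_singleton_iff.mp hd₁.2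
  refine ⟨n * h * d₂⁻¹, N.mul_mem (N.mul_mem hn (hHN hh)) (N.inv_mem (hcenN hd₂.2)), ?_⟩
  rw [← hg]
  have hd' : d' = d₂⁻¹ * d₁⁻¹ := by
    have : d'⁻¹ = d₁ * d₂ := hdd
    rw [← inv_inv d', this]; group
  rw [hd']
  have e1 : d₁⁻¹ * x * d₁ = x := by
    rw [mul_assoc, ← hd₁x]; group
  calc n * h * d₂⁻¹ * x * (n * h * d₂⁻¹)⁻¹
      = n * h * d₂⁻¹ * (d₁⁻¹ * x * d₁) * (n * h * d₂⁻¹)⁻¹ := by rw [e1]
    _ = n * (h * (d₂⁻¹ * d₁⁻¹)) * x * (n * (h * (d₂⁻¹ * d₁⁻¹)))⁻¹ := by group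

end Cfsg.Agent.S1907
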