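import Cfsg.Statements.S1910
import Mathlib

set_option autoImplicit false
open Cfsg

namespace Cfsg.Agent.S1910

variable {G : Type*} [Group G]

/-- Abstract consequence of tight embedding: a nontrivial 2-element of `K ∩ K^x` forces
`x ∈ N(K)`. -/
def TE2 (K : Subgroup G) : Prop :=
  ∀ x t : G, t ∈ K → x * t * x⁻¹ ∈ K → t ≠ 1 → (∃ k : ℕ, t ^ 2 ^ k = 1) →
    x ∈ Subgroup.normalizer (K : Set G)

theorem mem_cj (K : Subgroup G) (g x : G) :
    x ∈ K.map (MulAut.conj g).toMonoidHom ↔ g⁻¹ * x * g ∈ K := by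
  rw [Subgroup.mem_map]
  constructor
  · rintro ⟨y, hy, rfl⟩
    have : g⁻¹ * ((MulAut.conj g).toMonoidHom y) * g = y := by
      show g⁻¹ * (g * y * g⁻¹) * g = y
      group
    rw [this]; exact hy
  · intro h
    refine ⟨g⁻¹ * x * g, h, ?_⟩
    simp [MulAut.conj_apply, mul_assoc]

theorem eq_one_of_odd (H : Subgroup G) [Finite H] (hodd : Odd (Nat.card H)) {t : G} (ht : t ∈ H)
    (hk : ∃ k : ℕ, t ^ 2 ^ k = 1) : t = 1 := by
  obtain ⟨k, hk⟩ := hk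
  have h1 : orderOf t ∣ Nat.card H := Subgroup.orderOf_dvd_natCard H ht
  have h2 : orderOf t ∣ 2 ^ k := orderOf_dvd_of_pow_eq_one hk
  obtain ⟨j, -, hj⟩ := (Nat.dvd_prime_pow Nat.prime_two).mp h2
  rw [hj] at h1
  have hj0 : j = 0 := by
    by_contra hne
    have : 2 ∣ Nat.card H := (dvd_pow_self 2 hne).trans h1
    exact (Nat.not_even_iff_odd.mpr hodd) (even_iff_two_dvd.mpr this)
  rw [hj0, pow_zero] at hj
  exact orderOf_eq_one_iff.mp hj

theorem te2_of_tight [Finite G] {K : Subgroup G} (hK : Cfsg.IsTightlyEmbedded K) : TE2 K := by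
  intro x t ht hxt ht1 hk
  by_contra hx
  have hx' : x⁻¹ ∉ Subgroup.normalizer (K : Set G) := fun h => hx (by simpa using inv_mem h)
  have hodd := hK.2 x⁻¹ hx'
  apply ht1
  refine eq_one_of_odd _ hodd ?_ hk
  refine Subgroup.mem_inf.mpr ⟨ht, ?_⟩
  rw [mem_cj]
  simpa using hxt

theorem te2_conj {K : Subgroup G} (h : TE2 K) (g : G) :
    TE2 (K.map (MulAut.conj g).toMonoidHom) := by
  intro x t ht hxt ht1 hk
  rw [mem_cj] at ht hxt
  have hxt' : (g⁻¹ * x * g) * (g⁻¹ * t * g) * (g⁻¹ * x * g)⁻¹ ∈ K := by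
    have : (g⁻¹ * x * g) * (g⁻¹ * t * g) * (g⁻¹ * x * g)⁻¹ = g⁻¹ * (x * t * x⁻¹) * g := by group
    rw [this]; exact hxt
  have ht1' : g⁻¹ * t * g ≠ 1 := by
    intro h1
    apply ht1
    have : t = g * (g⁻¹ * t * g) * g⁻¹ := by group
    rw [this, h1]; group
  have hk' : ∃ k : ℕ, (g⁻¹ * t * g) ^ 2 ^ k = 1 := by
    obtain ⟨k, hk⟩ := hk
    refine ⟨k, ?_⟩
    have : (g⁻¹ * t * g) ^ 2 ^ k = g⁻¹ * t ^ 2 ^ k * g := by
      have := conj_pow (a := g⁻¹) (b := t) (i := 2 ^ k)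
      simpa using this
    rw [this, hk]; group
  have hn := h _ _ ht hxt' ht1' hk'
  rw [Subgroup.mem_normalizer_iff] at hn ⊢
  intro y
  rw [mem_cj, mem_cj]
  have := hn (g⁻¹ * y * g)
  have e : g⁻¹ * x * g * (g⁻¹ * y * g) * (g⁻¹ * x * g)⁻¹ = g⁻¹ * (x * y * x⁻¹) * g := by group
  rw [e] at this
  exact this

theorem pow_of_isPGroup {T : Subgroup G} (h : IsPGroup 2 T) {t : G} (ht : t ∈ T) :
    ∃ k : ℕ, t ^ 2 ^ k = 1 := by
  obtain ⟨k, hk⟩ := h ⟨t, ht⟩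
  exact ⟨k, by simpa using congrArg Subtype.val hk⟩

theorem mem_normalizer_of_conj_mem [Finite G] (T : Subgroup G) (r : G)
    (h : ∀ t ∈ T, r * t * r⁻¹ ∈ T) : r ∈ Subgroup.normalizer (T : Set G) := by
  have hpow : ∀ k : ℕ, ∀ t ∈ T, r ^ k * t * (r ^ k)⁻¹ ∈ T := by
    intro k
    induction k with
    | zero => intro t ht; simpa using ht
    | succ k ih =>
      intro t ht
      have := h _ (ih t ht)
      have e : r * (r ^ k * t * (r ^ k)⁻¹) * r⁻¹ = r ^ (k + 1) * t * (r ^ (k + 1))⁻¹ := by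
        rw [pow_succ']; group
      rw [e] at this
      exact this
  rw [Subgroup.mem_normalizer_iff]
  intro y
  refine ⟨h y, fun hy => ?_⟩
  have hr : r⁻¹ = r ^ (orderOf r - 1) := by
    have hpos : 0 < orderOf r := orderOf_pos r
    have : r ^ (orderOf r - 1) * r = 1 := by
      rw [← pow_succ, Nat.sub_add_cancel hpos, pow_orderOf_eq_one]
    exact (eq_inv_of_mul_eq_one_left this).symm ▸ rfl
  have := hpow (orderOf r - 1) _ hy
  rw [← hr] at this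
  have e : r⁻¹ * (r * y * r⁻¹) * r⁻¹⁻¹ = y := by group
  rw [e] at this
  exact this

/-- Product formula for a factorised subgroup. -/
theorem card_prod (H K L : Subgroup G) (hHL : H ≤ L) (hKL : K ≤ L)
    (hdisj : ∀ x ∈ H, x ∈ K → x = 1) (hdec : ∀ x ∈ L, ∃ h ∈ H, ∃ k ∈ K, x = h * k) :
    Nat.card L = Nat.card H * Nat.card K := by
  rw [← Nat.card_prod]
  symm
  apply Nat.card_congr
  refine Equiv.ofBijective (fun p : H × K => (⟨(p.1 : G) * (p.2 : G),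
    L.mul_mem (hHL p.1.2) (hKL p.2.2)⟩ : L)) ⟨?_, ?_⟩
  · rintro ⟨⟨h, hh⟩, ⟨k, hk⟩⟩ ⟨⟨h', hh'⟩, ⟨k', hk'⟩⟩ heq
    have heq' : h * k = h' * k' := congrArg Subtype.val heq
    have h1 : h'⁻¹ * h = k' * k⁻¹ := by
      calc h'⁻¹ * h = h'⁻¹ * (h * k) * k⁻¹ := by group
        _ = h'⁻¹ * (h' * k') * k⁻¹ := by rw [heq']
        _ = k' * k⁻¹ := by group
    have h2 : h'⁻¹ * h = 1 := hdisj _ (H.mul_mem (H.inv_mem hh') hh)
      (by rw [h1]; exact K.mul_mem hk' (K.inv_mem hk))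
    have h3 : h = h' := by
      have : h = h' * (h'⁻¹ * h) := by group
      rw [this, h2, mul_one]
    subst h3
    have h4 : k = k' := mul_left_cancel heq'
    subst h4
    rfl
  · rintro ⟨x, hx⟩
    obtain ⟨h, hh, k, hk, rfl⟩ := hdec x hx
    exact ⟨(⟨h, hh⟩, ⟨k, hk⟩), rfl⟩

theorem card_mul_relIndex {S M : Subgroup G} (h : S ≤ M) :
    Nat.card S * S.relIndex M = Nat.card M := by
  have := Subgroup.card_mul_index (S.subgroupOf M)
  rw [Nat.card_congr (Subgroup.subgroupOfEquivOfLe h).toEquiv] at this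
  exact this

theorem syl_max [Finite G] {T M : Subgroup G} (hidx : ¬ 2 ∣ T.relIndex M)
    (T' : Subgroup G) (h2 : IsPGroup 2 T') (hle : T ≤ T') (hT'M : T' ≤ M) : T' ≤ T := by
  haveI : Fact (Nat.Prime 2) := ⟨Nat.prime_two⟩
  rw [← Subgroup.relIndex_eq_one]
  have h1 : T.relIndex T' * T'.relIndex M = T.relIndex M := Subgroup.relIndex_mul_relIndex _ _ _ hle hT'M
  obtain ⟨n, hn⟩ := IsPGroup.iff_card.mp h2
  have h3 : T.relIndex T' ∣ 2 ^ n := hn ▸ Subgroup.relIndex_dvd_card T T'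
  obtain ⟨j, -, hj⟩ := (Nat.dvd_prime_pow Nat.prime_two).mp h3
  by_contra hne
  have hj0 : j ≠ 0 := by
    intro h0; rw [h0, pow_zero] at hj; exact hne hj
  apply hidx
  rw [← h1, hj]
  exact (dvd_pow_self 2 hj0).mul_right _

theorem exists_sylow_ge [Finite G] (P M : Subgroup G) (hP : IsPGroup 2 P) (hPM : P ≤ M) :
    ∃ S : Subgroup G, P ≤ S ∧ S ≤ M ∧ IsPGroup 2 S ∧ ¬ 2 ∣ S.relIndex M := by
  haveI : Fact (Nat.Prime 2) := ⟨Nat.prime_two⟩
  have hP' : IsPGroup 2 (P.subgroupOf M) := hP.comap_subtype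
  obtain ⟨R, hR⟩ := hP'.exists_le_sylow
  refine ⟨(R : Subgroup M).map M.subtype, ?_, ?_, ?_, ?_⟩
  · intro x hx
    exact ⟨⟨x, hPM hx⟩, hR (Subgroup.mem_subgroupOf.mpr hx), rfl⟩
  · exact Subgroup.map_subtype_le _
  · exact R.isPGroup'.map _
  · have : ((R : Subgroup M).map M.subtype).relIndex M = (R : Subgroup M).index := by
      unfold Subgroup.relIndex
      congr 1
      ext x
      rw [Subgroup.mem_subgroupOf]
      constructor
      · rintro ⟨y, hy, hxy⟩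
        have : y = x := Subtype.ext hxy
        rw [← this]; exact hy
      · intro hx
        exact ⟨x, hx, rfl⟩
    rw [this]
    exact R.not_dvd_index

section core

variable (A B T S : Subgroup G)

theorem comm_TU (hdisj : ∀ t ∈ T, t ∈ A → t = 1)
    (hTN : T ≤ Subgroup.normalizer (A : Set G)) :
    ∀ t ∈ T, ∀ u ∈ S ⊓ Subgroup.normalizer (T : Set G) ⊓ A, t * u = u * t := by
  intro t ht u hu
  obtain ⟨hu1, huA⟩ := Subgroup.mem_inf.mp hu
  obtain ⟨huS, huN⟩ := Subgroup.mem_inf.mp hu1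
  have hc1 : t * u * t⁻¹ * u⁻¹ ∈ T := by
    have := (Subgroup.mem_normalizer_iff.mp huN t⁻¹).mp (T.inv_mem ht)
    have e : t * u * t⁻¹ * u⁻¹ = t * (u * t⁻¹ * u⁻¹) := by group
    rw [e]; exact T.mul_mem ht this
  have hc2 : t * u * t⁻¹ * u⁻¹ ∈ A := by
    have := (Subgroup.mem_normalizer_iff.mp (hTN ht) u).mp huA
    exact A.mul_mem this (A.inv_mem huA)
  have h1 := hdisj _ hc1 hc2
  calc t * u = (t * u * t⁻¹ * u⁻¹) * (u * t) := by group
    _ = u * t := by rw [h1, one_mul]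

theorem U_le_normB (hB : TE2 B) (hT1 : T ≠ ⊥) (hTB : T ≤ B) (hT2 : IsPGroup 2 T)
    (hcomm : ∀ t ∈ T, ∀ u ∈ S ⊓ Subgroup.normalizer (T : Set G) ⊓ A, t * u = u * t) :
    S ⊓ Subgroup.normalizer (T : Set G) ⊓ A ≤ Subgroup.normalizer (B : Set G) := by
  intro u hu
  obtain ⟨⟨t, ht⟩, ht1⟩ := (Subgroup.ne_bot_iff_exists_ne_one).mp hT1
  have ht1' : t ≠ 1 := fun h => ht1 (Subtype.ext h)
  refine hB u t (hTB ht) ?_ ht1' (pow_of_isPGroup hT2 ht)
  have e : u * t * u⁻¹ = t := by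
    rw [← hcomm t ht u hu]; group
  rw [e]; exact hTB ht

theorem decomp (hTN : T ≤ Subgroup.normalizer (A : Set G)) (hTS : T ≤ S) (hS : S ≤ A ⊔ T) :
    ∀ x ∈ S, x ∈ Subgroup.normalizer (T : Set G) →
      ∃ u ∈ S ⊓ Subgroup.normalizer (T : Set G) ⊓ A, ∃ t ∈ T, x = u * t := by
  intro x hxS hxN
  have hx : x ∈ ((A ⊔ T : Subgroup G) : Set G) := hS hxS
  rw [Subgroup.coe_mul_of_right_le_normalizer_left A T hTN] at hx
  obtain ⟨a, ha, t, ht, rfl⟩ := Set.mem_mul.mp hx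
  refine ⟨a, ?_, t, ht, rfl⟩
  have e : a = a * t * t⁻¹ := by group
  have haS : a ∈ S := by
    rw [e]; exact S.mul_mem hxS (S.inv_mem (hTS ht))
  have haN : a ∈ Subgroup.normalizer (T : Set G) := by
    rw [e]; exact Subgroup.mul_mem _ hxN (Subgroup.inv_mem _ (Subgroup.le_normalizer ht))
  exact Subgroup.mem_inf.mpr ⟨Subgroup.mem_inf.mpr ⟨haS, haN⟩, ha⟩

theorem inj_hom [Finite G] (hB : TE2 B) (hT2 : IsPGroup 2 T) (hS2 : IsPGroup 2 S) (hTB : T ≤ B)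
    (hTN : T ≤ Subgroup.normalizer (A : Set G)) (hTS : T ≤ S) (hS : S ≤ A ⊔ T)
    (hdisj : ∀ t ∈ T, t ∈ A → t = 1)
    (hmax : ∀ x ∈ S, x ∈ Subgroup.normalizer (T : Set G) → x ∈ B → x ∈ T)
    (hN : ¬ S ≤ Subgroup.normalizer (T : Set G)) :
    ∃ φ : ↥T →* ↥(S ⊓ Subgroup.normalizer (T : Set G) ⊓ A), Function.Injective φ := by
  classical
  haveI : Fact (Nat.Prime 2) := ⟨Nat.prime_two⟩
  have ha : ∃ s ∈ S, s ∉ Subgroup.normalizer (T : Set G) ∧
      ∀ h ∈ S, h ∈ Subgroup.normalizer (T : Set G) →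
        s * h * s⁻¹ ∈ Subgroup.normalizer (T : Set G) := by
    haveI : Group.IsNilpotent S := hS2.isNilpotent
    have hlt : (Subgroup.normalizer (T : Set G)).subgroupOf S < ⊤ := by
      rw [lt_top_iff_ne_top, Ne, Subgroup.subgroupOf_eq_top]; exact hN
    have hnc := Group.normalizerCondition_of_isNilpotent _ hlt
    obtain ⟨s, hs, hs'⟩ := SetLike.exists_of_lt hnc
    refine ⟨s.1, s.2, fun h => hs' (Subgroup.mem_subgroupOf.mpr h), fun h hhS hhN => ?_⟩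
    have := (Subgroup.mem_normalizer_iff.mp hs ⟨h, hhS⟩).mp (Subgroup.mem_subgroupOf.mpr hhN)
    exact Subgroup.mem_subgroupOf.mp this
  obtain ⟨s, hsS, hsN, hsn⟩ := ha
  have hs' : s ∈ ((A ⊔ T : Subgroup G) : Set G) := hS hsS
  rw [Subgroup.coe_mul_of_right_le_normalizer_left A T hTN] at hs'
  obtain ⟨r, hrA, t₀, ht₀, rfl⟩ := Set.mem_mul.mp hs'
  have hrS : r ∈ S := by
    have e : r = r * t₀ * t₀⁻¹ := by group
    rw [e]; exact S.mul_mem hsS (S.inv_mem (hTS ht₀))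
  have hrN : r ∉ Subgroup.normalizer (T : Set G) := fun h =>
    hsN (Subgroup.mul_mem _ h (Subgroup.le_normalizer ht₀))
  have hconj : ∀ t ∈ T, r * t * r⁻¹ ∈ S ∧ r * t * r⁻¹ ∈ Subgroup.normalizer (T : Set G) := by
    intro t ht
    constructor
    · exact S.mul_mem (S.mul_mem hrS (hTS ht)) (S.inv_mem hrS)
    · have h1 : t₀⁻¹ * t * t₀ ∈ T := T.mul_mem (T.mul_mem (T.inv_mem ht₀) ht) ht₀
      have := hsn _ (hTS h1) (Subgroup.le_normalizer h1)
      have e : r * t₀ * (t₀⁻¹ * t * t₀) * (r * t₀)⁻¹ = r * t * r⁻¹ := by group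
      rwa [e] at this
  have hrB : r ∉ Subgroup.normalizer (B : Set G) := by
    intro h
    apply hrN
    apply mem_normalizer_of_conj_mem
    intro t ht
    exact hmax _ (hconj t ht).1 (hconj t ht).2 ((Subgroup.mem_normalizer_iff.mp h t).mp (hTB ht))
  have htriv : ∀ t ∈ T, r * t * r⁻¹ ∈ T → t = 1 := by
    intro t ht h
    by_contra ht1
    exact hrB (hB r t (hTB ht) (hTB h) ht1 (pow_of_isPGroup hT2 ht))
  have hdec : ∀ t : T, ∃ u ∈ S ⊓ Subgroup.normalizer (T : Set G) ⊓ A, ∃ t' ∈ T,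
      r * (t : G) * r⁻¹ = u * t' := fun t =>
    decomp A T S hTN hTS hS _ (hconj t t.2).1 (hconj t t.2).2
  have huniq : ∀ u₁ ∈ S ⊓ Subgroup.normalizer (T : Set G) ⊓ A,
      ∀ u₂ ∈ S ⊓ Subgroup.normalizer (T : Set G) ⊓ A, ∀ t₁ ∈ T, ∀ t₂ ∈ T,
      u₁ * t₁ = u₂ * t₂ → u₁ = u₂ := by
    intro u₁ hu₁ u₂ hu₂ t₁ ht₁ t₂ ht₂ h
    have h1 : u₂⁻¹ * u₁ = t₂ * t₁⁻¹ := by
      calc u₂⁻¹ * u₁ = u₂⁻¹ * (u₁ * t₁) * t₁⁻¹ := by group
        _ = u₂⁻¹ * (u₂ * t₂) * t₁⁻¹ := by rw [h]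
        _ = t₂ * t₁⁻¹ := by group
    have h2 : t₂ * t₁⁻¹ = 1 := hdisj _ (T.mul_mem ht₂ (T.inv_mem ht₁))
      (by rw [← h1]; exact A.mul_mem (A.inv_mem (Subgroup.mem_inf.mp hu₂).2)
            (Subgroup.mem_inf.mp hu₁).2)
    rw [h2] at h1
    exact (inv_mul_eq_one.mp h1).symm
  have hcomm := comm_TU A T S hdisj hTN
  let f : T → ↥(S ⊓ Subgroup.normalizer (T : Set G) ⊓ A) := fun t =>
    ⟨Classical.choose (hdec t), (Classical.choose_spec (hdec t)).1⟩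
  have hf : ∀ t : T, ∃ t' ∈ T, r * (t : G) * r⁻¹ = (f t : G) * t' := fun t =>
    (Classical.choose_spec (hdec t)).2
  have hmul : ∀ a b : T, f (a * b) = f a * f b := by
    intro a b
    obtain ⟨ta, hta, ea⟩ := hf a
    obtain ⟨tb, htb, eb⟩ := hf b
    obtain ⟨tab, htab, eab⟩ := hf (a * b)
    apply Subtype.ext
    have e1 : r * ((a : G) * (b : G)) * r⁻¹ = (f a : G) * (f b : G) * (ta * tb) := by
      calc r * ((a : G) * (b : G)) * r⁻¹ = (r * a * r⁻¹) * (r * b * r⁻¹) := by group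
        _ = ((f a : G) * ta) * ((f b : G) * tb) := by rw [ea, eb]
        _ = (f a : G) * (ta * (f b : G)) * tb := by group
        _ = (f a : G) * ((f b : G) * ta) * tb := by rw [hcomm ta hta _ (f b).2]
        _ = (f a : G) * (f b : G) * (ta * tb) := by group
    have e2 : ((f (a * b) : ↥(S ⊓ Subgroup.normalizer (T : Set G) ⊓ A)) : G) * tab =
        (f a : G) * (f b : G) * (ta * tb) := by
      rw [← eab, ← e1]; rfl
    exact huniq _ (f (a * b)).2 _ (Subgroup.mul_mem _ (f a).2 (f b).2) _ htab _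
      (T.mul_mem hta htb) e2
  refine ⟨MonoidHom.mk' f hmul, ?_⟩
  rw [injective_iff_map_eq_one]
  intro a ha
  have ha' : f a = 1 := ha
  obtain ⟨ta, hta, ea⟩ := hf a
  rw [ha'] at ea
  have : r * (a : G) * r⁻¹ ∈ T := by
    rw [ea]; simpa using hta
  exact Subtype.ext (htriv _ a.2 this)

theorem sylow_case [Finite G] (hTN : T ≤ Subgroup.normalizer (A : Set G)) (hTS : T ≤ S)
    (hS : S ≤ A ⊔ T) (hdisj : ∀ t ∈ T, t ∈ A → t = 1)
    (hN : S ≤ Subgroup.normalizer (T : Set G)) (hSyl : ¬ 2 ∣ S.relIndex (A ⊔ T)) :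
    ∃ m, Odd m ∧ Nat.card A = Nat.card ↥(S ⊓ Subgroup.normalizer (T : Set G) ⊓ A) * m := by
  have c1 : Nat.card ↥(A ⊔ T) = Nat.card A * Nat.card T :=
    card_prod A T (A ⊔ T) le_sup_left le_sup_right (fun x hxA hxT => hdisj x hxT hxA) (by
      intro x hx
      have hx' : x ∈ ((A ⊔ T : Subgroup G) : Set G) := hx
      rw [Subgroup.coe_mul_of_right_le_normalizer_left A T hTN] at hx'
      obtain ⟨a, ha, t, ht, rfl⟩ := Set.mem_mul.mp hx'
      exact ⟨a, ha, t, ht, rfl⟩)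
  have c2 : Nat.card S = Nat.card ↥(S ⊓ Subgroup.normalizer (T : Set G) ⊓ A) * Nat.card T :=
    card_prod _ T S (inf_le_left.trans inf_le_left) hTS
      (fun x hxU hxT => hdisj x hxT (Subgroup.mem_inf.mp hxU).2)
      (fun x hx => decomp A T S hTN hTS hS x hx (hN hx))
  have c3 := card_mul_relIndex hS
  refine ⟨S.relIndex (A ⊔ T), Nat.odd_iff.mpr (Nat.two_dvd_ne_zero.mp hSyl), ?_⟩
  have hpos : 0 < Nat.card T := Nat.card_pos
  rw [c1, c2] at c3
  apply Nat.eq_of_mul_eq_mul_right hpos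
  rw [← c3]; ring

theorem one_sided [Finite G] (hB : TE2 B) (hT2 : IsPGroup 2 T) (hS2 : IsPGroup 2 S)
    (hTB : T ≤ B) (hTN : T ≤ Subgroup.normalizer (A : Set G)) (hTS : T ≤ S) (hS : S ≤ A ⊔ T)
    (hdisj : ∀ t ∈ T, t ∈ A → t = 1)
    (hmax : ∀ x ∈ S, x ∈ Subgroup.normalizer (T : Set G) → x ∈ B → x ∈ T)
    (hSyl : ¬ 2 ∣ S.relIndex (A ⊔ T)) :
    (∃ φ : ↥T →* ↥(S ⊓ Subgroup.normalizer (T : Set G) ⊓ A), Function.Injective φ) ∨
    (∃ m, Odd m ∧ Nat.card A = Nat.card ↥(S ⊓ Subgroup.normalizer (T : Set G) ⊓ A) * m) := by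
  by_cases hN : S ≤ Subgroup.normalizer (T : Set G)
  · right; exact sylow_case A T S hTN hTS hS hdisj hN hSyl
  · left; exact inj_hom A B T S hB hT2 hS2 hTB hTN hTS hS hdisj hmax hN

end core

theorem card_le_of_odd_mul [Finite G] {T U : Subgroup G} (hT2 : IsPGroup 2 T) {n m : ℕ}
    (hdvd : Nat.card T ∣ n) (hm : Odd m) (hn : n = Nat.card U * m) :
    Nat.card T ≤ Nat.card U := by
  haveI : Fact (Nat.Prime 2) := ⟨Nat.prime_two⟩
  obtain ⟨k, hk⟩ := IsPGroup.iff_card.mp hT2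
  rw [hk, hn] at hdvd
  have hco : Nat.Coprime (2 ^ k) m := Nat.Coprime.pow_left k (Nat.coprime_two_left.mpr hm)
  rw [hk]
  exact Nat.le_of_dvd Nat.card_pos (hco.dvd_of_dvd_mul_right hdvd)

theorem sylow_iso [Finite G] (A U T₀ : Subgroup G) (hU : U ≤ A) (hT₀ : T₀ ≤ A)
    (hU2 : IsPGroup 2 U) (hT2 : IsPGroup 2 T₀) (hUi : ¬ 2 ∣ U.relIndex A)
    (hTi : ¬ 2 ∣ T₀.relIndex A) : Nonempty (↥U ≃* ↥T₀) := by
  haveI : Fact (Nat.Prime 2) := ⟨Nat.prime_two⟩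
  let PU : Sylow 2 A := (hU2.comap_subtype (K := A)).toSylow hUi
  let PT : Sylow 2 A := (hT2.comap_subtype (K := A)).toSylow hTi
  have e : ↥(U.subgroupOf A) ≃* ↥(T₀.subgroupOf A) := Sylow.equiv PU PT
  exact ⟨(Subgroup.subgroupOfEquivOfLe hU).symm.trans (e.trans (Subgroup.subgroupOfEquivOfLe hT₀))⟩

/-- Let Q be a tightly embedded subgroup of a finite group G, g an element outside N_G(Q), T a nontrivial Sylow 2-subgroup of Q^g ∩ N_G(Q), and S a Sylow 2-subgroup of QT containing T. Then T ∩ Q = 1, and N_S(T) is the direct product of T and N_S(T) ∩ Q, with N_S(T) ∩ Q isomorphic to T. -/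
theorem result {G : Type*} [Group G] [Finite G] (Q : Subgroup G) (hQ : Cfsg.IsTightlyEmbedded Q)
    (g : G) (hg : g ∉ Subgroup.normalizer (Q : Set G))
    (T : Subgroup G) (hT1 : T ≠ ⊥) (hT : T ≤ Q.map (MulAut.conj g).toMonoidHom ⊓ Subgroup.normalizer (Q : Set G))
    (hTsyl : IsPGroup 2 T ∧ ¬ 2 ∣ T.relIndex (Q.map (MulAut.conj g).toMonoidHom ⊓ Subgroup.normalizer (Q : Set G)))
    (S : Subgroup G) (hTS : T ≤ S) (hS : S ≤ Q ⊔ T) (hSsyl : IsPGroup 2 S ∧ ¬ 2 ∣ S.relIndex (Q ⊔ T)) :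
    T ⊓ Q = ⊥ ∧
      T ⊓ (S ⊓ Subgroup.normalizer (T : Set G) ⊓ Q) = ⊥ ∧
      ⁅T, S ⊓ Subgroup.normalizer (T : Set G) ⊓ Q⁆ = ⊥ ∧
      T ⊔ (S ⊓ Subgroup.normalizer (T : Set G) ⊓ Q) = S ⊓ Subgroup.normalizer (T : Set G) ∧
      Nonempty (↥(S ⊓ Subgroup.normalizer (T : Set G) ⊓ Q) ≃* T) := by
  obtain ⟨hT2, hTidx⟩ := hTsyl
  obtain ⟨hS2, hSidx⟩ := hSsyl
  have hA : TE2 Q := te2_of_tight hQ
  have hB : TE2 (Q.map (MulAut.conj g).toMonoidHom) := te2_conj hA g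
  have hAB : ∀ t, t ∈ Q → t ∈ Q.map (MulAut.conj g).toMonoidHom → (∃ k : ℕ, t ^ 2 ^ k = 1) →
      t = 1 := by
    intro t htQ htB hk
    exact eq_one_of_odd _ (hQ.2 g hg) (Subgroup.mem_inf.mpr ⟨htQ, htB⟩) hk
  have hcardB : Nat.card ↥(Q.map (MulAut.conj g).toMonoidHom) = Nat.card Q :=
    Subgroup.card_map_of_injective (MulAut.conj g).injective
  generalize hBdef : Q.map (MulAut.conj g).toMonoidHom = B at *
  have hTB : T ≤ B := hT.trans inf_le_left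
  have hTN : T ≤ Subgroup.normalizer (Q : Set G) := hT.trans inf_le_right
  have hdisj : ∀ t ∈ T, t ∈ Q → t = 1 := fun t ht htQ =>
    hAB t htQ (hTB ht) (pow_of_isPGroup hT2 ht)
  have hcomm := comm_TU Q T S hdisj hTN
  have hdec := decomp Q T S hTN hTS hS
  have hUS : S ⊓ Subgroup.normalizer (T : Set G) ⊓ Q ≤ S := inf_le_left.trans inf_le_left
  have hUQ : S ⊓ Subgroup.normalizer (T : Set G) ⊓ Q ≤ Q := inf_le_right
  have hU2 : IsPGroup 2 ↥(S ⊓ Subgroup.normalizer (T : Set G) ⊓ Q) := hS2.to_le hUS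
  have hUNB := U_le_normB Q B T S hB hT1 hTB hT2 hcomm
  have hSN : S ≤ Subgroup.normalizer (Q : Set G) :=
    hS.trans (sup_le Subgroup.le_normalizer hTN)
  have hmax : ∀ x ∈ S, x ∈ Subgroup.normalizer (T : Set G) → x ∈ B → x ∈ T := by
    intro x hxS hxN hxB
    have h1 : S ⊓ Subgroup.normalizer (T : Set G) ⊓ B ≤ T := by
      apply syl_max hTidx _ (hS2.to_le (inf_le_left.trans inf_le_left))
      · exact le_inf (le_inf hTS Subgroup.le_normalizer) hTB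
      · exact le_inf inf_le_right ((inf_le_left.trans inf_le_left).trans hSN)
    exact h1 (Subgroup.mem_inf.mpr ⟨Subgroup.mem_inf.mpr ⟨hxS, hxN⟩, hxB⟩)
  have alt1 := one_sided Q B T S hB hT2 hS2 hTB hTN hTS hS hdisj hmax hSidx
  generalize hUdef : S ⊓ Subgroup.normalizer (T : Set G) ⊓ Q = U at *
  have part1 : T ⊓ Q = ⊥ := by
    rw [eq_bot_iff]; intro x hx
    obtain ⟨h1, h2⟩ := Subgroup.mem_inf.mp hx
    exact Subgroup.mem_bot.mpr (hdisj x h1 h2)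
  have part2 : T ⊓ U = ⊥ := by
    rw [eq_bot_iff]; intro x hx
    obtain ⟨h1, h2⟩ := Subgroup.mem_inf.mp hx
    exact Subgroup.mem_bot.mpr (hdisj x h1 (hUQ h2))
  have hTcU : T ≤ Subgroup.centralizer (U : Set G) := by
    intro t ht
    rw [Subgroup.mem_centralizer_iff]
    intro u hu
    exact (hcomm t ht u hu).symm
  have part3 : ⁅T, U⁆ = ⊥ := by
    rw [Subgroup.commutator_eq_bot_iff_le_centralizer]
    exact hTcU
  have part4 : T ⊔ U = S ⊓ Subgroup.normalizer (T : Set G) := by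
    apply le_antisymm
    · refine sup_le (le_inf hTS Subgroup.le_normalizer) ?_
      rw [← hUdef]; exact inf_le_left
    · intro x hx
      obtain ⟨hxS, hxN⟩ := Subgroup.mem_inf.mp hx
      obtain ⟨u, hu, t, ht, rfl⟩ := hdec x hxS hxN
      rw [sup_comm]
      exact Subgroup.mul_mem_sup hu ht
  refine ⟨part1, part2, part3, part4, ?_⟩
  have hTdvd : Nat.card T ∣ Nat.card Q := hcardB ▸ Subgroup.card_dvd_of_le hTB
  have hTU : Nat.card T ≤ Nat.card U := by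
    rcases alt1 with ⟨φ, hφ⟩ | ⟨m, hm, hcard⟩
    · exact Nat.card_le_card_of_injective φ hφ
    · exact card_le_of_odd_mul hT2 hTdvd hm hcard
  have hU1 : U ≠ ⊥ := by
    rw [← Subgroup.one_lt_card_iff_ne_bot]
    exact lt_of_lt_of_le ((Subgroup.one_lt_card_iff_ne_bot T).mpr hT1) hTU
  have hTUS : T ⊔ U ≤ S := sup_le hTS hUS
  obtain ⟨S', hPS', hS'M, hS'2, hS'idx⟩ :=
    exists_sylow_ge (T ⊔ U) (B ⊔ U) (hS2.to_le hTUS) (sup_le_sup_right hTB U)
  have hTS' : T ≤ S' := le_sup_left.trans hPS'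
  have hUS' : U ≤ S' := le_sup_right.trans hPS'
  have hdisj' : ∀ u ∈ U, u ∈ B → u = 1 := fun u hu huB =>
    hAB u (hUQ hu) huB (pow_of_isPGroup hU2 hu)
  have hcomm' := comm_TU B U S' hdisj' hUNB
  have hdec' := decomp B U S' hUNB hUS' hS'M
  have hU'N : S' ⊓ Subgroup.normalizer (U : Set G) ⊓ B ≤ Subgroup.normalizer (Q : Set G) :=
    U_le_normB B Q U S' hA hU1 hUQ hU2 hcomm'
  have hTU' : T ≤ S' ⊓ Subgroup.normalizer (U : Set G) ⊓ B :=
    le_inf (le_inf hTS' (hTcU.trans (Subgroup.centralizer_le_normalizer _))) hTB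
  have hU'T : S' ⊓ Subgroup.normalizer (U : Set G) ⊓ B ≤ T := by
    apply syl_max hTidx _ (hS'2.to_le (inf_le_left.trans inf_le_left)) hTU'
    exact le_inf inf_le_right hU'N
  have hmax' : ∀ x ∈ S', x ∈ Subgroup.normalizer (U : Set G) → x ∈ Q → x ∈ U := by
    intro x hxS hxN hxQ
    obtain ⟨τ, hτ, u, hu, rfl⟩ := hdec' x hxS hxN
    have hτT : τ ∈ T := hU'T hτ
    have hτQ : τ ∈ Q := by
      have e : τ = τ * u * u⁻¹ := by group
      rw [e]; exact Q.mul_mem hxQ (Q.inv_mem (hUQ hu))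
    rw [hdisj τ hτT hτQ, one_mul]; exact hu
  have alt2 := one_sided B Q U S' hA hU2 hS'2 hUQ hUNB hUS' hS'M hdisj' hmax' hS'idx
  have hU'eq : S' ⊓ Subgroup.normalizer (U : Set G) ⊓ B = T := le_antisymm hU'T hTU'
  have hUdvd : Nat.card U ∣ Nat.card B := hcardB ▸ Subgroup.card_dvd_of_le hUQ
  rw [hU'eq] at alt2
  have hUT : Nat.card U ≤ Nat.card T := by
    rcases alt2 with ⟨ψ, hψ⟩ | ⟨m, hm, hcard⟩
    · exact Nat.card_le_card_of_injective ψ hψ
    · exact card_le_of_odd_mul hU2 hUdvd hm hcard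
  rcases alt1 with ⟨φ, hφ⟩ | ⟨m, hm, hcard⟩
  · have hbij : Function.Bijective φ := hφ.bijective_of_nat_card_le hUT
    exact ⟨(MulEquiv.ofBijective φ hbij).symm⟩
  · rcases alt2 with ⟨ψ, hψ⟩ | ⟨m', hm', hcard'⟩
    · have hbij : Function.Bijective ψ := hψ.bijective_of_nat_card_le hTU
      exact ⟨MulEquiv.ofBijective ψ hbij⟩
    · have hT₀Q : T.map (MulAut.conj g⁻¹).toMonoidHom ≤ Q := by
        intro x hx
        rw [mem_cj] at hx
        have h1 := hTB hx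
        rw [← hBdef, mem_cj] at h1
        have e : g⁻¹ * (g⁻¹⁻¹ * x * g⁻¹) * g = x := by group
        rw [e] at h1
        exact h1
      have hcT₀ : Nat.card ↥(T.map (MulAut.conj g⁻¹).toMonoidHom) = Nat.card T :=
        Subgroup.card_map_of_injective (MulAut.conj g⁻¹).injective
      have hUi : ¬ 2 ∣ U.relIndex Q := by
        have h1 := card_mul_relIndex hUQ
        rw [hcard] at h1
        have h2 : U.relIndex Q = m := Nat.eq_of_mul_eq_mul_left Nat.card_pos h1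
        rw [h2]
        exact fun h => (Nat.not_even_iff_odd.mpr hm) (even_iff_two_dvd.mpr h)
      have hTi : ¬ 2 ∣ (T.map (MulAut.conj g⁻¹).toMonoidHom).relIndex Q := by
        have h1 := card_mul_relIndex hT₀Q
        rw [hcT₀, ← hcardB, hcard'] at h1
        have h2 : (T.map (MulAut.conj g⁻¹).toMonoidHom).relIndex Q = m' :=
          Nat.eq_of_mul_eq_mul_left Nat.card_pos h1
        rw [h2]
        exact fun h => (Nat.not_even_iff_odd.mpr hm') (even_iff_two_dvd.mpr h)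
      obtain ⟨e⟩ := sylow_iso Q U (T.map (MulAut.conj g⁻¹).toMonoidHom) hUQ hT₀Q hU2
        (hT2.map _) hUi hTi
      exact ⟨e.trans (T.equivMapOfInjective _ (MulAut.conj g⁻¹).injective).symm⟩

end Cfsg.Agent.S1910
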