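import Cfsg.Statements.S1921
import Cfsg.Agent.Lib.Helper21.Comp
import Cfsg.Agent.Lib.Helper29.Basic

set_option autoImplicit false
open Cfsg

namespace Cfsg.Agent.S1921

/-- Let a be an involution of a finite group H and L a component of H with a L a⁻¹ ≠ L; put M = ⟨L, aLa⁻¹⟩ and let J be the subgroup generated by the elements x · a x a⁻¹ with x ∈ L (the diagonal). Then every element of M outside J·Z(M) generates M together with J. -/
theorem result {H : Type*} [Group H] [Finite H] (a : H) (ha : orderOf a = 2) (L : Subgroup H) (hL : Cfsg.IsComponent L)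
    (hLa : L.map (MulAut.conj a).toMonoidHom ≠ L) (x : H) (hxM : x ∈ L ⊔ L.map (MulAut.conj a).toMonoidHom)
    (hxJ : x ∉ Subgroup.closure {y : H | ∃ l ∈ L, y = l * (a * l * a⁻¹)} ⊔
      ((L ⊔ L.map (MulAut.conj a).toMonoidHom) ⊓ Subgroup.centralizer ((L ⊔ L.map (MulAut.conj a).toMonoidHom : Subgroup H) : Set H))) :
    Subgroup.closure {y : H | ∃ l ∈ L, y = l * (a * l * a⁻¹)} ⊔ Subgroup.zpowers x = L ⊔ L.map (MulAut.conj a).toMonoidHom := by
  set La := L.map (MulAut.conj a).toMonoidHom with hLa_def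
  set J := Subgroup.closure {y : H | ∃ l ∈ L, y = l * (a * l * a⁻¹)} with hJ_def
  have hLaC : Cfsg.IsComponent La := Cfsg.Agent.Lib.Helper29.Basic.isComponent_map_conj hL a
  have hcomm : ⁅L, La⁆ = ⊥ :=
    Cfsg.Agent.Lib.Helper21.Comp.components_commute L La hL hLaC (Ne.symm hLa)
  have hcent : L ≤ Subgroup.centralizer (La : Set H) :=
    Subgroup.commutator_eq_bot_iff_le_centralizer.1 hcomm
  have hc : ∀ u ∈ L, ∀ w ∈ La, u * w = w * u := by
    intro u hu w hw
    exact ((Subgroup.mem_centralizer_iff.1 (hcent hu)) w hw).symm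
  have hmemLa : ∀ l ∈ L, a * l * a⁻¹ ∈ La := by
    intro l hl
    exact Subgroup.mem_map.2 ⟨l, hl, by simp [MulAut.conj_apply]⟩
  have hJmem : ∀ l ∈ L, l * (a * l * a⁻¹) ∈ J := fun l hl => Subgroup.subset_closure ⟨l, hl, rfl⟩
  have hJM : J ≤ L ⊔ La := by
    rw [hJ_def, Subgroup.closure_le]
    rintro y ⟨l, hl, rfl⟩
    exact Subgroup.mul_mem_sup hl (hmemLa l hl)
  -- decomposition of x
  have hx' : x ∈ ((L ⊔ La : Subgroup H) : Set H) := hxM
  rw [Subgroup.coe_mul_of_left_le_normalizer_right L La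
    (hcent.trans (Subgroup.centralizer_le_normalizer _))] at hx'
  obtain ⟨u, hu, w, hw, hxuw⟩ := Set.mem_mul.1 hx'
  obtain ⟨v, hv, hvw⟩ := Subgroup.mem_map.1 hw
  have hcL : u * v⁻¹ ∈ L := L.mul_mem hu (L.inv_mem hv)
  have hxeq : x = (u * v⁻¹) * (v * (a * v * a⁻¹)) := by
    rw [← hxuw, ← hvw]
    simp [MulAut.conj_apply, mul_assoc]
  have hxH : x ∈ J ⊔ Subgroup.zpowers x :=
    (le_sup_right : Subgroup.zpowers x ≤ _) (Subgroup.mem_zpowers x)
  have hjH : v * (a * v * a⁻¹) ∈ J ⊔ Subgroup.zpowers x :=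
    (le_sup_left : J ≤ _) (hJmem v hv)
  have hcH : u * v⁻¹ ∈ J ⊔ Subgroup.zpowers x := by
    have h1 : u * v⁻¹ = x * (v * (a * v * a⁻¹))⁻¹ := by rw [hxeq]; group
    rw [h1]; exact Subgroup.mul_mem _ hxH (Subgroup.inv_mem _ hjH)
  have hN : ((J ⊔ Subgroup.zpowers x).subgroupOf L).Normal := by
    constructor
    intro n hn g
    rw [Subgroup.mem_subgroupOf] at hn ⊢
    have hj := (le_sup_left : J ≤ J ⊔ Subgroup.zpowers x) (hJmem g g.2)
    have h3 := hc n n.2 (a * g * a⁻¹) (hmemLa g g.2)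
    have h2 : ((g * n * g⁻¹ : L) : H)
        = ((g : H) * (a * g * a⁻¹)) * n * ((g : H) * (a * g * a⁻¹))⁻¹ := by
      simp only [Subgroup.coe_mul, Subgroup.coe_inv]
      calc (g : H) * n * (g : H)⁻¹ = g * (n * (a * g * a⁻¹) * (a * g * a⁻¹)⁻¹) * (g : H)⁻¹ := by
            group
        _ = g * ((a * g * a⁻¹) * n * (a * g * a⁻¹)⁻¹) * (g : H)⁻¹ := by rw [h3]
        _ = ((g : H) * (a * g * a⁻¹)) * n * ((g : H) * (a * g * a⁻¹))⁻¹ := by group
    rw [h2]
    exact Subgroup.mul_mem _ (Subgroup.mul_mem _ hj hn) (Subgroup.inv_mem _ hj)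
  rcases Cfsg.Agent.Lib.Helper21.Quasi.normal_eq_top_or_le_center hL.2
    ((J ⊔ Subgroup.zpowers x).subgroupOf L) with h | h
  · have hLH : L ≤ J ⊔ Subgroup.zpowers x := Subgroup.subgroupOf_eq_top.1 h
    have hLaH : La ≤ J ⊔ Subgroup.zpowers x := by
      intro w' hw'
      obtain ⟨l, hl, rfl⟩ := Subgroup.mem_map.1 hw'
      have h1 : (MulAut.conj a).toMonoidHom l = l⁻¹ * (l * (a * l * a⁻¹)) := by
        simp [MulAut.conj_apply, mul_assoc]
      rw [h1]
      exact Subgroup.mul_mem _ (Subgroup.inv_mem _ (hLH hl))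
        ((le_sup_left : J ≤ J ⊔ Subgroup.zpowers x) (hJmem l hl))
    exact le_antisymm (sup_le hJM ((Subgroup.zpowers_le).2 hxM)) (sup_le hLH hLaH)
  · exfalso
    have hcc : (⟨u * v⁻¹, hcL⟩ : L) ∈ Subgroup.center L :=
      h (Subgroup.mem_subgroupOf.2 hcH)
    have hcomL : ∀ l ∈ L, l * (u * v⁻¹) = (u * v⁻¹) * l := by
      intro l hl
      have := (Subgroup.mem_center_iff.1 hcc) ⟨l, hl⟩
      exact congrArg Subtype.val this
    have hMle : L ⊔ La ≤ Subgroup.centralizer ({u * v⁻¹} : Set H) := by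
      refine sup_le ?_ ?_
      · intro l hl
        exact Subgroup.mem_centralizer_singleton_iff.2 (hcomL l hl)
      · intro w' hw'
        exact Subgroup.mem_centralizer_singleton_iff.2 (hc _ hcL w' hw').symm
    have hcCent : u * v⁻¹ ∈ Subgroup.centralizer ((L ⊔ La : Subgroup H) : Set H) := by
      rw [Subgroup.mem_centralizer_iff]
      intro h' hh'
      exact Subgroup.mem_centralizer_singleton_iff.1 (hMle hh')
    apply hxJ
    rw [hxeq, sup_comm]
    exact Subgroup.mul_mem_sup (Subgroup.mem_inf.2 ⟨(le_sup_left : L ≤ L ⊔ La) hcL, hcCent⟩)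
      (hJmem v hv)

end Cfsg.Agent.S1921
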