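import Cfsg.Statements.S1922
import Cfsg.Agent.Lib.Helper76.SylowTools

set_option autoImplicit false
open Cfsg

namespace Cfsg.Agent.S1922

open Cfsg.Agent.Lib.Helper76.SylowTools

variable {G : Type*} [Group G]

/-! ### Involutions and dihedral computations -/

lemma inv_of_sq {a : G} (ha : a * a = 1) : a⁻¹ = a := inv_eq_of_mul_eq_one_right ha

lemma conj_sq {z : G} (hz : z * z = 1) (g : G) : (g * z * g⁻¹) * (g * z * g⁻¹) = 1 := by
  calc (g * z * g⁻¹) * (g * z * g⁻¹) = g * (z * z) * g⁻¹ := by group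
    _ = 1 := by rw [hz]; group

lemma sq_of_isConj {z c : G} (hz : z * z = 1) (hc : IsConj z c) : c * c = 1 := by
  obtain ⟨y, rfl⟩ := isConj_iff.mp hc
  exact conj_sq hz y

lemma inv_conj_left {a b : G} (ha : a * a = 1) (hb : b * b = 1) (i : ℕ) :
    a * (a * b) ^ i * a = ((a * b) ^ i)⁻¹ := by
  have hainv : a⁻¹ = a := inv_of_sq ha
  have hbinv : b⁻¹ = b := inv_of_sq hb
  have h1 : a * (a * b) * a⁻¹ = (a * b)⁻¹ := by
    calc a * (a * b) * a⁻¹ = (a * a) * b * a⁻¹ := by group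
      _ = b * a⁻¹ := by rw [ha, one_mul]
      _ = b⁻¹ * a⁻¹ := by rw [hbinv]
      _ = (a * b)⁻¹ := (mul_inv_rev a b).symm
  calc a * (a * b) ^ i * a = a * (a * b) ^ i * a⁻¹ := by rw [hainv]
    _ = (a * (a * b) * a⁻¹) ^ i := conj_pow.symm
    _ = ((a * b)⁻¹) ^ i := by rw [h1]
    _ = ((a * b) ^ i)⁻¹ := inv_pow _ _

lemma inv_conj_right {a b : G} (ha : a * a = 1) (hb : b * b = 1) (i : ℕ) :
    b * (a * b) ^ i * b = ((a * b) ^ i)⁻¹ := by
  have hainv : a⁻¹ = a := inv_of_sq ha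
  have hbinv : b⁻¹ = b := inv_of_sq hb
  have h1 : b * (a * b) * b⁻¹ = (a * b)⁻¹ := by
    calc b * (a * b) * b⁻¹ = b * a := by group
      _ = b⁻¹ * a⁻¹ := by rw [hbinv, hainv]
      _ = (a * b)⁻¹ := (mul_inv_rev a b).symm
  calc b * (a * b) ^ i * b = b * (a * b) ^ i * b⁻¹ := by rw [hbinv]
    _ = (b * (a * b) * b⁻¹) ^ i := conj_pow.symm
    _ = ((a * b)⁻¹) ^ i := by rw [h1]
    _ = ((a * b) ^ i)⁻¹ := inv_pow _ _

lemma conj_pow_left {a b : G} (ha : a * a = 1) (hb : b * b = 1) (i : ℕ) :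
    ((a * b) ^ i)⁻¹ * a * (a * b) ^ i = a * (a * b) ^ (2 * i) := by
  rw [← inv_conj_left ha hb i, two_mul, pow_add]
  generalize (a * b) ^ i = ρ
  calc a * ρ * a * a * ρ = a * ρ * (a * a) * ρ := by group
    _ = a * (ρ * ρ) := by rw [ha]; group

lemma conj_pow_right {a b : G} (ha : a * a = 1) (hb : b * b = 1) (i : ℕ) :
    ((a * b) ^ i)⁻¹ * b * (a * b) ^ i = b * (a * b) ^ (2 * i) := by
  rw [← inv_conj_right ha hb i, two_mul, pow_add]
  generalize (a * b) ^ i = ρ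
  calc b * ρ * b * b * ρ = b * ρ * (b * b) * ρ := by group
    _ = b * (ρ * ρ) := by rw [hb]; group

lemma pow_half_succ (r : G) (hodd : Odd (orderOf r)) :
    r ^ (2 * ((orderOf r + 1) / 2)) = r := by
  obtain ⟨i, hi⟩ := hodd
  have h : 2 * ((orderOf r + 1) / 2) = orderOf r + 1 := by omega
  rw [h, pow_succ, pow_orderOf_eq_one, one_mul]

lemma mid_conj {a b : G} (ha : a * a = 1) (hb : b * b = 1) (hodd : Odd (orderOf (a * b))) :
    ∃ ρ : G, ρ * a * ρ⁻¹ = a * (a * b) ^ ((orderOf (a * b) + 1) / 2) := by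
  obtain ⟨m, hm⟩ : ∃ m, m = (orderOf (a * b) + 1) / 2 := ⟨_, rfl⟩
  rw [← hm]
  have h2m : (a * b) ^ (2 * m) = a * b := by rw [hm]; exact pow_half_succ _ hodd
  refine ⟨((a * b) ^ (m * m))⁻¹, ?_⟩
  rw [inv_inv, conj_pow_left ha hb (m * m), ← mul_assoc, pow_mul, h2m]

lemma mid_map {a b : G} (ha : a * a = 1) (hb : b * b = 1) (hodd : Odd (orderOf (a * b))) :
    (a * (a * b) ^ ((orderOf (a * b) + 1) / 2)) * b *
      (a * (a * b) ^ ((orderOf (a * b) + 1) / 2)) = a := by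
  obtain ⟨m, hm⟩ : ∃ m, m = (orderOf (a * b) + 1) / 2 := ⟨_, rfl⟩
  rw [← hm]
  have h2m : (a * b) ^ (2 * m) = a * b := by rw [hm]; exact pow_half_succ _ hodd
  have hba : b * a = (a * b)⁻¹ := by
    rw [mul_inv_rev, inv_of_sq ha, inv_of_sq hb]
  have hc : Commute ((a * b) ^ m) (a * b)⁻¹ := ((Commute.refl (a * b)).pow_left m).inv_right
  have h3 : (a * b) ^ m * (a * b)⁻¹ * (a * b) ^ m = 1 := by
    rw [hc.eq, mul_assoc, ← pow_add, ← two_mul, h2m, inv_mul_cancel]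
  generalize (a * b) ^ m = ρ at h3 ⊢
  calc a * ρ * b * (a * ρ) = a * (ρ * (b * a) * ρ) := by group
    _ = a := by rw [hba, h3, mul_one]

lemma mid_unique {a c : G} (ha : a * a = 1) (hc : c * c = 1) (hodd : Odd (orderOf (a * c))) :
    c = a * (a * (c * a * c)) ^ ((orderOf (a * (c * a * c)) + 1) / 2) := by
  have hr : a * (c * a * c) = (a * c) ^ 2 := by rw [pow_two]; group
  have hord : orderOf ((a * c) ^ 2) = orderOf (a * c) :=
    Nat.Coprime.orderOf_pow (Nat.coprime_two_right.mpr hodd)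
  rw [hr, hord, ← pow_mul, pow_half_succ (a * c) hodd]
  calc c = (a * a) * c := by rw [ha, one_mul]
    _ = a * (a * c) := by group

/-- An involution of a finite type with exactly one fixed point forces odd cardinality. -/
lemma odd_card_of_involutive {α : Type*} [Finite α] (σ : α → α) (hσ : ∀ a, σ (σ a) = a)
    (a₀ : α) (h₀ : σ a₀ = a₀) (huniq : ∀ a, σ a = a → a = a₀) : Odd (Nat.card α) := by
  classical
  have : Fintype α := Fintype.ofFinite α
  obtain ⟨f, hfσ⟩ : ∃ f : Function.End α, ∀ a, f a = σ a := ⟨σ, fun _ => rfl⟩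
  have hf : f ^ 2 ^ 1 = 1 := by
    rw [pow_one, pow_two]
    exact funext (fun a => by
      show f (f a) = a
      rw [hfσ, hfσ, hσ])
  have key := Equiv.Perm.card_fixedPoints_modEq (α := α) (f := f) (p := 2) (n := 1) hf
  have h1 : ∀ inst : Fintype (Function.fixedPoints f),
      @Fintype.card (Function.fixedPoints f) inst = 1 := by
    intro inst
    rw [Fintype.card_eq_one_iff]
    refine ⟨⟨a₀, ?_⟩, fun ⟨a, ha⟩ => Subtype.ext (huniq a ?_)⟩
    · show f a₀ = a₀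
      rw [hfσ, h₀]
    · rw [← hfσ]
      exact ha
  rw [h1] at key
  rw [Nat.card_eq_fintype_card]
  exact Nat.odd_iff.mpr key

lemma mem_centralizer_singleton' {a b : G} :
    b ∈ Subgroup.centralizer ({a} : Set G) ↔ a * b = b * a := by
  rw [Subgroup.mem_centralizer_iff]
  simp

/-- The number of `H`-conjugates of `z` is the index of the centralizer. -/
lemma card_orbit (H : Subgroup G) (z : G) :
    Nat.card {a : G // ∃ h ∈ H, h * z * h⁻¹ = a} =
      (H ⊓ Subgroup.centralizer ({z} : Set G)).relIndex H := by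
  have hmem : ∀ c : H, c ∈ (H ⊓ Subgroup.centralizer ({z} : Set G)).subgroupOf H ↔
      z * (c : G) = (c : G) * z := by
    intro c
    rw [Subgroup.mem_subgroupOf, Subgroup.mem_inf, mem_centralizer_singleton']
    exact ⟨fun hc => hc.2, fun hc => ⟨c.2, hc⟩⟩
  have hwd : ∀ b b' : H,
      QuotientGroup.leftRel ((H ⊓ Subgroup.centralizer ({z} : Set G)).subgroupOf H) b b' →
      (⟨(b : G) * z * (b : G)⁻¹, ⟨(b : G), b.2, rfl⟩⟩ : {a : G // ∃ h ∈ H, h * z * h⁻¹ = a}) =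
        ⟨(b' : G) * z * (b' : G)⁻¹, ⟨(b' : G), b'.2, rfl⟩⟩ := by
    intro b b' hbb'
    rw [QuotientGroup.leftRel_apply, hmem] at hbb'
    apply Subtype.ext
    have h : z * ((b : G)⁻¹ * (b' : G)) = (b : G)⁻¹ * (b' : G) * z := by simpa using hbb'
    show (b : G) * z * (b : G)⁻¹ = (b' : G) * z * (b' : G)⁻¹
    calc (b : G) * z * (b : G)⁻¹
        = (b : G) * (z * ((b : G)⁻¹ * (b' : G))) * (b' : G)⁻¹ := by group
      _ = (b : G) * ((b : G)⁻¹ * (b' : G) * z) * (b' : G)⁻¹ := by rw [h]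
      _ = (b' : G) * z * (b' : G)⁻¹ := by group
  symm
  show Nat.card (↥H ⧸ (H ⊓ Subgroup.centralizer ({z} : Set G)).subgroupOf H) = _
  refine Nat.card_congr (Equiv.ofBijective (fun q => Quotient.liftOn' q
    (fun b : H => (⟨(b : G) * z * (b : G)⁻¹, ⟨(b : G), b.2, rfl⟩⟩ :
      {a : G // ∃ h ∈ H, h * z * h⁻¹ = a})) hwd) ⟨?_, ?_⟩)
  · rintro ⟨b⟩ ⟨b'⟩ hbb'
    have h2 : (b : G) * z * (b : G)⁻¹ = (b' : G) * z * (b' : G)⁻¹ := congrArg Subtype.val hbb'
    refine QuotientGroup.eq.mpr ((hmem _).mpr ?_)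
    have h3 : z * ((b : G)⁻¹ * (b' : G)) = (b : G)⁻¹ * (b' : G) * z := by
      calc z * ((b : G)⁻¹ * (b' : G))
          = (b : G)⁻¹ * ((b : G) * z * (b : G)⁻¹) * (b' : G) := by group
        _ = (b : G)⁻¹ * ((b' : G) * z * (b' : G)⁻¹) * (b' : G) := by rw [h2]
        _ = (b : G)⁻¹ * (b' : G) * z := by group
    simpa using h3
  · rintro ⟨a, h, hh, rfl⟩
    exact ⟨QuotientGroup.mk ⟨h, hh⟩, rfl⟩

/-- A 2-element of `H` is `H`-conjugate into a Sylow 2-subgroup contained in `H`. -/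
lemma exists_conj_mem_sylow [Finite G] (P : Sylow 2 G) {H : Subgroup G}
    (hPH : (P : Subgroup G) ≤ H) (u : G) (huH : u ∈ H) (hu2 : u * u = 1) :
    ∃ h ∈ H, h * u * h⁻¹ ∈ (P : Subgroup G) := by
  obtain ⟨u', hu'⟩ : ∃ u' : H, (u' : G) = u := ⟨⟨u, huH⟩, rfl⟩
  have hU : IsPGroup 2 (Subgroup.zpowers u') := by
    have hu'2 : u' ^ 2 = 1 := by
      apply Subtype.ext
      show (u' : G) ^ 2 = 1
      rw [hu', pow_two]; exact hu2
    have hdvd : orderOf u' ∣ 2 := orderOf_dvd_of_pow_eq_one hu'2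
    rcases (Nat.dvd_prime Nat.prime_two).mp hdvd with h | h
    · exact IsPGroup.of_card (n := 0) (by rw [Nat.card_zpowers, h, pow_zero])
    · exact IsPGroup.of_card (n := 1) (by rw [Nat.card_zpowers, h, pow_one])
  obtain ⟨Q, hQ⟩ := hU.exists_le_sylow
  obtain ⟨h, hh⟩ := MulAction.exists_smul_eq ↥H Q (P.subtype hPH)
  refine ⟨(h : G), h.2, ?_⟩
  have h1 : u' ∈ (Q : Subgroup ↥H) := hQ (Subgroup.mem_zpowers u')
  have h2 : h * u' * h⁻¹ ∈ ((h • Q : Sylow 2 ↥H) : Subgroup ↥H) := by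
    rw [Sylow.coe_subgroup_smul]
    exact Subgroup.smul_mem_pointwise_smul u' (MulAut.conj h) (Q : Subgroup ↥H) h1
  rw [hh, Sylow.coe_subtype, Subgroup.mem_subgroupOf] at h2
  rw [← hu']
  exact h2

/-! ### Elements fixing a unique coset -/

section Fix

variable (z : G) (H : Subgroup G)

lemma fix_conj (h0 : ∀ k : G, k⁻¹ * z * k ∈ H ↔ k ∈ H) (g k : G) :
    k⁻¹ * (g * z * g⁻¹) * k ∈ H ↔ g⁻¹ * k ∈ H := by
  have h := h0 (g⁻¹ * k)
  have e : (g⁻¹ * k)⁻¹ * z * (g⁻¹ * k) = k⁻¹ * (g * z * g⁻¹) * k := by group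
  rwa [e] at h

lemma conj_mem_iff (h0 : ∀ k : G, k⁻¹ * z * k ∈ H ↔ k ∈ H) (g : G) :
    g * z * g⁻¹ ∈ H ↔ g ∈ H := by
  have h := fix_conj z H h0 g 1
  simp only [inv_one, one_mul, mul_one] at h
  rw [h, inv_mem_iff]

lemma fix_prod (h1 : ∀ t : G, IsConj z t → t ≠ z → t * z = z * t →
      ∀ k : G, k⁻¹ * (z * t) * k ∈ H ↔ k ∈ H)
    (g c : G) (hc : IsConj z c) (hne : c ≠ g * z * g⁻¹)
    (hcomm : c * (g * z * g⁻¹) = (g * z * g⁻¹) * c) (k : G) :
    k⁻¹ * ((g * z * g⁻¹) * c) * k ∈ H ↔ g⁻¹ * k ∈ H := by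
  have ht : IsConj z (g⁻¹ * c * g) := by
    obtain ⟨y, hy⟩ := isConj_iff.mp hc
    refine isConj_iff.mpr ⟨g⁻¹ * y, ?_⟩
    rw [← hy]; group
  have hne' : g⁻¹ * c * g ≠ z := by
    intro h
    apply hne
    rw [← h]; group
  have hcomm' : g⁻¹ * c * g * z = z * (g⁻¹ * c * g) := by
    calc g⁻¹ * c * g * z = g⁻¹ * (c * (g * z * g⁻¹)) * g := by group
      _ = g⁻¹ * ((g * z * g⁻¹) * c) * g := by rw [hcomm]
      _ = z * (g⁻¹ * c * g) := by group
  have h := h1 _ ht hne' hcomm' (g⁻¹ * k)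
  have e : (g⁻¹ * k)⁻¹ * (z * (g⁻¹ * c * g)) * (g⁻¹ * k) =
      k⁻¹ * ((g * z * g⁻¹) * c) * k := by group
  rwa [e] at h

lemma w_fix (hz : z * z = 1)
    (h1 : ∀ t : G, IsConj z t → t ≠ z → t * z = z * t →
      ∀ k : G, k⁻¹ * (z * t) * k ∈ H ↔ k ∈ H)
    (ga b : G) (hb : IsConj z b) (j : ℕ)
    (hj1 : ((ga * z * ga⁻¹) * b) ^ j ≠ 1) (hj2 : ((ga * z * ga⁻¹) * b) ^ (2 * j) = 1)
    (k : G) :
    k⁻¹ * ((ga * z * ga⁻¹) * b) ^ j * k ∈ H ↔ ga⁻¹ * k ∈ H := by
  have ha : (ga * z * ga⁻¹) * (ga * z * ga⁻¹) = 1 := conj_sq hz ga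
  have hb2 : b * b = 1 := sq_of_isConj hz hb
  obtain ⟨gb, hgb⟩ := isConj_iff.mp hb
  obtain ⟨a, haa⟩ : ∃ a, a = ga * z * ga⁻¹ := ⟨_, rfl⟩
  rw [← haa] at ha hj1 hj2 ⊢
  obtain ⟨w, hw⟩ : ∃ w, w = (a * b) ^ j := ⟨_, rfl⟩
  have hw1 : w ≠ 1 := by rw [hw]; exact hj1
  have hw2 : w * w = 1 := by rw [hw, ← pow_add, ← two_mul]; exact hj2
  have hwinv : w⁻¹ = w := inv_of_sq hw2
  have haw : a * w * a = w := by
    rw [hw, inv_conj_left ha hb2 j, ← hw, hwinv]
  have hcc : IsConj z (a * w) := by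
    rcases Nat.even_or_odd' j with ⟨i, hi | hi⟩
    · have e : a * w = ((a * b) ^ i)⁻¹ * a * (a * b) ^ i := by
        rw [hw, hi, conj_pow_left ha hb2 i]
      rw [e]
      generalize (a * b) ^ i = ρ
      rw [haa]
      exact isConj_iff.mpr ⟨ρ⁻¹ * ga, by group⟩
    · have e : a * w = ((a * b) ^ i)⁻¹ * b * (a * b) ^ i := by
        rw [hw, hi, conj_pow_right ha hb2 i, pow_succ']
        calc a * ((a * b) * (a * b) ^ (2 * i)) = (a * a) * b * (a * b) ^ (2 * i) := by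
              simp only [mul_assoc]
          _ = b * (a * b) ^ (2 * i) := by rw [ha, one_mul]
      rw [e]
      generalize (a * b) ^ i = ρ
      rw [← hgb]
      exact isConj_iff.mpr ⟨ρ⁻¹ * gb, by group⟩
  have hne : a * w ≠ a := by
    intro h
    apply hw1
    have h' : a * w = a * 1 := by rw [h, mul_one]
    exact mul_left_cancel h'
  have hcomm : (a * w) * a = a * (a * w) := by
    rw [haw]
    calc w = (a * a) * w := by rw [ha, one_mul]
      _ = a * (a * w) := by group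
  have key := fix_prod z H h1 ga (a * w) hcc (by rw [← haa]; exact hne)
    (by rw [← haa]; exact hcomm) k
  rw [← haa] at key
  have e2 : a * (a * w) = w := by
    calc a * (a * w) = (a * a) * w := by group
      _ = w := by rw [ha, one_mul]
  rw [e2] at key
  rw [← hw]
  exact key

lemma odd_order [Finite G] (hz : z * z = 1)
    (h1 : ∀ t : G, IsConj z t → t ≠ z → t * z = z * t →
      ∀ k : G, k⁻¹ * (z * t) * k ∈ H ↔ k ∈ H)
    (ga gb : G) (hab : ga⁻¹ * gb ∉ H) :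
    Odd (orderOf ((ga * z * ga⁻¹) * (gb * z * gb⁻¹))) := by
  by_contra hodd
  rw [Nat.not_odd_iff_even] at hodd
  obtain ⟨j, hj⟩ := hodd
  have hpos := orderOf_pos ((ga * z * ga⁻¹) * (gb * z * gb⁻¹))
  have hj1 : ((ga * z * ga⁻¹) * (gb * z * gb⁻¹)) ^ j ≠ 1 :=
    pow_ne_one_of_lt_orderOf (by omega) (by omega)
  have hj2 : ((ga * z * ga⁻¹) * (gb * z * gb⁻¹)) ^ (2 * j) = 1 := by
    rw [two_mul, ← hj]; exact pow_orderOf_eq_one _
  have ha : (ga * z * ga⁻¹) * (ga * z * ga⁻¹) = 1 := conj_sq hz ga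
  have hb : (gb * z * gb⁻¹) * (gb * z * gb⁻¹) = 1 := conj_sq hz gb
  have hinv : (gb * z * gb⁻¹) * (ga * z * ga⁻¹) =
      ((ga * z * ga⁻¹) * (gb * z * gb⁻¹))⁻¹ := by
    rw [mul_inv_rev, inv_of_sq ha, inv_of_sq hb]
  have hW1 := w_fix z H hz h1 ga (gb * z * gb⁻¹) (isConj_iff.mpr ⟨gb, rfl⟩) j hj1 hj2
  have hwinv : (((ga * z * ga⁻¹) * (gb * z * gb⁻¹)) ^ j)⁻¹ =
      ((ga * z * ga⁻¹) * (gb * z * gb⁻¹)) ^ j := by
    apply inv_of_sq
    rw [← pow_add, ← two_mul]; exact hj2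
  have hj1' : ((gb * z * gb⁻¹) * (ga * z * ga⁻¹)) ^ j ≠ 1 := by
    rw [hinv, inv_pow, hwinv]; exact hj1
  have hj2' : ((gb * z * gb⁻¹) * (ga * z * ga⁻¹)) ^ (2 * j) = 1 := by
    rw [hinv, inv_pow, hj2, inv_one]
  have hW2 := w_fix z H hz h1 gb (ga * z * ga⁻¹) (isConj_iff.mpr ⟨ga, rfl⟩) j hj1' hj2'
  have h3 := (hW1 ga).mpr (by rw [inv_mul_cancel]; exact H.one_mem)
  have h4 : ga⁻¹ * ((gb * z * gb⁻¹) * (ga * z * ga⁻¹)) ^ j * ga ∈ H := by
    rw [hinv, inv_pow, hwinv]; exact h3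
  have h5 := (hW2 ga).mp h4
  apply hab
  have h6 := H.inv_mem h5
  rwa [mul_inv_rev, inv_inv] at h6

lemma mid_props [Finite G] (hz : z * z = 1) (h0 : ∀ k : G, k⁻¹ * z * k ∈ H ↔ k ∈ H)
    (h1 : ∀ t : G, IsConj z t → t ≠ z → t * z = z * t →
      ∀ k : G, k⁻¹ * (z * t) * k ∈ H ↔ k ∈ H)
    (g : G) (hg : g ∉ H) (a : G) (hac : IsConj z a) (haH : a ∈ H) :
    IsConj z (a * (a * (g * z * g⁻¹)) ^ ((orderOf (a * (g * z * g⁻¹)) + 1) / 2)) ∧
    g⁻¹ * (a * (a * (g * z * g⁻¹)) ^ ((orderOf (a * (g * z * g⁻¹)) + 1) / 2)) ∈ H ∧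
    (a * (a * (g * z * g⁻¹)) ^ ((orderOf (a * (g * z * g⁻¹)) + 1) / 2)) * (g * z * g⁻¹) *
      (a * (a * (g * z * g⁻¹)) ^ ((orderOf (a * (g * z * g⁻¹)) + 1) / 2))⁻¹ = a := by
  obtain ⟨ga, rfl⟩ := isConj_iff.mp hac
  have hgaH : ga ∈ H := (conj_mem_iff z H h0 ga).mp haH
  have hab : ga⁻¹ * g ∉ H := fun h => hg (by
    have h' := H.mul_mem hgaH h
    rwa [mul_inv_cancel_left] at h')
  have hodd := odd_order z H hz h1 ga g hab
  have ha := conj_sq hz ga
  have hb := conj_sq hz g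
  obtain ⟨c, hc⟩ : ∃ c, c = (ga * z * ga⁻¹) * ((ga * z * ga⁻¹) * (g * z * g⁻¹)) ^
      ((orderOf ((ga * z * ga⁻¹) * (g * z * g⁻¹)) + 1) / 2) := ⟨_, rfl⟩
  rw [← hc]
  have hcc : IsConj z c := by
    obtain ⟨ρ, hρ⟩ := mid_conj ha hb hodd
    rw [hc, ← hρ]
    exact isConj_iff.mpr ⟨ρ * ga, by group⟩
  have hc2 : c * c = 1 := sq_of_isConj hz hcc
  have hmap : c * (g * z * g⁻¹) * c⁻¹ = ga * z * ga⁻¹ := by
    rw [inv_of_sq hc2, hc]; exact mid_map ha hb hodd
  refine ⟨hcc, ?_, hmap⟩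
  have h2 : (c * g) * z * (c * g)⁻¹ ∈ H := by
    have e : (c * g) * z * (c * g)⁻¹ = c * (g * z * g⁻¹) * c⁻¹ := by group
    rw [e, hmap]; exact haH
  have h3 : c * g ∈ H := (conj_mem_iff z H h0 (c * g)).mp h2
  have h4 := H.inv_mem h3
  rwa [mul_inv_rev, inv_of_sq hc2] at h4

lemma mid_unique_Y [Finite G] (hz : z * z = 1) (h0 : ∀ k : G, k⁻¹ * z * k ∈ H ↔ k ∈ H)
    (h1 : ∀ t : G, IsConj z t → t ≠ z → t * z = z * t →
      ∀ k : G, k⁻¹ * (z * t) * k ∈ H ↔ k ∈ H)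
    (g : G) (hg : g ∉ H) (c : G) (hcc : IsConj z c) (hcY : g⁻¹ * c ∈ H) :
    c = (c * (g * z * g⁻¹) * c⁻¹) * ((c * (g * z * g⁻¹) * c⁻¹) * (g * z * g⁻¹)) ^
      ((orderOf ((c * (g * z * g⁻¹) * c⁻¹) * (g * z * g⁻¹)) + 1) / 2) := by
  have hc2 : c * c = 1 := sq_of_isConj hz hcc
  have hcinv : c⁻¹ = c := inv_of_sq hc2
  obtain ⟨gc, hgc⟩ := isConj_iff.mp hcc
  have ea : c * (g * z * g⁻¹) * c⁻¹ = (c * g) * z * (c * g)⁻¹ := by group
  have hab : (c * g)⁻¹ * gc ∉ H := by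
    intro h
    have h' : g⁻¹ * c * gc ∈ H := by
      have e : (c * g)⁻¹ * gc = g⁻¹ * c * gc := by rw [mul_inv_rev, hcinv]
      rwa [e] at h
    have hgcH : gc ∈ H := by
      have h'' := H.mul_mem (H.inv_mem hcY) h'
      have e : (g⁻¹ * c)⁻¹ * (g⁻¹ * c * gc) = gc := by group
      rwa [e] at h''
    have hcH : c ∈ H := by rw [← hgc]; exact (conj_mem_iff z H h0 gc).mpr hgcH
    apply hg
    have h'' := H.mul_mem hcH (H.inv_mem hcY)
    have e : c * (g⁻¹ * c)⁻¹ = g := by group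
    rwa [e] at h''
  have hodd : Odd (orderOf ((c * g * z * (c * g)⁻¹) * (gc * z * gc⁻¹))) :=
    odd_order z H hz h1 (c * g) gc hab
  rw [hgc, ← ea] at hodd
  have ha2 : (c * (g * z * g⁻¹) * c⁻¹) * (c * (g * z * g⁻¹) * c⁻¹) = 1 := by
    rw [ea]; exact conj_sq hz (c * g)
  have hu := mid_unique ha2 hc2 hodd
  have e3 : c * (c * (g * z * g⁻¹) * c⁻¹) * c = g * z * g⁻¹ := by
    rw [hcinv]
    calc c * (c * (g * z * g⁻¹) * c) * c = (c * c) * (g * z * g⁻¹) * (c * c) := by group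
      _ = g * z * g⁻¹ := by rw [hc2, one_mul, mul_one]
  rw [e3] at hu
  exact hu

/-- The number of conjugates of `z` inside `H` is odd. -/
lemma card_conj_mem_odd [Finite G] (hz : z * z = 1) (h0 : ∀ k : G, k⁻¹ * z * k ∈ H ↔ k ∈ H)
    (h1 : ∀ t : G, IsConj z t → t ≠ z → t * z = z * t →
      ∀ k : G, k⁻¹ * (z * t) * k ∈ H ↔ k ∈ H)
    (g : G) (hg : g ∉ H) :
    Odd (Nat.card {a : G // IsConj z a ∧ a ∈ H}) := by
  have hzH : z ∈ H := by
    have h := (h0 1).mpr H.one_mem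
    simpa using h
  let Ψ : {c : G // IsConj z c ∧ g⁻¹ * c ∈ H} → {a : G // IsConj z a ∧ a ∈ H} := fun c =>
    ⟨c.1 * (g * z * g⁻¹) * c.1⁻¹, by
      have e : c.1 * (g * z * g⁻¹) * c.1⁻¹ = (c.1 * g) * z * (c.1 * g)⁻¹ := by group
      refine ⟨isConj_iff.mpr ⟨c.1 * g, e.symm⟩, ?_⟩
      rw [e, conj_mem_iff z H h0]
      have hc2 := sq_of_isConj hz c.2.1
      have h := H.inv_mem c.2.2
      rwa [mul_inv_rev, inv_inv, inv_of_sq hc2] at h⟩
  have hΨ : Function.Bijective Ψ := by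
    constructor
    · rintro ⟨c, hcc, hcY⟩ ⟨c', hcc', hcY'⟩ h
      have h' : c * (g * z * g⁻¹) * c⁻¹ = c' * (g * z * g⁻¹) * c'⁻¹ := congrArg Subtype.val h
      apply Subtype.ext
      show c = c'
      have e1 := mid_unique_Y z H hz h0 h1 g hg c hcc hcY
      have e2 := mid_unique_Y z H hz h0 h1 g hg c' hcc' hcY'
      rw [h'] at e1
      exact e1.trans e2.symm
    · rintro ⟨a, hac, haH⟩
      obtain ⟨hcc, hcY, hmap⟩ := mid_props z H hz h0 h1 g hg a hac haH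
      exact ⟨⟨_, hcc, hcY⟩, Subtype.ext hmap⟩
  rw [← Nat.card_congr (Equiv.ofBijective Ψ hΨ)]
  obtain ⟨⟨x, hxc, hxY⟩, -⟩ := hΨ.2 ⟨z, IsConj.refl z, hzH⟩
  have hx2 : x * x = 1 := sq_of_isConj hz hxc
  have hxinv : x⁻¹ = x := inv_of_sq hx2
  have hxH : x ∉ H := fun hx => hg (by
    have h := H.mul_mem hx (H.inv_mem hxY)
    have e : x * (g⁻¹ * x)⁻¹ = g := by group
    rwa [e] at h)
  obtain ⟨gx, hgx⟩ := isConj_iff.mp hxc
  have hgxH : gx ∉ H := fun h => hxH (by rw [← hgx]; exact (conj_mem_iff z H h0 gx).mpr h)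
  let σ : {c : G // IsConj z c ∧ g⁻¹ * c ∈ H} → {c : G // IsConj z c ∧ g⁻¹ * c ∈ H} :=
    fun c => ⟨x * c.1 * x⁻¹, by
      obtain ⟨y, hy⟩ := isConj_iff.mp c.2.1
      refine ⟨isConj_iff.mpr ⟨x * y, by rw [← hy]; group⟩, ?_⟩
      have hc2 := sq_of_isConj hz c.2.1
      have h1' : c.1 * g ∈ H := by
        have h := H.inv_mem c.2.2
        rwa [mul_inv_rev, inv_inv, inv_of_sq hc2] at h
      have h := H.mul_mem (H.mul_mem hxY h1') hxY
      have e : g⁻¹ * x * (c.1 * g) * (g⁻¹ * x) = g⁻¹ * (x * c.1 * x⁻¹) := by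
        rw [hxinv]; group
      rwa [e] at h⟩
  refine odd_card_of_involutive σ ?_ ⟨x, hxc, hxY⟩ ?_ ?_
  · rintro ⟨c, hcc, hcY⟩
    apply Subtype.ext
    show x * (x * c * x⁻¹) * x⁻¹ = c
    rw [hxinv]
    calc x * (x * c * x) * x = (x * x) * c * (x * x) := by group
      _ = c := by rw [hx2, one_mul, mul_one]
  · apply Subtype.ext
    show x * x * x⁻¹ = x
    group
  · rintro ⟨c, hcc, hcY⟩ hfix
    apply Subtype.ext
    show c = x
    by_contra hne
    have hfix' : x * c * x⁻¹ = c := congrArg Subtype.val hfix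
    have hcomm : c * x = x * c := by
      calc c * x = (x * c * x⁻¹) * x := by rw [hfix']
        _ = x * c := by group
    have key := fix_prod z H h1 gx c hcc (by rw [hgx]; exact hne) (by rw [hgx]; exact hcomm) 1
    rw [hgx] at key
    have hxc' : x * c ∈ H := by
      have h := H.mul_mem (H.inv_mem hxY) hcY
      have e : (g⁻¹ * x)⁻¹ * (g⁻¹ * c) = x * c := by
        rw [mul_inv_rev, inv_inv, hxinv]; group
      rwa [e] at h
    have h7 : gx⁻¹ * 1 ∈ H := key.mp (by simpa using hxc')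
    apply hgxH
    simpa using h7

/-- Under the hypotheses, `z` is central in a Sylow 2-subgroup. -/
lemma two_central [Finite G] (hz2 : orderOf z = 2) (hH : H ≠ ⊤)
    (h0 : ∀ k : G, k⁻¹ * z * k ∈ H ↔ k ∈ H)
    (h1 : ∀ t : G, IsConj z t → t ≠ z → t * z = z * t →
      ∀ k : G, k⁻¹ * (z * t) * k ∈ H ↔ k ∈ H) :
    ∃ P : Sylow 2 G, z ∈ (P : Subgroup G) ∧ ∀ q ∈ (P : Subgroup G), q * z = z * q := by
  have hz : z * z = 1 := by
    have h := pow_orderOf_eq_one z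
    rwa [hz2, pow_two] at h
  obtain ⟨g, hg⟩ : ∃ g : G, g ∉ H := by
    by_contra hcon
    push Not at hcon
    exact hH (eq_top_iff.mpr (fun x _ => hcon x))
  have hzH : z ∈ H := by
    have h := (h0 1).mpr H.one_mem
    simpa using h
  have hCH : Subgroup.centralizer ({z} : Set G) ≤ H := by
    intro y hy
    rw [mem_centralizer_singleton'] at hy
    refine (h0 y).mp ?_
    have e : y⁻¹ * z * y = z := by
      calc y⁻¹ * z * y = y⁻¹ * (z * y) := by group
        _ = y⁻¹ * (y * z) := by rw [hy]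
        _ = z := by group
    rw [e]; exact hzH
  have hHodd : Odd H.index := by
    show Odd (Nat.card (G ⧸ H))
    refine odd_card_of_involutive (fun q : G ⧸ H => z • q) ?_ ((1 : G) : G ⧸ H) ?_ ?_
    · intro q
      show z • z • q = q
      rw [smul_smul, hz, one_smul]
    · show z • ((1 : G) : G ⧸ H) = ((1 : G) : G ⧸ H)
      rw [MulAction.Quotient.smul_coe]
      refine QuotientGroup.eq.mpr ?_
      have h : (z • (1 : G))⁻¹ * 1 = z⁻¹ := by simp
      rw [h]; exact H.inv_mem hzH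
    · intro q
      induction q using QuotientGroup.induction_on with
      | H k =>
        intro hfix
        have hfix' : ((z * k : G) : G ⧸ H) = (k : G ⧸ H) := hfix
        have h2 : (z * k)⁻¹ * k ∈ H := QuotientGroup.eq.mp hfix'
        have h3 : k⁻¹ * z * k ∈ H := by
          have h4 := H.inv_mem h2
          have e : ((z * k)⁻¹ * k)⁻¹ = k⁻¹ * z * k := by group
          rwa [e] at h4
        have h5 : k ∈ H := (h0 k).mp h3
        refine QuotientGroup.eq.mpr ?_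
        rw [mul_one]; exact H.inv_mem h5
  have hXodd := card_conj_mem_odd z H hz h0 h1 g hg
  have hrel : Odd ((Subgroup.centralizer ({z} : Set G)).relIndex H) := by
    rw [← Subgroup.inf_relIndex_left, ← card_orbit]
    have e : Nat.card {a : G // ∃ h ∈ H, h * z * h⁻¹ = a} =
        Nat.card {a : G // IsConj z a ∧ a ∈ H} := by
      apply Nat.card_congr
      apply Equiv.subtypeEquivRight
      intro a
      constructor
      · rintro ⟨h, hh, rfl⟩
        exact ⟨isConj_iff.mpr ⟨h, rfl⟩, (conj_mem_iff z H h0 h).mpr hh⟩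
      · rintro ⟨hac, haH⟩
        obtain ⟨y, rfl⟩ := isConj_iff.mp hac
        exact ⟨y, (conj_mem_iff z H h0 y).mp haH, rfl⟩
    rw [e]; exact hXodd
  have hCodd : Odd (Subgroup.centralizer ({z} : Set G)).index := by
    rw [← Subgroup.relIndex_mul_index hCH]; exact hrel.mul hHodd
  have hnd : ¬ 2 ∣ (Subgroup.centralizer ({z} : Set G)).index := by
    rw [← even_iff_two_dvd, Nat.not_even_iff_odd]; exact hCodd
  obtain ⟨P, hP⟩ := exists_sylow_le_of_not_dvd_index (p := 2) _ hnd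
  have hcomm : ∀ q ∈ (P : Subgroup G), q * z = z * q := fun q hq =>
    (mem_centralizer_singleton'.mp (hP hq)).symm
  refine ⟨P, ?_, hcomm⟩
  have hzN : z ∈ Subgroup.normalizer ((P : Subgroup G) : Set G) := by
    rw [Subgroup.mem_normalizer_iff]
    intro n
    have key : ∀ y ∈ (P : Subgroup G), z * y * z⁻¹ = y := fun y hy => by
      rw [← hcomm y hy]; group
    constructor
    · intro hn
      rw [key n hn]; exact hn
    · intro hn
      have h2 := key _ hn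
      have h3 : z * n * z⁻¹ = n := mul_left_cancel (mul_right_cancel h2)
      rw [h3] at hn; exact hn
  have hP2 : IsPGroup 2 (Subgroup.zpowers z) := by
    apply IsPGroup.of_card (n := 1)
    rw [Nat.card_zpowers, hz2, pow_one]
  have h4 := hP2.inf_normalizer_sylow P
  have h5 : z ∈ Subgroup.zpowers z ⊓ Subgroup.normalizer (P : Set G) :=
    Subgroup.mem_inf.mpr ⟨Subgroup.mem_zpowers z, hzN⟩
  rw [h4] at h5
  exact (Subgroup.mem_inf.mp h5).2

end Fix

/-- Let z be an involution of a finite group G and H a proper subgroup such that z lies in gHg⁻¹ exactly when g ∈ H. Then the following are equivalent: (1) for every conjugate t ≠ z of z commuting with z, the product zt lies in gHg⁻¹ exactly when g ∈ H; (2) z lies in the centre of some Sylow 2-subgroup of G, and for every conjugate t ≠ z of z commuting with z, the centralizer of zt is contained in H. -/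
theorem result {G : Type*} [Group G] [Finite G] (z : G) (hz : orderOf z = 2) (H : Subgroup G) (hH : H ≠ ⊤)
    (h0 : ∀ g : G, z ∈ H.map (MulAut.conj g).toMonoidHom ↔ g ∈ H) :
    (∀ t : G, IsConj z t → t ≠ z → t * z = z * t → ∀ g : G, z * t ∈ H.map (MulAut.conj g).toMonoidHom ↔ g ∈ H) ↔
      ((∃ P : Sylow 2 G, z ∈ (Subgroup.center ↥(P : Subgroup G)).map (P : Subgroup G).subtype) ∧
        ∀ t : G, IsConj z t → t ≠ z → t * z = z * t → Subgroup.centralizer ({z * t} : Set G) ≤ H) := by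
  have h0' : ∀ k : G, k⁻¹ * z * k ∈ H ↔ k ∈ H := fun k => by
    rw [← mem_map_conj]; exact h0 k
  have hzz : z * z = 1 := by
    have h := pow_orderOf_eq_one z
    rwa [hz, pow_two] at h
  have hzH : z ∈ H := by
    have h := (h0' 1).mpr H.one_mem
    simpa using h
  constructor
  · intro h1
    have h1' : ∀ t : G, IsConj z t → t ≠ z → t * z = z * t →
        ∀ k : G, k⁻¹ * (z * t) * k ∈ H ↔ k ∈ H := fun t ht hne hcomm k => by
      rw [← mem_map_conj]; exact h1 t ht hne hcomm k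
    refine ⟨?_, ?_⟩
    · obtain ⟨P, hzP, hcomm⟩ := two_central z H hz hH h0' h1'
      exact ⟨P, ⟨⟨z, hzP⟩,
        Subgroup.mem_center_iff.mpr (fun q => Subtype.ext (hcomm q q.2)), rfl⟩⟩
    · intro t ht hne hcomm y hy
      rw [mem_centralizer_singleton'] at hy
      have hztH : z * t ∈ H := by
        have h := (h1' t ht hne hcomm 1).mpr H.one_mem
        simpa using h
      refine (h1' t ht hne hcomm y).mp ?_
      have e : y⁻¹ * (z * t) * y = z * t := by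
        calc y⁻¹ * (z * t) * y = y⁻¹ * ((z * t) * y) := by group
          _ = y⁻¹ * (y * (z * t)) := by rw [hy]
          _ = z * t := by group
      rw [e]; exact hztH
  · rintro ⟨⟨P, hP⟩, h2⟩ t ht hne hcomm k
    rw [mem_map_conj]
    obtain ⟨⟨y, hyP⟩, hyc, hyz⟩ := hP
    have hyz' : y = z := hyz
    have hzP : z ∈ (P : Subgroup G) := by rw [← hyz']; exact hyP
    have hPc : ∀ q ∈ (P : Subgroup G), q * z = z * q := by
      intro q hq
      have h := Subgroup.mem_center_iff.mp hyc ⟨q, hq⟩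
      have h' : q * y = y * q := congrArg Subtype.val h
      rw [← hyz']; exact h'
    have hPH : (P : Subgroup G) ≤ H := by
      intro q hq
      refine (h0' q).mp ?_
      have e : q⁻¹ * z * q = z := by
        calc q⁻¹ * z * q = q⁻¹ * (z * q) := by group
          _ = q⁻¹ * (q * z) := by rw [hPc q hq]
          _ = z := by group
      rw [e]; exact hzH
    have ht2 : t * t = 1 := sq_of_isConj hzz ht
    have htH : t ∈ H := by
      refine (h0' t).mp ?_
      have e : t⁻¹ * z * t = z := by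
        calc t⁻¹ * z * t = t⁻¹ * (z * t) := by group
          _ = t⁻¹ * (t * z) := by rw [hcomm]
          _ = z := by group
      rw [e]; exact hzH
    constructor
    · intro hk
      have hzt : (z * t) * (z * t) = 1 := by
        calc (z * t) * (z * t) = z * (t * z) * t := by group
          _ = z * (z * t) * t := by rw [hcomm]
          _ = (z * z) * (t * t) := by group
          _ = 1 := by rw [hzz, ht2, one_mul]
      have hu2 : (k⁻¹ * (z * t) * k) * (k⁻¹ * (z * t) * k) = 1 := by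
        calc (k⁻¹ * (z * t) * k) * (k⁻¹ * (z * t) * k)
            = k⁻¹ * ((z * t) * (z * t)) * k := by group
          _ = 1 := by rw [hzt]; group
      obtain ⟨h, hhH, hqP⟩ := exists_conj_mem_sylow P hPH (k⁻¹ * (z * t) * k) hk hu2
      have hq : z * (h * (k⁻¹ * (z * t) * k) * h⁻¹) = (h * (k⁻¹ * (z * t) * k) * h⁻¹) * z :=
        (hPc _ hqP).symm
      have hcen : (h * k⁻¹)⁻¹ * z * (h * k⁻¹) ∈ Subgroup.centralizer ({z * t} : Set G) := by
        rw [mem_centralizer_singleton']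
        calc (z * t) * ((h * k⁻¹)⁻¹ * z * (h * k⁻¹))
            = (h * k⁻¹)⁻¹ * ((h * (k⁻¹ * (z * t) * k) * h⁻¹) * z) * (h * k⁻¹) := by group
          _ = (h * k⁻¹)⁻¹ * (z * (h * (k⁻¹ * (z * t) * k) * h⁻¹)) * (h * k⁻¹) := by rw [hq]
          _ = (h * k⁻¹)⁻¹ * z * (h * k⁻¹) * (z * t) := by group
      have h3 := h2 t ht hne hcomm hcen
      have h4 := (h0' (h * k⁻¹)).mp h3
      have h5 := H.mul_mem (H.inv_mem hhH) h4
      rw [inv_mul_cancel_left] at h5
      exact inv_mem_iff.mp h5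
    · intro hk
      exact H.mul_mem (H.mul_mem (H.inv_mem hk) (H.mul_mem hzH htH)) hk

end Cfsg.Agent.S1922
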