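import Cfsg.Statements.S1944
import Cfsg.Agent.S1907
import Cfsg.Agent.Lib.Helper33.Norm
import Cfsg.Agent.Lib.Helper33.Conj

set_option autoImplicit false
open Cfsg

namespace Cfsg.Agent.S1944

open Cfsg.Agent.Lib.Helper33.Conj in
theorem key {G : Type*} [Group G] [Finite G] {p : ℕ} [Fact p.Prime] (S : Sylow p G)
    (hZ : ((S : Subgroup G) ⊓ Subgroup.centralizer ((S : Subgroup G) : Set G)) ≤ Cfsg.pPrimePCore p G)
    (hLn : (Cfsg.pPrimePCore p G).Normal)
    (hfus : ∀ x y : G, x ∈ (S : Subgroup G) → y ∈ (S : Subgroup G) → IsConj x y →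
      ∃ n ∈ Subgroup.normalizer (((S : Subgroup G) ⊓ Cfsg.pPrimePCore p G : Subgroup G) : Set G),
        n * x * n⁻¹ = y) :
    ∃ K : Subgroup G,
      ((∀ x : G, x ∈ (((S : Subgroup G) ⊓ Cfsg.pPrimePCore p G) ⊓
            Subgroup.centralizer ((((S : Subgroup G) ⊓ Cfsg.pPrimePCore p G : Subgroup G)) : Set G)) ⊓
            Subgroup.centralizer ((Subgroup.normalizer
              (((S : Subgroup G) ⊓ Cfsg.pPrimePCore p G : Subgroup G) : Set G) : Subgroup G) : Set G) ↔
          (x ∈ (S : Subgroup G) ∧ ∀ g : G, g * x * g⁻¹ ∈ (S : Subgroup G) → g * x * g⁻¹ = x)) ∧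
        K ≤ ((S : Subgroup G) ⊓ Subgroup.centralizer ((S : Subgroup G) : Set G))) ∧
      ((((S : Subgroup G) ⊓ Cfsg.pPrimePCore p G) ⊓
            Subgroup.centralizer ((((S : Subgroup G) ⊓ Cfsg.pPrimePCore p G : Subgroup G)) : Set G)) ⊓
            Subgroup.centralizer ((Subgroup.normalizer
              (((S : Subgroup G) ⊓ Cfsg.pPrimePCore p G : Subgroup G) : Set G) : Subgroup G) : Set G)) ⊓ K = ⊥ ∧
      ((((S : Subgroup G) ⊓ Cfsg.pPrimePCore p G) ⊓
            Subgroup.centralizer ((((S : Subgroup G) ⊓ Cfsg.pPrimePCore p G : Subgroup G)) : Set G)) ⊓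
            Subgroup.centralizer ((Subgroup.normalizer
              (((S : Subgroup G) ⊓ Cfsg.pPrimePCore p G : Subgroup G) : Set G) : Subgroup G) : Set G)) ⊔ K =
        ((S : Subgroup G) ⊓ Subgroup.centralizer ((S : Subgroup G) : Set G)) := by
  generalize hH : (S : Subgroup G) ⊓ Cfsg.pPrimePCore p G = H at *
  have hHS : H ≤ (S : Subgroup G) := by rw [← hH]; exact inf_le_left
  -- S normalizes H
  have hSN : (S : Subgroup G) ≤ Subgroup.normalizer (H : Set G) := by
    intro s hs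
    rw [mem_normalizer_iff_cj_eq, ← hH, cj_inf, cj_eq_self_of_mem hs]
    congr 1
    exact cj_eq_of_mem_normalizer (by rw [Subgroup.normalizer_eq_top]; exact Subgroup.mem_top s)
  have hidx : ¬ p ∣ (S : Subgroup G).relIndex (Subgroup.normalizer (H : Set G)) := fun hd =>
    S.not_dvd_index (dvd_trans hd (Subgroup.relIndex_dvd_index_of_le hSN))
  have hA : ∀ a ∈ H ⊓ Subgroup.centralizer (H : Set G), ∀ b ∈ H ⊓ Subgroup.centralizer (H : Set G),
      a * b = b * a := by
    intro a ha b hb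
    exact Subgroup.mem_centralizer_iff.mp hb.2 a ha.1
  have hAp : IsPGroup p ↥(H ⊓ Subgroup.centralizer (H : Set G)) :=
    S.2.to_le (le_trans inf_le_left hHS)
  have hNA : Subgroup.normalizer (H : Set G) ≤
      Subgroup.normalizer ((H ⊓ Subgroup.centralizer (H : Set G) : Subgroup G) : Set G) := by
    intro n hn
    rw [mem_normalizer_iff_cj_eq] at hn ⊢
    rw [cj_inf, ← centralizer_cj, hn]
  have hZS : (S : Subgroup G) ⊓ Subgroup.centralizer ((S : Subgroup G) : Set G) =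
      (H ⊓ Subgroup.centralizer (H : Set G)) ⊓ Subgroup.centralizer ((S : Subgroup G) : Set G) := by
    apply le_antisymm
    · intro z hz
      refine ⟨⟨?_, Subgroup.centralizer_le hHS hz.2⟩, hz.2⟩
      rw [← hH]
      exact ⟨hz.1, hZ hz⟩
    · intro z hz
      exact ⟨hHS hz.1.1, hz.2⟩
  obtain ⟨K, hK1, hK2, hK3⟩ := Cfsg.Agent.Lib.Helper33.Norm.norm_complement
    (Subgroup.normalizer (H : Set G)) (S : Subgroup G) (H ⊓ Subgroup.centralizer (H : Set G))
    hSN hidx hA hAp hNA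
  refine ⟨K, ⟨?_, by rw [hZS]; exact hK1⟩, hK2, by rw [hZS]; exact hK3⟩
  intro x
  constructor
  · intro hx
    refine ⟨hHS hx.1.1, fun g hg => ?_⟩
    obtain ⟨n, hn, hnx⟩ := hfus x (g * x * g⁻¹) (hHS hx.1.1) hg (isConj_iff.mpr ⟨g, rfl⟩)
    rw [← hnx]
    have hcomm : n * x = x * n := Subgroup.mem_centralizer_iff.mp hx.2 n hn
    rw [hcomm]
    group
  · rintro ⟨hxS, hx⟩
    have hxZ : x ∈ (S : Subgroup G) ⊓ Subgroup.centralizer ((S : Subgroup G) : Set G) := by
      refine Subgroup.mem_inf.mpr ⟨hxS, ?_⟩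
      rw [Subgroup.mem_centralizer_iff]
      intro s hs
      have h1 := hx s (Subgroup.mul_mem _ (Subgroup.mul_mem _ hs hxS) (Subgroup.inv_mem _ hs))
      calc s * x = (s * x * s⁻¹) * s := by group
        _ = x * s := by rw [h1]
    rw [hZS] at hxZ
    refine Subgroup.mem_inf.mpr ⟨hxZ.1, ?_⟩
    rw [Subgroup.mem_centralizer_iff]
    intro n hn
    have h2 : n * x * n⁻¹ ∈ H := (Subgroup.mem_normalizer_iff.mp hn x).mp hxZ.1.1
    have h1 := hx n (hHS h2)
    calc n * x = (n * x * n⁻¹) * n := by group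
      _ = x * n := by rw [h1]

/-- Let S be a Sylow p-subgroup of the finite group G and suppose that the centre Z(S) lies in O_{p',p}(G). The elements of S each of which is its only G-conjugate in S form a subgroup W of Z(S); W is then a direct factor of Z(S): there is a subgroup K of Z(S) with W ∩ K = 1 and WK = Z(S). -/
theorem result {G : Type*} [Group G] [Finite G] {p : ℕ} [Fact p.Prime] (S : Sylow p G)
    (hZ : ((S : Subgroup G) ⊓ Subgroup.centralizer ((S : Subgroup G) : Set G)) ≤ Cfsg.pPrimePCore p G) :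
    ∃ W K : Subgroup G, (∀ x : G, x ∈ W ↔ (x ∈ (S : Subgroup G) ∧ ∀ g : G, g * x * g⁻¹ ∈ (S : Subgroup G) → g * x * g⁻¹ = x)) ∧
      K ≤ ((S : Subgroup G) ⊓ Subgroup.centralizer ((S : Subgroup G) : Set G)) ∧ W ⊓ K = ⊥ ∧ W ⊔ K = ((S : Subgroup G) ⊓ Subgroup.centralizer ((S : Subgroup G) : Set G)) := by
  classical
  have hLn : (Cfsg.pPrimePCore p G).Normal := by
    unfold Cfsg.pPrimePCore; infer_instance
  have hS1907 := (Cfsg.Agent.S1907.result S).2
  obtain ⟨K, hK1, hK2, hK3⟩ := key S hZ hLn hS1907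
  exact ⟨_, K, hK1.1, hK1.2, hK2, hK3⟩

end Cfsg.Agent.S1944
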