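-- Statement S2060: Out(M11) = 1.  Proof in Cfsg.Agent.Lib.Helper35.M11Aut: subgroups of index
-- 11 and 12 of M11 fix a point, so every automorphism is conjugation by a permutation of the
-- 23 points, which lies in M24 and hence in M11.
import Cfsg.Statements.S2060
import Cfsg.Agent.Lib.Helper35.M11Aut

set_option autoImplicit false
open Cfsg

namespace Cfsg.Agent.S2060

/-- The outer automorphism group of the Mathieu group M₁₁ (the stabiliser of a dodecad and one of its points in the automorphism group of the length-24 binary code) is trivial: every automorphism is inner. -/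
theorem result : Nat.card (Cfsg.Out ↥Cfsg.Spor.M11) = 1 :=
  Cfsg.Agent.Lib.Helper35.PermAut.card_out_eq_one Cfsg.Agent.Lib.Helper35.M11Aut.aut_M11_inner

end Cfsg.Agent.S2060
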