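-- Statement S2061: Out(M12) has order 2.  By Cfsg.Agent.Lib.Helper35.M12Aut every automorphism
-- of M12 is conjugation by an element of M24 mapping the dodecad of squares to itself or to its
-- complement; those preserving the dodecad give the inner automorphisms, and x ↦ -1/x (which
-- exchanges the dodecad and its complement) gives an automorphism which is not inner because no
-- such element centralises M12.
import Cfsg.Statements.S2061
import Cfsg.Agent.Lib.Helper35.M12Aut

set_option autoImplicit false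
open Cfsg

namespace Cfsg.Agent.S2061

open Cfsg.Spor Cfsg.Agent.Lib.Helper7.GolayBase Cfsg.Agent.Lib.Helper7.M12Core
  Cfsg.Agent.Lib.Helper7.M11Twist Cfsg.Agent.Lib.Helper35.M12Base
  Cfsg.Agent.Lib.Helper35.M12Aut Cfsg.Agent.Lib.Helper35.M22Aut
open scoped Pointwise

/-- The outer automorphism group of the Mathieu group M₁₂ (the stabiliser of a dodecad in the automorphism group of the length-24 binary code) has order 2. -/
theorem result : Nat.card (Cfsg.Out ↥Cfsg.Spor.M12) = 2 := by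
  show (Cfsg.Inn M12).index = 2
  rw [Subgroup.index_eq_two_iff]
  have hSD : ∀ h, h ∈ M12 ↔ h ∈ SD (mk d0) := fun h => by rw [M12_eq]
  have hτ : projInv ∈ M24 := proj_mem
  have hτD : projInv • mk d0 = Finset.univ \ mk d0 := proj_swap
  have hτD' : projInv • (Finset.univ \ mk d0) = mk d0 := by
    rw [Finset.smul_finset_sdiff, Finset.smul_finset_univ, proj_swap,
      Finset.sdiff_sdiff_eq_self (Finset.subset_univ _)]
  obtain ⟨hn1, hn2⟩ := swap_normalizes_SD (d := mk d0) hτ hτD
  have hc1 : ∀ g ∈ M12, projInv * g * projInv⁻¹ ∈ M12 :=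
    fun g hg => (hSD _).mpr (hn1 g ((hSD g).mp hg))
  have hc2 : ∀ g ∈ M12, projInv⁻¹ * g * projInv ∈ M12 :=
    fun g hg => (hSD _).mpr (hn2 g ((hSD g).mp hg))
  -- inner criterion
  have hinn : ∀ (β : MulAut M12) (ρ : Equiv.Perm GolayPt), ρ ∈ M24 → ρ • mk d0 = mk d0 →
      (∀ g : M12, (β g : Equiv.Perm GolayPt) = ρ * g * ρ⁻¹) → β ∈ Cfsg.Inn M12 := by
    intro β ρ hρ h1 h
    refine ⟨⟨ρ, (hSD ρ).mpr ⟨hρ, h1⟩⟩, ?_⟩
    apply MulEquiv.ext
    intro g
    apply Subtype.ext
    rw [h g]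
    rfl
  -- the automorphism induced by `projInv` is not inner
  have hα₀inn : conjAut M12 projInv hc1 hc2 ∉ Cfsg.Inn M12 := by
    rintro ⟨m, hm⟩
    have hm' := (hSD _).mp m.2
    have hmd : (m : Equiv.Perm GolayPt)⁻¹ • (Finset.univ \ mk d0) = Finset.univ \ mk d0 := by
      rw [inv_smul_eq_iff]
      exact ((smul_compl_iff _ _).mpr hm'.2).symm
    apply not_centralize_SD mk_d0_mem (z := (m : Equiv.Perm GolayPt)⁻¹ * projInv)
    · rw [mul_smul, hτD, hmd]
    · intro g hg
      have hg' : g ∈ M12 := (hSD g).mpr hg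
      have e : (m : Equiv.Perm GolayPt) * g * (m : Equiv.Perm GolayPt)⁻¹ =
          projInv * g * projInv⁻¹ :=
        congrArg (fun f : MulAut M12 => ((f ⟨g, hg'⟩ : M12) : Equiv.Perm GolayPt)) hm
      calc (m : Equiv.Perm GolayPt)⁻¹ * projInv * g
          = (m : Equiv.Perm GolayPt)⁻¹ * (projInv * g * projInv⁻¹) * projInv := by group
        _ = (m : Equiv.Perm GolayPt)⁻¹ * ((m : Equiv.Perm GolayPt) * g *
              (m : Equiv.Perm GolayPt)⁻¹) * projInv := by rw [e]
        _ = g * ((m : Equiv.Perm GolayPt)⁻¹ * projInv) := by group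
  refine ⟨conjAut M12 projInv hc1 hc2, fun β => ?_⟩
  obtain ⟨ρ, hρ, hconj, hcase⟩ := aut_M12 β
  have hβeq : conjAut M12 projInv hc1 hc2 = β⁻¹ * (β * conjAut M12 projInv hc1 hc2) := by group
  rcases hcase with h1 | h1
  · have hβ := hinn β ρ hρ h1 hconj
    refine Or.inr ⟨hβ, fun h => hα₀inn ?_⟩
    rw [hβeq]
    exact (Cfsg.Inn M12).mul_mem ((Cfsg.Inn M12).inv_mem hβ) h
  · have hβα : β * conjAut M12 projInv hc1 hc2 ∈ Cfsg.Inn M12 := by
      apply hinn (β * conjAut M12 projInv hc1 hc2) (ρ * projInv) (M24.mul_mem hρ hτ)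
      · rw [mul_smul, hτD, Finset.smul_finset_sdiff, Finset.smul_finset_univ, h1,
          Finset.sdiff_sdiff_eq_self (Finset.subset_univ _)]
      · intro g
        show ((β (conjAut M12 projInv hc1 hc2 g) : M12) : Equiv.Perm GolayPt) = _
        rw [hconj (conjAut M12 projInv hc1 hc2 g), conjAut_apply]
        group
    refine Or.inl ⟨hβα, fun h => hα₀inn ?_⟩
    rw [hβeq]
    exact (Cfsg.Inn M12).mul_mem ((Cfsg.Inn M12).inv_mem h) hβα

end Cfsg.Agent.S2061
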