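-- Statement S2062: Out(M22) has order 2.  By Cfsg.Agent.Lib.Helper35.M22Aut every automorphism
-- of M22 is conjugation by an element of M24 fixing or swapping the two extra points; those
-- fixing them give the inner automorphisms, and an element swapping them gives an automorphism
-- which is not inner because no such element centralises M22.
import Cfsg.Statements.S2062
import Cfsg.Agent.Lib.Helper35.M22Aut

set_option autoImplicit false
open Cfsg

namespace Cfsg.Agent.S2062

open Cfsg.Spor Cfsg.Agent.Lib.Helper35.M22Aut Cfsg.Agent.Lib.Helper35.M24Aut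

/-- The outer automorphism group of the Mathieu group M₂₂ (the permutations in the automorphism group of the length-24 binary code that fix each of two given points) has order 2. -/
theorem result : Nat.card (Cfsg.Out ↥Cfsg.Spor.M22) = 2 := by
  show (Cfsg.Inn M22).index = 2
  rw [Subgroup.index_eq_two_iff]
  obtain ⟨τ, hτ, hτn, hτz⟩ := exists_map_pair (a := none) (b := some 0) (a' := some 0)
    (b' := none) none_ne_zero none_ne_zero.symm
  obtain ⟨hc1, hc2⟩ := swap_normalizes hτ hτn hτz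
  -- inner criterion
  have hinn : ∀ (β : MulAut M22) (ρ : Equiv.Perm GolayPt), ρ ∈ M24 → ρ none = none →
      ρ (some 0) = some 0 → (∀ g : M22, (β g : Equiv.Perm GolayPt) = ρ * g * ρ⁻¹) →
      β ∈ Cfsg.Inn M22 := by
    intro β ρ hρ h1 h2 h
    refine ⟨⟨ρ, mem_M22.mpr ⟨hρ, h1, h2⟩⟩, ?_⟩
    apply MulEquiv.ext
    intro g
    apply Subtype.ext
    rw [h g]
    rfl
  -- the automorphism induced by `τ` is not inner
  have hα₀inn : conjAut M22 τ hc1 hc2 ∉ Cfsg.Inn M22 := by
    rintro ⟨m, hm⟩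
    have hm' := mem_M22.mp m.2
    apply not_centralize_swap (z := (m : Equiv.Perm GolayPt)⁻¹ * τ)
      (M24.mul_mem (M24.inv_mem hm'.1) hτ)
    · show (m : Equiv.Perm GolayPt)⁻¹ (τ none) = some 0
      rw [hτn, Equiv.Perm.inv_eq_iff_eq, hm'.2.2]
    · show (m : Equiv.Perm GolayPt)⁻¹ (τ (some 0)) = none
      rw [hτz, Equiv.Perm.inv_eq_iff_eq, hm'.2.1]
    · intro g hg
      have e : (m : Equiv.Perm GolayPt) * g * (m : Equiv.Perm GolayPt)⁻¹ = τ * g * τ⁻¹ :=
        congrArg (fun f : MulAut M22 => ((f ⟨g, hg⟩ : M22) : Equiv.Perm GolayPt)) hm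
      calc (m : Equiv.Perm GolayPt)⁻¹ * τ * g
          = (m : Equiv.Perm GolayPt)⁻¹ * (τ * g * τ⁻¹) * τ := by group
        _ = (m : Equiv.Perm GolayPt)⁻¹ * ((m : Equiv.Perm GolayPt) * g *
              (m : Equiv.Perm GolayPt)⁻¹) * τ := by rw [e]
        _ = g * ((m : Equiv.Perm GolayPt)⁻¹ * τ) := by group
  refine ⟨conjAut M22 τ hc1 hc2, fun β => ?_⟩
  obtain ⟨ρ, hρ, hconj, hcase⟩ := aut_M22 β
  have hβeq : conjAut M22 τ hc1 hc2 = β⁻¹ * (β * conjAut M22 τ hc1 hc2) := by group
  rcases hcase with ⟨h1, h2⟩ | ⟨h1, h2⟩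
  · have hβ := hinn β ρ hρ h1 h2 hconj
    refine Or.inr ⟨hβ, fun h => hα₀inn ?_⟩
    rw [hβeq]
    exact (Cfsg.Inn M22).mul_mem ((Cfsg.Inn M22).inv_mem hβ) h
  · have hβα : β * conjAut M22 τ hc1 hc2 ∈ Cfsg.Inn M22 := by
      apply hinn (β * conjAut M22 τ hc1 hc2) (ρ * τ) (M24.mul_mem hρ hτ)
      · show ρ (τ none) = none
        rw [hτn, h2]
      · show ρ (τ (some 0)) = some 0
        rw [hτz, h1]
      · intro g
        show ((β (conjAut M22 τ hc1 hc2 g) : M22) : Equiv.Perm GolayPt) = _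
        rw [hconj (conjAut M22 τ hc1 hc2 g), conjAut_apply]
        group
    refine Or.inl ⟨hβα, fun h => hα₀inn ?_⟩
    rw [hβeq]
    exact (Cfsg.Inn M22).mul_mem ((Cfsg.Inn M22).inv_mem h) hβα

end Cfsg.Agent.S2062
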