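-- Statement S2063: Out(M23) = 1.  Proof in Cfsg.Agent.Lib.Helper35.M23Aut: a subgroup of
-- index 23 of M23 fixes one of the 23 points, and M23 contains every permutation of the 23
-- points normalising it, so every automorphism is conjugation by an element of M23.
import Cfsg.Statements.S2063
import Cfsg.Agent.Lib.Helper35.M23Aut

set_option autoImplicit false
open Cfsg

namespace Cfsg.Agent.S2063

/-- The outer automorphism group of the Mathieu group M₂₃ (the stabiliser of a point in the automorphism group of the length-24 binary code) is trivial: every automorphism is inner. -/
theorem result : Nat.card (Cfsg.Out ↥Cfsg.Spor.M23) = 1 :=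
  Cfsg.Agent.Lib.Helper35.PermAut.card_out_eq_one Cfsg.Agent.Lib.Helper35.M23Aut.aut_M23_inner

end Cfsg.Agent.S2063
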