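-- Statement S2064: Out(M24) = 1.  Proof in Cfsg.Agent.Lib.Helper35.M24Aut: a subgroup of
-- index 24 of M24 fixes a point, and M24 is its own normaliser in the symmetric group on the
-- 24 points, so every automorphism is conjugation by an element of M24.
import Cfsg.Statements.S2064
import Cfsg.Agent.Lib.Helper35.M24Aut

set_option autoImplicit false
open Cfsg

namespace Cfsg.Agent.S2064

/-- The outer automorphism group of the Mathieu group M₂₄ (the automorphism group of the length-24 binary code) is trivial: every automorphism is inner. -/
theorem result : Nat.card (Cfsg.Out ↥Cfsg.M24) = 1 :=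
  Cfsg.Agent.Lib.Helper35.PermAut.card_out_eq_one Cfsg.Agent.Lib.Helper35.M24Aut.aut_M24_inner

end Cfsg.Agent.S2064
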