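import Cfsg.Statements.S2113
import Cfsg.Agent.Lib.Helper18.ReeMultTop
import Cfsg.Agent.Lib.Helper47.ReeMultEXR
import Cfsg.Agent.Lib.Helper77.ReeMultSQFORM
import Cfsg.Agent.Lib.Helper1.ReeMultMIXFORM
import Cfsg.Agent.Lib.Helper10.ReeMultZZ
import Cfsg.Agent.Lib.Helper10.ReeMultZU0
import Cfsg.Agent.Lib.Helper81.ReeMultZT
import Cfsg.Agent.Lib.Helper92.ReeMultZCENT
import Cfsg.Agent.Lib.Helper67.ReeMultU0U0
import Cfsg.Agent.Lib.Helper92.ReeMultAAB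
import Cfsg.Agent.Lib.Helper92.ReeMultLMAP
import Cfsg.Agent.Lib.Helper92.ReeMultLMUL
import Cfsg.Agent.Lib.Helper48.ReeMultLCONJH
import Cfsg.Agent.Lib.Helper57.ReeMultLCONJ
import Cfsg.Agent.Lib.Helper33.ReeMultTT
import Cfsg.Agent.Lib.Helper13.ReeMultFIN3
import Cfsg.Agent.Lib.Helper1.ReeMultP2ELT
import Cfsg.Agent.Lib.Helper61.ReeMultP2FORM
import Cfsg.Agent.Lib.Helper82.ReeMultFIN2
import Cfsg.Agent.Lib.Helper63.ReeOutSYLU

set_option autoImplicit false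
open Cfsg

namespace Cfsg.Agent.S2113

/-- Schur multipliers of the small Ree groups: for q = 3^(2m+1) with m ≥ 1 the Schur multiplier of ²G₂(q) is trivial (here the Schur multiplier is described through stem extensions, as in the definitions). -/
theorem result {K : Type*} [Field K] [Fintype K] {m : ℕ} (hm : 1 ≤ m) (hK : Fintype.card K = 3 ^ (2 * m + 1)) : Cfsg.HasCyclicSchurMultiplier ↥(Cfsg.Lie.twistedG2 K (3 ^ m)) 1 := by
  exact Cfsg.Agent.Lib.Helper18.ReeMultTop.schur_ree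
    (Cfsg.Agent.Lib.Helper18.ReeMultTop.p3
      Cfsg.Agent.Lib.Helper47.ReeMultEXR.main
      (Cfsg.Agent.Lib.Helper10.ReeMultZZ.main Cfsg.Agent.Lib.Helper77.ReeMultSQFORM.main
        Cfsg.Agent.Lib.Helper47.ReeMultEXR.main)
      Cfsg.Agent.Lib.Helper10.ReeMultZU0.main
      (Cfsg.Agent.Lib.Helper81.ReeMultZT.main Cfsg.Agent.Lib.Helper47.ReeMultEXR.main
        Cfsg.Agent.Lib.Helper1.ReeMultMIXFORM.main)
      Cfsg.Agent.Lib.Helper92.ReeMultZCENT.main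
      (Cfsg.Agent.Lib.Helper67.ReeMultU0U0.main Cfsg.Agent.Lib.Helper77.ReeMultSQFORM.main
        Cfsg.Agent.Lib.Helper47.ReeMultEXR.main)
      Cfsg.Agent.Lib.Helper92.ReeMultAAB.main
      (Cfsg.Agent.Lib.Helper57.ReeMultLCONJ.main Cfsg.Agent.Lib.Helper92.ReeMultLMAP.main Cfsg.Agent.Lib.Helper92.ReeMultLMUL.main Cfsg.Agent.Lib.Helper48.ReeMultLCONJH.main)
      (Cfsg.Agent.Lib.Helper33.ReeMultTT.main Cfsg.Agent.Lib.Helper47.ReeMultEXR.main Cfsg.Agent.Lib.Helper77.ReeMultSQFORM.main Cfsg.Agent.Lib.Helper92.ReeMultLMAP.main Cfsg.Agent.Lib.Helper92.ReeMultLMUL.main Cfsg.Agent.Lib.Helper48.ReeMultLCONJH.main)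
      (Cfsg.Agent.Lib.Helper13.ReeMultFIN3.main Cfsg.Agent.Lib.Helper92.ReeMultLMAP.main
        Cfsg.Agent.Lib.Helper92.ReeMultLMUL.main))
    Cfsg.Agent.Lib.Helper1.ReeMultP2ELT.main
    (Cfsg.Agent.Lib.Helper82.ReeMultFIN2.main Cfsg.Agent.Lib.Helper61.ReeMultP2FORM.main)
    Cfsg.Agent.Lib.Helper63.ReeOutSYLU.main hm hK

end Cfsg.Agent.S2113
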