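import Cfsg.Statements.S2127
import Mathlib
import Cfsg.Agent.Lib.Helper42.ReeAutStmt
import Cfsg.Agent.Lib.Helper42.ReeAutFStmt
import Cfsg.Agent.Lib.Helper42.ReeAutAsm
import Cfsg.Agent.Lib.Helper42.ReeAutRee
import Cfsg.Agent.Lib.Helper7.ReeAutGEOA
import Cfsg.Agent.Lib.Helper34.ReeAutGEOB
import Cfsg.Agent.Lib.Helper2.ReeAutGEOC
import Cfsg.Agent.Lib.Helper42.ReeAutGLOB
import Cfsg.Agent.Lib.Helper2.ReeAutSYLA
import Cfsg.Agent.Lib.Helper47.ReeAutALIGN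
import Cfsg.Agent.Lib.Helper95.ReeAutTORUS
import Cfsg.Agent.Lib.Helper95.ReeAutRIGA
import Cfsg.Agent.Lib.Helper95.ReeAutRIGB
import Cfsg.Agent.Lib.Helper95.ReeAutRIGC
import Cfsg.Agent.Lib.Helper7.ReeAutINJ
import Cfsg.Agent.Lib.Helper2.ReeAutCARD
import Cfsg.Agent.Lib.Helper42.ReeAutFLDA
import Cfsg.Agent.Lib.Helper42.ReeAutFLDB

set_option autoImplicit false
open Cfsg

namespace Cfsg.Agent.S2127

/-- Outer automorphisms of the small Ree groups: for q = 3^(2m+1) with m ≥ 1 the outer automorphism group of ²G₂(q) has order 2m + 1 (field automorphisms only). -/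
theorem result {K : Type*} [Field K] [Fintype K] {m : ℕ} (hm : 1 ≤ m) (hK : Fintype.card K = 3 ^ (2 * m + 1)) : Nat.card (Cfsg.Out ↥(Cfsg.Lie.twistedG2 K (3 ^ m))) = 2 * m + 1 := by
  obtain ⟨U, H, A, φ, x, e, Φ, hax, hsyl, hnh, hs, hp, hf, hU, hH⟩ :=
    Cfsg.Agent.Lib.Helper42.ReeAutRee.ree_input Cfsg.Agent.Lib.Helper42.ReeAutFLDA.main
      Cfsg.Agent.Lib.Helper42.ReeAutFLDB.main hm hK
  exact Cfsg.Agent.Lib.Helper42.ReeAutAsm.card_out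
    Cfsg.Agent.Lib.Helper7.ReeAutGEOA.main Cfsg.Agent.Lib.Helper34.ReeAutGEOB.main
    Cfsg.Agent.Lib.Helper2.ReeAutGEOC.main Cfsg.Agent.Lib.Helper42.ReeAutGLOB.main
    Cfsg.Agent.Lib.Helper2.ReeAutSYLA.main Cfsg.Agent.Lib.Helper47.ReeAutALIGN.main
    Cfsg.Agent.Lib.Helper95.ReeAutTORUS.main Cfsg.Agent.Lib.Helper95.ReeAutRIGA.main
    Cfsg.Agent.Lib.Helper95.ReeAutRIGB.main Cfsg.Agent.Lib.Helper95.ReeAutRIGC.main
    Cfsg.Agent.Lib.Helper7.ReeAutINJ.main hax hsyl hnh hs hp hf hU hH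
    Cfsg.Agent.Lib.Helper2.ReeAutCARD.main

end Cfsg.Agent.S2127
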