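import Cfsg.Statements.S2251
import Cfsg.Agent.Lib.Helper65.SzSubD

set_option autoImplicit false
open Cfsg

namespace Cfsg.Agent.S2251

open Cfsg.Agent.Lib.Helper6.Sz6 Cfsg.Agent.Lib.Helper65.SzSubB Cfsg.Agent.Lib.Helper65.SzSubC
  Cfsg.Agent.Lib.Helper65.SzSubD

/-- the normalised case: `M` contains the Weyl involution and a central involution of the
standard Sylow 2-subgroup -/
theorem normalized {F : Type*} [Field F] [Fintype F] {m : ℕ} (hm : 1 ≤ m)
    (hF : Fintype.card F = 2 ^ (2 * m + 1)) (M : Subgroup ↥(Cfsg.Sz F m)) (hM : M ≠ ⊤)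
    (hw : wS hF ∈ M) {b₀ : F} (hb₀ : b₀ ≠ 0) (ht : uS hF 0 b₀ ∈ M) : Concl M := by
  by_cases hK : ∃ k : Fˣ, k ≠ 1 ∧ hS hF k ∈ M
  · obtain ⟨k, hk1, hk⟩ := hK
    obtain ⟨F₀, hF₀, hkF, hle⟩ := field_case hm hF M hw hb₀ ht hk1 hk hM
    obtain ⟨K, iK, fK, k', hk'1, hk'm, hcK, hdvd, S₀, hiso, hU, hH, hW⟩ :=
      subfield_sub hF F₀ hF₀ hk1 hkF
    right; right
    exact ⟨K, iK, fK, k', hk'1, hk'm, hcK, hdvd, S₀, hiso, hle S₀ hU hH hW⟩
  · push Not at hK
    right; left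
    exact small_case hm hF M hw hb₀ ht (fun k hk => by
      by_contra h
      exact hK k h hk)

theorem main {F : Type*} [Field F] [Fintype F] {m : ℕ} (hm : 1 ≤ m)
    (hF : Fintype.card F = 2 ^ (2 * m + 1)) (M : Subgroup ↥(Cfsg.Sz F m)) (hM : M ≠ ⊤) :
    Concl M := by
  by_cases heven : 2 ∣ Nat.card M
  · have hmem : ∀ (c g : ↥(Cfsg.Sz F m)), g ∈ M →
        c * g * c⁻¹ ∈ M.map (MulAut.conj c).toMonoidHom := by
      intro c g hg
      rw [Subgroup.mem_map]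
      exact ⟨g, hg, rfl⟩
    rcases normalize hm hF M heven with ⟨c, hc⟩ | ⟨c, b₀, hb₀, hu, hw⟩
    · apply Concl.of_conj (M' := M.map (MulAut.conj c).toMonoidHom) c (hmem c)
      apply concl_of_fix hm hF
      intro x hx
      obtain ⟨g, hg, rfl⟩ := Subgroup.mem_map.1 hx
      exact hc g hg
    · apply Concl.of_conj (M' := M.map (MulAut.conj c).toMonoidHom) c (hmem c)
      have hM' : M.map (MulAut.conj c).toMonoidHom ≠ ⊤ := by
        intro htop
        apply hM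
        rw [eq_top_iff]
        intro g _
        have h1 : c * g * c⁻¹ ∈ M.map (MulAut.conj c).toMonoidHom := by rw [htop]; trivial
        obtain ⟨h, hh, e⟩ := Subgroup.mem_map.1 h1
        have e' : c * h * c⁻¹ = c * g * c⁻¹ := e
        have e2 : h = g := mul_left_cancel (mul_right_cancel e')
        rw [← e2]; exact hh
      have hw' : wS hF ∈ M.map (MulAut.conj c).toMonoidHom := by
        have h1 := hmem c _ hw
        have e : c * (c⁻¹ * wS hF * c) * c⁻¹ = wS hF := by group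
        rw [e] at h1
        exact h1
      have hu' : uS hF 0 b₀ ∈ M.map (MulAut.conj c).toMonoidHom := by
        have h1 := hmem c _ hu
        have e : c * (c⁻¹ * uS hF 0 b₀ * c) * c⁻¹ = uS hF 0 b₀ := by group
        rw [e] at h1
        exact h1
      exact normalized hm hF _ hM' hw' hb₀ hu'
  · exact concl_of_odd hm hF M heven

/-- The subgroups of the Suzuki group: with q = 2^(2m+1), m ≥ 1, r = 2^m and the group realised as the stabiliser in SL₄ of the Suzuki–Tits ovoid, every proper subgroup is contained in the normalizer of a Sylow 2-subgroup, or in the normalizer of a cyclic subgroup of order q − 1, q + 2r + 1 or q − 2r + 1, or in a subgroup isomorphic to a smaller Suzuki group Sz(s) with s = 2^(2k+1) ≥ 8 and 2k+1 a proper divisor of 2m+1. -/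
theorem result {F : Type*} [Field F] [Fintype F] {m : ℕ} (hm : 1 ≤ m) (hF : Fintype.card F = 2 ^ (2 * m + 1)) (M : Subgroup ↥(Cfsg.Sz F m)) (hM : M ≠ ⊤) :
    (∃ P : Sylow 2 ↥(Cfsg.Sz F m), M ≤ Subgroup.normalizer ((P : Subgroup ↥(Cfsg.Sz F m)) : Set ↥(Cfsg.Sz F m))) ∨
    (∃ U : Subgroup ↥(Cfsg.Sz F m), IsCyclic ↥U ∧ Nat.card ↥U ∈ ({2 ^ (2 * m + 1) - 1, 2 ^ (2 * m + 1) + 2 ^ (m + 1) + 1, 2 ^ (2 * m + 1) - 2 ^ (m + 1) + 1} : Set ℕ) ∧
      M ≤ Subgroup.normalizer (U : Set ↥(Cfsg.Sz F m))) ∨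
    (∃ (K : Type) (_ : Field K) (_ : Fintype K) (k : ℕ), 1 ≤ k ∧ k < m ∧ Fintype.card K = 2 ^ (2 * k + 1) ∧ 2 * k + 1 ∣ 2 * m + 1 ∧
      ∃ S : Subgroup ↥(Cfsg.Sz F m), Nonempty (↥S ≃* ↥(Cfsg.Sz K k)) ∧ M ≤ S) := by
  exact main hm hF M hM

end Cfsg.Agent.S2251
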