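import Mathlib
import Cfsg.Statements.S2271

set_option autoImplicit false
open Cfsg

namespace Cfsg.Agent.S2271

open Equiv Finset

/-- agreement count of `g c g⁻¹` with `b`. -/
def agr {n : ℕ} (c b g : Perm (Fin n)) : ℕ :=
  (univ.filter fun y : Fin n => g (c y) = b (g y)).card

/-- the finset of even permutations -/
def As (n : ℕ) : Finset (Perm (Fin n)) := univ.filter (fun g => Perm.sign g = 1)

/-- number of even permutations with two prescribed values -/
def F2 (n : ℕ) (y y' z z' : Fin n) : ℕ := ((As n).filter (fun g => g y = z ∧ g y' = z')).card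

theorem app_inv {α : Type*} (f : Perm α) (x : α) : f (f⁻¹ x) = x := f.apply_symm_apply x

theorem inv_app {α : Type*} (f : Perm α) (x : α) : f⁻¹ (f x) = x := f.symm_apply_apply x

theorem ext_perm {n : ℕ} (S : Set (Fin n)) (φ : Fin n → Fin n) (hφ : Set.InjOn φ S) :
    ∃ g : Perm (Fin n), ∀ x ∈ S, g x = φ x := by
  classical
  obtain ⟨g, hg⟩ := Set.MapsTo.exists_equiv_extend_of_card_eq (α := Fin n)
    (t := (univ : Finset (Fin n))) (Finset.card_univ).symm (s := S) (f := φ)
    (fun x _ => by simp) hφ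
  refine ⟨g.trans (Equiv.subtypeUnivEquiv (fun x => Finset.mem_univ x)), fun x hx => ?_⟩
  simp [hg x hx]

theorem ext_tuple {n k : ℕ} (xs ys : Fin k → Fin n) (hx : Function.Injective xs)
    (hy : Function.Injective ys) :
    ∃ g : Perm (Fin n), ∀ i, g (xs i) = ys i := by
  classical
  obtain ⟨g, hg⟩ := ext_perm (Set.range xs) (Function.extend xs ys id) (by
    rintro _ ⟨i, rfl⟩ _ ⟨j, rfl⟩ h
    rw [hx.extend_apply, hx.extend_apply] at h
    rw [hy h])
  exact ⟨g, fun i => by rw [hg _ ⟨i, rfl⟩, hx.extend_apply]⟩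

theorem ext_tuple_even {n k : ℕ} (xs ys : Fin k → Fin n) (hx : Function.Injective xs)
    (hy : Function.Injective ys) (hk : k + 2 ≤ n) :
    ∃ g : Perm (Fin n), g ∈ alternatingGroup (Fin n) ∧ ∀ i, g (xs i) = ys i := by
  classical
  obtain ⟨g, hg⟩ := ext_tuple xs ys hx hy
  rcases Int.units_eq_one_or (Perm.sign g) with h1 | h1
  · exact ⟨g, Perm.mem_alternatingGroup.2 h1, hg⟩
  · have hc : 1 < ((Finset.univ.image xs)ᶜ).card := by
      rw [Finset.card_compl, Fintype.card_fin, Finset.card_image_of_injective _ hx,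
        Finset.card_univ, Fintype.card_fin]
      omega
    obtain ⟨x₁, hx₁, x₂, hx₂, hne⟩ := Finset.one_lt_card.1 hc
    simp only [Finset.mem_compl, Finset.mem_image, Finset.mem_univ, true_and, not_exists]
      at hx₁ hx₂
    refine ⟨g * swap x₁ x₂, ?_, fun i => ?_⟩
    · rw [Perm.mem_alternatingGroup, Perm.sign_mul, h1, Perm.sign_swap hne]; simp
    · rw [Perm.mul_apply, swap_apply_of_ne_of_ne (hx₁ i) (hx₂ i)]
      exact hg i

theorem inj2 {α : Type*} {a b : α} (h : a ≠ b) : Function.Injective ![a, b] := by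
  intro i j hij
  fin_cases i <;> fin_cases j <;> simp_all

theorem inj3 {α : Type*} {a b c : α} (h1 : a ≠ b) (h2 : a ≠ c) (h3 : b ≠ c) :
    Function.Injective ![a, b, c] := by
  intro i j hij
  fin_cases i <;> fin_cases j <;> simp_all

theorem inj4 {α : Type*} {a b c d : α} (h1 : a ≠ b) (h2 : a ≠ c) (h3 : a ≠ d) (h4 : b ≠ c)
    (h5 : b ≠ d) (h6 : c ≠ d) :
    Function.Injective ![a, b, c, d] := by
  intro i j hij
  fin_cases i <;> fin_cases j <;> simp_all

theorem agr_mul_left {n : ℕ} (c b g τ : Perm (Fin n)) (hτ : τ * b = b * τ) :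
    agr c b (τ * g) = agr c b g := by
  unfold agr
  refine congrArg Finset.card (Finset.filter_congr (fun y _ => ?_))
  simp only [Perm.mul_apply]
  have h : b (τ (g y)) = τ (b (g y)) := by
    have := congrArg (fun f : Perm (Fin n) => f (g y)) hτ
    simpa [Perm.mul_apply] using this.symm
  rw [h]
  exact τ.injective.eq_iff

theorem agr_mul_right {n : ℕ} (c b g τ : Perm (Fin n)) (hτ : τ * c = c * τ) :
    agr c b (g * τ) = agr c b g := by
  unfold agr
  refine Finset.card_bij (fun y _ => τ y) ?_ ?_ ?_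
  · intro y hy
    have hy' : (g * τ) (c y) = b ((g * τ) y) := (Finset.mem_filter.1 hy).2
    rw [Perm.mul_apply, Perm.mul_apply] at hy'
    refine Finset.mem_filter.2 ⟨Finset.mem_univ _, ?_⟩
    have h : τ (c y) = c (τ y) := by
      have := congrArg (fun f : Perm (Fin n) => f y) hτ
      simpa [Perm.mul_apply] using this
    show g (c (τ y)) = b (g (τ y))
    rw [← h]; exact hy'
  · intro y₁ _ y₂ _ h; exact τ.injective h
  · intro z hz
    have hz' : g (c z) = b (g z) := (Finset.mem_filter.1 hz).2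
    have h : τ (c (τ⁻¹ z)) = c z := by
      have := congrArg (fun f : Perm (Fin n) => f (τ⁻¹ z)) hτ
      simpa [Perm.mul_apply] using this
    refine ⟨τ⁻¹ z, Finset.mem_filter.2 ⟨Finset.mem_univ _, ?_⟩, app_inv τ z⟩
    show (g * τ) (c (τ⁻¹ z)) = b ((g * τ) (τ⁻¹ z))
    rw [Perm.mul_apply, Perm.mul_apply, h, app_inv]; exact hz'

theorem agr_symm {n : ℕ} (c b g : Perm (Fin n)) : agr b c g⁻¹ = agr c b g := by
  unfold agr
  refine Finset.card_bij (fun z _ => g⁻¹ z) ?_ ?_ ?_
  · intro z hz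
    have hz' : g⁻¹ (b z) = c (g⁻¹ z) := (Finset.mem_filter.1 hz).2
    refine Finset.mem_filter.2 ⟨Finset.mem_univ _, ?_⟩
    show g (c (g⁻¹ z)) = b (g (g⁻¹ z))
    rw [← hz', app_inv, app_inv]
  · intro y₁ _ y₂ _ h; exact g⁻¹.injective h
  · intro y hy
    have hy' : g (c y) = b (g y) := (Finset.mem_filter.1 hy).2
    refine ⟨g y, Finset.mem_filter.2 ⟨Finset.mem_univ _, ?_⟩, inv_app g y⟩
    show g⁻¹ (b (g y)) = c (g⁻¹ (g y))
    rw [← hy', inv_app, inv_app]

theorem even_of_comm_left {n : ℕ} (c b : Perm (Fin n)) (τ : Perm (Fin n)) (hτ : τ * b = b * τ)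
    (hs : Perm.sign τ = -1) (g : Perm (Fin n)) :
    ∃ g' ∈ alternatingGroup (Fin n), agr c b g' = agr c b g := by
  rcases Int.units_eq_one_or (Perm.sign g) with h1 | h1
  · exact ⟨g, Perm.mem_alternatingGroup.2 h1, rfl⟩
  · refine ⟨τ * g, ?_, agr_mul_left c b g τ hτ⟩
    rw [Perm.mem_alternatingGroup, Perm.sign_mul, h1, hs]; simp

theorem even_of_comm_right {n : ℕ} (c b : Perm (Fin n)) (τ : Perm (Fin n)) (hτ : τ * c = c * τ)
    (hs : Perm.sign τ = -1) (g : Perm (Fin n)) :
    ∃ g' ∈ alternatingGroup (Fin n), agr c b g' = agr c b g := by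
  rcases Int.units_eq_one_or (Perm.sign g) with h1 | h1
  · exact ⟨g, Perm.mem_alternatingGroup.2 h1, rfl⟩
  · refine ⟨g * τ, ?_, agr_mul_right c b g τ hτ⟩
    rw [Perm.mem_alternatingGroup, Perm.sign_mul, h1, hs]; simp

theorem fix_eq {n : ℕ} (a b g : Perm (Fin n)) :
    Nat.card (Function.fixedPoints ⇑(g * a * g⁻¹ * (1 * b * 1⁻¹))) = agr a⁻¹ b g := by
  have e : ↥(Function.fixedPoints ⇑(g * a * g⁻¹ * (1 * b * 1⁻¹))) ≃
      {y : Fin n // g (a⁻¹ y) = b (g y)} :=
    { toFun := fun x => ⟨g⁻¹ x.1, by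
        have hx : g (a (g⁻¹ (b x.1))) = x.1 := by
          have := x.2
          simpa [Function.mem_fixedPoints, Function.IsFixedPt, Perm.mul_apply] using this
        have h2 : g⁻¹ x.1 = a (g⁻¹ (b x.1)) := by
          conv_lhs => rw [← hx]
          simp
        rw [app_inv, h2, inv_app, app_inv]⟩
      invFun := fun y => ⟨g y.1, by
        have hy : g (a⁻¹ y.1) = b (g y.1) := y.2
        show (g * a * g⁻¹ * (1 * b * 1⁻¹)) (g y.1) = g y.1
        simp only [Perm.mul_apply, inv_one, Perm.one_apply]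
        rw [← hy, inv_app, app_inv]⟩
      left_inv := fun x => Subtype.ext (app_inv g x.1)
      right_inv := fun y => Subtype.ext (inv_app g y.1) }
  unfold agr
  rw [Nat.card_congr e, Nat.card_eq_fintype_card, Fintype.card_subtype]

theorem F2_le {n : ℕ} (hn : 4 ≤ n) {y y' z z' x x' w w' : Fin n} (hy : y ≠ y') (hz : z ≠ z')
    (hx : x ≠ x') (hw : w ≠ w') : F2 n y y' z z' ≤ F2 n x x' w w' := by
  obtain ⟨h₁, h₁A, h₁e⟩ := ext_tuple_even ![z, z'] ![w, w'] (inj2 hz) (inj2 hw) (by omega)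
  obtain ⟨h₂, h₂A, h₂e⟩ := ext_tuple_even ![x, x'] ![y, y'] (inj2 hx) (inj2 hy) (by omega)
  have e1 : h₁ z = w := by simpa using h₁e 0
  have e2 : h₁ z' = w' := by simpa using h₁e 1
  have e3 : h₂ x = y := by simpa using h₂e 0
  have e4 : h₂ x' = y' := by simpa using h₂e 1
  unfold F2
  refine Finset.card_le_card_of_injOn (fun g => h₁ * g * h₂) ?_ ?_
  · intro g hg
    simp only [Finset.coe_filter, As, Finset.mem_filter, Finset.mem_univ,
      true_and] at hg ⊢
    obtain ⟨hs, hg1, hg2⟩ := hg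
    refine ⟨?_, ?_, ?_⟩
    · rw [Perm.sign_mul, Perm.sign_mul, hs, Perm.mem_alternatingGroup.1 h₁A,
        Perm.mem_alternatingGroup.1 h₂A]; simp
    · rw [Perm.mul_apply, Perm.mul_apply, e3, hg1, e1]
    · rw [Perm.mul_apply, Perm.mul_apply, e4, hg2, e2]
  · intro g₁ _ g₂ _ h
    simpa using h

theorem F2_diag {n : ℕ} {y y' z : Fin n} (hy : y ≠ y') : F2 n y y' z z = 0 := by
  unfold F2
  rw [Finset.card_eq_zero, Finset.filter_eq_empty_iff]
  rintro g _ ⟨h1, h2⟩
  exact hy (g.injective (h1.trans h2.symm))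

theorem exists_N2 {n : ℕ} (hn : 4 ≤ n) :
    ∃ N : ℕ, ∀ y y' z z' : Fin n, y ≠ y' → z ≠ z' → F2 n y y' z z' = N := by
  have h01 : (⟨0, by omega⟩ : Fin n) ≠ ⟨1, by omega⟩ := by simp [Fin.ext_iff]
  exact ⟨F2 n ⟨0, by omega⟩ ⟨1, by omega⟩ ⟨0, by omega⟩ ⟨1, by omega⟩, fun y y' z z' hy hz =>
    le_antisymm (F2_le hn hy hz h01 h01) (F2_le hn h01 h01 hy hz)⟩

theorem H1_eq {n : ℕ} (hn : 4 ≤ n) (N : ℕ)
    (hN : ∀ y y' z z' : Fin n, y ≠ y' → z ≠ z' → F2 n y y' z z' = N)
    (y z : Fin n) : ((As n).filter (fun g => g y = z)).card = (n - 1) * N := by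
  obtain ⟨y', hy'⟩ : ∃ y' : Fin n, y ≠ y' := by
    by_cases h : y = ⟨0, by omega⟩
    · exact ⟨⟨1, by omega⟩, by rw [h]; simp [Fin.ext_iff]⟩
    · exact ⟨⟨0, by omega⟩, h⟩
  rw [Finset.card_eq_sum_card_fiberwise (f := fun g : Perm (Fin n) => g y') (t := Finset.univ)
    (fun g _ => by simp)]
  have hterm : ∀ z' ∈ (Finset.univ : Finset (Fin n)),
      (((As n).filter (fun g => g y = z)).filter (fun g => g y' = z')).card
        = if z' = z then 0 else N := by
    intro z' _
    rw [Finset.filter_filter]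
    split_ifs with h
    · rw [h]; exact F2_diag hy'
    · exact hN y y' z z' hy' (Ne.symm h)
  rw [Finset.sum_congr rfl hterm, ← Finset.add_sum_erase Finset.univ _ (Finset.mem_univ z),
    if_pos rfl, zero_add,
    Finset.sum_congr rfl (fun z' hz' => if_neg (Finset.ne_of_mem_erase hz')),
    Finset.sum_const, Finset.card_erase_of_mem (Finset.mem_univ z), Finset.card_univ,
    Fintype.card_fin, smul_eq_mul]

theorem card_As {n : ℕ} (hn : 4 ≤ n) (N : ℕ)
    (hN : ∀ y y' z z' : Fin n, y ≠ y' → z ≠ z' → F2 n y y' z z' = N) :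
    (As n).card = n * ((n - 1) * N) := by
  have y : Fin n := ⟨0, by omega⟩
  rw [Finset.card_eq_sum_card_fiberwise (f := fun g : Perm (Fin n) => g y) (t := Finset.univ)
    (fun g _ => by simp)]
  rw [Finset.sum_congr rfl (fun z _ => H1_eq hn N hN y z), Finset.sum_const, Finset.card_univ,
    Fintype.card_fin, smul_eq_mul]

theorem sum_agr {n : ℕ} (hn : 4 ≤ n) (N : ℕ)
    (hN : ∀ y y' z z' : Fin n, y ≠ y' → z ≠ z' → F2 n y y' z z' = N) (c b : Perm (Fin n)) :
    ∑ g ∈ As n, agr c b g =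
      ((univ.filter fun y : Fin n => c y = y).card *
          ((univ.filter fun z : Fin n => b z = z).card * ((n - 1) * N))
        + (univ.filter fun y : Fin n => ¬ c y = y).card *
          ((univ.filter fun z : Fin n => ¬ b z = z).card * N)) := by
  have h1 : ∑ g ∈ As n, agr c b g
      = ∑ y : Fin n, ((As n).filter (fun g => g (c y) = b (g y))).card := by
    unfold agr
    simp only [Finset.card_filter]
    exact Finset.sum_comm
  rw [h1]
  have h2 : ∀ y : Fin n, ((As n).filter (fun g => g (c y) = b (g y))).card =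
      if c y = y then (univ.filter fun z : Fin n => b z = z).card * ((n - 1) * N)
      else (univ.filter fun z : Fin n => ¬ b z = z).card * N := by
    intro y
    rw [Finset.card_eq_sum_card_fiberwise (f := fun g : Perm (Fin n) => g y) (t := Finset.univ)
      (fun g _ => by simp)]
    split_ifs with hy
    · have hterm : ∀ z ∈ (univ : Finset (Fin n)),
          (((As n).filter (fun g => g (c y) = b (g y))).filter (fun g => g y = z)).card
          = if b z = z then (n - 1) * N else 0 := by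
        intro z _
        rw [Finset.filter_filter]
        split_ifs with hz
        · rw [← H1_eq hn N hN y z]
          refine congrArg Finset.card (Finset.filter_congr (fun g _ => ?_))
          constructor
          · rintro ⟨_, h⟩; exact h
          · intro h; refine ⟨?_, h⟩; rw [hy, h, hz]
        · rw [Finset.card_eq_zero, Finset.filter_eq_empty_iff]
          rintro g _ ⟨h1, h2⟩
          rw [hy, h2] at h1
          exact hz h1.symm
      rw [Finset.sum_congr rfl hterm, Finset.sum_ite, Finset.sum_const_zero, add_zero,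
        Finset.sum_const, smul_eq_mul]
    · have hterm : ∀ z ∈ (univ : Finset (Fin n)),
          (((As n).filter (fun g => g (c y) = b (g y))).filter (fun g => g y = z)).card
          = if b z = z then 0 else N := by
        intro z _
        rw [Finset.filter_filter]
        have hcongr : ((As n).filter (fun g => g (c y) = b (g y) ∧ g y = z))
            = (As n).filter (fun g => g y = z ∧ g (c y) = b z) := by
          refine Finset.filter_congr (fun g _ => ?_)
          constructor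
          · rintro ⟨h1, h2⟩; exact ⟨h2, by rw [h1, h2]⟩
          · rintro ⟨h1, h2⟩; exact ⟨by rw [h2, h1], h1⟩
        rw [hcongr]
        split_ifs with hz
        · rw [hz]; exact F2_diag (Ne.symm hy)
        · exact hN y (c y) z (b z) (Ne.symm hy) (Ne.symm hz)
      rw [Finset.sum_congr rfl hterm, Finset.sum_ite, Finset.sum_const_zero, zero_add,
        Finset.sum_const, smul_eq_mul]
  rw [Finset.sum_congr rfl (fun y _ => h2 y), Finset.sum_ite, Finset.sum_const, Finset.sum_const,
    smul_eq_mul, smul_eq_mul]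

theorem avg {n : ℕ} (hn : 4 ≤ n) (c b : Perm (Fin n)) (m : ℕ)
    (hconst : ∀ g ∈ alternatingGroup (Fin n), agr c b g = m) :
    m * (n * (n - 1)) =
      (univ.filter fun y : Fin n => c y = y).card * (univ.filter fun z : Fin n => b z = z).card
          * (n - 1)
        + (univ.filter fun y : Fin n => ¬ c y = y).card
          * (univ.filter fun z : Fin n => ¬ b z = z).card := by
  obtain ⟨N, hN⟩ := exists_N2 hn
  have hs := sum_agr hn N hN c b
  have hc := card_As hn N hN
  have hmem : ∀ g ∈ As n, g ∈ alternatingGroup (Fin n) := fun g hg => by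
    simpa [As, Perm.mem_alternatingGroup] using hg
  have h1 : ∑ g ∈ As n, agr c b g = (As n).card * m := by
    rw [Finset.sum_congr rfl (fun g hg => hconst g (hmem g hg)), Finset.sum_const, smul_eq_mul]
  have hNpos : 0 < N := by
    rcases Nat.eq_zero_or_pos N with h0 | h0
    · exfalso
      have h1m : (1 : Perm (Fin n)) ∈ As n := by simp [As]
      have hpos : 0 < (As n).card := Finset.card_pos.2 ⟨1, h1m⟩
      rw [hc, h0] at hpos; simp at hpos
    · exact h0
  rw [h1, hc] at hs
  apply Nat.eq_of_mul_eq_mul_right hNpos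
  calc m * (n * (n - 1)) * N = n * ((n - 1) * N) * m := by ring
    _ = _ := hs
    _ = _ := by ring

theorem two_le_moved {n : ℕ} (c : Perm (Fin n)) (hc : c ≠ 1) :
    2 ≤ (univ.filter fun y : Fin n => ¬ c y = y).card := by
  obtain ⟨y, hy⟩ : ∃ y, c y ≠ y := by
    by_contra h; push Not at h; exact hc (Perm.ext h)
  have hsub : ({y, c y} : Finset (Fin n)) ⊆ univ.filter (fun t => ¬ c t = t) := by
    intro t ht
    simp only [Finset.mem_insert, Finset.mem_singleton] at ht
    simp only [Finset.mem_filter, Finset.mem_univ, true_and]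
    rcases ht with ht | ht
    · rw [ht]; exact hy
    · rw [ht]; exact fun h => hy (c.injective h)
  calc 2 = ({y, c y} : Finset (Fin n)).card := (Finset.card_pair (Ne.symm hy)).symm
    _ ≤ _ := Finset.card_le_card hsub

theorem L3 {n : ℕ} (hn : 5 ≤ n) (c b : Perm (Fin n)) (y z : Fin n) (hy : c (c y) ≠ y)
    (hz : b (b z) ≠ z) :
    ∃ g ∈ alternatingGroup (Fin n), 2 ≤ agr c b g := by
  have hy1 : c y ≠ y := fun h => hy (by rw [h, h])
  have hz1 : b z ≠ z := fun h => hz (by rw [h, h])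
  have hy2 : c (c y) ≠ c y := fun h => hy1 (c.injective h)
  have hz2 : b (b z) ≠ b z := fun h => hz1 (b.injective h)
  obtain ⟨g, hgA, hg⟩ := ext_tuple_even ![y, c y, c (c y)] ![z, b z, b (b z)]
    (inj3 (Ne.symm hy1) (Ne.symm hy) (Ne.symm hy2))
    (inj3 (Ne.symm hz1) (Ne.symm hz) (Ne.symm hz2)) (by omega)
  have e0 : g y = z := by simpa using hg 0
  have e1 : g (c y) = b z := by simpa using hg 1
  have e2 : g (c (c y)) = b (b z) := by simpa using hg 2
  refine ⟨g, hgA, ?_⟩
  unfold agr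
  have hsub : ({y, c y} : Finset (Fin n)) ⊆ univ.filter (fun t => g (c t) = b (g t)) := by
    intro t ht
    simp only [Finset.mem_insert, Finset.mem_singleton] at ht
    simp only [Finset.mem_filter, Finset.mem_univ, true_and]
    rcases ht with ht | ht
    · rw [ht, e1, e0]
    · rw [ht, e2, e1]
  calc 2 = ({y, c y} : Finset (Fin n)).card := (Finset.card_pair (Ne.symm hy1)).symm
    _ ≤ _ := Finset.card_le_card hsub

theorem L4 {n : ℕ} (c b : Perm (Fin n)) (y y' z z' : Fin n)
    (hy : c y ≠ y) (hy' : c y' ≠ y') (h1 : y' ≠ y) (h2 : y' ≠ c y) (h3 : c y' ≠ y)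
    (hz : b z ≠ z) (hz' : b z' ≠ z') (k1 : z' ≠ z) (k2 : z' ≠ b z) (k3 : b z' ≠ z) :
    ∃ g : Perm (Fin n), 2 ≤ agr c b g := by
  have h4 : c y' ≠ c y := fun h => h1 (c.injective h)
  have k4 : b z' ≠ b z := fun h => k1 (b.injective h)
  obtain ⟨g, hg⟩ := ext_tuple ![y, c y, y', c y'] ![z, b z, z', b z']
    (inj4 (Ne.symm hy) (Ne.symm h1) (Ne.symm h3) (Ne.symm h2) (Ne.symm h4) (Ne.symm hy'))
    (inj4 (Ne.symm hz) (Ne.symm k1) (Ne.symm k3) (Ne.symm k2) (Ne.symm k4) (Ne.symm hz'))
  have e0 : g y = z := by simpa using hg 0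
  have e1 : g (c y) = b z := by simpa using hg 1
  have e2 : g y' = z' := by simpa using hg 2
  have e3 : g (c y') = b z' := by simpa using hg 3
  refine ⟨g, ?_⟩
  unfold agr
  have hsub : ({y, y'} : Finset (Fin n)) ⊆ univ.filter (fun t => g (c t) = b (g t)) := by
    intro t ht
    simp only [Finset.mem_insert, Finset.mem_singleton] at ht
    simp only [Finset.mem_filter, Finset.mem_univ, true_and]
    rcases ht with ht | ht
    · rw [ht, e1, e0]
    · rw [ht, e3, e2]
  calc 2 = ({y, y'} : Finset (Fin n)).card := (Finset.card_pair (Ne.symm h1)).symm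
    _ ≤ _ := Finset.card_le_card hsub

theorem exists_two_edges {n : ℕ} (c : Perm (Fin n))
    (h4 : 4 ≤ (univ.filter fun y : Fin n => ¬ c y = y).card) :
    ∃ y y' : Fin n, c y ≠ y ∧ c y' ≠ y' ∧ y' ≠ y ∧ y' ≠ c y ∧ c y' ≠ y := by
  obtain ⟨y, hy⟩ : ∃ y, y ∈ univ.filter (fun y : Fin n => ¬ c y = y) := by
    apply Finset.card_pos.1; omega
  have hy0 : ¬ c y = y := (Finset.mem_filter.1 hy).2
  have hlt : ({y, c y, c⁻¹ y} : Finset (Fin n)).card
      < (univ.filter fun y : Fin n => ¬ c y = y).card := by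
    have : ({y, c y, c⁻¹ y} : Finset (Fin n)).card ≤ 3 := Finset.card_le_three
    omega
  obtain ⟨y', hy'm, hy'n⟩ := Finset.exists_mem_notMem_of_card_lt_card hlt
  have hy'0 : ¬ c y' = y' := (Finset.mem_filter.1 hy'm).2
  simp only [Finset.mem_insert, Finset.mem_singleton, not_or] at hy'n
  refine ⟨y, y', hy0, hy'0, hy'n.1, hy'n.2.1, fun h => hy'n.2.2 ?_⟩
  rw [← h]; simp

theorem Lfix {n : ℕ} (c b : Perm (Fin n)) (hc : c ≠ 1) (hb : b ≠ 1)
    (huv : (univ.filter fun y : Fin n => c y = y).card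
      ≤ (univ.filter fun z : Fin n => b z = z).card) :
    ∃ g : Perm (Fin n), (univ.filter fun y : Fin n => c y = y).card + 1 ≤ agr c b g := by
  classical
  obtain ⟨y, hy⟩ : ∃ y, c y ≠ y := by
    by_contra h; push Not at h; exact hc (Perm.ext h)
  obtain ⟨z, hz⟩ : ∃ z, b z ≠ z := by
    by_contra h; push Not at h; exact hb (Perm.ext h)
  obtain ⟨Fc, hFc⟩ : ∃ Fc : Finset (Fin n), Fc = univ.filter fun y : Fin n => c y = y := ⟨_, rfl⟩
  obtain ⟨Fb, hFb⟩ : ∃ Fb : Finset (Fin n), Fb = univ.filter fun z : Fin n => b z = z := ⟨_, rfl⟩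
  rw [← hFc, ← hFb] at huv
  rw [← hFc]
  have hmemFb : ∀ w ∈ Fb, b w = w := fun w hw => by
    rw [hFb] at hw; exact (Finset.mem_filter.1 hw).2
  have hle : Fintype.card {x // x ∈ Fc} ≤ Fintype.card {x // x ∈ Fb} := by simpa using huv
  obtain ⟨e⟩ := Function.Embedding.nonempty_of_card_le hle
  obtain ⟨φ, hφ⟩ : ∃ φ : Fin n → Fin n, φ = fun t =>
      if h : t ∈ Fc then (e ⟨t, h⟩ : Fin n) else if t = y then z else b z := ⟨_, rfl⟩
  have hφ1 : ∀ t (h : t ∈ Fc), φ t = (e ⟨t, h⟩ : Fin n) := fun t h => by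
    rw [hφ]; exact dif_pos h
  have hyF : y ∉ Fc := by rw [hFc]; simp [hy]
  have hcyF : c y ∉ Fc := by rw [hFc]; simp [hy]
  have hφy : φ y = z := by rw [hφ]; simp [hyF]
  have hφcy : φ (c y) = b z := by rw [hφ]; simp [hcyF, hy]
  have hmemb : ∀ t (h : t ∈ Fc), b (φ t) = φ t := by
    intro t h
    rw [hφ1 t h]
    exact hmemFb _ (e ⟨t, h⟩).2
  have key : ∀ s (_ : s ∈ Fc), φ s ≠ z ∧ φ s ≠ b z := by
    intro s h
    have hb' := hmemb s h
    constructor
    · intro h1; rw [h1] at hb'; exact hz hb'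
    · intro h1; rw [h1] at hb'; exact hz (b.injective hb')
  have hinj : Set.InjOn φ (↑(Fc ∪ {y, c y}) : Set (Fin n)) := by
    intro s hs t ht hst
    simp only [Finset.coe_union, Finset.coe_insert, Finset.coe_singleton, Set.mem_union,
      Finset.mem_coe, Set.mem_insert_iff, Set.mem_singleton_iff] at hs ht
    rcases hs with hs | hs | hs <;> rcases ht with ht | ht | ht
    · rw [hφ1 s hs, hφ1 t ht] at hst
      have := e.injective (Subtype.ext hst)
      exact congrArg Subtype.val this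
    · rw [ht] at hst; exact absurd (hst.trans hφy) (key s hs).1
    · rw [ht] at hst; exact absurd (hst.trans hφcy) (key s hs).2
    · rw [hs] at hst; exact absurd (hst.symm.trans hφy) (key t ht).1
    · rw [hs, ht]
    · rw [hs, ht] at hst; exact absurd (hφy.symm.trans (hst.trans hφcy)) (Ne.symm hz)
    · rw [hs] at hst; exact absurd (hst.symm.trans hφcy) (key t ht).2
    · rw [hs, ht] at hst; exact absurd (hφy.symm.trans (hst.symm.trans hφcy)) (Ne.symm hz)
    · rw [hs, ht]
  obtain ⟨g, hg⟩ := ext_perm _ φ hinj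
  refine ⟨g, ?_⟩
  have hgF : ∀ t ∈ Fc, g t = φ t := fun t ht => hg t (by simp [ht])
  have hgy : g y = z := by rw [hg y (by simp), hφy]
  have hgcy : g (c y) = b z := by rw [hg (c y) (by simp), hφcy]
  have hsub : insert y Fc ⊆ univ.filter (fun t => g (c t) = b (g t)) := by
    intro t ht
    rw [Finset.mem_insert] at ht
    simp only [Finset.mem_filter, Finset.mem_univ, true_and]
    rcases ht with ht | ht
    · rw [ht, hgcy, hgy]
    · have hct : c t = t := by
        rw [hFc] at ht; exact (Finset.mem_filter.1 ht).2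
      rw [hct, hgF t ht, hmemb t ht]
  unfold agr
  calc Fc.card + 1 = (insert y Fc).card := (Finset.card_insert_of_notMem hyF).symm
    _ ≤ _ := Finset.card_le_card hsub

theorem case3 {n : ℕ} (hn : 5 ≤ n) (c b : Perm (Fin n))
    (hp : 4 ≤ (univ.filter fun y : Fin n => ¬ c y = y).card)
    (hq : 4 ≤ (univ.filter fun z : Fin n => ¬ b z = z).card) :
    ∃ g ∈ alternatingGroup (Fin n), 2 ≤ agr c b g := by
  by_cases h1 : ∀ y, c (c y) = y
  · obtain ⟨y, y', hy, hy', a1, a2, a3⟩ := exists_two_edges c hp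
    obtain ⟨z, z', hz, hz', k1, k2, k3⟩ := exists_two_edges b hq
    obtain ⟨g, hg⟩ := L4 c b y y' z z' hy hy' a1 a2 a3 hz hz' k1 k2 k3
    have hτ : swap y (c y) * c = c * swap y (c y) := by
      rw [Equiv.mul_swap_eq_swap_mul, h1 y, Equiv.swap_comm]
    obtain ⟨g', hg'A, hg'⟩ :=
      even_of_comm_right c b (swap y (c y)) hτ (Perm.sign_swap (Ne.symm hy)) g
    exact ⟨g', hg'A, by rw [hg']; exact hg⟩
  · by_cases h2 : ∀ z, b (b z) = z
    · obtain ⟨y, y', hy, hy', a1, a2, a3⟩ := exists_two_edges c hp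
      obtain ⟨z, z', hz, hz', k1, k2, k3⟩ := exists_two_edges b hq
      obtain ⟨g, hg⟩ := L4 c b y y' z z' hy hy' a1 a2 a3 hz hz' k1 k2 k3
      have hτ : swap z (b z) * b = b * swap z (b z) := by
        rw [Equiv.mul_swap_eq_swap_mul, h2 z, Equiv.swap_comm]
      obtain ⟨g', hg'A, hg'⟩ :=
        even_of_comm_left c b (swap z (b z)) hτ (Perm.sign_swap (Ne.symm hz)) g
      exact ⟨g', hg'A, by rw [hg']; exact hg⟩
    · push Not at h1 h2
      obtain ⟨y, hy⟩ := h1
      obtain ⟨z, hz⟩ := h2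
      exact L3 hn c b y z hy hz

theorem case4 {n : ℕ} (c b : Perm (Fin n)) (hc : c ≠ 1) (hb : b ≠ 1)
    (huv : (univ.filter fun y : Fin n => c y = y).card
      ≤ (univ.filter fun z : Fin n => b z = z).card)
    (hv : 2 ≤ (univ.filter fun z : Fin n => b z = z).card) :
    ∃ g ∈ alternatingGroup (Fin n),
      (univ.filter fun y : Fin n => c y = y).card + 1 ≤ agr c b g := by
  obtain ⟨g, hg⟩ := Lfix c b hc hb huv
  obtain ⟨q₁, hq₁, q₂, hq₂, hne⟩ :=
    Finset.one_lt_card.1 (by omega : 1 < (univ.filter fun z : Fin n => b z = z).card)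
  have e1 : b q₁ = q₁ := (Finset.mem_filter.1 hq₁).2
  have e2 : b q₂ = q₂ := (Finset.mem_filter.1 hq₂).2
  have hτ : swap q₁ q₂ * b = b * swap q₁ q₂ := by
    rw [Equiv.mul_swap_eq_swap_mul, e1, e2]
  obtain ⟨g', hg'A, hg'⟩ := even_of_comm_left c b (swap q₁ q₂) hτ (Perm.sign_swap hne) g
  exact ⟨g', hg'A, by rw [hg']; exact hg⟩

theorem nonconst_of_le {n : ℕ} (hn : 5 ≤ n) (c b : Perm (Fin n)) (hc : c ≠ 1) (hb : b ≠ 1)
    (huv : (univ.filter fun y : Fin n => c y = y).card
      ≤ (univ.filter fun z : Fin n => b z = z).card) :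
    ∃ g₁ ∈ alternatingGroup (Fin n), ∃ g₂ ∈ alternatingGroup (Fin n),
      agr c b g₁ ≠ agr c b g₂ := by
  by_contra hcon
  push Not at hcon
  have hconst : ∀ g ∈ alternatingGroup (Fin n), agr c b g = agr c b 1 :=
    fun g hg => hcon g hg 1 (one_mem _)
  obtain ⟨m, hm⟩ : ∃ m, m = agr c b 1 := ⟨_, rfl⟩
  rw [← hm] at hconst
  have havg := avg (by omega : 4 ≤ n) c b m hconst
  have hp2 := two_le_moved c hc
  have hq2 := two_le_moved b hb
  have hup : (univ.filter fun y : Fin n => c y = y).card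
      + (univ.filter fun y : Fin n => ¬ c y = y).card = n := by
    rw [Finset.card_filter_add_card_filter_not, Finset.card_univ, Fintype.card_fin]
  have hvq : (univ.filter fun z : Fin n => b z = z).card
      + (univ.filter fun z : Fin n => ¬ b z = z).card = n := by
    rw [Finset.card_filter_add_card_filter_not, Finset.card_univ, Fintype.card_fin]
  have h3 := case3 hn c b
  have h4 := case4 c b hc hb huv
  obtain ⟨u, hu⟩ : ∃ u, u = (univ.filter fun y : Fin n => c y = y).card := ⟨_, rfl⟩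
  obtain ⟨v, hv⟩ : ∃ v, v = (univ.filter fun z : Fin n => b z = z).card := ⟨_, rfl⟩
  obtain ⟨p, hp⟩ : ∃ p, p = (univ.filter fun y : Fin n => ¬ c y = y).card := ⟨_, rfl⟩
  obtain ⟨q, hq⟩ : ∃ q, q = (univ.filter fun z : Fin n => ¬ b z = z).card := ⟨_, rfl⟩
  rw [← hu, ← hv, ← hp, ← hq] at havg
  rw [← hu, ← hv] at huv h4
  rw [← hp] at hp2 h3
  rw [← hq] at hq2 h3
  rw [← hu, ← hp] at hup
  rw [← hv, ← hq] at hvq
  obtain ⟨k, hk⟩ : ∃ k, n = k + 1 := ⟨n - 1, by omega⟩
  have hk' : n - 1 = k := by omega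
  rw [hk'] at havg
  have hnpos : 0 < n := by omega
  have hkpos : 0 < k := by omega
  have hnk : 0 < n * k := Nat.mul_pos hnpos hkpos
  by_cases hv2 : 2 ≤ v
  · rcases Nat.eq_zero_or_pos u with hu0 | hu0
    · -- u = 0, v ≥ 2
      have hpn : p = n := by omega
      rw [hu0, hpn] at havg
      have h' : n * (m * k) = n * q := by
        calc n * (m * k) = m * (n * k) := by ring
          _ = 0 * v * k + n * q := havg
          _ = n * q := by ring
      have h'' : m * k = q := Nat.eq_of_mul_eq_mul_left hnpos h'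
      rcases Nat.eq_zero_or_pos m with h0 | h0
      · rw [h0] at h''; omega
      · have : k ≤ m * k := Nat.le_mul_of_pos_left k h0
        omega
    · -- u ≥ 1, v ≥ 2
      obtain ⟨g, hgA, hg⟩ := h4 hv2
      rw [hconst g hgA] at hg
      have e1 : u * v * k + u * q * k = u * n * k := by rw [← hvq]; ring
      have e2 : p * q ≤ k * q := Nat.mul_le_mul_right q (by omega)
      have e3 : k * q ≤ u * q * k := by
        calc k * q = 1 * (q * k) := by ring
          _ ≤ u * (q * k) := Nat.mul_le_mul_right _ hu0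
          _ = u * q * k := by ring
      have e4 : (u + 1) * (n * k) ≤ m * (n * k) := Nat.mul_le_mul_right _ hg
      nlinarith [e1, e2, e3, e4, havg, hnk]
  · by_cases hv0 : v = 0
    · -- u = 0, v = 0
      have hu0 : u = 0 := by omega
      have hpn : p = n := by omega
      have hqn : q = n := by omega
      rw [hu0, hv0, hpn, hqn] at havg
      have h' : n * (m * k) = n * n := by
        calc n * (m * k) = m * (n * k) := by ring
          _ = 0 * 0 * k + n * n := havg
          _ = n * n := by ring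
      have h'' : m * k = n := Nat.eq_of_mul_eq_mul_left hnpos h'
      rcases Nat.lt_or_ge m 2 with h | h
      · interval_cases m <;> omega
      · have : 2 * k ≤ m * k := Nat.mul_le_mul_right k h
        omega
    · -- v = 1, u ≤ 1
      have hv1 : v = 1 := by omega
      have hm1 : m * (n * k) = 1 * (n * k) := by
        rcases Nat.eq_zero_or_pos u with hu0 | hu0
        · have hpn : p = n := by omega
          have hqk : q = k := by omega
          rw [hu0, hv1, hpn, hqk] at havg
          rw [havg]; ring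
        · have hu1 : u = 1 := by omega
          have hpk : p = k := by omega
          have hqk : q = k := by omega
          rw [hu1, hv1, hpk, hqk] at havg
          rw [havg, hk]; ring
      have hm1' : m = 1 := Nat.eq_of_mul_eq_mul_right hnk hm1
      obtain ⟨g, hgA, hg⟩ := h3 (by omega) (by omega)
      rw [hconst g hgA] at hg
      omega

theorem nonconst {n : ℕ} (hn : 5 ≤ n) (c b : Perm (Fin n)) (hc : c ≠ 1) (hb : b ≠ 1) :
    ∃ g₁ ∈ alternatingGroup (Fin n), ∃ g₂ ∈ alternatingGroup (Fin n),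
      agr c b g₁ ≠ agr c b g₂ := by
  rcases le_total (univ.filter fun y : Fin n => c y = y).card
      (univ.filter fun z : Fin n => b z = z).card with h | h
  · exact nonconst_of_le hn c b hc hb h
  · obtain ⟨g₁, hg₁, g₂, hg₂, hne⟩ := nonconst_of_le hn b c hb hc h
    refine ⟨g₁⁻¹, inv_mem hg₁, g₂⁻¹, inv_mem hg₂, ?_⟩
    have e1 := agr_symm c b g₁⁻¹
    have e2 := agr_symm c b g₂⁻¹
    rw [inv_inv] at e1 e2
    rw [← e1, ← e2]
    exact hne

/-- Let n ≥ 5 and let a, b be non-identity permutations in the symmetric group S_n. Then the number of fixed points is not constant on the set of products a′b′ with a′ conjugate to a and b′ conjugate to b under the alternating group: there are even permutations g₁, h₁, g₂, h₂ such that (g₁ a g₁⁻¹)(h₁ b h₁⁻¹) and (g₂ a g₂⁻¹)(h₂ b h₂⁻¹) have different numbers of fixed points. -/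
theorem result (n : ℕ) (hn : 5 ≤ n) (a b : Equiv.Perm (Fin n)) (ha : a ≠ 1) (hb : b ≠ 1) :
    ∃ g₁ h₁ g₂ h₂ : Equiv.Perm (Fin n), g₁ ∈ alternatingGroup (Fin n) ∧ h₁ ∈ alternatingGroup (Fin n) ∧ g₂ ∈ alternatingGroup (Fin n) ∧ h₂ ∈ alternatingGroup (Fin n) ∧
      Nat.card (Function.fixedPoints ⇑(g₁ * a * g₁⁻¹ * (h₁ * b * h₁⁻¹))) ≠
        Nat.card (Function.fixedPoints ⇑(g₂ * a * g₂⁻¹ * (h₂ * b * h₂⁻¹))) := by
  obtain ⟨g₁, hg₁, g₂, hg₂, hne⟩ := nonconst hn a⁻¹ b (by simpa using ha) hb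
  refine ⟨g₁, 1, g₂, 1, hg₁, one_mem _, hg₂, one_mem _, ?_⟩
  rw [fix_eq, fix_eq]
  exact hne

end Cfsg.Agent.S2271
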