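-- Statement S2272: the Arad–Herzog property for PSL_d(F), d ≥ 3.
import Cfsg.Statements.S2272
import Cfsg.Agent.Lib.Helper53.TraceConj

set_option autoImplicit false
open Cfsg

namespace Cfsg.Agent.S2272

open Matrix
open scoped LinearAlgebra.Projectivization

/-- a non-central element of `SL_d(F)` moves some point of the projective space -/
theorem noneig {F : Type*} [Field F] {d : ℕ} (A : Matrix.SpecialLinearGroup (Fin d) F)
    (hA : A ∉ Subgroup.center (Matrix.SpecialLinearGroup (Fin d) F)) :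
    ∃ u : Fin d → F, ∀ c : F, A.1 *ᵥ u ≠ c • u := by
  classical
  have h1 : A ∉ (MulAction.toPermHom (Matrix.SpecialLinearGroup (Fin d) F)
      (ℙ F (Fin d → F))).ker := by
    rw [Projectivization.SL_mulAction_ker]; exact hA
  have h2 : ∃ p : ℙ F (Fin d → F), A • p ≠ p := by
    by_contra hcon
    push Not at hcon
    apply h1
    rw [MonoidHom.mem_ker]
    ext p
    exact hcon p
  obtain ⟨p, hp⟩ := h2
  induction p using Projectivization.ind with
  | _ u hu0 =>
    refine ⟨u, fun c hc => hp ?_⟩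
    rw [Projectivization.smul_mk, Projectivization.mk_eq_mk_iff']
    exact ⟨c, hc.symm⟩

/-- Let F be a finite field and d ≥ 3, and let a, b be non-identity elements of PSL_d(F). Then the product of the conjugacy classes of a and b is not a single conjugacy class: there are conjugates a′ of a and b′ of b such that a′b′ is not conjugate to ab. -/
theorem result {F : Type*} [Field F] [Fintype F] (d : ℕ) (hd : 3 ≤ d)
    (a b : Matrix.ProjectiveSpecialLinearGroup (Fin d) F) (ha : a ≠ 1) (hb : b ≠ 1) :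
    ∃ g h : Matrix.ProjectiveSpecialLinearGroup (Fin d) F, ¬ IsConj (a * b) (g * a * g⁻¹ * (h * b * h⁻¹)) := by
  classical
  obtain ⟨A, rfl⟩ := QuotientGroup.mk_surjective a
  obtain ⟨B, rfl⟩ := QuotientGroup.mk_surjective b
  have hA : A ∉ Subgroup.center (Matrix.SpecialLinearGroup (Fin d) F) := fun h =>
    ha ((QuotientGroup.eq_one_iff A).mpr h)
  have hB : B ∉ Subgroup.center (Matrix.SpecialLinearGroup (Fin d) F) := fun h =>
    hb ((QuotientGroup.eq_one_iff B).mpr h)
  obtain ⟨t, ht⟩ : ∃ t : F, (t = 0) ↔ ¬ (Matrix.trace (A.1 * B.1) = 0) := by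
    by_cases h : Matrix.trace (A.1 * B.1) = 0
    · exact ⟨1, by simp [h]⟩
    · exact ⟨0, by simp [h]⟩
  obtain ⟨g, hg⟩ := Cfsg.Agent.Lib.Helper53.TraceConj.exists_trace hd A.1 B.1 (noneig A hA)
    (noneig B hB) t
  refine ⟨1, QuotientGroup.mk g, ?_⟩
  intro hconj
  rw [isConj_iff] at hconj
  obtain ⟨c, hc⟩ := hconj
  obtain ⟨C, rfl⟩ := QuotientGroup.mk_surjective c
  have hc' : (QuotientGroup.mk (C * (A * B) * C⁻¹) :
      Matrix.SpecialLinearGroup (Fin d) F ⧸ Subgroup.center (Matrix.SpecialLinearGroup (Fin d) F)) =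
      QuotientGroup.mk (A * (g * B * g⁻¹)) := by
    simpa using hc
  rw [QuotientGroup.eq, Matrix.SpecialLinearGroup.mem_center_iff] at hc'
  obtain ⟨r, hr1, hr⟩ := hc'
  have hM : A * (g * B * g⁻¹) = (C * (A * B) * C⁻¹) * ((C * (A * B) * C⁻¹)⁻¹ * (A * (g * B * g⁻¹))) := by
    group
  have hM1 : A.1 * (g.1 * B.1 * (g⁻¹ : Matrix.SpecialLinearGroup (Fin d) F).1) =
      C.1 * (A.1 * B.1) * (C⁻¹ : Matrix.SpecialLinearGroup (Fin d) F).1 *
        ((C * (A * B) * C⁻¹)⁻¹ * (A * (g * B * g⁻¹)) : Matrix.SpecialLinearGroup (Fin d) F).1 :=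
    congrArg Subtype.val hM
  rw [← hr] at hM1
  have hM' := congrArg Matrix.trace hM1
  have hsc : Matrix.scalar (Fin d) r = r • (1 : Matrix (Fin d) (Fin d) F) := by
    rw [Matrix.smul_one_eq_diagonal]; rfl
  have hconjtr : Matrix.trace (C.1 * (A.1 * B.1) * (C⁻¹ : Matrix.SpecialLinearGroup (Fin d) F).1) =
      Matrix.trace (A.1 * B.1) := by
    rw [Matrix.trace_mul_comm, ← Matrix.mul_assoc, ← Matrix.SpecialLinearGroup.coe_mul,
      inv_mul_cancel, Matrix.SpecialLinearGroup.coe_one, Matrix.one_mul]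
  rw [hsc, Matrix.mul_smul, Matrix.mul_one, Matrix.trace_smul, hconjtr, smul_eq_mul] at hM'
  have hg' : Matrix.trace (A.1 * (g.1 * B.1 * (g⁻¹ : Matrix.SpecialLinearGroup (Fin d) F).1)) = t := by
    rw [← hg]
    simp only [Matrix.mul_assoc]
  rw [hg'] at hM'
  by_cases h0 : Matrix.trace (A.1 * B.1) = 0
  · rw [h0, mul_zero] at hM'
    exact (ht.mp hM') h0
  · have ht0 := ht.mpr h0
    rw [ht0] at hM'
    have hr0 : r = 0 := by
      rcases mul_eq_zero.mp hM'.symm with h | h
      · exact h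
      · exact absurd h h0
    rw [hr0, Fintype.card_fin, zero_pow (by omega)] at hr1
    exact zero_ne_one hr1

end Cfsg.Agent.S2272
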