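import Cfsg.Statements.S2276
-- import your own Cfsg.Agent.* helpers here
import Cfsg.Agent.Lib.Helper56.PEFinal
import Cfsg.Agent.Lib.Helper56.PEK3
import Cfsg.Agent.Lib.Helper50.PEA5C
import Cfsg.Agent.Lib.Helper50.PEBLOW
import Cfsg.Agent.Lib.Helper50.PECYC
import Cfsg.Agent.Lib.Helper50.PENSC
import Cfsg.Agent.Lib.Helper50.PEORB
import Cfsg.Agent.Lib.Helper11.PERNS
import Cfsg.Agent.Lib.Helper50.PERP
import Cfsg.Agent.Lib.Helper50.PENS6
import Cfsg.Agent.Lib.Helper50.PEC5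
import Cfsg.Agent.Lib.Helper50.PEC6A
import Cfsg.Agent.Lib.Helper50.PEC6B
import Cfsg.Agent.Lib.Helper57.PEK59
import Cfsg.Agent.Lib.Helper98.PEK45
import Cfsg.Agent.Lib.Helper98.PEK5F
import Cfsg.Agent.Lib.Helper84.PECASE2A
import Cfsg.Agent.Lib.Helper84.PECASE2B
import Cfsg.Agent.Lib.Helper84.PECASE3
import Cfsg.Agent.Lib.Helper84.PECORE3
import Cfsg.Agent.Lib.Helper82.PEARITH
import Cfsg.Agent.Lib.Helper82.PEFIX
import Cfsg.Agent.Lib.Helper82.PEGREEDY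
import Cfsg.Agent.Lib.Helper82.PEODDC
import Cfsg.Agent.Lib.Helper69.PEODDC3
import Cfsg.Agent.Lib.Helper69.PECASE1
import Cfsg.Agent.Lib.Helper74.PEBM
import Cfsg.Agent.Lib.Helper74.PEBP
import Cfsg.Agent.Lib.Helper74.PEK2

set_option autoImplicit false
open Cfsg

namespace Cfsg.Agent.S2276

/-- Let n ≥ 5, p ≥ 3 a prime, and u, w non-identity elements of p-power order in the alternating group A_n. Then there is g ∈ A_n such that u·(g w g⁻¹) does not have p-power order and ⟨u, g w g⁻¹⟩ is not solvable. -/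
theorem result (n : ℕ) (hn : 5 ≤ n) (p : ℕ) (hp : p.Prime) (hp3 : 3 ≤ p) (u w : alternatingGroup (Fin n)) (hu : u ≠ 1) (hw : w ≠ 1)
    (hu' : ∃ k : ℕ, orderOf u = p ^ k) (hw' : ∃ k : ℕ, orderOf w = p ^ k) :
    ∃ g : alternatingGroup (Fin n), (¬ ∃ k : ℕ, orderOf (u * (g * w * g⁻¹)) = p ^ k) ∧
      ¬ Group.IsSolvable ↥(Subgroup.closure ({u, g * w * g⁻¹} : Set (alternatingGroup (Fin n)))) := by
  have hNSC : Lib.Helper56.PEStmt.NSCert := Lib.Helper50.PENSC.main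
  have hA5 : Lib.Helper56.PEStmt.A5C := Lib.Helper50.PEA5C.main
  have hFix : Lib.Helper56.PEStmt.FixCert := Lib.Helper82.PEFIX.main
  have hRP : Lib.Helper56.PEStmt.RP := Lib.Helper50.PERP.main
  have hRNS : Lib.Helper56.PEStmt.RNS := Lib.Helper11.PERNS.main
  have hOrb : Lib.Helper56.PEStmt.Orb := Lib.Helper50.PEORB.main
  have hCyc : Lib.Helper56.PEStmt.CycPts := Lib.Helper50.PECYC.main
  have hBlow : Lib.Helper56.PEStmt.Blow := Lib.Helper50.PEBLOW.main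
  have hArith : Lib.Helper56.PEStmt.Arith := Lib.Helper82.PEARITH.main
  have hGreedy : Lib.Helper56.PEStmt.Greedy := Lib.Helper82.PEGREEDY.main
  have hOddC : Lib.Helper56.PEStmt.OddCent := Lib.Helper82.PEODDC.main
  have hOddC3 : Lib.Helper56.PEStmt.OddCent3 := Lib.Helper69.PEODDC3.main hArith hOddC
  have hNS6 : Lib.Helper56.PEStmt.NS6 := Lib.Helper50.PENS6.main
  have hC5 : Lib.Helper56.PEStmt.C5 := Lib.Helper50.PEC5.main
  have hC6A : Lib.Helper56.PEStmt.C6A := Lib.Helper50.PEC6A.main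
  have hC6B : Lib.Helper56.PEStmt.C6B := Lib.Helper50.PEC6B.main
  have hBM : Lib.Helper56.PEStmt.BM := Lib.Helper74.PEBM.main hCyc hFix hA5
  have hBP : Lib.Helper56.PEStmt.BP := Lib.Helper74.PEBP.main hCyc hFix hA5 hRNS hNS6
  have hK2 : Lib.Helper56.PEStmt.K2 := Lib.Helper74.PEK2.main hOrb hCyc hBM hBlow hRP hRNS
  have hK3 : Lib.Helper56.PEStmt.K3 := Lib.Helper56.PEK3.main hCyc hBM hFix hRNS
  have hK45 : Lib.Helper56.PEStmt.K45 := Lib.Helper98.PEK45.main hCyc hFix hRNS hNS6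
  have hK5F : Lib.Helper56.PEStmt.K5F := Lib.Helper98.PEK5F.main hCyc hFix hRNS hNS6
  have hK59 : Lib.Helper56.PEStmt.K59 := Lib.Helper57.PEK59.main hCyc hNSC
  have hCore3 : Lib.Helper56.PEStmt.Core3 := Lib.Helper84.PECORE3.main hK2 hK3 hK45 hK5F hK59
  have hCase1 : Lib.Helper56.PEStmt.Case1 := Lib.Helper69.PECASE1.main hOrb hBM hBP hRP hRNS
  have hCase2A : Lib.Helper56.PEStmt.Case2A := Lib.Helper84.PECASE2A.main hC6A hC6B hRP hRNS
  have hCase2B : Lib.Helper56.PEStmt.Case2B := Lib.Helper84.PECASE2B.main hC5 hRP hRNS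
  have hCase3 : Lib.Helper56.PEStmt.Case3 := Lib.Helper84.PECASE3.main hOrb hGreedy hCore3 hRP hRNS
  exact Lib.Helper56.PEFinal.final hCase1 hCase2A hCase2B hCase3 hOddC hOddC3 n hn p hp hp3 u w hu hw
    hu' hw'

end Cfsg.Agent.S2276
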