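import Cfsg.Statements.S2277
import Cfsg.Agent.S0023

set_option autoImplicit false
open Cfsg

namespace Cfsg.Agent.S2277

section Alg

variable {A : Type*} [AddCommGroup A]

theorem end_mul_apply (f g : AddMonoid.End A) (x : A) : (f * g) x = f (g x) := rfl

theorem pow_fixed (f : AddMonoid.End A) (x : A) (h : f x = x) (k : ℕ) : (f ^ k) x = x := by
  induction k with
  | zero => simp
  | succ k ih =>
    rw [pow_succ, end_mul_apply, h, ih]

theorem geom_fixed (Z : AddMonoid.End A) (m : ℕ) (hZ : Z ^ m = 1) (b : A) :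
    Z (∑ k ∈ Finset.range m, (Z ^ k) b) = ∑ k ∈ Finset.range m, (Z ^ k) b := by
  rw [map_sum]
  have h1 : ∑ k ∈ Finset.range m, Z ((Z ^ k) b) = ∑ k ∈ Finset.range m, (Z ^ (k + 1)) b := by
    apply Finset.sum_congr rfl
    intro k _
    rw [pow_succ', end_mul_apply]
  rw [h1]
  have h2 := Finset.sum_range_succ' (fun k => (Z ^ k) b) m
  have h3 := Finset.sum_range_succ (fun k => (Z ^ k) b) m
  rw [h3] at h2
  simp only [hZ, pow_zero] at h2
  exact (add_right_cancel h2).symm

theorem cw_comm (Cc W Z : AddMonoid.End A) (hZW : Z * W = W * Z)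
    (hCW : Cc * W = Z * W * Cc) (i : ℕ) : Cc * W ^ i = Z ^ i * W ^ i * Cc := by
  have hc : Commute Z W := hZW
  induction i with
  | zero => simp
  | succ i ih =>
    calc Cc * W ^ (i + 1) = (Cc * W ^ i) * W := by rw [pow_succ, mul_assoc]
      _ = Z ^ i * W ^ i * (Cc * W) := by rw [ih]; simp only [mul_assoc]
      _ = Z ^ i * W ^ i * (Z * W * Cc) := by rw [hCW]
      _ = Z ^ i * (W ^ i * Z) * W * Cc := by simp only [mul_assoc]
      _ = Z ^ i * (Z * W ^ i) * W * Cc := by rw [(hc.pow_right i).eq]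
      _ = Z ^ (i + 1) * W ^ (i + 1) * Cc := by rw [pow_succ, pow_succ]; simp only [mul_assoc]

theorem ckw_comm (Cc W Z : AddMonoid.End A) (hZW : Z * W = W * Z) (hZC : Z * Cc = Cc * Z)
    (hCW : Cc * W = Z * W * Cc) (k i : ℕ) :
    Cc ^ k * W ^ i = Z ^ (k * i) * W ^ i * Cc ^ k := by
  have hc : Commute Z Cc := hZC
  induction k with
  | zero => simp
  | succ k ih =>
    calc Cc ^ (k + 1) * W ^ i = Cc * (Cc ^ k * W ^ i) := by rw [pow_succ', mul_assoc]
      _ = Cc * (Z ^ (k * i) * W ^ i * Cc ^ k) := by rw [ih]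
      _ = (Cc * Z ^ (k * i)) * W ^ i * Cc ^ k := by simp only [mul_assoc]
      _ = (Z ^ (k * i) * Cc) * W ^ i * Cc ^ k := by rw [(hc.pow_left (k * i)).eq]
      _ = Z ^ (k * i) * (Cc * W ^ i) * Cc ^ k := by simp only [mul_assoc]
      _ = Z ^ (k * i) * (Z ^ i * W ^ i * Cc) * Cc ^ k := by rw [cw_comm Cc W Z hZW hCW]
      _ = Z ^ ((k + 1) * i) * W ^ i * Cc ^ (k + 1) := by
        rw [add_mul, one_mul, pow_add, pow_succ']; simp only [mul_assoc]

theorem pow_injective_of_injective (W : AddMonoid.End A) (hW : Function.Injective W) (j : ℕ) :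
    Function.Injective (W ^ j) := by
  rw [AddMonoid.End.coe_pow]
  exact hW.iterate j

theorem indep (p m : ℕ) (hm : 0 < m) (hpm : p ∣ m) (Cc W Z : AddMonoid.End A)
    (hZW : Z * W = W * Z) (hZC : Z * Cc = Cc * Z) (hCW : Cc * W = Z * W * Cc)
    (hZm : Z ^ m = 1)
    (hfpf : ∀ t : ℕ, ¬ p ∣ t → ∀ a : A, (Z ^ t) a = a → a = 0)
    (htors : ∀ a : A, m • a = 0 → a = 0)
    (hW : Function.Injective W)
    (a : ℕ → A) (ha : ∀ i, Cc (a i) = a i)
    (hsum : ∑ i ∈ Finset.range p, (W ^ i) (a i) = 0) :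
    ∀ j < p, a j = 0 := by
  -- step B
  have hB : ∀ k : ℕ, ∑ i ∈ Finset.range p, (Z ^ (k * i)) ((W ^ i) (a i)) = 0 := by
    intro k
    have h1 : (Cc ^ k) (∑ i ∈ Finset.range p, (W ^ i) (a i)) = 0 := by rw [hsum, map_zero]
    rw [map_sum] at h1
    rw [← h1]
    apply Finset.sum_congr rfl
    intro i _
    have h2 : (Cc ^ k) ((W ^ i) (a i)) = (Cc ^ k * W ^ i) (a i) := rfl
    rw [h2, ckw_comm Cc W Z hZW hZC hCW k i]
    simp only [end_mul_apply]
    rw [pow_fixed Cc (a i) (ha i) k]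
  intro j hj
  have hpm' : p ≤ m := Nat.le_of_dvd hm hpm
  -- step C
  have hC : ∑ k ∈ Finset.range m, (Z ^ (k * (m - j)))
      (∑ i ∈ Finset.range p, (Z ^ (k * i)) ((W ^ i) (a i))) = 0 := by
    apply Finset.sum_eq_zero
    intro k _
    rw [hB k, map_zero]
  simp only [map_sum] at hC
  rw [Finset.sum_comm] at hC
  have hterm : ∀ i ∈ Finset.range p, i ≠ j →
      ∑ k ∈ Finset.range m, (Z ^ (k * (m - j))) ((Z ^ (k * i)) ((W ^ i) (a i))) = 0 := by
    intro i hi hij
    have hi' : i < p := Finset.mem_range.mp hi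
    have ht : ¬ p ∣ (m - j + i) := by
      intro hdvd
      obtain ⟨m', rfl⟩ := hpm
      rcases Nat.lt_or_ge i j with h | h
      · -- m - j + i = m - (j - i)
        have h1 : p ∣ p * m' - (p * m' - j + i) := Nat.dvd_sub (Dvd.intro _ rfl) hdvd
        have h2 : p * m' - (p * m' - j + i) = j - i := by omega
        rw [h2] at h1
        have h3 := Nat.le_of_dvd (by omega) h1
        omega
      · have h2 : p * m' - j + i = p * m' + (i - j) := by omega
        rw [h2] at hdvd
        have h1 : p ∣ i - j := (Nat.dvd_add_right (Dvd.intro _ rfl)).mp hdvd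
        rcases Nat.eq_zero_or_pos (i - j) with h0 | h0
        · omega
        · have h3 := Nat.le_of_dvd h0 h1
          omega
    have hsame : ∀ k, (Z ^ (k * (m - j))) ((Z ^ (k * i)) ((W ^ i) (a i))) =
        ((Z ^ (m - j + i)) ^ k) ((W ^ i) (a i)) := by
      intro k
      rw [← end_mul_apply, ← pow_add, ← pow_mul]
      congr 2
      ring
    simp only [hsame]
    apply hfpf (m - j + i) ht
    apply geom_fixed
    rw [← pow_mul, mul_comm, pow_mul, hZm, one_pow]
  rw [Finset.sum_eq_single j (fun i hi hij => hterm i hi hij)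
    (fun h => absurd (Finset.mem_range.mpr hj) h)] at hC
  have hsame : ∀ k ∈ Finset.range m, (Z ^ (k * (m - j))) ((Z ^ (k * j)) ((W ^ j) (a j))) =
      (W ^ j) (a j) := by
    intro k _
    rw [← end_mul_apply, ← pow_add]
    have : k * (m - j) + k * j = m * k := by
      rw [← mul_add, Nat.sub_add_cancel (by omega), mul_comm]
    rw [this, pow_mul, hZm, one_pow, AddMonoid.End.one_apply]
  rw [Finset.sum_congr rfl hsame, Finset.sum_const, Finset.card_range] at hC
  have h0 := htors _ hC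
  have h1 : (W ^ j) (a j) = (W ^ j) 0 := by rw [h0, map_zero]
  exact pow_injective_of_injective W hW j h1

end Alg

section Grp

variable {G : Type*} [Group G]

/-- Conjugation on the normal subgroup `N`, as an additive endomorphism of `Additive N`. -/
noncomputable def rho (N : Subgroup G) [N.Normal] : G →* AddMonoid.End (Additive N) where
  toFun g := MonoidHom.toAdditive (MulAut.conjNormal g : MulAut N).toMonoidHom
  map_one' := by
    apply AddMonoidHom.ext
    intro x
    simp
    rfl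
  map_mul' g h := by
    apply AddMonoidHom.ext
    intro x
    simp
    rfl

theorem rho_apply (N : Subgroup G) [N.Normal] (g : G) (x : Additive N) :
    ((Additive.toMul (rho N g x) : N) : G) = g * ((Additive.toMul x : N) : G) * g⁻¹ := rfl

theorem rho_fixed_iff (N : Subgroup G) [N.Normal] (g : G) (x : Additive N) :
    rho N g x = x ↔ g * ((Additive.toMul x : N) : G) = ((Additive.toMul x : N) : G) * g := by
  constructor
  · intro h
    have h1 := rho_apply N g x
    rw [h] at h1
    calc g * ((Additive.toMul x : N) : G) = g * ((Additive.toMul x : N) : G) * g⁻¹ * g := by group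
      _ = ((Additive.toMul x : N) : G) * g := by rw [← h1]
  · intro h
    apply Additive.toMul.injective
    apply Subtype.ext
    rw [rho_apply, h]
    group

theorem card_centralizer_pow_le [Finite G] (p : ℕ) (N : Subgroup G) [N.Normal]
    (hab : ∀ a ∈ N, ∀ b ∈ N, a * b = b * a)
    (c w ζ : G) (hζw : ζ * w = w * ζ) (hζc : ζ * c = c * ζ) (hcw : c * w = ζ * w * c)
    (m : ℕ) (hm : 0 < m) (hpm : p ∣ m) (hζm : ζ ^ m = 1)
    (hfpf : ∀ t : ℕ, ¬ p ∣ t → ∀ x ∈ N, ζ ^ t * x = x * ζ ^ t → x = 1)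
    (htors : ∀ x ∈ N, x ^ m = 1 → x = 1) :
    Nat.card {x : N // c * (x : G) = (x : G) * c} ^ p ≤ Nat.card N := by
  classical
  let _ : CommGroup N := { (inferInstance : Group N) with
    mul_comm := fun a b => Subtype.ext (hab a a.2 b b.2) }
  have key : ∀ (e : ℕ → Additive N), (∀ i, rho N c (e i) = e i) →
      ∑ i ∈ Finset.range p, ((rho N w) ^ i) (e i) = 0 → ∀ j < p, e j = 0 := by
    intro e he hsum
    refine indep p m hm hpm (rho N c) (rho N w) (rho N ζ) ?_ ?_ ?_ ?_ ?_ ?_ ?_ e he hsum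
    · rw [← map_mul, ← map_mul, hζw]
    · rw [← map_mul, ← map_mul, hζc]
    · rw [← map_mul, ← map_mul, ← map_mul, hcw]
    · rw [← map_pow, hζm, map_one]
    · intro t ht a ha
      rw [← map_pow, rho_fixed_iff] at ha
      have h1 := hfpf t ht _ (Additive.toMul a : N).2 ha
      apply Additive.toMul.injective
      apply Subtype.ext
      exact h1
    · intro a ha
      have h1 : ((Additive.toMul a : N) : G) ^ m = 1 := by
        have h2 : (Additive.toMul (m • a) : N) = 1 := by rw [ha]; rfl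
        rw [toMul_nsmul] at h2
        have h3 := congrArg (fun y : N => (y : G)) h2
        simpa using h3
      have h4 := htors _ (Additive.toMul a : N).2 h1
      apply Additive.toMul.injective
      apply Subtype.ext
      exact h4
    · intro a b hab'
      have h1 := rho_apply N w a
      rw [hab', rho_apply] at h1
      apply Additive.toMul.injective
      apply Subtype.ext
      have h2 : w * ((Additive.toMul b : N) : G) = w * ((Additive.toMul a : N) : G) :=
        mul_right_cancel h1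
      exact (mul_left_cancel h2).symm
  let φ : (Fin p → {x : N // c * (x : G) = (x : G) * c}) → Additive N :=
    fun a => ∑ i : Fin p, ((rho N w) ^ (i : ℕ)) (Additive.ofMul (a i).1)
  have hφ : Function.Injective φ := by
    intro a a' h
    let e : ℕ → Additive N := fun i =>
      if h : i < p then Additive.ofMul (a ⟨i, h⟩).1 - Additive.ofMul (a' ⟨i, h⟩).1 else 0
    have he : ∀ i, rho N c (e i) = e i := by
      intro i
      by_cases hi : i < p
      · simp only [e, dif_pos hi]
        rw [map_sub]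
        congr 1
        · rw [rho_fixed_iff]
          exact (a ⟨i, hi⟩).2
        · rw [rho_fixed_iff]
          exact (a' ⟨i, hi⟩).2
      · simp only [e, dif_neg hi, map_zero]
    have hsum : ∑ i ∈ Finset.range p, ((rho N w) ^ i) (e i) = 0 := by
      rw [← Fin.sum_univ_eq_sum_range (fun i => ((rho N w) ^ i) (e i)) p]
      have h1 : ∀ i : Fin p, ((rho N w) ^ (i : ℕ)) (e i) =
          ((rho N w) ^ (i : ℕ)) (Additive.ofMul (a i).1) -
            ((rho N w) ^ (i : ℕ)) (Additive.ofMul (a' i).1) := by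
        intro i
        simp only [e, dif_pos i.2, map_sub]
      simp only [h1, Finset.sum_sub_distrib]
      exact sub_eq_zero.mpr h
    have h0 := key e he hsum
    funext i
    have h1 := h0 i i.2
    simp only [e, dif_pos i.2, Fin.eta] at h1
    apply Subtype.ext
    exact Additive.ofMul.injective (sub_eq_zero.mp h1)
  calc Nat.card {x : N // c * (x : G) = (x : G) * c} ^ p
      = Nat.card (Fin p → {x : N // c * (x : G) = (x : G) * c}) := by
        rw [Nat.card_fun, Nat.card_fin]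
    _ ≤ Nat.card (Additive N) := Nat.card_le_card_of_injective φ hφ
    _ = Nat.card N := rfl

end Grp

section Basic

open scoped Pointwise

variable {G : Type*} [Group G]

theorem eq_one_of_mem_of_pow [Finite G] (p : ℕ) (N : Subgroup G) (hN : (Nat.card N).Coprime p)
    (k : G) (hk : k ∈ N) (e : ℕ) (hke : k ^ p ^ e = 1) : k = 1 := by
  have h1 : orderOf k ∣ p ^ e := orderOf_dvd_of_pow_eq_one hke
  have h2 : orderOf k ∣ Nat.card N := by
    have h3 : orderOf (⟨k, hk⟩ : N) ∣ Nat.card N := orderOf_dvd_natCard _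
    rwa [Subgroup.orderOf_mk] at h3
  have h4 : Nat.Coprime (Nat.card N) (p ^ e) := Nat.Coprime.pow_right e hN
  have h5 : orderOf k = 1 := Nat.eq_one_of_dvd_coprimes h4 h2 h1
  exact orderOf_eq_one_iff.mp h5

theorem inter_trivial [Finite G] (p : ℕ) (N P : Subgroup G) (hN : (Nat.card N).Coprime p)
    (hP : IsPGroup p P) (x : G) (hxN : x ∈ N) (hxP : x ∈ P) : x = 1 := by
  obtain ⟨e, he⟩ := hP ⟨x, hxP⟩
  have he' : x ^ p ^ e = 1 := by
    have := congrArg (fun y : P => (y : G)) he
    simpa using this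
  exact eq_one_of_mem_of_pow p N hN x hxN e he'

/-- Coprime action: if `[u, x]` lies in the `p'`-group `N` and commutes with the `p`-element
`u`, then `u` and `x` commute. -/
theorem commute_of_comm_commute [Finite G] (p : ℕ) (N : Subgroup G)
    (hN : (Nat.card N).Coprime p) (u x : G) (hu : ∃ e : ℕ, u ^ p ^ e = 1)
    (hk : u * x * u⁻¹ * x⁻¹ ∈ N)
    (hc : u * (u * x * u⁻¹ * x⁻¹) = (u * x * u⁻¹ * x⁻¹) * u) : u * x = x * u := by
  obtain ⟨k, hkdef⟩ : ∃ k, k = u * x * u⁻¹ * x⁻¹ := ⟨_, rfl⟩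
  rw [← hkdef] at hk hc
  have hcomm : Commute u k := hc
  have hconj : u * x * u⁻¹ = k * x := by rw [hkdef]; group
  have hpow : ∀ j : ℕ, u ^ j * x * (u ^ j)⁻¹ = k ^ j * x := by
    intro j
    induction j with
    | zero => simp
    | succ j ih =>
      calc u ^ (j + 1) * x * (u ^ (j + 1))⁻¹ = u * (u ^ j * x * (u ^ j)⁻¹) * u⁻¹ := by
            rw [pow_succ']; group
        _ = u * (k ^ j * x) * u⁻¹ := by rw [ih]
        _ = (u * k ^ j) * x * u⁻¹ := by group
        _ = (k ^ j * u) * x * u⁻¹ := by rw [(hcomm.pow_right j).eq]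
        _ = k ^ j * (u * x * u⁻¹) := by group
        _ = k ^ j * (k * x) := by rw [hconj]
        _ = k ^ (j + 1) * x := by rw [pow_succ]; group
  obtain ⟨e, he⟩ := hu
  have h1 := hpow (p ^ e)
  rw [he] at h1
  have h2 : k ^ p ^ e = 1 := by
    have : x = k ^ p ^ e * x := by simpa using h1
    exact (mul_eq_right.mp this.symm)
  have h3 := eq_one_of_mem_of_pow p N hN k hk e h2
  rw [h3] at hconj
  calc u * x = u * x * u⁻¹ * u := by group
    _ = x * u := by rw [hconj, one_mul]

/-- A nonabelian finite `p`-group `P` has an element `w` outside its centre all of whose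
commutators with `P` are central in `P`. -/
theorem exists_second_center [Finite G] (p : ℕ) [Fact p.Prime] (P : Subgroup G)
    (hP : IsPGroup p P) (hnab : ∃ a ∈ P, ∃ b ∈ P, a * b ≠ b * a) :
    ∃ w ∈ P, (∃ u ∈ P, w * u ≠ u * w) ∧
      ∀ u ∈ P, ∀ v ∈ P, (w * u * w⁻¹ * u⁻¹) * v = v * (w * u * w⁻¹ * u⁻¹) := by
  have hne : Subgroup.center P ≠ ⊤ := by
    intro htop
    obtain ⟨a, ha, b, hb, hab⟩ := hnab
    have h1 : (⟨a, ha⟩ : P) ∈ Subgroup.center P := by rw [htop]; trivial
    have h2 := Subgroup.mem_center_iff.mp h1 ⟨b, hb⟩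
    apply hab
    have := congrArg (fun y : P => (y : G)) h2
    simpa using this.symm
  have hnt : Nontrivial (P ⧸ Subgroup.center P) := by
    by_contra hcon
    rw [not_nontrivial_iff_subsingleton] at hcon
    apply hne
    rw [eq_top_iff]
    intro x _
    have : (QuotientGroup.mk x : P ⧸ Subgroup.center P) = 1 := Subsingleton.elim _ _
    exact (QuotientGroup.eq_one_iff x).mp this
  have hQ : IsPGroup p (P ⧸ Subgroup.center P) := hP.to_quotient _
  have hc := hQ.center_nontrivial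
  obtain ⟨⟨zb, hzb⟩, hzne⟩ := exists_ne (1 : Subgroup.center (P ⧸ Subgroup.center P))
  obtain ⟨w, rfl⟩ := QuotientGroup.mk_surjective zb
  have hwc : w ∉ Subgroup.center P := by
    intro hw
    apply hzne
    apply Subtype.ext
    exact (QuotientGroup.eq_one_iff w).mpr hw
  refine ⟨w, w.2, ?_, ?_⟩
  · by_contra hcon
    push Not at hcon
    apply hwc
    rw [Subgroup.mem_center_iff]
    intro g
    apply Subtype.ext
    exact (hcon g g.2).symm
  · intro u hu v hv
    have h1 : (w * ⟨u, hu⟩ * w⁻¹ * (⟨u, hu⟩ : P)⁻¹ : P) ∈ Subgroup.center P := by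
      rw [← QuotientGroup.eq_one_iff]
      have h2 := Subgroup.mem_center_iff.mp hzb (QuotientGroup.mk (⟨u, hu⟩ : P))
      simp only [QuotientGroup.mk_mul, QuotientGroup.mk_inv]
      rw [← h2]
      group
    have h3 := Subgroup.mem_center_iff.mp h1 ⟨v, hv⟩
    have := congrArg (fun y : P => (y : G)) h3
    simpa using this.symm

/-- Sylow's theorem in `G = N P`: every `p`-subgroup is `N`-conjugate into `P`. -/
theorem exists_conj_le [Finite G] (p : ℕ) [Fact p.Prime] (N P : Subgroup G) [N.Normal]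
    (hN : (Nat.card N).Coprime p) (hP : IsPGroup p P) (htop : N ⊔ P = ⊤)
    (Q : Subgroup G) (hQ : IsPGroup p Q) :
    ∃ y ∈ N, ∀ q ∈ Q, y⁻¹ * q * y ∈ P := by
  obtain ⟨P₁, hP₁⟩ := hP.exists_le_sylow
  have hP₁' : ∀ g ∈ P₁, g ∈ P := by
    intro g hg
    have hg' : g ∈ N ⊔ P := by rw [htop]; trivial
    obtain ⟨n, hn, u, hu, rfl⟩ := Subgroup.mem_sup_of_normal_left.mp hg'
    have h1 : n ∈ (P₁ : Subgroup G) := by
      have := (P₁ : Subgroup G).mul_mem hg ((P₁ : Subgroup G).inv_mem (hP₁ hu))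
      simpa using this
    have h2 := inter_trivial p N P₁ hN P₁.2 n hn h1
    rw [h2, one_mul]
    exact hu
  obtain ⟨S, hS⟩ := hQ.exists_le_sylow
  obtain ⟨g, hg⟩ := MulAction.exists_smul_eq G P₁ S
  have hg' : g ∈ N ⊔ P := by rw [htop]; trivial
  obtain ⟨n, hn, u, hu, rfl⟩ := Subgroup.mem_sup_of_normal_left.mp hg'
  refine ⟨n, hn, ?_⟩
  intro q hq
  have h1 : q ∈ ((n * u) • P₁ : Sylow p G) := by rw [hg]; exact hS hq
  have h2 : (n * u)⁻¹ * q * (n * u) ∈ (P₁ : Subgroup G) := by
    have h3 : q ∈ (MulAut.conj (n * u)) • (P₁ : Subgroup G) := h1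
    rw [Subgroup.mem_pointwise_smul_iff_inv_smul_mem] at h3
    simpa [MulAut.smul_def, mul_assoc] using h3
  have h4 := hP₁' _ h2
  have h5 := P.mul_mem (P.mul_mem hu h4) (P.inv_mem hu)
  have h6 : u * ((n * u)⁻¹ * q * (n * u)) * u⁻¹ = n⁻¹ * q * n := by group
  rwa [h6] at h5

end Basic

section Transport

universe u

/-- The hypotheses of the theorem, in internal form. -/
structure Hyp (p : ℕ) {G : Type u} [Group G] (N P : Subgroup G) (C D : Set G) : Prop where
  hP : IsPGroup p P
  hN : (Nat.card N).Coprime p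
  hPN : ∀ u ∈ P, ∀ x ∈ N, u * x * u⁻¹ ∈ N
  hC : Subgroup.closure C = P
  hD : Subgroup.closure D = P
  h : ∀ x ∈ N, ∀ c ∈ C, ∀ d ∈ D, ∀ g ∈ Subgroup.closure ({x * c * x⁻¹, d} : Set G),
    ∃ k : ℕ, g ^ p ^ k = 1

variable {p : ℕ} {G : Type u} [Group G] {N P : Subgroup G} {C D : Set G}

theorem Hyp.sub [Finite G] (hyp : Hyp p N P C D) (N₀ : Subgroup G) (h0 : N₀ ≤ N)
    (hinv : ∀ u ∈ P, ∀ x ∈ N₀, u * x * u⁻¹ ∈ N₀) : Hyp p N₀ P C D where
  hP := hyp.hP
  hN := Nat.Coprime.coprime_dvd_left (Subgroup.card_dvd_of_le h0) hyp.hN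
  hPN := hinv
  hC := hyp.hC
  hD := hyp.hD
  h := fun x hx c hc d hd g hg => hyp.h x (h0 hx) c hc d hd g hg

theorem Hyp.push [Finite G] (hyp : Hyp p N P C D) {G' : Type u} [Group G'] (f : G →* G') :
    Hyp p (N.map f) (P.map f) (f '' C) (f '' D) where
  hP := hyp.hP.map f
  hN := Nat.Coprime.coprime_dvd_left (Subgroup.card_map_dvd N f) hyp.hN
  hPN := by
    rintro _ ⟨u, hu, rfl⟩ _ ⟨x, hx, rfl⟩
    exact ⟨u * x * u⁻¹, hyp.hPN u hu x hx, by simp⟩
  hC := by rw [← MonoidHom.map_closure, hyp.hC]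
  hD := by rw [← MonoidHom.map_closure, hyp.hD]
  h := by
    rintro _ ⟨x, hx, rfl⟩ _ ⟨c, hc, rfl⟩ _ ⟨d, hd, rfl⟩ g hg
    have h1 : ({f x * f c * (f x)⁻¹, f d} : Set G') = f '' ({x * c * x⁻¹, d} : Set G) := by
      rw [Set.image_pair]
      simp
    rw [h1, ← MonoidHom.map_closure] at hg
    obtain ⟨g₀, hg₀, rfl⟩ := hg
    obtain ⟨k, hk⟩ := hyp.h x hx c hc d hd g₀ hg₀
    exact ⟨k, by rw [← map_pow, hk, map_one]⟩

theorem Hyp.pull (hyp : Hyp p N P C D) (M : Subgroup G) (hNM : N ≤ M) (hPM : P ≤ M) :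
    Hyp p (N.subgroupOf M) (P.subgroupOf M) (M.subtype ⁻¹' C) (M.subtype ⁻¹' D) where
  hP := hyp.hP.of_equiv (Subgroup.subgroupOfEquivOfLe hPM).symm
  hN := by
    rw [Nat.card_congr (Subgroup.subgroupOfEquivOfLe hNM).toEquiv]
    exact hyp.hN
  hPN := by
    intro u hu x hx
    rw [Subgroup.mem_subgroupOf] at hu hx ⊢
    simpa using hyp.hPN _ hu _ hx
  hC := by
    apply Subgroup.map_injective M.subtype_injective
    rw [MonoidHom.map_closure, Subgroup.subgroupOf_map_subtype, Set.image_preimage_eq_inter_range,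
      Subgroup.coe_subtype, Subtype.range_coe]
    have h1 : C ⊆ M := fun c hc => hPM (hyp.hC ▸ Subgroup.subset_closure hc)
    rw [Set.inter_eq_left.mpr h1, hyp.hC, inf_eq_left.mpr hPM]
  hD := by
    apply Subgroup.map_injective M.subtype_injective
    rw [MonoidHom.map_closure, Subgroup.subgroupOf_map_subtype, Set.image_preimage_eq_inter_range,
      Subgroup.coe_subtype, Subtype.range_coe]
    have h1 : D ⊆ M := fun c hc => hPM (hyp.hD ▸ Subgroup.subset_closure hc)
    rw [Set.inter_eq_left.mpr h1, hyp.hD, inf_eq_left.mpr hPM]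
  h := by
    intro x hx c hc d hd g hg
    rw [Subgroup.mem_subgroupOf] at hx
    have h1 : (g : G) ∈ Subgroup.closure ({(x : G) * (c : G) * (x : G)⁻¹, (d : G)} : Set G) := by
      have h2 : (g : G) ∈ (Subgroup.closure ({x * c * x⁻¹, d} : Set M)).map M.subtype :=
        ⟨g, hg, rfl⟩
      rw [MonoidHom.map_closure, Set.image_pair] at h2
      simpa using h2
    obtain ⟨k, hk⟩ := hyp.h _ hx _ hc _ hd _ h1
    refine ⟨k, ?_⟩
    apply Subtype.ext
    simpa using hk

end Transport

section Main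

universe u

theorem card_map_lt {G : Type u} [Group G] [Finite G] (H K : Subgroup G) [K.Normal] (k : G)
    (hkK : k ∈ K) (hkH : k ∈ H) (hk1 : k ≠ 1) :
    Nat.card (H.map (QuotientGroup.mk' K)) < Nat.card H := by
  classical
  let _ : Fintype H := Fintype.ofFinite _
  let _ : Fintype (H.map (QuotientGroup.mk' K)) := Fintype.ofFinite _
  rw [Nat.card_eq_fintype_card, Nat.card_eq_fintype_card]
  apply Fintype.card_lt_of_surjective_not_injective ((QuotientGroup.mk' K).subgroupMap H)
    ((QuotientGroup.mk' K).subgroupMap_surjective H)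
  intro hinj
  have h1 : (QuotientGroup.mk' K).subgroupMap H ⟨k, hkH⟩ = (QuotientGroup.mk' K).subgroupMap H 1 := by
    apply Subtype.ext
    simp only [map_one]
    exact (QuotientGroup.eq_one_iff k).mpr hkK
  have h2 := hinj h1
  apply hk1
  exact congrArg Subtype.val h2

theorem numeric_aux (q a b p : ℕ) (hq : 2 ≤ q) (hp : 3 ≤ p) (h1 : q ≤ a * b) (ha : a ^ p ≤ q)
    (hb : b ^ p ≤ q) : False := by
  have h2 : q ^ p ≤ q * q := by
    calc q ^ p ≤ (a * b) ^ p := Nat.pow_le_pow_left h1 p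
      _ = a ^ p * b ^ p := mul_pow a b p
      _ ≤ q * q := Nat.mul_le_mul ha hb
  have h3 : q ^ 2 < q ^ p := Nat.pow_lt_pow_right (by omega) (by omega)
  rw [pow_two] at h3
  omega

theorem step_top (p : ℕ) [Fact p.Prime] (hp3 : 3 ≤ p) (n : ℕ)
    (ih : ∀ m < n, ∀ (G : Type u) [Group G] [Finite G] (N P : Subgroup G) (C D : Set G),
      Hyp p N P C D → Nat.card N + Nat.card P = m → ∀ u ∈ P, ∀ x ∈ N, u * x = x * u)
    (G : Type u) [Group G] [Finite G] (N P : Subgroup G) (C D : Set G) (hyp : Hyp p N P C D)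
    (htop : N ⊔ P = ⊤) (hn : Nat.card N + Nat.card P = n) :
    ∀ u ∈ P, ∀ x ∈ N, u * x = x * u := by
  by_contra hcon
  push Not at hcon
  obtain ⟨u₀, hu₀, x₀, hx₀, hne₀⟩ := hcon
  have hp : p.Prime := Fact.out
  have hNnorm : N.Normal := by
    rw [← Subgroup.normalizer_eq_top_iff, eq_top_iff, ← htop, sup_le_iff]
    exact ⟨Subgroup.le_normalizer, Subgroup.le_normalizer_iff.mpr hyp.hPN⟩
  have hPpow : ∀ u ∈ P, ∃ e : ℕ, u ^ p ^ e = 1 := by
    intro u hu
    obtain ⟨e, he⟩ := hyp.hP ⟨u, hu⟩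
    exact ⟨e, by simpa using congrArg (fun y : P => (y : G)) he⟩
  -- (S)
  have hS : ∀ N₀ : Subgroup G, N₀ ≤ N → N₀ ≠ N → (∀ u ∈ P, ∀ x ∈ N₀, u * x * u⁻¹ ∈ N₀) →
      ∀ u ∈ P, ∀ x ∈ N₀, u * x = x * u := by
    intro N₀ h0 hne hinv
    have hlt : Nat.card N₀ < Nat.card N := by
      by_contra hge
      push Not at hge
      exact hne (Subgroup.eq_of_le_of_card_ge h0 hge)
    exact ih (Nat.card N₀ + Nat.card P) (by omega) G N₀ P C D (hyp.sub N₀ h0 hinv) rfl
  -- (Q)
  have hQ : ∀ K : Subgroup G, K.Normal →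
      ((∃ k ∈ K, k ∈ N ∧ k ≠ 1) ∨ (∃ k ∈ K, k ∈ P ∧ k ≠ 1)) →
      ∀ u ∈ P, ∀ x ∈ N, u * x * u⁻¹ * x⁻¹ ∈ K := by
    intro K hK hex u hu x hx
    have hyp' := hyp.push (QuotientGroup.mk' K)
    have hle1 : Nat.card (N.map (QuotientGroup.mk' K)) ≤ Nat.card N :=
      Nat.le_of_dvd Nat.card_pos (Subgroup.card_map_dvd N _)
    have hle2 : Nat.card (P.map (QuotientGroup.mk' K)) ≤ Nat.card P :=
      Nat.le_of_dvd Nat.card_pos (Subgroup.card_map_dvd P _)
    have hlt : Nat.card (N.map (QuotientGroup.mk' K)) + Nat.card (P.map (QuotientGroup.mk' K))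
        < n := by
      rcases hex with ⟨k, hkK, hkN, hk1⟩ | ⟨k, hkK, hkP, hk1⟩
      · have := card_map_lt N K k hkK hkN hk1
        omega
      · have := card_map_lt P K k hkK hkP hk1
        omega
    have h1 := ih _ hlt (G ⧸ K) _ _ _ _ hyp' rfl (QuotientGroup.mk' K u) ⟨u, hu, rfl⟩
      (QuotientGroup.mk' K x) ⟨x, hx, rfl⟩
    rw [← QuotientGroup.eq_one_iff]
    have h2 : ((u * x * u⁻¹ * x⁻¹ : G) : G ⧸ K) =
        QuotientGroup.mk' K u * QuotientGroup.mk' K x * (QuotientGroup.mk' K u)⁻¹ *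
          (QuotientGroup.mk' K x)⁻¹ := by
      simp
    rw [h2, h1]
    group
  -- normal subgroups of G inside N
  have hmin : ∀ K : Subgroup G, K.Normal → K ≤ N → K = ⊥ ∨ K = N := by
    intro K hK hKN
    by_contra hcon
    push Not at hcon
    obtain ⟨hK1, hK2⟩ := hcon
    obtain ⟨k, hkK, hk1⟩ : ∃ k ∈ K, k ≠ 1 := by
      by_contra h
      push Not at h
      exact hK1 ((Subgroup.eq_bot_iff_forall K).mpr h)
    have h1 := hQ K hK (Or.inl ⟨k, hkK, hKN hkK, hk1⟩)
    have h2 := hS K hKN hK2 (fun u _ x hx => hK.conj_mem x hx u)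
    apply hne₀
    apply commute_of_comm_commute p N hyp.hN u₀ x₀ (hPpow u₀ hu₀) (hKN (h1 u₀ hu₀ x₀ hx₀))
    exact h2 u₀ hu₀ _ (h1 u₀ hu₀ x₀ hx₀)
  -- N is an r-group
  have hcopPN : (Nat.card P).Coprime (Nat.card N) := by
    obtain ⟨k, hk⟩ := IsPGroup.iff_card.mp hyp.hP
    rw [hk]
    exact (Nat.Coprime.pow_right k hyp.hN).symm
  have hPsolv : Group.IsSolvable P := by
    have := hyp.hP.isNilpotent
    infer_instance
  have hr : ∃ r : ℕ, r.Prime ∧ IsPGroup r N := by
    by_contra hno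
    push Not at hno
    have hall : ∀ r : ℕ, r.Prime → r ^ (Nat.card N).factorization r ∣
        Nat.card (N ⊓ Subgroup.centralizer (P : Set G) : Subgroup G) := by
      intro r hr
      have : Fact r.Prime := ⟨hr⟩
      obtain ⟨R, hR⟩ := Cfsg.Agent.S0023.result P N (Subgroup.le_normalizer_iff.mpr hyp.hPN)
        hcopPN (Or.inl hPsolv) r
      have hRN : (R : Subgroup N).map N.subtype ≤ N := Subgroup.map_subtype_le _
      have hRne : (R : Subgroup N).map N.subtype ≠ N := by
        intro heq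
        apply hno r hr
        have htopR : (R : Subgroup N) = ⊤ := by
          apply Subgroup.map_injective N.subtype_injective
          rw [heq, ← MonoidHom.range_eq_map, Subgroup.range_subtype]
        have hR2 := R.isPGroup'
        rw [htopR] at hR2
        exact hR2.of_equiv Subgroup.topEquiv
      have hcent := hS _ hRN hRne (Subgroup.le_normalizer_iff.mp hR)
      have hle : (R : Subgroup N).map N.subtype ≤ N ⊓ Subgroup.centralizer (P : Set G) := by
        intro x hx
        refine Subgroup.mem_inf.mpr ⟨hRN hx, ?_⟩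
        rw [Subgroup.mem_centralizer_iff]
        intro u hu
        exact hcent u hu x hx
      have hcard : Nat.card ((R : Subgroup N).map N.subtype) =
          r ^ (Nat.card N).factorization r := by
        rw [Subgroup.card_map_of_injective N.subtype_injective]
        exact R.card_eq_multiplicity
      rw [← hcard]
      exact Subgroup.card_dvd_of_le hle
    have hdvd : Nat.card N ∣ Nat.card (N ⊓ Subgroup.centralizer (P : Set G) : Subgroup G) := by
      rw [← Nat.factorization_prime_le_iff_dvd Nat.card_pos.ne' Nat.card_pos.ne']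
      intro r hr
      exact (hr.pow_dvd_iff_le_factorization Nat.card_pos.ne').mp (hall r hr)
    have heq : (N ⊓ Subgroup.centralizer (P : Set G) : Subgroup G) = N :=
      Subgroup.eq_of_le_of_card_ge inf_le_left (Nat.le_of_dvd Nat.card_pos hdvd)
    have hx₀' : x₀ ∈ N ⊓ Subgroup.centralizer (P : Set G) := by rw [heq]; exact hx₀
    exact hne₀ (Subgroup.mem_centralizer_iff.mp hx₀'.2 u₀ hu₀)
  obtain ⟨r, hr, hNr⟩ := hr
  have : Fact r.Prime := ⟨hr⟩
  have hx₀1 : x₀ ≠ 1 := by
    intro h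
    apply hne₀
    rw [h]
    simp
  -- N is abelian
  have hab : ∀ a ∈ N, ∀ b ∈ N, a * b = b * a := by
    have hsolvN : Group.IsSolvable N := by
      have := hNr.isNilpotent
      infer_instance
    have hcomm : ⁅N, N⁆ = ⊥ := by
      rcases hmin ⁅N, N⁆ inferInstance N.commutator_le_self with h | h
      · exact h
      · exfalso
        have : Nontrivial N := ⟨⟨⟨x₀, hx₀⟩, 1, fun h => hx₀1 (congrArg Subtype.val h)⟩⟩
        have hlt := Group.IsSolvable.commutator_lt_top_of_nontrivial N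
        rw [← Subgroup.map_subtype_commutator] at h
        have : commutator N = ⊤ := by
          apply Subgroup.map_injective N.subtype_injective
          rw [h, ← MonoidHom.range_eq_map, Subgroup.range_subtype]
        exact absurd this hlt.ne
    intro a ha b hb
    have := (Subgroup.commutator_eq_bot_iff_le_centralizer.mp hcomm) ha
    exact (Subgroup.mem_centralizer_iff.mp this b hb).symm
  -- P acts irreducibly
  have hirr : ∀ K : Subgroup G, K ≤ N → (∀ u ∈ P, ∀ x ∈ K, u * x * u⁻¹ ∈ K) →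
      K = ⊥ ∨ K = N := by
    intro K hKN hinv
    apply hmin K ?_ hKN
    rw [← Subgroup.normalizer_eq_top_iff, eq_top_iff, ← htop, sup_le_iff]
    constructor
    · rw [Subgroup.le_normalizer_iff]
      intro n hn k hk
      have : n * k * n⁻¹ = k := by rw [hab n hn k (hKN hk)]; group
      rw [this]
      exact hk
    · exact Subgroup.le_normalizer_iff.mpr hinv
  -- P acts faithfully
  have hfaith : ∀ z ∈ P, (∀ x ∈ N, z * x = x * z) → z = 1 := by
    intro z hz hzN
    by_contra hz1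
    obtain ⟨K, hKdef⟩ : ∃ K : Subgroup G, K = P ⊓ Subgroup.centralizer (N : Set G) := ⟨_, rfl⟩
    have hKnorm : K.Normal := by
      rw [← Subgroup.normalizer_eq_top_iff, eq_top_iff, ← htop, sup_le_iff]
      constructor
      · rw [Subgroup.le_normalizer_iff]
        intro n hn k hk
        rw [hKdef] at hk
        have : n * k * n⁻¹ = k := by
          have := Subgroup.mem_centralizer_iff.mp hk.2 n hn
          rw [this]
          group
        rw [this, hKdef]
        exact hk
      · rw [Subgroup.le_normalizer_iff]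
        intro u hu k hk
        rw [hKdef] at hk ⊢
        refine Subgroup.mem_inf.mpr ⟨P.mul_mem (P.mul_mem hu hk.1) (P.inv_mem hu), ?_⟩
        rw [Subgroup.mem_centralizer_iff]
        intro x hx
        have h1 : u⁻¹ * x * u ∈ N := by simpa using hyp.hPN u⁻¹ (P.inv_mem hu) x hx
        have h2 := Subgroup.mem_centralizer_iff.mp hk.2 _ h1
        calc x * (u * k * u⁻¹) = u * ((u⁻¹ * x * u) * k) * u⁻¹ := by group
          _ = u * (k * (u⁻¹ * x * u)) * u⁻¹ := by rw [h2]
          _ = u * k * u⁻¹ * x := by group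
    have hzK : z ∈ K := by
      rw [hKdef]
      exact ⟨hz, Subgroup.mem_centralizer_iff.mpr (fun x hx => (hzN x hx).symm)⟩
    have h1 := hQ K hKnorm (Or.inr ⟨z, hzK, hz, hz1⟩) u₀ hu₀ x₀ hx₀
    rw [hKdef] at h1
    have h2 : u₀ * x₀ * u₀⁻¹ * x₀⁻¹ ∈ N := N.mul_mem (hyp.hPN u₀ hu₀ x₀ hx₀) (N.inv_mem hx₀)
    have h3 := inter_trivial p N P hyp.hN hyp.hP _ h2 h1.1
    apply hne₀
    calc u₀ * x₀ = (u₀ * x₀ * u₀⁻¹ * x₀⁻¹) * x₀ * u₀ := by group
      _ = x₀ * u₀ := by rw [h3, one_mul]
  -- nontrivial central elements of P act without fixed points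
  have hfpf : ∀ z ∈ P, (∀ u ∈ P, z * u = u * z) → z ≠ 1 → ∀ x ∈ N, z * x = x * z → x = 1 := by
    intro z hz hzc hz1 x hx hzx
    obtain ⟨K, hKdef⟩ : ∃ K : Subgroup G, K = N ⊓ Subgroup.centralizer ({z} : Set G) := ⟨_, rfl⟩
    have hK : K = ⊥ ∨ K = N := by
      apply hirr K (by rw [hKdef]; exact inf_le_left)
      intro u hu k hk
      rw [hKdef] at hk ⊢
      refine Subgroup.mem_inf.mpr ⟨hyp.hPN u hu k hk.1, ?_⟩
      rw [Subgroup.mem_centralizer_singleton_iff]
      have h1 := Subgroup.mem_centralizer_singleton_iff.mp hk.2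
      have h2 := hzc u hu
      have h3 : z * u⁻¹ = u⁻¹ * z := by
        calc z * u⁻¹ = u⁻¹ * (u * z) * u⁻¹ := by group
          _ = u⁻¹ * (z * u) * u⁻¹ := by rw [h2]
          _ = u⁻¹ * z := by group
      calc u * k * u⁻¹ * z = u * k * (u⁻¹ * z) := by group
        _ = u * k * (z * u⁻¹) := by rw [h3]
        _ = u * (k * z) * u⁻¹ := by group
        _ = u * (z * k) * u⁻¹ := by rw [h1]
        _ = (u * z) * k * u⁻¹ := by group
        _ = (z * u) * k * u⁻¹ := by rw [h2]
        _ = z * (u * k * u⁻¹) := by group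
    rcases hK with h | h
    · have hxK : x ∈ K := by
        rw [hKdef]
        exact ⟨hx, Subgroup.mem_centralizer_singleton_iff.mpr hzx.symm⟩
      rw [h] at hxK
      exact Subgroup.mem_bot.mp hxK
    · exfalso
      apply hz1
      apply hfaith z hz
      intro y hy
      have hyK : y ∈ K := by rw [h]; exact hy
      rw [hKdef] at hyK
      exact (Subgroup.mem_centralizer_singleton_iff.mp hyK.2).symm
  -- decomposition
  have hdec : ∀ c ∈ C, ∀ d ∈ D, ∀ x ∈ N, ∃ y ∈ N, ∃ z ∈ N,
      y * d = d * y ∧ z * c = c * z ∧ x = y * z := by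
    intro c hc d hd x hx
    have hcP : c ∈ P := hyp.hC ▸ Subgroup.subset_closure hc
    have hdP : d ∈ P := hyp.hD ▸ Subgroup.subset_closure hd
    have hQp : IsPGroup p (Subgroup.closure ({x * c * x⁻¹, d} : Set G)) := by
      intro g
      obtain ⟨k, hk⟩ := hyp.h x hx c hc d hd g g.2
      exact ⟨k, Subtype.ext (by simpa using hk)⟩
    obtain ⟨y, hy, hyQ⟩ := exists_conj_le p N P hyp.hN hyp.hP htop _ hQp
    have h1 := hyQ (x * c * x⁻¹) (Subgroup.subset_closure (by simp))
    have h2 := hyQ d (Subgroup.subset_closure (by simp))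
    refine ⟨y, hy, y⁻¹ * x, N.mul_mem (N.inv_mem hy) hx, ?_, ?_, by group⟩
    · have h3 : y⁻¹ * d * y * d⁻¹ ∈ P := P.mul_mem h2 (P.inv_mem hdP)
      have h4 : y⁻¹ * d * y * d⁻¹ ∈ N := by
        have := N.mul_mem (N.inv_mem hy) (hyp.hPN d hdP y hy)
        simpa [mul_assoc] using this
      have h5 := inter_trivial p N P hyp.hN hyp.hP _ h4 h3
      symm
      calc d * y = y * (y⁻¹ * d * y * d⁻¹) * d := by group
        _ = y * d := by rw [h5, mul_one]
    · have hz : y⁻¹ * x ∈ N := N.mul_mem (N.inv_mem hy) hx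
      have h3 : (y⁻¹ * x) * c * (y⁻¹ * x)⁻¹ * c⁻¹ ∈ P := by
        have := P.mul_mem h1 (P.inv_mem hcP)
        have e : y⁻¹ * (x * c * x⁻¹) * y * c⁻¹ = (y⁻¹ * x) * c * (y⁻¹ * x)⁻¹ * c⁻¹ := by group
        rwa [e] at this
      have h4 : (y⁻¹ * x) * c * (y⁻¹ * x)⁻¹ * c⁻¹ ∈ N := by
        have := N.mul_mem hz (hyp.hPN c hcP _ (N.inv_mem hz))
        simpa [mul_assoc] using this
      have h5 := inter_trivial p N P hyp.hN hyp.hP _ h4 h3
      calc (y⁻¹ * x) * c = ((y⁻¹ * x) * c * (y⁻¹ * x)⁻¹ * c⁻¹) * c * (y⁻¹ * x) := by group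
        _ = c * (y⁻¹ * x) := by rw [h5, one_mul]
  have hcount : ∀ c ∈ C, ∀ d ∈ D, Nat.card N ≤
      Nat.card {x : N // d * (x : G) = (x : G) * d} *
        Nat.card {x : N // c * (x : G) = (x : G) * c} := by
    intro c hc d hd
    rw [← Nat.card_prod]
    apply Nat.card_le_card_of_surjective
      (fun q : {x : N // d * (x : G) = (x : G) * d} × {x : N // c * (x : G) = (x : G) * c} =>
        q.1.1 * q.2.1)
    intro x
    obtain ⟨y, hy, z, hz, hyd, hzc, hxyz⟩ := hdec c hc d hd x x.2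
    exact ⟨(⟨⟨y, hy⟩, hyd.symm⟩, ⟨⟨z, hz⟩, hzc.symm⟩), Subtype.ext hxyz.symm⟩
  -- good generators
  have hgood : ∀ S : Set G, Subgroup.closure S = P →
      ∃ c ∈ S, Nat.card {x : N // c * (x : G) = (x : G) * c} ^ p ≤ Nat.card N := by
    intro S hSP
    have hSsub : ∀ s ∈ S, s ∈ P := fun s hs => hSP ▸ Subgroup.subset_closure hs
    by_cases hPab : ∀ a ∈ P, ∀ b ∈ P, a * b = b * a
    · obtain ⟨c, hcS, hc1⟩ : ∃ c ∈ S, c ≠ 1 := by
        by_contra h
        push Not at h
        have hbot : Subgroup.closure S = ⊥ := by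
          rw [Subgroup.closure_eq_bot_iff]
          intro s hs
          exact h s hs
        rw [hSP] at hbot
        have : u₀ = 1 := by
          have h' : u₀ ∈ (⊥ : Subgroup G) := hbot ▸ hu₀
          exact Subgroup.mem_bot.mp h'
        apply hne₀
        rw [this]
        simp
      refine ⟨c, hcS, ?_⟩
      have hone : Nat.card {x : N // c * (x : G) = (x : G) * c} = 1 := by
        rw [Nat.card_eq_one_iff_unique]
        constructor
        · constructor
          intro a b
          apply Subtype.ext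
          apply Subtype.ext
          rw [hfpf c (hSsub c hcS) (hPab c (hSsub c hcS)) hc1 _ a.1.2 a.2,
            hfpf c (hSsub c hcS) (hPab c (hSsub c hcS)) hc1 _ b.1.2 b.2]
        · exact ⟨⟨1, by simp⟩⟩
      rw [hone, one_pow]
      exact Nat.card_pos
    · push Not at hPab
      obtain ⟨w, hwP, ⟨u₁, hu₁, hwu₁⟩, hwc⟩ := exists_second_center p P hyp.hP hPab
      obtain ⟨c, hcS, hcw⟩ : ∃ c ∈ S, c * w ≠ w * c := by
        by_contra h
        push Not at h
        have hle : Subgroup.closure S ≤ Subgroup.centralizer ({w} : Set G) := by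
          rw [Subgroup.closure_le]
          intro s hs
          exact Subgroup.mem_centralizer_singleton_iff.mpr (h s hs)
        rw [hSP] at hle
        exact hwu₁ (Subgroup.mem_centralizer_singleton_iff.mp (hle hu₁)).symm
      refine ⟨c, hcS, ?_⟩
      have hcP := hSsub c hcS
      obtain ⟨ζ, hζdef⟩ : ∃ ζ : G, ζ = c * w * c⁻¹ * w⁻¹ := ⟨_, rfl⟩
      have hζP : ζ ∈ P := by
        rw [hζdef]
        exact P.mul_mem (P.mul_mem (P.mul_mem hcP hwP) (P.inv_mem hcP)) (P.inv_mem hwP)
      have hζ1 : ζ ≠ 1 := by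
        intro h
        apply hcw
        calc c * w = (c * w * c⁻¹ * w⁻¹) * w * c := by group
          _ = w * c := by rw [← hζdef, h, one_mul]
      have hζc : ∀ v ∈ P, ζ * v = v * ζ := by
        intro v hv
        have h1 := hwc c hcP v hv
        have h2 : ζ = (w * c * w⁻¹ * c⁻¹)⁻¹ := by rw [hζdef]; group
        rw [h2]
        have h3 : Commute (w * c * w⁻¹ * c⁻¹) v := h1
        exact h3.inv_left.eq
      obtain ⟨e, he⟩ := hPpow ζ hζP
      obtain ⟨k, hk, hkm⟩ := (Nat.dvd_prime_pow hp).mp (orderOf_dvd_of_pow_eq_one he)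
      have hk0 : k ≠ 0 := by
        intro h0
        rw [h0, pow_zero, orderOf_eq_one_iff] at hkm
        exact hζ1 hkm
      have hpm : p ∣ orderOf ζ := by
        rw [hkm]
        exact dvd_pow_self p hk0
      apply card_centralizer_pow_le p N hab c w ζ (hζc w hwP) (hζc c hcP) ?_ (orderOf ζ)
        (orderOf_pos ζ) hpm (pow_orderOf_eq_one ζ)
      · intro t ht x hx hx'
        refine hfpf (ζ ^ t) (P.pow_mem hζP t) ?_ ?_ x hx hx'
        · intro v hv
          have h3 : Commute ζ v := hζc v hv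
          exact (h3.pow_left t).eq
        · intro h1
          exact ht (hpm.trans (orderOf_dvd_of_pow_eq_one h1))
      · intro x hx hxm
        rw [hkm] at hxm
        exact eq_one_of_mem_of_pow p N hyp.hN x hx k hxm
      · rw [hζdef]
        group
  obtain ⟨c, hcC, hcg⟩ := hgood C hyp.hC
  obtain ⟨d, hdD, hdg⟩ := hgood D hyp.hD
  have hN2 : 2 ≤ Nat.card N := by
    have : Nontrivial N := ⟨⟨⟨x₀, hx₀⟩, 1, fun h => hx₀1 (congrArg Subtype.val h)⟩⟩
    exact Finite.one_lt_card
  exact numeric_aux (Nat.card N) _ _ p hN2 hp3 (hcount c hcC d hdD) hdg hcg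

end Main

section Final

universe u

theorem main (p : ℕ) [Fact p.Prime] (hp3 : 3 ≤ p) : ∀ (n : ℕ) (G : Type u) [Group G] [Finite G]
    (N P : Subgroup G) (C D : Set G), Hyp p N P C D → Nat.card N + Nat.card P = n →
    ∀ u ∈ P, ∀ x ∈ N, u * x = x * u := by
  intro n
  induction n using Nat.strong_induction_on with
  | _ n ih =>
    intro G _ _ N P C D hyp hn u hu x hx
    have hNM : N ≤ N ⊔ P := le_sup_left
    have hPM : P ≤ N ⊔ P := le_sup_right
    have hyp' := hyp.pull (N ⊔ P) hNM hPM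
    have htop : N.subgroupOf (N ⊔ P) ⊔ P.subgroupOf (N ⊔ P) = ⊤ := by
      rw [← Subgroup.subgroupOf_sup hNM hPM]
      exact Subgroup.subgroupOf_self _
    have hcard : Nat.card (N.subgroupOf (N ⊔ P)) + Nat.card (P.subgroupOf (N ⊔ P)) = n := by
      rw [Nat.card_congr (Subgroup.subgroupOfEquivOfLe hNM).toEquiv,
        Nat.card_congr (Subgroup.subgroupOfEquivOfLe hPM).toEquiv]
      exact hn
    have h1 := step_top p hp3 n ih (N ⊔ P : Subgroup G) _ _ _ _ hyp' htop hcard
      ⟨u, hPM hu⟩ (Subgroup.mem_subgroupOf.mpr hu) ⟨x, hNM hx⟩ (Subgroup.mem_subgroupOf.mpr hx)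
    exact congrArg Subtype.val h1

end Final

/-- Let p ≥ 3 be prime and G a finite group with a Sylow p-subgroup P and a normal p-complement N (N normal, of order prime to p, with NP = G). Suppose P is generated by a subset C and also by a subset D, and that ⟨x c x⁻¹, d⟩ is a p-group for all x ∈ N, c ∈ C, d ∈ D. Then P centralizes N, so that G = N × P. -/
theorem result {G : Type*} [Group G] [Finite G] (p : ℕ) [Fact p.Prime] (hp3 : 3 ≤ p) (P : Sylow p G)
    (N : Subgroup G) [N.Normal] (hN : (Nat.card N).Coprime p) (hNP : N ⊔ (P : Subgroup G) = ⊤)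
    (C D : Set G) (hC : Subgroup.closure C = (P : Subgroup G)) (hD : Subgroup.closure D = (P : Subgroup G))
    (h : ∀ x ∈ N, ∀ c ∈ C, ∀ d ∈ D, IsPGroup p ↥(Subgroup.closure ({x * c * x⁻¹, d} : Set G))) :
    ⁅(P : Subgroup G), N⁆ = ⊥ := by
  have hyp : Hyp p N (P : Subgroup G) C D :=
    { hP := P.isPGroup'
      hN := hN
      hPN := fun u _ x hx => ‹N.Normal›.conj_mem x hx u
      hC := hC
      hD := hD
      h := by
        intro x hx c hc d hd g hg
        obtain ⟨k, hk⟩ := h x hx c hc d hd ⟨g, hg⟩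
        exact ⟨k, by simpa using congrArg Subtype.val hk⟩ }
  have hmain := main p hp3 _ G N P C D hyp rfl
  rw [Subgroup.commutator_eq_bot_iff_le_centralizer]
  intro u hu
  rw [Subgroup.mem_centralizer_iff]
  intro x hx
  exact (hmain u hu x hx).symm

end Cfsg.Agent.S2277
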