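import Cfsg.Statements.S2299
import Cfsg.Agent.Lib.Helper38.GL2Res

set_option autoImplicit false
open Cfsg

namespace Cfsg.Agent.S2299

open Cfsg.Agent.Lib.CT Cfsg.Agent.Lib.Helper38

/-- Over a finite field F with q elements, q odd, every irreducible complex character of SL₂ has degree 1, q, q + 1, q − 1, (q + 1)/2 or (q − 1)/2; and when q ≥ 5 (so that these six numbers are distinct) there are exactly one irreducible character of degree 1, one of degree q, (q − 3)/2 of degree q + 1, (q − 1)/2 of degree q − 1, two of degree (q + 1)/2 and two of degree (q − 1)/2. -/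
theorem result {F : Type*} [Field F] [Fintype F] (hodd : Odd (Fintype.card F)) :
    (∀ χ : Matrix.SpecialLinearGroup (Fin 2) F → ℂ, Cfsg.IsIrrCharacter (Matrix.SpecialLinearGroup (Fin 2) F) χ →
      χ 1 = 1 ∨ χ 1 = (Fintype.card F : ℂ) ∨ χ 1 = (Fintype.card F : ℂ) + 1 ∨ χ 1 = (Fintype.card F : ℂ) - 1 ∨
        χ 1 = (((Fintype.card F + 1) / 2 : ℕ) : ℂ) ∨ χ 1 = (((Fintype.card F - 1) / 2 : ℕ) : ℂ)) ∧
    (5 ≤ Fintype.card F →
      Nat.card {χ : Cfsg.IrrCharacter (Matrix.SpecialLinearGroup (Fin 2) F) // (χ : Matrix.SpecialLinearGroup (Fin 2) F → ℂ) 1 = 1} = 1 ∧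
      Nat.card {χ : Cfsg.IrrCharacter (Matrix.SpecialLinearGroup (Fin 2) F) // (χ : Matrix.SpecialLinearGroup (Fin 2) F → ℂ) 1 = (Fintype.card F : ℂ)} = 1 ∧
      Nat.card {χ : Cfsg.IrrCharacter (Matrix.SpecialLinearGroup (Fin 2) F) // (χ : Matrix.SpecialLinearGroup (Fin 2) F → ℂ) 1 = (Fintype.card F : ℂ) + 1} = (Fintype.card F - 3) / 2 ∧
      Nat.card {χ : Cfsg.IrrCharacter (Matrix.SpecialLinearGroup (Fin 2) F) // (χ : Matrix.SpecialLinearGroup (Fin 2) F → ℂ) 1 = (Fintype.card F : ℂ) - 1} = (Fintype.card F - 1) / 2 ∧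
      Nat.card {χ : Cfsg.IrrCharacter (Matrix.SpecialLinearGroup (Fin 2) F) // (χ : Matrix.SpecialLinearGroup (Fin 2) F → ℂ) 1 = (((Fintype.card F + 1) / 2 : ℕ) : ℂ)} = 2 ∧
      Nat.card {χ : Cfsg.IrrCharacter (Matrix.SpecialLinearGroup (Fin 2) F) // (χ : Matrix.SpecialLinearGroup (Fin 2) F → ℂ) 1 = (((Fintype.card F - 1) / 2 : ℕ) : ℂ)} = 2) := by
  classical
  obtain ⟨A₁, A₂, A₃, A₄, A₅, A₆, hcov, hd₁, hd₂, hd₃, hd₄, hd₅, hd₆, hc₁, hc₂, hc₃, hc₄, hc₅,
    hc₆⟩ := GL2Res.deg_classification (F := F) (Nat.odd_iff.mp hodd)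
  have hq : 2 ≤ Fintype.card F := Fintype.one_lt_card
  have hq1 : Fintype.card F % 2 = 1 := Nat.odd_iff.mp hodd
  obtain ⟨E, hE⟩ : ∃ E : IrrCharacter (GL2Res.SN F) ≃
      IrrCharacter (Matrix.SpecialLinearGroup (Fin 2) F),
      ∀ ψ, (E ψ : Matrix.SpecialLinearGroup (Fin 2) F → ℂ) 1 = (ψ : GL2Res.SN F → ℂ) 1 :=
    ⟨GL2Res.irrCongr (GL2Res.slEquiv (F := F)), fun ψ => GL2Res.irrCongr_apply_one _ ψ⟩
  have hval : ∀ ψ : IrrCharacter (GL2Res.SN F),
      (ψ : GL2Res.SN F → ℂ) 1 = (charDegree (ψ : GL2Res.SN F → ℂ) : ℂ) :=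
    fun ψ => (Wedderburn.char_natCast_charDegree (Wedderburn.isCharacter_of_irr ψ.2)).symm
  constructor
  · intro χ hχ
    obtain ⟨ψ, hψ⟩ := E.surjective ⟨χ, hχ⟩
    have h1 : χ 1 = (charDegree (ψ : GL2Res.SN F → ℂ) : ℂ) := by
      rw [← hval ψ, ← hE ψ, hψ]
    rcases hcov ψ with h | h | h | h | h | h
    · left
      rw [h1, hd₁ _ h]
      simp
    · right; left
      rw [h1, hd₂ _ h]
    · right; right; left
      rw [h1, hd₃ _ h]
      push_cast
      rfl
    · right; right; right; right; left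
      rw [h1]
      have h2 := hd₄ _ h
      have h3 : charDegree (ψ : GL2Res.SN F → ℂ) = (Fintype.card F + 1) / 2 := by omega
      rw [h3]
    · right; right; right; left
      rw [h1, hd₅ _ h, Nat.cast_sub (by omega)]
      simp
    · right; right; right; right; right
      rw [h1]
      have h2 := hd₆ _ h
      have h3 : charDegree (ψ : GL2Res.SN F → ℂ) = (Fintype.card F - 1) / 2 := by omega
      rw [h3]
  · intro h5
    have := Wedderburn.finite_irrCharacter (GL2Res.SN F)
    let _ : Fintype (IrrCharacter (GL2Res.SN F)) := Fintype.ofFinite _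
    have key : ∀ (a : ℕ) (z : ℂ) (_ : z = (a : ℂ))
        (K : Finset (IrrCharacter (GL2Res.SN F)))
        (_ : ∀ χ ∈ K, charDegree (χ : GL2Res.SN F → ℂ) = a)
        (_ : ∀ χ, χ ∉ K → charDegree (χ : GL2Res.SN F → ℂ) ≠ a),
        Nat.card {χ : IrrCharacter (Matrix.SpecialLinearGroup (Fin 2) F) //
          (χ : Matrix.SpecialLinearGroup (Fin 2) F → ℂ) 1 = z} = K.card := by
      intro a z hz K hK hK'
      rw [← Nat.card_congr (E.subtypeEquiv
        (p := fun ψ : IrrCharacter (GL2Res.SN F) => (ψ : GL2Res.SN F → ℂ) 1 = z)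
        (q := fun χ : IrrCharacter (Matrix.SpecialLinearGroup (Fin 2) F) =>
          (χ : Matrix.SpecialLinearGroup (Fin 2) F → ℂ) 1 = z)
        (fun ψ => by rw [hE ψ]))]
      rw [Nat.card_eq_fintype_card, Fintype.card_subtype]
      congr 1
      ext χ
      simp only [Finset.mem_filter, Finset.mem_univ, true_and]
      rw [hz, hval χ, Nat.cast_inj]
      constructor
      · intro h
        by_contra hn
        exact hK' χ hn h
      · exact hK χ
    refine ⟨?_, ?_, ?_, ?_, ?_, ?_⟩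
    · rw [key 1 1 (by simp) A₁ hd₁ ?_, hc₁]
      intro χ hχ
      rcases hcov χ with h | h | h | h | h | h
      · exact absurd h hχ
      · rw [hd₂ χ h]; omega
      · rw [hd₃ χ h]; omega
      · have := hd₄ χ h; omega
      · rw [hd₅ χ h]; omega
      · have := hd₆ χ h; omega
    · rw [key (Fintype.card F) _ rfl A₂ hd₂ ?_, hc₂]
      intro χ hχ
      rcases hcov χ with h | h | h | h | h | h
      · rw [hd₁ χ h]; omega
      · exact absurd h hχ
      · rw [hd₃ χ h]; omega
      · have := hd₄ χ h; omega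
      · rw [hd₅ χ h]; omega
      · have := hd₆ χ h; omega
    · rw [key (Fintype.card F + 1) _ (by push_cast; rfl) A₃ hd₃ ?_, ← hc₃,
        Nat.mul_div_cancel_left _ (by norm_num)]
      intro χ hχ
      rcases hcov χ with h | h | h | h | h | h
      · rw [hd₁ χ h]; omega
      · rw [hd₂ χ h]; omega
      · exact absurd h hχ
      · have := hd₄ χ h; omega
      · rw [hd₅ χ h]; omega
      · have := hd₆ χ h; omega
    · rw [key (Fintype.card F - 1) _ (by rw [Nat.cast_sub (by omega)]; simp) A₅ hd₅ ?_, ← hc₅,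
        Nat.mul_div_cancel_left _ (by norm_num)]
      intro χ hχ
      rcases hcov χ with h | h | h | h | h | h
      · rw [hd₁ χ h]; omega
      · rw [hd₂ χ h]; omega
      · rw [hd₃ χ h]; omega
      · have := hd₄ χ h; omega
      · exact absurd h hχ
      · have := hd₆ χ h; omega
    · rw [key ((Fintype.card F + 1) / 2) _ rfl A₄ ?_ ?_, hc₄]
      · intro χ hχ
        have := hd₄ χ hχ
        omega
      · intro χ hχ
        rcases hcov χ with h | h | h | h | h | h
        · rw [hd₁ χ h]; omega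
        · rw [hd₂ χ h]; omega
        · rw [hd₃ χ h]; omega
        · exact absurd h hχ
        · rw [hd₅ χ h]; omega
        · have := hd₆ χ h; omega
    · rw [key ((Fintype.card F - 1) / 2) _ rfl A₆ ?_ ?_, hc₆]
      · intro χ hχ
        have := hd₆ χ hχ
        omega
      · intro χ hχ
        rcases hcov χ with h | h | h | h | h | h
        · rw [hd₁ χ h]; omega
        · rw [hd₂ χ h]; omega
        · rw [hd₃ χ h]; omega
        · have := hd₄ χ h; omega
        · rw [hd₅ χ h]; omega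
        · exact absurd h hχ

end Cfsg.Agent.S2299
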