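import Cfsg.Statements.S2304
import Cfsg.Agent.Lib.CT.NormOne
import Cfsg.Agent.Lib.CT.LinChar
import Cfsg.Agent.Lib.CT.IndChar
import Cfsg.Agent.Lib.CT.FrobRec

set_option autoImplicit false
open Cfsg

namespace Cfsg.Agent.S2304

open scoped ComplexConjugate
open Cfsg.Agent.Lib.CT

variable {F : Type*} [Field F]

theorem mem_B_iff (g : Matrix.GeneralLinearGroup (Fin 2) F) :
    g ∈ upperTriangularGL 2 F ↔ g.1 1 0 = 0 := by
  constructor
  · intro h
    exact h (show id (0 : Fin 2) < id 1 by decide)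
  · intro h i j hij
    fin_cases i <;> fin_cases j <;> simp_all

theorem det_ne (g : Matrix.GeneralLinearGroup (Fin 2) F) : g.1.det ≠ 0 :=
  ((Matrix.isUnit_iff_isUnit_det _).mp g.isUnit).ne_zero

theorem diag_ne (g : Matrix.GeneralLinearGroup (Fin 2) F) (hg : g ∈ upperTriangularGL 2 F) :
    g.1 0 0 ≠ 0 ∧ g.1 1 1 ≠ 0 := by
  have h := det_ne g
  rw [Matrix.det_fin_two, (mem_B_iff g).mp hg] at h
  constructor
  · rintro h0
    apply h
    rw [h0]
    ring
  · rintro h0
    apply h
    rw [h0]
    ring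

theorem norm_mulChar [Fintype F] (χ : MulChar F ℂ) (a : F) (ha : a ≠ 0) : ‖χ a‖ = 1 := by
  apply Complex.norm_eq_one_of_pow_eq_one (n := Fintype.card F - 1)
  · rw [← map_pow, FiniteField.pow_card_sub_one_eq_one a ha, map_one]
  · have := Fintype.one_lt_card (α := F)
    omega

/-- The linear character of the Borel subgroup. -/
noncomputable def th (α β : MulChar F ℂ) : upperTriangularGL 2 F → ℂ :=
  fun b => α (((b : Matrix.GeneralLinearGroup (Fin 2) F) : Matrix (Fin 2) (Fin 2) F) 0 0) *
    β (((b : Matrix.GeneralLinearGroup (Fin 2) F) : Matrix (Fin 2) (Fin 2) F) 1 1)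

theorem th_mul (α β : MulChar F ℂ) (b c : upperTriangularGL 2 F) :
    th α β (b * c) = th α β b * th α β c := by
  have hb := (mem_B_iff b.1).mp b.2
  have hc := (mem_B_iff c.1).mp c.2
  unfold th
  have h00 : ((b * c : upperTriangularGL 2 F) : Matrix.GeneralLinearGroup (Fin 2) F).1 0 0 =
      b.1.1 0 0 * c.1.1 0 0 := by
    simp [Matrix.mul_apply, Fin.sum_univ_two, hc]
  have h11 : ((b * c : upperTriangularGL 2 F) : Matrix.GeneralLinearGroup (Fin 2) F).1 1 1 =
      b.1.1 1 1 * c.1.1 1 1 := by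
    simp [Matrix.mul_apply, Fin.sum_univ_two, hb]
  rw [h00, h11, map_mul, map_mul]
  ring

theorem norm_th [Fintype F] (α β : MulChar F ℂ) (b : upperTriangularGL 2 F) : ‖th α β b‖ = 1 := by
  obtain ⟨h0, h1⟩ := diag_ne b.1 b.2
  unfold th
  rw [norm_mul, norm_mulChar α _ h0, norm_mulChar β _ h1, mul_one]

theorem th_ne_zero [Fintype F] (α β : MulChar F ℂ) (b : upperTriangularGL 2 F) : th α β b ≠ 0 := by
  intro h
  have := norm_th α β b
  rw [h, norm_zero] at this
  exact zero_ne_one this

theorem th_one (α β : MulChar F ℂ) : th α β 1 = 1 := by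
  unfold th
  simp

/-- The linear character as a homomorphism. -/
noncomputable def thHom [Fintype F] (α β : MulChar F ℂ) : upperTriangularGL 2 F →* ℂˣ where
  toFun b := Units.mk0 (th α β b) (th_ne_zero α β b)
  map_one' := by
    ext
    simp [th_one]
  map_mul' b c := by
    ext
    simp [th_mul]

theorem thHom_apply [Fintype F] (α β : MulChar F ℂ) (b : upperTriangularGL 2 F) :
    ((thHom α β b : ℂˣ) : ℂ) = th α β b := rfl

theorem Th_mul_left (α β : MulChar F ℂ) (d g : Matrix.GeneralLinearGroup (Fin 2) F)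
    (hd : d ∈ upperTriangularGL 2 F) :
    extendByZero (upperTriangularGL 2 F) (th α β) (d * g) =
      extendByZero (upperTriangularGL 2 F) (th α β) d *
        extendByZero (upperTriangularGL 2 F) (th α β) g := by
  by_cases hg : g ∈ upperTriangularGL 2 F
  · rw [FrobRec.extendByZero_apply_of_mem _ _ hd, FrobRec.extendByZero_apply_of_mem _ _ hg,
      FrobRec.extendByZero_apply_of_mem _ _ (mul_mem hd hg), ← th_mul]
    rfl
  · have hdg : d * g ∉ upperTriangularGL 2 F := by
      intro h
      apply hg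
      have := mul_mem (inv_mem hd) h
      rwa [inv_mul_cancel_left] at this
    rw [FrobRec.extendByZero_apply_of_not_mem _ _ hg,
      FrobRec.extendByZero_apply_of_not_mem _ _ hdg, mul_zero]

theorem key_zero [Fintype F] [DecidableEq F] (α β : MulChar F ℂ) (hαβ : α ≠ β)
    (x : Matrix.GeneralLinearGroup (Fin 2) F) (hx : x ∉ upperTriangularGL 2 F) :
    ∑ g : Matrix.GeneralLinearGroup (Fin 2) F,
      extendByZero (upperTriangularGL 2 F) (th α β) g *
        conj (extendByZero (upperTriangularGL 2 F) (th α β) (x⁻¹ * g * x)) = 0 := by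
  obtain ⟨a, ha⟩ : ∃ a : Fˣ, α a ≠ β a := by
    by_contra h
    push Not at h
    exact hαβ (MulChar.ext h)
  have hv : x.1 1 0 ≠ 0 := fun h => hx ((mem_B_iff x).mpr h)
  have ha0 : (a : F) ≠ 0 := a.ne_zero
  obtain ⟨d, hd⟩ : ∃ d : Matrix.GeneralLinearGroup (Fin 2) F,
      d.1 = !![(a : F), (1 - a) * x.1 0 0 / x.1 1 0; 0, 1] :=
    ⟨Matrix.GeneralLinearGroup.mkOfDetNeZero !![(a : F), (1 - a) * x.1 0 0 / x.1 1 0; 0, 1]
      (by simp [Matrix.det_fin_two]), rfl⟩
  obtain ⟨c, hc⟩ : ∃ c : Matrix.GeneralLinearGroup (Fin 2) F,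
      c.1 = !![1, (1 - a) * x.1 1 1 / x.1 1 0; 0, (a : F)] :=
    ⟨Matrix.GeneralLinearGroup.mkOfDetNeZero !![1, (1 - a) * x.1 1 1 / x.1 1 0; 0, (a : F)]
      (by simp [Matrix.det_fin_two]), rfl⟩
  have hdB : d ∈ upperTriangularGL 2 F := (mem_B_iff d).mpr (by rw [hd]; simp)
  have hcB : c ∈ upperTriangularGL 2 F := (mem_B_iff c).mpr (by rw [hc]; simp)
  have hdx : d * x = x * c := by
    apply Units.ext
    rw [Units.val_mul, Units.val_mul, hd, hc]
    ext i j
    fin_cases i <;> fin_cases j <;>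
      simp [Matrix.mul_apply, Fin.sum_univ_two] <;> field_simp <;> ring
  have hxd : x⁻¹ * d = c * x⁻¹ := by
    rw [inv_mul_eq_iff_eq_mul, ← mul_assoc, ← hdx, mul_assoc, mul_inv_cancel, mul_one]
  have hconj : ∀ g : Matrix.GeneralLinearGroup (Fin 2) F,
      x⁻¹ * (d * g) * x = c * (x⁻¹ * g * x) := by
    intro g
    rw [← mul_assoc, hxd]
    simp only [mul_assoc]
  have hΘd : extendByZero (upperTriangularGL 2 F) (th α β) d = α a := by
    rw [FrobRec.extendByZero_apply_of_mem _ _ hdB]
    unfold th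
    simp [hd]
  have hΘc : extendByZero (upperTriangularGL 2 F) (th α β) c = β a := by
    rw [FrobRec.extendByZero_apply_of_mem _ _ hcB]
    unfold th
    simp [hc]
  obtain ⟨T, hT⟩ : ∃ T : ℂ, T = ∑ g : Matrix.GeneralLinearGroup (Fin 2) F,
      extendByZero (upperTriangularGL 2 F) (th α β) g *
        conj (extendByZero (upperTriangularGL 2 F) (th α β) (x⁻¹ * g * x)) := ⟨_, rfl⟩
  rw [← hT]
  have h1 : T = α a * conj (β a) * T := by
    calc T = ∑ g : Matrix.GeneralLinearGroup (Fin 2) F,
          extendByZero (upperTriangularGL 2 F) (th α β) (d * g) *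
          conj (extendByZero (upperTriangularGL 2 F) (th α β) (x⁻¹ * (d * g) * x)) := by
          rw [hT]
          exact (Equiv.sum_comp (Equiv.mulLeft d) _).symm
      _ = ∑ g : Matrix.GeneralLinearGroup (Fin 2) F, α a * conj (β a) *
          (extendByZero (upperTriangularGL 2 F) (th α β) g *
          conj (extendByZero (upperTriangularGL 2 F) (th α β) (x⁻¹ * g * x))) := by
          apply Finset.sum_congr rfl
          intro g _
          rw [hconj, Th_mul_left _ _ _ _ hdB, Th_mul_left _ _ _ _ hcB, map_mul, hΘd, hΘc]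
          ring
      _ = α a * conj (β a) * T := by rw [← Finset.mul_sum, ← hT]
  have hβ : ‖β a‖ = 1 := norm_mulChar β a ha0
  have hβ0 : β a ≠ 0 := by
    intro h
    rw [h, norm_zero] at hβ
    exact zero_ne_one hβ
  have h2 : α a * conj (β a) ≠ 1 := by
    rw [← Complex.inv_eq_conj hβ]
    intro h
    apply ha
    field_simp at h
    exact h
  have h3 : (1 - α a * conj (β a)) * T = 0 := by linear_combination h1
  rcases mul_eq_zero.mp h3 with h | h
  · exact absurd (sub_eq_zero.mp h).symm h2
  · exact h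

theorem key_mem [Fintype F] [DecidableEq F] [Fintype (upperTriangularGL 2 F)] (α β : MulChar F ℂ)
    (x : Matrix.GeneralLinearGroup (Fin 2) F) (hx : x ∈ upperTriangularGL 2 F) :
    ∑ b : upperTriangularGL 2 F, th α β b *
        conj (extendByZero (upperTriangularGL 2 F) (th α β) (x⁻¹ * b * x)) =
      (Nat.card (upperTriangularGL 2 F) : ℂ) := by
  have h1 : ∀ b : upperTriangularGL 2 F, th α β b *
        conj (extendByZero (upperTriangularGL 2 F) (th α β) (x⁻¹ * b * x)) = 1 := by
    intro b
    have e1 : x⁻¹ * (b : Matrix.GeneralLinearGroup (Fin 2) F) * x =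
        (((⟨x, hx⟩ : upperTriangularGL 2 F)⁻¹ * b * ⟨x, hx⟩ : upperTriangularGL 2 F) :
          Matrix.GeneralLinearGroup (Fin 2) F) := rfl
    rw [e1, FrobRec.extendByZero_apply_coe]
    have e2 : thHom α β ((⟨x, hx⟩ : upperTriangularGL 2 F)⁻¹ * b * ⟨x, hx⟩) = thHom α β b := by
      rw [map_mul, map_mul, map_inv, mul_comm, mul_inv_cancel_left]
    have e3 : th α β ((⟨x, hx⟩ : upperTriangularGL 2 F)⁻¹ * b * ⟨x, hx⟩) = th α β b := by
      rw [← thHom_apply, e2, thHom_apply]
    rw [e3, Complex.mul_conj, Complex.normSq_eq_norm_sq, norm_th]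
    simp
  rw [Finset.sum_congr rfl (fun b _ => h1 b)]
  simp [Nat.card_eq_fintype_card]

/-- Over a finite field F with q elements, for multiplicative characters α ≠ β of F, the function induced to GL₂ from the linear character b ↦ α(b₁₁) β(b₂₂) of the upper triangular subgroup B is an irreducible character (of degree q + 1). -/
theorem result {F : Type*} [Field F] [Fintype F] [DecidableEq F] (α β : MulChar F ℂ) (hαβ : α ≠ β) :
    Cfsg.IsIrrCharacter (Matrix.GeneralLinearGroup (Fin 2) F) (Cfsg.indFun (Cfsg.upperTriangularGL 2 F) (fun b => α (((b : Matrix.GeneralLinearGroup (Fin 2) F) : Matrix (Fin 2) (Fin 2) F) 0 0) * β (((b : Matrix.GeneralLinearGroup (Fin 2) F) : Matrix (Fin 2) (Fin 2) F) 1 1))) := by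
  classical
  let _ : Fintype (upperTriangularGL 2 F) := Fintype.ofFinite _
  have hchar : IsCharacter (Matrix.GeneralLinearGroup (Fin 2) F)
      (indFun (upperTriangularGL 2 F) (th α β)) :=
    IndChar.isCharacter_indFun (upperTriangularGL 2 F) (th α β)
      (LinChar.isCharacter_of_hom (thHom α β))
  change Cfsg.IsIrrCharacter (Matrix.GeneralLinearGroup (Fin 2) F)
    (indFun (upperTriangularGL 2 F) (th α β))
  apply NormOne.irr_of_inner_self_eq_one hchar
  rw [FrobRec.frobenius_reciprocity (upperTriangularGL 2 F) (th α β) _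
    (FrobRec.indFun_isClassFunction (upperTriangularGL 2 F) _)]
  unfold classInner
  have hB : (Nat.card (upperTriangularGL 2 F) : ℂ) ≠ 0 := by
    exact_mod_cast (Nat.card_pos (α := upperTriangularGL 2 F)).ne'
  have h1 : ∀ h : upperTriangularGL 2 F,
      th α β h * conj (indFun (upperTriangularGL 2 F) (th α β) h) =
        (Nat.card (upperTriangularGL 2 F) : ℂ)⁻¹ *
          ∑ x : Matrix.GeneralLinearGroup (Fin 2) F, th α β h *
            conj (extendByZero (upperTriangularGL 2 F) (th α β) (x⁻¹ * h * x)) := by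
    intro h
    rw [FrobRec.indFun_apply, map_mul, map_sum, map_inv₀, Complex.conj_natCast, mul_left_comm,
      Finset.mul_sum]
  rw [Finset.sum_congr rfl (fun h _ => h1 h), ← Finset.mul_sum, Finset.sum_comm]
  have h2 : ∀ x : Matrix.GeneralLinearGroup (Fin 2) F,
      ∑ h : upperTriangularGL 2 F, th α β h *
        conj (extendByZero (upperTriangularGL 2 F) (th α β) (x⁻¹ * h * x)) =
      extendByZero (upperTriangularGL 2 F)
        (fun _ => (Nat.card (upperTriangularGL 2 F) : ℂ)) x := by
    intro x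
    by_cases hx : x ∈ upperTriangularGL 2 F
    · rw [key_mem α β x hx, FrobRec.extendByZero_apply_of_mem _ _ hx]
    · rw [FrobRec.extendByZero_apply_of_not_mem _ _ hx,
        ← FrobRec.sum_extendByZero_mul (upperTriangularGL 2 F) (th α β)
          (fun g => conj (extendByZero (upperTriangularGL 2 F) (th α β) (x⁻¹ * g * x)))]
      exact key_zero α β hαβ x hx
  rw [Finset.sum_congr rfl (fun x _ => h2 x), FrobRec.sum_extendByZero]
  simp only [Finset.sum_const, Finset.card_univ, nsmul_eq_mul, ← Nat.card_eq_fintype_card]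
  field_simp

end Cfsg.Agent.S2304
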