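import Cfsg.Statements.S2337
import Cfsg.Agent.S1162
import Cfsg.Agent.Lib.Helper65.SzIso
import Cfsg.Agent.Lib.Helper65.RepBound
import Cfsg.Agent.Lib.Helper65.SzRad
import Cfsg.Agent.Lib.Helper6.Sz8

set_option autoImplicit false
open Cfsg

namespace Cfsg.Agent.S2337

open Module
open Cfsg.Agent.Lib.Helper6.Sz0 Cfsg.Agent.Lib.Helper6.Sz1 Cfsg.Agent.Lib.Helper6.Sz2
  Cfsg.Agent.Lib.Helper6.Sz3 Cfsg.Agent.Lib.Helper6.Sz4 Cfsg.Agent.Lib.Helper6.Sz5
  Cfsg.Agent.Lib.Helper6.Sz6 Cfsg.Agent.Lib.Helper6.Sz7 Cfsg.Agent.Lib.Helper6.Sz8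
open Cfsg.Agent.Lib.Helper65.RepBound Cfsg.Agent.Lib.Helper65.SzRad
open scoped commutatorElement

/-- an irreducible representation of degree at least two of a simple group is faithful -/
theorem rho_ne_one {G : Type*} [Group G] [IsSimpleGroup G] {k : ℕ}
    (ρ : Representation ℂ G (Fin k → ℂ)) (hirr : ρ.IsIrreducible) (hk : 2 ≤ k) (g : G)
    (hg : g ≠ 1) : ρ g ≠ 1 := by
  intro h
  have hker : MonoidHom.ker ρ = ⊤ := by
    rcases (MonoidHom.normal_ker ρ).eq_bot_or_eq_top with h' | h'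
    · exfalso
      apply hg
      have : g ∈ MonoidHom.ker ρ := h
      rw [h'] at this
      exact this
    · exact h'
  have htriv : ∀ x, ρ x = 1 := by
    intro x
    have : x ∈ MonoidHom.ker ρ := by
      rw [hker]
      trivial
    exact this
  let v : Fin k → ℂ := Pi.single ⟨0, by omega⟩ 1
  have hv : v ≠ 0 := by
    intro h0
    have := congrFun h0 ⟨0, by omega⟩
    simp [v] at this
  let W : Subrepresentation ρ := ⟨Submodule.span ℂ {v}, by
    intro x w hw
    rw [htriv x]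
    exact hw⟩
  rcases eq_bot_or_eq_top W with hW | hW
  · have h1 : v ∈ W.toSubmodule := Submodule.subset_span rfl
    rw [hW] at h1
    exact hv ((Submodule.mem_bot ℂ).mp h1)
  · have h1 : W.toSubmodule = ⊤ := by
      rw [hW]
      rfl
    have h2 : finrank ℂ (Submodule.span ℂ {v}) = 1 := finrank_span_singleton hv
    have h3 : Submodule.span ℂ {v} = ⊤ := h1
    rw [h3, finrank_top, Module.finrank_fin_fun] at h2
    omega

variable {F : Type*} [Field F] [Fintype F] {m : ℕ}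

/-- the first coordinate of an element of the unipotent subgroup -/
def aOf (hF : Fintype.card F = 2 ^ (2 * m + 1)) (x : Usub hF) : F :=
  ((x : Cfsg.Sz F m) : SL4 F).1 2 3

/-- the second coordinate of an element of the unipotent subgroup -/
def bOf (hF : Fintype.card F = 2 ^ (2 * m + 1)) (x : Usub hF) : F :=
  ((x : Cfsg.Sz F m) : SL4 F).1 1 3

theorem aOf_uU (hF : Fintype.card F = 2 ^ (2 * m + 1)) (a b : F) : aOf hF (uU hF a b) = a := by
  simp [aOf, uU, uS, Um, UmMat]

theorem bOf_uU (hF : Fintype.card F = 2 ^ (2 * m + 1)) (a b : F) : bOf hF (uU hF a b) = b := by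
  simp [bOf, uU, uS, Um, UmMat]

theorem eq_uU (hF : Fintype.card F = 2 ^ (2 * m + 1)) (x : Usub hF) :
    x = uU hF (aOf hF x) (bOf hF x) := by
  obtain ⟨a, b, rfl⟩ := uU_surj hF x
  rw [aOf_uU, bOf_uU]

/-- the Landazuri–Seitz bound for a representation of the ovoid Suzuki group that is non-trivial
on the centre of the unipotent subgroup -/
theorem main_bound (hF : Fintype.card F = 2 ^ (2 * m + 1)) {V : Type*}
    [AddCommGroup V] [Module ℂ V] [FiniteDimensional ℂ V]
    (ρ₀ : ↥(Cfsg.Sz F m) →* Module.End ℂ V) (hne : ρ₀ (uS hF 0 1) ≠ 1) :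
    2 ^ m * (2 ^ (2 * m + 1) - 1) ≤ finrank ℂ V := by
  classical
  have two := two_eq_zero hF
  let z : F → ↥(Cfsg.Sz F m) := fun b => uS hF 0 b
  have hz : ∀ b b', z (b + b') = z b * z b' := by
    intro b b'
    apply Subtype.ext
    show Um m 0 (b + b') = Um m 0 b * Um m 0 b'
    rw [Um_mul hF, sg_zero]
    congr 1 <;> ring
  have hconj : ∀ c : F, c ≠ 0 → ∃ g : ↥(Cfsg.Sz F m), ∀ b, g * z b * g⁻¹ = z (c * b) := by
    intro c hc
    obtain ⟨l, hl⟩ := mul_sg_surj hF c
    have hl0 : l ≠ 0 := by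
      rintro rfl
      rw [zero_mul] at hl
      exact hc hl.symm
    refine ⟨hS hF (Units.mk0 l hl0), fun b => ?_⟩
    rw [mul_inv_eq_iff_eq_mul]
    apply Subtype.ext
    show Hm m (Units.mk0 l hl0) * Um m 0 b = Um m 0 (c * b) * Hm m (Units.mk0 l hl0)
    rw [Hm_mul_Um hF]
    congr 2
    · simp
    · simp only [Units.val_mk0]
      rw [← hl]
      ring
  obtain ⟨χ, hχ, hχ0, hχ1, hbot⟩ := exists_ceig (add_self hF) ρ₀ z hz 1 hne
  have hL2 := mul_finrank_ceig_le two ρ₀ z hz hconj χ hχ hχ0 1 hχ1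
  set W := ceig ρ₀ z χ with hW
  have hinv : ∀ u ∈ Usub hF, ∀ w ∈ W, ρ₀ u w ∈ W := by
    rintro _ ⟨a, b', rfl⟩ w hw
    rw [hW, mem_ceig] at hw ⊢
    intro b
    have e : z b * uS hF a b' = uS hF a b' * z b := by
      apply Subtype.ext
      show Um m 0 b * Um m a b' = Um m a b' * Um m 0 b
      rw [Um_mul hF, Um_mul hF, sg_zero]
      congr 1 <;> ring
    rw [← Module.End.mul_apply, ← map_mul, e, map_mul, Module.End.mul_apply, hw b, map_smul]
  let σ := restr ρ₀ (Usub hF) W hinv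
  have hnt : Nontrivial W := Submodule.nontrivial_iff_ne_bot.mpr hbot
  let c : Usub hF → Usub hF → ℂ := fun x y =>
    χ (sg m (aOf hF y) * aOf hF x + sg m (aOf hF x) * aOf hF y)
  have hc : ∀ x y, σ y * σ x = c x y • (σ x * σ y) := by
    intro x y
    obtain ⟨a, b, rfl⟩ := uU_surj hF x
    obtain ⟨a', b', rfl⟩ := uU_surj hF y
    have e1 : uU hF a' b' * uU hF a b =
        ⁅uU hF a' b', uU hF a b⁆ * (uU hF a b * uU hF a' b') := by
      rw [commutatorElement_def]
      group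
    have e2 : ∀ t, σ (uU hF 0 t) = χ t • (1 : Module.End ℂ W) := by
      intro t
      apply LinearMap.ext
      intro w
      apply Subtype.ext
      rw [restr_apply]
      exact (mem_ceig ρ₀ z χ w.1).mp w.2 t
    rw [← map_mul, e1, commutator_uU, map_mul, map_mul, e2, smul_mul_assoc, one_mul]
    simp only [c, aOf_uU]
  have hr : ∀ x, Nat.card {x' : Usub hF // ∀ y, c x' y = c x y} ≤ 2 * Fintype.card F := by
    intro x
    have hT : ∀ x' : Usub hF, (∀ y, c x' y = c x y) →
        ∀ s, χ (sg m s * (aOf hF x' + aOf hF x) + sg m (aOf hF x' + aOf hF x) * s) = 1 := by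
      intro x' hx' s
      have h1 := hx' (uU hF s 0)
      simp only [c, aOf_uU] at h1
      have e : sg m s * (aOf hF x' + aOf hF x) + sg m (aOf hF x' + aOf hF x) * s =
          (sg m s * aOf hF x' + sg m (aOf hF x') * s) +
            (sg m s * aOf hF x + sg m (aOf hF x) * s) := by
        rw [sg_add hF]
        ring
      rw [e, hχ, h1, ← hχ, add_self hF, hχ0]
    let ψ : {x' : Usub hF // ∀ y, c x' y = c x y} → Bool × F :=
      fun x' => (decide (aOf hF x'.1 = aOf hF x), bOf hF x'.1)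
    have hψ : Function.Injective ψ := by
      intro x' x'' h
      have hb : bOf hF x'.1 = bOf hF x''.1 := congrArg Prod.snd h
      have hd : decide (aOf hF x'.1 = aOf hF x) = decide (aOf hF x''.1 = aOf hF x) :=
        congrArg Prod.fst h
      have ha : aOf hF x'.1 = aOf hF x''.1 := by
        by_cases h1 : aOf hF x'.1 = aOf hF x
        · have h2 : aOf hF x''.1 = aOf hF x := by simpa [h1] using hd
          rw [h1, h2]
        · have h2 : aOf hF x''.1 ≠ aOf hF x := by
            intro h2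
            simp [h1, h2] at hd
          have t1 : aOf hF x'.1 + aOf hF x ≠ 0 := fun h0 => h1 (eq_of_add_eq_zero hF h0)
          have t2 : aOf hF x''.1 + aOf hF x ≠ 0 := fun h0 => h2 (eq_of_add_eq_zero hF h0)
          have := rad_unique hF χ hχ hχ0 1 hχ1 _ _ t1 t2 (hT x'.1 x'.2) (hT x''.1 x''.2)
          exact add_right_cancel this
      apply Subtype.ext
      rw [eq_uU hF x'.1, eq_uU hF x''.1, ha, hb]
    calc Nat.card {x' : Usub hF // ∀ y, c x' y = c x y}
        ≤ Nat.card (Bool × F) := Nat.card_le_card_of_injective ψ hψ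
      _ = 2 * Fintype.card F := by
        rw [Nat.card_prod, Nat.card_eq_fintype_card, Nat.card_eq_fintype_card, Fintype.card_bool]
  have hL3 := card_le_mul_finrank_sq σ c hc (2 * Fintype.card F) hr
  rw [card_Usub hF, hF] at hL3
  rw [hF] at hL2
  have hq : 2 ^ (2 * m + 1) = 2 * (2 ^ m) ^ 2 := by ring
  have hd : 2 ^ m ≤ finrank ℂ W := by
    by_contra hlt
    push Not at hlt
    have h1 : (finrank ℂ W) ^ 2 < (2 ^ m) ^ 2 := Nat.pow_lt_pow_left hlt (by norm_num)
    have hpos : 0 < 2 * 2 ^ (2 * m + 1) := by positivity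
    have h2 : 2 * 2 ^ (2 * m + 1) * (finrank ℂ W) ^ 2 < 2 * 2 ^ (2 * m + 1) * (2 ^ m) ^ 2 :=
      Nat.mul_lt_mul_of_pos_left h1 hpos
    have h3 : 2 * 2 ^ (2 * m + 1) * (2 ^ m) ^ 2 = (2 ^ (2 * m + 1)) ^ 2 := by
      rw [hq]
      ring
    omega
  calc 2 ^ m * (2 ^ (2 * m + 1) - 1) ≤ finrank ℂ W * (2 ^ (2 * m + 1) - 1) :=
        Nat.mul_le_mul_right _ hd
    _ = (2 ^ (2 * m + 1) - 1) * finrank ℂ W := mul_comm _ _
    _ ≤ finrank ℂ V := hL2

/-- For the Suzuki group Sz(q), q = 2^(2m+1) with m ≥ 1 (realised inside Sp₄ over the field with q elements), every irreducible complex representation of degree at least 2 has degree at least 2^m·(q − 1). -/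
theorem result {F : Type*} [Field F] [Fintype F] (m : ℕ) (hm : 1 ≤ m) (hF : Fintype.card F = 2 ^ (2 * m + 1)) :
    (∀ (k : ℕ) (ρ : Representation ℂ (Cfsg.Lie.Sz F (2 ^ (m + 1))) (Fin k → ℂ)), ρ.IsIrreducible → 2 ≤ k → 2 ^ m * (2 ^ (2 * m + 1) - 1) ≤ k) := by
  intro k ρ hirr hk
  have hs : IsSimpleGroup ↥(Cfsg.Lie.Sz F (2 ^ (m + 1))) := Cfsg.Agent.S1162.result hm hF
  let e := Cfsg.Agent.Lib.Helper65.SzIso.iso hm hF
  let ρ₀ : ↥(Cfsg.Sz F m) →* Module.End ℂ (Fin k → ℂ) :=
    (ρ : ↥(Cfsg.Lie.Sz F (2 ^ (m + 1))) →* Module.End ℂ (Fin k → ℂ)).comp e.symm.toMonoidHom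
  have hne : ρ₀ (uS hF 0 1) ≠ 1 := by
    apply rho_ne_one ρ hirr hk
    intro h
    have h1 : uS hF 0 1 = 1 := by
      have := congrArg e h
      simpa using this
    have h2 : Um m (0 : F) 1 = Um m 0 0 := by
      rw [Um_zero]
      exact congrArg Subtype.val h1
    exact one_ne_zero (Um_inj h2).2
  have := main_bound hF ρ₀ hne
  rwa [Module.finrank_fin_fun] at this

end Cfsg.Agent.S2337
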