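import Cfsg.Statements.S2343
import Mathlib
import Cfsg.Agent.Lib.Helper42.ReeDegStmt
import Cfsg.Agent.Lib.Helper42.ReeDegAsm
import Cfsg.Agent.Lib.Helper42.ReeDegRee
import Cfsg.Agent.Lib.Helper97.ReeDegKER
import Cfsg.Agent.Lib.Helper11.ReeDegEIG
import Cfsg.Agent.Lib.Helper67.ReeDegINDEP
import Cfsg.Agent.Lib.Helper65.ReeDegTRZ
import Cfsg.Agent.Lib.Helper67.ReeDegK4
import Cfsg.Agent.Lib.Helper65.ReeDegORB
import Cfsg.Agent.Lib.Helper97.ReeDegPARS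
import Cfsg.Agent.Lib.Helper29.ReeDegPARU
import Cfsg.Agent.Lib.Helper29.ReeDegPARH

set_option autoImplicit false
open Cfsg

namespace Cfsg.Agent.S2343

/-- For the Ree group ²G₂(q), q = 3^(2m+1) with m ≥ 1 (realised over the field with q elements), every irreducible complex representation of degree at least 2 has degree at least q² − q + 1. -/
theorem result {K : Type*} [Field K] [Fintype K] (m : ℕ) (hm : 1 ≤ m) (hK : Fintype.card K = 3 ^ (2 * m + 1)) :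
    (∀ (k : ℕ) (ρ : Representation ℂ (Cfsg.Lie.twistedG2 K (3 ^ m)) (Fin k → ℂ)), ρ.IsIrreducible → 2 ≤ k → (3 ^ (2 * m + 1)) ^ 2 - 3 ^ (2 * m + 1) + 1 ≤ k) := by
  intro k ρ hirr hk
  obtain ⟨Z, A, U, H, t, hax⟩ := Cfsg.Agent.Lib.Helper42.ReeDegRee.rax
    Cfsg.Agent.Lib.Helper97.ReeDegPARS.main Cfsg.Agent.Lib.Helper29.ReeDegPARU.main
    Cfsg.Agent.Lib.Helper29.ReeDegPARH.main hm hK
  have h := Cfsg.Agent.Lib.Helper42.ReeDegAsm.deg_of_ax
    Cfsg.Agent.Lib.Helper97.ReeDegKER.main Cfsg.Agent.Lib.Helper11.ReeDegEIG.main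
    Cfsg.Agent.Lib.Helper67.ReeDegINDEP.main Cfsg.Agent.Lib.Helper65.ReeDegTRZ.main
    Cfsg.Agent.Lib.Helper67.ReeDegK4.main Cfsg.Agent.Lib.Helper65.ReeDegORB.main
    hax k ρ hirr hk
  have e : (3 ^ (2 * m + 1)) ^ 2 - 3 ^ (2 * m + 1) =
      3 ^ (2 * m + 1) * (3 ^ (2 * m + 1) - 1) := by
    rw [Nat.mul_sub, mul_one, pow_two]
  rw [e]
  exact h

end Cfsg.Agent.S2343
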