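import Cfsg.Statements.S2362
import Mathlib
import Cfsg.Agent.Lib.Helper44.BCFin
import Cfsg.Agent.Lib.Helper90.SPNOFX
import Cfsg.Agent.Lib.Helper86.SPCHARF
import Cfsg.Agent.Lib.Helper94.SPSIMEX
import Cfsg.Agent.Lib.Helper51.SPSIGN
import Cfsg.Agent.Lib.Helper20.SMALT
import Cfsg.Agent.Lib.Helper7.SMDARB
import Cfsg.Agent.Lib.Helper20.SMSPD
import Cfsg.Agent.Lib.Helper82.BCPSPELT
import Cfsg.Agent.Lib.Helper2.BCZSIG
import Cfsg.Agent.Lib.Helper95.BCSPLIT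
import Cfsg.Agent.Lib.Helper43.BCFORMS
import Cfsg.Agent.Lib.Helper95.BCBLOCKDIAG
import Cfsg.Agent.Lib.Helper58.BCBDDET
import Cfsg.Agent.Lib.Helper34.BCBLOCKFACTS
import Cfsg.Agent.Lib.Helper17.BCDIMS
import Cfsg.Agent.Lib.Helper95.BCIRRKILL
import Cfsg.Agent.Lib.Helper58.BCUNIPTRIV
import Cfsg.Agent.Lib.Helper58.BCINVOLNEG
import Cfsg.Agent.Lib.Helper2.BCRANK1
import Cfsg.Agent.Lib.Helper34.BCCENT3
import Cfsg.Agent.Lib.Helper6.BCDetOne
import Cfsg.Agent.Lib.Helper6.BCLevel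
import Cfsg.Agent.Lib.Helper43.BCCOUNT1
import Cfsg.Agent.Lib.Helper93.BCSIGNODD
import Cfsg.Agent.Lib.Helper93.BCTRANSFER

set_option autoImplicit false
open Cfsg

namespace Cfsg.Agent.S2362


universe u

open Cfsg.Agent.Lib.Helper44.SMStmt Cfsg.Agent.Lib.Helper44.SPStmt Cfsg.Agent.Lib.Helper44.BCStmt

theorem hAlt : AltSimDet.{u} :=
  Cfsg.Agent.Lib.Helper20.SMALT.main Cfsg.Agent.Lib.Helper7.SMDARB.main Cfsg.Agent.Lib.Helper20.SMSPD.main

theorem hNoFixIff : NoFixIff.{u} := Cfsg.Agent.Lib.Helper90.SPNOFX.main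

theorem hDecomp : Decomp.{u} := Cfsg.Agent.Lib.Helper43.BCFORMS.main Cfsg.Agent.Lib.Helper95.BCSPLIT.main

theorem hDims : Dims.{u} := Cfsg.Agent.Lib.Helper17.BCDIMS.main hNoFixIff Cfsg.Agent.Lib.Helper86.SPCHARF.main

theorem hUnipTriv : UnipTriv.{u} := Cfsg.Agent.Lib.Helper58.BCUNIPTRIV.main Cfsg.Agent.Lib.Helper95.BCIRRKILL.main

theorem hInvolNeg : InvolNeg.{u} := Cfsg.Agent.Lib.Helper58.BCINVOLNEG.main Cfsg.Agent.Lib.Helper95.BCIRRKILL.main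

theorem hCent3 : Cent3.{u} := Cfsg.Agent.Lib.Helper34.BCCENT3.main Cfsg.Agent.Lib.Helper2.BCRANK1.main

theorem hDetOne : DetOne.{u} := Cfsg.Agent.Lib.Helper6.BCDetOne.main hAlt

theorem hLevel : Level.{u} := Cfsg.Agent.Lib.Helper6.BCLevel.main Cfsg.Agent.Lib.Helper94.SPSIMEX.main

theorem hCount1 : Count1.{u} := Cfsg.Agent.Lib.Helper43.BCCOUNT1.main hLevel hNoFixIff

theorem hSignOdd : SignOdd.{u} := Cfsg.Agent.Lib.Helper93.BCSIGNODD.main Cfsg.Agent.Lib.Helper51.SPSIGN.main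

theorem hNoElt : NoElt.{u} :=
  Cfsg.Agent.Lib.Helper44.BCFin.noelt_of Cfsg.Agent.Lib.Helper2.BCZSIG.main hDecomp Cfsg.Agent.Lib.Helper95.BCBLOCKDIAG.main Cfsg.Agent.Lib.Helper58.BCBDDET.main
    Cfsg.Agent.Lib.Helper34.BCBLOCKFACTS.main hDims hUnipTriv hInvolNeg hCent3 hDetOne hCount1 hSignOdd Cfsg.Agent.Lib.Helper93.BCTRANSFER.main


/-- Let F be a finite field of odd order and n ≥ 3. The simple orthogonal group PΩ(2n+1, F) (type B_n) and the projective symplectic group PSp(2n, F) (type C_n), which have the same order, do not have the same set of element orders. -/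
theorem result {F : Type*} [Field F] [Fintype F] (hodd : Odd (Fintype.card F)) (n : ℕ) (hn : 3 ≤ n) :
    Set.range (orderOf : Cfsg.POmega F (Cfsg.quadFormOdd n F) → ℕ) ≠ Set.range (orderOf : Cfsg.PSp n F → ℕ) := by
  exact Cfsg.Agent.Lib.Helper44.BCFin.final_of Cfsg.Agent.Lib.Helper82.BCPSPELT.main hNoElt hodd n hn

end Cfsg.Agent.S2362
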