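import Cfsg.Statements.S2468
import Cfsg.Agent.H41.PSLnRS

set_option autoImplicit false
open Cfsg

namespace Cfsg.Agent.S2468

/-- Adjacency of two odd primes in the prime graph of PSL(n,q): let F be a finite field of characteristic p with q elements, n ≥ 2 with PSL(n,F) simple, and let r ≠ s be odd primes different from p dividing the order of PSL(n,F). Let k and l be the multiplicative orders of q modulo r and modulo s, and suppose 2 ≤ k ≤ l. Then PSL(n,F) has NO element of order r·s if and only if k + l > n and k does not divide l. -/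
theorem result {F : Type*} [Field F] [Fintype F] (p : ℕ) [Fact p.Prime] [CharP F p] (n : ℕ) (hn : 2 ≤ n) (hsmall : n = 2 → 4 ≤ Fintype.card F)
    (r s : ℕ) (hr : r.Prime) (hs : s.Prime) (hr2 : r ≠ 2) (hs2 : s ≠ 2) (hrp : r ≠ p) (hsp : s ≠ p) (hrs : r ≠ s)
    (hrG : r ∣ Nat.card (Matrix.ProjectiveSpecialLinearGroup (Fin n) F)) (hsG : s ∣ Nat.card (Matrix.ProjectiveSpecialLinearGroup (Fin n) F))
    (k l : ℕ) (hk : k = orderOf ((Fintype.card F : ℕ) : ZMod r)) (hl : l = orderOf ((Fintype.card F : ℕ) : ZMod s))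
    (h2k : 2 ≤ k) (hkl : k ≤ l) :
    (r * s ∉ Set.range (orderOf : Matrix.ProjectiveSpecialLinearGroup (Fin n) F → ℕ)) ↔ (n < k + l ∧ ¬ k ∣ l) := by
  subst hk
  subst hl
  have hq : 2 ≤ Fintype.card F := Fintype.one_lt_card
  have hq1 : 1 ≤ Fintype.card F := by omega
  have hrq : ¬ r ∣ Fintype.card F - 1 := by
    rw [Cfsg.Agent.H41.dvd_sub_one_iff _ _ hq1]
    omega
  have hsq : ¬ s ∣ Fintype.card F - 1 := by
    rw [Cfsg.Agent.H41.dvd_sub_one_iff _ _ hq1]
    omega
  have hcr : Nat.Coprime r (Fintype.card F - 1) := (Nat.Prime.coprime_iff_not_dvd hr).2 hrq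
  have hcs : Nat.Coprime s (Fintype.card F - 1) := (Nat.Prime.coprime_iff_not_dvd hs).2 hsq
  have hln := Cfsg.Agent.H41.orderOf_le_of_dvd_card_psl (F := F) p n s hs hsp hsG
  constructor
  · intro hno
    by_contra hcon
    apply hno
    by_cases hkl' : orderOf ((Fintype.card F : ℕ) : ZMod r) ∣ orderOf ((Fintype.card F : ℕ) : ZMod s)
    · haveI : NeZero (orderOf ((Fintype.card F : ℕ) : ZMod s)) := ⟨by omega⟩
      have hdvd : r * s ∣ Fintype.card F ^ (orderOf ((Fintype.card F : ℕ) : ZMod s)) - 1 :=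
        Nat.Coprime.mul_dvd_of_dvd_of_dvd ((Nat.coprime_primes hr hs).2 hrs)
          ((Cfsg.Agent.H41.dvd_pow_sub_one_iff r _ _ hq1).2 hkl')
          ((Cfsg.Agent.H41.dvd_pow_sub_one_iff s _ _ hq1).2 dvd_rfl)
      obtain ⟨y, hy, hny, hy0⟩ := Cfsg.Agent.H41.exists_orderOf_norm_one (F := F) p
        (orderOf ((Fintype.card F : ℕ) : ZMod s)) (r * s) hdvd (Nat.Coprime.mul_left hcr hcs)
      obtain ⟨g, hg⟩ := Cfsg.Agent.H41.exists_psl_orderOf_of_field p _ n hln y hny hy0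
        (by rw [hy]; exact Nat.Coprime.mul_left hcr hcs)
      exact ⟨g, by rw [hg, hy]⟩
    · have hle : orderOf ((Fintype.card F : ℕ) : ZMod r) +
          orderOf ((Fintype.card F : ℕ) : ZMod s) ≤ n := by
        by_contra h
        exact hcon ⟨by omega, hkl'⟩
      haveI : NeZero (orderOf ((Fintype.card F : ℕ) : ZMod r)) := ⟨by omega⟩
      haveI : NeZero (orderOf ((Fintype.card F : ℕ) : ZMod s)) := ⟨by omega⟩
      obtain ⟨x, hx, hnx, hx0⟩ := Cfsg.Agent.H41.exists_orderOf_norm_one (F := F) p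
        (orderOf ((Fintype.card F : ℕ) : ZMod r)) r
        ((Cfsg.Agent.H41.dvd_pow_sub_one_iff r _ _ hq1).2 dvd_rfl) hcr
      obtain ⟨y, hy, hny, hy0⟩ := Cfsg.Agent.H41.exists_orderOf_norm_one (F := F) p
        (orderOf ((Fintype.card F : ℕ) : ZMod s)) s
        ((Cfsg.Agent.H41.dvd_pow_sub_one_iff s _ _ hq1).2 dvd_rfl) hcs
      obtain ⟨g, hg⟩ := Cfsg.Agent.H41.exists_psl_orderOf_of_two_fields p _ _ n hle x y hnx hny
        hx0 hy0 (by rw [hx]; exact hcr) (by rw [hy]; exact hcs)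
        (by rw [hx, hy]; exact (Nat.coprime_primes hr hs).2 hrs)
      exact ⟨g, by rw [hg, hx, hy]⟩
  · rintro ⟨hlt, hnd⟩ ⟨x, hx⟩
    exact hnd (Cfsg.Agent.H41.psl_no_rs p n (by omega) r s hr hs hrp hsp h2k hkl hlt x hx)

end Cfsg.Agent.S2468
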