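import Cfsg.Statements.S2469
import Cfsg.Agent.H41.SpRSEx

set_option autoImplicit false
open Cfsg

namespace Cfsg.Agent.S2469

/-- Adjacency of two odd primes in the prime graph of PSp(2n,q): let F be a finite field of characteristic p with q elements, n ≥ 2 with PSp(2n,F) simple, and let r ≠ s be odd primes different from p dividing the order of PSp(2n,F). Let k, l be the multiplicative orders of q modulo r and s, put η(m) = m for odd m and η(m) = m/2 for even m, and suppose η(k) ≤ η(l). Then PSp(2n,F) has NO element of order r·s if and only if η(k) + η(l) > n and l/k is not an odd integer. -/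
theorem result {F : Type*} [Field F] [Fintype F] (p : ℕ) [Fact p.Prime] [CharP F p] (n : ℕ) (hn : 2 ≤ n) (hsmall : n = 2 → 3 ≤ Fintype.card F)
    (r s : ℕ) (hr : r.Prime) (hs : s.Prime) (hr2 : r ≠ 2) (hs2 : s ≠ 2) (hrp : r ≠ p) (hsp : s ≠ p) (hrs : r ≠ s)
    (hrG : r ∣ Nat.card (Cfsg.PSp n F)) (hsG : s ∣ Nat.card (Cfsg.PSp n F))
    (k l ηk ηl : ℕ) (hk : k = orderOf ((Fintype.card F : ℕ) : ZMod r)) (hl : l = orderOf ((Fintype.card F : ℕ) : ZMod s))
    (hηk : (Odd k ∧ ηk = k) ∨ (Even k ∧ 2 * ηk = k)) (hηl : (Odd l ∧ ηl = l) ∨ (Even l ∧ 2 * ηl = l)) (hkl : ηk ≤ ηl) :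
    (r * s ∉ Set.range (orderOf : Cfsg.PSp n F → ℕ)) ↔ (n < ηk + ηl ∧ ¬ ∃ t : ℕ, Odd t ∧ l = k * t) := by
  have hn1 : 1 ≤ n := by omega
  have hodd : Odd (r * s) := (hr.odd_of_ne_two hr2).mul (hs.odd_of_ne_two hs2)
  constructor
  · intro hno
    constructor
    · by_contra hle
      push Not at hle
      apply hno
      have h1 := Cfsg.Agent.H41.spHas_add ηk ηl r s
        (Cfsg.Agent.H41.spHas_prime p r hr hrp k ηk hk hηk)
        (Cfsg.Agent.H41.spHas_prime p s hs hsp l ηl hl hηl)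
      rw [Nat.Coprime.lcm_eq_mul ((Nat.coprime_primes hr hs).2 hrs)] at h1
      obtain ⟨x, hx⟩ := Cfsg.Agent.H41.psp_of_spHas n hn1 (r * s) hodd
        (Cfsg.Agent.H41.spHas_pad _ n _ hle h1)
      exact ⟨x, hx⟩
    · rintro ⟨t, ht, hlk⟩
      apply hno
      have h1 := Cfsg.Agent.H41.spHas_rs_of_odd_ratio p r s hr hs hrp hsp hrs k l ηk ηl hk hl
        hηk hηl t ht hlk
      have h2 := Cfsg.Agent.H41.psp_eta_le p n hn1 s hs hs2 hsp hsG l ηl hl hηl
      obtain ⟨x, hx⟩ := Cfsg.Agent.H41.psp_of_spHas n hn1 (r * s) hodd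
        (Cfsg.Agent.H41.spHas_pad _ n _ h2 h1)
      exact ⟨x, hx⟩
  · rintro ⟨hlt, hnot⟩ ⟨x, hx⟩
    exact hnot (Cfsg.Agent.H41.psp_rs_odd_ratio p n hn1 r s hr hs hr2 hs2 hrp hsp x hx k l ηk ηl
      hk hl hηk hηl hkl hlt)

end Cfsg.Agent.S2469
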