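import Cfsg.Statements.S2476
import Cfsg.Agent.H41.PSL3Upper
import Cfsg.Agent.H41.PSL3Exist

set_option autoImplicit false
open Cfsg

namespace Cfsg.Agent.S2476

/-- The set of element orders of PSL(3,q): let F be a finite field of characteristic p with q elements and d = gcd(3, q − 1). The orders of elements of PSL(3,F) are exactly the divisors of (q² + q + 1)/d, of (q² − 1)/d, of q − 1, of p(q − 1)/d, and, when p = 2, of 4. -/
theorem result {F : Type*} [Field F] [Fintype F] (p : ℕ) [Fact p.Prime] [CharP F p] :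
    Set.range (orderOf : Matrix.ProjectiveSpecialLinearGroup (Fin 3) F → ℕ) =
      {m : ℕ | m ∣ (Fintype.card F ^ 2 + Fintype.card F + 1) / Nat.gcd 3 (Fintype.card F - 1) ∨
        m ∣ (Fintype.card F ^ 2 - 1) / Nat.gcd 3 (Fintype.card F - 1) ∨ m ∣ Fintype.card F - 1 ∨
        m ∣ p * (Fintype.card F - 1) / Nat.gcd 3 (Fintype.card F - 1) ∨ (p = 2 ∧ m ∣ 4)} := by
  have : Finite (Matrix.ProjectiveSpecialLinearGroup (Fin 3) F) := by
    unfold Matrix.ProjectiveSpecialLinearGroup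
    infer_instance
  have hdiv : ∀ (g : Matrix.ProjectiveSpecialLinearGroup (Fin 3) F) (m : ℕ), m ∣ orderOf g →
      m ∈ Set.range (orderOf : Matrix.ProjectiveSpecialLinearGroup (Fin 3) F → ℕ) := by
    intro g m hm
    obtain ⟨c, hc⟩ := hm
    have hpos : 0 < orderOf g := orderOf_pos g
    have hc0 : c ≠ 0 := by
      rintro rfl
      rw [mul_zero] at hc
      omega
    refine ⟨g ^ c, ?_⟩
    rw [orderOf_pow_of_dvd hc0 ⟨m, by rw [hc, mul_comm]⟩, hc,
      Nat.mul_div_cancel _ (Nat.pos_of_ne_zero hc0)]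
  ext m
  constructor
  · rintro ⟨x, rfl⟩
    obtain ⟨g, rfl⟩ := QuotientGroup.mk_surjective x
    exact Cfsg.Agent.H41.psl3_orderOf_cases p g
  · rintro (h | h | h | h | ⟨h2, h⟩)
    · obtain ⟨g, hg⟩ := Cfsg.Agent.H41.exists_psl3_orderOf_singer (F := F) p
      exact hdiv g m (hg ▸ h)
    · obtain ⟨g, hg⟩ := Cfsg.Agent.H41.exists_psl3_orderOf_quad (F := F) p
      exact hdiv g m (hg ▸ h)
    · obtain ⟨g, hg⟩ := Cfsg.Agent.H41.exists_psl3_orderOf_sub_one (F := F)
      exact hdiv g m (hg ▸ h)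
    · obtain ⟨g, hg⟩ := Cfsg.Agent.H41.exists_psl3_orderOf_char (F := F) p
      exact hdiv g m (hg ▸ h)
    · subst h2
      obtain ⟨g, hg⟩ := Cfsg.Agent.H41.exists_psl3_orderOf_four (F := F)
      exact hdiv g m (hg ▸ h)

end Cfsg.Agent.S2476
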