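import Cfsg.Statements.S2470
import Cfsg.Agent.H41.PSLnRP
import Cfsg.Agent.H41.PSL3Upper
import Cfsg.Agent.S2475
import Cfsg.Agent.S2476

set_option autoImplicit false
open Cfsg

namespace Cfsg.Agent.S2470

/-- Adjacency of an odd prime and the characteristic in the prime graph of PSL(n,q): let F be a finite field of characteristic p with q elements, n ≥ 2 with PSL(n,F) simple, and let r ≠ p be an odd prime dividing the order of PSL(n,F), with k the multiplicative order of q modulo r. Then PSL(n,F) has NO element of order r·p if and only if either k > n − 2, or n = 3, r = 3 and 3 divides q − 1 exactly once. -/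
theorem result {F : Type*} [Field F] [Fintype F] (p : ℕ) [Fact p.Prime] [CharP F p] (n : ℕ) (hn : 2 ≤ n) (hsmall : n = 2 → 4 ≤ Fintype.card F)
    (r : ℕ) (hr : r.Prime) (hr2 : r ≠ 2) (hrp : r ≠ p) (hrG : r ∣ Nat.card (Matrix.ProjectiveSpecialLinearGroup (Fin n) F))
    (k : ℕ) (hk : k = orderOf ((Fintype.card F : ℕ) : ZMod r)) :
    (r * p ∉ Set.range (orderOf : Matrix.ProjectiveSpecialLinearGroup (Fin n) F → ℕ)) ↔
      (n - 2 < k ∨ (n = 3 ∧ r = 3 ∧ 3 ∣ Fintype.card F - 1 ∧ ¬ 9 ∣ Fintype.card F - 1)) := by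
  have hp : p.Prime := Fact.out
  have hq : 2 ≤ Fintype.card F := Fintype.one_lt_card
  have hq1 : 1 ≤ Fintype.card F := by omega
  obtain ⟨f, -, hf⟩ := FiniteField.card F p
  have hpq : p ∣ Fintype.card F := by
    rw [hf]
    exact dvd_pow_self p f.ne_zero
  have hnp1 : ¬ p ∣ 1 := fun h => hp.one_lt.ne' (Nat.dvd_one.1 h)
  have hnpm : ¬ p ∣ Fintype.card F - 1 := by
    intro h
    have h1 : p ∣ (Fintype.card F - 1) + 1 := by
      rw [Nat.sub_add_cancel hq1]
      exact hpq
    exact hnp1 ((Nat.dvd_add_right h).1 h1)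
  have hnpp : ¬ p ∣ Fintype.card F + 1 := fun h => hnp1 ((Nat.dvd_add_right hpq).1 h)
  have hnrq : ¬ r ∣ Fintype.card F := by
    intro h
    rw [hf] at h
    exact hrp ((Nat.prime_dvd_prime_iff_eq hr hp).1 (hr.dvd_of_dvd_pow h))
  haveI := Fact.mk hr
  have hkpos : 0 < k := by
    rw [hk]
    have h0 : ((Fintype.card F : ℕ) : ZMod r) ≠ 0 := by
      intro h
      exact hnrq ((ZMod.natCast_eq_zero_iff _ _).1 h)
    have h1 := orderOf_dvd_of_pow_eq_one (ZMod.pow_card_sub_one_eq_one h0)
    exact Nat.pos_of_dvd_of_pos h1 (by have := hr.two_le; omega)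
  have hk1iff : k = 1 ↔ r ∣ Fintype.card F - 1 := by
    rw [hk]
    exact (Cfsg.Agent.H41.dvd_sub_one_iff r _ hq1).symm
  rcases (by omega : n = 2 ∨ n = 3 ∨ 4 ≤ n) with hn2 | hn3 | h4
  · subst hn2
    have hres := Cfsg.Agent.S2475.result (F := F) p (hsmall rfl)
    constructor
    · intro _
      left
      omega
    · intro _ hmem
      rw [hres] at hmem
      have hd1 : Nat.gcd 2 (Fintype.card F - 1) ∣ Fintype.card F - 1 := Nat.gcd_dvd_right _ _
      have hd2 : Nat.gcd 2 (Fintype.card F - 1) ∣ Fintype.card F + 1 := by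
        have e : Fintype.card F + 1 = (Fintype.card F - 1) + 2 := by omega
        rw [e]
        exact Nat.dvd_add hd1 (Nat.gcd_dvd_left _ _)
      rcases hmem with h | h | h
      · have h1 : r ∣ 1 := Nat.dvd_of_mul_dvd_mul_right hp.pos (by rwa [one_mul])
        exact hr.one_lt.ne' (Nat.dvd_one.1 h1)
      · exact hnpm (dvd_trans (dvd_mul_left p r) (dvd_trans h (Nat.div_dvd_of_dvd hd1)))
      · exact hnpp (dvd_trans (dvd_mul_left p r) (dvd_trans h (Nat.div_dvd_of_dvd hd2)))
  · subst hn3
    have hres := Cfsg.Agent.S2476.result (F := F) p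
    have hd1 : Nat.gcd 3 (Fintype.card F - 1) ∣ Fintype.card F - 1 := Nat.gcd_dvd_right _ _
    have hd2 := Cfsg.Agent.H41.gcd3_dvd_sq_add (Fintype.card F) hq1
    have hd3 : Nat.gcd 3 (Fintype.card F - 1) ∣ Fintype.card F ^ 2 - 1 := by
      have e : Fintype.card F ^ 2 - 1 = (Fintype.card F - 1) * (Fintype.card F + 1) := by
        obtain ⟨j, hj⟩ : ∃ j, Fintype.card F = j + 1 := ⟨Fintype.card F - 1, by omega⟩
        rw [hj]
        have : (j + 1) ^ 2 = j * (j + 1 + 1) + 1 := by ring
        rw [Nat.add_sub_cancel]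
        omega
      rw [e]
      exact Dvd.dvd.mul_right hd1 _
    have hnp_sq : ¬ p ∣ Fintype.card F ^ 2 + Fintype.card F + 1 := by
      intro h
      have e : Fintype.card F ^ 2 + Fintype.card F + 1 =
          Fintype.card F * (Fintype.card F + 1) + 1 := by ring
      rw [e] at h
      exact hnp1 ((Nat.dvd_add_right (Dvd.dvd.mul_right hpq _)).1 h)
    have hnp_sq1 : ¬ p ∣ Fintype.card F ^ 2 - 1 := by
      intro h
      have h1 : p ∣ (Fintype.card F ^ 2 - 1) + 1 := by
        rw [Nat.sub_add_cancel (Nat.one_le_pow _ _ hq1)]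
        exact Dvd.dvd.pow hpq (by norm_num)
      exact hnp1 ((Nat.dvd_add_right h).1 h1)
    have key : r * p ∈ Set.range (orderOf : Matrix.ProjectiveSpecialLinearGroup (Fin 3) F → ℕ) ↔
        r ∣ (Fintype.card F - 1) / Nat.gcd 3 (Fintype.card F - 1) := by
      rw [hres]
      constructor
      · rintro (h | h | h | h | ⟨h2, h⟩)
        · exact absurd (dvd_trans (dvd_mul_left p r) (dvd_trans h (Nat.div_dvd_of_dvd hd2))) hnp_sq
        · exact absurd (dvd_trans (dvd_mul_left p r) (dvd_trans h (Nat.div_dvd_of_dvd hd3)))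
            hnp_sq1
        · exact absurd (dvd_trans (dvd_mul_left p r) h) hnpm
        · rw [Nat.mul_div_assoc p hd1, mul_comm r p] at h
          exact Nat.dvd_of_mul_dvd_mul_left hp.pos h
        · exfalso
          rw [h2] at h
          have h3 : r ∣ 2 := Nat.dvd_of_mul_dvd_mul_right (by norm_num : 0 < 2) (by
            have e : (4 : ℕ) = 2 * 2 := by norm_num
            rwa [e] at h)
          exact hr2 ((Nat.prime_dvd_prime_iff_eq hr Nat.prime_two).1 h3)
      · intro h
        right; right; right; left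
        rw [Nat.mul_div_assoc p hd1, mul_comm r p]
        exact Nat.mul_dvd_mul_left p h
    rw [key]
    by_cases hrq : r ∣ Fintype.card F - 1
    · have hk1 : k = 1 := hk1iff.2 hrq
      by_cases hr3 : r = 3
      · subst hr3
        have hd : Nat.gcd 3 (Fintype.card F - 1) = 3 := Nat.gcd_eq_left hrq
        rw [hd]
        obtain ⟨e, he⟩ := hrq
        rw [he, Nat.mul_div_cancel_left e (by norm_num)]
        constructor
        · intro h
          right
          refine ⟨rfl, rfl, dvd_mul_right 3 e, ?_⟩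
          intro h9
          apply h
          have e9 : (9 : ℕ) = 3 * 3 := by norm_num
          rw [e9] at h9
          exact (Nat.mul_dvd_mul_iff_left (by norm_num : 0 < 3)).1 h9
        · rintro (h | ⟨-, -, -, h⟩) h3
          · omega
          · apply h
            have e9 : (9 : ℕ) = 3 * 3 := by norm_num
            rw [e9]
            exact Nat.mul_dvd_mul_left 3 h3
      · have hre : r ∣ (Fintype.card F - 1) / Nat.gcd 3 (Fintype.card F - 1) := by
          have hcop : Nat.Coprime r (Nat.gcd 3 (Fintype.card F - 1)) :=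
            Nat.Coprime.coprime_dvd_right (Nat.gcd_dvd_left 3 _)
              ((Nat.coprime_primes hr Nat.prime_three).2 hr3)
          have h1 : r ∣ Nat.gcd 3 (Fintype.card F - 1) *
              ((Fintype.card F - 1) / Nat.gcd 3 (Fintype.card F - 1)) := by
            rw [Nat.mul_div_cancel' hd1]
            exact hrq
          exact hcop.dvd_of_dvd_mul_left h1
        constructor
        · intro h
          exact absurd hre h
        · rintro (h | ⟨-, h, -⟩)
          · omega
          · exact absurd h hr3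
    · have hk1 : k ≠ 1 := fun h => hrq (hk1iff.1 h)
      constructor
      · intro _
        left
        omega
      · intro _ h
        exact hrq (dvd_trans h (Nat.div_dvd_of_dvd hd1))
  · constructor
    · intro hno
      left
      by_contra hcon
      apply hno
      by_cases hk1 : k = 1
      · obtain ⟨a, ha⟩ := Cfsg.Agent.H41.exists_orderOf_eq_of_dvd (F := F) r (hk1iff.1 hk1)
        obtain ⟨g, hg⟩ := Cfsg.Agent.H41.exists_psl_orderOf_rp_split p n h4 r hr hrp a ha
        exact ⟨g, hg⟩
      · haveI : NeZero k := ⟨by omega⟩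
        have hrq : ¬ r ∣ Fintype.card F - 1 := fun h => hk1 (hk1iff.2 h)
        obtain ⟨x, hx, hnx, -⟩ := Cfsg.Agent.H41.exists_orderOf_norm_one (F := F) p k r
          ((Cfsg.Agent.H41.dvd_pow_sub_one_iff r _ k hq1).2 (by rw [hk]))
          ((Nat.Prime.coprime_iff_not_dvd hr).2 hrq)
        obtain ⟨g, hg⟩ := Cfsg.Agent.H41.exists_psl_orderOf_rp_field p k n (by omega) r hr hrp
          x hx hnx
        exact ⟨g, hg⟩
    · rintro (h | ⟨h, -⟩) ⟨x, hx⟩
      · have h1 := Cfsg.Agent.H41.psl_rp_le p n (by omega) r hr hrp x hx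
        rw [← hk] at h1
        omega
      · omega

end Cfsg.Agent.S2470
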