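import Cfsg.Statements.S2472
import Cfsg.Agent.H41.PSpRP

set_option autoImplicit false
open Cfsg

namespace Cfsg.Agent.S2472

/-- Adjacency of a prime and the characteristic in the prime graph of PSp(2n,q): let F be a finite field of characteristic p with q elements, n ≥ 2 with PSp(2n,F) simple, and let r ≠ p be an odd prime dividing the order of PSp(2n,F), with k the multiplicative order of q modulo r and η(k) = k for odd k, k/2 for even k. Then PSp(2n,F) has NO element of order r·p if and only if η(k) > n − 1. -/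
theorem result {F : Type*} [Field F] [Fintype F] (p : ℕ) [Fact p.Prime] [CharP F p] (n : ℕ) (hn : 2 ≤ n) (hsmall : n = 2 → 3 ≤ Fintype.card F)
    (r : ℕ) (hr : r.Prime) (hr2 : r ≠ 2) (hrp : r ≠ p) (hrG : r ∣ Nat.card (Cfsg.PSp n F))
    (k ηk : ℕ) (hk : k = orderOf ((Fintype.card F : ℕ) : ZMod r)) (hηk : (Odd k ∧ ηk = k) ∨ (Even k ∧ 2 * ηk = k)) :
    (r * p ∉ Set.range (orderOf : Cfsg.PSp n F → ℕ)) ↔ n - 1 < ηk := by
  have hp : p.Prime := Fact.out
  have hq : 2 ≤ Fintype.card F := Fintype.one_lt_card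
  have hq1 : 1 ≤ Fintype.card F := by omega
  obtain ⟨f, -, hf⟩ := FiniteField.card F p
  have hnrq : ¬ r ∣ Fintype.card F := by
    intro h
    rw [hf] at h
    exact hrp ((Nat.prime_dvd_prime_iff_eq hr hp).1 (hr.dvd_of_dvd_pow h))
  haveI := Fact.mk hr
  have hkpos : 0 < k := by
    rw [hk]
    have h0 : ((Fintype.card F : ℕ) : ZMod r) ≠ 0 := by
      intro h
      exact hnrq ((ZMod.natCast_eq_zero_iff _ _).1 h)
    have h1 := orderOf_dvd_of_pow_eq_one (ZMod.pow_card_sub_one_eq_one h0)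
    exact Nat.pos_of_dvd_of_pos h1 (by have := hr.two_le; omega)
  constructor
  · intro hno
    by_contra hcon
    apply hno
    obtain ⟨m, rfl⟩ : ∃ m, n = m + 1 := ⟨n - 1, by omega⟩
    have hη1 : 1 ≤ ηk := by
      rcases hηk with ⟨-, h⟩ | ⟨-, h⟩ <;> omega
    have hηm : ηk ≤ m := by omega
    have hk2 : k ∣ 2 * ηk := by
      rcases hηk with ⟨-, h⟩ | ⟨-, h⟩
      · rw [h]
        exact dvd_mul_left k 2
      · rw [h]
    have hrdvd : r ∣ Nat.card (Matrix.symplecticGroup (Fin m) F) := by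
      rw [Cfsg.Agent.Lib.Helper5.SpCard.card_symplectic]
      apply Dvd.dvd.mul_left
      have hmem : ηk - 1 ∈ Finset.range m := by
        rw [Finset.mem_range]
        omega
      refine dvd_trans ?_ (Finset.dvd_prod_of_mem _ hmem)
      have e : ηk - 1 + 1 = ηk := by omega
      rw [e]
      exact (Cfsg.Agent.H41.dvd_pow_sub_one_iff r _ (2 * ηk) hq1).2 (by rw [← hk]; exact hk2)
    obtain ⟨g, hg⟩ := Cfsg.Agent.H41.exists_psp_orderOf_rp (F := F) p m r hr hrp hrdvd
    exact ⟨g, hg⟩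
  · rintro hlt ⟨x, hx⟩
    have h1 := Cfsg.Agent.H41.psp_rp_bound p n hn r hr hr2 hrp x hx
    rw [← hk] at h1
    rcases hηk with ⟨ho, h⟩ | ⟨he, h⟩
    · have := h1.1 ho
      omega
    · have := h1.2 he
      omega


end Cfsg.Agent.S2472
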