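import Cfsg.Statements.S2474
import Mathlib
import Cfsg.Agent.Lib.Helper44.PGFin
import Cfsg.Agent.Lib.Helper90.SPNOFX
import Cfsg.Agent.Lib.Helper86.SPCHARF
import Cfsg.Agent.Lib.Helper94.SPSIMEX
import Cfsg.Agent.Lib.Helper51.SPSIGN
import Cfsg.Agent.Lib.Helper90.SPEVEN
import Cfsg.Agent.Lib.Helper95.BCSPLIT
import Cfsg.Agent.Lib.Helper43.BCFORMS
import Cfsg.Agent.Lib.Helper95.BCBLOCKDIAG
import Cfsg.Agent.Lib.Helper58.BCBDDET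
import Cfsg.Agent.Lib.Helper34.BCBLOCKFACTS
import Cfsg.Agent.Lib.Helper95.BCIRRKILL
import Cfsg.Agent.Lib.Helper6.BCLevel
import Cfsg.Agent.Lib.Helper6.BCCount1
import Cfsg.Agent.Lib.Helper93.BCSIGNODD
import Cfsg.Agent.Lib.Helper93.BCTRANSFER
import Cfsg.Agent.Lib.Helper13.PGALTEVEN
import Cfsg.Agent.Lib.Helper13.PGBSUM
import Cfsg.Agent.Lib.Helper13.PGGBF
import Cfsg.Agent.Lib.Helper13.PGUNIP3
import Cfsg.Agent.Lib.Helper15.PGBNEC1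
import Cfsg.Agent.Lib.Helper15.PGBNEC2
import Cfsg.Agent.Lib.Helper15.PGCENTER
import Cfsg.Agent.Lib.Helper23.PGCNEC4
import Cfsg.Agent.Lib.Helper33.PGFO2
import Cfsg.Agent.Lib.Helper34.PGBSUF1
import Cfsg.Agent.Lib.Helper34.PGBSUF2
import Cfsg.Agent.Lib.Helper34.PGBSUF3
import Cfsg.Agent.Lib.Helper34.PGBSUF4
import Cfsg.Agent.Lib.Helper43.PGCNT1P
import Cfsg.Agent.Lib.Helper43.PGGDEC
import Cfsg.Agent.Lib.Helper43.PGOTP
import Cfsg.Agent.Lib.Helper53.PGPT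
import Cfsg.Agent.Lib.Helper53.PGTORB
import Cfsg.Agent.Lib.Helper57.PGOTM
import Cfsg.Agent.Lib.Helper58.PGSPSUM
import Cfsg.Agent.Lib.Helper58.PGSQFU
import Cfsg.Agent.Lib.Helper6.PGBNEC4
import Cfsg.Agent.Lib.Helper6.PGGNEC1
import Cfsg.Agent.Lib.Helper65.PGCSUF1
import Cfsg.Agent.Lib.Helper65.PGCSUF4
import Cfsg.Agent.Lib.Helper71.PGFO1
import Cfsg.Agent.Lib.Helper71.PGFO3
import Cfsg.Agent.Lib.Helper77.PGCNEC1
import Cfsg.Agent.Lib.Helper77.PGCNEC2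
import Cfsg.Agent.Lib.Helper82.PGCSUF2
import Cfsg.Agent.Lib.Helper82.PGCSUF3
import Cfsg.Agent.Lib.Helper87.PGOEMB
import Cfsg.Agent.Lib.Helper94.PGOSIM
import Cfsg.Agent.Lib.Helper94.PGSQMEM
import Cfsg.Agent.Lib.Helper99.PGGNEC2

set_option autoImplicit false
open Cfsg

namespace Cfsg.Agent.S2474


universe u

open Cfsg.Agent.Lib.Helper44.SMStmt Cfsg.Agent.Lib.Helper44.SPStmt Cfsg.Agent.Lib.Helper44.BCStmt
  Cfsg.Agent.Lib.Helper44.PGStmt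

theorem hNoFixIff : NoFixIff.{u} := Cfsg.Agent.Lib.Helper90.SPNOFX.main

theorem hDecomp : Decomp.{u} := Cfsg.Agent.Lib.Helper43.BCFORMS.main Cfsg.Agent.Lib.Helper95.BCSPLIT.main

theorem hLevel : Level.{u} := Cfsg.Agent.Lib.Helper6.BCLevel.main Cfsg.Agent.Lib.Helper94.SPSIMEX.main

theorem hCount1 : Count1.{u} := Cfsg.Agent.Lib.Helper6.BCCount1.main hLevel hNoFixIff

theorem hSignOdd : SignOdd.{u} := Cfsg.Agent.Lib.Helper93.BCSIGNODD.main Cfsg.Agent.Lib.Helper51.SPSIGN.main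

theorem hGDecomp : GDecomp.{u} := Cfsg.Agent.Lib.Helper43.PGGDEC.main Cfsg.Agent.Lib.Helper95.BCSPLIT.main

theorem hRootDvd : RootDvd.{u} := Cfsg.Agent.Lib.Helper33.PGFO2.main Cfsg.Agent.Lib.Helper71.PGFO1.main

theorem hGTorBound : GTorBound.{u} := Cfsg.Agent.Lib.Helper53.PGTORB.main hRootDvd Cfsg.Agent.Lib.Helper71.PGFO3.main

theorem hPrimeTor : PrimeTor.{u} := Cfsg.Agent.Lib.Helper53.PGPT.main hGDecomp hGTorBound

theorem hGNecI : GNecI.{u} :=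
  Cfsg.Agent.Lib.Helper6.PGGNEC1.main hGDecomp Cfsg.Agent.Lib.Helper95.BCBLOCKDIAG.main Cfsg.Agent.Lib.Helper34.BCBLOCKFACTS.main Cfsg.Agent.Lib.Helper13.PGGBF.main hPrimeTor hGTorBound

theorem hGNecII : GNecII.{u} :=
  Cfsg.Agent.Lib.Helper99.PGGNEC2.main hGDecomp Cfsg.Agent.Lib.Helper95.BCBLOCKDIAG.main Cfsg.Agent.Lib.Helper34.BCBLOCKFACTS.main hGTorBound hRootDvd Cfsg.Agent.Lib.Helper58.PGSQFU.main

theorem hCount1Plus : Count1Plus.{u} := Cfsg.Agent.Lib.Helper43.PGCNT1P.main hLevel hNoFixIff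

theorem hOEmbed : OEmbed.{u} := Cfsg.Agent.Lib.Helper87.PGOEMB.main Cfsg.Agent.Lib.Helper13.PGBSUM.main Cfsg.Agent.Lib.Helper94.PGOSIM.main

theorem hBNecIV : BNecIV.{u} :=
  Cfsg.Agent.Lib.Helper6.PGBNEC4.main hDecomp Cfsg.Agent.Lib.Helper95.BCBLOCKDIAG.main Cfsg.Agent.Lib.Helper34.BCBLOCKFACTS.main Cfsg.Agent.Lib.Helper58.BCBDDET.main hGTorBound Cfsg.Agent.Lib.Helper90.SPEVEN.main
    Cfsg.Agent.Lib.Helper93.BCTRANSFER.main hSignOdd hCount1 hCount1Plus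

theorem hBSufI : BSufI.{u} := Cfsg.Agent.Lib.Helper34.PGBSUF1.main Cfsg.Agent.Lib.Helper57.PGOTM.main Cfsg.Agent.Lib.Helper43.PGOTP.main Cfsg.Agent.Lib.Helper13.PGBSUM.main hOEmbed Cfsg.Agent.Lib.Helper94.PGSQMEM.main

theorem hBSufII : BSufII.{u} :=
  Cfsg.Agent.Lib.Helper34.PGBSUF2.main Cfsg.Agent.Lib.Helper57.PGOTM.main Cfsg.Agent.Lib.Helper43.PGOTP.main Cfsg.Agent.Lib.Helper13.PGBSUM.main hOEmbed Cfsg.Agent.Lib.Helper94.PGSQMEM.main Cfsg.Agent.Lib.Helper13.PGUNIP3.main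

theorem hBIII : BIII.{u} := Cfsg.Agent.Lib.Helper34.PGBSUF3.main Cfsg.Agent.Lib.Helper13.PGBSUM.main hOEmbed Cfsg.Agent.Lib.Helper94.PGSQMEM.main Cfsg.Agent.Lib.Helper13.PGUNIP3.main

theorem hBSufIV : BSufIV.{u} := Cfsg.Agent.Lib.Helper34.PGBSUF4.main Cfsg.Agent.Lib.Helper57.PGOTM.main Cfsg.Agent.Lib.Helper43.PGOTP.main Cfsg.Agent.Lib.Helper13.PGBSUM.main hOEmbed Cfsg.Agent.Lib.Helper94.PGSQMEM.main

theorem hCNecIV : CNecIV.{u} :=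
  Cfsg.Agent.Lib.Helper23.PGCNEC4.main hGDecomp Cfsg.Agent.Lib.Helper95.BCBLOCKDIAG.main Cfsg.Agent.Lib.Helper34.BCBLOCKFACTS.main Cfsg.Agent.Lib.Helper13.PGGBF.main Cfsg.Agent.Lib.Helper13.PGALTEVEN.main hPrimeTor hGTorBound


/-- For q odd and n ≥ 3 the simple groups PΩ(2n+1,q) and PSp(2n,q) (which have the same order but different sets of element orders) have the same prime graph: for all distinct primes r, s, one of them has an element of order r·s if and only if the other does. -/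
theorem result {F : Type*} [Field F] [Fintype F] (hodd : Odd (Fintype.card F)) (n : ℕ) (hn : 3 ≤ n) (r s : ℕ) (hr : r.Prime) (hs : s.Prime) (hrs : r ≠ s) :
    (r * s ∈ Set.range (orderOf : Cfsg.POmega F (Cfsg.quadFormOdd n F) → ℕ)) ↔ (r * s ∈ Set.range (orderOf : Cfsg.PSp n F → ℕ)) := by
  exact Cfsg.Agent.Lib.Helper44.PGFin.final_of Cfsg.Agent.Lib.Helper15.PGCENTER.main (Cfsg.Agent.Lib.Helper15.PGBNEC1.main hGNecI) hBSufI
    (Cfsg.Agent.Lib.Helper15.PGBNEC2.main hGNecII) hBSufII hBIII hBNecIV hBSufIV (Cfsg.Agent.Lib.Helper77.PGCNEC1.main hGNecI) (Cfsg.Agent.Lib.Helper65.PGCSUF1.main Cfsg.Agent.Lib.Helper58.PGSPSUM.main)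
    (Cfsg.Agent.Lib.Helper77.PGCNEC2.main hGNecII) (Cfsg.Agent.Lib.Helper82.PGCSUF2.main Cfsg.Agent.Lib.Helper58.PGSPSUM.main) (Cfsg.Agent.Lib.Helper82.PGCSUF3.main Cfsg.Agent.Lib.Helper58.PGSPSUM.main) hCNecIV (Cfsg.Agent.Lib.Helper65.PGCSUF4.main Cfsg.Agent.Lib.Helper58.PGSPSUM.main)
    hodd n hn r s hr hs hrs

end Cfsg.Agent.S2474
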