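import Cfsg.Statements.S2477
import Cfsg.Agent.H41.AltOrders

set_option autoImplicit false
open Cfsg

namespace Cfsg.Agent.S2477

/-- All triples (sum, card even?, lcm) of multisets of naturals `≥ 2` with sum `≤ 10`. -/
def triples : List (ℕ × Bool × ℕ) :=
  [(0, true, 1), (2, false, 2), (3, false, 3), (4, false, 4), (4, true, 2), (5, false, 5),
   (5, true, 6), (6, false, 2), (6, false, 6), (6, true, 3), (6, true, 4), (7, false, 6),
   (7, false, 7), (7, true, 10), (7, true, 12), (8, false, 4), (8, false, 6), (8, false, 8),
   (8, true, 2), (8, true, 4), (8, true, 6), (8, true, 15), (9, false, 3), (9, false, 9),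
   (9, false, 10), (9, false, 12), (9, true, 6), (9, true, 14), (9, true, 20), (10, false, 2),
   (10, false, 4), (10, false, 6), (10, false, 10), (10, false, 12), (10, false, 30),
   (10, true, 4), (10, true, 5), (10, true, 6), (10, true, 8), (10, true, 12), (10, true, 21)]

theorem triples_closed : ∀ t ∈ triples, ∀ a ∈ List.range' 2 9, t.1 + a ≤ 10 →
    (t.1 + a, !t.2.1, Nat.lcm a t.2.2) ∈ triples := by
  decide

theorem triples_orders : ∀ t ∈ triples, (t.1 % 2 == 0) = t.2.1 →
    t.2.2 ∈ [1, 2, 3, 4, 5, 6, 7, 8, 9, 10, 12, 15, 21] := by
  decide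

theorem mem_triples (s : Multiset ℕ) (h2 : ∀ a ∈ s, 2 ≤ a) (hsum : s.sum ≤ 10) :
    (s.sum, decide (Even (Multiset.card s)), s.lcm) ∈ triples := by
  induction s using Multiset.induction_on with
  | empty => decide
  | cons a s ih =>
    have ha2 : 2 ≤ a := h2 a (Multiset.mem_cons_self a s)
    rw [Multiset.sum_cons] at hsum
    have ih' := ih (fun b hb => h2 b (Multiset.mem_cons_of_mem hb)) (by omega)
    have hmem : a ∈ List.range' 2 9 := by
      rw [List.mem_range']
      exact ⟨a - 2, by omega, by omega⟩
    have := triples_closed _ ih' a hmem (by simpa [add_comm] using hsum)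
    rw [Multiset.sum_cons, Multiset.card_cons, Multiset.lcm_cons]
    have hpar : decide (Even (Multiset.card s + 1)) = !decide (Even (Multiset.card s)) := by
      by_cases h : Even (Multiset.card s)
      · have : ¬ Even (Multiset.card s + 1) := by
          rw [Nat.even_add_one]; simpa using h
        simp [h, this]
      · have : Even (Multiset.card s + 1) := by
          rw [Nat.even_add_one]; exact h
        simp [h, this]
    rw [hpar, add_comm a]
    exact this

open Cfsg.Agent.H41 in
/-- The set of element orders of the alternating group of degree 10 is {1, 2, 3, 4, 5, 6, 7, 8, 9, 10, 12, 15, 21}. -/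
theorem result : Set.range (orderOf : alternatingGroup (Fin 10) → ℕ) = {1, 2, 3, 4, 5, 6, 7, 8, 9, 10, 12, 15, 21} := by
  ext m
  rw [mem_range_orderOf_alt_iff]
  constructor
  · rintro ⟨s, h2, hsum, hev, rfl⟩
    have h1 := mem_triples s h2 hsum
    have h3 := triples_orders _ h1 (by
      show (s.sum % 2 == 0) = decide (Even (Multiset.card s))
      rcases Nat.even_or_odd (Multiset.card s) with hc | hc
      · have hs : Even s.sum := by
          rcases Nat.even_or_odd s.sum with h | h
          · exact h
          · exact absurd hev (by rw [Nat.not_even_iff_odd]; exact h.add_even hc)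
        have : s.sum % 2 = 0 := Nat.even_iff.1 hs
        simp [hc, this]
      · have hs : Odd s.sum := by
          rcases Nat.even_or_odd s.sum with h | h
          · exact absurd hev (by rw [Nat.not_even_iff_odd]; exact h.add_odd hc)
          · exact h
        have h1 : s.sum % 2 = 1 := Nat.odd_iff.1 hs
        have h2 : ¬ Even (Multiset.card s) := Nat.not_even_iff_odd.2 hc
        simp [h1, h2])
    simp only [List.mem_cons, List.not_mem_nil, or_false] at h3
    simpa using h3
  · intro hm
    simp only [Set.mem_insert_iff, Set.mem_singleton_iff] at hm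
    rcases hm with rfl | rfl | rfl | rfl | rfl | rfl | rfl | rfl | rfl | rfl | rfl | rfl | rfl
    · exact ⟨0, by decide, by decide, by decide, by decide⟩
    · exact ⟨{2, 2}, by decide, by decide, by decide, by decide⟩
    · exact ⟨{3}, by decide, by decide, by decide, by decide⟩
    · exact ⟨{4, 2}, by decide, by decide, by decide, by decide⟩
    · exact ⟨{5}, by decide, by decide, by decide, by decide⟩
    · exact ⟨{3, 2, 2}, by decide, by decide, by decide, by decide⟩
    · exact ⟨{7}, by decide, by decide, by decide, by decide⟩
    · exact ⟨{8, 2}, by decide, by decide, by decide, by decide⟩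
    · exact ⟨{9}, by decide, by decide, by decide, by decide⟩
    · exact ⟨{5, 2, 2}, by decide, by decide, by decide, by decide⟩
    · exact ⟨{4, 3, 2}, by decide, by decide, by decide, by decide⟩
    · exact ⟨{5, 3}, by decide, by decide, by decide, by decide⟩
    · exact ⟨{7, 3}, by decide, by decide, by decide, by decide⟩

end Cfsg.Agent.S2477
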