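import Cfsg.Statements.S2495
import Mathlib
import Cfsg.Agent.S2904
import Cfsg.Agent.Lib.Helper42.SingerA

set_option autoImplicit false
open Cfsg

namespace Cfsg.Agent.S2495

open Cfsg.Agent.Lib.Helper42.PslOrdB Cfsg.Agent.Lib.Helper42.SingerA

section main
variable {F : Type*} [Field F] [Fintype F]

theorem forward (hodd : Odd (Fintype.card F)) (m : ℕ) (hm : 2 ≤ m)
    (g : Matrix.ProjectiveSpecialLinearGroup (Fin (m + m)) F)
    (hg : orderOf g = Fintype.card F ^ m + 1) :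
    Nat.gcd (m + m) (Fintype.card F - 1) ∣ m := by
  have hne : NeZero (m + m) := ⟨by omega⟩
  have hq1 : 1 < Fintype.card F := Fintype.one_lt_card
  obtain ⟨q, hq⟩ : ∃ q, q = Fintype.card F := ⟨_, rfl⟩
  rw [← hq] at hodd hg hq1 ⊢
  have hq3 : 3 ≤ q := by
    obtain ⟨k, hk⟩ := hodd
    omega
  obtain ⟨r, hr, hrdvd, hprim⟩ := Cfsg.Agent.S2904.result q (m + m) hq1 (by omega)
    (by
      rintro ⟨h, -⟩
      rw [h] at hodd
      exact (by decide : ¬ Odd 2) hodd)
    (by
      rintro ⟨h, -⟩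
      omega)
  have hqm : 1 ≤ q ^ m := Nat.one_le_pow _ _ (by omega)
  have hfac : q ^ (m + m) - 1 = (q ^ m - 1) * (q ^ m + 1) := by
    have h1 : q ^ (m + m) = q ^ m * q ^ m := pow_add _ _ _
    have h2 : (q ^ m - 1) * (q ^ m + 1) + 1 = q ^ m * q ^ m := by
      obtain ⟨y, hy⟩ : ∃ y, q ^ m = y + 1 := ⟨q ^ m - 1, by omega⟩
      rw [hy]
      simp only [Nat.add_sub_cancel]
      ring
    omega
  have hrm : r ∣ q ^ m + 1 := by
    rw [hfac] at hrdvd
    rcases (Nat.Prime.dvd_mul hr).mp hrdvd with h | h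
    · exact absurd h (hprim m (by omega) (by omega))
    · exact h
  have hrq : ¬ r ∣ q := by
    intro h
    have h1 : r ∣ q ^ (m + m) := dvd_pow h (by omega)
    have h2 : 1 ≤ q ^ (m + m) := Nat.one_le_pow _ _ (by omega)
    have h3 : r ∣ 1 := by
      have := Nat.dvd_sub h1 hrdvd
      rwa [Nat.sub_sub_self h2] at this
    exact hr.one_lt.ne' (Nat.dvd_one.mp h3)
  have hrq1 : ¬ r ∣ q - 1 := by
    have := hprim 1 (by omega) (by omega)
    rwa [pow_one] at this
  obtain ⟨T, hT⟩ := hrm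
  have hT0 : 0 < T := by
    rcases Nat.eq_zero_or_pos T with rfl | h
    · omega
    · exact h
  obtain ⟨G, hG⟩ := pr_surjective g
  obtain ⟨C, hC⟩ : ∃ C : Matrix (Fin (m + m)) (Fin (m + m)) F, C = G := ⟨_, rfl⟩
  have hCdet : C.det = 1 := by
    rw [hC]
    exact G.2
  obtain ⟨c, hc⟩ := (pr_pow_eq_one_iff G (q ^ m + 1)).mp (by
    rw [hG, ← hg]
    exact pow_orderOf_eq_one g)
  rw [← hC] at hc
  have hc0 : c ≠ 0 := by
    rintro rfl
    rw [zero_smul] at hc
    have h1 := congrArg Matrix.det hc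
    have hnon : Nonempty (Fin (m + m)) := ⟨⟨0, by omega⟩⟩
    rw [Matrix.det_pow, hCdet, one_pow, Matrix.det_zero] at h1
    exact one_ne_zero h1
  obtain ⟨S, hS⟩ : ∃ S : Matrix (Fin (m + m)) (Fin (m + m)) F, S = C ^ (T * (q - 1)) := ⟨_, rfl⟩
  have hSr : S ^ r = 1 := by
    have h1 : T * (q - 1) * r = (q ^ m + 1) * (q - 1) := by
      rw [hT]
      ring
    rw [hS, ← pow_mul, h1, pow_mul, hc, smul_pow, one_pow, hq,
      FiniteField.pow_card_sub_one_eq_one c hc0, one_smul]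
  have hS1 : S ≠ 1 := by
    intro h
    have h1 : (pr G) ^ (T * (q - 1)) = 1 := by
      rw [pr_pow_eq_one_iff]
      exact ⟨1, by rw [← hC, ← hS, h, one_smul]⟩
    rw [hG] at h1
    have h2 := orderOf_dvd_of_pow_eq_one h1
    rw [hg, hT, mul_comm r T] at h2
    exact hrq1 ((Nat.mul_dvd_mul_iff_left hT0).mp h2)
  obtain ⟨hirr, hdeg⟩ := minpoly_of_ppd r hr (by rw [← hq]; exact hrq)
    (by rw [← hq]; exact hprim) S hSr hS1
  have hcomm : C * S = S * C := by
    rw [hS, ← pow_succ', ← pow_succ]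
  obtain ⟨d, hd⟩ : ∃ d, d = Nat.gcd (m + m) (q - 1) := ⟨_, rfl⟩
  rw [← hd]
  have hd1 : d ∣ q - 1 := by
    rw [hd]
    exact Nat.gcd_dvd_right _ _
  have hd2 : d ∣ gs q (m + m) := by
    rw [dvd_gs_iff q (m + m) d (by omega) hd1, hd]
    exact Nat.gcd_dvd_left _ _
  obtain ⟨c', hc'⟩ := pow_eq_smul_of_commute S hirr hdeg C hcomm hCdet d
    (by rw [← hq]; exact hd1) (by rw [← hq]; exact hd2)
  rw [← hq] at hc'
  have h3 : (pr G) ^ (gs q (m + m) / d) = 1 := by
    rw [pr_pow_eq_one_iff]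
    exact ⟨c', by rw [← hC, hc']⟩
  rw [hG] at h3
  have h4 := orderOf_dvd_of_pow_eq_one h3
  rw [hg, gs_double] at h4
  obtain ⟨E, hE⟩ := hd2
  rw [gs_double] at hE
  have hd0 : 0 < d := by
    rcases Nat.eq_zero_or_pos d with rfl | h
    · rw [zero_mul] at hE
      have := gs_pos q m (by omega) (by omega)
      have h5 : 0 < (q ^ m + 1) * gs q m := Nat.mul_pos (by omega) this
      omega
    · exact h
  rw [hE, Nat.mul_div_cancel_left _ hd0] at h4
  obtain ⟨E', hE'⟩ := h4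
  rw [hE'] at hE
  have h5 : gs q m = d * E' := by
    have h6 : (q ^ m + 1) * gs q m = (q ^ m + 1) * (d * E') := by
      rw [hE]
      ring
    exact Nat.eq_of_mul_eq_mul_left (by omega) h6
  rw [← dvd_gs_iff q m d (by omega) hd1, h5]
  exact Dvd.intro _ rfl

theorem backward (m : ℕ) (hm : 2 ≤ m)
    (hd : Nat.gcd (m + m) (Fintype.card F - 1) ∣ m) (t : ℕ)
    (ht : Fintype.card F - 1 = Nat.gcd (m + m) (Fintype.card F - 1) * t) (htodd : Odd t) :
    ∃ g : Matrix.ProjectiveSpecialLinearGroup (Fin (m + m)) F,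
      orderOf g = Fintype.card F ^ m + 1 := by
  have hne : NeZero (m + m) := ⟨by omega⟩
  have hq1 : 1 < Fintype.card F := Fintype.one_lt_card
  obtain ⟨A, hA⟩ := exists_singer (F := F) (n := m + m)
    (gs (Fintype.card F) m / Nat.gcd (m + m) (Fintype.card F - 1))
  obtain ⟨q, hq⟩ : ∃ q, q = Fintype.card F := ⟨_, rfl⟩
  rw [← hq] at hd ht hq1 hA ⊢
  obtain ⟨d, hdd⟩ : ∃ d, d = Nat.gcd (m + m) (q - 1) := ⟨_, rfl⟩
  rw [← hdd] at hd ht hA
  have hd1 : d ∣ q - 1 := ⟨t, ht⟩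
  have hdgs : d ∣ gs q m := (dvd_gs_iff q m d (by omega) hd1).mpr hd
  obtain ⟨e, he⟩ := hdgs
  have hd0 : 0 < d := by
    rcases Nat.eq_zero_or_pos d with rfl | h
    · rw [zero_mul] at ht
      omega
    · exact h
  have he0 : 0 < e := by
    rcases Nat.eq_zero_or_pos e with rfl | h
    · rw [mul_zero] at he
      have := gs_pos q m (by omega) (by omega)
      omega
    · exact h
  rw [he, Nat.mul_div_cancel_left _ hd0] at hA
  have hcop : Nat.Coprime (q ^ m + 1) t := by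
    have hg1 : Nat.gcd (q ^ m + 1) t ∣ q ^ m - 1 := by
      refine (Nat.gcd_dvd_right _ _).trans ?_
      refine (Dvd.intro_left d ht.symm).trans ?_
      exact ⟨gs q m, (gs_mul q m (by omega)).symm⟩
    have hqm : 1 ≤ q ^ m := Nat.one_le_pow _ _ (by omega)
    have hg2 : Nat.gcd (q ^ m + 1) t ∣ 2 := by
      have h1 : Nat.gcd (q ^ m + 1) t ∣ (q ^ m - 1) + 2 := by
        have h2 : q ^ m - 1 + 2 = q ^ m + 1 := by omega
        rw [h2]
        exact Nat.gcd_dvd_left _ _
      exact (Nat.dvd_add_right hg1).mp h1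
    rcases (Nat.dvd_prime Nat.prime_two).mp hg2 with h | h
    · exact h
    · exfalso
      have h1 : 2 ∣ t := by
        rw [← h]
        exact Nat.gcd_dvd_right _ _
      exact (Nat.not_even_iff_odd.mpr htodd) (even_iff_two_dvd.mpr h1)
  refine ⟨pr A, ?_⟩
  have key : ∀ j : ℕ, (pr A) ^ j = 1 ↔ q ^ m + 1 ∣ j := by
    intro j
    rw [pr_pow_eq_one_iff, hA, gs_double, he, ht]
    have h1 : (q ^ m + 1) * (d * e) = (d * e) * (q ^ m + 1) := by ring
    have h2 : d * t * e * j = (d * e) * (t * j) := by ring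
    rw [h1, h2, Nat.mul_dvd_mul_iff_left (Nat.mul_pos hd0 he0)]
    exact Nat.Coprime.dvd_mul_left hcop
  exact Nat.dvd_antisymm (orderOf_dvd_of_pow_eq_one ((key _).mpr dvd_rfl))
    ((key _).mp (pow_orderOf_eq_one _))

end main

/-- Let q be an odd prime power, n ≥ 4 even, and L = PSL(n,q). Then L has an element of order q^(n/2) + 1 if and only if the 2-part of n exceeds the 2-part of q − 1. -/
theorem result {F : Type*} [Field F] [Fintype F] {q : ℕ} (hF : Fintype.card F = q) (hodd : Odd q)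
    {n : ℕ} (hn : 4 ≤ n) (heven : Even n) :
    (∃ g : Matrix.ProjectiveSpecialLinearGroup (Fin n) F, orderOf g = q ^ (n / 2) + 1) ↔
      padicValNat 2 (q - 1) < padicValNat 2 n := by
  subst hF
  obtain ⟨m, rfl⟩ := heven
  have hm : 2 ≤ m := by omega
  have hdiv : (m + m) / 2 = m := by omega
  rw [hdiv]
  have hq1 : 1 < Fintype.card F := Fintype.one_lt_card
  have hq0 : Fintype.card F - 1 ≠ 0 := by omega
  have hn0 : m + m ≠ 0 := by omega
  constructor
  · rintro ⟨g, hg⟩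
    have h1 := forward hodd m hm g hg
    by_contra hcon
    push Not at hcon
    have h2 : 2 ^ padicValNat 2 (m + m) ∣ m + m := pow_padicValNat_dvd
    have h3 : 2 ^ padicValNat 2 (m + m) ∣ Fintype.card F - 1 :=
      (pow_dvd_pow 2 hcon).trans pow_padicValNat_dvd
    have h4 : 2 ^ padicValNat 2 (m + m) ∣ m := (Nat.dvd_gcd h2 h3).trans h1
    have h5 : 2 ^ (padicValNat 2 (m + m) + 1) ∣ m + m := by
      obtain ⟨a, ha⟩ : ∃ a, a = padicValNat 2 (m + m) := ⟨_, rfl⟩
      rw [← ha] at h4 ⊢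
      obtain ⟨w, hw⟩ := h4
      refine ⟨w, ?_⟩
      rw [pow_succ]
      nth_rewrite 1 [hw]
      nth_rewrite 1 [hw]
      ring
    exact pow_succ_padicValNat_not_dvd hn0 h5
  · intro hlt
    have h1 : 2 ^ (padicValNat 2 (Fintype.card F - 1) + 1) ∣ m + m :=
      (pow_dvd_pow 2 hlt).trans pow_padicValNat_dvd
    have h2 : ¬ 2 ^ (padicValNat 2 (Fintype.card F - 1) + 1) ∣ Fintype.card F - 1 :=
      pow_succ_padicValNat_not_dvd hq0
    obtain ⟨s, hs⟩ := Nat.gcd_dvd_left (m + m) (Fintype.card F - 1)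
    obtain ⟨t, ht⟩ := Nat.gcd_dvd_right (m + m) (Fintype.card F - 1)
    have hd : Nat.gcd (m + m) (Fintype.card F - 1) ∣ m := by
      rcases Nat.even_or_odd s with hs2 | hs2
      · obtain ⟨s', hs'⟩ := hs2
        refine ⟨s', ?_⟩
        rw [hs', mul_add] at hs
        omega
      · exfalso
        apply h2
        have hcop : Nat.Coprime (2 ^ (padicValNat 2 (Fintype.card F - 1) + 1)) s :=
          Nat.Coprime.pow_left _ (Nat.coprime_two_left.mpr hs2)
        have h3 : 2 ^ (padicValNat 2 (Fintype.card F - 1) + 1) ∣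
            Nat.gcd (m + m) (Fintype.card F - 1) * s := by
          rw [← hs]
          exact h1
        exact (hcop.dvd_of_dvd_mul_right h3).trans (Nat.gcd_dvd_right _ _)
    have htodd : Odd t := by
      by_contra hnodd
      rw [Nat.not_odd_iff_even] at hnodd
      obtain ⟨t', ht'⟩ := hnodd
      apply h2
      have h3 : 2 ^ padicValNat 2 (Fintype.card F - 1) ∣ Nat.gcd (m + m) (Fintype.card F - 1) :=
        Nat.dvd_gcd ((pow_dvd_pow 2 (Nat.le_succ _)).trans h1) pow_padicValNat_dvd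
      obtain ⟨d', hd'⟩ := h3
      refine ⟨d' * t', ?_⟩
      rw [pow_succ]
      nth_rewrite 1 [ht]
      rw [hd', ht']
      ring
    exact backward m hm hd t ht htodd

end Cfsg.Agent.S2495
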