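import Cfsg.Statements.S2496
import Mathlib
import Cfsg.Agent.S2904
import Cfsg.Agent.Lib.Helper42.SingerU

set_option autoImplicit false
open Cfsg

namespace Cfsg.Agent.S2496

open Polynomial Matrix
open Cfsg.Agent.Lib.Helper40.HermAdj
open Cfsg.Agent.Lib.Helper42.PsuOrdA Cfsg.Agent.Lib.Helper42.PsuOrdB
open Cfsg.Agent.Lib.Helper42.PsuOrdC Cfsg.Agent.Lib.Helper42.PsuOrdE
open Cfsg.Agent.Lib.Helper42.SingerA Cfsg.Agent.Lib.Helper42.SingerU

section ppd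

theorem ppd_even (q k : ℕ) (hq : 1 < q) (hodd : Odd q) (hk : 1 ≤ k) :
    ∃ r : ℕ, r.Prime ∧ r ∣ q ^ (k + k) + 1 ∧ ¬ r ∣ q ∧
      (∀ j, 0 < j → j < k + k → ¬ r ∣ (q ^ 2) ^ j - 1) ∧ (∀ d, Odd d → ¬ r ∣ q ^ d + 1) := by
  obtain ⟨m, hm⟩ : ∃ m, m = k + k := ⟨_, rfl⟩
  rw [← hm]
  obtain ⟨r, hr, hrdvd, hprim⟩ := Cfsg.Agent.S2904.result q (m + m) hq (by omega)
    (by
      rintro ⟨h, -⟩
      rw [h] at hodd
      exact (by decide : ¬ Odd 2) hodd)
    (by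
      rintro ⟨h, -⟩
      omega)
  have hq1 : 1 ≤ q := by omega
  refine ⟨r, hr, ?_, ?_, ?_, ?_⟩
  · rw [pow_double_sub_one q m hq1] at hrdvd
    rcases (Nat.Prime.dvd_mul hr).mp hrdvd with h | h
    · exact absurd h (hprim m (by omega) (by omega))
    · exact h
  · intro h
    have h1 : r ∣ q ^ (m + m) := dvd_pow h (by omega)
    have h2 : 1 ≤ q ^ (m + m) := Nat.one_le_pow _ _ hq1
    have h3 : r ∣ 1 := by
      have := Nat.dvd_sub h1 hrdvd
      rwa [Nat.sub_sub_self h2] at this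
    exact hr.one_lt.ne' (Nat.dvd_one.mp h3)
  · intro j hj0 hjm h
    rw [← pow_mul, two_mul] at h
    exact hprim (j + j) (by omega) (by omega) h
  · intro d hd h
    have h1 : r ∣ q ^ (d + d) - 1 := by
      rw [pow_double_sub_one q d hq1]
      exact Dvd.dvd.mul_left h _
    have h2 : r ∣ Nat.gcd (q ^ (m + m) - 1) (q ^ (d + d) - 1) := Nat.dvd_gcd hrdvd h1
    rw [Nat.pow_sub_one_gcd_pow_sub_one] at h2
    have hg0 : 0 < Nat.gcd (m + m) (d + d) := Nat.gcd_pos_of_pos_left _ (by omega)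
    have hgle : Nat.gcd (m + m) (d + d) ≤ m + m := Nat.gcd_le_left _ (by omega)
    by_cases hlt : Nat.gcd (m + m) (d + d) < m + m
    · exact hprim _ hg0 hlt h2
    · have heq : Nat.gcd (m + m) (d + d) = m + m := by omega
      have h3 : m + m ∣ d + d := by
        rw [← heq]
        exact Nat.gcd_dvd_right _ _
      have h4 : m ∣ d := by
        rw [← two_mul, ← two_mul] at h3
        exact (Nat.mul_dvd_mul_iff_left (by norm_num)).mp h3
      have h5 : 2 ∣ d := (Dvd.intro k (by rw [hm]; ring)).trans h4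
      exact (Nat.not_even_iff_odd.mpr hd) (even_iff_two_dvd.mpr h5)

theorem ppd_odd (q k : ℕ) (hq : 1 < q) (hodd : Odd q) (hk : 1 ≤ k) :
    ∃ r : ℕ, r.Prime ∧ r ∣ q ^ (2 * k + 1) - 1 ∧ ¬ r ∣ q ∧
      (∀ j, 0 < j → j < 2 * k + 1 → ¬ r ∣ (q ^ 2) ^ j - 1) ∧
      (∀ d, Odd d → ¬ r ∣ q ^ d + 1) := by
  obtain ⟨m, hm⟩ : ∃ m, m = 2 * k + 1 := ⟨_, rfl⟩
  rw [← hm]
  have hmodd : Odd m := ⟨k, hm⟩
  obtain ⟨r, hr, hrdvd, hprim⟩ := Cfsg.Agent.S2904.result q m hq (by omega)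
    (by
      rintro ⟨h, -⟩
      rw [h] at hodd
      exact (by decide : ¬ Odd 2) hodd)
    (by
      rintro ⟨h, -⟩
      omega)
  have hq1 : 1 ≤ q := by omega
  refine ⟨r, hr, hrdvd, ?_, ?_, ?_⟩
  · intro h
    have h1 : r ∣ q ^ m := dvd_pow h (by omega)
    have h2 : 1 ≤ q ^ m := Nat.one_le_pow _ _ hq1
    have h3 : r ∣ 1 := by
      have := Nat.dvd_sub h1 hrdvd
      rwa [Nat.sub_sub_self h2] at this
    exact hr.one_lt.ne' (Nat.dvd_one.mp h3)
  · intro j hj0 hjm h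
    rw [← pow_mul] at h
    have h2 : r ∣ Nat.gcd (q ^ m - 1) (q ^ (2 * j) - 1) := Nat.dvd_gcd hrdvd h
    rw [Nat.pow_sub_one_gcd_pow_sub_one] at h2
    have hg0 : 0 < Nat.gcd m (2 * j) := Nat.gcd_pos_of_pos_left _ (by omega)
    have hgle : Nat.gcd m (2 * j) ≤ m := Nat.gcd_le_left _ (by omega)
    by_cases hlt : Nat.gcd m (2 * j) < m
    · exact hprim _ hg0 hlt h2
    · have heq : Nat.gcd m (2 * j) = m := by omega
      have h3 : m ∣ 2 * j := by
        rw [← heq]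
        exact Nat.gcd_dvd_right _ _
      have hcop : Nat.Coprime m 2 := Nat.coprime_two_right.mpr hmodd
      have h4 : m ∣ j := hcop.dvd_of_dvd_mul_left h3
      have := Nat.le_of_dvd hj0 h4
      omega
  · intro d hd h
    have h1 : r ∣ q ^ (d * m) + 1 := by
      have := Odd.nat_add_dvd_pow_add_pow (q ^ d) 1 hmodd
      rw [one_pow, ← pow_mul] at this
      exact h.trans this
    have h2 : r ∣ q ^ (d * m) - 1 := by
      have := Nat.sub_one_dvd_pow_sub_one (q ^ m) d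
      rw [← pow_mul, mul_comm m d] at this
      exact hrdvd.trans this
    have h6 : 1 ≤ q ^ (d * m) := Nat.one_le_pow _ _ hq1
    have h3 : r ∣ 2 := by
      have h7 : q ^ (d * m) + 1 = (q ^ (d * m) - 1) + 2 := by omega
      rw [h7] at h1
      exact (Nat.dvd_add_right h2).mp h1
    have h4 : r = 2 := (Nat.prime_dvd_prime_iff_eq hr Nat.prime_two).mp h3
    have h5 : r ∣ q ^ 1 - 1 := by
      rw [h4, pow_one]
      obtain ⟨c, hc⟩ := hodd
      exact ⟨c, by omega⟩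
    exact hprim 1 (by omega) (by omega) h5

end ppd

section main
variable {F : Type*} [Field F] [Fintype F] {q : ℕ}

theorem forwardU (hF : Fintype.card F = q ^ 2) (m : ℕ) (hm : 2 ≤ m) (p a : ℕ)
    [hp : Fact p.Prime] [CharP F p] (hq : q = p ^ a) (φ : F →+* F) (hφ : ∀ x, φ x = x ^ q)
    (hφ2 : ∀ x, φ (φ x) = x) (o Ω r : ℕ) (hN1 : (q - 1) * gs (q ^ 2) m = o * Ω)
    (hN2 : ∀ d, d ∣ q + 1 → (d ∣ Ω ↔ d ∣ m)) (ho0 : 0 < o)
    (hr : r.Prime) (hro : r ∣ o) (hrq : ¬ r ∣ q)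
    (hprim : ∀ k, 0 < k → k < m → ¬ r ∣ (q ^ 2) ^ k - 1)
    (hsd : ∀ d, Odd d → ¬ r ∣ q ^ d + 1)
    (g : Cfsg.PSU (m + m) F q) (hg : orderOf g = o) : Nat.gcd (m + m) (q + 1) ∣ m := by
  have hne : NeZero (m + m) := ⟨by omega⟩
  have hq1 : 1 < q := one_lt_q hF
  obtain ⟨G, hG⟩ := pr_surjective g
  obtain ⟨C, hC⟩ : ∃ C : Matrix (Fin (m + m)) (Fin (m + m)) F, C = mat G := ⟨_, rfl⟩
  have hCdet : C.det = 1 := by
    rw [hC]
    exact mat_det G
  have hCU : adj φ C * C = 1 := by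
    rw [hC]
    exact mat_unitary φ hφ G
  have hprj : ∀ j : ℕ, g ^ j = 1 ↔
      ∃ c : F, C ^ j = c • (1 : Matrix (Fin (m + m)) (Fin (m + m)) F) := by
    intro j
    rw [← hG, hC]
    exact pr_pow_eq_one_iff hF (by omega) G j
  obtain ⟨c, hc⟩ := (hprj o).mp (by rw [← hg]; exact pow_orderOf_eq_one g)
  have hc0 : c ≠ 0 := by
    rintro rfl
    rw [zero_smul] at hc
    have h1 := congrArg Matrix.det hc
    have hnon : Nonempty (Fin (m + m)) := ⟨⟨0, by omega⟩⟩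
    rw [Matrix.det_pow, hCdet, one_pow, Matrix.det_zero] at h1
    exact one_ne_zero h1
  obtain ⟨T, hT⟩ := hro
  have hT0 : 0 < T := by
    rcases Nat.eq_zero_or_pos T with rfl | h
    · omega
    · exact h
  obtain ⟨S, hS⟩ : ∃ S : Matrix (Fin (m + m)) (Fin (m + m)) F, S = C ^ (T * (q ^ 2 - 1)) :=
    ⟨_, rfl⟩
  have hSr : S ^ r = 1 := by
    have h1 : T * (q ^ 2 - 1) * r = o * (q ^ 2 - 1) := by
      rw [hT]
      ring
    rw [hS, ← pow_mul, h1, pow_mul, hc, _root_.smul_pow, one_pow, ← hF,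
      FiniteField.pow_card_sub_one_eq_one c hc0, one_smul]
  have hS1 : S ≠ 1 := by
    intro h
    have h1 : g ^ (T * (q ^ 2 - 1)) = 1 := by
      rw [hprj]
      exact ⟨1, by rw [← hS, h, one_smul]⟩
    have h2 := orderOf_dvd_of_pow_eq_one h1
    rw [hg, hT, mul_comm r T] at h2
    have h3 : r ∣ (q ^ 2) ^ 1 - 1 := by
      rw [pow_one]
      exact (Nat.mul_dvd_mul_iff_left hT0).mp h2
    exact hprim 1 (by omega) (by omega) h3
  have hSU : adj φ S * S = 1 := by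
    rw [hS]
    exact unitary_pow φ C hCU _
  have hrQ : ¬ r ∣ Fintype.card F := by
    rw [hF]
    intro h
    exact hrq (hr.dvd_of_dvd_pow h)
  have hnsd : ∀ P : F[X], Irreducible P → P ∣ X ^ r - 1 → ¬ P ∣ X - 1 → ¬ P ∣ sp φ r P := by
    intro P hP hPr hP1 hsd'
    obtain ⟨hodd, hdvd⟩ := ff1 hF p a hq φ hφ P hP r hr.pos hPr hsd'
    exact hsd _ hodd (dvd_of_root_pow r hr P hP hPr hP1 _ hdvd)
  obtain ⟨he, P, hee, he0, hadje, hPirr, hPdeg, hPe⟩ := typeB_of_ppd (by omega) φ hφ2 r hr hrQ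
    (by rw [hF]; exact hprim) S hSr hS1 hSU hnsd
  have hrank := rank_half φ hφ2 _ hee hadje
  have hCS : C * S = S * C := by rw [hS, ← pow_succ', ← pow_succ]
  obtain ⟨u, huirr, humon, hu⟩ := exists_irr_of_commute S he P hee he0 hPirr hPe (by omega) C hCS
  have hce : aeval S he * C = C * aeval S he := by
    rw [hS]
    exact aeval_pow_comm C _ he
  rcases typeB_pow (by omega) hF φ hφ hφ2 C (aeval S he) hCU hCdet hee he0 hce hadje u huirr
    humon hu with ⟨k, hk0, hkm, hCk⟩ | hright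
  · exfalso
    have h1 : g ^ ((q ^ 2) ^ k - 1) = 1 := by
      rw [hprj]
      exact ⟨1, by rw [hCk, one_smul]⟩
    have h2 := orderOf_dvd_of_pow_eq_one h1
    rw [hg] at h2
    exact hprim k hk0 hkm ((Dvd.intro T hT.symm).trans h2)
  · obtain ⟨d, hd⟩ : ∃ d, d = Nat.gcd (m + m) (q + 1) := ⟨_, rfl⟩
    rw [← hd]
    have hd1 : d ∣ q + 1 := by
      rw [hd]
      exact Nat.gcd_dvd_right _ _
    have hd2 : d ∣ m + m := by
      rw [hd]
      exact Nat.gcd_dvd_left _ _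
    have hd3 : d ∣ (q - 1) * gs (q ^ 2) m := dvd_theta q m d (by omega) hd1 hd2
    obtain ⟨c', hc'⟩ := hright d hd1 hd3
    have h3 : g ^ ((q - 1) * gs (q ^ 2) m / d) = 1 := by
      rw [hprj]
      exact ⟨c', hc'⟩
    have h4 := orderOf_dvd_of_pow_eq_one h3
    rw [hg] at h4
    obtain ⟨E, hE⟩ := hd3
    have hd0 : 0 < d := Nat.pos_of_dvd_of_pos hd1 (by omega)
    rw [hE, Nat.mul_div_cancel_left _ hd0] at h4
    obtain ⟨E', hE'⟩ := h4
    rw [← hN2 d hd1]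
    refine ⟨E', ?_⟩
    have h6 : o * Ω = o * (d * E') := by
      rw [← hN1, hE, hE']
      ring
    exact Nat.eq_of_mul_eq_mul_left ho0 h6

theorem backwardU (hF : Fintype.card F = q ^ 2) (m : ℕ) (hm : 2 ≤ m) (φ : F →+* F)
    (hφ : ∀ x, φ x = x ^ q) (hφ2 : ∀ x, φ (φ x) = x) (l : F) (hl : φ l ≠ l)
    (o Ω : ℕ) (hN1 : (q - 1) * gs (q ^ 2) m = o * Ω)
    (hN2 : ∀ d, d ∣ q + 1 → (d ∣ Ω ↔ d ∣ m)) (hN3 : Nat.gcd o (q + 1) ∣ 2)
    (hd : Nat.gcd (m + m) (q + 1) ∣ m) (t : ℕ) (ht : q + 1 = Nat.gcd (m + m) (q + 1) * t)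
    (htodd : Odd t) : ∃ g : Cfsg.PSU (m + m) F q, orderOf g = o := by
  have hne : NeZero m := ⟨by omega⟩
  have hq1 : 1 < q := one_lt_q hF
  obtain ⟨d, hdd⟩ : ∃ d, d = Nat.gcd (m + m) (q + 1) := ⟨_, rfl⟩
  rw [← hdd] at hd ht
  have hd1 : d ∣ q + 1 := ⟨t, ht⟩
  obtain ⟨e, he⟩ := (hN2 d hd1).mpr hd
  have hd0 : 0 < d := Nat.pos_of_dvd_of_pos hd1 (by omega)
  have hΘ0 : 0 < (q - 1) * gs (q ^ 2) m :=
    Nat.mul_pos (by omega) (gs_pos _ _ (Nat.one_le_pow _ _ (by omega)) (by omega))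
  have ho0 : 0 < o := by
    rcases Nat.eq_zero_or_pos o with rfl | h
    · rw [zero_mul] at hN1
      omega
    · exact h
  have he0 : 0 < e := by
    rcases Nat.eq_zero_or_pos e with rfl | h
    · rw [he, mul_zero, mul_zero] at hN1
      omega
    · exact h
  have hQm : (q ^ 2) ^ m - 1 = (q + 1) * (o * Ω) := by
    rw [← gs_mul (q ^ 2) m (Nat.one_le_pow _ _ (by omega)), sq_sub_one q (by omega), ← hN1]
    ring
  obtain ⟨M, hMU, hMdet, hMpow⟩ := exists_half_torus (m := m) hF φ hφ hφ2 l hl ((q + 1) * e)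
  have hdet : M.det = 1 := by
    rw [hMdet, hQm]
    refine ⟨e, ?_⟩
    rw [← hN1]
    ring
  obtain ⟨A, hA⟩ := exists_mk (n := m + m) (q := q) φ hφ M hdet hMU
  refine ⟨pr A, ?_⟩
  have hcop : Nat.Coprime o t := by
    have hg2 : Nat.gcd o t ∣ 2 :=
      (Nat.gcd_dvd_gcd_of_dvd_right o (Dvd.intro_left d ht.symm)).trans hN3
    rcases (Nat.dvd_prime Nat.prime_two).mp hg2 with h | h
    · exact h
    · exfalso
      have h1 : 2 ∣ t := by
        rw [← h]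
        exact Nat.gcd_dvd_right _ _
      exact (Nat.not_even_iff_odd.mpr htodd) (even_iff_two_dvd.mpr h1)
  have key : ∀ j : ℕ, (pr A) ^ j = 1 ↔ o ∣ j := by
    intro j
    rw [pr_pow_eq_one_iff hF (by omega) A j, hA, hMpow, hQm, he]
    have h1 : (q + 1) * (o * (d * e)) = ((q + 1) * (d * e)) * o := by ring
    have h2 : (q + 1) * e * j * (q + 1) = ((q + 1) * (d * e)) * (t * j) := by
      calc (q + 1) * e * j * (q + 1) = (q + 1) * e * j * (d * t) := by rw [← ht]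
        _ = ((q + 1) * (d * e)) * (t * j) := by ring
    rw [h1, h2, Nat.mul_dvd_mul_iff_left (Nat.mul_pos (by omega) (Nat.mul_pos hd0 he0))]
    exact Nat.Coprime.dvd_mul_left hcop
  exact Nat.dvd_antisymm (orderOf_dvd_of_pow_eq_one ((key _).mpr dvd_rfl))
    ((key _).mp (pow_orderOf_eq_one _))

end main

/-- Let q be an odd prime power, n ≥ 4 even, and U = PSU(n,q) (realised over the field with q² elements). Then U has an element of order q^(n/2) + (−1)^(n/2) — that is, q^(n/2) + 1 when n/2 is even and q^(n/2) − 1 when n/2 is odd — if and only if the 2-part of n exceeds the 2-part of q + 1. -/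
theorem result {F : Type*} [Field F] [Fintype F] {q : ℕ} (hF : Fintype.card F = q ^ 2) (hodd : Odd q)
    {n : ℕ} (hn : 4 ≤ n) (heven : Even n) :
    (∃ g : Cfsg.PSU n F q, orderOf g = if Even (n / 2) then q ^ (n / 2) + 1 else q ^ (n / 2) - 1) ↔
      padicValNat 2 (q + 1) < padicValNat 2 n := by
  obtain ⟨m, rfl⟩ := heven
  have hm : 2 ≤ m := by omega
  have hdiv : (m + m) / 2 = m := by omega
  rw [hdiv]
  have hq1 : 1 < q := one_lt_q hF
  obtain ⟨φ, hφ, hφ2, l, hl⟩ := exists_phi hF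
  obtain ⟨p, hp⟩ := CharP.exists F
  have hpp : Fact p.Prime := ⟨CharP.char_is_prime F p⟩
  obtain ⟨a, hqa⟩ : ∃ a, q = p ^ a := by
    obtain ⟨k, -, hk⟩ := FiniteField.card F p
    have hdvd : q ∣ p ^ (k : ℕ) := by
      rw [← hk, hF]
      exact dvd_pow_self q (by norm_num)
    obtain ⟨a, -, ha⟩ := (Nat.dvd_prime_pow hpp.out).mp hdvd
    exact ⟨a, ha⟩
  have hdata : ∃ o Ω r : ℕ, o = (if Even m then q ^ m + 1 else q ^ m - 1) ∧
      (q - 1) * gs (q ^ 2) m = o * Ω ∧ (∀ d, d ∣ q + 1 → (d ∣ Ω ↔ d ∣ m)) ∧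
      Nat.gcd o (q + 1) ∣ 2 ∧ r.Prime ∧ r ∣ o ∧ ¬ r ∣ q ∧
      (∀ k, 0 < k → k < m → ¬ r ∣ (q ^ 2) ^ k - 1) ∧ (∀ d, Odd d → ¬ r ∣ q ^ d + 1) := by
    rcases Nat.even_or_odd m with ⟨k, hk⟩ | ⟨k, hk⟩
    · obtain ⟨h1, h2, h3⟩ := nt_even q k hq1
      obtain ⟨r, hr, hr1, hr2, hr3, hr4⟩ := ppd_even q k hq1 hodd (by omega)
      refine ⟨q ^ m + 1, (q - 1) * gs (q ^ 2) k, r, ?_, ?_, ?_, ?_, hr, ?_, hr2, ?_, hr4⟩
      · rw [if_pos ⟨k, hk⟩]
      · rw [hk]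
        exact h1
      · rw [hk]
        exact h2
      · rw [hk]
        exact h3
      · rw [hk]
        exact hr1
      · rw [hk]
        exact hr3
    · obtain ⟨h1, h2, h3⟩ := nt_odd q k hq1
      obtain ⟨r, hr, hr1, hr2, hr3, hr4⟩ := ppd_odd q k hq1 hodd (by omega)
      refine ⟨q ^ m - 1, q * (q - 1) * gs (q ^ 2) k + 1, r, ?_, ?_, ?_, ?_, hr, ?_, hr2, ?_, hr4⟩
      · rw [if_neg (Nat.not_even_iff_odd.mpr ⟨k, hk⟩)]
      · rw [hk]
        exact h1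
      · rw [hk]
        exact h2
      · rw [hk]
        exact h3
      · rw [hk]
        exact hr1
      · rw [hk]
        exact hr3
  obtain ⟨o, Ω, r, ho, hN1, hN2, hN3, hr, hro, hrq, hprim, hsd⟩ := hdata
  rw [← ho]
  have hΘ0 : 0 < (q - 1) * gs (q ^ 2) m :=
    Nat.mul_pos (by omega) (gs_pos _ _ (Nat.one_le_pow _ _ (by omega)) (by omega))
  have ho0 : 0 < o := by
    rcases Nat.eq_zero_or_pos o with rfl | h
    · rw [zero_mul] at hN1
      omega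
    · exact h
  constructor
  · rintro ⟨g, hg⟩
    exact val_lt_of_gcd_dvd (q + 1) m (by omega)
      (forwardU hF m hm p a hqa φ hφ hφ2 o Ω r hN1 hN2 ho0 hr hro hrq hprim hsd g hg)
  · intro hlt
    obtain ⟨hd, t, ht, htodd⟩ := gcd_dvd_of_val_lt (q + 1) m (by omega) hlt
    exact backwardU hF m hm φ hφ hφ2 l hl o Ω hN1 hN2 hN3 hd t ht htodd

end Cfsg.Agent.S2496
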