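import Cfsg.Statements.S2536
import Cfsg.Agent.Lib.Helper96.HallSymAsm
import Cfsg.Agent.Lib.Helper11.HSTL
import Cfsg.Agent.Lib.Helper57.HSEK1
import Cfsg.Agent.Lib.Helper47.HSEK2
import Cfsg.Agent.Lib.Helper8.HSEK3
import Cfsg.Agent.Lib.Helper11.HSHIMG
import Cfsg.Agent.Lib.Helper13.HSHSYL
import Cfsg.Agent.Lib.Helper85.HSHCAU
import Cfsg.Agent.Lib.Helper11.HSTDVD
import Cfsg.Agent.Lib.Helper13.HSSSA
import Cfsg.Agent.Lib.Helper13.HSSSB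
import Cfsg.Agent.Lib.Helper13.HSSSC
import Cfsg.Agent.Lib.Helper47.HSTR
import Cfsg.Agent.Lib.Helper10.HSCI
import Cfsg.Agent.Lib.Helper85.HSJ2
import Cfsg.Agent.Lib.Helper85.HSPRIM
import Cfsg.Agent.Lib.Helper71.HSB0
import Cfsg.Agent.Lib.Helper10.HSBLK1
import Cfsg.Agent.Lib.Helper11.HSFACT
import Cfsg.Agent.Lib.Helper99.HSBLK
import Cfsg.Agent.Lib.Helper8.HSSTAR1
import Cfsg.Agent.Lib.Helper11.HSSTAR2
import Cfsg.Agent.Lib.Helper11.HSB4A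
import Cfsg.Agent.Lib.Helper8.HSB4
import Cfsg.Agent.Lib.Helper47.HSEX1
import Cfsg.Agent.Lib.Helper47.HSEX7
import Cfsg.Agent.Lib.Helper99.HSEX8

set_option autoImplicit false
open Cfsg

namespace Cfsg.Agent.S2536

/-- Let `π` be a set of primes and `n` a natural number such that at least two primes of `π` divide `n!` but not every prime dividing `n!` lies in `π`. Then the symmetric group of degree `n` has a Hall `π`-subgroup if and only if either `n` is prime and the primes of `π` dividing `n!` are exactly the primes smaller than `n` (a point stabilizer is then such a subgroup), or `n ∈ {7, 8}` and the primes of `π` dividing `n!` are exactly 2 and 3. -/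
theorem result (n : ℕ) (π : Set ℕ)
    (h2 : ∃ r s : ℕ, r.Prime ∧ s.Prime ∧ r ≠ s ∧ r ∈ π ∧ s ∈ π ∧ r ≤ n ∧ s ≤ n)
    (hns : ∃ r : ℕ, r.Prime ∧ r ≤ n ∧ r ∉ π) :
    Cfsg.IsEPiGroup π (Equiv.Perm (Fin n)) ↔
      ((n.Prime ∧ ∀ r : ℕ, r.Prime → r ≤ n → (r ∈ π ↔ r < n)) ∨
       ((n = 7 ∨ n = 8) ∧ ∀ r : ℕ, r.Prime → r ≤ n → (r ∈ π ↔ (r = 2 ∨ r = 3)))) :=
  Cfsg.Agent.Lib.Helper96.HallSymAsm.full
    Cfsg.Agent.Lib.Helper11.HSTL.main
    Cfsg.Agent.Lib.Helper57.HSEK1.main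
    Cfsg.Agent.Lib.Helper47.HSEK2.main
    Cfsg.Agent.Lib.Helper8.HSEK3.main
    Cfsg.Agent.Lib.Helper11.HSHIMG.main
    Cfsg.Agent.Lib.Helper13.HSHSYL.main
    Cfsg.Agent.Lib.Helper85.HSHCAU.main
    Cfsg.Agent.Lib.Helper11.HSTDVD.main
    Cfsg.Agent.Lib.Helper13.HSSSA.main
    Cfsg.Agent.Lib.Helper13.HSSSB.main
    Cfsg.Agent.Lib.Helper13.HSSSC.main
    Cfsg.Agent.Lib.Helper47.HSTR.main
    Cfsg.Agent.Lib.Helper10.HSCI.main
    Cfsg.Agent.Lib.Helper85.HSJ2.main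
    Cfsg.Agent.Lib.Helper85.HSPRIM.main
    Cfsg.Agent.Lib.Helper71.HSB0.main
    Cfsg.Agent.Lib.Helper10.HSBLK1.main
    Cfsg.Agent.Lib.Helper11.HSFACT.main
    Cfsg.Agent.Lib.Helper99.HSBLK.main
    Cfsg.Agent.Lib.Helper8.HSSTAR1.main
    Cfsg.Agent.Lib.Helper11.HSSTAR2.main
    Cfsg.Agent.Lib.Helper11.HSB4A.main
    Cfsg.Agent.Lib.Helper8.HSB4.main
    Cfsg.Agent.Lib.Helper47.HSEX1.main
    Cfsg.Agent.Lib.Helper47.HSEX7.main
    Cfsg.Agent.Lib.Helper99.HSEX8.main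
    n π h2 hns

end Cfsg.Agent.S2536
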