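import Cfsg.Statements.S2537
-- import your own Cfsg.Agent.* helpers here
import Cfsg.Agent.Lib.Helper98.SL2Tor
import Cfsg.Agent.Lib.Helper91.Hall
import Cfsg.Agent.Lib.Helper5.SL2Card
import Cfsg.Agent.S0802
import Cfsg.Agent.S0803

set_option autoImplicit false
open Cfsg

namespace Cfsg.Agent.S2537

open Matrix MatrixGroups
open Cfsg.Agent.Lib.Helper98.SL2Sub Cfsg.Agent.Lib.Helper98.SL2Core
open Cfsg.Agent.Lib.Helper98.PSL2Max Cfsg.Agent.Lib.Helper98.SL2Tor
open Cfsg.Agent.Lib.Helper53.SL2Inv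

/-- the `{2,3}`-part -/
def M (x : ℕ) : ℕ := 2 ^ x.factorization 2 * 3 ^ x.factorization 3

lemma M_pos (x : ℕ) : 0 < M x := by unfold M; positivity

lemma M_dvd (x : ℕ) : M x ∣ x := by
  unfold M
  apply Nat.Coprime.mul_dvd_of_dvd_of_dvd
  · exact Nat.Coprime.pow _ _ (by norm_num)
  · exact Nat.ordProj_dvd x 2
  · exact Nat.ordProj_dvd x 3

lemma not_two_dvd (x : ℕ) (hx : x ≠ 0) : ¬ 2 ∣ x / M x := by
  intro h
  have h1 : M x * (x / M x) = x := Nat.mul_div_cancel' (M_dvd x)
  have h2 : 2 ^ (x.factorization 2 + 1) ∣ M x * (x / M x) := by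
    obtain ⟨c, hc⟩ := h
    rw [hc]
    unfold M
    exact ⟨3 ^ x.factorization 3 * c, by ring⟩
  rw [h1, Nat.Prime.pow_dvd_iff_le_factorization Nat.prime_two hx] at h2
  omega

lemma not_three_dvd (x : ℕ) (hx : x ≠ 0) : ¬ 3 ∣ x / M x := by
  intro h
  have h1 : M x * (x / M x) = x := Nat.mul_div_cancel' (M_dvd x)
  have h2 : 3 ^ (x.factorization 3 + 1) ∣ M x * (x / M x) := by
    obtain ⟨c, hc⟩ := h
    rw [hc]
    unfold M
    exact ⟨2 ^ x.factorization 2 * c, by ring⟩
  rw [h1, Nat.Prime.pow_dvd_iff_le_factorization Nat.prime_three hx] at h2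
  omega

lemma M_mul (x e : ℕ) (hx : x ≠ 0) (he : e ≠ 0) (h2 : ¬ 2 ∣ e) (h3 : ¬ 3 ∣ e) :
    M (x * e) = M x := by
  unfold M
  rw [Nat.factorization_mul hx he]
  simp [Nat.factorization_eq_zero_of_not_dvd h2, Nat.factorization_eq_zero_of_not_dvd h3]

lemma prime_dvd_M (x r : ℕ) (hr : r.Prime) (h : r ∣ M x) : r = 2 ∨ r = 3 := by
  unfold M at h
  rcases (Nat.Prime.dvd_mul hr).1 h with h | h
  · left
    exact (Nat.prime_dvd_prime_iff_eq hr Nat.prime_two).1 (Nat.Prime.dvd_of_dvd_pow hr h)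
  · right
    exact (Nat.prime_dvd_prime_iff_eq hr Nat.prime_three).1 (Nat.Prime.dvd_of_dvd_pow hr h)

lemma eight_dvd_M (x : ℕ) (hx : x ≠ 0) (h : 8 ∣ x) : 8 ∣ M x := by
  have h1 : 2 ^ 3 ∣ x := h
  rw [Nat.Prime.pow_dvd_iff_le_factorization Nat.prime_two hx] at h1
  unfold M
  exact Dvd.dvd.mul_right (pow_dvd_pow 2 h1) _

lemma three_dvd_M (x : ℕ) (hx : x ≠ 0) (h : 3 ∣ x) : 3 ∣ M x := by
  have h1 : 3 ^ 1 ∣ x := by simpa using h
  rw [Nat.Prime.pow_dvd_iff_le_factorization Nat.prime_three hx] at h1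
  unfold M
  exact Dvd.dvd.mul_left (dvd_pow_self 3 (by omega)) _

lemma coprime_M (x i : ℕ) (h2 : ¬ 2 ∣ i) (h3 : ¬ 3 ∣ i) : Nat.Coprime (M x) i := by
  apply Nat.coprime_of_dvd
  intro k hk hkM
  rcases prime_dvd_M x k hk hkM with rfl | rfl
  · exact h2
  · exact h3

section field
variable {F : Type*} [Field F] [Fintype F]

/-- arithmetic of the field order -/
lemma field_facts {p : ℕ} [Fact p.Prime] [CharP F p] (hp : 5 ≤ p) :
    (2 : F) ≠ 0 ∧ ¬ 2 ∣ Fintype.card F ∧ ¬ 3 ∣ Fintype.card F ∧ 5 ≤ Fintype.card F := by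
  have hpp : p.Prime := Fact.out
  obtain ⟨n, -, hn⟩ := FiniteField.card F p
  refine ⟨?_, ?_, ?_, ?_⟩
  · intro h
    have h' : ((2 : ℕ) : F) = 0 := by exact_mod_cast h
    rw [CharP.cast_eq_zero_iff F p] at h'
    have := Nat.le_of_dvd (by norm_num) h'
    omega
  · rw [hn]
    intro h
    have h1 := Nat.Prime.dvd_of_dvd_pow Nat.prime_two h
    have := (Nat.prime_dvd_prime_iff_eq Nat.prime_two hpp).1 h1
    omega
  · rw [hn]
    intro h
    have h1 := Nat.Prime.dvd_of_dvd_pow Nat.prime_three h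
    have := (Nat.prime_dvd_prime_iff_eq Nat.prime_three hpp).1 h1
    omega
  · rw [hn]
    calc 5 ≤ p := hp
      _ = p ^ 1 := (pow_one p).symm
      _ ≤ p ^ (n : ℕ) := Nat.pow_le_pow_right hpp.pos n.pos

lemma sq_sub_one (q : ℕ) (hq : 1 ≤ q) : q ^ 2 - 1 = (q - 1) * (q + 1) := by
  obtain ⟨j, rfl⟩ : ∃ j, q = j + 1 := ⟨q - 1, by omega⟩
  have : (j + 1) ^ 2 = j * (j + 2) + 1 := by ring
  rw [this]
  simp

lemma card_psl (hodd : ¬ 2 ∣ Fintype.card F) :
    Nat.card (Matrix.ProjectiveSpecialLinearGroup (Fin 2) F) * 2 =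
      Fintype.card F * (Fintype.card F ^ 2 - 1) := by
  have h := Cfsg.Agent.Lib.Helper5.SL2Card.card_PSL_two (F := F) (q := Fintype.card F) rfl
  have hg : Nat.gcd 2 (Fintype.card F - 1) = 2 := Nat.gcd_eq_left (by omega)
  rw [hg] at h
  exact h

/-- a subgroup of order half the `{2,3}`-part is a Hall subgroup -/
lemma hall_of_card (hodd : ¬ 2 ∣ Fintype.card F) (h3 : ¬ 3 ∣ Fintype.card F)
    (H : Subgroup (Matrix.ProjectiveSpecialLinearGroup (Fin 2) F))
    (hcard : 2 * Nat.card H = M (Fintype.card F ^ 2 - 1)) :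
    Cfsg.IsPiHall ({2, 3} : Set ℕ) H := by
  set q := Fintype.card F with hq
  have hq2 : 2 ≤ q := by
    have h5 := Fintype.one_lt_card (α := F)
    omega
  have hn0 : q ^ 2 - 1 ≠ 0 := by
    have : 4 ≤ q ^ 2 := by nlinarith
    omega
  constructor
  · intro r hr hrH
    have : r ∣ M (q ^ 2 - 1) := by rw [← hcard]; exact Dvd.dvd.mul_left hrH 2
    rcases prime_dvd_M _ r hr this with h | h
    · rw [h]; simp
    · rw [h]; simp
  · intro r hr hrmem hrdvd
    have h1 := Subgroup.card_mul_index H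
    have h2 := card_psl (F := F) hodd
    have h4 : M (q ^ 2 - 1) * ((q ^ 2 - 1) / M (q ^ 2 - 1)) = q ^ 2 - 1 :=
      Nat.mul_div_cancel' (M_dvd _)
    have h5 : M (q ^ 2 - 1) * H.index = M (q ^ 2 - 1) * (q * ((q ^ 2 - 1) / M (q ^ 2 - 1))) := by
      calc M (q ^ 2 - 1) * H.index = Nat.card H * H.index * 2 := by rw [← hcard]; ring
        _ = q * (q ^ 2 - 1) := by rw [h1, h2]
        _ = q * (M (q ^ 2 - 1) * ((q ^ 2 - 1) / M (q ^ 2 - 1))) := by rw [h4]
        _ = M (q ^ 2 - 1) * (q * ((q ^ 2 - 1) / M (q ^ 2 - 1))) := by ring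
    have h6 : H.index = q * ((q ^ 2 - 1) / M (q ^ 2 - 1)) :=
      Nat.eq_of_mul_eq_mul_left (M_pos _) h5
    rw [h6] at hrdvd
    simp only [Set.mem_insert_iff, Set.mem_singleton_iff] at hrmem
    rcases hrmem with rfl | rfl
    · rcases (Nat.Prime.dvd_mul Nat.prime_two).1 hrdvd with h | h
      · exact hodd h
      · exact not_two_dvd _ hn0 h
    · rcases (Nat.Prime.dvd_mul Nat.prime_three).1 hrdvd with h | h
      · exact h3 h
      · exact not_three_dvd _ hn0 h

/-- the order of a Hall `{2,3}`-subgroup -/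
lemma card_of_hall (hodd : ¬ 2 ∣ Fintype.card F) (h3 : ¬ 3 ∣ Fintype.card F)
    (H : Subgroup (Matrix.ProjectiveSpecialLinearGroup (Fin 2) F))
    (hH : Cfsg.IsPiHall ({2, 3} : Set ℕ) H) :
    2 * Nat.card H = M (Fintype.card F ^ 2 - 1) := by
  set q := Fintype.card F with hq
  have hq2 : 2 ≤ q := by
    have h5 := Fintype.one_lt_card (α := F)
    omega
  have hn0 : q ^ 2 - 1 ≠ 0 := by
    have : 4 ≤ q ^ 2 := by nlinarith
    omega
  have h1 := Subgroup.card_mul_index H
  have h2 := card_psl (F := F) hodd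
  have h4 : M (q ^ 2 - 1) * ((q ^ 2 - 1) / M (q ^ 2 - 1)) = q ^ 2 - 1 :=
    Nat.mul_div_cancel' (M_dvd _)
  have hi2 : ¬ 2 ∣ H.index := hH.2 2 Nat.prime_two (by simp)
  have hi3 : ¬ 3 ∣ H.index := hH.2 3 Nat.prime_three (by simp)
  have key : 2 * Nat.card H * H.index =
      M (q ^ 2 - 1) * (q * ((q ^ 2 - 1) / M (q ^ 2 - 1))) := by
    calc 2 * Nat.card H * H.index = Nat.card H * H.index * 2 := by ring
      _ = q * (q ^ 2 - 1) := by rw [h1, h2]
      _ = q * (M (q ^ 2 - 1) * ((q ^ 2 - 1) / M (q ^ 2 - 1))) := by rw [h4]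
      _ = M (q ^ 2 - 1) * (q * ((q ^ 2 - 1) / M (q ^ 2 - 1))) := by ring
  apply Nat.dvd_antisymm
  · -- 2h ∣ M
    have hcop : Nat.Coprime (2 * Nat.card H) (q * ((q ^ 2 - 1) / M (q ^ 2 - 1))) := by
      apply Nat.coprime_of_dvd
      intro k hk hkd hkq
      have hk23 : k = 2 ∨ k = 3 := by
        rcases (Nat.Prime.dvd_mul hk).1 hkd with h | h
        · left; exact (Nat.prime_dvd_prime_iff_eq hk Nat.prime_two).1 h
        · have := hH.1 k hk h
          simpa using this
      rcases hk23 with rfl | rfl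
      · rcases (Nat.Prime.dvd_mul Nat.prime_two).1 hkq with h | h
        · exact hodd h
        · exact not_two_dvd _ hn0 h
      · rcases (Nat.Prime.dvd_mul Nat.prime_three).1 hkq with h | h
        · exact h3 h
        · exact not_three_dvd _ hn0 h
    have hd : 2 * Nat.card H ∣ M (q ^ 2 - 1) * (q * ((q ^ 2 - 1) / M (q ^ 2 - 1))) :=
      ⟨H.index, key.symm⟩
    exact Nat.Coprime.dvd_of_dvd_mul_right hcop hd
  · have hcop : Nat.Coprime (M (q ^ 2 - 1)) H.index := coprime_M _ _ hi2 hi3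
    have hd : M (q ^ 2 - 1) ∣ 2 * Nat.card H * H.index :=
      ⟨q * ((q ^ 2 - 1) / M (q ^ 2 - 1)), key⟩
    exact Nat.Coprime.dvd_of_dvd_mul_right hcop hd

/-- from a solvable subgroup of `SL(2, F)` whose `{2,3}`-part is that of `q² - 1` -/
lemma exists_hall_of_solvable (h2 : (2 : F) ≠ 0) (hodd : ¬ 2 ∣ Fintype.card F)
    (h3 : ¬ 3 ∣ Fintype.card F) (N : Subgroup SL(2, F)) (hN : Group.IsSolvable N)
    (hM : M (Nat.card N) = M (Fintype.card F ^ 2 - 1)) (h8 : 8 ∣ Fintype.card F ^ 2 - 1) :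
    ∃ H : Subgroup (Matrix.ProjectiveSpecialLinearGroup (Fin 2) F),
      Cfsg.IsPiHall ({2, 3} : Set ℕ) H := by
  have hNpos : Nat.card N ≠ 0 := Nat.card_pos.ne'
  have hq2 : 2 ≤ Fintype.card F := by
    have h5 := Fintype.one_lt_card (α := F)
    omega
  have hn0 : Fintype.card F ^ 2 - 1 ≠ 0 := by
    have : 4 ≤ Fintype.card F ^ 2 := by nlinarith
    omega
  have hfac : Nat.card N = M (Nat.card N) * (Nat.card N / M (Nat.card N)) :=
    (Nat.mul_div_cancel' (M_dvd _)).symm
  obtain ⟨H, hH⟩ := Cfsg.Agent.Lib.Helper91.Hall.hall_exists (G := N) (M (Nat.card N))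
    (Nat.card N / M (Nat.card N)) hfac
    (coprime_M _ _ (not_two_dvd _ hNpos) (not_three_dvd _ hNpos))
  set X : Subgroup SL(2, F) := H.map N.subtype with hX
  have hXcard : Nat.card X = M (Fintype.card F ^ 2 - 1) := by
    rw [hX, Subgroup.card_map_of_injective N.subtype_injective, hH, hM]
  have h8X : 2 ∣ Nat.card X := by
    rw [hXcard]
    exact Dvd.dvd.trans ⟨4, by norm_num⟩ (eight_dvd_M _ hn0 h8)
  haveI : Fact (Nat.Prime 2) := ⟨Nat.prime_two⟩
  obtain ⟨x, hx⟩ := exists_prime_orderOf_dvd_card' 2 h8X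
  have hxx : x.1 * x.1 = 1 := by
    have h1 : x ^ 2 = 1 := by
      have := pow_orderOf_eq_one x
      rwa [hx] at this
    have h2' : (x ^ 2).1 = 1 := by rw [h1]; rfl
    rw [pow_two] at h2'
    exact h2'
  have hx1 : x.1 ≠ 1 := by
    intro h
    have : x = 1 := Subtype.ext h
    rw [this, orderOf_one] at hx
    omega
  have hneg : negOne ∈ X := by
    rcases sq_eq_one h2 x.1 hxx with h | h
    · exact absurd h hx1
    · rw [← h]; exact x.2
  have hker : (proj (F := F)).ker ≤ X := by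
    intro z hz
    rw [QuotientGroup.ker_mk', center_eq] at hz
    rcases hz with rfl | rfl
    · exact X.one_mem
    · exact hneg
  have hcm : (X.map (proj (F := F))).comap proj = X := by
    rw [Subgroup.comap_map_eq, sup_eq_left.2 hker]
  refine ⟨X.map proj, hall_of_card hodd h3 _ ?_⟩
  rw [← card_comap h2, hcm, hXcard]

end field

/-- Let `F` be a finite field with `q` elements of characteristic `p ≥ 5`, and `ε = 1` if `q ≡ 1 (mod 4)`, `ε = -1` otherwise. Then `PSL(2, F)` has a Hall `{2, 3}`-subgroup if and only if `3` divides `q − ε`, or the `{2,3}`-part of `q² − 1` is 24, or the `{2,3}`-part of `q² − 1` is 48 (the `{2,3}`-part of `m` being the largest divisor of `m` with no prime factor other than 2 and 3). -/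
theorem result {F : Type*} [Field F] [Fintype F] {p : ℕ} [Fact p.Prime] [CharP F p]
    (hp : 5 ≤ p) (q : ℕ) (hq : Fintype.card F = q) :
    (∃ H : Subgroup (Matrix.ProjectiveSpecialLinearGroup (Fin 2) F), Cfsg.IsPiHall ({2, 3} : Set ℕ) H) ↔
      (3 ∣ q - 1 ∧ q % 4 = 1) ∨ (3 ∣ q + 1 ∧ q % 4 = 3) ∨
        2 ^ (q ^ 2 - 1).factorization 2 * 3 ^ (q ^ 2 - 1).factorization 3 = 24 ∨
        2 ^ (q ^ 2 - 1).factorization 2 * 3 ^ (q ^ 2 - 1).factorization 3 = 48 := by
  subst hq
  obtain ⟨h2, hodd, h3, h5⟩ := field_facts (F := F) hp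
  have hpp : p.Prime := Fact.out
  set q := Fintype.card F with hqdef
  have hn0 : q ^ 2 - 1 ≠ 0 := by
    have : 4 ≤ q ^ 2 := by nlinarith
    omega
  have hfac := sq_sub_one q (by omega)
  have h8 : 8 ∣ q ^ 2 - 1 := by
    have hq8 : q % 8 = 1 ∨ q % 8 = 3 ∨ q % 8 = 5 ∨ q % 8 = 7 := by omega
    have : q ^ 2 % 8 = 1 := by
      rcases hq8 with h | h | h | h <;> simp [Nat.pow_mod, h]
    have h1 : 1 ≤ q ^ 2 := by nlinarith
    omega
  have h3n : 3 ∣ q ^ 2 - 1 := by
    have hq3 : q % 3 = 1 ∨ q % 3 = 2 := by omega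
    have : q ^ 2 % 3 = 1 := by
      rcases hq3 with h | h <;> simp [Nat.pow_mod, h]
    have h1 : 1 ≤ q ^ 2 := by nlinarith
    omega
  have hMdef : 2 ^ (q ^ 2 - 1).factorization 2 * 3 ^ (q ^ 2 - 1).factorization 3 =
      M (q ^ 2 - 1) := rfl
  rw [hMdef]
  constructor
  · rintro ⟨H, hH⟩
    have hcard := card_of_hall hodd h3 H hH
    set X : Subgroup SL(2, F) := H.comap proj with hX
    have hXcard : Nat.card X = M (q ^ 2 - 1) := by
      rw [hX, card_comap h2, hcard]
    have hneg : negOne ∈ X := negOne_mem_comap H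
    have hpX : ¬ p ∣ Nat.card X := by
      rw [hXcard]
      intro h
      rcases prime_dvd_M _ p hpp h with h | h <;> omega
    rcases core p h2 X hneg hpX with hsq | h24 | h48 | h120
    · rcases card_dvd_of_sq_comm p h2 X hneg hpX hsq with hd | hd
      · left
        rw [hXcard] at hd
        have h8' := (eight_dvd_M _ hn0 h8).trans hd
        have h3' := (three_dvd_M _ hn0 h3n).trans hd
        constructor <;> omega
      · right; left
        rw [hXcard] at hd
        have h8' := (eight_dvd_M _ hn0 h8).trans hd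
        have h3' := (three_dvd_M _ hn0 h3n).trans hd
        constructor <;> omega
    · right; right; left
      rw [← hXcard, h24]
    · right; right; right
      rw [← hXcard, h48]
    · exfalso
      have h5M : 5 ∣ M (q ^ 2 - 1) := by rw [← hXcard, h120]; norm_num
      rcases prime_dvd_M _ 5 (by norm_num) h5M with h | h <;> omega
  · rintro (⟨hd, hmod⟩ | ⟨hd, hmod⟩ | h24 | h48)
    · -- split torus normalizer
      obtain ⟨N, hNs, hNc⟩ := exists_split (F := F) h2 (by omega)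
      refine exists_hall_of_solvable h2 hodd h3 N hNs ?_ h8
      rw [hNc, hfac]
      have he : q + 1 = 2 * ((q + 1) / 2) := by omega
      have e1 : (q - 1) * (q + 1) = 2 * (q - 1) * ((q + 1) / 2) := by
        calc (q - 1) * (q + 1) = (q - 1) * (2 * ((q + 1) / 2)) := by rw [← he]
          _ = 2 * (q - 1) * ((q + 1) / 2) := by ring
      rw [e1]
      exact (M_mul _ _ (by omega) (by omega) (by omega) (by omega)).symm
    · -- nonsplit torus normalizer
      obtain ⟨N, hNs, hNc⟩ := exists_nonsplit (F := F) h2 hmod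
      refine exists_hall_of_solvable h2 hodd h3 N hNs ?_ h8
      rw [hNc, hfac]
      have he : q - 1 = 2 * ((q - 1) / 2) := by omega
      have e1 : (q - 1) * (q + 1) = 2 * (q + 1) * ((q - 1) / 2) := by
        calc (q - 1) * (q + 1) = (2 * ((q - 1) / 2)) * (q + 1) := by rw [← he]
          _ = 2 * (q + 1) * ((q - 1) / 2) := by ring
      rw [e1]
      exact (M_mul _ _ (by omega) (by omega) (by omega) (by omega)).symm
    · -- A4
      obtain ⟨n, -, hn⟩ := FiniteField.card F p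
      have hex := (Cfsg.Agent.S0802.result (F := F) p n hn).2 (by
        rintro ⟨h, -⟩; omega)
      obtain ⟨H, ⟨e⟩⟩ := hex
      refine ⟨H, hall_of_card hodd h3 H ?_⟩
      rw [h24, Nat.card_congr e.toEquiv]
      have := two_mul_nat_card_alternatingGroup (α := Fin 4)
      rw [this, Nat.card_eq_fintype_card, Fintype.card_perm, Fintype.card_fin]
      rfl
    · -- S4
      have h16 : q ^ 2 % 16 = 1 := by
        have ha : (q ^ 2 - 1).factorization 2 ≤ 4 := by
          by_contra hc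
          push Not at hc
          have h32 : 2 ^ 5 ∣ M (q ^ 2 - 1) := by
            unfold M
            exact Dvd.dvd.mul_right (pow_dvd_pow 2 hc) _
          rw [h48] at h32
          norm_num at h32
        have hb : (q ^ 2 - 1).factorization 3 ≤ 1 := by
          by_contra hc
          push Not at hc
          have h9 : 3 ^ 2 ∣ M (q ^ 2 - 1) := by
            unfold M
            exact Dvd.dvd.mul_left (pow_dvd_pow 3 hc) _
          rw [h48] at h9
          norm_num at h9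
        have h48' : 2 ^ (q ^ 2 - 1).factorization 2 * 3 ^ (q ^ 2 - 1).factorization 3 = 48 := h48
        have ha4 : (q ^ 2 - 1).factorization 2 = 4 := by
          generalize (q ^ 2 - 1).factorization 2 = a at ha h48'
          generalize (q ^ 2 - 1).factorization 3 = b at hb h48'
          interval_cases a <;> interval_cases b <;> simp_all
        have hd : 2 ^ 4 ∣ q ^ 2 - 1 := by
          rw [Nat.Prime.pow_dvd_iff_le_factorization Nat.prime_two hn0, ha4]
        have h1 : 1 ≤ q ^ 2 := by nlinarith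
        have hd' : 16 ∣ q ^ 2 - 1 := hd
        omega
      obtain ⟨H, ⟨e⟩⟩ := (Cfsg.Agent.S0803.result (F := F) (q := q) rfl).2 h16
      refine ⟨H, hall_of_card hodd h3 H ?_⟩
      rw [h48, Nat.card_congr e.toEquiv, Nat.card_eq_fintype_card, Fintype.card_perm,
        Fintype.card_fin]
      rfl

end Cfsg.Agent.S2537
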