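import Cfsg.Statements.S2538
import Cfsg.Agent.Lib.Helper96.HallAltAsm
import Cfsg.Agent.Lib.Helper71.HSB0
import Cfsg.Agent.Lib.Helper91.HAHOF
import Cfsg.Agent.Lib.Helper91.HAHNORM
import Cfsg.Agent.Lib.Helper21.HAFIN1
import Cfsg.Agent.Lib.Helper21.HAHMAX
import Cfsg.Agent.Lib.Helper21.HAFIN2
import Cfsg.Agent.Lib.Helper21.HASUBH
import Cfsg.Agent.Lib.Helper91.HAHCONJ
import Cfsg.Agent.Lib.Helper86.HANPI
import Cfsg.Agent.Lib.Helper86.HAAIDX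
import Cfsg.Agent.Lib.Helper86.HAHODD
import Cfsg.Agent.Lib.Helper47.HAC1
import Cfsg.Agent.Lib.Helper47.HAC0
import Cfsg.Agent.Lib.Helper11.HATRF
import Cfsg.Agent.Lib.Helper11.HATRB
import Cfsg.Agent.Lib.Helper4.HASTH
import Cfsg.Agent.Lib.Helper11.HAORB2
import Cfsg.Agent.Lib.Helper91.HAGC1
import Cfsg.Agent.Lib.Helper72.HAGC2
import Cfsg.Agent.Lib.Helper11.HAGC3
import Cfsg.Agent.Lib.Helper10.HAKCNT
import Cfsg.Agent.Lib.Helper4.HAQCNT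
import Cfsg.Agent.Lib.Helper86.HAMULTI
import Cfsg.Agent.Lib.Helper91.HAARB
import Cfsg.Agent.Lib.Helper47.HAHSYLA
import Cfsg.Agent.Lib.Helper4.HAJ3
import Cfsg.Agent.Lib.Helper97.HAKLEIN
import Cfsg.Agent.Lib.Helper57.HAPD1
import Cfsg.Agent.Lib.Helper4.HAPD2
import Cfsg.Agent.Lib.Helper86.HAPD3
import Cfsg.Agent.Lib.Helper72.HAPD
import Cfsg.Agent.Lib.Helper86.HAINV2
import Cfsg.Agent.Lib.Helper91.HAINVC
import Cfsg.Agent.Lib.Helper86.HAPQ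
import Cfsg.Agent.Lib.Helper97.HAALPHA
import Cfsg.Agent.Lib.Helper97.HAC2

set_option autoImplicit false
open Cfsg

namespace Cfsg.Agent.S2538

/-- For every `n` and every set of primes `π`, a subgroup of the alternating group of degree `n` is a Hall `π`-subgroup of it if and only if it is the intersection with the alternating group of some Hall `π`-subgroup of the symmetric group of degree `n`. -/
theorem result (n : ℕ) (π : Set ℕ)
    (M : Subgroup ↥(alternatingGroup (Fin n))) :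
    Cfsg.IsPiHall π M ↔ ∃ M₀ : Subgroup (Equiv.Perm (Fin n)), Cfsg.IsPiHall π M₀ ∧ M = M₀.subgroupOf (alternatingGroup (Fin n)) :=
  Cfsg.Agent.Lib.Helper96.HallAltAsm.full
    Cfsg.Agent.Lib.Helper91.HAHOF.main
    Cfsg.Agent.Lib.Helper91.HAHNORM.main
    Cfsg.Agent.Lib.Helper21.HAFIN1.main
    Cfsg.Agent.Lib.Helper21.HAHMAX.main
    Cfsg.Agent.Lib.Helper21.HAFIN2.main
    Cfsg.Agent.Lib.Helper21.HASUBH.main
    Cfsg.Agent.Lib.Helper91.HAHCONJ.main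
    Cfsg.Agent.Lib.Helper86.HANPI.main
    Cfsg.Agent.Lib.Helper86.HAAIDX.main
    Cfsg.Agent.Lib.Helper86.HAHODD.main
    Cfsg.Agent.Lib.Helper47.HAC1.main
    Cfsg.Agent.Lib.Helper47.HAC0.main
    Cfsg.Agent.Lib.Helper11.HATRF.main
    Cfsg.Agent.Lib.Helper11.HATRB.main
    Cfsg.Agent.Lib.Helper4.HASTH.main
    Cfsg.Agent.Lib.Helper11.HAORB2.main
    Cfsg.Agent.Lib.Helper91.HAGC1.main
    Cfsg.Agent.Lib.Helper72.HAGC2.main
    Cfsg.Agent.Lib.Helper11.HAGC3.main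
    Cfsg.Agent.Lib.Helper10.HAKCNT.main
    Cfsg.Agent.Lib.Helper4.HAQCNT.main
    Cfsg.Agent.Lib.Helper86.HAMULTI.main
    Cfsg.Agent.Lib.Helper91.HAARB.main
    Cfsg.Agent.Lib.Helper47.HAHSYLA.main
    Cfsg.Agent.Lib.Helper4.HAJ3.main
    Cfsg.Agent.Lib.Helper97.HAKLEIN.main
    Cfsg.Agent.Lib.Helper57.HAPD1.main
    Cfsg.Agent.Lib.Helper4.HAPD2.main
    Cfsg.Agent.Lib.Helper86.HAPD3.main
    Cfsg.Agent.Lib.Helper72.HAPD.main
    Cfsg.Agent.Lib.Helper86.HAINV2.main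
    Cfsg.Agent.Lib.Helper91.HAINVC.main
    Cfsg.Agent.Lib.Helper86.HAPQ.main
    Cfsg.Agent.Lib.Helper97.HAALPHA.main
    Cfsg.Agent.Lib.Helper97.HAC2.main
    Cfsg.Agent.Lib.Helper71.HSB0.main
    n π M

end Cfsg.Agent.S2538
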