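import Cfsg.Statements.S2553
import Cfsg.Agent.S0144
import Cfsg.Agent.Lib.Helper72.HallCount
import Cfsg.Agent.Lib.Helper60.GL4D7c
import Cfsg.Agent.Lib.Helper60.GL4D5c

set_option autoImplicit false
open Cfsg

namespace Cfsg.Agent.S2553

open Cfsg.Agent.Lib.Helper60.GL4

/-- Let H be a nontrivial subgroup of GL(4,2) (a group isomorphic to the alternating group of degree 8) whose largest normal 2-subgroup and largest normal subgroup of odd order are both trivial. Then H is isomorphic to an alternating group of degree n for some 5 ≤ n ≤ 8, to the symmetric group of degree 5 or 6, or to GL(3,2). -/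
theorem result (H : Subgroup (GL (Fin 4) (ZMod 2))) (hH : H ≠ ⊥) (hO : Cfsg.pPrimeCore 2 ↥H = ⊥) (hO2 : Cfsg.pCore 2 ↥H = ⊥) :
    (∃ n : ℕ, 5 ≤ n ∧ n ≤ 8 ∧ Nonempty (↥H ≃* alternatingGroup (Fin n))) ∨
    Nonempty (↥H ≃* Equiv.Perm (Fin 5)) ∨ Nonempty (↥H ≃* Equiv.Perm (Fin 6)) ∨ Nonempty (↥H ≃* GL (Fin 3) (ZMod 2)) := by
  by_cases h5 : 5 ∣ Nat.card H
  · rcases D5.final H h5 hO hO2 with h | h
    · exact h
    · exact absurd (Nat.eq_zero_of_zero_dvd h) Nat.card_pos.ne'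
  by_cases h7 : 7 ∣ Nat.card H
  · rcases D7.final H h7 hO hO2 with h | h
    · exact h
    · exact absurd h h5
  exfalso
  -- the order of `H` is `2 ^ a * 3 ^ b`, so `H` is solvable
  have hdvd : Nat.card H ∣ 20160 := by
    have := Subgroup.card_subgroup_dvd_card H
    rwa [card_G] at this
  have hcop : Nat.Coprime (Nat.card H) 35 := by
    have e : (35 : ℕ) = 5 * 7 := by norm_num
    rw [e]
    apply Nat.Coprime.mul_right
    · exact Nat.coprime_comm.1 ((Nat.Prime.coprime_iff_not_dvd (by norm_num)).2 h5)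
    · exact Nat.coprime_comm.1 ((Nat.Prime.coprime_iff_not_dvd (by norm_num)).2 h7)
  have hdvd2 : Nat.card H ∣ 2 ^ 6 * 3 ^ 2 := by
    have e : (20160 : ℕ) = 2 ^ 6 * 3 ^ 2 * 35 := by norm_num
    rw [e] at hdvd
    exact hcop.dvd_of_dvd_mul_right hdvd
  obtain ⟨d1, d2, hd1, hd2, hd⟩ := (Nat.dvd_mul).1 hdvd2
  obtain ⟨a, _, rfl⟩ := (Nat.dvd_prime_pow Nat.prime_two).1 hd1
  obtain ⟨b, _, rfl⟩ := (Nat.dvd_prime_pow Nat.prime_three).1 hd2
  have hsolv : Group.IsSolvable H :=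
    Cfsg.Agent.S0144.result 2 3 a b Nat.prime_two Nat.prime_three hd.symm
  have hnt : Nontrivial H := (Subgroup.nontrivial_iff_ne_bot H).2 hH
  obtain ⟨p, M, hp, hMn, hMne, hMp, _⟩ :=
    Cfsg.Agent.Lib.Helper72.HallCount.exists_minimal_normal (G := H)
  by_cases hp2 : p = 2
  · subst hp2
    have : M ≤ Cfsg.pCore 2 ↥H := le_sSup ⟨hMn, hMp⟩
    rw [hO2] at this
    exact hMne (le_bot_iff.1 this)
  · have hc : (Nat.card M).Coprime 2 := by
      have : Fact p.Prime := ⟨hp⟩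
      obtain ⟨k, hk⟩ := (IsPGroup.iff_card (p := p)).1 hMp
      rw [hk]
      apply Nat.Coprime.pow_left
      exact (Nat.coprime_primes hp Nat.prime_two).2 hp2
    have : M ≤ Cfsg.pPrimeCore 2 ↥H := le_sSup ⟨hMn, hc⟩
    rw [hO] at this
    exact hMne (le_bot_iff.1 this)

end Cfsg.Agent.S2553
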