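import Cfsg.Statements.S2556
import Cfsg.Agent.Lib.Helper46.SzCoord
import Cfsg.Agent.Lib.Helper65.SzAut
import Cfsg.Agent.Lib.Helper65.SzRad
import Cfsg.Agent.Lib.Helper6.Sz14

set_option autoImplicit false
open Cfsg

namespace Cfsg.Agent.S2556

open Cfsg.Agent.Lib.Helper46.SzCoord
open Cfsg.Agent.Lib.Helper6.Sz0 Cfsg.Agent.Lib.Helper6.Sz8 Cfsg.Agent.Lib.Helper6.Sz14
  Cfsg.Agent.Lib.Helper65.SzRad

section Helpers

variable {F : Type*} [Field F] [Fintype F] {m : ℕ}

/-- the coordinates on the unipotent subgroup of the Suzuki group -/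
theorem exists_scoord (hF : Fintype.card F = 2 ^ (2 * m + 1)) (θ : F →+* F)
    (hθ : ∀ x, θ x = sg m x) : Nonempty (SCoord (Usub (m := m) hF) θ) := by
  choose fa fb hg using (uU_surj (m := m) hF)
  have hval : ∀ a b, fa (uU hF a b) = a ∧ fb (uU hF a b) = b := fun a b =>
    let h := uU_inj hF (hg (uU hF a b))
    ⟨h.1.symm, h.2.symm⟩
  have hmul : ∀ x y, fa (x * y) = fa x + fa y ∧ fb (x * y) = fb x + fb y + θ (fa x) * fa y := by
    intro x y
    have h1 : x * y = uU hF (fa x + fa y) (fb x + fb y + sg m (fa x) * fa y) := by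
      conv_lhs => rw [hg x, hg y]
      exact uU_mul hF _ _ _ _
    rw [h1, hθ]
    exact hval _ _
  exact ⟨{ α := fa
           β := fb
           mul_α := fun x y => (hmul x y).1
           mul_β := fun x y => (hmul x y).2
           inj := fun x y h1 h2 => by rw [hg x, hg y, h1, h2]
           surj := fun a b => ⟨uU hF a b, hval a b⟩ }⟩

end Helpers


/-- Let S be a Sylow 2-subgroup of the Suzuki group Sz(q), q = 2ⁿ with n = 2m + 1 ≥ 3 (realised as 4 × 4 matrices over the field with q elements). Then the largest normal 2-subgroup of the automorphism group of S is elementary abelian of order 2^(n²), and the automorphism group of S has order 2^(n²) · n · (q − 1). -/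
theorem result {S : Type*} [Group S] [Finite S] (m : ℕ) (hm : 1 ≤ m)
    {F : Type*} [Field F] [Fintype F] (hF : Fintype.card F = 2 ^ (2 * m + 1))
    (P : Sylow 2 ↥(Cfsg.Lie.Sz F (2 ^ (m + 1)))) (hS : Nonempty (S ≃* ↥(P : Subgroup ↥(Cfsg.Lie.Sz F (2 ^ (m + 1)))))) :
    Cfsg.IsElementaryAbelian 2 (Cfsg.pCore 2 (MulAut S)) ∧ Nat.card ↥(Cfsg.pCore 2 (MulAut S)) = 2 ^ ((2 * m + 1) ^ 2) ∧
      Nat.card (MulAut S) = 2 ^ ((2 * m + 1) ^ 2) * ((2 * m + 1) * (2 ^ (2 * m + 1) - 1)) := by
  classical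
  obtain ⟨e0⟩ := hS
  haveI : Fact (Nat.Prime 2) := ⟨Nat.prime_two⟩
  have h2 : (2 : F) = 0 := two_eq_zero hF
  haveI : CharP F 2 := charP hF
  let θ : F →+* F := iterateFrobenius F 2 (m + 1)
  have hθ : ∀ x, θ x = sg m x := fun x => by
    show iterateFrobenius F 2 (m + 1) x = _
    rw [iterateFrobenius_def]
    rfl
  have hθ' : ∀ x, θ x = x ^ 2 ^ (m + 1) := fun x => by rw [hθ]; rfl
  -- the field hypotheses
  have hker : ∀ v : F, θ v + v = 0 → v = 0 ∨ v = 1 := fun v hv => by
    apply (mem_ker_phi hF v).mp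
    rw [AddMonoidHom.mem_ker, phi_apply, ← hθ]
    exact hv
  have hnf : ∃ c, θ c ≠ c := by
    obtain ⟨k, hk0, hk1⟩ := exists_ne_zero_one hm hF
    refine ⟨k, fun h => ?_⟩
    rcases hker k (by rw [h]; linear_combination k * h2) with h0 | h0
    · exact hk0 h0
    · exact hk1 h0
  have hθ0 : ∀ x, θ x = 0 → x = 0 := fun x hx => by
    rw [hθ] at hx
    exact sg_eq_zero.mp hx
  have hN : ∀ a b : F, a * θ a = b * θ b → a = b := by
    intro a b h
    by_cases ha : a = 0
    · rw [ha, zero_mul] at h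
      rcases mul_eq_zero.mp h.symm with h0 | h0
      · rw [ha, h0]
      · rw [ha, hθ0 b h0]
    by_cases hb : b = 0
    · rw [hb, zero_mul] at h
      rcases mul_eq_zero.mp h with h0 | h0
      · exact absurd h0 ha
      · exact absurd (hθ0 a h0) ha
    have := sg_mul_self_inj (m := m) hF (j := Units.mk0 a ha) (j' := Units.mk0 b hb) (by
      show sg m a * a = sg m b * b
      rw [← hθ, ← hθ]
      linear_combination h)
    exact congrArg Units.val this
  have hrange : ∀ x : F, x ∈ (phi (m := m) hF).range ↔ ∃ t, x = θ t + t := by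
    intro x
    rw [AddMonoidHom.mem_range]
    constructor
    · rintro ⟨t, rfl⟩
      exact ⟨t, by rw [phi_apply, hθ]⟩
    · rintro ⟨t, rfl⟩
      exact ⟨t, by rw [phi_apply, hθ]⟩
  have hP2 : ∃ e : F, ¬ ∃ t, e = θ t + t := by
    by_contra hcon
    have htop : (phi (m := m) hF).range = ⊤ := by
      rw [eq_top_iff]
      intro x _
      rw [hrange]
      by_contra hx
      exact hcon ⟨x, hx⟩
    have := index_range_phi (m := m) hF
    rw [htop, AddSubgroup.index_top] at this
    omega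
  have hP3 : ∀ a b : F, (¬ ∃ t, a = θ t + t) → (¬ ∃ t, b = θ t + t) → ∃ t, a + b = θ t + t := by
    intro a b ha hb
    rw [← hrange] at ha hb ⊢
    exact add_mem_range_phi hF ha hb
  -- the Sylow subgroup is conjugate to the unipotent subgroup
  let iso := Cfsg.Agent.Lib.Helper65.SzIso.iso hm hF
  let K : Subgroup ↥(Cfsg.Sz F m) := (P : Subgroup ↥(Cfsg.Lie.Sz F (2 ^ (m + 1)))).map iso.toMonoidHom
  let e1 : ↥(P : Subgroup ↥(Cfsg.Lie.Sz F (2 ^ (m + 1)))) ≃* K := iso.subgroupMap _
  have hK : Nat.card K = (2 ^ (2 * m + 1)) ^ 2 := by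
    rw [← Nat.card_congr e1.toEquiv, Sylow.card_eq_multiplicity, Nat.card_congr iso.toEquiv,
      factorization_card_Sz hm hF, pow_mul, pow_right_comm]
  obtain ⟨g, hg⟩ := Cfsg.Agent.Lib.Helper65.SzAut.conj_of_card hm hF K hK
  let f : K →* Usub (m := m) hF :=
    { toFun := fun x => ⟨g⁻¹ * x.1 * g, (hg x.1).mp x.2⟩
      map_one' := by
        apply Subtype.ext
        show g⁻¹ * (1 : ↥(Cfsg.Sz F m)) * g = 1
        group
      map_mul' := fun x y => by
        apply Subtype.ext
        show g⁻¹ * (x.1 * y.1) * g = (g⁻¹ * x.1 * g) * (g⁻¹ * y.1 * g)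
        group }
  have hf : Function.Bijective f := by
    constructor
    · intro x y hxy
      have h1 : g⁻¹ * x.1 * g = g⁻¹ * y.1 * g := congrArg Subtype.val hxy
      apply Subtype.ext
      have h3 := mul_right_cancel h1
      exact mul_left_cancel h3
    · intro y
      have hmem : g * y.1 * g⁻¹ ∈ K := by
        rw [hg]
        have e : g⁻¹ * (g * y.1 * g⁻¹) * g = y.1 := by group
        rw [e]
        exact y.2
      refine ⟨⟨g * y.1 * g⁻¹, hmem⟩, ?_⟩
      apply Subtype.ext
      show g⁻¹ * (g * y.1 * g⁻¹) * g = y.1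
      group
  let e2 : K ≃* Usub (m := m) hF := MulEquiv.ofBijective f hf
  obtain ⟨C0⟩ := exists_scoord hF θ hθ
  exact main (C0.congr ((e0.trans e1).trans e2)) h2 hnf (2 ^ (m + 1)) hθ' hN hP2 hP3 hF

end Cfsg.Agent.S2556
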