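import Cfsg.Statements.S2626

set_option autoImplicit false
open Cfsg

namespace Cfsg.Agent.S2626

open scoped Matrix

theorem map_mem_commutator {G H : Type*} [Group G] [Group H] (f : G →* H) {g : G}
    (hg : g ∈ commutator G) : f g ∈ commutator H := by
  have h1 : f g ∈ Subgroup.map f (commutator G) := Subgroup.mem_map_of_mem f hg
  rw [commutator_def, Subgroup.map_commutator] at h1
  rw [commutator_def]
  exact Subgroup.commutator_mono le_top le_top h1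

/-- block diagonal embedding `A ↦ diag(A, 1)` as a monoid hom. -/
def blockL (k l : Type) [Fintype k] [Fintype l] [DecidableEq k] [DecidableEq l] (F : Type*) [Field F] :
    Matrix k k F →* Matrix (k ⊕ l) (k ⊕ l) F where
  toFun A := Matrix.fromBlocks A 0 0 1
  map_one' := Matrix.fromBlocks_one
  map_mul' A B := by
    rw [Matrix.fromBlocks_multiply]
    simp

/-- block diagonal embedding `B ↦ diag(1, B)` as a monoid hom. -/
def blockR (k l : Type) [Fintype k] [Fintype l] [DecidableEq k] [DecidableEq l] (F : Type*) [Field F] :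
    Matrix l l F →* Matrix (k ⊕ l) (k ⊕ l) F where
  toFun B := Matrix.fromBlocks 1 0 0 B
  map_one' := Matrix.fromBlocks_one
  map_mul' A B := by
    rw [Matrix.fromBlocks_multiply]
    simp

theorem fromBlocks_mulVec_inl {k l : Type} [Fintype k] [Fintype l] {F : Type*} [Field F]
    (A : Matrix k k F) (B : Matrix l l F) (v : k ⊕ l → F) :
    (Matrix.fromBlocks A 0 0 B *ᵥ v) ∘ Sum.inl = A *ᵥ (v ∘ Sum.inl) := by
  ext i
  simp [Matrix.mulVec, dotProduct, Fintype.sum_sum_type, Matrix.fromBlocks]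

theorem fromBlocks_mulVec_inr {k l : Type} [Fintype k] [Fintype l] {F : Type*} [Field F]
    (A : Matrix k k F) (B : Matrix l l F) (v : k ⊕ l → F) :
    (Matrix.fromBlocks A 0 0 B *ᵥ v) ∘ Sum.inr = B *ᵥ (v ∘ Sum.inr) := by
  ext i
  simp [Matrix.mulVec, dotProduct, Fintype.sum_sum_type, Matrix.fromBlocks]

/-- the sum form -/
abbrev sumForm {F : Type*} [Field F] {k l : ℕ} (Q₁ : (Fin k → F) → F) (Q₂ : (Fin l → F) → F) :
    (Fin k ⊕ Fin l → F) → F :=
  fun v => Q₁ (v ∘ Sum.inl) + Q₂ (v ∘ Sum.inr)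

/-- `g₁ ↦ diag(g₁, 1)` on isometry groups. -/
def embL {F : Type*} [Field F] {k l : ℕ} (Q₁ : (Fin k → F) → F) (Q₂ : (Fin l → F) → F) :
    ↥(isometryGroup F Q₁) →* ↥(isometryGroup F (sumForm Q₁ Q₂)) :=
  ((Units.map (blockL (Fin k) (Fin l) F)).comp (isometryGroup F Q₁).subtype).codRestrict
    (isometryGroup F (sumForm Q₁ Q₂)) (by
      intro g u v
      show sumForm Q₁ Q₂ (Matrix.fromBlocks _ 0 0 1 *ᵥ u) = sumForm Q₁ Q₂ u
      unfold sumForm
      rw [fromBlocks_mulVec_inl, fromBlocks_mulVec_inr, Matrix.one_mulVec]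
      congr 1
      exact g.2 (u ∘ Sum.inl) (u ∘ Sum.inl))

/-- `g₂ ↦ diag(1, g₂)` on isometry groups. -/
def embR {F : Type*} [Field F] {k l : ℕ} (Q₁ : (Fin k → F) → F) (Q₂ : (Fin l → F) → F) :
    ↥(isometryGroup F Q₂) →* ↥(isometryGroup F (sumForm Q₁ Q₂)) :=
  ((Units.map (blockR (Fin k) (Fin l) F)).comp (isometryGroup F Q₂).subtype).codRestrict
    (isometryGroup F (sumForm Q₁ Q₂)) (by
      intro g u v
      show sumForm Q₁ Q₂ (Matrix.fromBlocks 1 0 0 _ *ᵥ u) = sumForm Q₁ Q₂ u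
      unfold sumForm
      rw [fromBlocks_mulVec_inl, fromBlocks_mulVec_inr, Matrix.one_mulVec]
      congr 1
      exact g.2 (u ∘ Sum.inr) (u ∘ Sum.inr))

/-- Ω of an orthogonal direct sum contains the product of the Ω's. -/
theorem result {F : Type*} [Field F] [Fintype F] {k l : ℕ} (Q₁ : QuadraticForm F (Fin k → F)) (Q₂ : QuadraticForm F (Fin l → F)) (h₁ : (QuadraticMap.polarBilin Q₁).Nondegenerate) (h₂ : (QuadraticMap.polarBilin Q₂).Nondegenerate) (g₁ : ↥(Cfsg.isometryGroup F ⇑Q₁)) (g₂ : ↥(Cfsg.isometryGroup F ⇑Q₂)) (hg₁ : g₁ ∈ Cfsg.Omega F ⇑Q₁) (hg₂ : g₂ ∈ Cfsg.Omega F ⇑Q₂) : ∃ g : ↥(Cfsg.isometryGroup F (fun v : Fin k ⊕ Fin l → F => Q₁ (v ∘ Sum.inl) + Q₂ (v ∘ Sum.inr))), g ∈ Cfsg.Omega F (fun v : Fin k ⊕ Fin l → F => Q₁ (v ∘ Sum.inl) + Q₂ (v ∘ Sum.inr)) ∧ ((g : Matrix.GeneralLinearGroup (Fin k ⊕ Fin l) F) : Matrix (Fin k ⊕ Fin l) (Fin k ⊕ Fin l) F) = Matrix.fromBlocks ((g₁ : Matrix.GeneralLinearGroup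 (Fin k) F) : Matrix (Fin k) (Fin k) F) 0 0 ((g₂ : Matrix.GeneralLinearGroup (Fin l) F) : Matrix (Fin l) (Fin l) F) := by
  refine ⟨embL (⇑Q₁) (⇑Q₂) g₁ * embR (⇑Q₁) (⇑Q₂) g₂, ?_, ?_⟩
  · exact Subgroup.mul_mem _ (map_mem_commutator _ hg₁) (map_mem_commutator _ hg₂)
  · show Matrix.fromBlocks _ 0 0 1 * Matrix.fromBlocks 1 0 0 _ = _
    rw [Matrix.fromBlocks_multiply]
    simp

end Cfsg.Agent.S2626
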