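import Cfsg.Statements.S5947
import Cfsg.Agent.S2904

set_option autoImplicit false
set_option linter.style.haveILetI false
open Cfsg

namespace Cfsg.Agent.S5947
open Polynomial

lemma algEquiv_of_card {F K A : Type*} [Field F] [Field K] [Finite K] [Algebra F K]
    [Ring A] [Algebra F A] [Finite A]
    (hcomm : ∀ a b : A, a * b = b * a) (hdom : ∀ a b : A, a * b = 0 → a = 0 ∨ b = 0)
    (hnt : (0 : A) ≠ 1) (hcard : Nat.card A = Nat.card K) : Nonempty (K ≃ₐ[F] A) := by
  classical
  letI cr : CommRing A := { ‹Ring A› with mul_comm := hcomm }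
  haveI : Nontrivial A := ⟨⟨0, 1, hnt⟩⟩
  haveI : NoZeroDivisors A := ⟨fun {a b} h => hdom a b h⟩
  haveI : IsDomain A := NoZeroDivisors.to_isDomain A
  letI : Fintype A := Fintype.ofFinite A
  letI : Fintype K := Fintype.ofFinite K
  letI fA : Field A := Fintype.fieldOfDomain A
  have h1 := FiniteField.isSplittingField_sub K F
  have h2 := FiniteField.isSplittingField_sub A F
  have hc : Fintype.card A = Fintype.card K := by
    rw [← Nat.card_eq_fintype_card, ← Nat.card_eq_fintype_card, hcard]
  rw [hc] at h2
  exact ⟨(IsSplittingField.algEquiv K (X ^ Fintype.card K - X : F[X])).trans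
    (IsSplittingField.algEquiv A (X ^ Fintype.card K - X : F[X])).symm⟩

/-- primitive prime divisors for prime powers, with the exceptions of the statement -/
lemma ppd_exists (p e n : ℕ) (hp : p.Prime) (he : 0 < e) (hn : 2 ≤ n)
    (hex1 : ¬ (n = 6 ∧ p ^ e = 2))
    (hex2 : ¬ (n = 2 ∧ (p ^ e).Prime ∧ ∃ a : ℕ, p ^ e + 1 = 2 ^ a)) :
    ∃ r : ℕ, r.Prime ∧ r ∣ (p ^ e) ^ n - 1 ∧ ∀ k : ℕ, 0 < k → k < n → ¬ r ∣ (p ^ e) ^ k - 1 := by
  have hp2 := hp.two_le
  have hq1 : 1 < p ^ e := Nat.one_lt_pow he.ne' hp.one_lt
  by_cases hA : n = 2 ∧ ∃ m : ℕ, p ^ e + 1 = 2 ^ m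
  · obtain ⟨rfl, m, hm⟩ := hA
    have he2 : 2 ≤ e := by
      by_contra h
      have he1 : e = 1 := by omega
      subst he1
      exact hex2 ⟨rfl, by rwa [pow_one], m, hm⟩
    have hpne : p ≠ 2 := by
      rintro rfl
      have h4 : 2 ^ 2 ≤ 2 ^ e := Nat.pow_le_pow_right (by norm_num) he2
      have heven : Even (2 ^ e) := (Nat.even_pow' (by omega)).mpr (by decide)
      rcases Nat.eq_zero_or_pos m with rfl | hm0
      · simp at hm
      · have : Even (2 ^ m) := (Nat.even_pow' (by omega)).mpr (by decide)
        rw [← hm] at this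
        have h5 : ¬ Even (2 ^ e + 1) := by
          rw [Nat.even_add_one]; exact not_not.mpr heven
        exact h5 this
    obtain ⟨r, hr, hrd, hrk⟩ := Cfsg.Agent.S2904.result p (2 * e) hp.one_lt (by omega)
      (fun h => hpne h.1) (fun h => by omega)
    refine ⟨r, hr, ?_, ?_⟩
    · rw [← pow_mul, mul_comm]; exact hrd
    · intro k hk hk2
      have hk1 : k = 1 := by omega
      subst hk1
      rw [pow_one]
      exact hrk e he (by omega)
  · exact Cfsg.Agent.S2904.result (p ^ e) n hq1 (by omega) (fun h => hex1 ⟨h.2, h.1⟩) hA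

/-- fixed point congruence for a linear map of prime order -/
lemma fix_count {F V : Type*} [Field F] [AddCommGroup V] [Module F V] [Finite V]
    (g : Module.End F V) (r : ℕ) (hr : r.Prime) (hg : g ^ r = 1) :
    Nat.card V ≡ Nat.card (LinearMap.ker (g - 1)) [MOD r] := by
  haveI : Fact r.Prime := ⟨hr⟩
  let gu : (Module.End F V)ˣ := Units.ofPowEqOne g r hg hr.ne_zero
  have hgu : gu ^ r = 1 := by
    apply Units.ext
    rw [Units.val_pow_eq_pow_val]
    exact hg
  let G : Subgroup (Module.End F V)ˣ := Subgroup.zpowers gu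
  have hG : IsPGroup r G := by
    intro x
    refine ⟨1, ?_⟩
    obtain ⟨x, hx⟩ := x
    obtain ⟨j, rfl⟩ := Subgroup.mem_zpowers_iff.mp hx
    apply Subtype.ext
    simp only [pow_one, Subgroup.coe_pow, Subgroup.coe_one]
    rw [← zpow_natCast, ← zpow_mul, mul_comm, zpow_mul, zpow_natCast, hgu, one_zpow]
  have h := hG.card_modEq_card_fixedPoints V
  have heq : (MulAction.fixedPoints G V : Set V) = (LinearMap.ker (g - 1) : Set V) := by
    ext v
    simp only [MulAction.mem_fixedPoints, SetLike.mem_coe, LinearMap.mem_ker, LinearMap.sub_apply,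
      Module.End.one_apply, sub_eq_zero]
    constructor
    · intro hv
      have := hv ⟨gu, Subgroup.mem_zpowers gu⟩
      exact this
    · rintro hv ⟨x, hx⟩
      obtain ⟨j, rfl⟩ := Subgroup.mem_zpowers_iff.mp hx
      have h1 : gu • v = v := hv
      show (gu ^ j) • v = v
      have h2 : ∀ j : ℕ, (gu ^ j) • v = v := by
        intro j
        induction j with
        | zero => simp
        | succ j ih => rw [pow_succ, mul_smul, h1, ih]
      have h3 : gu⁻¹ • v = v := by
        rw [inv_smul_eq_iff, h1]
      have h4 : ∀ j : ℕ, (gu⁻¹ ^ j) • v = v := by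
        intro j
        induction j with
        | zero => simp
        | succ j ih => rw [pow_succ, mul_smul, h3, ih]
      rcases Int.eq_nat_or_neg j with ⟨k, rfl | rfl⟩
      · rw [zpow_natCast]; exact h2 k
      · rw [zpow_neg, zpow_natCast, ← inv_pow]; exact h4 k
  have hcard : Nat.card (MulAction.fixedPoints G V) = Nat.card (LinearMap.ker (g - 1)) :=
    Nat.card_congr (Equiv.setCongr heq)
  rw [hcard] at h
  exact h

lemma pow_arith (q r n d : ℕ) (hq : 1 < q) (hr : r.Prime) (hcop : ¬ r ∣ q) (hle : d ≤ n)
    (h : q ^ n ≡ q ^ d [MOD r]) : r ∣ q ^ (n - d) - 1 := by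
  have h1 : q ^ d ≤ q ^ n := Nat.pow_le_pow_right (by omega) hle
  have h2 : r ∣ q ^ n - q ^ d := (Nat.modEq_iff_dvd' h1).mp h.symm
  have h3 : q ^ n - q ^ d = q ^ d * (q ^ (n - d) - 1) := by
    rw [Nat.mul_sub, mul_one, ← pow_add]
    congr 2
    omega
  rw [h3] at h2
  rcases (Nat.Prime.dvd_mul hr).mp h2 with h4 | h4
  · exact absurd (hr.dvd_of_dvd_pow h4) hcop
  · exact h4

lemma irred {F V : Type*} [Field F] [Finite F] [AddCommGroup V] [Module F V] [Finite V]
    (u : Module.End F V) (r : ℕ) (hr : r.Prime) (hu : u ^ r = 1) (hu1 : u ≠ 1)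
    (hdvd : r ∣ Nat.card F ^ Module.finrank F V - 1)
    (hprim : ∀ k, 0 < k → k < Module.finrank F V → ¬ r ∣ Nat.card F ^ k - 1) :
    LinearMap.ker (u - 1) = ⊥ ∧
      ∀ W : Submodule F V, (∀ w ∈ W, u w ∈ W) → W = ⊥ ∨ W = ⊤ := by
  have hq : 1 < Nat.card F := Finite.one_lt_card
  haveI : Module.Finite F V := Module.Finite.of_finite
  have hn0 : 0 < Module.finrank F V := by
    by_contra h0
    have h0' : Module.finrank F V = 0 := by omega
    haveI : Subsingleton V := Module.finrank_zero_iff.mp h0'
    exact hu1 (LinearMap.ext fun v => Subsingleton.elim _ _)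
  have hcop : ¬ r ∣ Nat.card F := by
    intro h
    have h1 : r ∣ Nat.card F ^ Module.finrank F V := Dvd.dvd.pow h hn0.ne'
    have h2 : 1 ≤ Nat.card F ^ Module.finrank F V := Nat.one_le_pow _ _ (by omega)
    have h3 : r ∣ Nat.card F ^ Module.finrank F V - (Nat.card F ^ Module.finrank F V - 1) :=
      Nat.dvd_sub h1 hdvd
    have h4 : Nat.card F ^ Module.finrank F V - (Nat.card F ^ Module.finrank F V - 1) = 1 := by
      omega
    rw [h4] at h3
    exact hr.one_lt.ne' (Nat.dvd_one.mp h3)
  have hker : LinearMap.ker (u - 1) = ⊥ := by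
    have h := fix_count u r hr hu
    rw [Module.natCard_eq_pow_finrank (K := F) (V := V),
      Module.natCard_eq_pow_finrank (K := F) (V := LinearMap.ker (u - 1))] at h
    have hle : Module.finrank F (LinearMap.ker (u - 1)) ≤ Module.finrank F V :=
      Submodule.finrank_le _
    have hne : Module.finrank F (LinearMap.ker (u - 1)) ≠ Module.finrank F V := by
      intro heq
      have htop := Submodule.eq_top_of_finrank_eq heq
      apply hu1
      ext v
      have hv : v ∈ LinearMap.ker (u - 1) := by rw [htop]; trivial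
      rw [LinearMap.mem_ker, LinearMap.sub_apply, sub_eq_zero] at hv
      exact hv
    have h5 := pow_arith _ r _ _ hq hr hcop hle h
    have hd0 : Module.finrank F (LinearMap.ker (u - 1)) = 0 := by
      by_contra hd
      exact hprim _ (by omega) (by omega) h5
    exact Submodule.finrank_eq_zero.mp hd0
  refine ⟨hker, ?_⟩
  intro W hW
  have hgr : (u.restrict hW) ^ r = 1 := by
    rw [Module.End.pow_restrict]
    ext w
    simp [hu]
  have h := fix_count (u.restrict hW) r hr hgr
  have hkerW : LinearMap.ker (u.restrict hW - 1) = ⊥ := by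
    rw [Submodule.eq_bot_iff]
    intro w hw
    rw [LinearMap.mem_ker, LinearMap.sub_apply, sub_eq_zero] at hw
    have h1 : u (w : V) = w := by
      have := congrArg Subtype.val hw
      simpa using this
    have h2 : (w : V) ∈ LinearMap.ker (u - 1) := by
      rw [LinearMap.mem_ker, LinearMap.sub_apply, sub_eq_zero]
      exact h1
    rw [hker] at h2
    exact Subtype.ext ((Submodule.mem_bot F).mp h2)
  rw [hkerW, Module.natCard_eq_pow_finrank (K := F) (V := W)] at h
  have hone : Nat.card (⊥ : Submodule F W) = 1 := by simp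
  rw [hone] at h
  have hle : Module.finrank F W ≤ Module.finrank F V := Submodule.finrank_le _
  have h1 : r ∣ Nat.card F ^ Module.finrank F W - 1 :=
    (Nat.modEq_iff_dvd' (Nat.one_le_pow _ _ (by omega))).mp h.symm
  by_cases h0 : Module.finrank F W = 0
  · left
    exact Submodule.finrank_eq_zero.mp h0
  · right
    by_contra hne
    have hlt : Module.finrank F W < Module.finrank F V := by
      rcases Nat.lt_or_ge (Module.finrank F W) (Module.finrank F V) with h2 | h2
      · exact h2
      · exact absurd (Submodule.eq_top_of_finrank_eq (le_antisymm hle h2)) hne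
    exact hprim _ (by omega) hlt h1

lemma ev_injective {F K : Type*} [Field F] [Field K] [Algebra F K]
    (A : Subalgebra F (Module.End F K))
    (h2 : ∀ a ∈ A, a ≠ 0 → LinearMap.ker a = ⊥) :
    Function.Injective (fun a : A => (a : Module.End F K) 1) := by
  have hz : ∀ a : A, (a : Module.End F K) 1 = 0 → a = 0 := by
    intro a ha
    by_contra hne
    have hker := h2 a a.2 (fun h => hne (Subtype.ext h))
    have h4 : (1 : K) ∈ LinearMap.ker (a : Module.End F K) := ha
    rw [hker] at h4
    exact one_ne_zero ((Submodule.mem_bot F).mp h4)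
  intro a b hab
  have hab' : (a : Module.End F K) 1 = (b : Module.End F K) 1 := hab
  have h4 : ((a - b : A) : Module.End F K) 1 = 0 := by
    rw [Subalgebra.coe_sub, LinearMap.sub_apply, hab', sub_self]
  exact sub_eq_zero.mp (hz _ h4)

lemma conj_lemma {F K : Type*} [Field F] [Field K] [Finite K] [Algebra F K]
    (A : Subalgebra F (Module.End F K)) (h1 : ∀ a ∈ A, ∀ b ∈ A, a * b = b * a)
    (h2 : ∀ a ∈ A, a ≠ 0 → LinearMap.ker a = ⊥) (h3 : Nat.card A = Nat.card K) :
    ∃ g : K ≃ₗ[F] K, ∀ a ∈ A, ∃ b : K, ∀ v, g (a v) = b * g v := by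
  haveI : Finite A := Nat.finite_of_card_ne_zero (by rw [h3]; exact Nat.card_pos.ne')
  have hdom : ∀ a b : A, a * b = 0 → a = 0 ∨ b = 0 := by
    intro a b hab
    by_cases ha : a = 0
    · exact Or.inl ha
    · right
      have hker := h2 a a.2 (fun h => ha (Subtype.ext h))
      apply Subtype.ext
      ext v
      have h4 : (a : Module.End F K) ((b : Module.End F K) v) = 0 := by
        have := congrArg (fun c : A => (c : Module.End F K) v) hab
        simpa using this
      have h5 : (b : Module.End F K) v ∈ LinearMap.ker (a : Module.End F K) := h4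
      rw [hker] at h5
      simpa using h5
  obtain ⟨φ⟩ : Nonempty (K ≃ₐ[F] A) :=
    algEquiv_of_card (fun a b => Subtype.ext (h1 a a.2 b b.2)) hdom
      (by
        intro h
        have := congrArg (fun c : A => (c : Module.End F K) 1) h
        simp at this) h3
  let ev : A →ₗ[F] K :=
    { toFun := fun a => (a : Module.End F K) 1
      map_add' := fun a b => by simp
      map_smul' := fun c a => by simp }
  have hev_inj : Function.Injective ev := by
    have hz : ∀ a : A, ev a = 0 → a = 0 := by
      intro a ha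
      by_contra hne
      have hker := h2 a a.2 (fun h => hne (Subtype.ext h))
      have h4 : (1 : K) ∈ LinearMap.ker (a : Module.End F K) := ha
      rw [hker] at h4
      exact one_ne_zero ((Submodule.mem_bot F).mp h4)
    intro a b hab
    have hab' : (a : Module.End F K) 1 = (b : Module.End F K) 1 := hab
    have h4 : ev (a - b) = 0 := by
      show ((a - b : A) : Module.End F K) 1 = 0
      rw [Subalgebra.coe_sub, LinearMap.sub_apply, hab', sub_self]
    exact sub_eq_zero.mp (hz _ h4)
  have hev_bij : Function.Bijective ev := hev_inj.bijective_of_nat_card_le (le_of_eq h3.symm)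
  let evE : A ≃ₗ[F] K := LinearEquiv.ofBijective ev hev_bij
  refine ⟨evE.symm.trans φ.symm.toLinearEquiv, ?_⟩
  intro a ha
  refine ⟨φ.symm ⟨a, ha⟩, fun v => ?_⟩
  have key : evE.symm (a v) = ⟨a, ha⟩ * evE.symm v := by
    rw [LinearEquiv.symm_apply_eq]
    have h5 : ((evE.symm v : A) : Module.End F K) 1 = v := evE.apply_symm_apply v
    show a v = ((⟨a, ha⟩ * evE.symm v : A) : Module.End F K) 1
    simp [h5]
  simp [key]

/-- Let F ⊆ K be finite fields with |F| = q and [K : F] = n ≥ 2, regard K as an n-dimensional F-vector space, and let M ≤ GL_F(K) be the Singer group of multiplications by non-zero elements of K (cyclic of order q^n − 1). Assume (n, q) ≠ (6, 2), and that it is not the case that n = 2 with q a prime such that q + 1 is a power of 2. Then every abelian subgroup of GL_F(K) of order q^n − 1 is conjugate to M. -/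
theorem result {F K : Type*} [Field F] [Fintype F] [Field K] [Fintype K] [Algebra F K] (n : ℕ) (hn : 2 ≤ n) (hdim : Module.finrank F K = n)
    (hex1 : ¬ (n = 6 ∧ Fintype.card F = 2))
    (hex2 : ¬ (n = 2 ∧ (Fintype.card F).Prime ∧ ∃ a : ℕ, Fintype.card F + 1 = 2 ^ a))
    (U : Subgroup (Module.End F K)ˣ) (hU : IsMulCommutative U) (hcard : Nat.card U = Fintype.card K - 1) :
    ∃ g : (Module.End F K)ˣ, U.map (MulAut.conj g).toMonoidHom = (Units.map ((Algebra.lmul F K : K →ₐ[F] Module.End F K) : K →* Module.End F K)).range := by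
  classical
  obtain ⟨p, -, e, hp, hqe⟩ := FiniteField.card' F
  have hcF : Nat.card F = Fintype.card F := Nat.card_eq_fintype_card
  have hcardK : Nat.card K = Nat.card F ^ n := by
    rw [Module.natCard_eq_pow_finrank (K := F) (V := K), hdim]
  obtain ⟨r, hr, hrd, hrk⟩ := ppd_exists p e n hp e.pos hn (by rw [← hqe]; exact hex1)
    (by rw [← hqe]; exact hex2)
  rw [← hqe, ← hcF] at hrd hrk
  haveI : Fact r.Prime := ⟨hr⟩
  haveI : Finite (Module.End F K) := Finite.of_injective (fun f : Module.End F K => (f : K → K))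
    DFunLike.coe_injective
  have hcardU : Nat.card U = Nat.card K - 1 := by rw [hcard, Nat.card_eq_fintype_card]
  have hrU : r ∣ Nat.card U := by rw [hcardU, hcardK]; exact hrd
  obtain ⟨u, hu⟩ := exists_prime_orderOf_dvd_card' r hrU
  obtain ⟨u, huU⟩ := u
  have hu' : orderOf u = r := by
    rw [← hu]
    exact (Subgroup.orderOf_mk u huU).symm
  have hur : (u : Module.End F K) ^ r = 1 := by
    rw [← Units.val_pow_eq_pow_val, ← hu', pow_orderOf_eq_one, Units.val_one]
  have hu1 : (u : Module.End F K) ≠ 1 := by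
    intro h
    have h1 : u = 1 := Units.ext h
    rw [h1, orderOf_one] at hu'
    exact hr.one_lt.ne hu'
  obtain ⟨hker, hirr⟩ := irred (u : Module.End F K) r hr hur hu1 (by rw [hdim]; exact hrd)
    (by rw [hdim]; exact hrk)
  set A := Subalgebra.centralizer F ({(u : Module.End F K)} : Set (Module.End F K)) with hA
  have hmemA : ∀ a, a ∈ A ↔ (u : Module.End F K) * a = a * (u : Module.End F K) := by
    intro a
    rw [hA, Subalgebra.mem_centralizer_iff]
    simp
  have h2 : ∀ a ∈ A, a ≠ 0 → LinearMap.ker a = ⊥ := by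
    intro a ha hne
    rcases hirr (LinearMap.ker a) (fun w hw => by
        rw [LinearMap.mem_ker] at hw ⊢
        have h3 : a ((u : Module.End F K) w) = (u : Module.End F K) (a w) := by
          have := congrArg (fun c : Module.End F K => c w) ((hmemA a).mp ha)
          simpa using this.symm
        rw [h3, hw, map_zero]) with h | h
    · exact h
    · exact absurd (LinearMap.ker_eq_top.mp h) hne
  have hcomm : ∀ s ∈ U, ∀ t ∈ U, s * t = t * s := by
    intro s hs t ht
    have := hU.is_comm.comm (⟨s, hs⟩ : U) ⟨t, ht⟩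
    exact congrArg Subtype.val this
  have hUA : ∀ s ∈ U, ((s : (Module.End F K)ˣ) : Module.End F K) ∈ A := by
    intro s hs
    rw [hmemA]
    have := hcomm u huU s hs
    exact congrArg Units.val this
  -- the map Option U → A
  let ι : Option U → A := fun o => match o with
    | none => 0
    | some s => ⟨((s : (Module.End F K)ˣ) : Module.End F K), hUA s.1 s.2⟩
  have hunit_ne : ∀ s : (Module.End F K)ˣ, (s : Module.End F K) ≠ 0 := fun s => s.ne_zero
  have hι_inj : Function.Injective ι := by
    intro o1 o2 h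
    rcases o1 with _ | s <;> rcases o2 with _ | t
    · rfl
    · exact absurd (congrArg Subtype.val h).symm (hunit_ne _)
    · exact absurd (congrArg Subtype.val h) (hunit_ne _)
    · have h3 : ((s : (Module.End F K)ˣ) : Module.End F K) = ((t : (Module.End F K)ˣ) : Module.End F K) :=
        congrArg Subtype.val h
      exact congrArg some (Subtype.ext (Units.ext h3))
  have hKpos : 0 < Nat.card K := Nat.card_pos
  have hcardA_ge : Nat.card K ≤ Nat.card A := by
    have := Nat.card_le_card_of_injective ι hι_inj
    rw [Finite.card_option, hcardU] at this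
    omega
  have hcardA_le : Nat.card A ≤ Nat.card K :=
    Nat.card_le_card_of_injective _ (ev_injective A h2)
  have h3 : Nat.card A = Nat.card K := le_antisymm hcardA_le hcardA_ge
  have hι_bij : Function.Bijective ι := hι_inj.bijective_of_nat_card_le (by
    rw [Finite.card_option, hcardU, h3]; omega)
  have h1 : ∀ a ∈ A, ∀ b ∈ A, a * b = b * a := by
    intro a ha b hb
    obtain ⟨o1, ho1⟩ := hι_bij.2 ⟨a, ha⟩
    obtain ⟨o2, ho2⟩ := hι_bij.2 ⟨b, hb⟩
    have ha' : a = (ι o1 : Module.End F K) := by rw [ho1]
    have hb' : b = (ι o2 : Module.End F K) := by rw [ho2]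
    rw [ha', hb']
    rcases o1 with _ | s <;> rcases o2 with _ | t
    · rfl
    · simp [ι]
    · simp [ι]
    · have := hcomm s.1 s.2 t.1 t.2
      exact congrArg Units.val this
  obtain ⟨g, hg⟩ := conj_lemma A h1 h2 h3
  let gu : (Module.End F K)ˣ := ⟨g.toLinearMap, g.symm.toLinearMap, by ext v; simp, by ext v; simp⟩
  have hgu : ∀ v, (gu : Module.End F K) v = g v := fun v => rfl
  have hgu' : ∀ v, ((gu⁻¹ : (Module.End F K)ˣ) : Module.End F K) v = g.symm v := fun v => rfl
  refine ⟨gu, ?_⟩
  have hinj : Function.Injective (Units.map ((Algebra.lmul F K : K →ₐ[F] Module.End F K) : K →* Module.End F K)) :=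
    Units.map_injective Algebra.lmul_injective
  apply Subgroup.eq_of_le_of_card_ge
  · rintro x ⟨s, hs, rfl⟩
    obtain ⟨b, hb⟩ := hg (s : Module.End F K) (hUA s hs)
    have hb0 : b ≠ 0 := by
      rintro rfl
      have h4 := hb 1
      rw [zero_mul] at h4
      have h5 : (s : Module.End F K) 1 = 0 := by
        have := congrArg g.symm h4
        simpa using this
      have h6 : (1 : K) = 0 := by
        have := congrArg ((s⁻¹ : (Module.End F K)ˣ) : Module.End F K) h5
        rw [← Module.End.mul_apply, Units.inv_mul, map_zero] at this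
        simpa using this
      exact one_ne_zero h6
    refine ⟨Units.mk0 b hb0, ?_⟩
    apply Units.ext
    ext v
    show b * v = (gu : Module.End F K) ((s : Module.End F K) (((gu⁻¹ : (Module.End F K)ˣ) : Module.End F K) v))
    rw [hgu, hgu', hb]
    simp
  · rw [Subgroup.card_map_of_injective (MulAut.conj gu).injective, hcardU,
      Nat.card_congr (MonoidHom.ofInjective hinj).symm.toEquiv, Nat.card_units]

end Cfsg.Agent.S5947
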