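import Cfsg.Statements.S2638
import Cfsg.Agent.S5947

set_option autoImplicit false
set_option linter.style.haveILetI false
set_option linter.unusedVariables false
open Cfsg

namespace Cfsg.Agent.S2638
open Polynomial

lemma cyclic_of_hom {G A : Type*} [Group G] [Finite G] [Ring A]
    (hcomm : ∀ a b : A, a * b = b * a) (hdom : ∀ a b : A, a * b = 0 → a = 0 ∨ b = 0)
    (hnt : (0 : A) ≠ 1) (f : G →* A) (hf : Function.Injective f) : IsCyclic G := by
  letI cr : CommRing A := { ‹Ring A› with mul_comm := hcomm }
  haveI : Nontrivial A := ⟨⟨0, 1, hnt⟩⟩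
  haveI : NoZeroDivisors A := ⟨fun {a b} h => hdom a b h⟩
  haveI : IsDomain A := NoZeroDivisors.to_isDomain A
  exact isCyclic_of_injective_ringHom f hf

/-- structure of the centralizer algebra of an irreducible element of prime order -/
lemma centralizer_alg {F V : Type*} [Field F] [Finite F] [AddCommGroup V] [Module F V] [Finite V]
    (u : Module.End F V) (r : ℕ) (hr : r.Prime) (hu : u ^ r = 1) (hu1 : u ≠ 1)
    (hdvd : r ∣ Nat.card F ^ Module.finrank F V - 1)
    (hprim : ∀ k, 0 < k → k < Module.finrank F V → ¬ r ∣ Nat.card F ^ k - 1) :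
    (∀ a ∈ Subalgebra.centralizer F ({u} : Set (Module.End F V)),
      ∀ b ∈ Subalgebra.centralizer F ({u} : Set (Module.End F V)), a * b = b * a) ∧
    (∀ a ∈ Subalgebra.centralizer F ({u} : Set (Module.End F V)), a ≠ 0 → LinearMap.ker a = ⊥) ∧
    Nat.card (Subalgebra.centralizer F ({u} : Set (Module.End F V))) = Nat.card V := by
  obtain ⟨hker, hirr⟩ := Cfsg.Agent.S5947.irred u r hr hu hu1 hdvd hprim
  set A := Subalgebra.centralizer F ({u} : Set (Module.End F V)) with hA
  have hmemA : ∀ a, a ∈ A ↔ u * a = a * u := by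
    intro a
    rw [hA, Subalgebra.mem_centralizer_iff]
    simp
  have h2 : ∀ a ∈ A, a ≠ 0 → LinearMap.ker a = ⊥ := by
    intro a ha hne
    rcases hirr (LinearMap.ker a) (fun w hw => by
        rw [LinearMap.mem_ker] at hw ⊢
        have h3 : a (u w) = u (a w) := by
          have := congrArg (fun c : Module.End F V => c w) ((hmemA a).mp ha)
          simpa using this.symm
        rw [h3, hw, map_zero]) with h | h
    · exact h
    · exact absurd (LinearMap.ker_eq_top.mp h) hne
  -- a nonzero vector
  obtain ⟨v₀, hv₀⟩ : ∃ v₀ : V, v₀ ≠ 0 := by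
    by_contra hcon
    push Not at hcon
    apply hu1
    ext v
    rw [hcon v, map_zero, map_zero]
  -- evaluation at v₀ is injective on A
  have hev : Function.Injective (fun a : A => (a : Module.End F V) v₀) := by
    have hz : ∀ a : A, (a : Module.End F V) v₀ = 0 → a = 0 := by
      intro a ha
      by_contra hne
      have hker := h2 a a.2 (fun h => hne (Subtype.ext h))
      have h4 : v₀ ∈ LinearMap.ker (a : Module.End F V) := ha
      rw [hker] at h4
      exact hv₀ ((Submodule.mem_bot F).mp h4)
    intro a b hab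
    have hab' : (a : Module.End F V) v₀ = (b : Module.End F V) v₀ := hab
    have h4 : ((a - b : A) : Module.End F V) v₀ = 0 := by
      rw [Subalgebra.coe_sub, LinearMap.sub_apply, hab', sub_self]
    exact sub_eq_zero.mp (hz _ h4)
  -- polynomials in u
  have hpolyA : ∀ p : F[X], aeval u p ∈ A := by
    intro p
    rw [hmemA]
    have h1 : u = aeval u (X : F[X]) := (aeval_X u).symm
    calc u * aeval u p = aeval u (X : F[X]) * aeval u p := by rw [← h1]
      _ = aeval u (X * p) := (map_mul _ _ _).symm
      _ = aeval u (p * X) := by rw [mul_comm]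
      _ = aeval u p * aeval u (X : F[X]) := map_mul _ _ _
      _ = aeval u p * u := by rw [← h1]
  let L : F[X] →ₗ[F] V := (LinearMap.applyₗ v₀).comp (aeval u).toLinearMap
  have hL : ∀ p, L p = (aeval u p) v₀ := fun p => rfl
  have hWtop : LinearMap.range L = ⊤ := by
    rcases hirr (LinearMap.range L) (by
        rintro w ⟨p, rfl⟩
        refine ⟨X * p, ?_⟩
        rw [hL, hL, map_mul, aeval_X]
        rfl) with h | h
    · exfalso
      have h1 : v₀ ∈ LinearMap.range L := ⟨1, by rw [hL, map_one]; rfl⟩
      rw [h] at h1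
      exact hv₀ ((Submodule.mem_bot F).mp h1)
    · exact h
  have hsurj : ∀ w : V, ∃ p : F[X], (aeval u p) v₀ = w := by
    intro w
    have : w ∈ LinearMap.range L := by rw [hWtop]; trivial
    obtain ⟨p, hp⟩ := this
    exact ⟨p, hp⟩
  have hpoly : ∀ a ∈ A, ∃ p : F[X], a = aeval u p := by
    intro a ha
    obtain ⟨p, hp⟩ := hsurj (a v₀)
    refine ⟨p, ?_⟩
    have := hev (a₁ := ⟨a, ha⟩) (a₂ := ⟨aeval u p, hpolyA p⟩) hp.symm
    exact congrArg Subtype.val this
  refine ⟨?_, h2, ?_⟩
  · intro a ha b hb
    obtain ⟨p, rfl⟩ := hpoly a ha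
    obtain ⟨p', rfl⟩ := hpoly b hb
    rw [← map_mul, ← map_mul, mul_comm]
  · apply Nat.card_eq_of_bijective _ ⟨hev, ?_⟩
    intro w
    obtain ⟨p, hp⟩ := hsurj w
    exact ⟨⟨aeval u p, hpolyA p⟩, hp⟩


lemma centralizer_grp {F V : Type*} [Field F] [Finite F] [AddCommGroup V] [Module F V] [Finite V]
    (u : Module.End F V) (r : ℕ) (hr : r.Prime) (hu : u ^ r = 1) (hu1 : u ≠ 1)
    (hdvd : r ∣ Nat.card F ^ Module.finrank F V - 1)
    (hprim : ∀ k, 0 < k → k < Module.finrank F V → ¬ r ∣ Nat.card F ^ k - 1)
    (H : Subgroup (Module.End F V)ˣ)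
    (hH : ∀ g : (Module.End F V)ˣ, g ∈ H ↔ u * (g : Module.End F V) = (g : Module.End F V) * u) :
    IsCyclic H ∧ Nat.card H = Nat.card V - 1 := by
  obtain ⟨h1, h2, h3⟩ := centralizer_alg u r hr hu hu1 hdvd hprim
  set A := Subalgebra.centralizer F ({u} : Set (Module.End F V)) with hA
  have hmemA : ∀ a, a ∈ A ↔ u * a = a * u := by
    intro a
    rw [hA, Subalgebra.mem_centralizer_iff]
    simp
  haveI : Module.Finite F V := Module.Finite.of_finite
  haveI : Finite (Module.End F V) := Finite.of_injective (fun f : Module.End F V => (f : V → V))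
    DFunLike.coe_injective
  have hdom : ∀ a b : A, a * b = 0 → a = 0 ∨ b = 0 := by
    intro a b hab
    by_cases ha : a = 0
    · exact Or.inl ha
    · right
      have hker := h2 a a.2 (fun h => ha (Subtype.ext h))
      apply Subtype.ext
      ext v
      have h4 : (a : Module.End F V) ((b : Module.End F V) v) = 0 := by
        have := congrArg (fun c : A => (c : Module.End F V) v) hab
        simpa using this
      have h5 : (b : Module.End F V) v ∈ LinearMap.ker (a : Module.End F V) := h4
      rw [hker] at h5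
      simpa using h5
  have hE : (0 : Module.End F V) ≠ 1 := by
    intro h4
    apply hu1
    rw [← mul_one u, ← h4, mul_zero]
  haveI : Nontrivial (Module.End F V) := ⟨⟨0, 1, hE⟩⟩
  have hnt : (0 : A) ≠ 1 := fun h => hE (congrArg Subtype.val h)
  let f : H →* A :=
    { toFun := fun g => ⟨((g : (Module.End F V)ˣ) : Module.End F V), (hmemA _).mpr ((hH g.1).mp g.2)⟩
      map_one' := rfl
      map_mul' := fun _ _ => rfl }
  have hf : Function.Injective f := by
    intro a b hab
    have h4 : ((a : (Module.End F V)ˣ) : Module.End F V) = ((b : (Module.End F V)ˣ) : Module.End F V) :=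
      congrArg Subtype.val hab
    exact Subtype.ext (Units.ext h4)
  refine ⟨cyclic_of_hom (fun a b => Subtype.ext (h1 a a.2 b b.2)) hdom hnt f hf, ?_⟩
  let ι : Option H → A := fun o => match o with
    | none => 0
    | some s => f s
  have hι_bij : Function.Bijective ι := by
    constructor
    · intro o1 o2 h
      rcases o1 with _ | s <;> rcases o2 with _ | t
      · rfl
      · exact absurd (congrArg Subtype.val h).symm (Units.ne_zero _)
      · exact absurd (congrArg Subtype.val h) (Units.ne_zero _)
      · exact congrArg some (hf h)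
    · intro a
      by_cases ha : a = 0
      · exact ⟨none, ha.symm⟩
      · have hker := h2 a a.2 (fun h => ha (Subtype.ext h))
        obtain ⟨g, hg⟩ := (LinearMap.isUnit_iff_ker_eq_bot (a : Module.End F V)).mpr hker
        have hgH : g ∈ H := by
          rw [hH, hg]
          exact (hmemA _).mp a.2
        exact ⟨some ⟨g, hgH⟩, Subtype.ext hg⟩
  have h4 := Nat.card_eq_of_bijective ι hι_bij
  rw [Finite.card_option, h3] at h4
  omega

/-- If an element x of GL_n(q), n ≥ 1, has prime order r and the multiplicative order of q modulo r is n (r is a primitive prime divisor of q^n − 1, so x acts irreducibly), then the centraliser of x in GL_n(q) is cyclic of order q^n − 1 (the multiplicative group of the field with q^n elements, a Singer cycle). -/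
theorem result {F : Type*} [Field F] [Fintype F] {p q : ℕ} [Fact p.Prime] [CharP F p] (hF : Fintype.card F = q) {n r : ℕ} (hn : 1 ≤ n) (hr : r.Prime) (hrp : r ≠ p) (hi : orderOf (q : ZMod r) = n) (x : GL (Fin n) F) (hx : orderOf x = r) : IsCyclic ↥(Subgroup.centralizer ({x} : Set (GL (Fin n) F))) ∧ Nat.card ↥(Subgroup.centralizer ({x} : Set (GL (Fin n) F))) = q ^ n - 1 := by
  classical
  haveI : Fact r.Prime := ⟨hr⟩
  have hcF : Nat.card F = q := by rw [Nat.card_eq_fintype_card, hF]
  have hq1 : 1 < q := by rw [← hF]; exact Fintype.one_lt_card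
  have hfin : Module.finrank F (Fin n → F) = n := Module.finrank_fin_fun F
  have hcardV : Nat.card (Fin n → F) = q ^ n := by
    rw [Module.natCard_eq_pow_finrank (K := F) (V := Fin n → F), hfin, hcF]
  have hpow : ∀ k : ℕ, r ∣ q ^ k - 1 ↔ (q : ZMod r) ^ k = 1 := by
    intro k
    rw [← ZMod.natCast_eq_zero_iff, Nat.cast_sub (Nat.one_le_pow _ _ (by omega))]
    push_cast
    rw [sub_eq_zero]
  have hdvd : r ∣ q ^ n - 1 := by
    rw [hpow, ← hi]
    exact pow_orderOf_eq_one _
  have hprim : ∀ k, 0 < k → k < n → ¬ r ∣ q ^ k - 1 := by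
    intro k hk hkn hd
    rw [hpow] at hd
    have := orderOf_dvd_of_pow_eq_one hd
    rw [hi] at this
    exact absurd (Nat.le_of_dvd hk this) (by omega)
  let e : GL (Fin n) F ≃* (Module.End F (Fin n → F))ˣ := Matrix.GeneralLinearGroup.toLin
  have hord : orderOf (e x) = r := by rw [MulEquiv.orderOf_eq, hx]
  have hur : ((e x : (Module.End F (Fin n → F))ˣ) : Module.End F (Fin n → F)) ^ r = 1 := by
    rw [← Units.val_pow_eq_pow_val, ← hord, pow_orderOf_eq_one, Units.val_one]
  have hu1 : ((e x : (Module.End F (Fin n → F))ˣ) : Module.End F (Fin n → F)) ≠ 1 := by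
    intro h
    have h1 : e x = 1 := Units.ext h
    rw [h1, orderOf_one] at hord
    exact hr.one_lt.ne hord
  have hmem : ∀ g : (Module.End F (Fin n → F))ˣ,
      g ∈ (Subgroup.centralizer ({x} : Set (GL (Fin n) F))).map
        (e : GL (Fin n) F →* (Module.End F (Fin n → F))ˣ) ↔
      ((e x : (Module.End F (Fin n → F))ˣ) : Module.End F (Fin n → F)) * (g : Module.End F (Fin n → F))
        = (g : Module.End F (Fin n → F)) * ((e x : (Module.End F (Fin n → F))ˣ) : Module.End F (Fin n → F)) := by
    intro g
    constructor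
    · rintro ⟨y, hy, rfl⟩
      have h1 : x * y = y * x := Subgroup.mem_centralizer_iff.mp hy x rfl
      have h2 : e x * e y = e y * e x := by rw [← map_mul, ← map_mul, h1]
      exact congrArg Units.val h2
    · intro h
      refine ⟨e.symm g, Subgroup.mem_centralizer_iff.mpr ?_, e.apply_symm_apply g⟩
      rintro _ rfl
      apply e.injective
      rw [map_mul, map_mul, e.apply_symm_apply]
      exact Units.ext h
  obtain ⟨hc, hcard⟩ := centralizer_grp _ r hr hur hu1 (by rw [hfin, hcF]; exact hdvd)
    (by rw [hfin, hcF]; exact hprim) _ hmem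
  let e' := e.subgroupMap (Subgroup.centralizer ({x} : Set (GL (Fin n) F)))
  refine ⟨(MulEquiv.isCyclic e').mpr hc, ?_⟩
  rw [Nat.card_congr e'.toEquiv, hcard, hcardV]

end Cfsg.Agent.S2638
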