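import Cfsg.Statements.S2650
import Cfsg.Agent.Lib.Helper66.M23NonSplit

set_option autoImplicit false
open Cfsg

namespace Cfsg.Agent.S2650

open Cfsg.Spor Cfsg.Agent.Lib.Helper66.M23ExtData Cfsg.Agent.Lib.Helper66.M23Ext
  Cfsg.Agent.Lib.Helper66.M23Gen Cfsg.Agent.Lib.Helper66.M23NonSplit

/-- Conjugating the sign change of a word by an element of the group of signed permutations
gives the sign change of the permuted word. -/
theorem conj_Fw {u : Equiv.Perm GolayPt × Equiv.Perm X} (hu : u ∈ Esub) (w : GolayPt → ZMod 2) :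
    Fw (w ∘ ⇑u.1⁻¹) = u.2 * Fw w * u.2⁻¹ := by
  obtain ⟨-, h2, h3, -⟩ := hu
  apply Equiv.ext
  intro x
  obtain ⟨y, rfl⟩ : ∃ y, u.2 y = x := ⟨u.2.symm x, Equiv.apply_symm_apply u.2 x⟩
  have hinv : u.2⁻¹ (u.2 y) = y := Equiv.symm_apply_apply u.2 y
  rw [Equiv.Perm.mul_apply, Equiv.Perm.mul_apply, hinv]
  have hp : pairing (w ∘ ⇑u.1⁻¹) (u.2 y).1.1 = pairing w y.1.1 := pairing_comp u.1 w (h2 y)
  rcases z_two (pairing w y.1.1) with h0 | h0
  · have e1 : Fw w y = y := by
      refine Prod.ext (Fw_fst w y) ?_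
      rw [Fw_snd, h0, add_zero]
    rw [e1]
    refine Prod.ext (Fw_fst _ _) ?_
    rw [Fw_snd, hp, h0, add_zero]
  · have e1 : Fw w y = flip y := by
      refine Prod.ext (Fw_fst w y) ?_
      rw [Fw_snd, h0, flip_snd]
    rw [e1, h3]
    refine Prod.ext (Fw_fst _ _) ?_
    rw [Fw_snd, hp, h0, flip_snd]

/-- A non-split extension of the Mathieu group M₂₃ by its cocode module exists. There is a finite group E with a normal subgroup N, an isomorphism φ from E/N onto M₂₃ = `Spor.M23` (the stabiliser of the extra point `none` in M₂₄ acting on the 24 points `GolayPt`), and a surjective additive homomorphism θ from the binary words on `GolayPt` onto N whose kernel consists of the words of the Golay code `golayCode` and their translates by the unit vector at `none` (so N is elementary abelian of order 2¹¹), such that θ carries the coordinate permutation w ↦ w ∘ σ⁻¹, σ = φ(gN), to conjugation by g on N — and such that N has no complement in E. -/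
theorem result :
    ∃ (E : Type) (_ : Group E) (_ : Finite E) (N : Subgroup E) (_ : N.Normal)
      (φ : E ⧸ N ≃* ↥Cfsg.Spor.M23) (θ : (Cfsg.GolayPt → ZMod 2) →+ Additive ↥N),
      Function.Surjective θ ∧
      (∀ w : Cfsg.GolayPt → ZMod 2, θ w = 0 ↔ (w ∈ Cfsg.golayCode ∨ w + Pi.single none 1 ∈ Cfsg.golayCode)) ∧
      (∀ (g : E) (w : Cfsg.GolayPt → ZMod 2),
        ((θ (w ∘ ⇑(((φ (QuotientGroup.mk g) : ↥Cfsg.Spor.M23) : Equiv.Perm Cfsg.GolayPt)⁻¹))).toMul : E)
          = g * ((θ w).toMul : E) * g⁻¹) ∧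
      ∀ H : Subgroup E, H ⊓ N = ⊥ → H ⊔ N ≠ ⊤ := by
  refine ⟨↥Esub, inferInstance, inferInstance, pr.ker, MonoidHom.normal_ker pr,
    QuotientGroup.quotientKerEquivOfSurjective pr pr_surjective, thetaHom, ?_, ?_, ?_, ?_⟩
  · intro n
    obtain ⟨w, hw⟩ := ker_word (n.toMul : ↥Esub) n.toMul.2
    refine ⟨w, ?_⟩
    rw [thetaHom_apply]
    apply Additive.toMul.injective
    apply Subtype.ext
    apply Subtype.ext
    rw [hw]
    rfl
  · intro w
    rw [← ker_iff, ← thetaElt_eq_one_iff, thetaHom_apply]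
    exact Iff.rfl
  · intro g w
    have hφ : (QuotientGroup.quotientKerEquivOfSurjective pr pr_surjective) (QuotientGroup.mk g) =
        pr g := rfl
    rw [hφ, thetaHom_apply, thetaHom_apply]
    apply Subtype.ext
    show ((1 : Equiv.Perm GolayPt), Fw (w ∘ ⇑((g : Equiv.Perm GolayPt × Equiv.Perm X).1)⁻¹)) =
      (g : Equiv.Perm GolayPt × Equiv.Perm X) * (1, Fw w) *
        (g : Equiv.Perm GolayPt × Equiv.Perm X)⁻¹
    refine Prod.ext ?_ ?_
    · show (1 : Equiv.Perm GolayPt) = (g : Equiv.Perm GolayPt × Equiv.Perm X).1 * 1 *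
        (g : Equiv.Perm GolayPt × Equiv.Perm X).1⁻¹
      rw [mul_one, mul_inv_cancel]
    · exact conj_Fw g.2 w
  · exact no_complement

end Cfsg.Agent.S2650
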