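import Cfsg.Statements.S2694
-- import your own Cfsg.Agent.* helpers here
import Mathlib
import Cfsg.Agent.S0295
import Cfsg.Agent.Lib.Helper43.OOdFrame

set_option autoImplicit false
open Cfsg

namespace Cfsg.Agent.S2694

open Cfsg.Agent.Lib.Helper43.OOdBase

/-- For m ≥ 3 and a finite field F of odd order, the automorphism group of the orthogonal group Ω_{2m+1}(F) (realised as PΩ of the form x₀² + Σ xᵢ yᵢ, whose centre is trivial) is generated by the automorphisms induced by the semisimilarities v ↦ g σ(v) of the form (the image of the projective semisimilarity group); there are no graph or graph-field automorphisms. -/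
theorem result {F : Type*} [Field F] [Fintype F] (hodd : Odd (Fintype.card F)) {m : ℕ} (hm : 3 ≤ m) :
    Cfsg.gammaPOmega F (Cfsg.quadFormOdd m F) = ⊤ := by
  have h2 : (2 : F) ≠ 0 := by
    intro h
    have : CharP F 2 := CharTwo.of_one_ne_zero_of_two_eq_zero one_ne_zero h
    have h3 := FiniteField.even_card_of_char_two (ringChar.eq F 2)
    rcases hodd with ⟨k, hk⟩
    omega
  exact Cfsg.Agent.Lib.Helper43.OOdFrame.gamma_eq_top (Hy.mk h2 hm)
    (Cfsg.Agent.S0295.result hodd m hm)

end Cfsg.Agent.S2694
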