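import Cfsg.Statements.S2716
import Mathlib
import Cfsg.Agent.S2696
import Cfsg.Agent.Lib.Helper44.MFldT
import Cfsg.Agent.Lib.Helper44.MCentFin
import Cfsg.Agent.Lib.Helper65.MFldGA
import Cfsg.Agent.Lib.Helper15.MFldKM2
import Cfsg.Agent.Lib.Helper30.MFldPC
import Cfsg.Agent.Lib.Helper50.MFldGE
import Cfsg.Agent.Lib.Helper98.MFldII2
import Cfsg.Agent.Lib.Helper85.MFldITO
import Cfsg.Agent.Lib.Helper14.MFldKM1
import Cfsg.Agent.Lib.Helper97.MFldMB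
import Cfsg.Agent.Lib.Helper50.MFldMC
import Cfsg.Agent.Lib.Helper69.MFldNO
import Cfsg.Agent.Lib.Helper22.MFldRK
import Cfsg.Agent.Lib.Helper97.MCentCO
import Cfsg.Agent.Lib.Helper41.MCentCT
import Cfsg.Agent.Lib.Helper69.MCentDS
import Cfsg.Agent.Lib.Helper48.MCentEMB
import Cfsg.Agent.Lib.Helper69.MCentFC
import Cfsg.Agent.Lib.Helper66.MCentKC
import Cfsg.Agent.Lib.Helper97.MCentMR
import Cfsg.Agent.Lib.Helper66.MCentMS
import Cfsg.Agent.Lib.Helper69.MCentOD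
import Cfsg.Agent.Lib.Helper99.MCentOR
import Cfsg.Agent.Lib.Helper30.MCentRDO
import Cfsg.Agent.Lib.Helper5.MCentRDT
import Cfsg.Agent.Lib.Helper48.MCentSQ

set_option autoImplicit false
open Cfsg

namespace Cfsg.Agent.S2716


universe u v

theorem hS : Cfsg.Agent.Lib.Helper44.MFldStmt.SepMinus.{u} :=
  Cfsg.Agent.Lib.Helper97.MFldMB.sepMinus

theorem hMC : Cfsg.Agent.Lib.Helper44.MFldStmt.MinusCharK.{u} :=
  Cfsg.Agent.Lib.Helper50.MFldMC.main Cfsg.Agent.Lib.Helper22.MFldRK.main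
    Cfsg.Agent.Lib.Helper50.MFldGE.main

theorem hKP : Cfsg.Agent.Lib.Helper44.MFldStmt.KerPhiMinus.{u} :=
  Cfsg.Agent.Lib.Helper15.MFldKM2.main hS

theorem hII : Cfsg.Agent.Lib.Helper44.MFldStmt.InndiagInn2.{u} :=
  Cfsg.Agent.Lib.Helper98.MFldII2.main hMC hS

theorem hTT : Cfsg.Agent.Lib.Helper44.MFldStmt.TransportT.{u} :=
  Cfsg.Agent.Lib.Helper44.MFldT.transportT_of hII
    (Cfsg.Agent.Lib.Helper69.MFldNO.main Cfsg.Agent.Lib.Helper65.MFldGA.semiConj)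
    Cfsg.Agent.Lib.Helper65.MFldGA.inducedEq
    (Cfsg.Agent.Lib.Helper85.MFldITO.main Cfsg.Agent.Lib.Helper30.MFldPC.main
      Cfsg.Agent.Lib.Helper97.MFldMB.isoMinus)
    (fun F _ _ m hm a b hab => Cfsg.Agent.S2696.result hm a b hab)

theorem hSQ : Cfsg.Agent.Lib.Helper44.MCentStmt.SqClass.{u} :=
  Cfsg.Agent.Lib.Helper48.MCentSQ.main


/-- Let T = PΩ⁻_{2m+2}(F) (m ≥ 3, |F| = p^f; the form Σ xᵢ yᵢ + z₁² + a z₁ z₂ + b z₂² with anisotropic binary part), G = Inndiag(T), and x a field automorphism of T of prime order r. Then r is odd and divides f; C_G(x) is isomorphic to Inndiag(PΩ⁻_{2m+2}(F₀)) for a field F₀ with p^(f/r) elements and some anisotropic binary part over F₀; and the G-class of x is a single T-class. -/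
theorem result {F : Type*} [Field F] [Fintype F] {p f : ℕ} [Fact p.Prime] (hF : Fintype.card F = p ^ f) (hf : 1 ≤ f) {m : ℕ} (hm : 3 ≤ m) (a b : F) (hab : (∀ z₁ z₂ : F, z₁ ^ 2 + a * z₁ * z₂ + b * z₂ ^ 2 = 0 → z₁ = 0 ∧ z₂ = 0)) (x : MulAut (Cfsg.POmega F (Cfsg.quadFormMinus m F a b))) (hx : Cfsg.IsFieldAutClassPOmegaMinus m x) {r : ℕ} (hr : r.Prime) (hxr : orderOf x = r) (F₀ : Type*) [Field F₀] [Fintype F₀] (hF₀ : Fintype.card F₀ = p ^ (f / r)) :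
    Odd r ∧ r ∣ f ∧ (∃ a₀ b₀ : F₀, (∀ z₁ z₂ : F₀, z₁ ^ 2 + a₀ * z₁ * z₂ + b₀ * z₂ ^ 2 = 0 → z₁ = 0 ∧ z₂ = 0) ∧ Nonempty (↥(Cfsg.inndiagPOmegaMinus m F a b ⊓ Subgroup.centralizer {x}) ≃* ↥(Cfsg.inndiagPOmegaMinus m F₀ a₀ b₀))) ∧ Cfsg.splitClassCount (Cfsg.inndiagPOmegaMinus m F a b) (Cfsg.Inn (Cfsg.POmega F (Cfsg.quadFormMinus m F a b))) x = 1 := by
  exact Cfsg.Agent.Lib.Helper44.MCentFin.final_of
    Cfsg.Agent.Lib.Helper65.MFldGA.fieldAutEqQ Cfsg.Agent.Lib.Helper65.MFldGA.csMulPhiQ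
    Cfsg.Agent.Lib.Helper14.MFldKM1.main hKP Cfsg.Agent.Lib.Helper97.MFldMB.minusInv
    Cfsg.Agent.Lib.Helper97.MFldMB.inndiagLeRange Cfsg.Agent.Lib.Helper97.MFldMB.inndiagLeRange
    hTT Cfsg.Agent.Lib.Helper69.MCentFC.main
    (Cfsg.Agent.Lib.Helper69.MCentOD.main Cfsg.Agent.Lib.Helper22.MFldRK.main)
    Cfsg.Agent.Lib.Helper48.MCentEMB.main Cfsg.Agent.Lib.Helper66.MCentMS.main
    Cfsg.Agent.Lib.Helper69.MCentDS.main (Cfsg.Agent.Lib.Helper66.MCentKC.main hKP hKP)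
    Cfsg.Agent.Lib.Helper97.MCentCO.main
    (Cfsg.Agent.Lib.Helper41.MCentCT.main hII hII hKP hKP Cfsg.Agent.Lib.Helper66.MCentMS.main)
    (Cfsg.Agent.Lib.Helper30.MCentRDO.main (Cfsg.Agent.Lib.Helper99.MCentOR.main hSQ)
      (Cfsg.Agent.Lib.Helper97.MCentMR.main hSQ) hS)
    (Cfsg.Agent.Lib.Helper5.MCentRDT.main hS)
    hF hm a b hab x hx hr hxr F₀ hF₀

end Cfsg.Agent.S2716
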