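import Cfsg.Statements.S2717
import Mathlib
import Cfsg.Agent.Lib.Helper44.GFFin
import Cfsg.Agent.Lib.Helper44.GFCNT
import Cfsg.Agent.Lib.Helper44.GFHs
import Cfsg.Agent.Lib.Helper44.OFldM
import Cfsg.Agent.Lib.Helper97.OFldMb
import Cfsg.Agent.Lib.Helper14.OFldA6
import Cfsg.Agent.Lib.Helper62.OFldMc1
import Cfsg.Agent.Lib.Helper62.OFldMc2
import Cfsg.Agent.Lib.Helper91.OFldMa
import Cfsg.Agent.Lib.Helper15.OFldA3
import Cfsg.Agent.Lib.Helper48.OFldA4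
import Cfsg.Agent.Lib.Helper59.OFldC1
import Cfsg.Agent.Lib.Helper93.OFldA2
import Cfsg.Agent.Lib.Helper15.MFldKM2
import Cfsg.Agent.Lib.Helper50.MFldGE
import Cfsg.Agent.Lib.Helper98.MFldII2
import Cfsg.Agent.Lib.Helper97.MFldMB
import Cfsg.Agent.Lib.Helper50.MFldMC
import Cfsg.Agent.Lib.Helper22.MFldRK
import Cfsg.Agent.Lib.Helper69.MCentDS
import Cfsg.Agent.Lib.Helper48.MCentEMB
import Cfsg.Agent.Lib.Helper69.MCentFC
import Cfsg.Agent.Lib.Helper66.MCentMS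
import Cfsg.Agent.Lib.Helper43.GFCI
import Cfsg.Agent.Lib.Helper98.GFIIP
import Cfsg.Agent.Lib.Helper98.GFCPT
import Cfsg.Agent.Lib.Helper98.GFG2b
import Cfsg.Agent.Lib.Helper97.GFTH
import Cfsg.Agent.Lib.Helper97.GFMU
import Cfsg.Agent.Lib.Helper97.GFCPO
import Cfsg.Agent.Lib.Helper85.GFKC2
import Cfsg.Agent.Lib.Helper85.GFDZ
import Cfsg.Agent.Lib.Helper41.GFG2a
import Cfsg.Agent.Lib.Helper45.GFDEL
import Cfsg.Agent.Lib.Helper62.GFSW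
import Cfsg.Agent.Lib.Helper82.GFHSa
import Cfsg.Agent.Lib.Helper1.GFRT
import Cfsg.Agent.Lib.Helper34.GFSPC
import Cfsg.Agent.Lib.Helper34.GFSPL
import Cfsg.Agent.Lib.Helper55.GFUI
import Cfsg.Agent.Lib.Helper55.GFCH
import Cfsg.Agent.Lib.Helper55.GFEA
import Cfsg.Agent.Lib.Helper55.GFSF
import Cfsg.Agent.Lib.Helper55.GFNQ
import Cfsg.Agent.Lib.Helper55.GFNT
import Cfsg.Agent.Lib.Helper41.GFRAT

set_option autoImplicit false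
open Cfsg

namespace Cfsg.Agent.S2717


universe u v

theorem hS : Cfsg.Agent.Lib.Helper44.MFldStmt.SepMinus.{u} :=
  Cfsg.Agent.Lib.Helper97.MFldMB.sepMinus

theorem hMC : Cfsg.Agent.Lib.Helper44.MFldStmt.MinusCharK.{u} :=
  Cfsg.Agent.Lib.Helper50.MFldMC.main Cfsg.Agent.Lib.Helper22.MFldRK.main
    Cfsg.Agent.Lib.Helper50.MFldGE.main

theorem hKP : Cfsg.Agent.Lib.Helper44.MFldStmt.KerPhiMinus.{u} :=
  Cfsg.Agent.Lib.Helper15.MFldKM2.main hS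

theorem hII : Cfsg.Agent.Lib.Helper44.MFldStmt.InndiagInn2.{u} :=
  Cfsg.Agent.Lib.Helper98.MFldII2.main hMC hS

theorem hHI : Cfsg.Agent.Lib.Helper44.GFStmt.HsInv.{u} :=
  Cfsg.Agent.Lib.Helper82.GFHSa.main

theorem hTH : Cfsg.Agent.Lib.Helper44.GFStmt.ThetaExists.{u, v} :=
  Cfsg.Agent.Lib.Helper97.GFTH.main hHI Cfsg.Agent.Lib.Helper66.MCentMS.main

theorem hCPO : Cfsg.Agent.Lib.Helper44.GFStmt.Compat2Odd.{u, v} :=
  Cfsg.Agent.Lib.Helper97.GFCPO.main hHI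

theorem hCPT : Cfsg.Agent.Lib.Helper44.GFStmt.Compat2Two.{u, v} :=
  Cfsg.Agent.Lib.Helper98.GFCPT.main hII hKP hHI

theorem hKC2 : Cfsg.Agent.Lib.Helper44.GFStmt.KerCompat2.{u, v} :=
  Cfsg.Agent.Lib.Helper85.GFKC2.main hKP Cfsg.Agent.Lib.Helper15.OFldA3.main
    Cfsg.Agent.Lib.Helper93.OFldA2.cσOne hHI

theorem hCI : Cfsg.Agent.Lib.Helper44.GFStmt.CentIso.{u, v} :=
  Cfsg.Agent.Lib.Helper43.GFCI.main hHI hTH Cfsg.Agent.Lib.Helper69.MCentDS.main hKC2 hCPO hCPT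
    Cfsg.Agent.Lib.Helper93.OFldA2.cσMulPhi Cfsg.Agent.Lib.Helper93.OFldA2.cσOne
    Cfsg.Agent.Lib.Helper15.OFldA3.main Cfsg.Agent.Lib.Helper14.OFldA6.inndiagEq
    Cfsg.Agent.Lib.Helper97.MFldMB.inndiagLeRange

theorem hCNT : Cfsg.Agent.Lib.Helper44.GFStmt.Count.{u, v} :=
  Cfsg.Agent.Lib.Helper44.GFCNT.main Cfsg.Agent.Lib.Helper34.GFSPL.main
    (Cfsg.Agent.Lib.Helper41.GFG2a.main Cfsg.Agent.Lib.Helper14.OFldA6.inndiagEq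
      Cfsg.Agent.Lib.Helper15.OFldA3.main Cfsg.Agent.Lib.Helper93.OFldA2.cσOne)
    Cfsg.Agent.Lib.Helper98.GFG2b.main Cfsg.Agent.Lib.Helper14.OFldA6.inndiagEq
    Cfsg.Agent.Lib.Helper55.GFSF.main Cfsg.Agent.Lib.Helper55.GFNQ.main
    Cfsg.Agent.Lib.Helper55.GFNT.main (Cfsg.Agent.Lib.Helper41.GFRAT.main Cfsg.Agent.Lib.Helper55.GFSF.main hHI)
    Cfsg.Agent.Lib.Helper85.GFDZ.main Cfsg.Agent.Lib.Helper45.GFDEL.main hTH
    Cfsg.Agent.Lib.Helper97.GFMU.main hCPO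


/-- Let T = PΩ⁺_{2m}(F) with m ≥ 5 (dimension 2m ≠ 8) and |F| = p^f, G = Inndiag(T), and x an involutory graph-field automorphism of T. Then f is even; any two involutory graph-field automorphisms of T are G-conjugate; C_G(x) is isomorphic to Inndiag(PΩ⁻_{2m}(F₀)) for a field F₀ with p^(f/2) elements (some anisotropic binary part over F₀); and the G-class of x is the union of exactly c T-classes with c = 1 if p = 2, c = 4 if p is odd, m is odd and p^(f/2) ≡ 1 (mod 4), and c = 2 otherwise. -/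
theorem result {F : Type*} [Field F] [Fintype F] {p f : ℕ} [Fact p.Prime] (hF : Fintype.card F = p ^ f) (hf : 1 ≤ f) {m : ℕ} (hm : 5 ≤ m) (x : MulAut (Cfsg.POmega F (Cfsg.quadFormPlus m F))) (hx : Cfsg.IsGraphFieldAutClassPOmegaPlus m x) (hx2 : orderOf x = 2) (F₀ : Type*) [Field F₀] [Fintype F₀] (hF₀ : Fintype.card F₀ = p ^ (f / 2)) :
    Even f ∧ (∀ y : MulAut (Cfsg.POmega F (Cfsg.quadFormPlus m F)), Cfsg.IsGraphFieldAutClassPOmegaPlus m y → orderOf y = 2 → Cfsg.IsConjUnder (Cfsg.inndiagPOmegaPlus m F) x y) ∧ (∃ a₀ b₀ : F₀, (∀ z₁ z₂ : F₀, z₁ ^ 2 + a₀ * z₁ * z₂ + b₀ * z₂ ^ 2 = 0 → z₁ = 0 ∧ z₂ = 0) ∧ Nonempty (↥(Cfsg.inndiagPOmegaPlus m F ⊓ Subgroup.centralizer {x}) ≃* ↥(Cfsg.inndiagPOmegaMinus (m - 1) F₀ a₀ b₀))) ∧ (p = 2 → Cfsg.splitClassCount (Cfsg.inndiagPOmegaPlus m F) (Cfsg.Inn (Cfsg.POmega F (Cfsg.quadFormPlus m F))) x = 1) ∧ ((p ≠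 2 ∧ Odd m ∧ p ^ (f / 2) % 4 = 1) → Cfsg.splitClassCount (Cfsg.inndiagPOmegaPlus m F) (Cfsg.Inn (Cfsg.POmega F (Cfsg.quadFormPlus m F))) x = 4) ∧ ((p ≠ 2 ∧ ¬ (Odd m ∧ p ^ (f / 2) % 4 = 1)) → Cfsg.splitClassCount (Cfsg.inndiagPOmegaPlus m F) (Cfsg.Inn (Cfsg.POmega F (Cfsg.quadFormPlus m F))) x = 2) := by
  exact Cfsg.Agent.Lib.Helper44.GFFin.final_of
    Cfsg.Agent.Lib.Helper93.OFldA2.cσMul Cfsg.Agent.Lib.Helper93.OFldA2.cσMulPhi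
    Cfsg.Agent.Lib.Helper93.OFldA2.powEq Cfsg.Agent.Lib.Helper15.OFldA3.main
    Cfsg.Agent.Lib.Helper48.OFldA4.main Cfsg.Agent.Lib.Helper14.OFldA6.fieldAutEq
    Cfsg.Agent.Lib.Helper14.OFldA6.reflMap
    Cfsg.Agent.Lib.Helper14.OFldA6.reflData Cfsg.Agent.Lib.Helper14.OFldA6.inndiagEq
    (Cfsg.Agent.Lib.Helper44.OFldM.twisted_conj_of Cfsg.Agent.Lib.Helper91.OFldMa.main
      Cfsg.Agent.Lib.Helper97.OFldMb.main Cfsg.Agent.Lib.Helper59.OFldC1.main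
      Cfsg.Agent.Lib.Helper62.OFldMc1.main Cfsg.Agent.Lib.Helper62.OFldMc2.main
      Cfsg.Agent.Lib.Helper14.OFldA6.reflMap)
    Cfsg.Agent.Lib.Helper69.MCentFC.main Cfsg.Agent.Lib.Helper48.MCentEMB.main
    Cfsg.Agent.Lib.Helper55.GFUI.main Cfsg.Agent.Lib.Helper55.GFCH.main
    Cfsg.Agent.Lib.Helper55.GFEA.main Cfsg.Agent.Lib.Helper1.GFRT.main
    Cfsg.Agent.Lib.Helper62.GFSW.main Cfsg.Agent.Lib.Helper34.GFSPC.main
    (Cfsg.Agent.Lib.Helper98.GFIIP.main Cfsg.Agent.Lib.Helper48.OFldA4.main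
      Cfsg.Agent.Lib.Helper14.OFldA6.inndiagEq)
    hCI hCNT
    hF hm x hx hx2 F₀ hF₀

end Cfsg.Agent.S2717
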