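import Cfsg.Statements.S2720
import Mathlib
import Cfsg.Agent.Lib.Helper44.SPFin
import Cfsg.Agent.Lib.Helper1.SMLIFT
import Cfsg.Agent.Lib.Helper43.SMCOMM
import Cfsg.Agent.Lib.Helper1.SMFIX
import Cfsg.Agent.Lib.Helper43.SMNOFIX
import Cfsg.Agent.Lib.Helper20.SMALT
import Cfsg.Agent.Lib.Helper7.SMDARB
import Cfsg.Agent.Lib.Helper20.SMSPD
import Cfsg.Agent.Lib.Helper8.SMPO
import Cfsg.Agent.Lib.Helper7.SMCOS
import Cfsg.Agent.Lib.Helper8.SMGEN
import Cfsg.Agent.Lib.Helper7.SMPSO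
import Cfsg.Agent.Lib.Helper8.SPV4GEN
import Cfsg.Agent.Lib.Helper8.SPNOTINN
import Cfsg.Agent.Lib.Helper8.SPV4X
import Cfsg.Agent.Lib.Helper8.SPEXTRA
import Cfsg.Agent.Lib.Helper90.SPNOFX
import Cfsg.Agent.Lib.Helper86.SPCHARF
import Cfsg.Agent.Lib.Helper44.SPMODA
import Cfsg.Agent.Lib.Helper44.SPISO
import Cfsg.Agent.Lib.Helper44.SPCONJ
import Cfsg.Agent.Lib.Helper44.SPMODEL
import Cfsg.Agent.Lib.Helper90.SPEVEN
import Cfsg.Agent.Lib.Helper5.SPSELFREC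
import Cfsg.Agent.Lib.Helper2.SPINV
import Cfsg.Agent.Lib.Helper8.SPINVDET
import Cfsg.Agent.Lib.Helper94.SPSIMEX
import Cfsg.Agent.Lib.Helper2.SPCLIST
import Cfsg.Agent.Lib.Helper94.SPBLKB
import Cfsg.Agent.Lib.Helper5.SPORTH
import Cfsg.Agent.Lib.Helper90.SPDISCSQ
import Cfsg.Agent.Lib.Helper5.SPNORM1
import Cfsg.Agent.Lib.Helper5.SPNORM2
import Cfsg.Agent.Lib.Helper86.SPBLKA
import Cfsg.Agent.Lib.Helper86.SPBLOCK

set_option autoImplicit false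
open Cfsg

namespace Cfsg.Agent.S2720


universe u

open Cfsg.Agent.Lib.Helper44.SMStmt Cfsg.Agent.Lib.Helper44.SPStmt

theorem hAlt : AltSimDet.{u} :=
  Cfsg.Agent.Lib.Helper20.SMALT.main Cfsg.Agent.Lib.Helper7.SMDARB.main Cfsg.Agent.Lib.Helper20.SMSPD.main

theorem hNoFixIff : NoFixIff.{u} := Cfsg.Agent.Lib.Helper90.SPNOFX.main

theorem hModA : ModA.{u} := Cfsg.Agent.Lib.Helper44.SPMODA.main hNoFixIff Cfsg.Agent.Lib.Helper86.SPCHARF.main

theorem hModel : ModelIso.{u} := Cfsg.Agent.Lib.Helper44.SPMODEL.main hNoFixIff hModA Cfsg.Agent.Lib.Helper44.SPISO.main Cfsg.Agent.Lib.Helper44.SPCONJ.main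

theorem hInvDet : InvDet.{u} := Cfsg.Agent.Lib.Helper8.SPINVDET.main hAlt

theorem hBlockOdd : BlockOdd.{u} :=
  Cfsg.Agent.Lib.Helper94.SPBLKB.main Cfsg.Agent.Lib.Helper2.SPINV.main hInvDet Cfsg.Agent.Lib.Helper94.SPSIMEX.main Cfsg.Agent.Lib.Helper43.SMCOMM.main Cfsg.Agent.Lib.Helper2.SPCLIST.main

theorem hDiscSq : DiscSq.{u} := Cfsg.Agent.Lib.Helper90.SPDISCSQ.main Cfsg.Agent.Lib.Helper90.SPEVEN.main Cfsg.Agent.Lib.Helper7.SMDARB.main

theorem hBlockEven : BlockEven.{u} :=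
  Cfsg.Agent.Lib.Helper86.SPBLKA.main hNoFixIff Cfsg.Agent.Lib.Helper5.SPORTH.main hDiscSq Cfsg.Agent.Lib.Helper5.SPNORM1.main Cfsg.Agent.Lib.Helper5.SPNORM2.main

theorem hBlockElt : BlockElt.{u} :=
  Cfsg.Agent.Lib.Helper86.SPBLOCK.main hNoFixIff Cfsg.Agent.Lib.Helper90.SPEVEN.main hBlockOdd hBlockEven Cfsg.Agent.Lib.Helper5.SPSELFREC.main

theorem hExtra : Extra.{u} := Cfsg.Agent.Lib.Helper8.SPEXTRA.main hModel hBlockElt

theorem hV4Extra : V4Extra.{u} := Cfsg.Agent.Lib.Helper8.SPV4X.main Cfsg.Agent.Lib.Helper1.SMFIX.main hExtra Cfsg.Agent.Lib.Helper8.SPNOTINN.main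

theorem hV4Gen : V4Gen.{u} := Cfsg.Agent.Lib.Helper8.SPV4GEN.main Cfsg.Agent.Lib.Helper7.SMPSO.main


/-- Let T = PΩ⁺_{2m}(F) (m ≥ 4, F finite of odd characteristic p), G = Inndiag(T), and let x be an automorphism of T induced by a similarity of the form (an element of the image G̃ of the conformal orthogonal group) of odd prime order r ≠ p. Then the T-class, the PSO-class and the G-class of x coincide (conjugacy under inner automorphisms, under the image of the special orthogonal group, and under G), and the PO-class of x coincides with its G̃-class. (In characteristic 2 the first equality fails: there the special orthogonal group is the full orthogonal group and some such classes split.) -/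
theorem result {F : Type*} [Field F] [Fintype F] {p : ℕ} [Fact p.Prime] [CharP F p] (hp : p ≠ 2) {m : ℕ} (hm : 4 ≤ m) (x : MulAut (Cfsg.POmega F (Cfsg.quadFormPlus m F))) (hx : x ∈ Cfsg.pgoAut F (Cfsg.quadFormPlus m F)) {r : ℕ} (hr : r.Prime) (hro : Odd r) (hrp : r ≠ p) (hxr : orderOf x = r) :
    (∀ y : MulAut (Cfsg.POmega F (Cfsg.quadFormPlus m F)), (Cfsg.IsConjUnder (Cfsg.Inn (Cfsg.POmega F (Cfsg.quadFormPlus m F))) x y ↔ Cfsg.IsConjUnder (Cfsg.inndiagPOmegaPlus m F) x y) ∧ (Cfsg.IsConjUnder (Cfsg.psoAut F (Cfsg.quadFormPlus m F)) x y ↔ Cfsg.IsConjUnder (Cfsg.inndiagPOmegaPlus m F) x y)) ∧ (∀ y : MulAut (Cfsg.POmega F (Cfsg.quadFormPlus m F)), Cfsg.IsConjUnder (Cfsg.poAut F (Cfsg.quadFormPlus m F)) x y ↔ Cfsg.IsConjUnder (Cfsg.pgoAut F (Cfsg.quadFormPlus m F)) x y) := by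
  exact Cfsg.Agent.Lib.Helper44.SPFin.final_of Cfsg.Agent.Lib.Helper1.SMLIFT.main Cfsg.Agent.Lib.Helper43.SMCOMM.main Cfsg.Agent.Lib.Helper1.SMFIX.main
    (Cfsg.Agent.Lib.Helper43.SMNOFIX.main hAlt) (Cfsg.Agent.Lib.Helper7.SMCOS.main Cfsg.Agent.Lib.Helper8.SMPO.main) Cfsg.Agent.Lib.Helper8.SMPO.main Cfsg.Agent.Lib.Helper8.SMGEN.main Cfsg.Agent.Lib.Helper7.SMPSO.main
    hV4Gen hV4Extra hp hm x hx hr hro hrp hxr

end Cfsg.Agent.S2720
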