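import Cfsg.Statements.S2758
import Cfsg.Agent.S0206
import Cfsg.Agent.S5299
import Cfsg.Agent.H37.Involve
import Cfsg.Agent.Lib.Helper46.StrEmb

set_option autoImplicit false
open Cfsg

namespace Cfsg.Agent.S2758

open Subgroup

variable {G : Type*} [Group G]

/-- a nontrivial element of odd prime power order is not an involution -/
theorem sq_ne_one {p : ℕ} [Fact p.Prime] (hp : p ≠ 2) (y : G) (k : ℕ) (hy : orderOf y = p ^ k)
    (hy1 : y ≠ 1) : y * y ≠ 1 := by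
  intro h
  have hpp : p.Prime := Fact.out
  have h2 : orderOf y ∣ 2 := orderOf_dvd_of_pow_eq_one (by rw [pow_two]; exact h)
  rw [hy] at h2
  have hk : k ≠ 0 := by
    rintro rfl
    rw [pow_zero] at hy
    exact hy1 (orderOf_eq_one_iff.1 hy)
  have h3 : p ∣ 2 := (dvd_pow_self p hk).trans h2
  exact hp ((Nat.prime_dvd_prime_iff_eq hpp Nat.prime_two).1 h3)

theorem conj_zpowers (x y : G) (h : x * y * x⁻¹ = y⁻¹) :
    ∀ w ∈ zpowers y, x * w * x⁻¹ ∈ zpowers y := by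
  intro w hw
  obtain ⟨n, rfl⟩ := mem_zpowers_iff.1 hw
  have : x * y ^ n * x⁻¹ = (y⁻¹) ^ n := by
    rw [← h, conj_zpow]
  rw [this]
  exact zpow_mem (inv_mem (mem_zpowers y)) n

theorem c_to_b [Finite G] {p : ℕ} [Fact p.Prime] (hp : p ≠ 2)
    (h : ∃ x y : G, (∃ k : ℕ, orderOf x = 2 ^ k) ∧ (∃ k : ℕ, orderOf y = p ^ k) ∧ y ≠ 1 ∧
      x * y * x⁻¹ = y⁻¹) :
    ∃ (x : G) (P : Subgroup G), (∃ k : ℕ, orderOf x = 2 ^ k) ∧ IsPGroup p ↥P ∧
      x ∈ Subgroup.normalizer (P : Set G) ∧ x ∉ Subgroup.centralizer (P : Set G) := by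
  obtain ⟨x, y, hx, ⟨k, hk⟩, hy1, hxy⟩ := h
  refine ⟨x, zpowers y, hx, ?_, ?_, ?_⟩
  · exact IsPGroup.of_card (n := k) (by rw [Nat.card_zpowers, hk])
  · apply Cfsg.Agent.Lib.Helper46.StrEmb.mem_normalizer_of_conj_mem (conj_zpowers x y hxy)
    have h' : x⁻¹ * y * x⁻¹⁻¹ = y⁻¹ := by
      rw [inv_inv]
      have h1 : y = x⁻¹ * y⁻¹ * x := by rw [← hxy]; group
      calc x⁻¹ * y * x = (x⁻¹ * y⁻¹ * x)⁻¹ := by group
        _ = y⁻¹ := by rw [← h1]
    intro w hw
    have := conj_zpowers x⁻¹ y h' w hw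
    rwa [inv_inv] at this
  · intro hc
    have h1 := (Subgroup.mem_centralizer_iff.1 hc) y (mem_zpowers y)
    apply sq_ne_one hp y k hk hy1
    have h2 : x * y * x⁻¹ = y := by rw [← h1]; group
    rw [h2] at hxy
    exact mul_eq_one_iff_eq_inv.2 hxy

theorem b_to_c [Finite G] {p : ℕ} [Fact p.Prime]
    (h : ∃ (x : G) (P : Subgroup G), (∃ k : ℕ, orderOf x = 2 ^ k) ∧ IsPGroup p ↥P ∧
      x ∈ Subgroup.normalizer (P : Set G) ∧ x ∉ Subgroup.centralizer (P : Set G)) :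
    ∃ x y : G, (∃ k : ℕ, orderOf x = 2 ^ k) ∧ (∃ k : ℕ, orderOf y = p ^ k) ∧ y ≠ 1 ∧
      x * y * x⁻¹ = y⁻¹ := by
  classical
  obtain ⟨x, P, ⟨k, hk⟩, hP, hxN, hxC⟩ := h
  have hex : ∃ j, x ^ 2 ^ j ∈ Subgroup.centralizer (P : Set G) :=
    ⟨k, by rw [← hk, pow_orderOf_eq_one]; exact one_mem _⟩
  have hj1 : x ^ 2 ^ (Nat.find hex) ∈ Subgroup.centralizer (P : Set G) := Nat.find_spec hex
  have hj0 : Nat.find hex ≠ 0 := by
    intro h0
    rw [h0, pow_zero, pow_one] at hj1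
    exact hxC hj1
  obtain ⟨i, hi⟩ := Nat.exists_eq_succ_of_ne_zero hj0
  have hi1 : x ^ 2 ^ i ∉ Subgroup.centralizer (P : Set G) :=
    Nat.find_min hex (by rw [hi]; exact Nat.lt_succ_self i)
  have hx'2 : x ^ 2 ^ i * x ^ 2 ^ i ∈ Subgroup.centralizer (P : Set G) := by
    have : x ^ 2 ^ i * x ^ 2 ^ i = x ^ 2 ^ (Nat.find hex) := by
      rw [← pow_add, hi, pow_succ, mul_two]
    rw [this]; exact hj1
  have hx'N : x ^ 2 ^ i ∈ Subgroup.normalizer (P : Set G) := Subgroup.pow_mem _ hxN _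
  have hx'o : ∃ k, orderOf (x ^ 2 ^ i) = 2 ^ k := by
    have : orderOf (x ^ 2 ^ i) ∣ 2 ^ k := by rw [← hk]; exact orderOf_pow_dvd _
    obtain ⟨k', -, hk'⟩ := (Nat.dvd_prime_pow Nat.prime_two).1 this
    exact ⟨k', hk'⟩
  generalize x ^ 2 ^ i = x' at hi1 hx'2 hx'N hx'o
  rw [Subgroup.mem_centralizer_iff] at hi1
  push Not at hi1
  obtain ⟨z, hzP, hz⟩ := hi1
  have hzP' : z ∈ P := hzP
  have hw : x' * z * x'⁻¹ ∈ P := (Subgroup.mem_normalizer_iff.1 hx'N z).1 hzP'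
  have hc : (x' * x') * z = z * (x' * x') := ((Subgroup.mem_centralizer_iff.1 hx'2) z hzP).symm
  have h3 : x' * z * x'⁻¹ = x'⁻¹ * z * x' := by
    calc x' * z * x'⁻¹ = x'⁻¹ * ((x' * x') * z) * x'⁻¹ := by group
      _ = x'⁻¹ * (z * (x' * x')) * x'⁻¹ := by rw [hc]
      _ = x'⁻¹ * z * x' := by group
  refine ⟨x', z⁻¹ * (x' * z * x'⁻¹), hx'o, ?_, ?_, ?_⟩
  · have hy : z⁻¹ * (x' * z * x'⁻¹) ∈ P := P.mul_mem (P.inv_mem hzP') hw
    obtain ⟨k', hk'⟩ := (IsPGroup.iff_orderOf.1 hP) ⟨_, hy⟩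
    exact ⟨k', by rw [← hk', Subgroup.orderOf_mk]⟩
  · intro h1
    apply hz
    have h2 : x' * z * x'⁻¹ = z := by
      have := congrArg (fun t => z * t) h1
      simpa using this
    calc z * x' = (x' * z * x'⁻¹) * x' := by rw [h2]
      _ = x' * z := by group
  · calc x' * (z⁻¹ * (x' * z * x'⁻¹)) * x'⁻¹ = x' * (z⁻¹ * (x'⁻¹ * z * x')) * x'⁻¹ := by rw [h3]
      _ = (z⁻¹ * (x' * z * x'⁻¹))⁻¹ := by group

theorem c_to_a [Finite G] {p : ℕ} [Fact p.Prime] (hp : p ≠ 2)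
    (h : ∃ x y : G, (∃ k : ℕ, orderOf x = 2 ^ k) ∧ (∃ k : ℕ, orderOf y = p ^ k) ∧ y ≠ 1 ∧
      x * y * x⁻¹ = y⁻¹) :
    Cfsg.Involves (DihedralGroup p) G := by
  have hpp : p.Prime := Fact.out
  obtain ⟨x, y₀, hx, ⟨k, hk⟩, hy1, hxy₀⟩ := h
  have hk0 : k ≠ 0 := by
    rintro rfl
    rw [pow_zero] at hk
    exact hy1 (orderOf_eq_one_iff.1 hk)
  have hpdvd : p ∣ orderOf y₀ := by rw [hk]; exact dvd_pow_self p hk0
  have hyo : orderOf (y₀ ^ (orderOf y₀ / p)) = p :=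
    orderOf_pow_orderOf_div (orderOf_pos y₀).ne' hpdvd
  have hxy : x * (y₀ ^ (orderOf y₀ / p)) * x⁻¹ = (y₀ ^ (orderOf y₀ / p))⁻¹ := by
    rw [← conj_pow, hxy₀, inv_pow]
  generalize y₀ ^ (orderOf y₀ / p) = y at hyo hxy
  have hxK : x ∈ Subgroup.centralizer ((zpowers (x * x) : Subgroup G) : Set G) := by
    rw [Subgroup.mem_centralizer_iff]
    intro h hh
    obtain ⟨n, rfl⟩ := mem_zpowers_iff.1 hh
    exact (((Commute.refl x).mul_left (Commute.refl x)).zpow_left n).eq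
  have hyx2 : (x * x) * y = y * (x * x) := by
    have h1 : x * y⁻¹ * x⁻¹ = y := by
      have : x * y⁻¹ * x⁻¹ = (x * y * x⁻¹)⁻¹ := by group
      rw [this, hxy, inv_inv]
    calc (x * x) * y = x * (x * y * x⁻¹) * x := by group
      _ = x * y⁻¹ * x := by rw [hxy]
      _ = (x * y⁻¹ * x⁻¹) * (x * x) := by group
      _ = y * (x * x) := by rw [h1]
  have hyK : y ∈ Subgroup.centralizer ((zpowers (x * x) : Subgroup G) : Set G) := by
    rw [Subgroup.mem_centralizer_iff]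
    intro h hh
    obtain ⟨n, rfl⟩ := mem_zpowers_iff.1 hh
    exact ((show Commute (x * x) y from hyx2).zpow_left n).eq
  have hZn : ((zpowers (x * x)).subgroupOf
      (Subgroup.centralizer ((zpowers (x * x) : Subgroup G) : Set G))).Normal := by
    constructor
    intro n hn g
    rw [Subgroup.mem_subgroupOf] at hn ⊢
    have hg : (g : G) ∈ Subgroup.centralizer ((zpowers (x * x) : Subgroup G) : Set G) := g.2
    have hcomm := (Subgroup.mem_centralizer_iff.1 hg) n hn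
    have e : ((g * n * g⁻¹ : Subgroup.centralizer ((zpowers (x * x) : Subgroup G) : Set G)) : G)
        = n := by
      show (g : G) * n * (g : G)⁻¹ = n
      rw [← hcomm]; group
    rw [e]; exact hn
  generalize hK₀ : Subgroup.centralizer ((zpowers (x * x) : Subgroup G) : Set G) = K₀ at hxK hyK hZn
  have haa : (QuotientGroup.mk' ((zpowers (x * x)).subgroupOf K₀)) ⟨x, hxK⟩ *
      (QuotientGroup.mk' ((zpowers (x * x)).subgroupOf K₀)) ⟨x, hxK⟩ = 1 := by
    rw [← map_mul, QuotientGroup.mk'_apply, QuotientGroup.eq_one_iff, Subgroup.mem_subgroupOf]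
    exact mem_zpowers (x * x)
  have hab : (QuotientGroup.mk' ((zpowers (x * x)).subgroupOf K₀)) ⟨x, hxK⟩ *
      (QuotientGroup.mk' ((zpowers (x * x)).subgroupOf K₀)) ⟨y, hyK⟩ *
      ((QuotientGroup.mk' ((zpowers (x * x)).subgroupOf K₀)) ⟨x, hxK⟩)⁻¹ =
      ((QuotientGroup.mk' ((zpowers (x * x)).subgroupOf K₀)) ⟨y, hyK⟩)⁻¹ := by
    rw [← map_inv, ← map_mul, ← map_mul, ← map_inv]
    congr 1
    exact Subtype.ext hxy
  have hbp : ((QuotientGroup.mk' ((zpowers (x * x)).subgroupOf K₀)) ⟨y, hyK⟩) ^ p = 1 := by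
    rw [← map_pow]
    have : (⟨y, hyK⟩ : K₀) ^ p = 1 := by
      apply Subtype.ext
      show y ^ p = 1
      rw [← hyo, pow_orderOf_eq_one]
    rw [this, map_one]
  have hb1 : (QuotientGroup.mk' ((zpowers (x * x)).subgroupOf K₀)) ⟨y, hyK⟩ ≠ 1 := by
    intro hb1
    rw [QuotientGroup.mk'_apply, QuotientGroup.eq_one_iff, Subgroup.mem_subgroupOf] at hb1
    obtain ⟨n, hn⟩ := mem_zpowers_iff.1 hb1
    have hn' : (x * x) ^ n = y := hn
    have hcomm : x * y = y * x := by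
      have : Commute x ((x * x) ^ n) := ((Commute.refl x).mul_right (Commute.refl x)).zpow_right n
      rw [← hn']
      exact this.eq
    have h2 : x * y * x⁻¹ = y := by rw [hcomm]; group
    rw [h2] at hxy
    exact sq_ne_one hp y 1 (by rw [hyo, pow_one])
      (by intro h; rw [h, orderOf_one] at hyo; exact hpp.one_lt.ne hyo)
      (mul_eq_one_iff_eq_inv.2 hxy)
  generalize (QuotientGroup.mk' ((zpowers (x * x)).subgroupOf K₀)) ⟨x, hxK⟩ = a at haa hab
  generalize hb : (QuotientGroup.mk' ((zpowers (x * x)).subgroupOf K₀)) ⟨y, hyK⟩ = b at hab hbp hb1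
  have hbb : b * b ≠ 1 := by
    intro h
    have h2 : orderOf b ∣ 2 := orderOf_dvd_of_pow_eq_one (by rw [pow_two]; exact h)
    have h3 : orderOf b ∣ p := orderOf_dvd_of_pow_eq_one hbp
    have h4 : orderOf b ∣ Nat.gcd 2 p := Nat.dvd_gcd h2 h3
    have h5 : Nat.gcd 2 p = 1 := (Nat.coprime_primes Nat.prime_two hpp).2 (Ne.symm hp)
    rw [h5, Nat.dvd_one, orderOf_eq_one_iff] at h4
    exact hb1 h4
  have ha1 : a ≠ 1 := by
    intro h
    rw [h, one_mul, inv_one, mul_one] at hab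
    exact hbb (mul_eq_one_iff_eq_inv.2 hab)
  have hao : orderOf a = 2 := orderOf_eq_prime (by rw [pow_two]; exact haa) ha1
  have hainv : a⁻¹ = a := inv_eq_of_mul_eq_one_left haa
  have hcc : (a * b) * (a * b) = 1 := by
    calc (a * b) * (a * b) = (a * b * a⁻¹) * (a * a) * b := by group
      _ = 1 := by rw [hab, haa, mul_one, inv_mul_cancel]
  have hc1 : a * b ≠ 1 := by
    intro h
    have h2 : b = a := by rw [← hainv]; exact eq_inv_of_mul_eq_one_right h
    apply hbb; rw [h2]; exact haa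
  have hco : orderOf (a * b) = 2 := orderOf_eq_prime (by rw [pow_two]; exact hcc) hc1
  have hne : a ≠ a * b := by
    intro h
    apply hb1
    exact mul_eq_left.1 h.symm
  obtain ⟨e⟩ := Cfsg.Agent.S0206.result a (a * b) hao hco hne
  have hprod : a * (a * b) = b := by rw [← mul_assoc, haa, one_mul]
  have hbo : orderOf b = p := orderOf_eq_prime hbp hb1
  rw [hprod, hbo] at e
  exact Cfsg.Agent.S5299.involves_of_inj_surj
    (K₀.subtype.comp ((Subgroup.closure {a, a * b}).comap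
      (QuotientGroup.mk' ((zpowers (x * x)).subgroupOf K₀))).subtype)
    (K₀.subtype_injective.comp (Subgroup.subtype_injective _))
    (e.toMonoidHom.comp ((QuotientGroup.mk' ((zpowers (x * x)).subgroupOf K₀)).subgroupComap
      (Subgroup.closure {a, a * b})))
    (e.surjective.comp ((QuotientGroup.mk' ((zpowers (x * x)).subgroupOf K₀)).subgroupComap_surjective_of_surjective
      (Subgroup.closure {a, a * b}) (QuotientGroup.mk'_surjective _)))

/-- the sign homomorphism of the dihedral group -/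
def sgn (n : ℕ) : DihedralGroup n →* ℤˣ where
  toFun g := match g with
    | DihedralGroup.r _ => 1
    | DihedralGroup.sr _ => -1
  map_one' := rfl
  map_mul' := by
    rintro (i | i) (j | j) <;> simp

theorem a_to_b [Finite G] {p : ℕ} [Fact p.Prime] (hp : p ≠ 2)
    (h : Cfsg.Involves (DihedralGroup p) G) :
    ∃ (x : G) (P : Subgroup G), (∃ k : ℕ, orderOf x = 2 ^ k) ∧ IsPGroup p ↥P ∧
      x ∈ Subgroup.normalizer (P : Set G) ∧ x ∉ Subgroup.centralizer (P : Set G) := by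
  have hpp : p.Prime := Fact.out
  obtain ⟨K, f, hf⟩ := Cfsg.Agent.H37.involves_exists_surj h
  let M : Subgroup K := ((sgn p).comp f).ker
  have hMmem : ∀ g : K, g ∈ M ↔ sgn p (f g) = 1 := fun g => Iff.rfl
  obtain ⟨t₀, ht₀⟩ := hf (DihedralGroup.r 1)
  obtain ⟨e, m, hm, hem⟩ := Nat.exists_eq_pow_mul_and_not_dvd (orderOf_pos t₀).ne' p hpp.ne_one
  have hft : f (t₀ ^ m) = DihedralGroup.r (m : ZMod p) := by
    rw [map_pow, ht₀, DihedralGroup.r_one_pow]
  have hm0 : ¬ p ∣ m := hm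
  have htM : t₀ ^ m ∈ M := by rw [hMmem, hft]; rfl
  have hto : orderOf (t₀ ^ m) ∣ p ^ e := by
    apply orderOf_dvd_of_pow_eq_one
    rw [← pow_mul, mul_comm, ← hem, pow_orderOf_eq_one]
  generalize t₀ ^ m = t at hft htM hto
  have htp : IsPGroup p (zpowers (⟨t, htM⟩ : M)) := by
    obtain ⟨e', -, he'⟩ := (Nat.dvd_prime_pow hpp).1 hto
    apply IsPGroup.of_card (n := e')
    rw [Nat.card_zpowers, Subgroup.orderOf_mk, he']
  obtain ⟨P, hP⟩ := htp.exists_le_sylow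
  have htP : (⟨t, htM⟩ : M) ∈ (P : Subgroup M) := hP (mem_zpowers _)
  have hfr := Sylow.normalizer_sup_eq_top P
  obtain ⟨s₀, hs₀⟩ := hf (DihedralGroup.sr 0)
  have hs₀top : s₀ ∈ Subgroup.normalizer (((P : Subgroup M).map M.subtype : Subgroup K) : Set K) ⊔ M := by
    rw [hfr]; exact mem_top _
  obtain ⟨n, hn, m', hm', hnm⟩ := Subgroup.mem_sup_of_normal_right.1 hs₀top
  have hsn : sgn p (f n) = -1 := by
    have h1 : sgn p (f s₀) = sgn p (f n) * sgn p (f m') := by rw [← hnm, map_mul, map_mul]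
    rw [(hMmem m').1 hm', mul_one, hs₀] at h1
    rw [← h1]; rfl
  obtain ⟨i, hi⟩ : ∃ i, f n = DihedralGroup.sr i := by
    cases hfn : f n with
    | r i =>
      rw [hfn] at hsn
      have h1 : (1 : ℤˣ) = -1 := hsn
      exact absurd h1 (by decide)
    | sr i => exact ⟨i, rfl⟩
  obtain ⟨e2, m2, hm2, hem2⟩ := Nat.exists_eq_pow_mul_and_not_dvd (orderOf_pos n).ne' 2 (by norm_num)
  have hx'o : ∃ k, orderOf (n ^ m2) = 2 ^ k := by
    have : orderOf (n ^ m2) ∣ 2 ^ e2 := by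
      apply orderOf_dvd_of_pow_eq_one
      rw [← pow_mul, mul_comm, ← hem2, pow_orderOf_eq_one]
    obtain ⟨k, -, hk⟩ := (Nat.dvd_prime_pow Nat.prime_two).1 this
    exact ⟨k, hk⟩
  have hfx' : f (n ^ m2) = DihedralGroup.sr i := by
    have hodd : Odd m2 := Nat.odd_iff.2 (by omega)
    obtain ⟨c, hc⟩ := hodd
    rw [map_pow, hi, hc, pow_succ, pow_mul, pow_two, DihedralGroup.sr_mul_self, one_pow, one_mul]
  have hx'N : n ^ m2 ∈ Subgroup.normalizer (((P : Subgroup M).map M.subtype : Subgroup K) : Set K) :=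
    Subgroup.pow_mem _ hn _
  generalize n ^ m2 = x' at hx'o hfx' hx'N
  generalize hPK : ((P : Subgroup M).map M.subtype : Subgroup K) = PK at hx'N
  have htPK : t ∈ PK := by
    rw [← hPK]
    exact Subgroup.mem_map.2 ⟨⟨t, htM⟩, htP, rfl⟩
  have hPKp : IsPGroup p PK := by
    rw [← hPK]
    exact P.isPGroup'.map _
  refine ⟨(x' : G), PK.map K.subtype, ?_, hPKp.map _, ?_, ?_⟩
  · obtain ⟨k, hk⟩ := hx'o
    exact ⟨k, by rw [Subgroup.orderOf_coe, hk]⟩
  · have key : ∀ g : K, g ∈ Subgroup.normalizer (PK : Set K) → ∀ w ∈ PK.map K.subtype,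
        (g : G) * w * (g : G)⁻¹ ∈ PK.map K.subtype := by
      intro g hg w hw
      obtain ⟨w', hw', rfl⟩ := Subgroup.mem_map.1 hw
      exact Subgroup.mem_map.2 ⟨g * w' * g⁻¹, (Subgroup.mem_normalizer_iff.1 hg w').1 hw', rfl⟩
    apply Cfsg.Agent.Lib.Helper46.StrEmb.mem_normalizer_of_conj_mem (key x' hx'N)
    intro w hw
    have := key x'⁻¹ (Subgroup.inv_mem _ hx'N) w hw
    simpa using this
  · intro hc
    have htG : (t : G) ∈ PK.map K.subtype := Subgroup.mem_map.2 ⟨t, htPK, rfl⟩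
    have h1 := (Subgroup.mem_centralizer_iff.1 hc) (t : G) htG
    have h2 : t * x' = x' * t := Subtype.ext h1
    have h3 := congrArg f h2
    rw [map_mul, map_mul, hft, hfx', DihedralGroup.r_mul_sr, DihedralGroup.sr_mul_r] at h3
    have h4 : i - (m : ZMod p) = i + (m : ZMod p) := DihedralGroup.sr.inj h3
    have h5 : (2 : ZMod p) * (m : ZMod p) = 0 := by linear_combination -h4
    have h6 : ((2 * m : ℕ) : ZMod p) = 0 := by push_cast; exact h5
    rw [ZMod.natCast_eq_zero_iff] at h6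
    rcases (Nat.Prime.dvd_mul hpp).1 h6 with h7 | h7
    · exact hp ((Nat.prime_dvd_prime_iff_eq hpp Nat.prime_two).1 h7)
    · exact hm0 h7

/-- For an odd prime p and a finite group G the following are equivalent: the dihedral group of order 2p is involved in G; some element of 2-power order normalizes but does not centralize some p-subgroup of G; some element of 2-power order inverts some nonidentity element of p-power order. -/
theorem result {G : Type*} [Group G] [Finite G] {p : ℕ} [Fact p.Prime] (hp : p ≠ 2) : (Cfsg.Involves (DihedralGroup p) G ↔ ∃ (x : G) (P : Subgroup G), (∃ k : ℕ, orderOf x = 2 ^ k) ∧ IsPGroup p ↥P ∧ x ∈ Subgroup.normalizer (P : Set G) ∧ x ∉ Subgroup.centralizer (P : Set G)) ∧ (Cfsg.Involves (DihedralGroup p) G ↔ ∃ x y : G, (∃ k : ℕ, orderOf x = 2 ^ k) ∧ (∃ k : ℕ, orderOf y = p ^ k) ∧ y ≠ 1 ∧ x * y * x⁻¹ = y⁻¹) := by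
  exact ⟨⟨a_to_b hp, fun h => c_to_a hp (b_to_c h)⟩, ⟨fun h => b_to_c (a_to_b hp h), c_to_a hp⟩⟩

end Cfsg.Agent.S2758
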