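import Cfsg.Statements.S2759
import Cfsg.Agent.S5299
import Cfsg.Agent.H37.Involve
import Cfsg.Agent.Lib.Helper2.S4Sec
import Cfsg.Agent.Lib.Helper11.QuadStable
import Cfsg.Agent.S0022
import Cfsg.Agent.S0029
import Cfsg.Agent.Lib.Helper90.Frattini2

set_option autoImplicit false
open Cfsg

namespace Cfsg.Agent.S2759

open Equiv Subgroup

/-! ### Facts about `S₃` -/

theorem s3a : ∀ σ : Perm (Fin 3), Perm.sign σ = -1 → σ * σ = 1 := by decide

theorem s3b : ∀ σ c : Perm (Fin 3), Perm.sign σ = -1 → Perm.sign c = 1 → c ≠ 1 →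
    c⁻¹ * (σ * c * σ⁻¹) ≠ 1 := by decide

theorem s3d : ∀ c : Perm (Fin 3), Perm.sign c = 1 → c ≠ 1 →
    c ^ 3 = 1 ∧ c ^ 2 ≠ 1 ∧ Perm.sign (c ^ 2) = 1 := by decide

/-! ### Honest lift of an inverted `3`-element through a surjection onto `S₃` -/

theorem honest {H : Type*} [Group H] [Finite H] (φ : H →* Perm (Fin 3))
    (hφ : Function.Surjective φ) :
    ∃ a b : H, (∃ k : ℕ, orderOf a = 3 ^ k) ∧ (∃ k : ℕ, orderOf b = 2 ^ k) ∧
      b * a * b⁻¹ = a⁻¹ ∧ φ a ≠ 1 := by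
  classical
  have : Fact (Nat.Prime 3) := ⟨Nat.prime_three⟩
  obtain ⟨c, hcs, hc1⟩ : ∃ c : Perm (Fin 3), Perm.sign c = 1 ∧ c ≠ 1 := by decide
  obtain ⟨s, hss⟩ : ∃ s : Perm (Fin 3), Perm.sign s = -1 := by decide
  let M : Subgroup H := (Perm.sign.comp φ).ker
  have hMmem : ∀ g : H, g ∈ M ↔ Perm.sign (φ g) = 1 := fun g => Iff.rfl
  obtain ⟨t₀, ht₀⟩ := hφ c
  obtain ⟨e, m, hm, hem⟩ :=
    Nat.exists_eq_pow_mul_and_not_dvd (orderOf_pos t₀).ne' 3 (by norm_num)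
  have hft : Perm.sign (φ (t₀ ^ m)) = 1 ∧ φ (t₀ ^ m) ≠ 1 := by
    rw [map_pow, ht₀]
    obtain ⟨h3, h2a, h2b⟩ := s3d c hcs hc1
    rw [pow_eq_pow_mod m h3]
    have hm3 : m % 3 = 1 ∨ m % 3 = 2 := by
      have := Nat.mod_lt m (show 0 < 3 by norm_num)
      have h0 : m % 3 ≠ 0 := fun h => hm (Nat.dvd_of_mod_eq_zero h)
      omega
    rcases hm3 with h | h
    · rw [h, pow_one]; exact ⟨hcs, hc1⟩
    · rw [h]; exact ⟨h2b, h2a⟩
  have hto : orderOf (t₀ ^ m) ∣ 3 ^ e := by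
    apply orderOf_dvd_of_pow_eq_one
    rw [← pow_mul, mul_comm, ← hem, pow_orderOf_eq_one]
  generalize t₀ ^ m = t at hft hto
  have htM : t ∈ M := (hMmem t).2 hft.1
  have htp : IsPGroup 3 (zpowers (⟨t, htM⟩ : M)) := by
    obtain ⟨e', -, he'⟩ := (Nat.dvd_prime_pow Nat.prime_three).1 hto
    apply IsPGroup.of_card (n := e')
    rw [Nat.card_zpowers, Subgroup.orderOf_mk, he']
  obtain ⟨P, hP⟩ := htp.exists_le_sylow
  have htP : (⟨t, htM⟩ : M) ∈ (P : Subgroup M) := hP (mem_zpowers _)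
  have hfr := Sylow.normalizer_sup_eq_top P
  obtain ⟨s₀, hs₀⟩ := hφ s
  have hs₀top : s₀ ∈ Subgroup.normalizer (((P : Subgroup M).map M.subtype : Subgroup H) : Set H) ⊔ M := by
    rw [hfr]; exact mem_top _
  obtain ⟨n, hn, m', hm', hnm⟩ := Subgroup.mem_sup_of_normal_right.1 hs₀top
  have hsn : Perm.sign (φ n) = -1 := by
    have h1 : Perm.sign (φ s₀) = Perm.sign (φ n) * Perm.sign (φ m') := by
      rw [← hnm, map_mul, map_mul]
    rw [(hMmem m').1 hm', mul_one, hs₀, hss] at h1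
    exact h1.symm
  obtain ⟨e2, m2, hm2, hem2⟩ :=
    Nat.exists_eq_pow_mul_and_not_dvd (orderOf_pos n).ne' 2 (by norm_num)
  have hx'o : ∃ k, orderOf (n ^ m2) = 2 ^ k := by
    have : orderOf (n ^ m2) ∣ 2 ^ e2 := by
      apply orderOf_dvd_of_pow_eq_one
      rw [← pow_mul, mul_comm, ← hem2, pow_orderOf_eq_one]
    obtain ⟨k, -, hk⟩ := (Nat.dvd_prime_pow Nat.prime_two).1 this
    exact ⟨k, hk⟩
  have hfx' : Perm.sign (φ (n ^ m2)) = -1 := by
    have hodd : Odd m2 := Nat.odd_iff.2 (by omega)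
    rw [map_pow, map_pow, hsn, hodd.neg_one_pow]
  have hx'N : n ^ m2 ∈ Subgroup.normalizer (((P : Subgroup M).map M.subtype : Subgroup H) : Set H) :=
    Subgroup.pow_mem _ hn _
  generalize n ^ m2 = x at hx'o hfx' hx'N
  generalize hPH : ((P : Subgroup M).map M.subtype : Subgroup H) = PH at hx'N
  have htPH : t ∈ PH := by
    rw [← hPH]
    exact Subgroup.mem_map.2 ⟨⟨t, htM⟩, htP, rfl⟩
  have hPHp : IsPGroup 3 PH := by
    rw [← hPH]
    exact P.isPGroup'.map _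
  have hxx : φ (x * x) = 1 := by rw [map_mul]; exact s3a _ hfx'
  have hxxN : x * x ∈ Subgroup.normalizer (PH : Set H) := Subgroup.mul_mem _ hx'N hx'N
  have hA1 : zpowers (x * x) ≤ Subgroup.normalizer (PH : Set H) := (Subgroup.zpowers_le).2 hxxN
  have hA2 : zpowers (x * x) ≤ φ.ker := (Subgroup.zpowers_le).2 (MonoidHom.mem_ker.2 hxx)
  have hNA : zpowers (x * x) ≤ Subgroup.normalizer ((PH ⊓ φ.ker : Subgroup H) : Set H) := by
    intro g hg
    have h1 := hA1 hg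
    rw [Subgroup.mem_normalizer_iff] at h1 ⊢
    intro h
    rw [Subgroup.mem_inf, Subgroup.mem_inf, h1 h, MonoidHom.mem_ker, MonoidHom.mem_ker, map_mul,
      map_mul, map_inv, conj_eq_one_iff]
  have hcop : (Nat.card (zpowers (x * x))).Coprime (Nat.card ((PH ⊓ φ.ker : Subgroup H))) := by
    obtain ⟨k, hk⟩ := hx'o
    obtain ⟨j, hj⟩ := IsPGroup.iff_card.1 hPHp
    have h1 : Nat.card (zpowers (x * x)) ∣ 2 ^ k := by
      rw [Nat.card_zpowers, ← hk, ← pow_two]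
      exact orderOf_pow_dvd 2
    have h2 : Nat.card ((PH ⊓ φ.ker : Subgroup H)) ∣ 3 ^ j := by
      rw [← hj]
      exact Subgroup.card_dvd_of_le inf_le_left
    have h3 : Nat.Coprime (2 ^ k) (3 ^ j) := Nat.Coprime.pow _ _ (by norm_num)
    exact (h3.coprime_dvd_left h1).coprime_dvd_right h2
  have hfix : ∀ g ∈ zpowers (x * x), g * t * g⁻¹ * t⁻¹ ∈ (PH ⊓ φ.ker : Subgroup H) := by
    intro g hg
    refine ⟨?_, ?_⟩
    · exact PH.mul_mem ((Subgroup.mem_normalizer_iff.1 (hA1 hg) t).1 htPH) (PH.inv_mem htPH)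
    · have := MonoidHom.mem_ker.1 (hA2 hg)
      show g * t * g⁻¹ * t⁻¹ ∈ φ.ker
      rw [MonoidHom.mem_ker, map_mul, map_mul, map_mul, map_inv, map_inv, this]
      simp
  obtain ⟨n₀, hn₀, hc⟩ := Cfsg.Agent.S0022.coset_fixed (zpowers (x * x)) (PH ⊓ φ.ker) hNA hcop
    (Or.inl inferInstance) t hfix
  have hzPH : n₀⁻¹ * t ∈ PH := PH.mul_mem (PH.inv_mem hn₀.1) htPH
  have hφz : φ (n₀⁻¹ * t) = φ t := by
    rw [map_mul, map_inv, MonoidHom.mem_ker.1 hn₀.2, inv_one, one_mul]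
  have hcz : (x * x) * (n₀⁻¹ * t) = (n₀⁻¹ * t) * (x * x) :=
    (Subgroup.mem_centralizer_iff.1 hc) (x * x) (mem_zpowers _)
  generalize n₀⁻¹ * t = z at hzPH hφz hcz
  have h3 : x * z * x⁻¹ = x⁻¹ * z * x := by
    calc x * z * x⁻¹ = x⁻¹ * ((x * x) * z) * x⁻¹ := by group
      _ = x⁻¹ * (z * (x * x)) * x⁻¹ := by rw [hcz]
      _ = x⁻¹ * z * x := by group
  refine ⟨z⁻¹ * (x * z * x⁻¹), x, ?_, hx'o, ?_, ?_⟩
  · have hy : z⁻¹ * (x * z * x⁻¹) ∈ PH :=
      PH.mul_mem (PH.inv_mem hzPH) ((Subgroup.mem_normalizer_iff.1 hx'N z).1 hzPH)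
    obtain ⟨k', hk'⟩ := (IsPGroup.iff_orderOf.1 hPHp) ⟨_, hy⟩
    exact ⟨k', by rw [← hk', Subgroup.orderOf_mk]⟩
  · calc x * (z⁻¹ * (x * z * x⁻¹)) * x⁻¹ = x * (z⁻¹ * (x⁻¹ * z * x)) * x⁻¹ := by rw [h3]
      _ = (z⁻¹ * (x * z * x⁻¹))⁻¹ := by group
  · rw [map_mul, map_inv, map_mul, map_mul, map_inv, hφz]
    exact s3b _ _ hfx' hft.1 hft.2

/-! ### An `S₄` section from an inverted `3`-element acting on an elementary abelian `2`-group -/

/-- three pairwise commuting involutions -/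
theorem three_inv {Q : Type*} [Group Q] (p q r : Q) (hp : p * p = 1) (hq : q * q = 1)
    (hr : r * r = 1) (hpq : p * q = q * p) (hrq : r * q = q * r) (hrp : r * p = p * r) :
    q * p * (r * q) * (p * r) = 1 := by
  have h : p * (r * q) = q * (p * r) := by rw [hrq, ← mul_assoc, hpq, mul_assoc]
  calc q * p * (r * q) * (p * r) = q * (p * (r * q)) * (p * r) := by group
    _ = q * (q * (p * r)) * (p * r) := by rw [h]
    _ = (q * q) * ((p * r) * (p * r)) := by group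
    _ = (p * r) * (p * r) := by rw [hq, one_mul]
    _ = p * (r * p) * r := by group
    _ = p * (p * r) * r := by rw [hrp]
    _ = (p * p) * (r * r) := by group
    _ = 1 := by rw [hp, hr, one_mul]

theorem six_comm {Q : Type*} [Group Q] (x1 x2 x3 y1 y2 y3 : Q) (h12 : y1 * x2 = x2 * y1)
    (h13 : y1 * x3 = x3 * y1) (h23 : y2 * x3 = x3 * y2) :
    (x1 * y1) * (x2 * y2) * (x3 * y3) = (x1 * x2 * x3) * (y1 * y2 * y3) := by
  calc (x1 * y1) * (x2 * y2) * (x3 * y3) = x1 * (y1 * x2) * (y2 * x3) * y3 := by group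
    _ = x1 * (x2 * y1) * (x3 * y2) * y3 := by rw [h12, h23]
    _ = x1 * x2 * (y1 * x3) * y2 * y3 := by group
    _ = x1 * x2 * (x3 * y1) * y2 * y3 := by rw [h13]
    _ = (x1 * x2 * x3) * (y1 * y2 * y3) := by group

theorem norm_of_conj {Q : Type*} [Group Q] (S : Set Q) (g : Q)
    (h1 : ∀ s ∈ S, g * s * g⁻¹ ∈ closure S) (h2 : ∀ s ∈ S, g⁻¹ * s * g ∈ closure S) :
    g ∈ normalizer ((closure S : Subgroup Q) : Set Q) := by
  have k1 : closure S ≤ (closure S).comap (MulAut.conj g).toMonoidHom :=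
    (closure_le _).2 (fun s hs => by
      show (MulAut.conj g) s ∈ closure S
      rw [MulAut.conj_apply]; exact h1 s hs)
  have k2 : closure S ≤ (closure S).comap (MulAut.conj g⁻¹).toMonoidHom :=
    (closure_le _).2 (fun s hs => by
      show (MulAut.conj g⁻¹) s ∈ closure S
      rw [MulAut.conj_apply, inv_inv]; exact h2 s hs)
  rw [Subgroup.mem_normalizer_iff]
  intro h
  constructor
  · intro hh
    have := k1 hh
    have h' : (MulAut.conj g) h ∈ closure S := this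
    rwa [MulAut.conj_apply] at h'
  · intro hh
    have := k2 hh
    have h' : (MulAut.conj g⁻¹) (g * h * g⁻¹) ∈ closure S := this
    rw [MulAut.conj_apply, inv_inv] at h'
    have e : g⁻¹ * (g * h * g⁻¹) * g = h := by group
    rwa [e] at h'

theorem s4_of_module {Q : Type*} [Group Q] (V : Subgroup Q) (a b : Q)
    (hV2 : ∀ v ∈ V, v * v = 1) (hVc : ∀ u ∈ V, ∀ v ∈ V, u * v = v * u)
    (haV : ∀ v ∈ V, a * v * a⁻¹ ∈ V) (hbV : ∀ v ∈ V, b * v * b⁻¹ ∈ V)
    (ha3 : ∀ v ∈ V, a ^ 3 * v = v * a ^ 3)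
    (hba : b * a * b⁻¹ = a⁻¹) (m : ℕ) (hb : b ^ 2 ^ m = 1)
    (u₀ : Q) (hu₀ : u₀ ∈ V) (hu : a * u₀ * a⁻¹ ≠ u₀) :
    Involves (Equiv.Perm (Fin 4)) Q := by
  -- the cube of the action of `a` is trivial on `V`
  have h3 : a ^ 3 = a * a * a := by rw [pow_succ, pow_succ, pow_one]
  have ha3' : ∀ v ∈ V, (a * a * a) * v = v * (a * a * a) := by
    intro v hv; rw [← h3]; exact ha3 v hv
  have hF1 : ∀ v ∈ V, a * (a * (a * v * a⁻¹) * a⁻¹) * a⁻¹ = v := by
    intro v hv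
    calc a * (a * (a * v * a⁻¹) * a⁻¹) * a⁻¹ = ((a * a * a) * v) * (a * a * a)⁻¹ := by group
      _ = v := by rw [ha3' v hv]; group
  have hba' : b * a⁻¹ * b⁻¹ = a := by
    have h := congrArg (fun z => z⁻¹) hba
    simp only [mul_inv_rev, inv_inv] at h
    rw [mul_assoc]; exact h
  -- the predicate `V₁`
  let V₁ : Q → Prop := fun v => v ∈ V ∧ v * (a * v * a⁻¹) * (a * (a * v * a⁻¹) * a⁻¹) = 1
  have hV₁mul : ∀ v v', V₁ v → V₁ v' → V₁ (v * v') := by
    rintro v v' ⟨hv, hv1⟩ ⟨hv', hv'1⟩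
    refine ⟨V.mul_mem hv hv', ?_⟩
    have e1 : a * (v * v') * a⁻¹ = (a * v * a⁻¹) * (a * v' * a⁻¹) := by group
    have e2 : a * ((a * v * a⁻¹) * (a * v' * a⁻¹)) * a⁻¹ =
        (a * (a * v * a⁻¹) * a⁻¹) * (a * (a * v' * a⁻¹) * a⁻¹) := by group
    rw [e1, e2, six_comm _ _ _ _ _ _ (hVc _ hv' _ (haV _ hv))
      (hVc _ hv' _ (haV _ (haV _ hv))) (hVc _ (haV _ hv') _ (haV _ (haV _ hv))), hv1, hv'1, one_mul]
  have hV₁b : ∀ v, V₁ v → V₁ (b * v * b⁻¹) := by
    rintro v ⟨hv, hv1⟩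
    refine ⟨hbV _ hv, ?_⟩
    have hv₁ := haV _ hv
    have hv₂ := haV _ hv₁
    have e0 := hF1 v hv
    -- a⁻¹ v a = v₂ and a⁻¹ v₂ a = v₁
    have e1 : a * (b * v * b⁻¹) * a⁻¹ = b * (a * (a * v * a⁻¹) * a⁻¹) * b⁻¹ := by
      calc a * (b * v * b⁻¹) * a⁻¹ = (b * a⁻¹ * b⁻¹) * (b * v * b⁻¹) * (b * a⁻¹ * b⁻¹)⁻¹ := by
            rw [hba']
        _ = b * (a⁻¹ * v * a) * b⁻¹ := by group
        _ = b * (a⁻¹ * (a * (a * (a * v * a⁻¹) * a⁻¹) * a⁻¹) * a) * b⁻¹ := by rw [e0]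
        _ = b * (a * (a * v * a⁻¹) * a⁻¹) * b⁻¹ := by group
    have e2 : a * (b * (a * (a * v * a⁻¹) * a⁻¹) * b⁻¹) * a⁻¹ = b * (a * v * a⁻¹) * b⁻¹ := by
      calc a * (b * (a * (a * v * a⁻¹) * a⁻¹) * b⁻¹) * a⁻¹
          = (b * a⁻¹ * b⁻¹) * (b * (a * (a * v * a⁻¹) * a⁻¹) * b⁻¹) * (b * a⁻¹ * b⁻¹)⁻¹ := by
            rw [hba']
        _ = b * (a * v * a⁻¹) * b⁻¹ := by group
    rw [e1, e2]
    have e3 : b * v * b⁻¹ * (b * (a * (a * v * a⁻¹) * a⁻¹) * b⁻¹) * (b * (a * v * a⁻¹) * b⁻¹) =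
        b * (v * ((a * (a * v * a⁻¹) * a⁻¹) * (a * v * a⁻¹))) * b⁻¹ := by group
    rw [e3, hVc _ hv₂ _ hv₁, ← mul_assoc v, hv1]; group
  have hV₁bn : ∀ (n : ℕ) v, V₁ v → V₁ (b ^ n * v * (b ^ n)⁻¹) := by
    intro n
    induction n with
    | zero => intro v hv; simpa using hv
    | succ n ih =>
      intro v hv
      have e : b ^ (n + 1) * v * (b ^ (n + 1))⁻¹ = b * (b ^ n * v * (b ^ n)⁻¹) * b⁻¹ := by
        rw [pow_succ']; group
      rw [e]; exact hV₁b _ (ih v hv)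
  -- the starting element
  have hq := haV _ hu₀
  have hr := haV _ hq
  have hu1 : V₁ ((a * u₀ * a⁻¹) * u₀) := by
    refine ⟨V.mul_mem hq hu₀, ?_⟩
    have e1 : a * ((a * u₀ * a⁻¹) * u₀) * a⁻¹ = (a * (a * u₀ * a⁻¹) * a⁻¹) * (a * u₀ * a⁻¹) := by
      group
    have e2 : a * ((a * (a * u₀ * a⁻¹) * a⁻¹) * (a * u₀ * a⁻¹)) * a⁻¹ =
        (a * (a * (a * u₀ * a⁻¹) * a⁻¹) * a⁻¹) * (a * (a * u₀ * a⁻¹) * a⁻¹) := by group
    rw [e1, e2, hF1 u₀ hu₀]
    exact three_inv u₀ (a * u₀ * a⁻¹) (a * (a * u₀ * a⁻¹) * a⁻¹) (hV2 _ hu₀) (hV2 _ hq) (hV2 _ hr)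
      (hVc _ hu₀ _ hq) (hVc _ hr _ hq) (hVc _ hr _ hu₀)
  have hune : (a * u₀ * a⁻¹) * u₀ ≠ 1 := by
    intro h
    apply hu
    have h1 : a * u₀ * a⁻¹ = u₀⁻¹ := eq_inv_of_mul_eq_one_left h
    rw [h1]
    exact inv_eq_of_mul_eq_one_left (hV2 _ hu₀)
  -- descending induction on the power of `b`
  have hstep : ∀ i : ℕ, (∃ v, V₁ v ∧ v ≠ 1 ∧ b ^ 2 ^ (i + 1) * v = v * b ^ 2 ^ (i + 1)) →
      ∃ v, V₁ v ∧ v ≠ 1 ∧ b ^ 2 ^ i * v = v * b ^ 2 ^ i := by
    rintro i ⟨v, hv, hv1, hvc⟩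
    obtain ⟨g, hg⟩ : ∃ g, g = b ^ 2 ^ i := ⟨_, rfl⟩
    have hgg : b ^ 2 ^ (i + 1) = g * g := by rw [hg, ← pow_add, pow_succ, mul_two]
    rw [hgg] at hvc
    rw [← hg]
    have hgv : V₁ (g * v * g⁻¹) := by rw [hg]; exact hV₁bn _ v hv
    by_cases h1 : v * (g * v * g⁻¹) = 1
    · refine ⟨v, hv, hv1, ?_⟩
      have h2 : g * v * g⁻¹ = v⁻¹ := eq_inv_of_mul_eq_one_right h1
      have h3 : v⁻¹ = v := inv_eq_of_mul_eq_one_left (hV2 _ hv.1)
      rw [h3] at h2
      calc g * v = (g * v * g⁻¹) * g := by group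
        _ = v * g := by rw [h2]
    · refine ⟨v * (g * v * g⁻¹), hV₁mul _ _ hv hgv, h1, ?_⟩
      have h2 : g * (v * (g * v * g⁻¹)) * g⁻¹ = (g * v * g⁻¹) * ((g * g) * v * (g * g)⁻¹) := by
        group
      have h3 : (g * g) * v * (g * g)⁻¹ = v := by rw [hvc]; group
      have h4 : g * (v * (g * v * g⁻¹)) * g⁻¹ = v * (g * v * g⁻¹) := by
        rw [h2, h3]; exact hVc _ hgv.1 _ hv.1
      calc g * (v * (g * v * g⁻¹)) = (g * (v * (g * v * g⁻¹)) * g⁻¹) * g := by group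
        _ = v * (g * v * g⁻¹) * g := by rw [h4]
  have hdesc : ∀ n : ℕ, (∃ v, V₁ v ∧ v ≠ 1 ∧ b ^ 2 ^ n * v = v * b ^ 2 ^ n) →
      ∃ v, V₁ v ∧ v ≠ 1 ∧ b ^ 2 ^ 0 * v = v * b ^ 2 ^ 0 := by
    intro n
    induction n with
    | zero => exact id
    | succ n ih => exact fun h => ih (hstep n h)
  obtain ⟨w, ⟨hwV, hw1⟩, hwne, hwb⟩ := hdesc m ⟨_, hu1, hune, by rw [hb, one_mul, mul_one]⟩
  rw [pow_zero, pow_one] at hwb
  -- the section
  have hw₁ := haV _ hwV
  have hw₂ := haV _ hw₁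
  have hba1 : b * a = a⁻¹ * b := by rw [← hba]; group
  have hba2 : b * a⁻¹ = a * b := by
    calc b * a⁻¹ = (b * a⁻¹ * b⁻¹) * b := by group
      _ = a * b := by rw [hba']
  have hab2 : a * (b * b) = (b * b) * a := by
    calc a * (b * b) = (a * b) * b := by group
      _ = (b * a⁻¹) * b := by rw [hba2]
      _ = b * (a⁻¹ * b) := by group
      _ = b * (b * a) := by rw [hba1]
      _ = (b * b) * a := by group
  have hwbb : w * (b * b) = (b * b) * w := by
    calc w * (b * b) = (w * b) * b := by group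
      _ = (b * w) * b := by rw [hwb]
      _ = b * (w * b) := by group
      _ = b * (b * w) := by rw [hwb]
      _ = (b * b) * w := by group
  obtain ⟨R, hR⟩ : ∃ R : Subgroup Q, R = closure ({a ^ 3, b * b} : Set Q) := ⟨_, rfl⟩
  have hRa : ∀ r ∈ R, a * r = r * a := by
    have : R ≤ centralizer ({a} : Set Q) := by
      rw [hR, closure_le]
      rintro x (rfl | rfl)
      · rw [SetLike.mem_coe, mem_centralizer_iff]
        rintro h rfl
        rw [← pow_succ', ← pow_succ]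
      · rw [SetLike.mem_coe, mem_centralizer_iff]
        rintro h rfl
        exact hab2
    intro r hr
    exact (mem_centralizer_iff.1 (this hr)) a rfl
  have hRw : ∀ r ∈ R, w * r = r * w := by
    have : R ≤ centralizer ({w} : Set Q) := by
      rw [hR, closure_le]
      rintro x (rfl | rfl)
      · rw [SetLike.mem_coe, mem_centralizer_iff]
        rintro h rfl
        exact (ha3 _ hwV).symm
      · rw [SetLike.mem_coe, mem_centralizer_iff]
        rintro h rfl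
        exact hwbb
    intro r hr
    exact (mem_centralizer_iff.1 (this hr)) w rfl
  have hnorm_of_comm : ∀ g : Q, (∀ r ∈ R, g * r = r * g) → g ∈ normalizer (R : Set Q) := by
    intro g hg
    rw [Subgroup.mem_normalizer_iff]
    intro h
    constructor
    · intro hh
      have : g * h * g⁻¹ = h := by rw [hg h hh]; group
      rw [this]; exact hh
    · intro hh
      have h1 := hg _ hh
      have h2 : h = g * h * g⁻¹ := by
        calc h = g⁻¹ * ((g * h * g⁻¹) * g) := by group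
          _ = g⁻¹ * (g * (g * h * g⁻¹)) := by rw [h1]
          _ = g * h * g⁻¹ := by group
      rw [h2]; exact hh
  have ha3R : a ^ 3 ∈ R := by rw [hR]; exact subset_closure (by simp)
  have hbbR : b * b ∈ R := by rw [hR]; exact subset_closure (by simp)
  have hbN : b ∈ normalizer (R : Set Q) := by
    rw [hR]
    apply norm_of_conj
    · rintro x (rfl | rfl)
      · have : b * a ^ 3 * b⁻¹ = (a ^ 3)⁻¹ := by
          rw [← conj_pow, hba, inv_pow]
        rw [this, ← hR]; exact R.inv_mem ha3R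
      · have : b * (b * b) * b⁻¹ = b * b := by group
        rw [this, ← hR]; exact hbbR
    · rintro x (rfl | rfl)
      · have h0 : b⁻¹ * a * b = a⁻¹ := by
          calc b⁻¹ * a * b = b⁻¹ * (a * b) := by group
            _ = b⁻¹ * (b * a⁻¹) := by rw [hba2]
            _ = a⁻¹ := by group
        have : b⁻¹ * a ^ 3 * b = (a ^ 3)⁻¹ := by
          have h1 : b⁻¹ * a ^ 3 * b⁻¹⁻¹ = (b⁻¹ * a * b⁻¹⁻¹) ^ 3 := (conj_pow).symm
          rw [inv_inv] at h1
          rw [h1, h0, inv_pow]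
        rw [this, ← hR]; exact R.inv_mem ha3R
      · have : b⁻¹ * (b * b) * b = b * b := by group
        rw [this, ← hR]; exact hbbR
  refine Cfsg.Agent.Lib.Helper2.S4Sec.involves_of_section_data R b a w hbN
    (hnorm_of_comm a hRa) (hnorm_of_comm w hRw) hbbR ha3R ?_ ?_ ?_ ?_ ?_
  · rw [hV2 w hwV]; exact R.one_mem
  · rw [hba, inv_mul_cancel]; exact R.one_mem
  · have : b * w * b⁻¹ * w⁻¹ = 1 := by rw [hwb]; group
    rw [this]; exact R.one_mem
  · have e : (a⁻¹ * w) ^ 3 =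
        (a ^ 3)⁻¹ * ((a * (a * w * a⁻¹) * a⁻¹) * (a * w * a⁻¹) * w) := by
      rw [h3, pow_succ, pow_succ, pow_one]; group
    have e2 : (a * (a * w * a⁻¹) * a⁻¹) * (a * w * a⁻¹) * w = 1 := by
      rw [hVc _ hw₂ _ hw₁, hVc _ (V.mul_mem hw₁ hw₂) _ hwV, ← mul_assoc]; exact hw1
    rw [e, e2, mul_one]; exact R.inv_mem ha3R
  · intro hwR
    have h1 : a * w * a⁻¹ = w := by rw [hRa w hwR]; group
    rw [h1, h1] at hw1
    apply hwne
    have h2 := hV2 w hwV
    rw [h2, one_mul] at hw1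
    exact hw1

/-! ### The homomorphism `S₄ → S₃` -/

/-- index of the pairing of `Fin 4` containing the pair `{x, y}` -/
def pidx (x y : Fin 4) : Fin 3 :=
  if x = 3 then ⟨y.val % 3, Nat.mod_lt _ (by norm_num)⟩
  else if y = 3 then ⟨x.val % 3, Nat.mod_lt _ (by norm_num)⟩
  else ⟨(3 - x.val - y.val) % 3, Nat.mod_lt _ (by norm_num)⟩

def qfun (σ : Perm (Fin 4)) (i : Fin 3) : Fin 3 := pidx (σ i.castSucc) (σ 3)

set_option maxRecDepth 100000 in
theorem qfun_inv : ∀ σ : Perm (Fin 4), ∀ i : Fin 3, qfun σ⁻¹ (qfun σ i) = i := by decide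

def qperm (σ : Perm (Fin 4)) : Perm (Fin 3) where
  toFun := qfun σ
  invFun := qfun σ⁻¹
  left_inv := qfun_inv σ
  right_inv := by
    intro i
    have := qfun_inv σ⁻¹ i
    rwa [inv_inv] at this

set_option maxRecDepth 100000 in
theorem qperm_mul : ∀ σ τ : Perm (Fin 4), qperm (σ * τ) = qperm σ * qperm τ := by decide

set_option maxRecDepth 100000 in
theorem qperm_surj : ∀ τ : Perm (Fin 3), ∃ σ : Perm (Fin 4), qperm σ = τ := by decide

set_option maxRecDepth 100000 in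
theorem qperm_ker_sq : ∀ σ : Perm (Fin 4), qperm σ = 1 → σ * σ = 1 := by decide

set_option maxRecDepth 100000 in
theorem qperm_cent : ∀ σ : Perm (Fin 4),
    (∀ v : Perm (Fin 4), qperm v = 1 → σ * v = v * σ) → qperm σ = 1 := by decide

/-- the homomorphism `S₄ → S₃` with kernel the four-group -/
def qhom : Perm (Fin 4) →* Perm (Fin 3) := MonoidHom.mk' qperm qperm_mul

theorem qhom_apply (σ : Perm (Fin 4)) : qhom σ = qperm σ := rfl

/-! ### The forward direction -/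

theorem fwd {G : Type*} [Group G] [Finite G] (h : Involves (Perm (Fin 4)) G) :
    ∃ T : Subgroup G, IsPGroup 2 ↥T ∧ Involves (Perm (Fin 3))
      (↥(normalizer (T : Set G)) ⧸
        (centralizer (T : Set G)).subgroupOf (normalizer (T : Set G))) := by
  classical
  have : Fact (Nat.Prime 2) := ⟨Nat.prime_two⟩
  obtain ⟨K, f, hf⟩ := Cfsg.Agent.H37.involves_exists_surj h
  let M : Subgroup K := (qhom.comp f).ker
  have hMmem : ∀ g : K, g ∈ M ↔ qhom (f g) = 1 := fun g => Iff.rfl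
  obtain ⟨P⟩ : Nonempty (Sylow 2 M) := inferInstance
  -- `f` maps `P` onto the kernel of `qhom`
  have hPsurj : ∀ v : Perm (Fin 4), qhom v = 1 →
      ∃ x : M, x ∈ (P : Subgroup M) ∧ f (x : K) = v := by
    let f₁ : M →* qhom.ker := (f.comp M.subtype).codRestrict qhom.ker
      (fun x => MonoidHom.mem_ker.2 ((hMmem x.1).1 x.2))
    have hf₁ : Function.Surjective f₁ := by
      rintro ⟨v, hv⟩
      obtain ⟨k, rfl⟩ := hf v
      exact ⟨⟨k, (hMmem k).2 (MonoidHom.mem_ker.1 hv)⟩, rfl⟩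
    have hdvd : ((P : Subgroup M).map f₁).index ∣ (P : Subgroup M).index :=
      Subgroup.index_map_dvd _ hf₁
    have hker2 : IsPGroup 2 qhom.ker := by
      rintro ⟨v, hv⟩
      refine ⟨1, ?_⟩
      apply Subtype.ext
      rw [pow_one, pow_two]
      exact qperm_ker_sq v (MonoidHom.mem_ker.1 hv)
    obtain ⟨n, hn⟩ := IsPGroup.iff_card.1 hker2
    have hdvd2 : ((P : Subgroup M).map f₁).index ∣ 2 ^ n := by
      rw [← hn]; exact Subgroup.index_dvd_card _
    have hodd : ¬ 2 ∣ (P : Subgroup M).index := P.not_dvd_index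
    have h1 : ((P : Subgroup M).map f₁).index = 1 := by
      obtain ⟨j, -, hj⟩ := (Nat.dvd_prime_pow Nat.prime_two).1 hdvd2
      rcases Nat.eq_zero_or_pos j with rfl | hjpos
      · simpa using hj
      · exfalso; apply hodd
        have h2 : 2 ∣ ((P : Subgroup M).map f₁).index := by
          rw [hj]; exact dvd_pow_self 2 hjpos.ne'
        exact h2.trans hdvd
    have htop : (P : Subgroup M).map f₁ = ⊤ := Subgroup.index_eq_one.1 h1
    intro v hv
    have hmem : (⟨v, MonoidHom.mem_ker.2 hv⟩ : qhom.ker) ∈ (P : Subgroup M).map f₁ := by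
      rw [htop]; exact mem_top _
    obtain ⟨x, hx, hxv⟩ := Subgroup.mem_map.1 hmem
    exact ⟨x, hx, congrArg Subtype.val hxv⟩
  obtain ⟨PK, hPK⟩ : ∃ PK : Subgroup K, PK = (P : Subgroup M).map M.subtype := ⟨_, rfl⟩
  obtain ⟨T, hT⟩ : ∃ T : Subgroup G, T = PK.map K.subtype := ⟨_, rfl⟩
  have hT2 : IsPGroup 2 T := by
    rw [hT, hPK]; exact (P.isPGroup'.map _).map _
  refine ⟨T, hT2, ?_⟩
  have hfr : normalizer (PK : Set K) ⊔ M = ⊤ := by
    rw [hPK]; exact Sylow.normalizer_sup_eq_top P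
  have hNT : ∀ n : K, n ∈ normalizer (PK : Set K) → (n : G) ∈ normalizer (T : Set G) := by
    intro n hn
    have key : ∀ g : K, g ∈ normalizer (PK : Set K) → ∀ w ∈ T,
        (g : G) * w * (g : G)⁻¹ ∈ T := by
      intro g hg w hw
      rw [hT] at hw ⊢
      obtain ⟨w', hw', rfl⟩ := Subgroup.mem_map.1 hw
      exact Subgroup.mem_map.2 ⟨g * w' * g⁻¹, (Subgroup.mem_normalizer_iff.1 hg w').1 hw', rfl⟩
    rw [Subgroup.mem_normalizer_iff]
    intro w
    constructor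
    · exact key n hn w
    · intro hw
      have h1 := key n⁻¹ (Subgroup.inv_mem _ hn) _ hw
      have e : ((n⁻¹ : K) : G) * ((n : G) * w * (n : G)⁻¹) * ((n⁻¹ : K) : G)⁻¹ = w := by
        rw [Subgroup.coe_inv]; group
      rwa [e] at h1
  let ι : ↥(normalizer (PK : Set K)) →* ↥(normalizer (T : Set G)) :=
    (K.subtype.comp (normalizer (PK : Set K)).subtype).codRestrict _ (fun x => hNT x.1 x.2)
  let j₀ : ↥(normalizer (PK : Set K)) →* (↥(normalizer (T : Set G)) ⧸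
      (centralizer (T : Set G)).subgroupOf (normalizer (T : Set G))) :=
    (QuotientGroup.mk' _).comp ι
  have hker : j₀.ker ≤ (qhom.comp (f.comp (normalizer (PK : Set K)).subtype)).ker := by
    intro n hn
    rw [MonoidHom.mem_ker] at hn ⊢
    have h1 : ι n ∈ (centralizer (T : Set G)).subgroupOf (normalizer (T : Set G)) :=
      (QuotientGroup.eq_one_iff _).1 hn
    have h2 : (((n : K)) : G) ∈ centralizer (T : Set G) := Subgroup.mem_subgroupOf.1 h1
    show qhom (f (n : K)) = 1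
    rw [qhom_apply]
    apply qperm_cent
    intro v hv
    obtain ⟨x, hxP, rfl⟩ := hPsurj v hv
    have hxT : (((x : M) : K) : G) ∈ T := by
      rw [hT, hPK]
      exact Subgroup.mem_map.2 ⟨(x : K), Subgroup.mem_map.2 ⟨x, hxP, rfl⟩, rfl⟩
    have h3 := (Subgroup.mem_centralizer_iff.1 h2) _ hxT
    have h4 : ((x : M) : K) * (n : K) = (n : K) * ((x : M) : K) := Subtype.ext h3
    have h5 := congrArg f h4
    rw [map_mul, map_mul] at h5
    exact h5.symm
  refine Cfsg.Agent.S5299.involves_of_inj_surj (QuotientGroup.kerLift j₀)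
    (QuotientGroup.kerLift_injective j₀)
    (QuotientGroup.lift j₀.ker (qhom.comp (f.comp (normalizer (PK : Set K)).subtype)) hker) ?_
  intro τ
  obtain ⟨σ, hσ⟩ := qperm_surj τ
  obtain ⟨k, hk⟩ := hf σ
  have hktop : k ∈ normalizer (PK : Set K) ⊔ M := by rw [hfr]; exact mem_top _
  obtain ⟨n, hn, m', hm', hnm⟩ := Subgroup.mem_sup_of_normal_right.1 hktop
  refine ⟨QuotientGroup.mk (⟨n, hn⟩ : ↥(normalizer (PK : Set K))), ?_⟩
  rw [QuotientGroup.lift_mk]
  show qhom (f n) = τ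
  have h1 : qhom (f k) = qhom (f n) * qhom (f m') := by rw [← hnm, map_mul, map_mul]
  rw [(hMmem m').1 hm', mul_one, hk] at h1
  rw [← h1]; exact hσ

/-! ### The backward direction -/

theorem bwd {G : Type*} [Group G] [Finite G] (T : Subgroup G) (hT : IsPGroup 2 ↥T)
    (h : Involves (Perm (Fin 3)) (↥(normalizer (T : Set G)) ⧸
      (centralizer (T : Set G)).subgroupOf (normalizer (T : Set G)))) :
    Involves (Perm (Fin 4)) G := by
  classical
  have : Fact (Nat.Prime 2) := ⟨Nat.prime_two⟩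
  obtain ⟨K₀, f₀, hf₀⟩ := Cfsg.Agent.H37.involves_exists_surj h
  let π₀ := QuotientGroup.mk' ((centralizer (T : Set G)).subgroupOf (normalizer (T : Set G)))
  let φ : ↥(K₀.comap π₀) →* Perm (Fin 3) := f₀.comp (π₀.subgroupComap K₀)
  have hφ : Function.Surjective φ :=
    hf₀.comp (MonoidHom.subgroupComap_surjective_of_surjective _ _
      (QuotientGroup.mk'_surjective _))
  obtain ⟨a₀, b₀, ⟨ka, hka⟩, ⟨kb, hkb⟩, hinv, hφa⟩ := honest φ hφ
  obtain ⟨a, ha⟩ : ∃ a : G, a = ((a₀ : ↥(normalizer (T : Set G))) : G) := ⟨_, rfl⟩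
  obtain ⟨b, hb⟩ : ∃ b : G, b = ((b₀ : ↥(normalizer (T : Set G))) : G) := ⟨_, rfl⟩
  have haN : a ∈ normalizer (T : Set G) := by
    rw [ha]; exact (a₀ : ↥(normalizer (T : Set G))).2
  have hbN : b ∈ normalizer (T : Set G) := by
    rw [hb]; exact (b₀ : ↥(normalizer (T : Set G))).2
  have hao : orderOf a = 3 ^ ka := by
    rw [ha, Subgroup.orderOf_coe, Subgroup.orderOf_coe, hka]
  have hbo : orderOf b = 2 ^ kb := by
    rw [hb, Subgroup.orderOf_coe, Subgroup.orderOf_coe, hkb]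
  have hinv' : b * a * b⁻¹ = a⁻¹ := by
    rw [ha, hb]
    have h1 := congrArg (fun z : ↥(K₀.comap π₀) => ((z : ↥(normalizer (T : Set G))) : G)) hinv
    simpa using h1
  have haC : a ∉ centralizer (T : Set G) := by
    intro hc
    apply hφa
    have h1 : (a₀ : ↥(normalizer (T : Set G))) ∈
        (centralizer (T : Set G)).subgroupOf (normalizer (T : Set G)) := by
      rw [Subgroup.mem_subgroupOf, ← ha]; exact hc
    have h2 : π₀ (a₀ : ↥(normalizer (T : Set G))) = 1 := (QuotientGroup.eq_one_iff _).2 h1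
    show f₀ (π₀.subgroupComap K₀ a₀) = 1
    have h3 : π₀.subgroupComap K₀ a₀ = 1 := Subtype.ext h2
    rw [h3, map_one]
  -- reduce to an element whose cube centralizes `T`
  have hex : ∃ j, a ^ 3 ^ j ∈ centralizer (T : Set G) :=
    ⟨ka, by rw [← hao, pow_orderOf_eq_one]; exact one_mem _⟩
  have hj1 := Nat.find_spec hex
  have hj0 : Nat.find hex ≠ 0 := by
    intro h0; rw [h0, pow_zero, pow_one] at hj1; exact haC hj1
  obtain ⟨i, hi⟩ := Nat.exists_eq_succ_of_ne_zero hj0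
  have hi1 : a ^ 3 ^ i ∉ centralizer (T : Set G) :=
    Nat.find_min hex (by rw [hi]; exact Nat.lt_succ_self i)
  have ha13 : (a ^ 3 ^ i) ^ 3 ∈ centralizer (T : Set G) := by
    have e : (a ^ 3 ^ i) ^ 3 = a ^ 3 ^ (Nat.find hex) := by rw [← pow_mul, hi, pow_succ]
    rw [e]; exact hj1
  have ha1N : a ^ 3 ^ i ∈ normalizer (T : Set G) := Subgroup.pow_mem _ haN _
  have ha1inv : b * a ^ 3 ^ i * b⁻¹ = (a ^ 3 ^ i)⁻¹ := by rw [← conj_pow, hinv', inv_pow]
  have ha1o : orderOf (a ^ 3 ^ i) ∣ 3 ^ ka := by rw [← hao]; exact orderOf_pow_dvd _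
  generalize a ^ 3 ^ i = a₁ at hi1 ha13 ha1N ha1inv ha1o
  -- the Frattini subgroup of `T`
  obtain ⟨Y, hY⟩ : ∃ Y : Subgroup G, Y = (frattini ↥T).map T.subtype := ⟨_, rfl⟩
  have hYT : Y ≤ T := by
    rw [hY]; rintro x ⟨c, _, rfl⟩; exact c.2
  have hNY : normalizer (T : Set G) ≤ normalizer (Y : Set G) := by
    rw [hY]; exact Cfsg.Agent.S0029.normalizer_le_normalizer_char T (frattini ↥T)
  have hsq : ∀ x ∈ T, x * x ∈ Y := by
    intro x hx
    have h1 := Cfsg.Agent.Lib.Helper90.Frattini2.sq_mem_frattini hT (⟨x, hx⟩ : T)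
    rw [hY]
    exact Subgroup.mem_map.2 ⟨_, h1, by simp [pow_two]⟩
  have hcomm : ∀ u ∈ T, ∀ v ∈ T, u * v * u⁻¹ * v⁻¹ ∈ Y := by
    intro u hu v hv
    have h1 := Cfsg.Agent.Lib.Helper90.Frattini2.commutator_mem_frattini hT (⟨u, hu⟩ : T)
      ⟨v, hv⟩
    rw [hY]
    exact Subgroup.mem_map.2 ⟨_, h1, rfl⟩
  -- `a₁` acts nontrivially on `T / Y`
  have hnt : ∃ k ∈ T, a₁ * k * a₁⁻¹ * k⁻¹ ∉ Y := by
    by_contra hcon
    push Not at hcon
    apply hi1
    have hpow : ∀ n : ℕ, ∀ k ∈ T, a₁ ^ n * k * (a₁ ^ n)⁻¹ * k⁻¹ ∈ Y := by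
      intro n
      induction n with
      | zero =>
        intro k hk
        have e : a₁ ^ 0 * k * (a₁ ^ 0)⁻¹ * k⁻¹ = 1 := by rw [pow_zero]; group
        rw [e]; exact Y.one_mem
      | succ n ih =>
        intro k hk
        have e : a₁ ^ (n + 1) * k * (a₁ ^ (n + 1))⁻¹ * k⁻¹ =
            a₁ * (a₁ ^ n * k * (a₁ ^ n)⁻¹ * k⁻¹) * a₁⁻¹ * (a₁ * k * a₁⁻¹ * k⁻¹) := by
          rw [pow_succ']; group
        rw [e]
        exact Y.mul_mem ((Subgroup.mem_normalizer_iff.1 (hNY ha1N) _).1 (ih k hk)) (hcon k hk)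
    have hle : zpowers a₁ ≤ centralizer (T : Set G) := by
      apply Cfsg.Agent.S0029.result (zpowers a₁) T ((Subgroup.zpowers_le).2 ha1N)
      · obtain ⟨n, hn⟩ := IsPGroup.iff_card.1 hT
        have h1 : Nat.card (zpowers a₁) ∣ 3 ^ ka := by rw [Nat.card_zpowers]; exact ha1o
        have h2 : Nat.card (frattini ↥T) ∣ 2 ^ n := by
          rw [← hn]; exact Subgroup.card_subgroup_dvd_card _
        have h3 : Nat.Coprime (3 ^ ka) (2 ^ n) := Nat.Coprime.pow _ _ (by norm_num)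
        exact (h3.coprime_dvd_left h1).coprime_dvd_right h2
      · intro g hg k hk
        have hg' : g ∈ Submonoid.powers a₁ :=
          (isOfFinOrder_of_finite a₁).mem_powers_iff_mem_zpowers.2 hg
        obtain ⟨n, rfl⟩ := (Submonoid.mem_powers_iff g a₁).1 hg'
        rw [← hY]
        exact hpow n k hk
    exact hle (mem_zpowers a₁)
  obtain ⟨k, hkT, hk⟩ := hnt
  -- pass to the quotient of the normalizer by `Y`
  have hTN : T ≤ normalizer (T : Set G) := Subgroup.le_normalizer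
  have hY'n : (Y.subgroupOf (normalizer (T : Set G))).Normal :=
    (Subgroup.normal_subgroupOf_iff_le_normalizer (hYT.trans hTN)).mpr hNY
  apply Cfsg.Agent.Lib.Helper11.QuadStable.involves_subgroup (normalizer (T : Set G))
  apply Cfsg.Agent.Lib.Helper11.QuadStable.involves_quotient
    (Y.subgroupOf (normalizer (T : Set G)))
  obtain ⟨π, hπdef⟩ : ∃ π : ↥(normalizer (T : Set G)) →*
      ↥(normalizer (T : Set G)) ⧸ Y.subgroupOf (normalizer (T : Set G)),
      π = QuotientGroup.mk' (Y.subgroupOf (normalizer (T : Set G))) := ⟨_, rfl⟩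
  have hπ : ∀ x : ↥(normalizer (T : Set G)), π x = 1 ↔ (x : G) ∈ Y := fun x => by
    rw [hπdef, QuotientGroup.mk'_apply, QuotientGroup.eq_one_iff, Subgroup.mem_subgroupOf]
  have hmemV : ∀ v ∈ (T.subgroupOf (normalizer (T : Set G))).map π,
      ∃ x : ↥(normalizer (T : Set G)), (x : G) ∈ T ∧ π x = v := by
    rintro v ⟨x, hx, rfl⟩
    exact ⟨x, Subgroup.mem_subgroupOf.1 hx, rfl⟩
  have hVmem : ∀ x : ↥(normalizer (T : Set G)), (x : G) ∈ T →
      π x ∈ (T.subgroupOf (normalizer (T : Set G))).map π :=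
    fun x hx => Subgroup.mem_map.2 ⟨x, Subgroup.mem_subgroupOf.2 hx, rfl⟩
  refine s4_of_module ((T.subgroupOf (normalizer (T : Set G))).map π) (π ⟨a₁, ha1N⟩)
    (π ⟨b, hbN⟩) ?_ ?_ ?_ ?_ ?_ ?_ kb ?_ (π ⟨k, hTN hkT⟩) (hVmem _ hkT) ?_
  · intro v hv
    obtain ⟨x, hx, rfl⟩ := hmemV v hv
    rw [← map_mul, hπ]
    exact hsq _ hx
  · intro u hu v hv
    obtain ⟨x, hx, rfl⟩ := hmemV u hu
    obtain ⟨y, hy, rfl⟩ := hmemV v hv
    have h1 : π (x * y * x⁻¹ * y⁻¹) = 1 := by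
      rw [hπ]; exact hcomm _ hx _ hy
    have e : x * y = (x * y * x⁻¹ * y⁻¹) * (y * x) := by group
    rw [← map_mul, ← map_mul, e, map_mul, h1, one_mul]
  · intro v hv
    obtain ⟨x, hx, rfl⟩ := hmemV v hv
    rw [← map_inv, ← map_mul, ← map_mul]
    exact hVmem _ ((Subgroup.mem_normalizer_iff.1 ha1N _).1 hx)
  · intro v hv
    obtain ⟨x, hx, rfl⟩ := hmemV v hv
    rw [← map_inv, ← map_mul, ← map_mul]
    exact hVmem _ ((Subgroup.mem_normalizer_iff.1 hbN _).1 hx)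
  · intro v hv
    obtain ⟨x, hx, rfl⟩ := hmemV v hv
    rw [← map_pow, ← map_mul, ← map_mul]
    congr 1
    apply Subtype.ext
    exact ((Subgroup.mem_centralizer_iff.1 ha13) _ hx).symm
  · rw [← map_inv, ← map_mul, ← map_mul, ← map_inv]
    congr 1
    exact Subtype.ext ha1inv
  · rw [← map_pow]
    have e : (⟨b, hbN⟩ : ↥(normalizer (T : Set G))) ^ 2 ^ kb = 1 := by
      apply Subtype.ext
      show b ^ 2 ^ kb = 1
      rw [← hbo]; exact pow_orderOf_eq_one b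
    rw [e, map_one]
  · intro heq
    apply hk
    have h1 : π (⟨a₁, ha1N⟩ * ⟨k, hTN hkT⟩ * ⟨a₁, ha1N⟩⁻¹ * ⟨k, hTN hkT⟩⁻¹) = 1 := by
      rw [map_mul, map_mul, map_mul, map_inv, map_inv, heq, mul_inv_cancel]
    exact (hπ _).1 h1

/-- For a finite group G, the symmetric group of degree 4 is involved in G if and only if there is a 2-subgroup T of G such that the symmetric group of degree 3 is involved in N(T)/C(T). -/
theorem result {G : Type*} [Group G] [Finite G] : Cfsg.Involves (Equiv.Perm (Fin 4)) G ↔ ∃ T : Subgroup G, IsPGroup 2 ↥T ∧ Cfsg.Involves (Equiv.Perm (Fin 3)) (↥(Subgroup.normalizer (T : Set G)) ⧸ (Subgroup.centralizer (T : Set G)).subgroupOf (Subgroup.normalizer (T : Set G))) := by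
  constructor
  · exact fwd
  · rintro ⟨T, hT, h⟩
    exact bwd T hT h

end Cfsg.Agent.S2759
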