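import Cfsg.Statements.S2804
import Cfsg.Agent.Lib.Helper47.Subn

set_option autoImplicit false
open Cfsg

namespace Cfsg.Agent.S2804

open Cfsg.Agent.Lib.Helper47.Syl Cfsg.Agent.Lib.Helper47.PRes Cfsg.Agent.Lib.Helper47.PRed Cfsg.Agent.Lib.Helper47.Subn Cfsg.Agent.Lib.Helper47.Cent
open scoped commutatorElement

/-- Let L be a finite group and p a prime with C_L(O_p(L)) ≤ O_p(L), V a p-reduced normal subgroup of L and K a subnormal subgroup of L. Then [V, O^p(K)] is contained in K and is a p-reduced normal subgroup of K, where O^p(K) is the subgroup of K generated by its elements of order prime to p. -/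
theorem result {L : Type*} [Group L] [Finite L] {p : ℕ} [Fact p.Prime] (hchar : Subgroup.centralizer (Cfsg.pCore p L : Set L) ≤ Cfsg.pCore p L) (V : Subgroup L) (hV : Cfsg.IsPReducedNormal p V) (K : Subgroup L) (hK : K.IsSubnormal) : ⁅V, (Cfsg.pResidual p ↥K).map K.subtype⁆ ≤ K ∧ Cfsg.IsPReducedNormal p ((⁅V, (Cfsg.pResidual p ↥K).map K.subtype⁆).subgroupOf K) := by
  obtain ⟨hVn, hVc, hVe, _⟩ := (isPReducedNormal_iff_type V).mp hV
  obtain ⟨_, _, hCn, hO⟩ := hV
  have hVp : IsPGroup p V := fun v => ⟨1, by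
    rw [pow_one]
    exact Subtype.ext (by simpa using hVe v v.2)⟩
  have hVE : V ≤ Subgroup.normalizer (((Cfsg.pResidual p ↥K).map K.subtype : Subgroup L) : Set L) :=
    le_normalizer_pResOf_of_subnormal hK hVn hVp
  have hWE : ⁅V, (Cfsg.pResidual p ↥K).map K.subtype⁆ ≤ (Cfsg.pResidual p ↥K).map K.subtype := by
    rw [Subgroup.commutator_le]
    intro v hv e he
    have h1 : ⁅v, e⁆ = (v * e * v⁻¹) * e⁻¹ := by rw [commutatorElement_def]
    rw [h1]
    exact Subgroup.mul_mem _ (conj_mem_of_mem_normalizer (hVE hv) he) (Subgroup.inv_mem _ he)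
  have hEK : (Cfsg.pResidual p ↥K).map K.subtype ≤ K := pResOf_le p K
  have hWK : ⁅V, (Cfsg.pResidual p ↥K).map K.subtype⁆ ≤ K := hWE.trans hEK
  refine ⟨hWK, ?_⟩
  rw [isPReducedNormal_iff, Subgroup.map_subgroupOf_eq_of_le hWK]
  have hWV : ⁅V, (Cfsg.pResidual p ↥K).map K.subtype⁆ ≤ V := Subgroup.commutator_le_left V _
  refine ⟨hWK, ?_, fun a ha b hb => hVc a (hWV ha) b (hWV hb), fun a ha => hVe a (hWV ha), ?_⟩
  · intro g hg
    apply mem_normalizer_commutator
    · rw [Subgroup.normalizer_eq_top_iff.mpr hVn]; exact Subgroup.mem_top g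
    · exact le_normalizer_pResOf p K hg
  · intro D hDK hKD hpow
    have hDsub : D.IsSubnormal :=
      Subgroup.IsSubnormal.step D K hDK hK (Subgroup.normal_subgroupOf_of_le_normalizer hKD)
    have hpe : ∀ x ∈ D, (orderOf x).Coprime p → x ∈ Subgroup.centralizer (V : Set L) := by
      intro x hx hco
      have hxE : x ∈ (Cfsg.pResidual p ↥K).map K.subtype := mem_pResOf_of_coprime (hDK hx) hco
      have hxW : x ∈ Subgroup.centralizer ((⁅V, (Cfsg.pResidual p ↥K).map K.subtype⁆ : Subgroup L) : Set L) := by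
        obtain ⟨k, hk⟩ := hpow x hx
        exact coprime_mem_of_pow_mem hco hk
      rw [Subgroup.mem_centralizer_iff]
      intro v hv
      have hcm : ⁅x, v⁆ ∈ ⁅V, (Cfsg.pResidual p ↥K).map K.subtype⁆ := by
        rw [Subgroup.commutator_comm]
        exact Subgroup.commutator_mem_commutator hxE hv
      have hc : x * ⁅x, v⁆ = ⁅x, v⁆ * x := by
        rw [Subgroup.mem_centralizer_iff] at hxW
        exact (hxW _ hcm).symm
      exact (commute_of_coprime_of_commutator_commute hc (hVe _ (hWV hcm)) hco).symm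
    have hDC : D ≤ Subgroup.centralizer (V : Set L) := by
      apply le_of_subnormal_of_pow_mem hO hDsub
      intro d hd
      obtain ⟨k, hk⟩ := exists_pow_mem_pResOf (p := p) hd
      exact ⟨k, pResOf_le_of_coprime_mem hpe hk⟩
    exact hDC.trans (Subgroup.centralizer_le (by exact_mod_cast hWV))

end Cfsg.Agent.S2804
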