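import Cfsg.Statements.S2805
-- import your own Cfsg.Agent.* helpers here
import Cfsg.Agent.S2826
import Cfsg.Agent.Lib.Helper97.PReduced3
import Cfsg.Agent.Lib.Helper48.CharPSub
import Cfsg.Agent.Lib.Helper50.CoprimeConj
import Mathlib

set_option autoImplicit false
open Cfsg

namespace Cfsg.Agent.S2805

/-- Norm argument: `C` acts on an abelian group `A` of exponent `p`, `S` is a `p`-group normalizing
`C` and a subgroup `S₀ ≤ C` of index prime to `p`.  If `C` fixes every `S`-fixed point, then `C`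
fixes every `S₀`-fixed point. -/
theorem fixed_of_norm {X A : Type*} [Group X] [Finite X] [CommGroup A] [Finite A]
    (ρ : X →* MulAut A) {p : ℕ} [Fact p.Prime] (C S S₀ : Subgroup X)
    (hS₀C : S₀ ≤ C)
    (hSC : ∀ s ∈ S, ∀ c ∈ C, s * c * s⁻¹ ∈ C)
    (hSS₀ : ∀ s ∈ S, ∀ t ∈ S₀, s * t * s⁻¹ ∈ S₀)
    (hn : ¬ p ∣ S₀.relIndex C) (hS : IsPGroup p S)
    (hA : ∀ a : A, a ^ p = 1)
    (hfix : ∀ a : A, (∀ s ∈ S, ρ s a = a) → ∀ c ∈ C, ρ c a = a)
    (a : A) (ha : ∀ t ∈ S₀, ρ t a = a) (c : X) (hc : c ∈ C) : ρ c a = a := by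
  classical
  have hp : p.Prime := Fact.out
  let S₀' : Subgroup ↥C := S₀.subgroupOf C
  letI : Fintype (↥C ⧸ S₀') := Fintype.ofFinite _
  set n : ℕ := Fintype.card (↥C ⧸ S₀') with hn_def
  have hnrel : n = S₀.relIndex C := by
    rw [hn_def, Subgroup.relIndex, Subgroup.index_eq_card, Nat.card_eq_fintype_card]
  have hpn : Nat.Coprime p n := by
    rw [hnrel]; exact (Nat.Prime.coprime_iff_not_dvd hp).mpr hn
  let W : A → Prop := fun a => ∀ t ∈ S₀, ρ t a = a
  let N : A → A := fun a => ∏ q : ↥C ⧸ S₀', ρ ((q.out : ↥C) : X) a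
  have hcoset : ∀ b : A, W b → ∀ c₁ c₂ : ↥C, (c₁ : ↥C ⧸ S₀') = (c₂ : ↥C ⧸ S₀') →
      ρ (c₂ : X) b = ρ (c₁ : X) b := by
    intro b hb c₁ c₂ h
    have h2 : c₁⁻¹ * c₂ ∈ S₀' := QuotientGroup.eq.mp h
    have h3 : ((c₁⁻¹ * c₂ : ↥C) : X) ∈ S₀ := h2
    have h4 := hb _ h3
    calc ρ (c₂ : X) b = ρ ((c₁ : X) * ((c₁⁻¹ * c₂ : ↥C) : X)) b := by
          congr 2; simp
      _ = ρ (c₁ : X) (ρ ((c₁⁻¹ * c₂ : ↥C) : X) b) := by rw [map_mul]; rfl
      _ = ρ (c₁ : X) b := by rw [h4]
  have hNfix : ∀ b : A, W b → ∀ k ∈ C, ρ k (N b) = N b := by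
    intro b hb k hk
    show ρ k (∏ q : ↥C ⧸ S₀', ρ ((q.out : ↥C) : X) b) = ∏ q : ↥C ⧸ S₀', ρ ((q.out : ↥C) : X) b
    rw [map_prod]
    rw [← Equiv.prod_comp (MulAction.toPerm (⟨k, hk⟩ : ↥C))
      (fun q : ↥C ⧸ S₀' => ρ ((q.out : ↥C) : X) b)]
    apply Finset.prod_congr rfl
    intro q _
    have h1 : (((⟨k, hk⟩ : ↥C) * q.out : ↥C) : ↥C ⧸ S₀') =
        ((((⟨k, hk⟩ : ↥C) • q).out : ↥C) : ↥C ⧸ S₀') := by
      rw [QuotientGroup.out_eq']
      conv_rhs => rw [← QuotientGroup.out_eq' q]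
      rfl
    have h2 := hcoset b hb _ _ h1
    show ρ k (ρ ((q.out : ↥C) : X) b) = ρ ((((⟨k, hk⟩ : ↥C) • q).out : ↥C) : X) b
    rw [h2]
    show _ = ρ (k * ((q.out : ↥C) : X)) b
    rw [map_mul]; rfl
  have hWinv : ∀ s ∈ S, ∀ b : A, W b → W (ρ s b) := by
    intro s hs b hb t ht
    have h1 : s⁻¹ * t * s ∈ S₀ := by
      have := hSS₀ s⁻¹ (S.inv_mem hs) t ht
      simpa using this
    have h2 := hb _ h1
    calc ρ t (ρ s b) = ρ (s * (s⁻¹ * t * s)) b := by
          rw [← MulAut.mul_apply, ← map_mul]; congr 2; group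
      _ = ρ s (ρ (s⁻¹ * t * s) b) := by rw [map_mul]; rfl
      _ = ρ s b := by rw [h2]
  have hNeq : ∀ s ∈ S, ∀ b : A, W b → N (ρ s b) = ρ s (N b) := by
    intro s hs b hb
    let φ : ↥C → ↥C := fun c => ⟨s * c * s⁻¹, hSC s hs c c.2⟩
    have hφ : ∀ c₁ c₂ : ↥C, (c₁ : ↥C ⧸ S₀') = c₂ → (φ c₁ : ↥C ⧸ S₀') = φ c₂ := by
      intro c₁ c₂ h
      rw [QuotientGroup.eq] at h ⊢
      have h3 : ((c₁⁻¹ * c₂ : ↥C) : X) ∈ S₀ := h
      have h4 := hSS₀ s hs _ h3
      show (((φ c₁)⁻¹ * φ c₂ : ↥C) : X) ∈ S₀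
      have h5 : (((φ c₁)⁻¹ * φ c₂ : ↥C) : X) = s * ((c₁⁻¹ * c₂ : ↥C) : X) * s⁻¹ := by
        simp only [φ, Subgroup.coe_mul, Subgroup.coe_inv]; group
      rw [h5]; exact h4
    let ψ : ↥C ⧸ S₀' → ↥C ⧸ S₀' := fun q => (φ q.out : ↥C ⧸ S₀')
    have hψ : ∀ c : ↥C, ψ (c : ↥C ⧸ S₀') = (φ c : ↥C ⧸ S₀') := by
      intro c
      apply hφ
      exact QuotientGroup.out_eq' _
    have hψsurj : Function.Surjective ψ := by
      intro q
      obtain ⟨c, rfl⟩ := QuotientGroup.mk_surjective q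
      have hmem : s⁻¹ * (c : X) * s ∈ C := by
        have := hSC s⁻¹ (S.inv_mem hs) c c.2; simpa using this
      refine ⟨((⟨s⁻¹ * c * s, hmem⟩ : ↥C) : ↥C ⧸ S₀'), ?_⟩
      rw [hψ]
      congr 1
      apply Subtype.ext
      simp only [φ]; group
    have hψbij : Function.Bijective ψ := ⟨Finite.injective_iff_surjective.mpr hψsurj, hψsurj⟩
    let e : (↥C ⧸ S₀') ≃ (↥C ⧸ S₀') := Equiv.ofBijective ψ hψbij
    show ∏ q : ↥C ⧸ S₀', ρ ((q.out : ↥C) : X) (ρ s b) =
      ρ s (∏ q : ↥C ⧸ S₀', ρ ((q.out : ↥C) : X) b)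
    rw [map_prod, ← Equiv.prod_comp e (fun q : ↥C ⧸ S₀' => ρ ((q.out : ↥C) : X) (ρ s b))]
    apply Finset.prod_congr rfl
    intro q _
    show ρ (((ψ q).out : ↥C) : X) (ρ s b) = ρ s (ρ ((q.out : ↥C) : X) b)
    have h1 : (φ q.out : ↥C ⧸ S₀') = ((ψ q).out : ↥C) := (QuotientGroup.out_eq' _).symm
    rw [hcoset (ρ s b) (hWinv s hs b hb) _ _ h1]
    show ρ (s * ((q.out : ↥C) : X) * s⁻¹) (ρ s b) = _
    rw [← MulAut.mul_apply, ← map_mul, ← MulAut.mul_apply, ← map_mul]
    congr 2; group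
  have hNmul : ∀ a b : A, N (a * b) = N a * N b := by
    intro a b
    show ∏ q : ↥C ⧸ S₀', ρ ((q.out : ↥C) : X) (a * b) = _
    simp only [map_mul]
    exact Finset.prod_mul_distrib
  have hNone : N 1 = 1 := by simp [N]
  have hNinv : ∀ a, N a⁻¹ = (N a)⁻¹ := by
    intro a; simp [N, Finset.prod_inv_distrib]
  have hNpow : ∀ (a : A) (k : ℕ), N (a ^ k) = N a ^ k := by
    intro a k; simp [N, Finset.prod_pow]
  have hNC : ∀ b : A, (∀ k ∈ C, ρ k b = b) → N b = b ^ n := by
    intro b hb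
    show ∏ q : ↥C ⧸ S₀', ρ ((q.out : ↥C) : X) b = b ^ n
    rw [Finset.prod_congr rfl (fun q _ => hb _ (q.out).2), Finset.prod_const, Finset.card_univ]
  let M : Subgroup A :=
    { carrier := {b | W b ∧ N b = 1}
      one_mem' := ⟨fun t _ => map_one _, hNone⟩
      mul_mem' := by
        rintro x y ⟨hx1, hx2⟩ ⟨hy1, hy2⟩
        exact ⟨fun t ht => by rw [map_mul, hx1 t ht, hy1 t ht], by rw [hNmul, hx2, hy2, one_mul]⟩
      inv_mem' := by
        rintro x ⟨hx1, hx2⟩
        exact ⟨fun t ht => by rw [map_inv, hx1 t ht], by rw [hNinv, hx2, inv_one]⟩ }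
  have hMinv : ∀ s ∈ S, ∀ b ∈ M, ρ s b ∈ M := by
    intro s hs b hb
    exact ⟨hWinv s hs b hb.1, by rw [hNeq s hs b hb.1, hb.2, map_one]⟩
  have hMbot : M = ⊥ := by
    by_contra hne
    letI act : MulAction ↥S ↥M :=
      { smul := fun s m => ⟨ρ (s : X) (m : A), hMinv s.1 s.2 m.1 m.2⟩
        one_smul := fun m => Subtype.ext (by
          show ρ ((1 : ↥S) : X) (m : A) = m
          simp)
        mul_smul := fun s t m => Subtype.ext (by
          show ρ ((s * t : ↥S) : X) (m : A) = ρ (s : X) (ρ (t : X) (m : A))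
          rw [Subgroup.coe_mul, map_mul]; rfl) }
    have hAp : IsPGroup p A := fun a => ⟨1, by rw [pow_one]; exact hA a⟩
    have hMp : IsPGroup p ↥M := hAp.to_subgroup M
    obtain ⟨k, hk⟩ := IsPGroup.iff_card.mp hMp
    have hk0 : k ≠ 0 := by
      rintro rfl
      apply hne
      rw [pow_zero] at hk
      exact (Subgroup.card_eq_one).mp hk
    have hdvd : p ∣ Nat.card ↥M := by rw [hk]; exact dvd_pow_self p hk0
    have h1 : (1 : ↥M) ∈ MulAction.fixedPoints ↥S ↥M := by
      intro s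
      apply Subtype.ext
      show ρ (s : X) ((1 : ↥M) : A) = ((1 : ↥M) : A)
      simp
    obtain ⟨b, hb, hb1⟩ := hS.exists_fixed_point_of_prime_dvd_card_of_fixed_point ↥M hdvd h1
    have hbS : ∀ s ∈ S, ρ s (b : A) = b := by
      intro s hs
      have := hb ⟨s, hs⟩
      exact congrArg Subtype.val this
    have hbC := hfix (b : A) hbS
    have hb2 : (b : A) ^ n = 1 := by rw [← hNC (b : A) hbC]; exact b.2.2
    have hb3 : (b : A) = 1 := by
      have h5 : orderOf (b : A) ∣ Nat.gcd p n :=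
        Nat.dvd_gcd (orderOf_dvd_of_pow_eq_one (hA _)) (orderOf_dvd_of_pow_eq_one hb2)
      rw [hpn] at h5
      exact orderOf_eq_one_iff.mp (Nat.dvd_one.mp h5)
    exact hb1 (Subtype.ext hb3.symm)
  have haW : W a := ha
  have hNa : ∀ k ∈ C, ρ k (N a) = N a := hNfix a haW
  have hNaW : W (N a) := fun t ht => hNa t (hS₀C ht)
  have hmem : a ^ n / N a ∈ M := by
    refine ⟨?_, ?_⟩
    · intro t ht
      rw [map_div, map_pow, haW t ht, hNaW t ht]
    · have h : N (a ^ n / N a) = N a ^ n / N (N a) := by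
        rw [div_eq_mul_inv, hNmul, hNinv, hNpow, div_eq_mul_inv]
      rw [h, hNC (N a) hNa, div_self']
  rw [hMbot, Subgroup.mem_bot] at hmem
  have h1 : a ^ n = N a := div_eq_one.mp hmem
  have h2 : (ρ c a) ^ n = a ^ n := by rw [← map_pow, h1, hNa c hc]
  have h3 : (ρ c a / a) ^ n = 1 := by rw [div_pow, h2, div_self']
  have h4 : (ρ c a / a) ^ p = 1 := hA _
  have h5 : orderOf (ρ c a / a) ∣ Nat.gcd p n :=
    Nat.dvd_gcd (orderOf_dvd_of_pow_eq_one h4) (orderOf_dvd_of_pow_eq_one h3)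
  rw [hpn] at h5
  have h6 : ρ c a / a = 1 := orderOf_eq_one_iff.mp (Nat.dvd_one.mp h5)
  exact div_eq_one.mp h6

open Subgroup Cfsg.Agent.Lib.Helper48.CharP Cfsg.Agent.Lib.Helper33.Conj
  Cfsg.Agent.Lib.Helper48.CharPSub Cfsg.Agent.Lib.Helper97.PReduced2
  Cfsg.Agent.Lib.Helper50.CoprimeConj

variable {H : Type*} [Group H] [Finite H] {p : ℕ} [Fact p.Prime]

/-- A `p`-subgroup of `K` normalized by `K` lies in every Sylow `p`-subgroup of `K`. -/
theorem le_of_isSylIn {K S R : Subgroup H} (hS : IsSylIn p S K) (hRK : R ≤ K) (hR : IsPGroup p R)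
    (hn : K ≤ normalizer (R : Set H)) : R ≤ S := by
  have h1 : IsPGroup p (R ⊔ S : Subgroup H) := hR.to_sup_of_normal_left' hS.2.1 (hS.1.trans hn)
  have h2 := hS.eq_of_le (le_sup_right : S ≤ R ⊔ S) (sup_le hRK hS.1) h1
  rw [← h2]; exact le_sup_left

omit [Finite H] [Fact p.Prime] in
theorem le_normalizer_omegaCenter {K Q : Subgroup H} (h : K ≤ normalizer (Q : Set H)) :
    K ≤ normalizer (omegaCenter p Q : Set H) :=
  Cfsg.Agent.Lib.Helper97.PReduced3.le_normalizer_of_conj (fun _ hk _ hv =>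
    Cfsg.Agent.Lib.Helper97.PReduced3.conj_mem_omegaCenter (h hk) hv)

/-- The normal step: `L ⊴ K`, `K` of characteristic `p` with Sylow `p`-subgroup `S`. -/
theorem step {K L S : Subgroup H} (hS : IsSylIn p S K) (hK : ChP p K) (hLK : L ≤ K)
    (hn : K ≤ normalizer (L : Set H)) :
    L ⊓ centralizer (omegaCenter p S : Set H) =
      L ⊓ centralizer (omegaCenter p (S ⊓ L) : Set H) := by
  have hp : p.Prime := Fact.out
  have hL : ChP p L := hK.of_normal hLK hn
  have hSL : IsSylIn p (S ⊓ L) L := isSylIn_inf_of_normal hS hLK hn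
  have hQS : O p K ≤ S := le_of_isSylIn hS (O_le p K) (O_isPGroup p K) (O_normalizer p K)
  have hQLS : O p L ≤ S ⊓ L := le_of_isSylIn hSL (O_le p L) (O_isPGroup p L) (O_normalizer p L)
  have hKQL : K ≤ normalizer (O p L : Set H) := hn.trans (normalizer_le_normalizer_O p L)
  have hZK : ∀ z ∈ omegaCenter p S, z ∈ omegaCenter p (O p K) := by
    rintro z ⟨hz1, hz2, hz3⟩
    have hzc : z ∈ centralizer (O p K : Set H) := by
      rw [mem_centralizer_iff]; intro q hq
      exact mem_centralizer_iff.mp hz2 q (hQS hq)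
    exact ⟨hK (mem_inf.mpr ⟨hS.1 hz1, hzc⟩), hzc, hz3⟩
  have hZL : ∀ z ∈ omegaCenter p (S ⊓ L), z ∈ omegaCenter p (O p L) := by
    rintro z ⟨hz1, hz2, hz3⟩
    have hzc : z ∈ centralizer (O p L : Set H) := by
      rw [mem_centralizer_iff]; intro q hq
      exact mem_centralizer_iff.mp hz2 q (hQLS hq)
    exact ⟨hL (mem_inf.mpr ⟨(mem_inf.mp hz1).2, hzc⟩), hzc, hz3⟩
  -- `S ⊓ L` centralizes both `Ω₁Z(S)` and `Ω₁Z(S ⊓ L)`
  have hSL1 : S ⊓ L ≤ L ⊓ centralizer (omegaCenter p S : Set H) := by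
    intro x hx
    refine mem_inf.mpr ⟨(mem_inf.mp hx).2, ?_⟩
    rw [mem_centralizer_iff]
    intro w hw
    exact (mem_centralizer_iff.mp hw.2.1 x (mem_inf.mp hx).1).symm
  have hSL2 : S ⊓ L ≤ L ⊓ centralizer (omegaCenter p (S ⊓ L) : Set H) := by
    intro x hx
    refine mem_inf.mpr ⟨(mem_inf.mp hx).2, ?_⟩
    rw [mem_centralizer_iff]
    intro w hw
    exact (mem_centralizer_iff.mp hw.2.1 x hx).symm
  have hrel : ∀ D : Subgroup H, S ⊓ L ≤ D → D ≤ L → ¬ p ∣ (S ⊓ L).relIndex D := by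
    intro D h1 h2 hd
    apply hSL.2.2
    rw [← Subgroup.relIndex_mul_relIndex (S ⊓ L) D L h1 h2]
    exact Dvd.dvd.mul_right hd _
  apply le_antisymm
  · -- elements of `L` centralizing `Ω₁Z(S)` centralize `Ω₁Z(S ⊓ L)`
    intro c hc
    obtain ⟨hcL, hcZ⟩ := mem_inf.mp hc
    refine mem_inf.mpr ⟨hcL, ?_⟩
    rw [mem_centralizer_iff]
    intro z hz
    have hKU : K ≤ normalizer (omegaCenter p (O p L) : Set H) := le_normalizer_omegaCenter hKQL
    letI instU : CommGroup ↥(omegaCenter p (O p L)) :=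
      { (inferInstance : Group ↥(omegaCenter p (O p L))) with
        mul_comm := fun a b => Subtype.ext (mem_centralizer_iff.mp b.2.2.1 a a.2.1) }
    have key := fixed_of_norm (X := ↥K) (A := ↥(omegaCenter p (O p L))) (p := p)
      (conjHom K (omegaCenter p (O p L)) hKU)
      ((L ⊓ centralizer (omegaCenter p S : Set H)).subgroupOf K) (S.subgroupOf K)
      ((S ⊓ L).subgroupOf K)
      (by
        intro x hx
        exact hSL1 hx)
      (by
        intro s hs c' hc'
        have hs' : (s : H) ∈ S := hs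
        obtain ⟨hc1, hc2⟩ := mem_inf.mp (show (c' : H) ∈ _ from hc')
        show (s : H) * c' * (s : H)⁻¹ ∈ L ⊓ centralizer (omegaCenter p S : Set H)
        refine mem_inf.mpr ⟨(mem_normalizer_iff.mp (hn s.2) c').mp hc1, ?_⟩
        rw [mem_centralizer_iff]
        intro w hw
        have e1 : (s : H) * w = w * s := mem_centralizer_iff.mp hw.2.1 s hs'
        have e2 : w * (c' : H) = c' * w := mem_centralizer_iff.mp hc2 w hw
        have e3 : w * (s : H)⁻¹ = (s : H)⁻¹ * w := by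
          have : (s : H)⁻¹ * ((s : H) * w) * (s : H)⁻¹ = (s : H)⁻¹ * (w * s) * (s : H)⁻¹ := by
            rw [e1]
          simpa [mul_assoc] using this
        calc w * ((s : H) * c' * (s : H)⁻¹) = (w * s) * c' * (s : H)⁻¹ := by group
          _ = (s : H) * (w * c') * (s : H)⁻¹ := by rw [← e1]; group
          _ = (s : H) * c' * (w * (s : H)⁻¹) := by rw [e2]; group
          _ = (s : H) * c' * (s : H)⁻¹ * w := by rw [e3]; group)
      (by
        intro s hs t ht
        have hs' : (s : H) ∈ S := hs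
        obtain ⟨ht1, ht2⟩ := mem_inf.mp (show (t : H) ∈ S ⊓ L from ht)
        show (s : H) * t * (s : H)⁻¹ ∈ S ⊓ L
        exact mem_inf.mpr ⟨S.mul_mem (S.mul_mem hs' ht1) (S.inv_mem hs'),
          (mem_normalizer_iff.mp (hn s.2) t).mp ht2⟩)
      (by
        rw [Subgroup.relIndex_subgroupOf (inf_le_left.trans hLK)]
        exact hrel _ hSL1 inf_le_left)
      (hS.2.1.comap_subtype)
      (by
        intro a
        apply Subtype.ext
        rw [Subgroup.coe_pow]
        exact a.2.2.2)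
      (by
        intro a ha c' hc'
        have haS : (a : H) ∈ omegaCenter p S := by
          refine ⟨(mem_inf.mp (hQLS a.2.1)).1, ?_, a.2.2.2⟩
          rw [mem_centralizer_iff]
          intro s hs
          have h1 := congrArg Subtype.val (ha ⟨s, hS.1 hs⟩ hs)
          rw [conjHom_apply] at h1
          have h2 : s * (a : H) * s⁻¹ = a := h1
          calc s * (a : H) = s * (a : H) * s⁻¹ * s := by group
            _ = (a : H) * s := by rw [h2]
        have hc2 : (c' : H) ∈ centralizer (omegaCenter p S : Set H) :=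
          (mem_inf.mp (show (c' : H) ∈ _ from hc')).2
        have h3 : (a : H) * (c' : H) = c' * a := mem_centralizer_iff.mp hc2 a haS
        apply Subtype.ext
        rw [conjHom_apply]
        rw [← h3]; group)
      ⟨z, hZL z hz⟩
      (by
        intro t ht
        have ht' : (t : H) ∈ S ⊓ L := ht
        have h1 : (t : H) * z = z * t := mem_centralizer_iff.mp hz.2.1 t ht'
        apply Subtype.ext
        rw [conjHom_apply]
        show (t : H) * z * (t : H)⁻¹ = z
        rw [h1]; group)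
      ⟨c, hLK hcL⟩ (show c ∈ L ⊓ centralizer (omegaCenter p S : Set H) from hc)
    have h1 := congrArg Subtype.val key
    rw [conjHom_apply] at h1
    have h2 : c * z * c⁻¹ = z := h1
    calc z * c = c * z * c⁻¹ * c := by rw [h2]
      _ = c * z := by group
  · -- elements of `L` centralizing `Ω₁Z(S ⊓ L)` centralize `Ω₁Z(S)`
    intro d hd
    obtain ⟨hdL, hdZ⟩ := mem_inf.mp hd
    refine mem_inf.mpr ⟨hdL, ?_⟩
    rw [mem_centralizer_iff]
    intro z hz
    have hKU : K ≤ normalizer (omegaCenter p (O p K) : Set H) :=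
      le_normalizer_omegaCenter (O_normalizer p K)
    have hDK : L ⊓ centralizer (omegaCenter p (S ⊓ L) : Set H) ≤ K := inf_le_left.trans hLK
    have hDU : L ⊓ centralizer (omegaCenter p (S ⊓ L) : Set H) ≤
        normalizer (omegaCenter p (O p K) : Set H) := hDK.trans hKU
    letI instU : CommGroup ↥(omegaCenter p (O p K)) :=
      { (inferInstance : Group ↥(omegaCenter p (O p K))) with
        mul_comm := fun a b => Subtype.ext (mem_centralizer_iff.mp b.2.2.1 a a.2.1) }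
    have hcop : Nat.Coprime p
        ((S ⊓ L).subgroupOf (L ⊓ centralizer (omegaCenter p (S ⊓ L) : Set H))).index :=
      (Nat.Prime.coprime_iff_not_dvd hp).mpr (hrel _ hSL2 inf_le_left)
    have key := Cfsg.Agent.S2826.fixed_of_trace
      (K := ↥(L ⊓ centralizer (omegaCenter p (S ⊓ L) : Set H)))
      (A := ↥(omegaCenter p (O p K))) (p := p)
      (conjHom (L ⊓ centralizer (omegaCenter p (S ⊓ L) : Set H)) (omegaCenter p (O p K)) hDU)
      ((S ⊓ L).subgroupOf (L ⊓ centralizer (omegaCenter p (S ⊓ L) : Set H)))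
      hcop
      (by
        intro a
        apply Subtype.ext
        rw [Subgroup.coe_pow]
        exact a.2.2.2)
      (L.subgroupOf (omegaCenter p (O p K)))
      (by
        intro a _ x
        show ((conjHom _ _ hDU x a / a : ↥(omegaCenter p (O p K))) : H) ∈ L
        rw [Subgroup.coe_div, conjHom_apply]
        have hxL : (x : H) ∈ L := (mem_inf.mp x.2).1
        have haK : (a : H) ∈ K := O_le p K a.2.1
        have h1 : (a : H) * (x : H)⁻¹ * (a : H)⁻¹ ∈ L :=
          (mem_normalizer_iff.mp (hn haK) _).mp (L.inv_mem hxL)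
        have h2 : (x : H) * a * (x : H)⁻¹ / a = x * ((a : H) * (x : H)⁻¹ * (a : H)⁻¹) := by
          rw [div_eq_mul_inv]; group
        rw [h2]
        exact L.mul_mem hxL h1)
      (by
        intro b hb hbT x
        have hbL : (b : H) ∈ L := hb
        have hbS : (b : H) ∈ S := hQS b.2.1
        have hbZ : (b : H) ∈ omegaCenter p (S ⊓ L) := by
          refine ⟨mem_inf.mpr ⟨hbS, hbL⟩, ?_, b.2.2.2⟩
          rw [mem_centralizer_iff]
          intro t ht
          have h1 := congrArg Subtype.val (hbT ⟨t, hSL2 ht⟩ ht)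
          rw [conjHom_apply] at h1
          have h2 : t * (b : H) * t⁻¹ = b := h1
          calc t * (b : H) = t * (b : H) * t⁻¹ * t := by group
            _ = (b : H) * t := by rw [h2]
        have hx2 : (x : H) ∈ centralizer (omegaCenter p (S ⊓ L) : Set H) := (mem_inf.mp x.2).2
        have h3 : (b : H) * (x : H) = x * b := mem_centralizer_iff.mp hx2 b hbZ
        apply Subtype.ext
        rw [conjHom_apply]
        rw [← h3]; group)
      ⟨z, hZK z hz⟩
      (by
        intro t ht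
        have ht' : (t : H) ∈ S ⊓ L := ht
        have h1 : (t : H) * z = z * t := mem_centralizer_iff.mp hz.2.1 t (mem_inf.mp ht').1
        apply Subtype.ext
        rw [conjHom_apply]
        show (t : H) * z * (t : H)⁻¹ = z
        rw [h1]; group)
      ⟨d, hd⟩
    have h1 := congrArg Subtype.val key
    rw [conjHom_apply] at h1
    have h2 : d * z * d⁻¹ = z := h1
    calc z * d = d * z * d⁻¹ * d := by rw [h2]
      _ = d * z := by group

/-- H of characteristic p, T Sylow, L subnormal: C_L(Ω₁Z(T)) = C_L(Ω₁Z(T ∩ L)). -/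
theorem result {H : Type*} [Group H] [Finite H] {p : ℕ} [Fact p.Prime] (hH : Subgroup.centralizer (Cfsg.pCore p H : Set H) ≤ Cfsg.pCore p H) (T : Sylow p H) (L : Subgroup H) (hL : L.IsSubnormal) : L ⊓ Subgroup.centralizer ((Cfsg.omegaOne p ((T : Subgroup H) ⊓ Subgroup.centralizer ((T : Subgroup H) : Set H))) : Set H) = L ⊓ Subgroup.centralizer ((Cfsg.omegaOne p (((T : Subgroup H) ⊓ L) ⊓ Subgroup.centralizer ((((T : Subgroup H) ⊓ L) : Subgroup H) : Set H))) : Set H) := by
  rw [omegaOne_center_eq, omegaOne_center_eq]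
  have hTop : ChP p (⊤ : Subgroup H) :=
    (charP_iff p ⊤).mp (charType_of_mulEquiv p Subgroup.topEquiv.symm hH)
  have key : ∀ K : Subgroup H, K.IsSubnormal →
      K ⊓ centralizer (omegaCenter p (T : Subgroup H) : Set H) =
        K ⊓ centralizer (omegaCenter p ((T : Subgroup H) ⊓ K) : Set H) := by
    intro K hK
    induction hK with
    | top => rw [inf_top_eq]
    | step L K hLK hKs hN ih =>
      have hn : K ≤ normalizer (L : Set H) := (normal_subgroupOf_iff_le_normalizer hLK).mp hN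
      have hS : IsSylIn p ((T : Subgroup H) ⊓ K) K := isSylIn_inf_of_subnormal T hKs
      have hKc : ChP p K := by
        have := chP_inf_of_subnormal hTop hKs
        rwa [inf_top_eq] at this
      have h1 := step hS hKc hLK hn
      have h2 : (T : Subgroup H) ⊓ K ⊓ L = (T : Subgroup H) ⊓ L := by
        rw [inf_assoc, inf_eq_right.mpr hLK]
      rw [h2] at h1
      rw [← h1]
      have h3 : L ⊓ centralizer (omegaCenter p (T : Subgroup H) : Set H) =
          L ⊓ (K ⊓ centralizer (omegaCenter p (T : Subgroup H) : Set H)) := by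
        rw [← inf_assoc, inf_eq_left.mpr hLK]
      rw [h3, ih, ← inf_assoc, inf_eq_left.mpr hLK]
  exact key L hL

end Cfsg.Agent.S2805
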