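import Cfsg.Statements.S3028
import Cfsg.Agent.Lib.Helper62.Wielandt
import Cfsg.Agent.Lib.Helper62.MinNormal
import Cfsg.Agent.Lib.Helper62.SylowSubn
import Cfsg.Agent.Lib.Helper34.PResidual

set_option autoImplicit false
open Cfsg

namespace Cfsg.Agent.S3028

open Subgroup Cfsg.Agent.Lib.Helper62.Wielandt Cfsg.Agent.Lib.Helper62.MinNormal
  Cfsg.Agent.Lib.Helper62.SylowSubn
open scoped Pointwise

universe u

/-- `O^p(X)` as a subgroup of the ambient group. -/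
def opOf (p : ℕ) {G : Type*} [Group G] (X : Subgroup G) : Subgroup G :=
  Subgroup.closure {x : G | x ∈ X ∧ (orderOf x).Coprime p}

theorem opOf_le (p : ℕ) {G : Type*} [Group G] (X : Subgroup G) : opOf p X ≤ X :=
  (Subgroup.closure_le X).mpr (fun _ hx => hx.1)

theorem opOf_eq_map (p : ℕ) {G : Type*} [Group G] (X : Subgroup G) :
    opOf p X = (Cfsg.pResidual p ↥X).map X.subtype := by
  rw [Cfsg.pResidual, MonoidHom.map_closure]
  unfold opOf
  congr 1
  ext x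
  constructor
  · rintro ⟨hx, hco⟩
    refine ⟨⟨x, hx⟩, ?_, rfl⟩
    show (orderOf (⟨x, hx⟩ : ↥X)).Coprime p
    rw [← orderOf_injective X.subtype X.subtype_injective]
    exact hco
  · rintro ⟨y, hy, rfl⟩
    refine ⟨y.2, ?_⟩
    rw [orderOf_injective X.subtype X.subtype_injective]
    exact hy

theorem opOf_isSubnormal (p : ℕ) {G : Type*} [Group G] {X : Subgroup G} (hX : X.IsSubnormal) :
    (opOf p X).IsSubnormal := by
  rw [opOf_eq_map]
  exact IsSubnormal.trans'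
    (Cfsg.Agent.Lib.Helper34.PResidual.pResidual_normal p ↥X).isSubnormal hX

theorem opOf_idem (p : ℕ) {G : Type*} [Group G] (X : Subgroup G) :
    opOf p (opOf p X) = opOf p X := by
  apply le_antisymm (opOf_le p _)
  conv_lhs => unfold opOf
  rw [Subgroup.closure_le]
  intro x hx
  exact Subgroup.subset_closure ⟨Subgroup.subset_closure hx, hx.2⟩

theorem opOf_decomp {G : Type*} [Group G] [Finite G] {p : ℕ} (hp : p.Prime) {S X : Subgroup G}
    (hSX : ¬ p ∣ S.relIndex X) (b : G) (hb : b ∈ X) :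
    ∃ s ∈ S ⊓ X, ∃ r ∈ opOf p X, b = s * r := by
  obtain ⟨s, hs, m, hm, hbm⟩ :=
    Cfsg.Agent.Lib.Helper34.PResidual.exists_mul_of_not_dvd_index hp (S.subgroupOf X) hSX ⟨b, hb⟩
  refine ⟨s, Subgroup.mem_inf.mpr ⟨Subgroup.mem_subgroupOf.mp hs, s.2⟩, m, ?_, ?_⟩
  · rw [opOf_eq_map]; exact ⟨m, hm, rfl⟩
  · have := congrArg Subtype.val hbm
    simpa using this

/-- the statement, for a numerical Sylow subgroup -/
def Good (p : ℕ) (G : Type u) [Group G] : Prop :=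
  ∀ S : Subgroup G, IsPGroup p S → ¬ p ∣ S.index → ∀ A B : Subgroup G,
    A.IsSubnormal → B.IsSubnormal → (A ⊔ B) ⊓ S ≤ (A ⊓ S) ⊔ (B ⊓ S)

theorem lemmaA {p : ℕ} [Fact p.Prime] {G : Type u} [Group G] [Finite G]
    (ih : ∀ (G' : Type u) [Group G'] [Finite G'], Nat.card G' < Nat.card G → Good p G')
    {S : Subgroup G} (hS : IsPGroup p S) (hSi : ¬ p ∣ S.index) {A B : Subgroup G}
    (hA : A.IsSubnormal) (hB : B.IsSubnormal) (hne : A ⊔ B ≠ ⊤) :
    (A ⊔ B) ⊓ S ≤ (A ⊓ S) ⊔ (B ⊓ S) := by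
  have hJ : (A ⊔ B).IsSubnormal := sup_isSubnormal hA hB
  have hcard := card_lt_of_ne_top hne
  have key := ih ↥(A ⊔ B) hcard (S.subgroupOf (A ⊔ B)) hS.comap_subtype
    (not_dvd_relIndex_of_isSubnormal hSi hJ) (A.subgroupOf (A ⊔ B)) (B.subgroupOf (A ⊔ B))
    hA.subgroupOf hB.subgroupOf
  rw [← Subgroup.subgroupOf_sup le_sup_left le_sup_right, Subgroup.subgroupOf_self,
    top_inf_eq] at key
  intro s hs
  have h1 : (⟨s, hs.1⟩ : ↥(A ⊔ B)) ∈ S.subgroupOf (A ⊔ B) := Subgroup.mem_subgroupOf.mpr hs.2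
  have h2 := key h1
  have h3 : s ∈ ((A.subgroupOf (A ⊔ B) ⊓ S.subgroupOf (A ⊔ B))
      ⊔ (B.subgroupOf (A ⊔ B) ⊓ S.subgroupOf (A ⊔ B))).map (A ⊔ B).subtype :=
    ⟨_, h2, rfl⟩
  rw [Subgroup.map_sup] at h3
  have hle : Subgroup.map (A ⊔ B).subtype (A.subgroupOf (A ⊔ B) ⊓ S.subgroupOf (A ⊔ B))
      ⊔ Subgroup.map (A ⊔ B).subtype (B.subgroupOf (A ⊔ B) ⊓ S.subgroupOf (A ⊔ B))
      ≤ (A ⊓ S) ⊔ (B ⊓ S) := by
    apply sup_le_sup
    · rintro _ ⟨x, hx, rfl⟩
      exact Subgroup.mem_inf.mpr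
        ⟨Subgroup.mem_subgroupOf.mp hx.1, Subgroup.mem_subgroupOf.mp hx.2⟩
    · rintro _ ⟨x, hx, rfl⟩
      exact Subgroup.mem_inf.mpr
        ⟨Subgroup.mem_subgroupOf.mp hx.1, Subgroup.mem_subgroupOf.mp hx.2⟩
  exact hle h3

theorem lemmaB {p : ℕ} [Fact p.Prime] {G : Type u} [Group G] [Finite G]
    (ih : ∀ (G' : Type u) [Group G'] [Finite G'], Nat.card G' < Nat.card G → Good p G')
    {S : Subgroup G} (hS : IsPGroup p S) (hSi : ¬ p ∣ S.index) {A B : Subgroup G}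
    (hA : A.IsSubnormal) (hB : B.IsSubnormal) (N : Subgroup G) [N.Normal] (hN : N ≠ ⊥) :
    (A ⊔ B) ⊓ S ≤ ((A ⊓ S) ⊔ (B ⊓ S)) ⊔ (S ⊓ N) := by
  have hcard : Nat.card (G ⧸ N) < Nat.card G := by
    have h0 := Subgroup.card_mul_index N
    have h1 : 1 < Nat.card N := (Subgroup.one_lt_card_iff_ne_bot N).mpr hN
    have h2 : 0 < N.index := Nat.pos_of_ne_zero Subgroup.index_ne_zero_of_finite
    rw [← Subgroup.index_eq_card]
    nlinarith
  have hf : Function.Surjective (QuotientGroup.mk' N) := QuotientGroup.mk'_surjective N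
  have key := ih (G ⧸ N) hcard (S.map (QuotientGroup.mk' N)) (hS.map _)
    (fun h => hSi (h.trans (Subgroup.index_map_dvd (H := S) hf)))
    (A.map (QuotientGroup.mk' N)) (B.map (QuotientGroup.mk' N)) (hA.map hf) (hB.map hf)
  intro s hs
  have h1 : QuotientGroup.mk' N s ∈ (A.map (QuotientGroup.mk' N) ⊔ B.map (QuotientGroup.mk' N))
      ⊓ S.map (QuotientGroup.mk' N) := by
    rw [← Subgroup.map_sup]
    exact Subgroup.mem_inf.mpr ⟨Subgroup.mem_map_of_mem _ hs.1, Subgroup.mem_map_of_mem _ hs.2⟩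
  have h2 := key h1
  have h3 : (A.map (QuotientGroup.mk' N) ⊓ S.map (QuotientGroup.mk' N))
      ⊔ (B.map (QuotientGroup.mk' N) ⊓ S.map (QuotientGroup.mk' N))
      ≤ ((A ⊓ S) ⊔ (B ⊓ S)).map (QuotientGroup.mk' N) := by
    rw [Subgroup.map_sup]
    apply sup_le_sup
    · rw [inf_comm, inf_comm A S]
      exact map_inf_map_le _ hS (not_dvd_relIndex_of_isSubnormal hSi hA)
    · rw [inf_comm, inf_comm B S]
      exact map_inf_map_le _ hS (not_dvd_relIndex_of_isSubnormal hSi hB)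
  have h4 := mem_sup_ker_of_map_mem (QuotientGroup.mk' N)
    (sup_le inf_le_right inf_le_right : (A ⊓ S) ⊔ (B ⊓ S) ≤ S) hs.2 (h3 h2)
  rwa [QuotientGroup.ker_mk'] at h4

theorem conjSup_props {G : Type*} [Group G] [Finite G] {A B N : Subgroup G} (hN : N.Normal)
    (hAN : A ≤ N) (hne : A ⊔ B = ⊤) :
    A ≤ (⨆ b : B, MulAut.conj (b : G) • A) ∧ (⨆ b : B, MulAut.conj (b : G) • A) ≤ N
      ∧ (⨆ b : B, MulAut.conj (b : G) • A).Normal := by
  have hAM : A ≤ (⨆ b : B, MulAut.conj (b : G) • A) := by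
    have := le_iSup (fun b : B => MulAut.conj (b : G) • A) 1
    simpa using this
  refine ⟨hAM, ?_, ?_⟩
  · apply iSup_le
    intro b y hy
    obtain ⟨a, ha, rfl⟩ := (Subgroup.mem_smul_pointwise_iff_exists _ _ _).mp hy
    rw [MulAut.smul_def, MulAut.conj_apply]
    exact hN.conj_mem a (hAN ha) b
  · rw [← Subgroup.normalizer_eq_top_iff, ← top_le_iff, ← hne]
    apply sup_le
    · exact hAM.trans Subgroup.le_normalizer
    · intro b hb
      apply mem_normalizer_of_forall_conj_mem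
      have hle : (⨆ b : B, MulAut.conj (b : G) • A)
          ≤ (⨆ b : B, MulAut.conj (b : G) • A).comap (MulAut.conj b).toMonoidHom := by
        apply iSup_le
        intro b' y hy
        obtain ⟨a, ha, rfl⟩ := (Subgroup.mem_smul_pointwise_iff_exists _ _ _).mp hy
        rw [Subgroup.mem_comap]
        have e : (MulAut.conj b).toMonoidHom (MulAut.conj (b' : G) • a)
            = MulAut.conj ((⟨b, hb⟩ * b' : B) : G) • a := by
          simp [MulAut.smul_def, MulAut.conj_apply, mul_assoc]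
        rw [e]
        exact Subgroup.mem_iSup_of_mem (⟨b, hb⟩ * b') (Subgroup.smul_mem_pointwise_smul _ _ _ ha)
      intro c hc
      have := hle hc
      rw [Subgroup.mem_comap] at this
      simpa [MulAut.conj_apply] using this

theorem step1 {p : ℕ} [Fact p.Prime] {G : Type u} [Group G] [Finite G]
    (ih : ∀ (G' : Type u) [Group G'] [Finite G'], Nat.card G' < Nat.card G → Good p G')
    {S : Subgroup G} (hS : IsPGroup p S) (hSi : ¬ p ∣ S.index) {A B : Subgroup G}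
    (hA : A.IsSubnormal) (hB : B.IsSubnormal)
    (h1 : (A ⊔ opOf p B) ⊓ S ≤ (A ⊓ S) ⊔ (opOf p B ⊓ S)) :
    (A ⊔ B) ⊓ S ≤ (A ⊓ S) ⊔ (B ⊓ S) := by
  have hp : p.Prime := Fact.out
  by_cases hne : A ⊔ B = ⊤
  swap
  · exact lemmaA ih hS hSi hA hB hne
  by_cases hAtop : A = ⊤
  · subst hAtop
    rw [top_inf_eq]
    exact inf_le_right.trans le_sup_left
  have h1' : (A ⊔ opOf p B) ⊓ S ≤ (A ⊓ S) ⊔ (B ⊓ S) :=
    h1.trans (sup_le_sup le_rfl (inf_le_inf_right S (opOf_le p B)))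
  obtain ⟨T, hT⟩ : ∃ T : Subgroup G, T = (A ⊓ S) ⊔ (B ⊓ S) := ⟨_, rfl⟩
  rw [← hT] at h1' ⊢
  have hBT : B ⊓ S ≤ T := hT ▸ le_sup_right
  obtain ⟨N, hNn, hAN, hNlt⟩ := hA.exists_normal_and_le_and_lt_top_of_ne hAtop
  obtain ⟨hAM, hMN, hMnormal⟩ := conjSup_props (B := B) hNn hAN hne
  have hfam : ∀ b : B, MulAut.conj (b : G) • A ≤ (⨆ b : B, MulAut.conj (b : G) • A) :=
    fun b => le_iSup (fun b : B => MulAut.conj (b : G) • A) b
  have hMle : ∀ L : Subgroup G, (∀ b : B, MulAut.conj (b : G) • A ≤ L) →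
      (⨆ b : B, MulAut.conj (b : G) • A) ≤ L := fun L h => iSup_le h
  generalize (⨆ b : B, MulAut.conj (b : G) • A) = M at hAM hMN hMnormal hfam hMle
  have hMne : M ≠ ⊤ := fun h => hNlt.ne (top_le_iff.mp (h ▸ hMN))
  have hMB : M ⊔ B = ⊤ := top_le_iff.mp (hne ▸ sup_le_sup_right hAM B)
  have h2 : S ≤ (M ⊓ S) ⊔ (B ⊓ S) := by
    have := normal_sup_inf_le hS M B (not_dvd_relIndex_of_isSubnormal hSi hB)
    rwa [hMB, top_inf_eq] at this
  have h3 : M ⊓ S ≤ T := by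
    obtain ⟨L, hL⟩ := exists_maximal_of_wellFoundedGT
      (fun L : Subgroup G => L.IsSubnormal ∧ L ≤ M ∧ L ⊓ S ≤ T)
      ⟨⊥, IsSubnormal.bot, bot_le, by simp⟩
    have hML : M ≤ L := by
      apply hMle
      intro b
      have hXsn : (MulAut.conj (b : G) • A).IsSubnormal := hA.smul _
      have hXM : MulAut.conj (b : G) • A ≤ M := hfam b
      have hXT : MulAut.conj (b : G) • A ⊓ S ≤ T := by
        obtain ⟨s, hs, r, hr, hbsr⟩ :=
          opOf_decomp hp (not_dvd_relIndex_of_isSubnormal hSi hB) b.1 b.2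
        have hsS : s ∈ S := (Subgroup.mem_inf.mp hs).1
        have hsT : s ∈ T := hBT (Subgroup.mem_inf.mpr ⟨(Subgroup.mem_inf.mp hs).2, hsS⟩)
        intro y hy
        obtain ⟨hy1, hy2⟩ := Subgroup.mem_inf.mp hy
        obtain ⟨a, ha, rfl⟩ := (Subgroup.mem_smul_pointwise_iff_exists _ _ _).mp hy1
        rw [MulAut.smul_def, MulAut.conj_apply] at hy2 ⊢
        have hmid : r * a * r⁻¹ ∈ (A ⊔ opOf p B) ⊓ S := by
          refine Subgroup.mem_inf.mpr ⟨?_, ?_⟩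
          · have hr' : r ∈ A ⊔ opOf p B := le_sup_right (a := A) hr
            exact mul_mem (mul_mem hr' (le_sup_left (b := opOf p B) ha)) (inv_mem hr')
          · have e : r * a * r⁻¹ = s⁻¹ * ((b : G) * a * (b : G)⁻¹) * s := by
              rw [hbsr]; group
            rw [e]
            exact mul_mem (mul_mem (inv_mem hsS) hy2) hsS
        have e : (b : G) * a * (b : G)⁻¹ = s * (r * a * r⁻¹) * s⁻¹ := by
          rw [hbsr]; group
        rw [e]
        exact mul_mem (mul_mem hsT (h1' hmid)) (inv_mem hsT)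
      have hLX : (L ⊔ MulAut.conj (b : G) • A).IsSubnormal ∧ L ⊔ MulAut.conj (b : G) • A ≤ M
          ∧ (L ⊔ MulAut.conj (b : G) • A) ⊓ S ≤ T := by
        refine ⟨sup_isSubnormal hL.prop.1 hXsn, sup_le hL.prop.2.1 hXM, ?_⟩
        have hne' : L ⊔ MulAut.conj (b : G) • A ≠ ⊤ :=
          fun h => hMne (top_le_iff.mp (h ▸ sup_le hL.prop.2.1 hXM))
        exact (lemmaA ih hS hSi hL.prop.1 hXsn hne').trans (sup_le hL.prop.2.2 hXT)
      exact le_sup_right.trans (hL.le_of_ge hLX le_sup_left)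
    exact (inf_le_inf_right S hML).trans hL.prop.2.2
  rw [hne, top_inf_eq]
  exact h2.trans (sup_le h3 hBT)

theorem comm_central {G : Type*} [Group G] (t₁ t₂ m₁ m₂ : G) (c1 : ∀ g, m₁ * g = g * m₁)
    (c2 : ∀ g, m₂ * g = g * m₂) :
    (t₁ * m₁) * (t₂ * m₂) * (t₁ * m₁)⁻¹ * (t₂ * m₂)⁻¹ = t₁ * t₂ * t₁⁻¹ * t₂⁻¹ := by
  calc (t₁ * m₁) * (t₂ * m₂) * (t₁ * m₁)⁻¹ * (t₂ * m₂)⁻¹
      = t₁ * (m₁ * (t₂ * m₂)) * m₁⁻¹ * t₁⁻¹ * m₂⁻¹ * t₂⁻¹ := by group
    _ = t₁ * ((t₂ * m₂) * m₁) * m₁⁻¹ * t₁⁻¹ * m₂⁻¹ * t₂⁻¹ := by rw [c1 (t₂ * m₂)]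
    _ = t₁ * t₂ * (m₂ * t₁⁻¹) * m₂⁻¹ * t₂⁻¹ := by group
    _ = t₁ * t₂ * (t₁⁻¹ * m₂) * m₂⁻¹ * t₂⁻¹ := by rw [c2 t₁⁻¹]
    _ = t₁ * t₂ * t₁⁻¹ * t₂⁻¹ := by group

/-- a normal subgroup meeting `A` trivially and normalizing `A` centralizes `A` -/
theorem comm_of_inf_eq_bot {G : Type*} [Group G] {M A : Subgroup G} (hMn : M.Normal)
    (hMA : M ≤ Subgroup.normalizer (A : Set G)) (h0 : M ⊓ A = ⊥) {m a : G} (hm : m ∈ M)
    (ha : a ∈ A) : m * a = a * m := by
  have h1 : m * a * m⁻¹ * a⁻¹ ∈ M ⊓ A := by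
    refine Subgroup.mem_inf.mpr ⟨?_, ?_⟩
    · have e : m * a * m⁻¹ * a⁻¹ = m * (a * m⁻¹ * a⁻¹) := by group
      rw [e]
      exact mul_mem hm (hMn.conj_mem _ (inv_mem hm) a)
    · exact mul_mem ((Subgroup.mem_normalizer_iff.mp (hMA hm) a).mp ha) (inv_mem ha)
  rw [h0, Subgroup.mem_bot] at h1
  exact mul_inv_eq_iff_eq_mul.mp (mul_inv_eq_one.mp h1)

/-- normality of `(M ⊓ A) ⊔ (M ⊓ B)` under `A` -/
theorem conj_mem_D {G : Type*} [Group G] {M A B : Subgroup G} (hMn : M.Normal)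
    (hMA : M ≤ Subgroup.normalizer (A : Set G)) {a : G} (ha : a ∈ A) :
    ∀ c ∈ (M ⊓ A) ⊔ (M ⊓ B), a * c * a⁻¹ ∈ (M ⊓ A) ⊔ (M ⊓ B) := by
  have hle : (M ⊓ A) ⊔ (M ⊓ B) ≤ ((M ⊓ A) ⊔ (M ⊓ B)).comap (MulAut.conj a).toMonoidHom := by
    apply sup_le
    · intro x hx
      obtain ⟨hx1, hx2⟩ := Subgroup.mem_inf.mp hx
      rw [Subgroup.mem_comap]
      show MulAut.conj a x ∈ (M ⊓ A) ⊔ (M ⊓ B)
      rw [MulAut.conj_apply]
      exact le_sup_left (b := M ⊓ B) (Subgroup.mem_inf.mpr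
        ⟨hMn.conj_mem x hx1 a, mul_mem (mul_mem ha hx2) (inv_mem ha)⟩)
    · intro x hx
      obtain ⟨hx1, hx2⟩ := Subgroup.mem_inf.mp hx
      rw [Subgroup.mem_comap]
      show MulAut.conj a x ∈ (M ⊓ A) ⊔ (M ⊓ B)
      rw [MulAut.conj_apply]
      have e : a * x * a⁻¹ = (a * (x * a⁻¹ * x⁻¹)) * x := by group
      rw [e]
      have hxa : x * a⁻¹ * x⁻¹ ∈ A :=
        (Subgroup.mem_normalizer_iff.mp (hMA hx1) a⁻¹).mp (inv_mem ha)
      have hxm : a * (x * a⁻¹ * x⁻¹) ∈ M := by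
        have e' : a * (x * a⁻¹ * x⁻¹) = (a * x * a⁻¹) * x⁻¹ := by group
        rw [e']
        exact mul_mem (hMn.conj_mem x hx1 a) (inv_mem hx1)
      exact mul_mem (le_sup_left (b := M ⊓ B) (Subgroup.mem_inf.mpr ⟨hxm, mul_mem ha hxa⟩))
        (le_sup_right (a := M ⊓ A) hx)
  intro c hc
  have := hle hc
  rw [Subgroup.mem_comap] at this
  simpa [MulAut.conj_apply] using this

theorem step2 {p : ℕ} [Fact p.Prime] {G : Type u} [Group G] [Finite G]
    (ih : ∀ (G' : Type u) [Group G'] [Finite G'], Nat.card G' < Nat.card G → Good p G')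
    {S : Subgroup G} (hS : IsPGroup p S) (hSi : ¬ p ∣ S.index) {A B : Subgroup G}
    (hA : A.IsSubnormal) (hB : B.IsSubnormal) (hAg : opOf p A = A) (hBg : opOf p B = B) :
    (A ⊔ B) ⊓ S ≤ (A ⊓ S) ⊔ (B ⊓ S) := by
  have hp : p.Prime := Fact.out
  by_cases hne : A ⊔ B = ⊤
  swap
  · exact lemmaA ih hS hSi hA hB hne
  by_cases htriv : (⊤ : Subgroup G) = ⊥
  · intro s _
    have hs1 : s ∈ (⊥ : Subgroup G) := htriv ▸ Subgroup.mem_top s
    rw [Subgroup.mem_bot] at hs1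
    rw [hs1]; exact one_mem _
  obtain ⟨M, hM⟩ := exists_minimal_of_wellFoundedLT
    (fun L : Subgroup G => L.Normal ∧ L ≠ ⊥) ⟨⊤, Subgroup.normal_top, htriv⟩
  have hMn : M.Normal := hM.prop.1
  have hMmin : ∀ N : Subgroup G, N.Normal → N ≤ M → N = ⊥ ∨ N = M := by
    intro N hNn hNle
    by_cases hb : N = ⊥
    · exact Or.inl hb
    · exact Or.inr (le_antisymm hNle (hM.le_of_le ⟨hNn, hb⟩ hNle))
  have hSle : S ≤ ((A ⊓ S) ⊔ (B ⊓ S)) ⊔ (S ⊓ M) := by
    have := lemmaB ih hS hSi hA hB M hM.prop.2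
    rwa [hne, top_inf_eq] at this
  suffices hSM : S ⊓ M ≤ (A ⊓ S) ⊔ (B ⊓ S) by
    rw [hne, top_inf_eq]
    exact hSle.trans (sup_le le_rfl hSM)
  have hMA : M ≤ Subgroup.normalizer (A : Set G) := minNormal_le_normalizer hMn hMmin hA
  have hMB : M ≤ Subgroup.normalizer (B : Set G) := minNormal_le_normalizer hMn hMmin hB
  have hDM : (M ⊓ A) ⊔ (M ⊓ B) ≤ M := sup_le inf_le_left inf_le_left
  have hDn : ((M ⊓ A) ⊔ (M ⊓ B)).Normal := by
    rw [← Subgroup.normalizer_eq_top_iff, ← top_le_iff, ← hne]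
    apply sup_le
    · intro a ha
      exact mem_normalizer_of_forall_conj_mem (conj_mem_D hMn hMA ha)
    · intro b hb
      have := conj_mem_D (B := A) hMn hMB hb
      rw [sup_comm] at this
      exact mem_normalizer_of_forall_conj_mem this
  rcases hMmin _ hDn hDM with hDbot | hDeq
  · -- central case
    have hMA0 : M ⊓ A = ⊥ := le_bot_iff.mp (hDbot ▸ le_sup_left)
    have hMB0 : M ⊓ B = ⊥ := le_bot_iff.mp (hDbot ▸ le_sup_right)
    have hcomm : ∀ m ∈ M, ∀ g : G, m * g = g * m := by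
      intro m hm
      have hA' : A ≤ Subgroup.centralizer {m} := by
        intro a ha
        rw [Subgroup.mem_centralizer_iff]
        intro h hh
        obtain rfl := Set.mem_singleton_iff.mp hh
        exact comm_of_inf_eq_bot hMn hMA hMA0 hm ha
      have hB' : B ≤ Subgroup.centralizer {m} := by
        intro a ha
        rw [Subgroup.mem_centralizer_iff]
        intro h hh
        obtain rfl := Set.mem_singleton_iff.mp hh
        exact comm_of_inf_eq_bot hMn hMB hMB0 hm ha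
      have htop : Subgroup.centralizer {m} = ⊤ := top_le_iff.mp (hne ▸ sup_le hA' hB')
      intro g
      have hg : g ∈ Subgroup.centralizer {m} := htop ▸ Subgroup.mem_top g
      exact Subgroup.mem_centralizer_iff.mp hg m rfl
    obtain ⟨T, hT⟩ : ∃ T : Subgroup G, T = (A ⊓ S) ⊔ (B ⊓ S) := ⟨_, rfl⟩
    rw [← hT] at hSle ⊢
    have hTS : T ≤ S := hT ▸ sup_le inf_le_right inf_le_right
    by_contra hcon
    obtain ⟨z, hz, hzT⟩ := SetLike.not_le_iff_exists.mp hcon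
    obtain ⟨hzS, hzM⟩ := Subgroup.mem_inf.mp hz
    have hzc : ∀ g : G, z * g = g * z := hcomm z hzM
    have hdec : ∀ s ∈ S, ∃ t ∈ T, ∃ m ∈ M, s = t * m := by
      intro s hs
      have hle' : T ⊔ (S ⊓ M) ≤ T ⊔ M := sup_le_sup le_rfl inf_le_right
      have hs' : s ∈ T ⊔ M := hle' (hSle hs)
      have hs'' : s ∈ ((T ⊔ M : Subgroup G) : Set G) := hs'
      rw [Subgroup.mul_normal] at hs''
      obtain ⟨t, ht, m, hm, rfl⟩ := Set.mem_mul.mp hs''
      exact ⟨t, ht, m, hm, rfl⟩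
    have hcomT : ∀ s₁ ∈ S, ∀ s₂ ∈ S, s₁ * s₂ * s₁⁻¹ * s₂⁻¹ ∈ T := by
      intro s₁ hs₁ s₂ hs₂
      obtain ⟨t₁, ht₁, m₁, hm₁, rfl⟩ := hdec s₁ hs₁
      obtain ⟨t₂, ht₂, m₂, hm₂, rfl⟩ := hdec s₂ hs₂
      rw [comm_central t₁ t₂ m₁ m₂ (hcomm m₁ hm₁) (hcomm m₂ hm₂)]
      exact mul_mem (mul_mem (mul_mem ht₁ ht₂) (inv_mem ht₁)) (inv_mem ht₂)
    have hcomm_le : commutator ↥S ≤ T.subgroupOf S := by
      rw [_root_.commutator_def, Subgroup.commutator_le]
      intro s₁ _ s₂ _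
      rw [Subgroup.mem_subgroupOf]
      have := hcomT s₁ s₁.2 s₂ s₂.2
      simpa [commutatorElement_def] using this
    have hkey : ∀ (k : ℕ) (g₀ : G), g₀⁻¹ * z ^ k * g₀ ∈ S → g₀⁻¹ * z ^ k * g₀ = z ^ k := by
      intro k g₀ _
      have e : z ^ k * g₀ = g₀ * z ^ k := Commute.pow_left (hzc g₀) k
      rw [mul_assoc, e, ← mul_assoc, inv_mul_cancel, one_mul]
    have htr := MonoidHom.transfer_eq_pow (Abelianization.of : ↥S →* Abelianization ↥S) z hkey
    have hpg : IsPGroup p (Abelianization ↥S) := hS.to_quotient (commutator ↥S)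
    have hkill : ∀ g : G, (orderOf g).Coprime p →
        MonoidHom.transfer (Abelianization.of : ↥S →* Abelianization ↥S) g = 1 := by
      intro g hg
      obtain ⟨k, hk⟩ := hpg (MonoidHom.transfer (Abelianization.of : ↥S →* Abelianization ↥S) g)
      have d1 := orderOf_dvd_of_pow_eq_one hk
      have d2 := orderOf_map_dvd
        (MonoidHom.transfer (Abelianization.of : ↥S →* Abelianization ↥S)) g
      exact orderOf_eq_one_iff.mp (Nat.eq_one_of_dvd_coprimes (Nat.Coprime.pow_right k hg) d2 d1)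
    have hle : A ⊔ B
        ≤ (MonoidHom.transfer (Abelianization.of : ↥S →* Abelianization ↥S)).ker := by
      apply sup_le
      · rw [← hAg]
        unfold opOf
        rw [Subgroup.closure_le]
        intro x hx
        exact MonoidHom.mem_ker.mpr (hkill x hx.2)
      · rw [← hBg]
        unfold opOf
        rw [Subgroup.closure_le]
        intro x hx
        exact MonoidHom.mem_ker.mpr (hkill x hx.2)
    have hz1 : MonoidHom.transfer (Abelianization.of : ↥S →* Abelianization ↥S) z = 1 :=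
      MonoidHom.mem_ker.mp (hle (hne ▸ Subgroup.mem_top z))
    rw [htr] at hz1
    have hz2 := (Abelianization.ker_of ↥S) ▸ (MonoidHom.mem_ker.mpr hz1)
    have hz3 : z ^ (S.index) ∈ T := Subgroup.mem_subgroupOf.mp (hcomm_le hz2)
    apply hzT
    obtain ⟨k, hk⟩ := hS ⟨z, hzS⟩
    have hk' : z ^ p ^ k = 1 := by
      have := congrArg Subtype.val hk
      simpa using this
    have hcop : (S.index).Coprime (orderOf z) := by
      have d1 : orderOf z ∣ p ^ k := orderOf_dvd_of_pow_eq_one hk'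
      have d2 : (S.index).Coprime (p ^ k) :=
        Nat.Coprime.pow_right k ((Nat.Prime.coprime_iff_not_dvd hp).mpr hSi).symm
      exact Nat.Coprime.coprime_dvd_right d1 d2
    obtain ⟨m, hm⟩ := exists_pow_eq_self_of_coprime hcop
    rw [← hm]
    exact pow_mem hz3 m
  · -- D = M
    by_cases hMtop : M = ⊤
    · have hAn : A.Normal := Subgroup.normalizer_eq_top_iff.mp (top_le_iff.mp (hMtop ▸ hMA))
      have := normal_sup_inf_le hS A B (not_dvd_relIndex_of_isSubnormal hSi hB)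
      rw [hne, top_inf_eq] at this
      exact inf_le_left.trans this
    · have h1 := lemmaA ih hS hSi (hMn.isSubnormal.inf hA) (hMn.isSubnormal.inf hB)
        (by rw [hDeq]; exact hMtop)
      rw [hDeq] at h1
      rw [inf_comm S M]
      exact h1.trans (sup_le_sup (inf_le_inf_right S inf_le_right)
        (inf_le_inf_right S inf_le_right))

theorem good_aux {p : ℕ} [Fact p.Prime] (n : ℕ) :
    ∀ (G : Type u) [Group G] [Finite G], Nat.card G ≤ n → Good p G := by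
  induction n with
  | zero =>
    intro G _ _ h
    have := Nat.card_pos (α := G)
    omega
  | succ n ih =>
    intro G _ _ hcard
    have ih' : ∀ (G' : Type u) [Group G'] [Finite G'], Nat.card G' < Nat.card G → Good p G' :=
      fun G' _ _ h => ih G' (by omega)
    intro S hS hSi A B hA hB
    have hA1 : (opOf p A).IsSubnormal := opOf_isSubnormal p hA
    have hB1 : (opOf p B).IsSubnormal := opOf_isSubnormal p hB
    have h0 := step2 ih' hS hSi hA1 hB1 (opOf_idem p A) (opOf_idem p B)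
    have h1 := step1 ih' hS hSi hA1 hB h0
    have h1' : (B ⊔ opOf p A) ⊓ S ≤ (B ⊓ S) ⊔ (opOf p A ⊓ S) := by
      rw [sup_comm B, sup_comm (B ⊓ S)]; exact h1
    have h2 := step1 ih' hS hSi hB hA h1'
    rw [sup_comm A, sup_comm (A ⊓ S)]; exact h2

/-- Let G be a finite group, p a prime, S a Sylow p-subgroup of G and A₁, A₂ subnormal subgroups of G. Then the join of S ∩ A₁ and S ∩ A₂ is a Sylow p-subgroup of the join of A₁ and A₂; equivalently ⟨A₁, A₂⟩ ∩ S = ⟨A₁ ∩ S, A₂ ∩ S⟩. -/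
theorem result {G : Type*} [Group G] [Finite G] {p : ℕ} [Fact p.Prime] (S : Sylow p G) (A₁ A₂ : Subgroup G)
    (h₁ : A₁.IsSubnormal) (h₂ : A₂.IsSubnormal) :
    (A₁ ⊔ A₂) ⊓ (S : Subgroup G) = (A₁ ⊓ (S : Subgroup G)) ⊔ (A₂ ⊓ (S : Subgroup G)) := by
  apply le_antisymm
  · exact good_aux (Nat.card G) G le_rfl (S : Subgroup G) S.isPGroup' S.not_dvd_index A₁ A₂ h₁ h₂
  · exact sup_le (inf_le_inf_right _ le_sup_left) (inf_le_inf_right _ le_sup_right)

end Cfsg.Agent.S3028
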