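import Cfsg.Statements.S2806
-- import your own Cfsg.Agent.* helpers here
import Cfsg.Agent.S2805
import Cfsg.Agent.S3028
import Mathlib

set_option autoImplicit false
open Cfsg

namespace Cfsg.Agent.S2806

open Subgroup Cfsg.Agent.Lib.Helper48.CharP Cfsg.Agent.Lib.Helper33.Conj
  Cfsg.Agent.Lib.Helper48.CharPSub Cfsg.Agent.Lib.Helper97.PReduced2

variable {H : Type*} [Group H] [Finite H] {p : ℕ} [Fact p.Prime]

omit [Finite H] [Fact p.Prime] in
theorem omegaCenter_le (S : Subgroup H) : omegaCenter p S ≤ S := fun _ hz => hz.1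

/-- `Ω₁Z(S)` is nontrivial for a nontrivial `p`-subgroup `S`. -/
theorem omegaCenter_ne_bot {S : Subgroup H} (hS : IsPGroup p S) (hne : S ≠ ⊥) :
    omegaCenter p S ≠ ⊥ := by
  have : Nontrivial ↥S := (Subgroup.nontrivial_iff_ne_bot S).mpr hne
  have : Nontrivial ↥(Subgroup.center ↥S) := hS.center_nontrivial
  have hzS : IsPGroup p ↥(Subgroup.center ↥S) := hS.to_subgroup _
  obtain ⟨n, hn⟩ := IsPGroup.iff_card.mp hzS
  have hn0 : n ≠ 0 := by
    rintro rfl
    rw [pow_zero] at hn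
    have := Finite.one_lt_card (α := ↥(Subgroup.center ↥S))
    omega
  have hdvd : p ∣ Nat.card ↥(Subgroup.center ↥S) := by rw [hn]; exact dvd_pow_self p hn0
  obtain ⟨w, hw⟩ := exists_prime_orderOf_dvd_card' p hdvd
  intro hbot
  have hmem : (((w : ↥S) : H)) ∈ omegaCenter p S := by
    refine ⟨(w : ↥S).2, ?_, ?_⟩
    · rw [mem_centralizer_iff]
      intro s hs
      have h1 := Subgroup.mem_center_iff.mp w.2 ⟨s, hs⟩
      exact congrArg Subtype.val h1
    · have h1 : w ^ p = 1 := by rw [← hw]; exact pow_orderOf_eq_one w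
      have h2 := congrArg (fun z : ↥(Subgroup.center ↥S) => ((z : ↥S) : H)) h1
      simpa using h2
  rw [hbot, mem_bot] at hmem
  have hw1 : w = 1 := by
    apply Subtype.ext
    apply Subtype.ext
    simpa using hmem
  rw [hw1, orderOf_one] at hw
  exact (Fact.out : p.Prime).one_lt.ne hw

/-- The normal step of Kieler's lemma for a subgroup `K` whose `p`-local subgroups have
characteristic `p`. -/
theorem step_local {K L S : Subgroup H} (hS : IsSylIn p S K)
    (hloc : ∀ R : Subgroup H, IsPGroup p R → R ≠ ⊥ → ChP p (K ⊓ normalizer (R : Set H)))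
    (hLK : L ≤ K) (hn : K ≤ normalizer (L : Set H)) (hne : S ⊓ L ≠ ⊥) :
    L ⊓ centralizer (omegaCenter p S : Set H) =
      L ⊓ centralizer (omegaCenter p (S ⊓ L) : Set H) := by
  have hSne : S ≠ ⊥ := fun h => hne (by rw [h, bot_inf_eq])
  have hSLp : IsPGroup p (S ⊓ L : Subgroup H) := hS.2.1.to_le inf_le_left
  have sub : ∀ Z : Subgroup H, IsPGroup p Z → Z ≠ ⊥ → S ≤ normalizer (Z : Set H) →
      (L ⊓ normalizer (Z : Set H)) ⊓ centralizer (omegaCenter p S : Set H) =
        (L ⊓ normalizer (Z : Set H)) ⊓ centralizer (omegaCenter p (S ⊓ L) : Set H) := by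
    intro Z hZp hZne hSZ
    have hK₁ : ChP p (K ⊓ normalizer (Z : Set H)) := hloc Z hZp hZne
    have hS₁ : IsSylIn p S (K ⊓ normalizer (Z : Set H)) := by
      refine ⟨le_inf hS.1 hSZ, hS.2.1, fun hd => hS.2.2 ?_⟩
      rw [← Subgroup.relIndex_mul_relIndex S (K ⊓ normalizer (Z : Set H)) K
        (le_inf hS.1 hSZ) inf_le_left]
      exact Dvd.dvd.mul_right hd _
    have hL₁ : L ⊓ normalizer (Z : Set H) ≤ K ⊓ normalizer (Z : Set H) :=
      inf_le_inf_right _ hLK
    have hn₁ : K ⊓ normalizer (Z : Set H) ≤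
        normalizer ((L ⊓ normalizer (Z : Set H) : Subgroup H) : Set H) := by
      intro g hg
      exact mem_normalizer_inf (hn (mem_inf.mp hg).1) (le_normalizer (mem_inf.mp hg).2)
    have h := Cfsg.Agent.S2805.step hS₁ hK₁ hL₁ hn₁
    have e : S ⊓ (L ⊓ normalizer (Z : Set H)) = S ⊓ L := by
      apply le_antisymm (inf_le_inf_left _ inf_le_left)
      exact le_inf inf_le_left (le_inf inf_le_right (inf_le_left.trans hSZ))
    rw [e] at h
    exact h
  have hZ1p : IsPGroup p (omegaCenter p S) := hS.2.1.to_le (omegaCenter_le S)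
  have hZ1ne := omegaCenter_ne_bot hS.2.1 hSne
  have hSZ1 : S ≤ normalizer (omegaCenter p S : Set H) :=
    Cfsg.Agent.S2805.le_normalizer_omegaCenter le_normalizer
  have hZ2p : IsPGroup p (omegaCenter p (S ⊓ L)) := hSLp.to_le (omegaCenter_le _)
  have hZ2ne := omegaCenter_ne_bot hSLp hne
  have hSZ2 : S ≤ normalizer (omegaCenter p (S ⊓ L) : Set H) :=
    Cfsg.Agent.S2805.le_normalizer_omegaCenter
      (fun g hg => mem_normalizer_inf (le_normalizer hg) (hn (hS.1 hg)))
  apply le_antisymm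
  · intro x hx
    obtain ⟨hxL, hxC⟩ := mem_inf.mp hx
    have hxN : x ∈ normalizer (omegaCenter p S : Set H) := centralizer_le_normalizer _ hxC
    have h1 : x ∈ (L ⊓ normalizer (omegaCenter p S : Set H)) ⊓
        centralizer (omegaCenter p S : Set H) := mem_inf.mpr ⟨mem_inf.mpr ⟨hxL, hxN⟩, hxC⟩
    rw [sub _ hZ1p hZ1ne hSZ1] at h1
    exact mem_inf.mpr ⟨hxL, (mem_inf.mp h1).2⟩
  · intro x hx
    obtain ⟨hxL, hxC⟩ := mem_inf.mp hx
    have hxN : x ∈ normalizer (omegaCenter p (S ⊓ L) : Set H) :=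
      centralizer_le_normalizer _ hxC
    have h1 : x ∈ (L ⊓ normalizer (omegaCenter p (S ⊓ L) : Set H)) ⊓
        centralizer (omegaCenter p (S ⊓ L) : Set H) :=
      mem_inf.mpr ⟨mem_inf.mpr ⟨hxL, hxN⟩, hxC⟩
    rw [← sub _ hZ2p hZ2ne hSZ2] at h1
    exact mem_inf.mpr ⟨hxL, (mem_inf.mp h1).2⟩

/-- Kieler's lemma in local characteristic `p`, for subnormal subgroups of order divisible by `p`. -/
theorem kieler_local (hH : Cfsg.IsOfLocalCharacteristic p H) (T : Sylow p H) :
    ∀ K : Subgroup H, K.IsSubnormal → (T : Subgroup H) ⊓ K ≠ ⊥ →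
      K ⊓ centralizer (omegaCenter p (T : Subgroup H) : Set H) =
        K ⊓ centralizer (omegaCenter p ((T : Subgroup H) ⊓ K) : Set H) := by
  intro K hK
  induction hK with
  | top => intro _; rw [inf_top_eq]
  | step L K hLK hKs hN ih =>
    intro hne
    have hneK : (T : Subgroup H) ⊓ K ≠ ⊥ := by
      intro h
      apply hne
      rw [← le_bot_iff, ← h]
      exact inf_le_inf_left _ hLK
    have ihK := ih hneK
    have hn : K ≤ normalizer (L : Set H) := (normal_subgroupOf_iff_le_normalizer hLK).mp hN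
    have hS : IsSylIn p ((T : Subgroup H) ⊓ K) K := isSylIn_inf_of_subnormal T hKs
    have hloc : ∀ R : Subgroup H, IsPGroup p R → R ≠ ⊥ →
        ChP p (K ⊓ normalizer (R : Set H)) := by
      intro R hR hRne
      exact chP_inf_of_subnormal ((charP_iff p _).mp (hH.2 R hR hRne)) hKs
    have h2 : (T : Subgroup H) ⊓ K ⊓ L = (T : Subgroup H) ⊓ L := by
      rw [inf_assoc, inf_eq_right.mpr hLK]
    have hne' : (T : Subgroup H) ⊓ K ⊓ L ≠ ⊥ := by rw [h2]; exact hne
    have h1 := step_local hS hloc hLK hn hne'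
    rw [h2] at h1
    rw [← h1]
    have h3 : L ⊓ centralizer (omegaCenter p (T : Subgroup H) : Set H) =
        L ⊓ (K ⊓ centralizer (omegaCenter p (T : Subgroup H) : Set H)) := by
      rw [← inf_assoc, inf_eq_left.mpr hLK]
    rw [h3, ihK, ← inf_assoc, inf_eq_left.mpr hLK]

/-- A `p`-element of a subnormal subgroup meeting a Sylow `p`-subgroup trivially is trivial. -/
theorem eq_one_of_inf_eq_bot (T : Sylow p H) {X : Subgroup H} (hX : X.IsSubnormal)
    (hbot : (T : Subgroup H) ⊓ X = ⊥) {x : H} (hx : x ∈ X)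
    (hxp : ∃ k : ℕ, orderOf x = p ^ k) : x = 1 := by
  have hS : IsSylIn p ((T : Subgroup H) ⊓ X) X := isSylIn_inf_of_subnormal T hX
  have hQ : IsPGroup p (zpowers x) := by
    obtain ⟨k, hk⟩ := hxp
    exact IsPGroup.of_card (n := k) (by rw [Nat.card_zpowers, hk])
  obtain ⟨g, hg, hle⟩ := hS.exists_cj_le ((zpowers_le).mpr hx) hQ
  rw [hbot] at hle
  have h1 : MulAut.conj g x ∈ (⊥ : Subgroup H) := hle ⟨x, mem_zpowers x, rfl⟩
  rw [mem_bot] at h1
  simpa using h1

/-- Let H be a finite group of local characteristic p, T a Sylow p-subgroup, and L₁, L₂ subnormal subgroups of H generating the subgroup L. Then the point stabilizer of L with respect to T ∩ L is generated by the point stabilizers of L₁ and L₂ with respect to T ∩ L₁ and T ∩ L₂ (point stabilizer of X w.r.t. R: the subgroup generated by the p-elements of X centralizing Ω₁(Z(R))). -/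
theorem result {H : Type*} [Group H] [Finite H] {p : ℕ} [Fact p.Prime] (hH : Cfsg.IsOfLocalCharacteristic p H) (T : Sylow p H) (L₁ L₂ : Subgroup H) (h₁ : L₁.IsSubnormal) (h₂ : L₂.IsSubnormal) : Cfsg.pointStabilizer p (L₁ ⊔ L₂) ((T : Subgroup H) ⊓ (L₁ ⊔ L₂)) = Cfsg.pointStabilizer p L₁ ((T : Subgroup H) ⊓ L₁) ⊔ Cfsg.pointStabilizer p L₂ ((T : Subgroup H) ⊓ L₂) := by
  have hp : p.Prime := Fact.out
  unfold Cfsg.pointStabilizer
  rw [omegaOne_center_eq, omegaOne_center_eq, omegaOne_center_eq]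
  have hL : (L₁ ⊔ L₂).IsSubnormal := Cfsg.Agent.Lib.Helper62.Wielandt.sup_isSubnormal h₁ h₂
  have hTC : (T : Subgroup H) ≤ centralizer (omegaCenter p (T : Subgroup H) : Set H) := by
    intro t ht
    rw [mem_centralizer_iff]
    intro z hz
    exact (mem_centralizer_iff.mp hz.2.1 t ht).symm
  have kie := kieler_local hH T
  have toLoc : ∀ X : Subgroup H, X.IsSubnormal → ∀ y ∈ X,
      y ∈ centralizer (omegaCenter p (T : Subgroup H) : Set H) →
      y ∈ centralizer (omegaCenter p ((T : Subgroup H) ⊓ X) : Set H) := by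
    intro X hX y hyX hyC
    by_cases hb : (T : Subgroup H) ⊓ X = ⊥
    · rw [mem_centralizer_iff]
      intro z hz
      have hz1 : z ∈ (T : Subgroup H) ⊓ X := hz.1
      rw [hb, mem_bot] at hz1
      rw [hz1]; simp
    · have hy : y ∈ X ⊓ centralizer (omegaCenter p (T : Subgroup H) : Set H) :=
        mem_inf.mpr ⟨hyX, hyC⟩
      rw [kie X hX hb] at hy
      exact (mem_inf.mp hy).2
  have fromLoc : ∀ X : Subgroup H, X.IsSubnormal → ∀ y ∈ X, (∃ k : ℕ, orderOf y = p ^ k) →
      y ∈ centralizer (omegaCenter p ((T : Subgroup H) ⊓ X) : Set H) →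
      y ∈ centralizer (omegaCenter p (T : Subgroup H) : Set H) := by
    intro X hX y hyX hyp hyc
    by_cases hb : (T : Subgroup H) ⊓ X = ⊥
    · rw [eq_one_of_inf_eq_bot T hX hb hyX hyp]; exact Subgroup.one_mem _
    · have hy : y ∈ X ⊓ centralizer (omegaCenter p ((T : Subgroup H) ⊓ X) : Set H) :=
        mem_inf.mpr ⟨hyX, hyc⟩
      rw [← kie X hX hb] at hy
      exact (mem_inf.mp hy).2
  apply le_antisymm
  · rw [closure_le]
    rintro x ⟨hx, hxp⟩
    obtain ⟨hxL, hxc⟩ := mem_inf.mp hx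
    have hxC : x ∈ centralizer (omegaCenter p (T : Subgroup H) : Set H) :=
      fromLoc _ hL x hxL hxp hxc
    have hSC : IsSylIn p (T : Subgroup H) (centralizer (omegaCenter p (T : Subgroup H) : Set H)) :=
      isSylIn_of_sylow T hTC
    have hQ : IsPGroup p (zpowers x) := by
      obtain ⟨k, hk⟩ := hxp
      exact IsPGroup.of_card (n := k) (by rw [Nat.card_zpowers, hk])
    obtain ⟨c, hc, hle⟩ := hSC.exists_cj_le ((zpowers_le).mpr hxC) hQ
    let T' : Sylow p H := c⁻¹ • T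
    have hT' : ∀ y : H, y ∈ (T' : Subgroup H) ↔ c * y * c⁻¹ ∈ (T : Subgroup H) := by
      intro y
      show y ∈ ((c⁻¹ • T : Sylow p H) : Subgroup H) ↔ _
      rw [Sylow.coe_subgroup_smul, Subgroup.mem_pointwise_smul_iff_inv_smul_mem]
      simp [MulAut.smul_def, MulAut.conj_apply]
    have hxT' : x ∈ (T' : Subgroup H) :=
      (hT' x).mpr (hle ⟨x, mem_zpowers x, by simp [MulAut.conj_apply]⟩)
    have hmem : x ∈ (L₁ ⊔ L₂) ⊓ (T' : Subgroup H) := mem_inf.mpr ⟨hxL, hxT'⟩
    rw [Cfsg.Agent.S3028.result T' L₁ L₂ h₁ h₂] at hmem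
    have part : ∀ X : Subgroup H, X.IsSubnormal → X ⊓ (T' : Subgroup H) ≤
        closure {x : H | x ∈ X ⊓ centralizer (omegaCenter p ((T : Subgroup H) ⊓ X) : Set H) ∧
          ∃ k : ℕ, orderOf x = p ^ k} := by
      intro X hX y hy
      obtain ⟨hyX, hyT⟩ := mem_inf.mp hy
      apply Subgroup.subset_closure
      have hyC : y ∈ centralizer (omegaCenter p (T : Subgroup H) : Set H) := by
        have h1 : c * y * c⁻¹ ∈ centralizer (omegaCenter p (T : Subgroup H) : Set H) :=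
          hTC ((hT' y).mp hyT)
        have h2 : y = c⁻¹ * (c * y * c⁻¹) * c := by group
        rw [h2]
        exact Subgroup.mul_mem _ (Subgroup.mul_mem _ (Subgroup.inv_mem _ hc) h1) hc
      refine ⟨mem_inf.mpr ⟨hyX, toLoc X hX y hyX hyC⟩, ?_⟩
      obtain ⟨k, hk⟩ := T'.isPGroup' ⟨y, hyT⟩
      have hk' : y ^ p ^ k = 1 := by simpa using congrArg Subtype.val hk
      obtain ⟨m, -, hm⟩ := (Nat.dvd_prime_pow hp).mp (orderOf_dvd_of_pow_eq_one hk')
      exact ⟨m, hm⟩
    exact sup_le_sup (part L₁ h₁) (part L₂ h₂) hmem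
  · apply sup_le
    · rw [closure_le]
      rintro x ⟨hx, hxp⟩
      obtain ⟨hx1, hxc⟩ := mem_inf.mp hx
      apply Subgroup.subset_closure
      have hxC := fromLoc L₁ h₁ x hx1 hxp hxc
      have hxL : x ∈ L₁ ⊔ L₂ := (le_sup_left : L₁ ≤ L₁ ⊔ L₂) hx1
      exact ⟨mem_inf.mpr ⟨hxL, toLoc _ hL x hxL hxC⟩, hxp⟩
    · rw [closure_le]
      rintro x ⟨hx, hxp⟩
      obtain ⟨hx1, hxc⟩ := mem_inf.mp hx
      apply Subgroup.subset_closure
      have hxC := fromLoc L₂ h₂ x hx1 hxp hxc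
      have hxL : x ∈ L₁ ⊔ L₂ := (le_sup_right : L₂ ≤ L₁ ⊔ L₂) hx1
      exact ⟨mem_inf.mpr ⟨hxL, toLoc _ hL x hxL hxC⟩, hxp⟩

end Cfsg.Agent.S2806
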