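import Cfsg.Statements.S2809
import Cfsg.Agent.Lib.Helper47.Stab

set_option autoImplicit false
open Cfsg

namespace Cfsg.Agent.S2809

open scoped commutatorElement

/-- Let H be a finite group, p a prime, R a p-subgroup of H with C_H(R) ≤ R, and L a subgroup of N_H(R) acting nilpotently on R (some iterated commutator [R, L, …, L] is trivial). Then L is a p-group. -/
theorem result {H : Type*} [Group H] [Finite H] {p : ℕ} [Fact p.Prime] (R : Subgroup H) (hR : IsPGroup p ↥R) (hC : Subgroup.centralizer (R : Set H) ≤ R) (L : Subgroup H) (hL : L ≤ Subgroup.normalizer (R : Set H)) (hnil : ∃ n : ℕ, Cfsg.iterCommutator R L n = ⊥) : IsPGroup p ↥L := by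
  classical
  obtain ⟨n, hn⟩ := hnil
  -- the chain R_i
  have hle : ∀ i, Cfsg.iterCommutator R L i ≤ R := by
    intro i
    induction i with
    | zero => exact le_rfl
    | succ i ih =>
      show ⁅Cfsg.iterCommutator R L i, L⁆ ≤ R
      exact (Subgroup.commutator_mono ih le_rfl).trans
        (Subgroup.le_normalizer_iff_commutator_le_left.mp hL)
  have hnorm : ∀ i, L ≤ Subgroup.normalizer (Cfsg.iterCommutator R L i : Set H) := by
    intro i
    cases i with
    | zero => exact hL
    | succ i => exact Subgroup.normalizer_commutator_ge_right _ _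
  intro ⟨x, hx⟩
  set A : ℕ → Subgroup H := fun i => Cfsg.iterCommutator R L (n - i) with hA
  have h0 : A 0 = ⊥ := by simp [hA, hn]
  have hp : ∀ i, IsPGroup p (A i) := fun i => hR.to_le (hle _)
  have hN : ∀ i, x ∈ Subgroup.normalizer (A i : Set H) := fun i => hnorm _ hx
  have hstep : ∀ i, ∀ a ∈ A (i + 1), ⁅x, a⁆ ∈ A i := by
    intro i a ha
    simp only [hA] at ha ⊢
    by_cases hi : i < n
    · have h1 : n - i = (n - (i + 1)) + 1 := by omega
      rw [h1]
      show ⁅x, a⁆ ∈ ⁅Cfsg.iterCommutator R L (n - (i + 1)), L⁆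
      rw [← commutatorElement_inv]
      exact Subgroup.inv_mem _ (Subgroup.commutator_mem_commutator ha hx)
    · have h1 : n - i = 0 := by omega
      have h2 : n - (i + 1) = 0 := by omega
      rw [h2] at ha
      rw [h1]
      have ha' : a ∈ R := ha
      show ⁅x, a⁆ ∈ R
      have h3 : x * a * x⁻¹ ∈ R := (Subgroup.mem_normalizer_iff.mp (hL hx) a).mp ha'
      exact R.mul_mem h3 (R.inv_mem ha')
  obtain ⟨k, hk⟩ := Lib.Helper47.Stab.exists_pow_commute_of_chain x A h0 hp hN hstep n
  have hAn : A n = R := by simp [hA, Cfsg.iterCommutator]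
  rw [hAn] at hk
  have hxc : x ^ p ^ k ∈ Subgroup.centralizer (R : Set H) :=
    Subgroup.mem_centralizer_iff.mpr (fun a ha => (hk a ha).symm)
  obtain ⟨m, hm⟩ := hR ⟨x ^ p ^ k, hC hxc⟩
  refine ⟨k + m, ?_⟩
  apply Subtype.ext
  have := congrArg Subtype.val hm
  simp only [Subgroup.coe_pow, Subgroup.coe_one] at this ⊢
  rw [pow_add, pow_mul]
  exact this

end Cfsg.Agent.S2809
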