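import Cfsg.Statements.S2810
import Cfsg.Agent.Lib.Helper47.Basic
import Cfsg.Agent.Lib.Helper47.Stab

set_option autoImplicit false
open Cfsg

namespace Cfsg.Agent.S2810

open scoped commutatorElement

/-- Let H be a finite group of characteristic p and L a subgroup of H centralizing every factor of some H-invariant chain 1 = A₀ ≤ A₁ ≤ … ≤ Aₙ = O_p(H) of normal subgroups (that is, [A_{i+1}, L] ≤ Aᵢ for each i). Then L ≤ O_p(H). -/
theorem result {H : Type*} [Group H] [Finite H] {p : ℕ} [Fact p.Prime] (hchar : Subgroup.centralizer (Cfsg.pCore p H : Set H) ≤ Cfsg.pCore p H) (L : Subgroup H) (n : ℕ) (A : Fin (n + 1) → Subgroup H) (h0 : A 0 = ⊥) (hn : A (Fin.last n) = Cfsg.pCore p H) (hmono : Monotone A) (hnorm : ∀ i, (A i).Normal) (hcent : ∀ i : Fin n, ⁅A i.succ, L⁆ ≤ A i.castSucc) : L ≤ Cfsg.pCore p H := by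
  classical
  have hconj : ∀ (i : Fin (n + 1)) (g a : H), a ∈ A i → g * a * g⁻¹ ∈ A i :=
    fun i g a ha => (hnorm i).conj_mem a ha g
  -- the subgroup of all elements acting trivially on the factors
  let X : Subgroup H :=
    { carrier := {x | ∀ i : Fin n, ∀ a ∈ A i.succ, ⁅x, a⁆ ∈ A i.castSucc}
      one_mem' := by
        intro i a _
        simp
      mul_mem' := by
        intro x y hx hy i a ha
        rw [commutatorElement_mul_left_eq_conj_mul]
        exact (A i.castSucc).mul_mem (hconj _ _ _ (hy i a ha)) (hx i a ha)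
      inv_mem' := by
        intro x hx i a ha
        rw [commutatorElement_inv_left]
        have h1 : ⁅a, x⁆ ∈ A i.castSucc := by
          rw [← commutatorElement_inv]; exact (A i.castSucc).inv_mem (hx i a ha)
        have := hconj i.castSucc x⁻¹ _ h1
        simpa using this }
  have hXmem : ∀ x, x ∈ X ↔ ∀ i : Fin n, ∀ a ∈ A i.succ, ⁅x, a⁆ ∈ A i.castSucc := fun x => Iff.rfl
  have hXn : X.Normal := by
    refine ⟨fun x hx g => ?_⟩
    rw [hXmem] at hx ⊢
    intro i a ha
    have h1 : g⁻¹ * a * g ∈ A i.succ := by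
      have := hconj i.succ g⁻¹ a ha
      simpa using this
    have h2 := hx i _ h1
    have h3 := hconj i.castSucc g _ h2
    rw [conjugate_commutatorElement] at h3
    have h4 : g * (g⁻¹ * a * g) * g⁻¹ = a := by group
    rw [h4] at h3
    exact h3
  have hLX : L ≤ X := by
    intro l hl
    rw [hXmem]
    intro i a ha
    rw [← commutatorElement_inv]
    exact (A i.castSucc).inv_mem (hcent i (Subgroup.commutator_mem_commutator ha hl))
  have hXp : IsPGroup p X := by
    intro ⟨x, hx⟩
    rw [hXmem] at hx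
    obtain ⟨A', hA'⟩ : ∃ A' : ℕ → Subgroup H, ∀ i, A' i = if h : i < n + 1 then A ⟨i, h⟩ else ⊥ :=
      ⟨fun i => if h : i < n + 1 then A ⟨i, h⟩ else ⊥, fun i => rfl⟩
    have hA0 : A' 0 = ⊥ := by
      rw [hA', dif_pos (Nat.zero_lt_succ n)]
      exact h0
    have hp : ∀ i, IsPGroup p (A' i) := by
      intro i
      rw [hA']
      by_cases h : i < n + 1
      · rw [dif_pos h]
        have : A ⟨i, h⟩ ≤ Cfsg.pCore p H := hn ▸ hmono (Fin.le_last _)
        exact (Lib.Helper47.Basic.pCore_isPGroup p H).to_le this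
      · rw [dif_neg h]
        exact IsPGroup.of_bot
    have hN : ∀ i, x ∈ Subgroup.normalizer (A' i : Set H) := by
      intro i
      rw [hA']
      by_cases h : i < n + 1
      · rw [dif_pos h]
        have := hnorm ⟨i, h⟩
        rw [Subgroup.normalizer_eq_top]; trivial
      · rw [dif_neg h, Subgroup.normalizer_eq_top]; trivial
    have hstep : ∀ i, ∀ a ∈ A' (i + 1), ⁅x, a⁆ ∈ A' i := by
      intro i a ha
      rw [hA'] at ha ⊢
      by_cases hi : i < n
      · have h1 : i + 1 < n + 1 := by omega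
        have h2 : i < n + 1 := by omega
        rw [dif_pos h1] at ha
        rw [dif_pos h2]
        exact hx ⟨i, hi⟩ a ha
      · have h1 : ¬ (i + 1 < n + 1) := by omega
        rw [dif_neg h1, Subgroup.mem_bot] at ha
        rw [ha]
        simp
    obtain ⟨k, hk⟩ := Lib.Helper47.Stab.exists_pow_commute_of_chain x A' hA0 hp hN hstep n
    have hAn : A' n = Cfsg.pCore p H := by
      rw [hA', dif_pos (Nat.lt_succ_self n)]
      exact hn
    rw [hAn] at hk
    have hxc : x ^ p ^ k ∈ Subgroup.centralizer (Cfsg.pCore p H : Set H) :=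
      Subgroup.mem_centralizer_iff.mpr (fun a ha => (hk a ha).symm)
    obtain ⟨m, hm⟩ := (Lib.Helper47.Basic.pCore_isPGroup p H) ⟨x ^ p ^ k, hchar hxc⟩
    refine ⟨k + m, ?_⟩
    apply Subtype.ext
    have := congrArg Subtype.val hm
    simp only [Subgroup.coe_pow, Subgroup.coe_one] at this ⊢
    rw [pow_add, pow_mul]
    exact this
  exact hLX.trans (Lib.Helper47.Basic.le_pCore hXn hXp)

end Cfsg.Agent.S2810
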