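import Cfsg.Statements.S2812
import Mathlib
import Cfsg.Agent.Lib.Helper31.FStarAct

set_option autoImplicit false
open Cfsg

namespace Cfsg.Agent.S2812

open Subgroup
open Cfsg.Agent.Lib.Helper31.FStarAct

/-- Let H be a subgroup of the finite group G with O_p(H) = 1, Y a p-subgroup of G normalizing H, and L a subgroup of the generalized Fitting subgroup F*(H) that is subnormal in H and normalized by Y. Then L = [L, Y]·C_L(Y) and [L, Y] = [L, Y, Y]. -/
theorem result {G : Type*} [Group G] [Finite G] {p : ℕ} [Fact p.Prime] (H : Subgroup G) (hO : Cfsg.pCore p ↥H = ⊥) (Y : Subgroup G) (hY : IsPGroup p ↥Y) (hYH : Y ≤ Subgroup.normalizer (H : Set G)) (L : Subgroup G) (hLF : L ≤ (Cfsg.generalizedFittingSubgroup ↥H).map H.subtype) (hLsn : (L.subgroupOf H).IsSubnormal) (hYL : Y ≤ Subgroup.normalizer (L : Set G)) : ⁅L, Y⁆ ⊔ (L ⊓ Subgroup.centralizer (Y : Set G)) = L ∧ ⁅L, Y⁆ = ⁅⁅L, Y⁆, Y⁆ := by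
  have hLH : L ≤ H := hLF.trans (Subgroup.map_subtype_le _)
  have key : ⁅L, Y⁆ ⊔ (L ⊓ Subgroup.centralizer (Y : Set G)) = L := by
    refine split_of_family (N := (Cfsg.fittingSubgroup ↥H).map H.subtype ⊓ L) hY
      {K' | ∃ K : Subgroup ↥H, Cfsg.IsComponent K ∧ K.map H.subtype = K' ∧ K' ≤ L} ?_ ?_ ?_ ?_
      inf_le_right ?_ ?_ hYL ?_
    · rintro K' ⟨K, -, -, h⟩
      exact h
    · rintro K' ⟨K, hK, rfl, -⟩
      exact Cfsg.Agent.Lib.Helper29.Basic.isQuasisimple_of_mulEquiv
        (K.equivMapOfInjective H.subtype H.subtype_injective) hK.2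
    · rintro K₁' ⟨K₁, hK₁, rfl, -⟩ K₂' ⟨K₂, hK₂, rfl, -⟩ hne
      have hne' : K₁ ≠ K₂ := fun h => hne (by rw [h])
      rw [← Subgroup.map_commutator,
        Cfsg.Agent.Lib.Helper21.Comp.components_commute K₁ K₂ hK₁ hK₂ hne', Subgroup.map_bot]
    · rintro K' ⟨K, hK, rfl, hKL⟩ y hy
      let φ : ↥H ≃* ↥H := H.normalizerMonoidHom ⟨y, hYH hy⟩
      have hcomp : (K.map φ.toMonoidHom).map H.subtype
          = (K.map H.subtype).map (MulAut.conj y).toMonoidHom := by
        rw [Subgroup.map_map, Subgroup.map_map]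
        congr 1
      refine ⟨K.map φ.toMonoidHom,
        Cfsg.Agent.Lib.Helper21.Comp.isComponent_map_equiv φ hK, hcomp, ?_⟩
      have h1 := Subgroup.map_mono (f := (MulAut.conj y).toMonoidHom) hKL
      exact h1.trans (Subgroup.mem_normalizer_iff_map_conj_eq.mp (hYL hy)).le
    · have h1 := Cfsg.Agent.Lib.Helper24.ConjAction.le_normalizer_map_of_characteristic H
        (Cfsg.fittingSubgroup ↥H) (Cfsg.Agent.Lib.Helper21.Layer.fitting_characteristic ↥H)
      apply Cfsg.Agent.Lib.Helper31.SigBasic.le_normalizer_of_conj_mem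
      intro y hy u hu
      exact ⟨Cfsg.Agent.Lib.Helper31.SigBasic.conj_mem_of_mem_normalizer (h1 (hYH hy)) hu.1,
        Cfsg.Agent.Lib.Helper31.SigBasic.conj_mem_of_mem_normalizer (hYL hy) hu.2⟩
    · have h1 : Nat.card ((Cfsg.fittingSubgroup ↥H).map H.subtype)
          = Nat.card (Cfsg.fittingSubgroup ↥H) :=
        Nat.card_congr ((Cfsg.fittingSubgroup ↥H).equivMapOfInjective H.subtype
          H.subtype_injective).toEquiv.symm
      have h2 := fitting_coprime hO
      rw [← h1] at h2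
      exact Nat.Coprime.coprime_dvd_left (Subgroup.card_dvd_of_le inf_le_left) h2
    · intro s hs
      have hsH : s ∈ H := hLH hs
      have hSF : L.subgroupOf H ≤ Cfsg.generalizedFittingSubgroup ↥H := by
        intro x hx
        obtain ⟨x', hx', hxx⟩ := hLF (Subgroup.mem_subgroupOf.mp hx)
        have : x' = x := Subtype.ext hxx
        rwa [← this]
      have hs' : (⟨s, hsH⟩ : ↥H) ∈ L.subgroupOf H := Subgroup.mem_subgroupOf.mpr hs
      obtain ⟨e, he, m, hm, hem⟩ :=
        Cfsg.Agent.Lib.Helper22.Layer2.subnormal_le_genFitting_decomp hLsn hSF hs'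
      have hs2 : s = (e : G) * (m : G) := congrArg Subtype.val hem
      rw [hs2]
      refine mul_mem (Subgroup.mem_sup_left ?_) (Subgroup.mem_sup_right ?_)
      · have hle : (sSup {K : Subgroup ↥H | Cfsg.IsComponent K ∧ K ≤ L.subgroupOf H}).map H.subtype
            ≤ sSup {K' | ∃ K : Subgroup ↥H, Cfsg.IsComponent K ∧ K.map H.subtype = K' ∧ K' ≤ L} := by
          rw [Subgroup.map_le_iff_le_comap]
          apply sSup_le
          intro K hK
          rw [← Subgroup.map_le_iff_le_comap]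
          apply le_sSup
          refine ⟨K, hK.1, rfl, ?_⟩
          rintro _ ⟨k, hk, rfl⟩
          exact Subgroup.mem_subgroupOf.mp (hK.2 hk)
        exact hle ⟨e, he, rfl⟩
      · exact ⟨⟨m, hm.1, rfl⟩, Subgroup.mem_subgroupOf.mp hm.2⟩
  exact ⟨key, commutator_eq_of_split hYL key⟩

end Cfsg.Agent.S2812
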