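import Cfsg.Statements.S2813
import Cfsg.Agent.Lib.Helper47.Basic

set_option autoImplicit false
open Cfsg

namespace Cfsg.Agent.S2813

open scoped commutatorElement

/-- Let K be a subgroup of the finite group H with O_p(K) = 1 and Y a p-subgroup of N_H(K) with [K, Y, Y] = 1. Then [K, Y] = 1. -/
theorem result {H : Type*} [Group H] [Finite H] {p : ℕ} [Fact p.Prime] (K : Subgroup H) (hO : Cfsg.pCore p ↥K = ⊥) (Y : Subgroup H) (hY : IsPGroup p ↥Y) (hYK : Y ≤ Subgroup.normalizer (K : Set H)) (hq : ⁅⁅K, Y⁆, Y⁆ = ⊥) : ⁅K, Y⁆ = ⊥ := by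
  classical
  set D : Subgroup H := ⁅K, Y⁆ with hD
  -- D ≤ K
  have hDK : D ≤ K := by
    rw [hD, Subgroup.commutator_le]
    intro k hk y hy
    have h1 : y * k⁻¹ * y⁻¹ ∈ K := (Subgroup.mem_normalizer_iff.mp (hYK hy) k⁻¹).mp (K.inv_mem hk)
    have : ⁅k, y⁆ = k * (y * k⁻¹ * y⁻¹) := by simp [commutatorElement_def, mul_assoc]
    rw [this]
    exact K.mul_mem hk h1
  have hKD : K ≤ Subgroup.normalizer (D : Set H) := Subgroup.normalizer_commutator_ge_left K Y
  -- Y centralizes D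
  have hDY : ⁅D, Y⁆ = ⊥ := hq
  have hcomm : ∀ d ∈ D, ∀ y ∈ Y, y * d = d * y := by
    intro d hd y hy
    have := (Subgroup.commutator_eq_bot_iff_le_centralizer.mp hDY) hd
    exact (Subgroup.mem_centralizer_iff.mp this) y hy
  -- D is abelian
  have hDD : ⁅D, D⁆ = ⊥ := by
    have h1 : ⁅⁅Y, D⁆, K⁆ = ⊥ := by
      rw [Subgroup.commutator_comm Y D, hDY, Subgroup.commutator_bot_left]
    have h2 : ⁅⁅D, K⁆, Y⁆ = ⊥ := by
      have h3 : ⁅D, K⁆ ≤ D := Subgroup.le_normalizer_iff_commutator_le_left.mp hKD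
      exact le_bot_iff.mp (le_trans (Subgroup.commutator_mono h3 le_rfl) hDY.le)
    exact Subgroup.commutator_commutator_eq_bot_of_rotate h1 h2
  have hDab : ∀ a ∈ D, ∀ b ∈ D, a * b = b * a := by
    intro a ha b hb
    have := (Subgroup.commutator_eq_bot_iff_le_centralizer.mp hDD) ha
    exact ((Subgroup.mem_centralizer_iff.mp this) b hb).symm
  -- generators have p-power order
  have hgen : ∀ k ∈ K, ∀ y ∈ Y, ∀ n : ℕ, ⁅k, y ^ n⁆ = ⁅k, y⁆ ^ n := by
    intro k hk y hy n
    induction n with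
    | zero => simp
    | succ n ih =>
      rw [pow_succ, commutatorElement_mul_right_eq_mul_conj, ih]
      have hd : ⁅k, y⁆ ∈ D := Subgroup.commutator_mem_commutator hk hy
      have hc := hcomm _ hd (y ^ n) (Y.pow_mem hy n)
      rw [mul_assoc (⁅k, y⁆ ^ n), hc, mul_assoc, mul_assoc, mul_inv_cancel, mul_one, pow_succ]
  have hDp : ∀ d ∈ D, ∃ n : ℕ, d ^ p ^ n = 1 := by
    intro d hd
    rw [hD, Subgroup.commutator_def] at hd
    induction hd using Subgroup.closure_induction with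
    | mem x hx =>
      obtain ⟨k, hk, y, hy, rfl⟩ := hx
      obtain ⟨n, hn⟩ := hY ⟨y, hy⟩
      refine ⟨n, ?_⟩
      rw [← hgen k hk y hy]
      have : y ^ p ^ n = 1 := by
        have := congrArg Subtype.val hn
        simpa using this
      rw [this]; simp
    | one => exact ⟨0, by simp⟩
    | mul x y hx hy ihx ihy =>
      obtain ⟨a, ha⟩ := ihx
      obtain ⟨b, hb⟩ := ihy
      refine ⟨a + b, ?_⟩
      have hxD : x ∈ D := by rw [hD, Subgroup.commutator_def]; exact hx
      have hyD : y ∈ D := by rw [hD, Subgroup.commutator_def]; exact hy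
      have hc : Commute x y := hDab x hxD y hyD
      rw [hc.mul_pow, pow_add, pow_mul, ha, one_pow, mul_comm (p ^ a), pow_mul, hb, one_pow, one_mul]
    | inv x hx ih =>
      obtain ⟨a, ha⟩ := ih
      exact ⟨a, by rw [inv_pow, ha, inv_one]⟩
  -- D.subgroupOf K is a normal p-subgroup of K
  have hn : (D.subgroupOf K).Normal := Subgroup.normal_subgroupOf_of_le_normalizer hKD
  have hp : IsPGroup p (D.subgroupOf K) := by
    intro ⟨⟨x, hxK⟩, hx⟩
    rw [Subgroup.mem_subgroupOf] at hx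
    obtain ⟨n, hn⟩ := hDp x hx
    refine ⟨n, ?_⟩
    apply Subtype.ext
    apply Subtype.ext
    simpa using hn
  have hle : D.subgroupOf K ≤ pCore p ↥K := Lib.Helper47.Basic.le_pCore hn hp
  rw [hO, le_bot_iff, Subgroup.subgroupOf_eq_bot] at hle
  exact le_bot_iff.mp (fun x hx => hle.le_bot ⟨hx, hDK hx⟩)

end Cfsg.Agent.S2813
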