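import Cfsg.Statements.S2815
import Cfsg.Agent.Lib.Helper47.Qs
import Cfsg.Agent.Lib.Helper47.PRed2

set_option autoImplicit false
open Cfsg

namespace Cfsg.Agent.S2815

open Cfsg.Agent.Lib.Helper47.Syl Cfsg.Agent.Lib.Helper47.PRes Cfsg.Agent.Lib.Helper47.PRed Cfsg.Agent.Lib.Helper47.PRed2 Cfsg.Agent.Lib.Helper47.Qs Cfsg.Agent.Lib.Helper47.Cent
open scoped commutatorElement

/-- Let H be a finite group and p a prime dividing its order with O_p(H) = 1, and suppose K = O^p(H) (generated by the elements of order prime to p) is quasisimple. Then K = F*(H); for every nontrivial p-subgroup Y of H, K = [K, Y] and K lies in the subgroup generated by the K-conjugates of Y; every normal subgroup of H not containing K has order prime to p; and H is p-irreducible. -/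
theorem result {H : Type*} [Group H] [Finite H] {p : ℕ} [Fact p.Prime] (hp : p ∣ Nat.card H) (hO : Cfsg.pCore p H = ⊥) (hq : Cfsg.IsQuasisimple ↥(Cfsg.pResidual p H)) : Cfsg.pResidual p H = Cfsg.generalizedFittingSubgroup H ∧ (∀ Y : Subgroup H, IsPGroup p ↥Y → Y ≠ ⊥ → ⁅Cfsg.pResidual p H, Y⁆ = Cfsg.pResidual p H ∧ Cfsg.pResidual p H ≤ ⨆ k : ↥(Cfsg.pResidual p H), Y.map (MulAut.conj (k : H)).toMonoidHom) ∧ (∀ C : Subgroup H, C.Normal → ¬ Cfsg.pResidual p H ≤ C → (Nat.card ↥C).Coprime p) ∧ Cfsg.IsPIrreducible p H := by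
  have hKn : (Cfsg.pResidual p H).Normal := pResidual_normal p H
  have hperf : ⁅Cfsg.pResidual p H, Cfsg.pResidual p H⁆ = Cfsg.pResidual p H :=
    Subgroup.isPerfect_iff.mp hq.1
  have hC1n : (Subgroup.centralizer ((Cfsg.pResidual p H : Subgroup H) : Set H)).Normal := inferInstance
  have hnormC1 : ∀ X : Subgroup H, X ≤ Subgroup.normalizer ((Subgroup.centralizer ((Cfsg.pResidual p H : Subgroup H) : Set H) : Subgroup H) : Set H) := fun X => by
    rw [Subgroup.normalizer_eq_top_iff.mpr hC1n]; exact le_top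
  obtain ⟨P, hP⟩ := exists_isSyl p (Subgroup.centralizer ((Cfsg.pResidual p H : Subgroup H) : Set H))
  have hC1P : Subgroup.centralizer ((Cfsg.pResidual p H : Subgroup H) : Set H) ≤ Subgroup.normalizer (P : Set H) := by
    intro c hc
    obtain ⟨t, ht, r, hr, rfl⟩ := exists_mul_pResOf hP hc
    have hrK : r ∈ Cfsg.pResidual p H := by
      have h2 : pResOf p (Subgroup.centralizer ((Cfsg.pResidual p H : Subgroup H) : Set H)) ≤ pResOf p (⊤ : Subgroup H) := pResOf_mono le_top
      rw [pResOf_top] at h2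
      exact h2 hr
    have hrP : r ∈ Subgroup.centralizer (P : Set H) := by
      rw [Subgroup.mem_centralizer_iff]
      intro x hx
      have hx' := hP.1 hx
      rw [Subgroup.mem_centralizer_iff] at hx'
      exact (hx' r hrK).symm
    exact Subgroup.mul_mem _ (Subgroup.le_normalizer ht) (Subgroup.centralizer_le_normalizer _ hrP)
  have hPn : P.Normal := by
    apply Subgroup.normalizer_eq_top_iff.mp
    rw [eq_top_iff]
    intro h _
    rw [mem_normalizer_iff_map_conj]
    have h1 := hP.map_conj h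
    rw [map_conj_eq_of_mem_normalizer (hnormC1 ⊤ (Subgroup.mem_top h))] at h1
    exact hP.eq_of_normal hC1P h1
  have hPbot : P = ⊥ := by
    have h1 := Cfsg.Agent.Lib.Helper47.Basic.le_pCore hPn hP.2.1
    rw [hO] at h1
    exact le_bot_iff.mp h1
  have hcop : (Nat.card (Subgroup.centralizer ((Cfsg.pResidual p H : Subgroup H) : Set H))).Coprime p := by
    obtain ⟨P', hP'1, _⟩ := hP.exists_sylow
    have h1 : ¬ p ∣ (P' : Subgroup (Subgroup.centralizer ((Cfsg.pResidual p H : Subgroup H) : Set H))).index := P'.not_dvd_index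
    have h2 : (P' : Subgroup (Subgroup.centralizer ((Cfsg.pResidual p H : Subgroup H) : Set H))) = ⊥ := by
      rw [hP'1, hPbot, Subgroup.bot_subgroupOf]
    rw [h2, Subgroup.index_bot] at h1
    exact ((Nat.Prime.coprime_iff_not_dvd Fact.out).mpr h1).symm
  have hC1K : Subgroup.centralizer ((Cfsg.pResidual p H : Subgroup H) : Set H) ≤ Cfsg.pResidual p H := by
    intro c hc
    apply Subgroup.subset_closure
    show (orderOf c).Coprime p
    have h1 : orderOf (⟨c, hc⟩ : Subgroup.centralizer ((Cfsg.pResidual p H : Subgroup H) : Set H)) ∣ Nat.card (Subgroup.centralizer ((Cfsg.pResidual p H : Subgroup H) : Set H)) := orderOf_dvd_natCard _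
    rw [Subgroup.orderOf_mk] at h1
    exact Nat.Coprime.coprime_dvd_left h1 hcop
  have h3 : ∀ C : Subgroup H, C.Normal → ¬ Cfsg.pResidual p H ≤ C → C ≤ Subgroup.centralizer ((Cfsg.pResidual p H : Subgroup H) : Set H) := by
    intro C hCn hKC
    have hCK : ⁅C, Cfsg.pResidual p H⁆ ≤ C ⊓ Cfsg.pResidual p H :=
      le_inf (Subgroup.commutator_le_left C _) (Subgroup.commutator_le_right C _)
    have hnorm : Cfsg.pResidual p H ≤ Subgroup.normalizer ((C ⊓ Cfsg.pResidual p H : Subgroup H) : Set H) :=
      le_normalizer_inf (by rw [Subgroup.normalizer_eq_top_iff.mpr hCn]; exact le_top) Subgroup.le_normalizer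
    rcases eq_or_le_centralizer hq inf_le_right hnorm with h | h
    · exact absurd (by rw [← h]; exact inf_le_left) hKC
    · exact le_centralizer_of_commutator_le hperf (hCK.trans h)
  have h2 : ∀ Y : Subgroup H, IsPGroup p ↥Y → Y ≠ ⊥ → ⁅Cfsg.pResidual p H, Y⁆ = Cfsg.pResidual p H := by
    intro Y hY hY1
    have hBK : ⁅Cfsg.pResidual p H, Y⁆ ≤ Cfsg.pResidual p H := Subgroup.commutator_le_left _ _
    rcases eq_or_le_centralizer hq hBK (le_normalizer_commutator _ _) with h | h
    · exact h
    · exfalso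
      have hYC : Y ≤ Subgroup.centralizer ((Cfsg.pResidual p H : Subgroup H) : Set H) :=
        le_centralizer_of_commutator_le hperf (by rw [Subgroup.commutator_comm]; exact h)
      exact hY1 (eq_bot_of_isPGroup_of_coprime hY
        (Nat.Coprime.coprime_dvd_left (Subgroup.card_dvd_of_le hYC) hcop))
  refine ⟨?_, ?_, ?_, ?_, ?_⟩
  · apply le_antisymm
    · exact le_trans (le_sSup (show Cfsg.IsComponent (Cfsg.pResidual p H) from ⟨hKn.isSubnormal, hq⟩)) le_sup_left
    · unfold Cfsg.generalizedFittingSubgroup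
      apply sup_le
      · apply sSup_le
        rintro J ⟨_, hJq⟩
        exact perfect_le_pResidual hJq.1
      · apply sSup_le
        rintro N ⟨hNn, hNnil⟩
        by_cases hKN : Cfsg.pResidual p H ≤ N
        · exfalso
          have hnil2 : Group.IsNilpotent ↥((Cfsg.pResidual p H).subgroupOf N) := inferInstance
          have hnil3 : Group.IsNilpotent ↥(Cfsg.pResidual p H) :=
            Group.nilpotent_of_mulEquiv (Subgroup.subgroupOfEquivOfLe hKN)
          have hnt := Cfsg.Agent.Lib.Helper21.Quasi.nontrivial hq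
          have hpf := hq.1
          exact Group.IsPerfect.not_isNilpotent (G := ↥(Cfsg.pResidual p H)) hnil3
        · exact (h3 N hNn hKN).trans hC1K
  · intro Y hY hY1
    refine ⟨h2 Y hY hY1, ?_⟩
    have hW : Cfsg.pResidual p H ≤ nclOf (Cfsg.pResidual p H) Y := by
      refine (h2 Y hY hY1).symm.le.trans ?_
      rw [Subgroup.commutator_le]
      intro k hk y hy
      have e : ⁅k, y⁆ = (k * y * k⁻¹) * y⁻¹ := by rw [commutatorElement_def]
      rw [e]
      exact Subgroup.mul_mem _ (map_conj_le_nclOf hk (conj_mem_map_conj hy))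
        (Subgroup.inv_mem _ (le_nclOf _ _ hy))
    exact hW
  · intro C hCn hKC
    exact Nat.Coprime.coprime_dvd_left (Subgroup.card_dvd_of_le (h3 C hCn hKC)) hcop
  · intro hcl
    obtain ⟨P₀⟩ := (inferInstance : Nonempty (Sylow p H))
    have hPn0 := hcl P₀
    have h5 : (P₀ : Subgroup H) ≤ Cfsg.pCore p H := Cfsg.Agent.Lib.Helper47.Basic.le_pCore hPn0 P₀.isPGroup'
    rw [hO] at h5
    exact P₀.ne_bot_of_dvd_card hp (le_bot_iff.mp h5)
  · intro N hNn hNcl
    by_contra hKN
    apply hNcl
    intro P₁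
    have hc : (Nat.card N).Coprime p :=
      Nat.Coprime.coprime_dvd_left (Subgroup.card_dvd_of_le (h3 N hNn hKN)) hcop
    have hPb : (P₁ : Subgroup N) = ⊥ := eq_bot_of_isPGroup_of_coprime P₁.isPGroup'
      (Nat.Coprime.coprime_dvd_left (Subgroup.card_subgroup_dvd_card _) hc)
    rw [hPb]
    infer_instance

end Cfsg.Agent.S2815
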