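import Cfsg.Statements.S2816
import Mathlib
import Cfsg.Agent.Lib.Helper31.FStarAct2

set_option autoImplicit false
open Cfsg

namespace Cfsg.Agent.S2816

open Subgroup
open Cfsg.Agent.Lib.Helper31.FStarAct Cfsg.Agent.Lib.Helper31.FStarAct2

/-- Let H be a finite group and p a prime with O_p(H) = 1, and Y a p-subgroup of H. Then for every subnormal subgroup K of H containing Y, [F*(H), Y] = [F*(K), Y] = [F*(K), Y, Y]; and if Y₀ ≤ Y with [F*(H), Y, Y₀] = 1 then Y₀ = 1 (in particular [F*(H), Y] = 1 forces Y = 1). -/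
theorem result {H : Type*} [Group H] [Finite H] {p : ℕ} [Fact p.Prime] (hO : Cfsg.pCore p H = ⊥) (Y : Subgroup H) (hY : IsPGroup p ↥Y) : (∀ K : Subgroup H, K.IsSubnormal → Y ≤ K → ⁅Cfsg.generalizedFittingSubgroup H, Y⁆ = ⁅(Cfsg.generalizedFittingSubgroup ↥K).map K.subtype, Y⁆ ∧ ⁅(Cfsg.generalizedFittingSubgroup ↥K).map K.subtype, Y⁆ = ⁅⁅(Cfsg.generalizedFittingSubgroup ↥K).map K.subtype, Y⁆, Y⁆) ∧ (∀ Y₀ : Subgroup H, Y₀ ≤ Y → ⁅⁅Cfsg.generalizedFittingSubgroup H, Y⁆, Y₀⁆ = ⊥ → Y₀ = ⊥) := by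
  have hFn := Cfsg.Agent.Lib.Helper29.Basic.generalizedFittingSubgroup_normal H
  have hYF : ∀ Y' : Subgroup H,
      Y' ≤ normalizer ((Cfsg.generalizedFittingSubgroup H : Subgroup H) : Set H) := by
    intro Y'
    rw [Subgroup.normalizer_eq_top_iff.mpr hFn]; exact le_top
  constructor
  · intro K hK hYK
    have hFKle := gfs_map_le hK
    have hFKsn := gfs_map_subnormal hK
    have hYFK := hYK.trans (le_normalizer_gfs_map K)
    have h2 := comm_comm_native hO hY hFKle hFKsn hYFK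
    refine ⟨le_antisymm ?_ (Subgroup.commutator_mono hFKle le_rfl), h2⟩
    have hD := gfs_comm_comm hO hY
    have hDsn := commutator_isSubnormal hFn Y
    have hDK : ⁅Cfsg.generalizedFittingSubgroup H, Y⁆ ≤ K :=
      le_of_subnormal_of_comm_eq hD hK hYK
    have hDFK := le_gfs_map hDsn (commutator_le_left (hYF Y)) hK hDK
    calc ⁅Cfsg.generalizedFittingSubgroup H, Y⁆
        = ⁅⁅Cfsg.generalizedFittingSubgroup H, Y⁆, Y⁆ := hD
      _ ≤ ⁅(Cfsg.generalizedFittingSubgroup ↥K).map K.subtype, Y⁆ :=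
        Subgroup.commutator_mono hDFK le_rfl
  · intro Y₀ hY₀ h
    have hY₀p : IsPGroup p Y₀ := hY.to_le hY₀
    have h1 : ⁅⁅Cfsg.generalizedFittingSubgroup H, Y₀⁆, Y₀⁆ = ⊥ := by
      rw [← le_bot_iff, ← h]
      exact Subgroup.commutator_mono (Subgroup.commutator_mono le_rfl hY₀) le_rfl
    have h2 : ⁅Cfsg.generalizedFittingSubgroup H, Y₀⁆ = ⊥ := by
      rw [gfs_comm_comm hO hY₀p]; exact h1
    exact eq_bot_of_commutator_gfs_eq_bot hO hY₀p h2

end Cfsg.Agent.S2816
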