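import Cfsg.Statements.S2817
import Mathlib
import Cfsg.Agent.Lib.Helper31.FStarAct3

set_option autoImplicit false
open Cfsg

namespace Cfsg.Agent.S2817

open Subgroup
open scoped commutatorElement
open Cfsg.Agent.Lib.Helper31.FStarAct Cfsg.Agent.Lib.Helper31.FStarAct2
  Cfsg.Agent.Lib.Helper31.FStarAct3 Cfsg.Agent.Lib.Helper31.SigBasic

/-- Let H be a finite group and p a prime with O_p(H) = 1, Q a p-subgroup of H, L = [F*(H), Q], and F the largest normal subgroup of F*(H) centralized by Q (a normal subgroup of F*(H) centralized by Q and containing every such). Then F = C_{F*(H)}(LQ); L = [L, Q]; L ∩ F ≤ Φ(L); every p-subgroup B of N_H(Q) with [L, B] ≤ F satisfies [L, B] = 1; and C_H(FL) has order prime to p. -/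
theorem result {H : Type*} [Group H] [Finite H] {p : ℕ} [Fact p.Prime] (hO : Cfsg.pCore p H = ⊥) (Q : Subgroup H) (hQ : IsPGroup p ↥Q) (L : Subgroup H) (hL : L = ⁅Cfsg.generalizedFittingSubgroup H, Q⁆) (F : Subgroup H) (hF : F ≤ Cfsg.generalizedFittingSubgroup H ∧ Cfsg.generalizedFittingSubgroup H ≤ Subgroup.normalizer (F : Set H) ∧ Q ≤ Subgroup.centralizer (F : Set H) ∧ ∀ N : Subgroup H, N ≤ Cfsg.generalizedFittingSubgroup H → Cfsg.generalizedFittingSubgroup H ≤ Subgroup.normalizer (N : Set H) → Q ≤ Subgroup.centralizer (N : Set H) → N ≤ F) : F = Cfsg.generalizedFittingSubgroup H ⊓ Subgroup.centralizer ((L ⊔ Q : Subgroup H) : Set H) ∧ ⁅L, Q⁆ = L ∧ L ⊓ F ≤ (frattini ↥L).map L.subtype ∧ (∀ B : Subgroup H, IsPGroup p ↥B → B ≤ Subgroup.normalizer (Q : Set H) → ⁅L, B⁆ ≤ F → ⁅L, B⁆ = ⊥) ∧ (Nat.card ↥(Subgroup.centralizer ((F ⊔ L : Subgroup H) : Set H))).Coprime p := by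
  obtain ⟨hF1, hF2, hF3, hF4⟩ := hF
  have hEn : (Cfsg.generalizedFittingSubgroup H).Normal :=
    Cfsg.Agent.Lib.Helper29.Basic.generalizedFittingSubgroup_normal H
  have hnE : ∀ S : Subgroup H,
      S ≤ normalizer ((Cfsg.generalizedFittingSubgroup H : Subgroup H) : Set H) := by
    intro S
    rw [Subgroup.normalizer_eq_top_iff.mpr hEn]; exact le_top
  have hLE : L ≤ Cfsg.generalizedFittingSubgroup H := by
    rw [hL]; exact commutator_le_left (hnE Q)
  have hEL : Cfsg.generalizedFittingSubgroup H ≤ normalizer (L : Set H) := by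
    rw [hL]; exact le_normalizer_commutator _ Q
  have hQL : Q ≤ normalizer (L : Set H) := by
    rw [hL]; exact le_normalizer_commutator_right _ Q
  have hLQ : ⁅L, Q⁆ = L := by
    rw [hL]; exact (gfs_comm_comm hO hQ).symm
  have hLsn : L.IsSubnormal := by
    rw [hL]; exact commutator_isSubnormal hEn Q
  have hcomm_mem : ∀ x ∈ Cfsg.generalizedFittingSubgroup H, ∀ y ∈ Q, ⁅x, y⁆ ∈ L := by
    intro x hx y hy
    rw [hL]; exact Subgroup.commutator_mem_commutator hx hy
  -- `F` centralizes `L`
  have hFL : L ≤ centralizer (F : Set H) := by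
    rw [hL, ← Subgroup.commutator_eq_bot_iff_le_centralizer]
    apply Subgroup.commutator_commutator_eq_bot_of_rotate
    · rw [Subgroup.commutator_eq_bot_iff_le_centralizer.mpr hF3, Subgroup.commutator_bot_left]
    · have h1 : ⁅F, Cfsg.generalizedFittingSubgroup H⁆ ≤ F := commutator_le_left hF2
      have h2 : ⁅F, Q⁆ = ⊥ := by
        rw [Subgroup.commutator_comm]
        exact Subgroup.commutator_eq_bot_iff_le_centralizer.mpr hF3
      exact le_bot_iff.mp (h2 ▸ Subgroup.commutator_mono h1 le_rfl)
  have hFcLQ : F ≤ centralizer ((L ⊔ Q : Subgroup H) : Set H) := by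
    rw [Subgroup.le_centralizer_iff]
    exact sup_le hFL hF3
  -- `F*(H)` normalizes `L ⊔ Q`
  have hELQ : Cfsg.generalizedFittingSubgroup H ≤ normalizer ((L ⊔ Q : Subgroup H) : Set H) := by
    apply le_normalizer_of_conj_mem
    intro x hx u hu
    obtain ⟨l, hl, y, hy, rfl⟩ := mem_sup_of_le_normalizer L Q hQL hu
    have e : x * (l * y) * x⁻¹ = (x * l * x⁻¹) * ⁅x, y⁆ * y := by
      simp only [commutatorElement_def]; group
    rw [e]
    exact mul_mem (mul_mem (Subgroup.mem_sup_left (conj_mem_of_mem_normalizer (hEL hx) hl))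
      (Subgroup.mem_sup_left (hcomm_mem x hx y hy))) (Subgroup.mem_sup_right hy)
  have part1 : F = Cfsg.generalizedFittingSubgroup H ⊓
      centralizer ((L ⊔ Q : Subgroup H) : Set H) := by
    apply le_antisymm (le_inf hF1 hFcLQ)
    apply hF4 _ inf_le_left
    · apply le_normalizer_of_conj_mem
      intro x hx u hu
      exact ⟨hEn.conj_mem u hu.1 x, conj_mem_centralizer (hELQ hx) hu.2⟩
    · rw [Subgroup.le_centralizer_iff]
      exact inf_le_right.trans
        (Subgroup.centralizer_le (SetLike.coe_subset_coe.mpr (le_sup_right : Q ≤ L ⊔ Q)))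
  have hcop : (Nat.card Q).Coprime (Nat.card (Cfsg.fittingSubgroup H)) := by
    obtain ⟨k, hk⟩ := hQ.exists_card_eq
    rw [hk]; exact (Nat.Coprime.pow_right k (fitting_coprime hO)).symm
  have part3 : L ⊓ F ≤ (frattini ↥L).map L.subtype := by
    intro x hx
    have hxL := hx.1
    have hxF := hx.2
    have hxcL : x ∈ centralizer (L : Set H) := by
      rw [Subgroup.mem_centralizer_iff]; intro l hl
      exact ((Subgroup.mem_centralizer_iff.mp (hFL hl)) x hxF).symm
    have hxcQ : x ∈ centralizer (Q : Set H) := by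
      rw [Subgroup.mem_centralizer_iff]; intro y hy
      exact ((Subgroup.mem_centralizer_iff.mp (hF3 hy)) x hxF).symm
    have h1 : x ^ Nat.card Q ∈ ⁅L, L⁆ := pow_card_mem_commutator hQL hLQ hxL hxcQ
    have h2 : x ^ Nat.card (Cfsg.fittingSubgroup H) ∈ ⁅L, L⁆ := by
      obtain ⟨e, he, m, hm, rfl⟩ :=
        Cfsg.Agent.Lib.Helper22.Layer2.subnormal_le_genFitting_decomp hLsn hLE hxL
      apply mul_pow_mem_commutator _ hm.2 _ _
      · have hle : sSup {K : Subgroup H | Cfsg.IsComponent K ∧ K ≤ L} ≤ ⁅L, L⁆ := by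
          apply sSup_le; intro K hK
          rw [← Cfsg.Agent.Lib.Helper21.Comp.commutator_self hK.1.2]
          exact Subgroup.commutator_mono hK.2 hK.2
        exact hle he
      · exact congrArg (fun y : Cfsg.fittingSubgroup H => (y : H))
          (pow_card_eq_one' (G := Cfsg.fittingSubgroup H) (x := ⟨m, hm.1⟩))
    have h3 : x ∈ ⁅L, L⁆ := mem_of_pow_mem_of_coprime hcop h1 h2
    rw [← Subgroup.map_subtype_commutator] at h3
    obtain ⟨x', hx', hxx⟩ := h3
    have hx'c : x' ∈ center ↥L := by
      rw [Subgroup.mem_center_iff]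
      intro l
      apply Subtype.ext
      have hx'x : (x' : H) = x := hxx
      simp only [Subgroup.coe_mul, hx'x]
      exact (Subgroup.mem_centralizer_iff.mp hxcL) l l.2
    exact ⟨x', center_inf_commutator_le_frattini L (Subgroup.mem_inf.mpr ⟨hx'c, hx'⟩), hxx⟩
  have part4 : ∀ B : Subgroup H, IsPGroup p ↥B → B ≤ Subgroup.normalizer (Q : Set H) →
      ⁅L, B⁆ ≤ F → ⁅L, B⁆ = ⊥ := by
    intro B hB hBQ hLBF
    have hBL : B ≤ normalizer (L : Set H) := by
      intro b hb
      rw [hL]
      exact Cfsg.Agent.Lib.Helper24.Coprime.mem_normalizer_commutator (hnE B hb) (hBQ hb)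
    have hsplit := split_native hO hB hLE hLsn hBL
    have hLB : ⁅L, B⁆ ≤ (frattini ↥L).map L.subtype :=
      (le_inf (commutator_le_left hBL) hLBF).trans part3
    have hK : (L ⊓ centralizer (B : Set H)).subgroupOf L ⊔ frattini ↥L = ⊤ := by
      rw [eq_top_iff]
      intro l _
      have hl : (l : H) ∈ ⁅L, B⁆ ⊔ (L ⊓ centralizer (B : Set H)) := by rw [hsplit]; exact l.2
      obtain ⟨a, ha, c, hc, hac⟩ := mem_sup_of_le_normalizer ⁅L, B⁆ (L ⊓ centralizer (B : Set H))
        (inf_le_left.trans (le_normalizer_commutator L B)) hl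
      obtain ⟨a', ha', haa⟩ := hLB ha
      have hla : l = a' * ⟨c, hc.1⟩ := by
        apply Subtype.ext
        rw [hac, Subgroup.coe_mul, ← haa]
        rfl
      rw [hla]
      exact mul_mem (Subgroup.mem_sup_right ha')
        (Subgroup.mem_sup_left (Subgroup.mem_subgroupOf.mpr hc))
    have hK2 := frattini_nongenerating hK
    have hLcB : L ≤ centralizer (B : Set H) := by
      intro l hl
      have hmem : (⟨l, hl⟩ : L) ∈ (L ⊓ centralizer (B : Set H)).subgroupOf L := by
        rw [hK2]; trivial
      exact (Subgroup.mem_subgroupOf.mp hmem).2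
    exact Subgroup.commutator_eq_bot_iff_le_centralizer.mpr hLcB
  have part5 : (Nat.card ↥(Subgroup.centralizer ((F ⊔ L : Subgroup H) : Set H))).Coprime p := by
    have hNn : (Cfsg.fittingSubgroup H).Normal := Cfsg.Agent.Lib.Helper78.Fitting.fitting_normal
    have hNcop : (Nat.card (Cfsg.fittingSubgroup H)).Coprime p := fitting_coprime hO
    have hNE : Cfsg.fittingSubgroup H ≤ Cfsg.generalizedFittingSubgroup H :=
      Cfsg.Agent.Lib.Helper22.Layer.fitting_le_genFitting
    have hnN : ∀ S : Subgroup H,
        S ≤ normalizer ((Cfsg.fittingSubgroup H : Subgroup H) : Set H) := by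
      intro S
      rw [Subgroup.normalizer_eq_top_iff.mpr hNn]; exact le_top
    have key : ∀ P : Subgroup H, IsPGroup p P →
        P ≤ centralizer ((F ⊔ L : Subgroup H) : Set H) → P = ⊥ := by
      intro P hP hPD
      apply eq_bot_of_commutator_gfs_eq_bot hO hP
      rw [Subgroup.commutator_eq_bot_iff_le_centralizer]
      have hFLP : F ⊔ L ≤ centralizer (P : Set H) := Subgroup.le_centralizer_iff.mp hPD
      have hLP : L ≤ centralizer (P : Set H) := le_sup_right.trans hFLP
      have hFP : F ≤ centralizer (P : Set H) := le_sup_left.trans hFLP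
      have hlayer : Cfsg.layer H ≤ centralizer (P : Set H) := by
        apply sSup_le
        intro K hK
        rcases component_le_or_centralizer Q hK with h | h
        · rw [← hL] at h
          exact h.trans hLP
        · have hKE : K ≤ Cfsg.generalizedFittingSubgroup H :=
            (Cfsg.Agent.Lib.Helper22.Layer.le_layer hK).trans
              Cfsg.Agent.Lib.Helper22.Layer.layer_le_genFitting
          have hEK : Cfsg.generalizedFittingSubgroup H ≤ normalizer (K : Set H) := by
            unfold Cfsg.generalizedFittingSubgroup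
            apply sup_le (Cfsg.Agent.Lib.Helper21.Layer.layer_le_normalizer hK)
            have h1 : Cfsg.fittingSubgroup H ≤ centralizer (K : Set H) :=
              Cfsg.Agent.Lib.Helper22.Layer.fitting_le_centralizer_layer.trans
                (Subgroup.centralizer_le (SetLike.coe_subset_coe.mpr
                  (Cfsg.Agent.Lib.Helper22.Layer.le_layer hK)))
            exact h1.trans (Subgroup.centralizer_le_normalizer (K : Set H))
          have hQK : Q ≤ centralizer (K : Set H) := Subgroup.le_centralizer_iff.mp h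
          exact (hF4 K hKE hEK hQK).trans hFP
      have hM : Cfsg.fittingSubgroup H ⊓ centralizer (L : Set H) ≤ centralizer (P : Set H) := by
        have hQM : Q ≤ normalizer ((Cfsg.fittingSubgroup H ⊓ centralizer (L : Set H) :
            Subgroup H) : Set H) := by
          apply le_normalizer_of_conj_mem
          intro y hy u hu
          exact ⟨hNn.conj_mem u hu.1 y, conj_mem_centralizer (hQL hy) hu.2⟩
        have hMcop : (Nat.card (Cfsg.fittingSubgroup H ⊓ centralizer (L : Set H) :
            Subgroup H)).Coprime p :=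
          Nat.Coprime.coprime_dvd_left (Subgroup.card_dvd_of_le inf_le_left) hNcop
        rw [← coprime_split hQ hQM hMcop]
        apply sup_le
        · have h1 : ⁅Cfsg.fittingSubgroup H ⊓ centralizer (L : Set H), Q⁆ ≤ L := by
            rw [hL]
            exact Subgroup.commutator_mono (inf_le_left.trans hNE) le_rfl
          exact h1.trans hLP
        · have h1 : (Cfsg.fittingSubgroup H ⊓ centralizer (L : Set H)) ⊓ centralizer (Q : Set H)
              ≤ F := by
            rw [part1]
            intro u hu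
            refine ⟨hNE hu.1.1, ?_⟩
            have h2 : L ⊔ Q ≤ centralizer ((Subgroup.zpowers u : Subgroup H) : Set H) := by
              apply sup_le
              · rw [Subgroup.le_centralizer_iff, Subgroup.zpowers_le]
                exact hu.1.2
              · rw [Subgroup.le_centralizer_iff, Subgroup.zpowers_le]
                exact hu.2
            exact (Subgroup.le_centralizer_iff.mp h2) (Subgroup.mem_zpowers u)
          exact h1.trans hFP
      have hPN : P ≤ normalizer ((Cfsg.fittingSubgroup H : Subgroup H) : Set H) := hnN P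
      have hW1 : ⁅Cfsg.fittingSubgroup H, P⁆ ≤ Cfsg.fittingSubgroup H := commutator_le_left hPN
      have hW2 : ⁅Cfsg.fittingSubgroup H, P⁆ ≤ centralizer (L : Set H) := by
        rw [← Subgroup.commutator_eq_bot_iff_le_centralizer]
        apply Subgroup.commutator_commutator_eq_bot_of_rotate
        · have h1 : ⁅P, L⁆ = ⊥ := by
            rw [Subgroup.commutator_comm]
            exact Subgroup.commutator_eq_bot_iff_le_centralizer.mpr hLP
          rw [h1, Subgroup.commutator_bot_left]
        · have h1 : ⁅L, Cfsg.fittingSubgroup H⁆ ≤ L := commutator_le_left (hNE.trans hEL)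
          have h2 : ⁅L, P⁆ = ⊥ := Subgroup.commutator_eq_bot_iff_le_centralizer.mpr hLP
          exact le_bot_iff.mp (h2 ▸ Subgroup.commutator_mono h1 le_rfl)
      have hW3 : ⁅Cfsg.fittingSubgroup H, P⁆ ≤ centralizer (P : Set H) :=
        (le_inf hW1 hW2).trans hM
      have hW4 : ⁅⁅Cfsg.fittingSubgroup H, P⁆, P⁆ = ⊥ :=
        Subgroup.commutator_eq_bot_iff_le_centralizer.mpr hW3
      have hW5 : ⁅Cfsg.fittingSubgroup H, P⁆ = ⊥ := by
        rw [← coprime_comm_comm hP hPN hNcop]; exact hW4
      have hNP : Cfsg.fittingSubgroup H ≤ centralizer (P : Set H) :=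
        Subgroup.commutator_eq_bot_iff_le_centralizer.mp hW5
      unfold Cfsg.generalizedFittingSubgroup
      exact sup_le hlayer hNP
    have hp : p.Prime := Fact.out
    by_contra hcon
    have hdvd : p ∣ Nat.card ↥(Subgroup.centralizer ((F ⊔ L : Subgroup H) : Set H)) := by
      by_contra h
      exact hcon ((Nat.Prime.coprime_iff_not_dvd hp).mpr h).symm
    obtain ⟨S⟩ : Nonempty (Sylow p ↥(Subgroup.centralizer ((F ⊔ L : Subgroup H) : Set H))) :=
      inferInstance
    have hS := S.ne_bot_of_dvd_card hdvd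
    have h1 := key ((S : Subgroup ↥(Subgroup.centralizer ((F ⊔ L : Subgroup H) : Set H))).map
      (Subgroup.centralizer ((F ⊔ L : Subgroup H) : Set H)).subtype) (S.isPGroup'.map _)
      (Subgroup.map_subtype_le _)
    rw [Subgroup.map_eq_bot_iff_of_injective _ (Subgroup.subtype_injective _)] at h1
    exact hS h1
  exact ⟨part1, hLQ, part3, part4, part5⟩

end Cfsg.Agent.S2817
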