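import Cfsg.Statements.S2818
import Cfsg.Agent.Lib.Helper47.Frat

set_option autoImplicit false
open Cfsg

namespace Cfsg.Agent.S2818

open scoped commutatorElement

/-- Let P be a finite p-subgroup of a group G and H a subgroup of N_G(P) with [P, H] ≤ Ω₁(Z(P)) (the elements of order dividing p in the centre of P). Then H centralizes the Frattini subgroup of P. -/
theorem result {G : Type*} [Group G] [Finite G] {p : ℕ} [Fact p.Prime] (P : Subgroup G) (hP : IsPGroup p ↥P) (H : Subgroup G) (hH : H ≤ Subgroup.normalizer (P : Set G)) (h : ⁅P, H⁆ ≤ Cfsg.omegaOne p (P ⊓ Subgroup.centralizer (P : Set G))) : ⁅(frattini ↥P).map P.subtype, H⁆ = ⊥ := by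
  classical
  rw [eq_bot_iff, Subgroup.commutator_le]
  rintro _ ⟨x, hx, rfl⟩ g hg
  rw [Subgroup.mem_bot]
  -- the commutator map with g
  have hZ : ∀ u : G, u ∈ P → (⁅u, g⁆ ∈ P ∧ ⁅u, g⁆ ∈ Subgroup.centralizer (P : Set G) ∧ ⁅u, g⁆ ^ p = 1) :=
    fun u hu => Lib.Helper47.Frat.mem_omegaOne_center P (h (Subgroup.commutator_mem_commutator hu hg))
  have hmul : ∀ u v : ↥P, ⁅((u * v : ↥P) : G), g⁆ = ⁅(u : G), g⁆ * ⁅(v : G), g⁆ := by
    intro u v
    rw [Subgroup.coe_mul, commutatorElement_mul_left_eq_conj_mul]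
    have h1 := (Subgroup.mem_centralizer_iff.mp (hZ v v.2).2.1) u u.2
    have h2 := (Subgroup.mem_centralizer_iff.mp (hZ v v.2).2.1) _ (hZ u u.2).1
    rw [h1, mul_assoc ⁅(v : G), g⁆, mul_inv_cancel, mul_one, h2]
  let ψ : ↥P →* G := MonoidHom.mk' (fun u => ⁅(u : G), g⁆) hmul
  have hψ : ∀ u : ↥P, ψ u = ⁅(u : G), g⁆ := fun u => rfl
  have hN : frattini ↥P ≤ ψ.ker := by
    apply Lib.Helper47.Frat.frattini_le_of_pow_comm (p := p)
    · intro u
      rw [MonoidHom.mem_ker, map_pow, hψ]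
      exact (hZ u u.2).2.2
    · rw [commutator_eq_closure, Subgroup.closure_le]
      rintro _ ⟨u, v, rfl⟩
      show _ ∈ ψ.ker
      rw [MonoidHom.mem_ker, map_commutatorElement, commutatorElement_eq_one_iff_commute, hψ, hψ]
      exact ((Subgroup.mem_centralizer_iff.mp (hZ v v.2).2.1) _ (hZ u u.2).1)
  have := hN hx
  rw [MonoidHom.mem_ker, hψ] at this
  exact this

end Cfsg.Agent.S2818
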