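import Cfsg.Statements.S2819
import Cfsg.Agent.Lib.Helper47.Frat
import Cfsg.Agent.Lib.Helper47.Stab

set_option autoImplicit false
open Cfsg

namespace Cfsg.Agent.S2819

open scoped commutatorElement

/-- Let P be a finite p-subgroup of a group G, H a subgroup of N_G(P), and Y a subgroup of H centralizing the derived subgroup P' such that [P, Y] is elementary abelian. Then O^p(⟨Y^H⟩), the subgroup of the normal closure of Y in H generated by its elements of order prime to p, centralizes the Frattini subgroup of P. -/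
theorem result {G : Type*} [Group G] [Finite G] {p : ℕ} [Fact p.Prime] (P : Subgroup G) (hP : IsPGroup p ↥P) (H : Subgroup G) (hH : H ≤ Subgroup.normalizer (P : Set G)) (Y : Subgroup G) (hYH : Y ≤ H) (hYc : Y ≤ Subgroup.centralizer ((⁅P, P⁆ : Subgroup G) : Set G)) (hel : Cfsg.IsElementaryAbelian p ⁅P, Y⁆) (NY : Subgroup G) (hNY : NY = (Subgroup.normalClosure ((Y.subgroupOf H : Subgroup ↥H) : Set ↥H)).map H.subtype) : (Cfsg.pResidual p ↥NY).map NY.subtype ≤ Subgroup.centralizer (((frattini ↥P).map P.subtype : Subgroup G) : Set G) := by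
  classical
  set P' : Subgroup G := ⁅P, P⁆ with hP'
  set E : Subgroup G := Lib.Helper47.Frat.powComm p P with hE
  have hEP : E ≤ P := Lib.Helper47.Frat.powComm_le p P
  have hP'P : P' ≤ P := Subgroup.commutator_le_self P
  have hNP' : Subgroup.normalizer (P : Set G) ≤ Subgroup.normalizer (P' : Set G) :=
    Lib.Helper47.Frat.normalizer_le_normalizer_commutator P
  have hNE : Subgroup.normalizer (P : Set G) ≤ Subgroup.normalizer (E : Set G) :=
    Lib.Helper47.Frat.normalizer_le_normalizer_powComm p P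
  have hPN : P ≤ Subgroup.normalizer (P : Set G) := Subgroup.le_normalizer
  have cP' : ∀ g ∈ Subgroup.normalizer (P : Set G), ∀ a ∈ P', g * a * g⁻¹ ∈ P' :=
    fun g hg a ha => (Subgroup.mem_normalizer_iff.mp (hNP' hg) a).mp ha
  have cE : ∀ g ∈ Subgroup.normalizer (P : Set G), ∀ a ∈ E, g * a * g⁻¹ ∈ E :=
    fun g hg a ha => (Subgroup.mem_normalizer_iff.mp (hNE hg) a).mp ha
  have cP : ∀ g ∈ Subgroup.normalizer (P : Set G), ∀ a ∈ P, g * a * g⁻¹ ∈ P :=
    fun g hg a ha => (Subgroup.mem_normalizer_iff.mp hg a).mp ha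
  -- (f2)
  have f2 : ∀ y ∈ Y, ∀ a ∈ E, ⁅y, a⁆ ∈ P' := by
    intro y hy a ha
    have hyN : y ∈ Subgroup.normalizer (P : Set G) := hH (hYH hy)
    have hyc : ∀ b ∈ P', b * y = y * b := fun b hb => Subgroup.mem_centralizer_iff.mp (hYc hy) b hb
    rw [hE] at ha
    unfold Lib.Helper47.Frat.powComm at ha
    induction ha using Subgroup.closure_induction with
    | mem z hz =>
      rcases hz with ⟨u, hu, rfl⟩ | ⟨u, hu, v, hv, rfl⟩
      · have hc : ⁅y, u⁆ ∈ P := P.mul_mem (cP y hyN u hu) (P.inv_mem hu)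
        have hcp : ⁅y, u⁆ ^ p = 1 := by
          apply hel.2
          rw [← commutatorElement_inv]
          exact Subgroup.inv_mem _ (Subgroup.commutator_mem_commutator hu hy)
        have h1 := Lib.Helper47.Frat.mul_pow_mem_commutator P hc hu p
        rw [hcp, one_mul] at h1
        have h2 : ⁅y, u ^ p⁆ = (⁅y, u⁆ * u) ^ p * (u ^ p)⁻¹ := by
          have : ⁅y, u⁆ * u = y * u * y⁻¹ := by simp [commutatorElement_def]
          rw [this, conj_pow]
          simp [commutatorElement_def]
        rw [h2]; exact h1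
      · have hb : ⁅u, v⁆ ∈ P' := Subgroup.commutator_mem_commutator hu hv
        have : ⁅y, ⁅u, v⁆⁆ = 1 := by
          rw [commutatorElement_eq_one_iff_mul_comm]; exact (hyc _ hb).symm
        rw [this]; exact P'.one_mem
    | one => simp
    | mul a b ha hb iha ihb =>
      rw [commutatorElement_mul_right_eq_mul_conj, mul_assoc, mul_assoc]
      refine P'.mul_mem iha ?_
      rw [← mul_assoc]
      have haP : a ∈ P := by
        have : a ∈ E := by rw [hE]; unfold Lib.Helper47.Frat.powComm; exact ha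
        exact hEP this
      exact cP' a (hPN haP) _ ihb
    | inv a ha iha =>
      rw [commutatorElement_inv_right]
      have haP : a ∈ P := by
        have : a ∈ E := by rw [hE]; unfold Lib.Helper47.Frat.powComm; exact ha
        exact hEP this
      have h2 : ⁅a, y⁆ ∈ P' := by
        rw [← commutatorElement_inv]; exact P'.inv_mem iha
      have := cP' a⁻¹ (hPN (P.inv_mem haP)) _ h2
      simpa using this
  -- (f3) the subgroup X
  let X : Subgroup G :=
    { carrier := {x | x ∈ Subgroup.normalizer (P : Set G) ∧ x ∈ Subgroup.centralizer (P' : Set G) ∧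
        ∀ a ∈ E, ⁅x, a⁆ ∈ P'}
      one_mem' := ⟨Subgroup.one_mem _, Subgroup.one_mem _, fun a _ => by simp⟩
      mul_mem' := by
        rintro x z ⟨hx1, hx2, hx3⟩ ⟨hz1, hz2, hz3⟩
        refine ⟨Subgroup.mul_mem _ hx1 hz1, Subgroup.mul_mem _ hx2 hz2, fun a ha => ?_⟩
        rw [commutatorElement_mul_left_eq_conj_mul]
        exact P'.mul_mem (cP' x hx1 _ (hz3 a ha)) (hx3 a ha)
      inv_mem' := by
        rintro x ⟨hx1, hx2, hx3⟩
        refine ⟨Subgroup.inv_mem _ hx1, Subgroup.inv_mem _ hx2, fun a ha => ?_⟩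
        rw [commutatorElement_inv_left]
        have h2 : ⁅a, x⁆ ∈ P' := by
          rw [← commutatorElement_inv]; exact P'.inv_mem (hx3 a ha)
        have := cP' x⁻¹ (Subgroup.inv_mem _ hx1) _ h2
        simpa using this }
  have hXmem : ∀ x, x ∈ X ↔ (x ∈ Subgroup.normalizer (P : Set G) ∧
      x ∈ Subgroup.centralizer (P' : Set G) ∧ ∀ a ∈ E, ⁅x, a⁆ ∈ P') := fun x => Iff.rfl
  have hYX : Y ≤ X := fun y hy => (hXmem y).mpr ⟨hH (hYH hy), hYc hy, f2 y hy⟩
  -- (f5)
  have hconjX : ∀ h ∈ H, ∀ x ∈ X, h * x * h⁻¹ ∈ X := by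
    intro h hh x hx
    rw [hXmem] at hx ⊢
    obtain ⟨hx1, hx2, hx3⟩ := hx
    have hhN := hH hh
    have hhN' := Subgroup.inv_mem _ hhN
    refine ⟨Subgroup.mul_mem _ (Subgroup.mul_mem _ hhN hx1) hhN', ?_, fun a ha => ?_⟩
    · rw [Subgroup.mem_centralizer_iff]
      intro a ha
      have h1 : h⁻¹ * a * h ∈ P' := by
        have := cP' h⁻¹ hhN' a ha
        simpa using this
      have h2 := Subgroup.mem_centralizer_iff.mp hx2 _ h1
      calc a * (h * x * h⁻¹) = h * ((h⁻¹ * a * h) * x) * h⁻¹ := by group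
        _ = h * (x * (h⁻¹ * a * h)) * h⁻¹ := by rw [h2]
        _ = h * x * h⁻¹ * a := by group
    · have h1 : h⁻¹ * a * h ∈ E := by
        have := cE h⁻¹ hhN' a ha
        simpa using this
      have h2 := cP' h hhN _ (hx3 _ h1)
      rw [conjugate_commutatorElement] at h2
      have h3 : h * (h⁻¹ * a * h) * h⁻¹ = a := by group
      rw [h3] at h2
      exact h2
  have hHX : H ≤ Subgroup.normalizer (X : Set G) := by
    intro h hh
    rw [Subgroup.mem_normalizer_iff]
    intro x
    refine ⟨fun hx => hconjX h hh x hx, fun hx => ?_⟩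
    have := hconjX h⁻¹ (H.inv_mem hh) _ hx
    have h2 : h⁻¹ * (h * x * h⁻¹) * h⁻¹⁻¹ = x := by group
    rw [h2] at this
    exact this
  -- (f6)
  have hNYX : NY ≤ X := by
    rw [hNY]
    have hn : (X.subgroupOf H).Normal := Subgroup.normal_subgroupOf_of_le_normalizer hHX
    have h1 : Subgroup.normalClosure ((Y.subgroupOf H : Subgroup ↥H) : Set ↥H) ≤ X.subgroupOf H := by
      apply Subgroup.normalClosure_le_normal
      intro y hy
      exact hYX hy
    rintro _ ⟨x, hx, rfl⟩
    exact h1 hx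
  -- (f7)
  have f7 : ∀ x ∈ X, ∃ k : ℕ, ∀ a ∈ E, x ^ p ^ k * a = a * x ^ p ^ k := by
    intro x hx
    rw [hXmem] at hx
    obtain ⟨hx1, hx2, hx3⟩ := hx
    obtain ⟨A, hA0, hA1, hA2⟩ : ∃ A : ℕ → Subgroup G, A 0 = ⊥ ∧ A 1 = P' ∧ ∀ i, A (i + 2) = E :=
      ⟨fun i => match i with
        | 0 => ⊥
        | 1 => P'
        | _ + 2 => E, rfl, rfl, fun _ => rfl⟩
    have hp : ∀ i, IsPGroup p (A i) := by
      intro i
      match i with
      | 0 => rw [hA0]; exact IsPGroup.of_bot
      | 1 => rw [hA1]; exact hP.to_le hP'P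
      | i + 2 => rw [hA2]; exact hP.to_le hEP
    have hN : ∀ i, x ∈ Subgroup.normalizer (A i : Set G) := by
      intro i
      match i with
      | 0 => rw [hA0, Subgroup.normalizer_eq_top]; trivial
      | 1 => rw [hA1]; exact hNP' hx1
      | i + 2 => rw [hA2]; exact hNE hx1
    have hstep : ∀ i, ∀ a ∈ A (i + 1), ⁅x, a⁆ ∈ A i := by
      intro i a ha
      match i with
      | 0 =>
        rw [hA1] at ha
        rw [hA0, Subgroup.mem_bot, commutatorElement_eq_one_iff_mul_comm]
        exact (Subgroup.mem_centralizer_iff.mp hx2 a ha).symm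
      | 1 =>
        rw [hA2] at ha
        rw [hA1]; exact hx3 a ha
      | i + 2 =>
        rw [hA2] at ha
        rw [hA2]
        exact E.mul_mem (cE x hx1 a ha) (E.inv_mem ha)
    have := Lib.Helper47.Stab.exists_pow_commute_of_chain x A hA0 hp hN hstep 2
    rw [hA2] at this
    exact this
  -- conclusion
  have hFE : (frattini ↥P).map P.subtype ≤ E := Lib.Helper47.Frat.frattini_map_le_powComm P
  refine le_trans ?_ (Subgroup.centralizer_le (show ((((frattini ↥P).map P.subtype : Subgroup G)) : Set G) ⊆ (E : Set G) from hFE))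
  unfold Cfsg.pResidual
  rw [MonoidHom.map_closure, Subgroup.closure_le]
  rintro _ ⟨g, hg, rfl⟩
  have hgX : (g : G) ∈ X := hNYX g.2
  obtain ⟨k, hk⟩ := f7 _ hgX
  have hco : (p ^ k).Coprime (orderOf (g : G)) := by
    rw [Subgroup.orderOf_coe]
    exact Nat.Coprime.pow_left k (Nat.Coprime.symm hg)
  obtain ⟨m, hm⟩ := exists_pow_eq_self_of_coprime hco
  have h1 : (g : G) ^ p ^ k ∈ Subgroup.centralizer (E : Set G) :=
    Subgroup.mem_centralizer_iff.mpr (fun a ha => (hk a ha).symm)
  have h2 := Subgroup.pow_mem _ h1 m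
  rw [hm] at h2
  exact h2

end Cfsg.Agent.S2819
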