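import Cfsg.Statements.S2822
import Cfsg.Agent.Lib.Helper47.PRed2

set_option autoImplicit false
open Cfsg

namespace Cfsg.Agent.S2822

open Cfsg.Agent.Lib.Helper47.Syl Cfsg.Agent.Lib.Helper47.PRed Cfsg.Agent.Lib.Helper47.PRed2 Cfsg.Agent.Lib.Helper47.Frat

/-- Let H be a finite group, p a prime, T a Sylow p-subgroup, and L, M subgroups of characteristic p containing T, with largest p-reduced normal subgroups Y_L, Y_M. If L·C_H(Y_M) = M·C_H(Y_M), then Y_M ≤ Y_L. -/
theorem result {H : Type*} [Group H] [Finite H] {p : ℕ} [Fact p.Prime] (T : Sylow p H) (L M : Subgroup H) (hTL : (T : Subgroup H) ≤ L) (hTM : (T : Subgroup H) ≤ M) (hL : Subgroup.centralizer (Cfsg.pCore p ↥L : Set ↥L) ≤ Cfsg.pCore p ↥L) (hM : Subgroup.centralizer (Cfsg.pCore p ↥M : Set ↥M) ≤ Cfsg.pCore p ↥M) : L ⊔ Subgroup.centralizer (((Cfsg.largestPReducedOf p M) : Subgroup H) : Set H) = M ⊔ Subgroup.centralizer (((Cfsg.largestPReducedOf p M) : Subgroup H) : Set H) → (Cfsg.largestPReducedOf p M) ≤ (Cfsg.largestPReducedOf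 p L) := by
  intro hLM
  have hYM := isRed_largest p M
  have hcharM := charp_ambient hM
  have hTsM : IsSyl p (T : Subgroup H) M := isSyl_of_sylow_le T hTM
  have hYO : Cfsg.largestPReducedOf p M ≤ Cfsg.pCoreOf p M := by
    intro y hy
    exact (mem_omegaOne_center _ (largest_le_omegaOne_center hcharM hy)).1
  have hYL : Cfsg.largestPReducedOf p M ≤ L := hYO.trans (hTsM.pCoreOf_le.trans hTL)
  have hXN := sup_centralizer_le_normalizer hYM.2.1
  have hLX : L ≤ M ⊔ Subgroup.centralizer (((Cfsg.largestPReducedOf p M) : Subgroup H) : Set H) := by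
    rw [← hLM]; exact le_sup_left
  have hMX : M ≤ L ⊔ Subgroup.centralizer (((Cfsg.largestPReducedOf p M) : Subgroup H) : Set H) := by
    rw [hLM]; exact le_sup_left
  have hLN : L ≤ Subgroup.normalizer (((Cfsg.largestPReducedOf p M) : Subgroup H) : Set H) :=
    hLX.trans hXN
  have hLC := le_normalizer_centralizer hLN
  apply IsRed.le_largest
  refine ⟨hYL, hLN, hYM.2.2.1, hYM.2.2.2.1, ?_⟩
  intro D hDL hLD hpow
  have hXD : L ⊔ Subgroup.centralizer (((Cfsg.largestPReducedOf p M) : Subgroup H) : Set H) ≤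
      Subgroup.normalizer ((D ⊔ Subgroup.centralizer (((Cfsg.largestPReducedOf p M) : Subgroup H) : Set H) : Subgroup H) : Set H) := by
    apply sup_le
    · exact le_normalizer_sup hLD hLC
    · exact le_sup_right.trans Subgroup.le_normalizer
  have hE : (D ⊔ Subgroup.centralizer (((Cfsg.largestPReducedOf p M) : Subgroup H) : Set H)) ⊓ M ≤
      Subgroup.centralizer (((Cfsg.largestPReducedOf p M) : Subgroup H) : Set H) := by
    apply hYM.le_centralizer inf_le_right
    · exact le_normalizer_inf (hMX.trans hXD) Subgroup.le_normalizer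
    · intro e he
      obtain ⟨d, hd, c, hc, rfl⟩ := exists_mul_of_mem_sup_left (hDL.trans hLC) (Subgroup.mem_inf.mp he).1
      obtain ⟨k, hk⟩ := hpow d hd
      exact ⟨k, mul_pow_mem (hLC (hDL hd)) hc hk⟩
  intro d hd
  have hd' := hLX (hDL hd)
  obtain ⟨m, hm, c, hc, rfl⟩ := exists_mul_of_mem_sup_left (le_normalizer_centralizer hYM.2.1) hd'
  have hm' : m ∈ (D ⊔ Subgroup.centralizer (((Cfsg.largestPReducedOf p M) : Subgroup H) : Set H)) ⊓ M := by
    refine Subgroup.mem_inf.mpr ⟨?_, hm⟩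
    have h1 : m = (m * c) * c⁻¹ := by group
    rw [h1]
    exact Subgroup.mul_mem _ (Subgroup.mem_sup_left hd) (Subgroup.mem_sup_right (Subgroup.inv_mem _ hc))
  exact Subgroup.mul_mem _ (hE hm') hc

end Cfsg.Agent.S2822
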