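import Cfsg.Statements.S2823
import Cfsg.Agent.Lib.Helper47.Trace
import Cfsg.Agent.Lib.Helper47.PRed2
import Cfsg.Agent.Lib.Helper47.Subn
import Cfsg.Agent.Lib.Helper46.Amalgam

set_option autoImplicit false
open Cfsg

namespace Cfsg.Agent.S2823

open Cfsg.Agent.Lib.Helper47.Basic Cfsg.Agent.Lib.Helper47.Syl Cfsg.Agent.Lib.Helper47.PRes Cfsg.Agent.Lib.Helper47.PRed Cfsg.Agent.Lib.Helper47.PRed2 Cfsg.Agent.Lib.Helper47.Subn Cfsg.Agent.Lib.Helper47.Cent Cfsg.Agent.Lib.Helper47.Frat Cfsg.Agent.Lib.Helper47.Trace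
open scoped commutatorElement

/-- Let H be a finite group, p a prime, T a Sylow p-subgroup and L a subgroup of characteristic p containing T; let Z_L be the subgroup generated by the Ω₁(Z(S)) over the Sylow p-subgroups S of L and O^p(L) the subgroup generated by the elements of L of order prime to p. Then Z_L = Ω₁(Z(L))·[Z_L, O^p(L)] and [Z_L, L] = [Z_L, O^p(L)]. -/
theorem result {H : Type*} [Group H] [Finite H] {p : ℕ} [Fact p.Prime] (T : Sylow p H) (L : Subgroup H) (hTL : (T : Subgroup H) ≤ L) (hL : Subgroup.centralizer (Cfsg.pCore p ↥L : Set ↥L) ≤ Cfsg.pCore p ↥L) : Cfsg.sylowCenterClosure p L = (Cfsg.omegaOne p (L ⊓ Subgroup.centralizer ((L : Subgroup H) : Set H))) ⊔ ⁅Cfsg.sylowCenterClosure p L, (Cfsg.pResidual p ↥L).map L.subtype⁆ ∧ ⁅Cfsg.sylowCenterClosure p L, L⁆ = ⁅Cfsg.sylowCenterClosure p L, (Cfsg.pResidual p ↥L).map L.subtype⁆ := by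
  have hp : p.Prime := Fact.out
  have hchar := charp_ambient hL
  have hVY : sylowCenterClosure p L ≤ largestPReducedOf p L := sylowCenterClosure_le_largest hchar
  have hYred := isRed_largest p L
  have hVL : sylowCenterClosure p L ≤ L := hVY.trans hYred.1
  have hab : ∀ a ∈ sylowCenterClosure p L, ∀ b ∈ sylowCenterClosure p L, a * b = b * a :=
    fun a ha b hb => hYred.2.2.1 a (hVY ha) b (hVY hb)
  have hexp : ∀ a ∈ sylowCenterClosure p L, a ^ p = 1 := fun a ha => hYred.2.2.2.1 a (hVY ha)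
  have hLV : L ≤ Subgroup.normalizer (sylowCenterClosure p L : Set H) :=
    le_normalizer_of_conj_mem fun g hg y hy =>
      Cfsg.Agent.Lib.Helper46.Amalgam.sylowCenterClosure_conj_mem L hg hy
  have hLK : L ≤ Subgroup.normalizer (pResOf p L : Set H) := le_normalizer_pResOf p L
  have hLW : L ≤ Subgroup.normalizer
      ((⁅sylowCenterClosure p L, pResOf p L⁆ : Subgroup H) : Set H) :=
    fun g hg => mem_normalizer_commutator (hLV hg) (hLK hg)
  have hWV : ⁅sylowCenterClosure p L, pResOf p L⁆ ≤ sylowCenterClosure p L := by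
    rw [Subgroup.commutator_le]
    intro v hv k hk
    have e : ⁅v, k⁆ = v * (k * v⁻¹ * k⁻¹) := by rw [commutatorElement_def]; group
    rw [e]
    exact Subgroup.mul_mem _ hv
      (conj_mem_of_mem_normalizer (hLV (pResOf_le p L hk)) (Subgroup.inv_mem _ hv))
  have hZ0 : ∀ x ∈ omegaOne p (L ⊓ Subgroup.centralizer (L : Set H)),
      x ∈ L ∧ x ∈ Subgroup.centralizer (L : Set H) ∧ x ^ p = 1 :=
    fun x hx => mem_omegaOne_center L hx
  have hZ0V : omegaOne p (L ⊓ Subgroup.centralizer (L : Set H)) ≤ sylowCenterClosure p L := by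
    intro x hx
    obtain ⟨hxL, hxC, hxp⟩ := hZ0 x hx
    obtain ⟨S, hS⟩ := exists_isSyl p L
    obtain ⟨P, _, hPS⟩ := hS.exists_sylow
    have hxO : x ∈ pCoreOf p L := hchar (Subgroup.mem_inf.mpr
      ⟨hxL, Subgroup.centralizer_le (by exact_mod_cast pCoreOf_le p L) hxC⟩)
    have hxS : x ∈ S := hS.pCoreOf_le hxO
    have hxCS : x ∈ Subgroup.centralizer (S : Set H) :=
      Subgroup.centralizer_le (by exact_mod_cast hS.1) hxC
    have h1 : x ∈ omegaOne p (S ⊓ Subgroup.centralizer (S : Set H)) :=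
      mem_omegaOne_center_of S hxS hxCS hxp
    rw [← hPS] at h1
    exact (le_iSup (fun S : Sylow p L => omegaOne p (((S : Subgroup L).map L.subtype) ⊓
      Subgroup.centralizer (((S : Subgroup L).map L.subtype : Subgroup H) : Set H))) P) h1
  have h1 : sylowCenterClosure p L = omegaOne p (L ⊓ Subgroup.centralizer (L : Set H)) ⊔
      ⁅sylowCenterClosure p L, pResOf p L⁆ := by
    apply le_antisymm _ (sup_le hZ0V hWV)
    have hgen : ∀ P : Sylow p L, omegaOne p (((P : Subgroup L).map L.subtype) ⊓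
        Subgroup.centralizer (((P : Subgroup L).map L.subtype : Subgroup H) : Set H)) ≤
        omegaOne p (L ⊓ Subgroup.centralizer (L : Set H)) ⊔
          ⁅sylowCenterClosure p L, pResOf p L⁆ := by
      intro P
      have hS := isSyl_of_sylow P
      have hSV : omegaOne p (((P : Subgroup L).map L.subtype) ⊓
          Subgroup.centralizer (((P : Subgroup L).map L.subtype : Subgroup H) : Set H)) ≤
          sylowCenterClosure p L :=
        le_iSup (fun S : Sylow p L => omegaOne p (((S : Subgroup L).map L.subtype) ⊓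
          Subgroup.centralizer (((S : Subgroup L).map L.subtype : Subgroup H) : Set H))) P
      generalize (P : Subgroup L).map L.subtype = S at hS hSV ⊢
      intro z hz
      obtain ⟨hzS, hzC, hzp⟩ := mem_omegaOne_center S hz
      have hzV : z ∈ sylowCenterClosure p L := hSV hz
      have hzW : ∀ g ∈ L, g * z * g⁻¹ * z⁻¹ ∈ ⁅sylowCenterClosure p L, pResOf p L⁆ := by
        intro g hg
        obtain ⟨t, ht, r, hr, rfl⟩ := exists_mul_pResOf hS hg
        have htz : t * z = z * t := (Subgroup.mem_centralizer_iff.mp hzC) t ht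
        have hw : ⁅r, z⁆ ∈ ⁅sylowCenterClosure p L, pResOf p L⁆ := by
          rw [Subgroup.commutator_comm]
          exact Subgroup.commutator_mem_commutator hr hzV
        have e : t * r * z * (t * r)⁻¹ * z⁻¹ = t * ⁅r, z⁆ * t⁻¹ := by
          rw [commutatorElement_def]
          have htz' : t⁻¹ * z⁻¹ = z⁻¹ * t⁻¹ := by rw [← mul_inv_rev, ← mul_inv_rev, htz]
          calc t * r * z * (t * r)⁻¹ * z⁻¹ = t * r * z * r⁻¹ * (t⁻¹ * z⁻¹) := by group
            _ = t * r * z * r⁻¹ * (z⁻¹ * t⁻¹) := by rw [htz']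
            _ = t * (r * z * r⁻¹ * z⁻¹) * t⁻¹ := by group
        rw [e]
        exact conj_mem_of_mem_normalizer (hLW (hS.1 ht)) hw
      obtain ⟨u, huV, huC, huW⟩ := exists_fixed_mul (S := S) hab hLV hzV hzC hzW
      have hnd : ¬ p ∣ S.relIndex L := by
        obtain ⟨P', hP', _⟩ := hS.exists_sylow
        have := P'.not_dvd_index
        rw [hP'] at this
        exact this
      have hco : (S.relIndex L).Coprime (orderOf z) :=
        Nat.Coprime.coprime_dvd_right (orderOf_dvd_of_pow_eq_one hzp)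
          ((Nat.Prime.coprime_iff_not_dvd hp).mpr hnd).symm
      obtain ⟨m, hm⟩ := exists_pow_eq_self_of_coprime hco
      have hcomm : Commute (u * (z ^ S.relIndex L)⁻¹) (z ^ S.relIndex L) :=
        hab _ (hWV huW) _ (Subgroup.pow_mem _ hzV _)
      have e : u ^ m = (u * (z ^ S.relIndex L)⁻¹) ^ m * z := by
        have h1 : u = (u * (z ^ S.relIndex L)⁻¹) * z ^ S.relIndex L := by group
        conv_lhs => rw [h1]
        rw [hcomm.mul_pow, hm]
      have e2 : z = ((u * (z ^ S.relIndex L)⁻¹) ^ m)⁻¹ * u ^ m := by rw [e]; group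
      rw [e2]
      exact Subgroup.mul_mem _ (Subgroup.mem_sup_right (Subgroup.inv_mem _ (Subgroup.pow_mem _ huW m)))
        (Subgroup.mem_sup_left (mem_omegaOne_center_of L (hVL (Subgroup.pow_mem _ huV m))
          (Subgroup.pow_mem _ huC m) (hexp _ (Subgroup.pow_mem _ huV m))))
    exact iSup_le hgen
  have h2 : ⁅sylowCenterClosure p L, L⁆ = ⁅sylowCenterClosure p L, pResOf p L⁆ := by
    apply le_antisymm _ (Subgroup.commutator_mono le_rfl (pResOf_le p L))
    rw [Subgroup.commutator_le]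
    intro v hv g hg
    rw [h1] at hv
    obtain ⟨c, hc, w, hw, rfl⟩ := exists_mul_of_mem_sup_left (fun x hx => hLW ((hZ0 x hx).1)) hv
    obtain ⟨hcL, hcC, _⟩ := hZ0 c hc
    have hgc : g * c = c * g := (Subgroup.mem_centralizer_iff.mp hcC) g hg
    have hwg : ⁅w, g⁆ ∈ ⁅sylowCenterClosure p L, pResOf p L⁆ := by
      have e : ⁅w, g⁆ = w * (g * w⁻¹ * g⁻¹) := by rw [commutatorElement_def]; group
      rw [e]
      exact Subgroup.mul_mem _ hw (conj_mem_of_mem_normalizer (hLW hg) (Subgroup.inv_mem _ hw))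
    have e : ⁅c * w, g⁆ = c * ⁅w, g⁆ * c⁻¹ := by
      rw [commutatorElement_def, commutatorElement_def]
      have h' : c⁻¹ * g⁻¹ = g⁻¹ * c⁻¹ := by rw [← mul_inv_rev, ← mul_inv_rev, hgc]
      calc c * w * g * (c * w)⁻¹ * g⁻¹ = c * w * g * w⁻¹ * (c⁻¹ * g⁻¹) := by group
        _ = c * w * g * w⁻¹ * (g⁻¹ * c⁻¹) := by rw [h']
        _ = c * (w * g * w⁻¹ * g⁻¹) * c⁻¹ := by group
    rw [e]
    exact conj_mem_of_mem_normalizer (hLW hcL) hwg
  exact ⟨h1, h2⟩

end Cfsg.Agent.S2823
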