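import Cfsg.Statements.S2825
import Cfsg.Agent.Lib.Helper47.PRed3

set_option autoImplicit false
open Cfsg

namespace Cfsg.Agent.S2825

open Cfsg.Agent.Lib.Helper47.Syl Cfsg.Agent.Lib.Helper47.PRes Cfsg.Agent.Lib.Helper47.PRed Cfsg.Agent.Lib.Helper47.Subn Cfsg.Agent.Lib.Helper47.Cent Cfsg.Agent.Lib.Helper47.PRed3
open scoped commutatorElement

/-- Let L be a subnormal subgroup of the finite group H, p a prime, Y_H and Y_L the largest p-reduced normal subgroups. Then Y_H ∩ L = Y_H ∩ Y_L and this subgroup is a p-reduced normal subgroup of L; C_L(Y_L) = C_L(Y_H) = C_L(Y_H ∩ L); and if O^p(H) ≤ L, then [Y_L, L] = 1 if and only if [Y_H, H] = 1. -/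
theorem result {H : Type*} [Group H] [Finite H] {p : ℕ} [Fact p.Prime] (L : Subgroup H) (hL : L.IsSubnormal) : Cfsg.largestPReduced p H ⊓ L = Cfsg.largestPReduced p H ⊓ (Cfsg.largestPReducedOf p L) ∧ Cfsg.IsPReducedNormal p ((Cfsg.largestPReduced p H ⊓ L).subgroupOf L) ∧ L ⊓ Subgroup.centralizer ((Cfsg.largestPReducedOf p L : Subgroup H) : Set H) = L ⊓ Subgroup.centralizer (Cfsg.largestPReduced p H : Set H) ∧ L ⊓ Subgroup.centralizer (Cfsg.largestPReduced p H : Set H) = L ⊓ Subgroup.centralizer ((Cfsg.largestPReduced p H ⊓ L : Subgroup H) : Set H) ∧ (Cfsg.pResidual p H ≤ L → (⁅(Cfsg.largestPReducedOf p L), L⁆ = ⊥ ↔ ⁅Cfsg.largestPReduced p H, (⊤ : Subgroup H)⁆ = ⊥)) := by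
  have hYred : IsRed p (Cfsg.largestPReduced p H) ⊤ :=
    (isPReducedNormal_iff_isRed_top _).mp (isPReducedNormal_largest p H)
  obtain ⟨hYn, _, hCn, hO⟩ := isPReducedNormal_largest p H
  have := hCn
  have hYp : IsPGroup p (Cfsg.largestPReduced p H) := fun v => ⟨1, by
    rw [pow_one]
    exact Subtype.ext (by simpa using hYred.2.2.2.1 v v.2)⟩
  have hNY : ∀ X : Subgroup H, X ≤ Subgroup.normalizer (Cfsg.largestPReduced p H : Set H) :=
    fun X => by rw [Subgroup.normalizer_eq_top_iff.mpr hYn]; exact le_top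
  have hYE : Cfsg.largestPReduced p H ≤ Subgroup.normalizer (pResOf p L : Set H) :=
    le_normalizer_pResOf_of_subnormal hL hYn hYp
  -- the core lemma
  have hX : ∀ D : Subgroup H, D ≤ L → L ≤ Subgroup.normalizer (D : Set H) →
      (∀ d ∈ D, ∃ k : ℕ, d ^ p ^ k ∈
        Subgroup.centralizer ((Cfsg.largestPReduced p H ⊓ L : Subgroup H) : Set H)) →
      D ≤ Subgroup.centralizer (Cfsg.largestPReduced p H : Set H) := by
    intro D hDL hLD hpow
    have hDsub : D.IsSubnormal :=
      Subgroup.IsSubnormal.step D L hDL hL (Subgroup.normal_subgroupOf_of_le_normalizer hLD)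
    apply le_of_subnormal_of_pow_mem hO hDsub
    intro d hd
    obtain ⟨k, hk⟩ := exists_pow_mem_pResOf (p := p) hd
    refine ⟨k, ?_⟩
    refine pResOf_le_of_coprime_mem ?_ hk
    intro x hx hco
    have hxE : x ∈ pResOf p L := mem_pResOf_of_coprime (hDL hx) hco
    obtain ⟨k', hk'⟩ := hpow x hx
    have hxC : x ∈ Subgroup.centralizer ((Cfsg.largestPReduced p H ⊓ L : Subgroup H) : Set H) :=
      coprime_mem_of_pow_mem hco hk'
    rw [Subgroup.mem_centralizer_iff]
    intro v hv
    have hcomY : ⁅x, v⁆ ∈ Cfsg.largestPReduced p H := by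
      have e : ⁅x, v⁆ = (x * v * x⁻¹) * v⁻¹ := by rw [commutatorElement_def]
      rw [e]
      exact Subgroup.mul_mem _ (hYn.conj_mem v hv x) (Subgroup.inv_mem _ hv)
    have hcomL : ⁅x, v⁆ ∈ L := by
      have e : ⁅x, v⁆ = x * (v * x⁻¹ * v⁻¹) := by rw [commutatorElement_def]; group
      rw [e]
      exact pResOf_le p L (Subgroup.mul_mem _ hxE
        (conj_mem_of_mem_normalizer (hYE hv) (Subgroup.inv_mem _ hxE)))
    have hc : x * ⁅x, v⁆ = ⁅x, v⁆ * x := by
      rw [Subgroup.mem_centralizer_iff] at hxC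
      exact (hxC _ (Subgroup.mem_inf.mpr ⟨hcomY, hcomL⟩)).symm
    exact (commute_of_coprime_of_commutator_commute hc (hYred.2.2.2.1 _ hcomY) hco).symm
  -- (2)
  have hred : IsRed p (Cfsg.largestPReduced p H ⊓ L) L := by
    refine ⟨inf_le_right, le_normalizer_inf (hNY L) Subgroup.le_normalizer, ?_, ?_, ?_⟩
    · intro a ha b hb
      exact hYred.2.2.1 a (Subgroup.mem_inf.mp ha).1 b (Subgroup.mem_inf.mp hb).1
    · intro a ha
      exact hYred.2.2.2.1 a (Subgroup.mem_inf.mp ha).1
    · intro D hDL hLD hpow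
      exact (hX D hDL hLD hpow).trans (Subgroup.centralizer_le (by exact_mod_cast inf_le_left))
  have hYLL : Cfsg.largestPReducedOf p L ≤ L := (isRed_largest p L).1
  have h1 : Cfsg.largestPReduced p H ⊓ L = Cfsg.largestPReduced p H ⊓ Cfsg.largestPReducedOf p L :=
    le_antisymm (le_inf inf_le_left hred.le_largest) (inf_le_inf_left _ hYLL)
  have h4 : L ⊓ Subgroup.centralizer (Cfsg.largestPReduced p H : Set H) =
      L ⊓ Subgroup.centralizer ((Cfsg.largestPReduced p H ⊓ L : Subgroup H) : Set H) := by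
    apply le_antisymm
    · exact inf_le_inf_left _ (Subgroup.centralizer_le (by exact_mod_cast inf_le_left))
    · refine le_inf inf_le_left ?_
      apply hX _ inf_le_left
        (le_normalizer_inf Subgroup.le_normalizer (le_normalizer_centralizer hred.2.1))
      intro d hd
      exact ⟨0, by simpa using (Subgroup.mem_inf.mp hd).2⟩
  have h3 : L ⊓ Subgroup.centralizer ((Cfsg.largestPReducedOf p L : Subgroup H) : Set H) =
      L ⊓ Subgroup.centralizer (Cfsg.largestPReduced p H : Set H) := by
    apply le_antisymm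
    · rw [h4]
      exact inf_le_inf_left _ (Subgroup.centralizer_le (by exact_mod_cast hred.le_largest))
    · refine le_inf inf_le_left ?_
      apply (isRed_largest p L).le_centralizer inf_le_left
        (le_normalizer_inf Subgroup.le_normalizer (le_normalizer_centralizer (hNY L)))
      intro d hd
      obtain ⟨k, hk⟩ := exists_pow_mem_pResOf (p := p) hd
      refine ⟨k, ?_⟩
      refine pResOf_le_of_coprime_mem ?_ hk
      intro x hx hco
      exact coprime_centralizes_largest_of_subnormal hL x (Subgroup.mem_inf.mp hx).1 hco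
        (Subgroup.mem_inf.mp hx).2
  refine ⟨h1, ?_, h3, h4, ?_⟩
  · rw [isPReducedNormal_iff, Subgroup.map_subgroupOf_eq_of_le inf_le_right]
    exact hred
  · intro hRes
    rw [Subgroup.commutator_eq_bot_iff_le_centralizer, Subgroup.commutator_eq_bot_iff_le_centralizer]
    constructor
    · intro h
      have hLC : L ≤ Subgroup.centralizer ((Cfsg.largestPReducedOf p L : Subgroup H) : Set H) :=
        le_centralizer_comm h
      have hLC2 : L ≤ Subgroup.centralizer (Cfsg.largestPReduced p H : Set H) := by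
        have : L ≤ L ⊓ Subgroup.centralizer ((Cfsg.largestPReducedOf p L : Subgroup H) : Set H) :=
          le_inf le_rfl hLC
        rw [h3] at this
        exact this.trans inf_le_right
      apply le_centralizer_comm
      apply hYred.le_centralizer le_top (by rw [Subgroup.normalizer_eq_top_iff.mpr inferInstance])
      intro d _
      obtain ⟨k, hk⟩ := exists_pow_mem_pResOf (p := p) (Subgroup.mem_top d)
      refine ⟨k, ?_⟩
      rw [pResOf_top] at hk
      exact hLC2 (hRes hk)
    · intro h
      have hTC : (⊤ : Subgroup H) ≤ Subgroup.centralizer (Cfsg.largestPReduced p H : Set H) :=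
        le_centralizer_comm h
      have hLC : L ≤ L ⊓ Subgroup.centralizer (Cfsg.largestPReduced p H : Set H) :=
        le_inf le_rfl (le_top.trans hTC)
      rw [← h3] at hLC
      exact le_centralizer_comm (hLC.trans inf_le_right)

end Cfsg.Agent.S2825
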