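import Cfsg.Statements.S2827
import Cfsg.Agent.Lib.Helper47.Qs
import Cfsg.Agent.Lib.Helper47.Subn

set_option autoImplicit false
open Cfsg

namespace Cfsg.Agent.S2827

open Cfsg.Agent.Lib.Helper47.Basic Cfsg.Agent.Lib.Helper47.Syl Cfsg.Agent.Lib.Helper47.PRes Cfsg.Agent.Lib.Helper47.PRed Cfsg.Agent.Lib.Helper47.Subn Cfsg.Agent.Lib.Helper47.Cent Cfsg.Agent.Lib.Helper47.Qs
open scoped commutatorElement

/-- Let H be a finite p-irreducible group (not p-closed, and O^p(H) lies in every normal subgroup that is not p-closed) and T a Sylow p-subgroup. Then H is generated by the conjugates of T and H = H'·T; O^p(H) ≤ H'; and for every normal subgroup Y of T not contained in O_p(H), O^p(H) = [O^p(H), Y] and O^p(H) is contained in the normal closure of Y in H. -/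
theorem result {H : Type*} [Group H] [Finite H] {p : ℕ} [Fact p.Prime] (hH : Cfsg.IsPIrreducible p H) (T : Sylow p H) : Subgroup.normalClosure ((T : Subgroup H) : Set H) = ⊤ ∧ commutator H ⊔ (T : Subgroup H) = ⊤ ∧ Cfsg.pResidual p H ≤ commutator H ∧ ∀ Y : Subgroup H, Y ≤ (T : Subgroup H) → (T : Subgroup H) ≤ Subgroup.normalizer (Y : Set H) → ¬ Y ≤ Cfsg.pCore p H → ⁅Cfsg.pResidual p H, Y⁆ = Cfsg.pResidual p H ∧ Cfsg.pResidual p H ≤ Subgroup.normalClosure (Y : Set H) := by
  obtain ⟨hnc, hirr⟩ := hH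
  have hTn : ¬ (T : Subgroup H).Normal := fun h => hnc ((isPClosed_top_iff T).mpr h)
  have hKn : (Cfsg.pResidual p H).Normal := pResidual_normal p H
  have hTK : ∀ x : H, ∃ t ∈ (T : Subgroup H), ∃ r ∈ Cfsg.pResidual p H, x = t * r := by
    intro x
    have := exists_mul_pResOf (isSyl_top T) (Subgroup.mem_top x)
    rwa [pResOf_top] at this
  have hnorm : ∀ N : Subgroup H, N.Normal → ∀ X : Subgroup H,
      X ≤ Subgroup.normalizer (N : Set H) := fun N hN X => by
    rw [Subgroup.normalizer_eq_top_iff.mpr hN]; exact le_top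
  -- a normal subgroup containing a p-subgroup not in O_p(H) is not p-closed
  have hkey : ∀ (N : Subgroup H), N.Normal → ∀ Y : Subgroup H, IsPGroup p Y → Y ≤ N →
      ¬ Y ≤ Cfsg.pCore p H → Cfsg.pResidual p H ≤ N := by
    intro N hN Y hYp hYN hY
    apply hirr N hN
    intro hcl
    apply hY
    obtain ⟨P, hP, hYP⟩ := exists_isSyl_ge hYp hYN
    have hNP : N ≤ Subgroup.normalizer (P : Set H) := (isPClosed_iff N).mp hcl P hP
    have hPn : P.Normal := by
      rw [← Subgroup.normalizer_eq_top_iff, eq_top_iff]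
      intro g _
      apply mem_normalizer_of_map_conj_le
      apply hP.le_of_normal hNP (hP.2.1.map _)
      have h1 : P.map (MulAut.conj g).toMonoidHom ≤ N.map (MulAut.conj g).toMonoidHom :=
        Subgroup.map_mono hP.1
      rwa [map_conj_eq_of_mem_normalizer (hnorm N hN ⊤ (Subgroup.mem_top g))] at h1
    exact hYP.trans (le_pCore hPn hP.2.1)
  have hTnot : ¬ (T : Subgroup H) ≤ Cfsg.pCore p H := by
    intro h
    apply hTn
    have h1 : (T : Subgroup H) = Cfsg.pCore p H := le_antisymm h (pCore_le_sylow T)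
    rw [h1]
    exact pCore_normal p H
  -- (1)
  have h1 : Subgroup.normalClosure ((T : Subgroup H) : Set H) = ⊤ := by
    have hK := hkey _ Subgroup.normalClosure_normal (T : Subgroup H) T.isPGroup'
      Subgroup.le_normalClosure hTnot
    rw [eq_top_iff]
    intro x _
    obtain ⟨t, ht, r, hr, rfl⟩ := hTK x
    exact Subgroup.mul_mem _ (Subgroup.le_normalClosure ht) (hK hr)
  have hcn : (commutator H).Normal := inferInstance
  -- (2)
  have h2 : commutator H ⊔ (T : Subgroup H) = ⊤ := by
    have hMn : (commutator H ⊔ (T : Subgroup H)).Normal := by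
      refine ⟨fun m hm g => ?_⟩
      have e : g * m * g⁻¹ = ⁅g, m⁆ * m := by rw [commutatorElement_def]; group
      rw [e]
      refine Subgroup.mul_mem _ (Subgroup.mem_sup_left ?_) hm
      rw [commutator_def]
      exact Subgroup.commutator_mem_commutator (Subgroup.mem_top g) (Subgroup.mem_top m)
    rw [eq_top_iff, ← h1]
    exact Subgroup.normalClosure_le_normal (by exact_mod_cast (le_sup_right : (T : Subgroup H) ≤ _))
  -- (3)
  have h3 : Cfsg.pResidual p H ≤ commutator H := by
    rw [← pResOf_top]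
    apply pResOf_le_of_coprime_mem
    intro x _ hco
    have hx : x ∈ (T : Subgroup H) ⊔ commutator H := by rw [sup_comm, h2]; exact Subgroup.mem_top x
    obtain ⟨t, ht, c, hc, rfl⟩ := exists_mul_of_mem_sup_left (hnorm _ hcn _) hx
    obtain ⟨k, hk⟩ := T.isPGroup' ⟨t, ht⟩
    have hk' : t ^ p ^ k = 1 := by simpa using congrArg Subtype.val hk
    apply coprime_mem_of_pow_mem hco (k := k)
    apply mul_pow_mem (hnorm _ hcn _ ht) hc
    rw [hk']
    exact Subgroup.one_mem _
  refine ⟨h1, h2, h3, ?_⟩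
  intro Y hYT hTY hY
  have hYp : IsPGroup p Y := T.isPGroup'.to_le hYT
  have hKN : Cfsg.pResidual p H ≤ Subgroup.normalClosure (Y : Set H) :=
    hkey _ Subgroup.normalClosure_normal Y hYp Subgroup.le_normalClosure hY
  refine ⟨?_, hKN⟩
  apply le_antisymm (Subgroup.commutator_le_left _ _)
  -- B := [K, Y] is normal in H
  have hBK : Cfsg.pResidual p H ≤
      Subgroup.normalizer ((⁅Cfsg.pResidual p H, Y⁆ : Subgroup H) : Set H) :=
    le_normalizer_commutator _ _
  have hBT : (T : Subgroup H) ≤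
      Subgroup.normalizer ((⁅Cfsg.pResidual p H, Y⁆ : Subgroup H) : Set H) :=
    fun t ht => mem_normalizer_commutator (hnorm _ hKn _ ht) (hTY ht)
  have hBn : (⁅Cfsg.pResidual p H, Y⁆ : Subgroup H).Normal := by
    rw [← Subgroup.normalizer_eq_top_iff, eq_top_iff]
    intro g _
    obtain ⟨t, ht, r, hr, rfl⟩ := hTK g
    exact Subgroup.mul_mem _ (hBT ht) (hBK hr)
  have hYBn : (Y ⊔ ⁅Cfsg.pResidual p H, Y⁆ : Subgroup H).Normal := by
    rw [← Subgroup.normalizer_eq_top_iff, eq_top_iff]
    intro g _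
    obtain ⟨t, ht, r, hr, rfl⟩ := hTK g
    refine Subgroup.mul_mem _ (le_normalizer_sup hTY hBT ht) ?_
    apply mem_normalizer_of_map_conj_le
    rw [Subgroup.map_sup, map_conj_eq_of_mem_normalizer (hBK hr)]
    refine sup_le ?_ le_sup_right
    intro z hz
    rw [mem_map_conj] at hz
    have e : z = ⁅r, r⁻¹ * z * r⁆ * (r⁻¹ * z * r) := by rw [commutatorElement_def]; group
    rw [e]
    exact Subgroup.mul_mem _ (Subgroup.mem_sup_right (Subgroup.commutator_mem_commutator hr hz))
      (Subgroup.mem_sup_left hz)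
  have hNle : Subgroup.normalClosure (Y : Set H) ≤ Y ⊔ ⁅Cfsg.pResidual p H, Y⁆ :=
    Subgroup.normalClosure_le_normal (by exact_mod_cast (le_sup_left : Y ≤ _))
  refine (pResOf_top (G := H) p).ge.trans ?_
  apply pResOf_le_of_coprime_mem
  intro x _ hco
  have hxK : x ∈ Cfsg.pResidual p H := by
    rw [← pResOf_top]
    exact mem_pResOf_of_coprime (Subgroup.mem_top x) hco
  obtain ⟨y, hy, b, hb, rfl⟩ := exists_mul_of_mem_sup_left (hnorm _ hBn _) (hNle (hKN hxK))
  obtain ⟨k, hk⟩ := hYp ⟨y, hy⟩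
  have hk' : y ^ p ^ k = 1 := by simpa using congrArg Subtype.val hk
  apply coprime_mem_of_pow_mem hco (k := k)
  apply mul_pow_mem (hnorm _ hBn _ hy) hb
  rw [hk']
  exact Subgroup.one_mem _

end Cfsg.Agent.S2827
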