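import Cfsg.Statements.S2829
import Cfsg.Agent.Lib.Helper47.Basic

set_option autoImplicit false
open Cfsg

namespace Cfsg.Agent.S2829

/-- Every strongly p-irreducible finite group is p-irreducible. -/
theorem result {H : Type*} [Group H] [Finite H] {p : ℕ} [Fact p.Prime] (hH : Cfsg.IsStronglyPIrreducible p H) : Cfsg.IsPIrreducible p H := by
  refine ⟨hH.1, fun N hN hNc => hH.2 N hN ?_⟩
  intro hle
  apply hNc
  intro P
  apply Subgroup.Normal.of_commutator_le
  intro x hx
  -- the commutator subgroup of N maps into [N, ⊤] ≤ O_p(H), and O_p(H) ∩ N ≤ P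
  have h1 : (commutator N).map N.subtype ≤ pCore p H := by
    rw [commutator_def, Subgroup.map_commutator]
    refine le_trans (Subgroup.commutator_mono ?_ le_top) hle
    exact Subgroup.map_subtype_le _
  have h2 : IsPGroup p ((pCore p H).subgroupOf N) :=
    (Lib.Helper47.Basic.pCore_isPGroup p H).comap_subtype
  haveI := Lib.Helper47.Basic.pCore_normal p H
  have h3 : ((pCore p H).subgroupOf N).Normal := inferInstance
  have h4 : (pCore p H).subgroupOf N ≤ P := h2.le_sylow_of_normal P
  apply h4
  rw [Subgroup.mem_subgroupOf]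
  exact h1 (Subgroup.mem_map_of_mem _ hx)

end Cfsg.Agent.S2829
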