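import Cfsg.Statements.S2830
import Cfsg.Agent.Lib.Helper47.PClosed
import Cfsg.Agent.Lib.Helper47.PRed

set_option autoImplicit false
open Cfsg

namespace Cfsg.Agent.S2830

open Cfsg.Agent.Lib.Helper47.Basic Cfsg.Agent.Lib.Helper47.Syl Cfsg.Agent.Lib.Helper47.PRes Cfsg.Agent.Lib.Helper47.PRed Cfsg.Agent.Lib.Helper47.Cent Cfsg.Agent.Lib.Helper47.PClosed

/-- Let H act by conjugation on the elementary abelian p-subgroup V of a finite group G (H ≤ N(V)), with H p-irreducible and O^p(H) not centralizing V. Then C_H(V) is p-closed and C_T(V) ≤ O_p(H) for every p-subgroup T of H. If in addition O_p(H) centralizes V, then C_T(V) = T ∩ O_p(H) for every p-subgroup T of H, and V is p-reduced for H: O_p(H/C_H(V)) = 1. -/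
theorem result {G : Type*} [Group G] [Finite G] {p : ℕ} [Fact p.Prime] (V H : Subgroup G) (hV : Cfsg.IsElementaryAbelian p V) (hHV : H ≤ Subgroup.normalizer (V : Set G)) (hH : Cfsg.IsPIrreducible p ↥H) (hnc : ¬ (Cfsg.pResidual p ↥H).map H.subtype ≤ Subgroup.centralizer (V : Set G)) [hn : ((Subgroup.centralizer (V : Set G)).subgroupOf H).Normal] : Cfsg.IsPClosed p ↥(H ⊓ Subgroup.centralizer (V : Set G)) ∧ (∀ T : Subgroup G, T ≤ H → IsPGroup p ↥T → T ⊓ Subgroup.centralizer (V : Set G) ≤ Cfsg.pCoreOf p H) ∧ (Cfsg.pCoreOf p H ≤ Subgroup.centralizer (V : Set G) → (∀ T : Subgroup G, T ≤ H → IsPGroup p ↥T → T ⊓ Subgroup.centralizer (V : Set G) = T ⊓ Cfsg.pCoreOf p H) ∧ Cfsg.pCore p (↥H ⧸ (Subgroup.centralizer (V : Set G)).subgroupOf H) = ⊥) := by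
  have hHH : H ≤ Subgroup.normalizer (H : Set G) := Subgroup.le_normalizer
  have hNn : H ≤ Subgroup.normalizer
      ((H ⊓ Subgroup.centralizer (V : Set G) : Subgroup G) : Set G) :=
    le_normalizer_inf hHH (le_normalizer_centralizer hHV)
  have hcl : IsPClosed p ↥(H ⊓ Subgroup.centralizer (V : Set G)) := by
    by_contra hcon
    exact hnc ((pResOf_le_of_isPIrreducible hH inf_le_left hNn hcon).trans inf_le_right)
  have hb : ∀ T : Subgroup G, T ≤ H → IsPGroup p ↥T →
      T ⊓ Subgroup.centralizer (V : Set G) ≤ Cfsg.pCoreOf p H := by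
    intro T hTH hT
    exact le_pCoreOf_of_isPGroup_of_isPClosed inf_le_left hNn hcl (hT.to_le inf_le_left)
      (inf_le_inf_right _ hTH)
  refine ⟨hcl, hb, fun hO => ⟨fun T hTH hT =>
    le_antisymm (le_inf inf_le_left (hb T hTH hT)) (inf_le_inf_left _ hO), ?_⟩⟩
  rw [pCore_quotient_eq_bot_iff]
  intro D' hD'n hpow
  have hDH : D'.map H.subtype ≤ H := Subgroup.map_subtype_le _
  have hDn : H ≤ Subgroup.normalizer ((D'.map H.subtype : Subgroup G) : Set G) :=
    le_normalizer_map_subtype D'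
  have hpow' : ∀ d ∈ D'.map H.subtype, ∃ k : ℕ,
      d ^ p ^ k ∈ Subgroup.centralizer (V : Set G) := by
    rintro d ⟨d', hd', rfl⟩
    obtain ⟨k, hk⟩ := hpow d' hd'
    exact ⟨k, by simpa using Subgroup.mem_subgroupOf.mp hk⟩
  have hDcl : IsPClosed p ↥(D'.map H.subtype) := by
    by_contra hcon
    have h1 := pResOf_le_of_isPIrreducible hH hDH hDn hcon
    apply hnc
    exact pResOf_le_of_coprime_mem (fun x hx hco => by
      obtain ⟨k, hk⟩ := hpow' x (h1 (mem_pResOf_of_coprime hx hco))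
      exact coprime_mem_of_pow_mem hco hk)
  have hDC : D'.map H.subtype ≤ Subgroup.centralizer (V : Set G) := by
    obtain ⟨P, hP⟩ := exists_isSyl p (D'.map H.subtype)
    have hPC : P ≤ Subgroup.centralizer (V : Set G) :=
      (le_pCoreOf_of_isPClosed hDH hDn hDcl hP).trans hO
    intro d hd
    obtain ⟨t, ht, r, hr, rfl⟩ := exists_mul_pResOf hP hd
    exact Subgroup.mul_mem _ (hPC ht) (pResOf_le_of_pow_mem hpow' hr)
  intro d hd
  exact Subgroup.mem_subgroupOf.mpr (hDC ⟨d, hd, rfl⟩)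

end Cfsg.Agent.S2830
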