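import Cfsg.Statements.S2831
import Cfsg.Agent.Lib.Helper47.PRes

set_option autoImplicit false
open Cfsg

namespace Cfsg.Agent.S2831

/-- Let H be a finite group with Sylow p-subgroup T such that H is T-minimal (H is generated by the conjugates of T and T lies in exactly one maximal subgroup of H). Then H is p-irreducible: H is not p-closed and O^p(H) lies in every normal subgroup of H that is not p-closed. -/
theorem result {H : Type*} [Group H] [Finite H] {p : ℕ} [Fact p.Prime] (T : Sylow p H) (hmin : Cfsg.IsMinimalOver (T : Subgroup H)) : Cfsg.IsPIrreducible p H := by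
  classical
  obtain ⟨hnc, M, ⟨hM, hTM⟩, hMu⟩ := hmin
  have key : ∀ K : Subgroup H, (T : Subgroup H) ≤ K → K ≠ ⊤ → K ≤ M := by
    intro K hTK hK
    rcases IsCoatomic.eq_top_or_exists_le_coatom K with h | ⟨M', hM', hKM'⟩
    · exact absurd h hK
    · have := hMu M' ⟨hM', hTK.trans hKM'⟩
      rw [← this]; exact hKM'
  refine ⟨?_, ?_⟩
  · intro h
    have hTn : (T : Subgroup H).Normal := h T
    rw [Subgroup.normalClosure_eq_self] at hnc
    rw [hnc] at hTM
    exact hM.1 (top_le_iff.mp hTM)
  · intro N hN hNc
    by_cases hNT : N ⊔ (T : Subgroup H) = ⊤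
    · rw [← Lib.Helper47.PRes.pResOf_top]
      apply Lib.Helper47.PRes.pResOf_le_of_pow_mem
      intro x _
      have hx : x ∈ N ⊔ (T : Subgroup H) := by rw [hNT]; trivial
      obtain ⟨n, hn, t, ht, rfl⟩ := Subgroup.mem_sup_of_normal_left.mp hx
      obtain ⟨k, hk⟩ := T.isPGroup' ⟨t, ht⟩
      refine ⟨k, ?_⟩
      have hk' : t ^ p ^ k = 1 := by
        have := congrArg Subtype.val hk
        simpa using this
      rw [← QuotientGroup.eq_one_iff, QuotientGroup.mk_pow, QuotientGroup.mk_mul,
        (QuotientGroup.eq_one_iff n).mpr hn, one_mul, ← QuotientGroup.mk_pow, hk']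
      rfl
    · exfalso
      apply hNc
      have hNM : N ≤ M := le_sup_left.trans (key _ le_sup_right hNT)
      have hS : Lib.Helper47.Syl.IsSyl p ((T : Subgroup H) ⊓ N) N :=
        (Lib.Helper47.Syl.isSyl_top T).inf_normal le_top (by rw [Subgroup.normalizer_eq_top])
      have hTn : (T : Subgroup H) ≤ Subgroup.normalizer (((T : Subgroup H) ⊓ N : Subgroup H) : Set H) := by
        intro t ht
        apply Lib.Helper47.Syl.mem_normalizer_of_map_conj_le
        intro x hx
        rw [Lib.Helper47.Syl.mem_map_conj] at hx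
        have h3 : x = t * (t⁻¹ * x * t) * t⁻¹ := by group
        rw [h3]
        exact ⟨Subgroup.mul_mem _ (Subgroup.mul_mem _ ht hx.1) (Subgroup.inv_mem _ ht),
          hN.conj_mem _ hx.2 t⟩
      have htop : Subgroup.normalizer (((T : Subgroup H) ⊓ N : Subgroup H) : Set H) = ⊤ := by
        by_contra hne
        have hle := key _ hTn hne
        apply hM.1
        rw [eq_top_iff]
        intro g _
        obtain ⟨n, hn, x, hx, rfl⟩ := hS.frattini (L := ⊤) le_top
          (by rw [Subgroup.normalizer_eq_top]) (Subgroup.mem_top g)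
        exact M.mul_mem (hNM hn) (hle hx.2)
      exact Lib.Helper47.Syl.isPClosed_of_isSyl_normal hS (by rw [htop]; exact le_top)

end Cfsg.Agent.S2831
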