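import Cfsg.Statements.S2832
import Cfsg.Agent.Lib.Helper47.Syl
import Cfsg.Agent.Lib.Helper47.Quot

set_option autoImplicit false
open Cfsg

namespace Cfsg.Agent.S2832

/-- Let H be a finite group with Sylow p-subgroup T such that H is T-minimal (generated by the conjugates of T, with T in exactly one maximal subgroup), and let N be a normal subgroup of H. Then either H/N is a p-group or H/N is minimal over the image of T in the same sense. -/
theorem result {H : Type*} [Group H] [Finite H] {p : ℕ} [Fact p.Prime] (T : Sylow p H) (hmin : Cfsg.IsMinimalOver (T : Subgroup H)) (N : Subgroup H) [N.Normal] : IsPGroup p (H ⧸ N) ∨ Cfsg.IsMinimalOver ((T : Subgroup H).map (QuotientGroup.mk' N)) := by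
  classical
  obtain ⟨hnc, M, ⟨hM, hTM⟩, hMu⟩ := hmin
  by_cases hNT : N ⊔ (T : Subgroup H) = ⊤
  · left
    exact Lib.Helper47.Quot.isPGroup_quotient_of_sup_eq_top T.isPGroup' hNT
  · right
    have hsurj := QuotientGroup.mk'_surjective N
    obtain ⟨M', hM', hle⟩ := Lib.Helper47.Syl.exists_coatom_ge hNT
    have hMM' : M' = M := hMu M' ⟨hM', le_sup_right.trans hle⟩
    have hNM : N ≤ M := hMM' ▸ le_sup_left.trans hle
    refine ⟨?_, M.map (QuotientGroup.mk' N), ⟨Lib.Helper47.Quot.isCoatom_map_mk' hM hNM,
      Subgroup.map_mono hTM⟩, ?_⟩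
    · have h1 := Subgroup.map_normalClosure ((T : Subgroup H) : Set H) (QuotientGroup.mk' N) hsurj
      rw [hnc, Subgroup.map_top_of_surjective _ hsurj] at h1
      rw [h1]
      rfl
    · rintro K ⟨hK, hTK⟩
      have h1 : IsCoatom (K.comap (QuotientGroup.mk' N)) := Subgroup.isCoatom_comap_of_surjective hsurj hK
      have h2 : (T : Subgroup H) ≤ K.comap (QuotientGroup.mk' N) :=
        (Subgroup.le_comap_map _ _).trans (Subgroup.comap_mono hTK)
      have h3 := hMu _ ⟨h1, h2⟩
      rw [← h3, Subgroup.map_comap_eq_self_of_surjective hsurj]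

end Cfsg.Agent.S2832
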