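import Cfsg.Statements.S2833
import Mathlib

set_option autoImplicit false
open Cfsg

namespace Cfsg.Agent.S2833

open scoped commutatorElement

/-- Let V be a subgroup of a finite group G normalized by the subgroup L, let X ≤ L and g ∈ L with [V, X, X] = 1 and L generated by X and gXg⁻¹. Put W = [V, L]. Then W = [V, X]·[V, gXg⁻¹], C_W(X) = [V, X], and C_W(L) = [V, X] ∩ [V, gXg⁻¹]. -/
theorem result {G : Type*} [Group G] [Finite G] (V L : Subgroup G) (hLV : L ≤ Subgroup.normalizer (V : Set G)) (X : Subgroup G) (hX : X ≤ L) (g : G) (hg : g ∈ L) (hq : ⁅⁅V, X⁆, X⁆ = ⊥) (hgen : X ⊔ X.map (MulAut.conj g).toMonoidHom = L) (W : Subgroup G) (hW : W = ⁅V, L⁆) : ⁅V, X⁆ ⊔ ⁅V, X.map (MulAut.conj g).toMonoidHom⁆ = W ∧ W ⊓ Subgroup.centralizer (X : Set G) = ⁅V, X⁆ ∧ W ⊓ Subgroup.centralizer (L : Set G) = ⁅V, X⁆ ⊓ ⁅V, X.map (MulAut.conj g).toMonoidHom⁆ := by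
  classical
  set Xg : Subgroup G := X.map (MulAut.conj g).toMonoidHom with hXg
  set A : Subgroup G := ⁅V, X⁆ with hA
  set B : Subgroup G := ⁅V, Xg⁆ with hB
  have hXgL : Xg ≤ L := by rw [← hgen]; exact le_sup_right
  have hXL : X ≤ L := hX
  have hAV : A ≤ V := Subgroup.le_normalizer_iff_commutator_le_left.mp (hX.trans hLV)
  have hBV : B ≤ V := Subgroup.le_normalizer_iff_commutator_le_left.mp (hXgL.trans hLV)
  have hgV : V.map (MulAut.conj g).toMonoidHom = V :=
    Subgroup.mem_normalizer_iff_map_conj_eq.mp (hLV hg)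
  have hBA : B = A.map (MulAut.conj g).toMonoidHom := by
    rw [hA, Subgroup.map_commutator, hgV]
  have hAX : A ≤ Subgroup.centralizer (X : Set G) :=
    Subgroup.commutator_eq_bot_iff_le_centralizer.mp hq
  have hBXg : B ≤ Subgroup.centralizer (Xg : Set G) := by
    apply Subgroup.commutator_eq_bot_iff_le_centralizer.mp
    have : ⁅⁅V, Xg⁆, Xg⁆ = (⁅⁅V, X⁆, X⁆).map (MulAut.conj g).toMonoidHom := by
      rw [Subgroup.map_commutator, Subgroup.map_commutator, hgV]
    rw [hB, this, hq, Subgroup.map_bot]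
  -- centralizer of L
  have hcL : ∀ b : G, b ∈ Subgroup.centralizer (X : Set G) → b ∈ Subgroup.centralizer (Xg : Set G) →
      b ∈ Subgroup.centralizer (L : Set G) := by
    intro b h1 h2
    have h1' : X ≤ Subgroup.centralizer (Subgroup.zpowers b : Set G) :=
      Subgroup.le_centralizer_iff.mp (Subgroup.zpowers_le.mpr h1)
    have h2' : Xg ≤ Subgroup.centralizer (Subgroup.zpowers b : Set G) :=
      Subgroup.le_centralizer_iff.mp (Subgroup.zpowers_le.mpr h2)
    have h3 : L ≤ Subgroup.centralizer (Subgroup.zpowers b : Set G) := by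
      rw [← hgen]; exact sup_le h1' h2'
    exact Subgroup.zpowers_le.mp (Subgroup.le_centralizer_iff.mp h3)
  set U : Subgroup G := A ⊔ B with hU
  have hUV : U ≤ V := sup_le hAV hBV
  have hXU : X ≤ Subgroup.normalizer (U : Set G) :=
    Subgroup.le_normalizer_iff_commutator_le_left.mpr
      ((Subgroup.commutator_mono hUV le_rfl).trans le_sup_left)
  have hXgU : Xg ≤ Subgroup.normalizer (U : Set G) :=
    Subgroup.le_normalizer_iff_commutator_le_left.mpr
      ((Subgroup.commutator_mono hUV le_rfl).trans le_sup_right)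
  have hLU : L ≤ Subgroup.normalizer (U : Set G) := by
    rw [← hgen]; exact sup_le hXU hXgU
  have hconj : ∀ a ∈ L, ∀ u ∈ U, a * u * a⁻¹ ∈ U := fun a ha u hu =>
    (Subgroup.mem_normalizer_iff.mp (hLU ha) u).mp hu
  -- claim 1
  have h1 : U = W := by
    apply le_antisymm
    · rw [hW]
      exact sup_le (Subgroup.commutator_mono le_rfl hX) (Subgroup.commutator_mono le_rfl hXgL)
    · rw [hW, Subgroup.commutator_le]
      intro v hv l hl
      have hl' : l ∈ Subgroup.closure ((X : Set G) ∪ (Xg : Set G)) := by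
        rw [Subgroup.closure_union, Subgroup.closure_eq, Subgroup.closure_eq, hgen]; exact hl
      have key : ∀ l ∈ Subgroup.closure ((X : Set G) ∪ (Xg : Set G)), l ∈ L ∧ ∀ v ∈ V, ⁅v, l⁆ ∈ U := by
        intro l hl
        induction hl using Subgroup.closure_induction with
        | mem x hx =>
          rcases hx with hx | hx
          · exact ⟨hX hx, fun v hv => (le_sup_left : A ≤ U) (Subgroup.commutator_mem_commutator hv hx)⟩
          · exact ⟨hXgL hx, fun v hv => (le_sup_right : B ≤ U) (Subgroup.commutator_mem_commutator hv hx)⟩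
        | one => exact ⟨L.one_mem, fun v hv => by simp⟩
        | mul a b ha hb iha ihb =>
          refine ⟨L.mul_mem iha.1 ihb.1, fun v hv => ?_⟩
          rw [commutatorElement_mul_right_eq_mul_conj, mul_assoc, mul_assoc]
          refine U.mul_mem (iha.2 v hv) ?_
          rw [← mul_assoc]
          exact hconj a iha.1 _ (ihb.2 v hv)
        | inv a ha iha =>
          refine ⟨L.inv_mem iha.1, fun v hv => ?_⟩
          rw [commutatorElement_inv_right]
          have h2 : ⁅a, v⁆ ∈ U := by
            rw [← commutatorElement_inv]; exact U.inv_mem (iha.2 v hv)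
          have := hconj a⁻¹ (L.inv_mem iha.1) _ h2
          simpa using this
      exact (key l hl').2 v hv
  have hWA : A ≤ W := h1 ▸ le_sup_left
  have hWB : B ≤ W := h1 ▸ le_sup_right
  -- claim 2
  have h2 : W ⊓ Subgroup.centralizer (X : Set G) = A := by
    apply le_antisymm
    · rintro w ⟨hwW, hwX⟩
      have hBN : B ≤ Subgroup.normalizer (A : Set G) :=
        hBV.trans (Subgroup.normalizer_commutator_ge_left V X)
      have hw : w ∈ ((A ⊔ B : Subgroup G) : Set G) := by
        have : w ∈ U := h1 ▸ hwW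
        exact this
      rw [Subgroup.coe_mul_of_right_le_normalizer_left A B hBN] at hw
      obtain ⟨a, ha, b, hb, rfl⟩ := Set.mem_mul.mp hw
      have hbX : b ∈ Subgroup.centralizer (X : Set G) := by
        have : b = a⁻¹ * (a * b) := by group
        rw [this]
        exact Subgroup.mul_mem _ (Subgroup.inv_mem _ (hAX ha)) hwX
      have hbL := hcL b hbX (hBXg hb)
      have hbA : b ∈ A := by
        rw [hBA] at hb
        obtain ⟨a', ha', rfl⟩ := hb
        have h3 := (Subgroup.mem_centralizer_iff.mp hbL) g hg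
        have h4 : (MulAut.conj g).toMonoidHom a' = a' := by
          simp only [MulEquiv.toMonoidHom_eq_coe, MonoidHom.coe_coe, MulAut.conj_apply] at h3 ⊢
          have h5 : g * (g * a' * g⁻¹) = g * a' := by rw [h3]; group
          exact mul_left_cancel h5
        rw [h4]; exact ha'
      exact A.mul_mem ha hbA
    · exact le_inf hWA hAX
  refine ⟨h1, h2, ?_⟩
  -- claim 3
  apply le_antisymm
  · rintro w ⟨hwW, hwL⟩
    have hwA : w ∈ A := by
      rw [← h2]
      exact ⟨hwW, Subgroup.centralizer_le (by exact_mod_cast hX) hwL⟩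
    refine ⟨hwA, ?_⟩
    rw [hBA]
    refine ⟨w, hwA, ?_⟩
    have h3 := (Subgroup.mem_centralizer_iff.mp hwL) g hg
    simp only [MulEquiv.toMonoidHom_eq_coe, MonoidHom.coe_coe, MulAut.conj_apply]
    rw [h3]; group
  · refine le_inf (inf_le_left.trans hWA) ?_
    intro b hb
    exact hcL b (hAX hb.1) (hBXg hb.2)

end Cfsg.Agent.S2833
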