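import Cfsg.Statements.S2834
import Cfsg.Agent.Lib.Helper31.LLemma
-- import your own Cfsg.Agent.* helpers here

set_option autoImplicit false
open Cfsg

namespace Cfsg.Agent.S2834

open Cfsg.Agent.Lib.Helper47 Cfsg.Agent.Lib.Helper47.Syl Cfsg.Agent.Lib.Helper31.LLemma in
/-- The L-Lemma: let H be a finite group with Sylow p-subgroup T such that H is T-minimal (generated by the conjugates of T, T in exactly one maximal subgroup M), and let A ≤ T with A not contained in O_p(H). Then there is a subgroup L of H containing A·O_p(H) such that (a) A·O_p(L) lies in exactly one maximal subgroup L₀ of L, and L₀ = L ∩ gMg⁻¹ for some g ∈ H; (b) L = ⟨A, xAx⁻¹⟩·O_p(L) for every x ∈ L outside L₀. -/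
theorem result {H : Type*} [Group H] [Finite H] {p : ℕ} [Fact p.Prime] (T : Sylow p H) (hmin : Cfsg.IsMinimalOver (T : Subgroup H)) (M : Subgroup H) (hM : IsCoatom M ∧ (T : Subgroup H) ≤ M) (A : Subgroup H) (hAT : A ≤ (T : Subgroup H)) (hA : ¬ A ≤ Cfsg.pCore p H) : ∃ L : Subgroup H, A ⊔ Cfsg.pCore p H ≤ L ∧ ∃ L₀ : Subgroup H, A ⊔ (Cfsg.pCoreOf p L) ≤ L₀ ∧ L₀ < L ∧ (∀ X : Subgroup H, A ⊔ (Cfsg.pCoreOf p L) ≤ X → X < L → X ≤ L₀) ∧ (∃ g : H, L₀ = L ⊓ ((M : Subgroup H).map (MulAut.conj (g : H)).toMonoidHom)) ∧ ∀ x ∈ L, x ∉ L₀ → (A ⊔ ((A : Subgroup H).map (MulAut.conj (x : H)).toMonoidHom)) ⊔ (Cfsg.pCoreOf p L) = L := by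
  classical
  have hOn : (pCore p H).Normal := Basic.pCore_normal p H
  have hOp : IsPGroup p (pCore p H) := Basic.pCore_isPGroup p H
  have hAp : IsPGroup p A := T.isPGroup'.to_le hAT
  -- `Dat p ⊤ M`
  have hDat : Dat p (⊤ : Subgroup H) M := by
    refine ⟨le_top, ?_, (T : Subgroup H), T.isPGroup', hM.2, ?_⟩
    · intro hn
      have hMn : M.Normal := Subgroup.normalizer_eq_top_iff.mp (top_le_iff.mp hn)
      have h1 : Subgroup.normalClosure ((T : Subgroup H) : Set H) ≤ M :=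
        Subgroup.normalClosure_le_normal hM.2
      rw [hmin.1] at h1
      exact hM.1.1 (top_le_iff.mp h1)
    · intro Y _ hYne hTY
      obtain ⟨M', hM'co, hYM'⟩ := exists_coatom_ge hYne
      have : M' = M := hmin.2.unique ⟨hM'co, hTY.trans hYM'⟩ hM
      exact this ▸ hYM'
  -- the `p`-group `Â = A·O_p(H)`
  set A' : Subgroup H := A ⊔ pCore p H with hA'def
  have hA'p : IsPGroup p A' := IsPGroup.to_sup_of_normal_right hAp hOp
  have hA'c : ¬ A' ≤ pCoreOf p (⊤ : Subgroup H) := by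
    rw [pCoreOf_top]
    exact fun h => hA (le_sup_left.trans h)
  obtain ⟨g, _, L, _, hA'L, hA'g, hLn, hval⟩ :=
    main p _ (⊤ : Subgroup H) rfl M hDat A' le_top hA'p hA'c
  -- minimalize `L`
  obtain ⟨L₁, hL₁L, ⟨hA'L₁, hL₁n⟩, hL₁min⟩ :=
    exists_min (fun Y : Subgroup H => A' ≤ Y ∧ ¬ Y ≤ cj g M) ⟨hA'L, hLn⟩
  have hmin' : ∀ Z : Subgroup H, Z < L₁ → A' ≤ Z → Z ≤ cj g M := by
    intro Z hZ hA'Z
    by_contra hc
    exact hL₁min Z hZ ⟨hA'Z, hc⟩
  have hval₁ : ∀ l ∈ L₁, cj l A' ≤ cj g M → l ∈ cj g M := fun l hl => hval l (hL₁L hl)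
  have hDat₁ : Dat p L₁ (L₁ ⊓ cj g M) := dat_of_min hA'p hA'L₁ hA'g hL₁n hmin' hval₁
  have hOL₁ : pCore p H ≤ pCoreOf p L₁ := by
    apply le_pCoreOf (le_sup_right.trans hA'L₁) _ hOp
    rw [Subgroup.normalizer_eq_top]
    exact le_top
  have hAL₁ : A ≤ L₁ := le_sup_left.trans hA'L₁
  have hAg : A ≤ cj g M := le_sup_left.trans hA'g
  refine ⟨L₁, hA'L₁, L₁ ⊓ cj g M, ?_, ?_, ?_, ⟨g, rfl⟩, ?_⟩
  · exact sup_le (le_inf hAL₁ hAg) hDat₁.pCoreOf_le
  · exact lt_of_le_of_ne inf_le_left hDat₁.ne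
  · intro X hX hXL
    have hA'X : A' ≤ X := sup_le (le_sup_left.trans hX) (hOL₁.trans (le_sup_right.trans hX))
    exact le_inf hXL.le (hmin' X hXL hA'X)
  · intro x hxL hxn
    by_contra hne
    set Y : Subgroup H := (A ⊔ cj x A) ⊔ pCoreOf p L₁ with hYdef
    have hYL : Y ≤ L₁ :=
      sup_le (sup_le hAL₁ (cj_le_of_mem hxL hAL₁)) (pCoreOf_le p L₁)
    have hYlt : Y < L₁ := lt_of_le_of_ne hYL hne
    have hA'Y : A' ≤ Y :=
      sup_le (le_sup_left.trans le_sup_left) (hOL₁.trans le_sup_right)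
    have hYg : Y ≤ cj g M := hmin' Y hYlt hA'Y
    apply hxn
    refine ⟨hxL, hval₁ x hxL ?_⟩
    rw [hA'def, cj_sup]
    refine sup_le ((le_sup_right.trans le_sup_left).trans hYg) ?_
    have : cj x (pCore p H) = pCore p H :=
      map_conj_eq_of_mem_normalizer (by rw [Subgroup.normalizer_eq_top]; trivial)
    rw [this]
    exact le_sup_right.trans hA'g

end Cfsg.Agent.S2834
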