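import Cfsg.Statements.S2835
import Cfsg.Agent.Lib.Helper47.Syl

set_option autoImplicit false
open Cfsg

namespace Cfsg.Agent.S2835

/-- Let L be a finite group, L₀ a maximal subgroup, T a Sylow p-subgroup of L₀ and Y ≤ T, and suppose L is Y-minimal (generated by the conjugates of Y, with Y in exactly one maximal subgroup, necessarily L₀). Then N_L(T) ≤ L₀, O_p(L) ≤ L₀ and T is a Sylow p-subgroup of L; N_L(L₀) = L₀; L = ⟨Y, gYg⁻¹⟩ for each g ∈ L outside L₀; and if Y is abelian then Y ∩ gYg⁻¹ = C_Y(L) for each such g. -/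
theorem result {L : Type*} [Group L] [Finite L] {p : ℕ} [Fact p.Prime] (L₀ : Subgroup L) (hL₀ : IsCoatom L₀) (T : Sylow p ↥L₀) (Y : Subgroup L) (hYT : Y ≤ (T : Subgroup ↥L₀).map L₀.subtype) (hmin : Cfsg.IsMinimalOver Y) : Subgroup.normalizer (((T : Subgroup ↥L₀).map L₀.subtype : Subgroup L) : Set L) ≤ L₀ ∧ Cfsg.pCore p L ≤ L₀ ∧ (∃ P : Sylow p L, (P : Subgroup L) = (T : Subgroup ↥L₀).map L₀.subtype) ∧ Subgroup.normalizer (L₀ : Set L) = L₀ ∧ (∀ g : L, g ∉ L₀ → Y ⊔ Y.map (MulAut.conj g).toMonoidHom = ⊤) ∧ (IsMulCommutative ↥Y → ∀ g : L, g ∉ L₀ → Y ⊓ Y.map (MulAut.conj g).toMonoidHom = Y ⊓ Subgroup.center L) := by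
  classical
  set T' : Subgroup L := (T : Subgroup ↥L₀).map L₀.subtype with hT'
  have hTS : Lib.Helper47.Syl.IsSyl p T' L₀ := Lib.Helper47.Syl.isSyl_of_sylow T
  obtain ⟨hnc, M, ⟨hM, hYM⟩, hMu⟩ := hmin
  have hYL₀ : Y ≤ L₀ := hYT.trans hTS.1
  have hML₀ : M = L₀ := (hMu L₀ ⟨hL₀, hYL₀⟩).symm
  have key : ∀ K : Subgroup L, Y ≤ K → K ≠ ⊤ → K ≤ L₀ := by
    intro K hYK hK
    obtain ⟨M', hM', hKM'⟩ := Lib.Helper47.Syl.exists_coatom_ge hK
    have := hMu M' ⟨hM', hYK.trans hKM'⟩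
    rw [hML₀] at this
    rw [← this]; exact hKM'
  have hnormal : ∀ K : Subgroup L, K.Normal → Y ≤ K → K = ⊤ := by
    intro K hK hYK
    rw [eq_top_iff, ← hnc]
    exact Subgroup.normalClosure_le_normal hYK
  -- (1)
  have h1 : Subgroup.normalizer (T' : Set L) ≤ L₀ := by
    apply key _ (hYT.trans Subgroup.le_normalizer)
    intro htop
    have hTn : T'.Normal := Subgroup.normalizer_eq_top_iff.mp htop
    have := hnormal T' hTn hYT
    exact hL₀.1 (top_le_iff.mp (this ▸ hTS.1))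
  -- (3)
  have hTtop : Lib.Helper47.Syl.IsSyl p T' ⊤ :=
    hTS.of_normalizer_le le_top (inf_le_right.trans h1)
  obtain ⟨P, hP⟩ := hTtop.exists_sylow_top
  -- (4)
  have h4 : Subgroup.normalizer (L₀ : Set L) = L₀ := by
    rcases (hL₀.le_iff.mp (Subgroup.le_normalizer (H := L₀))) with h | h
    · exfalso
      have hn : L₀.Normal := Subgroup.normalizer_eq_top_iff.mp h
      exact hL₀.1 (hnormal L₀ hn hYL₀)
    · exact h
  -- (5)
  have h5 : ∀ g : L, g ∉ L₀ → Y ⊔ Y.map (MulAut.conj g).toMonoidHom = ⊤ := by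
    intro g hg
    by_contra hne
    have hle := key _ le_sup_left hne
    have hYg : Y.map (MulAut.conj g).toMonoidHom ≤ L₀ := le_sup_right.trans hle
    have hY2 : Y ≤ L₀.map (MulAut.conj g⁻¹).toMonoidHom := by
      have := Subgroup.map_mono (f := (MulAut.conj g⁻¹).toMonoidHom) hYg
      rwa [Lib.Helper47.Syl.map_conj_inv_map_conj] at this
    have hco := Lib.Helper47.Syl.isCoatom_map_conj hL₀ g⁻¹
    have heq := hMu _ ⟨hco, hY2⟩
    rw [hML₀] at heq
    have hginv : g⁻¹ ∈ Subgroup.normalizer (L₀ : Set L) :=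
      Subgroup.mem_normalizer_iff_map_conj_eq.mpr heq
    rw [h4] at hginv
    exact hg (by simpa using L₀.inv_mem hginv)
  refine ⟨h1, ?_, ⟨P, hP⟩, h4, h5, ?_⟩
  · have := Lib.Helper47.Basic.pCore_le_sylow P
    intro x hx
    have hx' : x ∈ (P : Subgroup L) := this hx
    rw [hP] at hx'
    exact hTS.1 hx'
  · intro hYc g hg
    apply le_antisymm
    · intro z hz
      obtain ⟨hzY, hzYg⟩ := Subgroup.mem_inf.mp hz
      refine Subgroup.mem_inf.mpr ⟨hzY, ?_⟩
      have hc1 : Y ≤ Subgroup.centralizer ({z} : Set L) := by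
        intro y hy
        rw [Subgroup.mem_centralizer_singleton_iff]
        exact setLike_mul_comm (s := Y) hy hzY
      have hc2 : Y.map (MulAut.conj g).toMonoidHom ≤ Subgroup.centralizer ({z} : Set L) := by
        intro y hy
        rw [Subgroup.mem_centralizer_singleton_iff]
        rw [Lib.Helper47.Syl.mem_map_conj] at hy hzYg
        have := setLike_mul_comm (s := Y) hy hzYg
        calc y * z = g * ((g⁻¹ * y * g) * (g⁻¹ * z * g)) * g⁻¹ := by group
          _ = g * ((g⁻¹ * z * g) * (g⁻¹ * y * g)) * g⁻¹ := by rw [this]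
          _ = z * y := by group
      have htop : Subgroup.centralizer ({z} : Set L) = ⊤ := by
        rw [eq_top_iff, ← h5 g hg]
        exact sup_le hc1 hc2
      rw [Subgroup.mem_center_iff]
      intro x
      have hx : x ∈ Subgroup.centralizer ({z} : Set L) := by rw [htop]; trivial
      rw [Subgroup.mem_centralizer_singleton_iff] at hx
      exact hx
    · intro z hz
      obtain ⟨hzY, hzc⟩ := Subgroup.mem_inf.mp hz
      refine Subgroup.mem_inf.mpr ⟨hzY, ?_⟩
      rw [Lib.Helper47.Syl.mem_map_conj]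
      have := Subgroup.mem_center_iff.mp hzc g
      have h2 : g⁻¹ * z * g = z := by
        rw [mul_assoc, ← this]; group
      rw [h2]; exact hzY

end Cfsg.Agent.S2835
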