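import Cfsg.Statements.S2836
import Cfsg.Agent.Lib.Helper47.YMin
import Cfsg.Agent.Lib.Helper47.Quot

set_option autoImplicit false
open Cfsg

namespace Cfsg.Agent.S2836

open Cfsg.Agent.Lib.Helper47.Syl Cfsg.Agent.Lib.Helper47.PRed Cfsg.Agent.Lib.Helper47.YMin Cfsg.Agent.Lib.Helper47.Quot

/-- Let L be a finite group, L₀ a maximal subgroup, T a Sylow p-subgroup of L₀, Y ≤ T, and suppose L is Y-minimal. Let D be the intersection of the conjugates of L₀ (the core of L₀). Then D contains O_p(L) and D/O_p(L) is the Frattini subgroup of L/O_p(L), so D is p-closed; and every normal subgroup N of L contained in L₀ is p-closed with N/O_p(N) a nilpotent group of order prime to p. -/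
theorem result {L : Type*} [Group L] [Finite L] {p : ℕ} [Fact p.Prime] (L₀ : Subgroup L) (hL₀ : IsCoatom L₀) (T : Sylow p ↥L₀) (Y : Subgroup L) (hYT : Y ≤ (T : Subgroup ↥L₀).map L₀.subtype) (hmin : Cfsg.IsMinimalOver Y) : (Cfsg.pCore p L ≤ L₀.normalCore ∧ (L₀.normalCore).map (QuotientGroup.mk' (Cfsg.pCore p L)) = frattini (L ⧸ Cfsg.pCore p L) ∧ Cfsg.IsPClosed p ↥(L₀.normalCore)) ∧ ∀ (N : Subgroup L) [N.Normal], N ≤ L₀ → Cfsg.IsPClosed p ↥N ∧ Group.IsNilpotent (↥N ⧸ Cfsg.pCore p ↥N) ∧ (Nat.card (↥N ⧸ Cfsg.pCore p ↥N)).Coprime p := by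
  have hT := isSyl_of_sylow T
  have hSyl := isSyl_pCore_normalCore hmin hL₀ hT hYT
  have hRD : Cfsg.pCore p L ≤ L₀.normalCore := hSyl.1
  have hRL₀ : Cfsg.pCore p L ≤ L₀ := hRD.trans (Subgroup.normalCore_le L₀)
  have hRn : (Cfsg.pCore p L).Normal := inferInstance
  have hnormR : ∀ X : Subgroup L, X ≤ Subgroup.normalizer ((Cfsg.pCore p L : Subgroup L) : Set L) := fun X => by
    rw [Subgroup.normalizer_eq_top_iff.mpr hRn]; exact le_top
  have hsurj := QuotientGroup.mk'_surjective (Cfsg.pCore p L)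
  have hfrat : (L₀.normalCore).map (QuotientGroup.mk' (Cfsg.pCore p L)) = frattini (L ⧸ Cfsg.pCore p L) := by
    apply le_antisymm
    · unfold frattini Order.radical
      apply le_iInf₂
      intro Mb hMb
      have hM : IsCoatom (Mb.comap (QuotientGroup.mk' (Cfsg.pCore p L))) :=
        Subgroup.isCoatom_comap_of_surjective hsurj hMb
      have hRM : Cfsg.pCore p L ≤ Mb.comap (QuotientGroup.mk' (Cfsg.pCore p L)) := by
        have h0 := Subgroup.ker_le_comap (QuotientGroup.mk' (Cfsg.pCore p L)) Mb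
        rwa [QuotientGroup.ker_mk'] at h0
      have h1 := normalCore_le_coatom hmin hL₀ hT hYT hM hRM
      have h2 := Subgroup.map_mono (f := QuotientGroup.mk' (Cfsg.pCore p L)) h1
      rwa [Subgroup.map_comap_eq_self_of_surjective hsurj] at h2
    · have hFn : ((frattini (L ⧸ Cfsg.pCore p L)).comap (QuotientGroup.mk' (Cfsg.pCore p L))).Normal :=
        Subgroup.Normal.comap inferInstance _
      have hFL : (frattini (L ⧸ Cfsg.pCore p L)).comap (QuotientGroup.mk' (Cfsg.pCore p L)) ≤ L₀ := by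
        have h1 : frattini (L ⧸ Cfsg.pCore p L) ≤ L₀.map (QuotientGroup.mk' (Cfsg.pCore p L)) :=
          frattini_le_coatom (isCoatom_map_mk' hL₀ hRL₀)
        have h2 := Subgroup.comap_mono (f := QuotientGroup.mk' (Cfsg.pCore p L)) h1
        rwa [comap_map_mk' hRL₀] at h2
      have hFD : (frattini (L ⧸ Cfsg.pCore p L)).comap (QuotientGroup.mk' (Cfsg.pCore p L)) ≤ L₀.normalCore :=
        Subgroup.normal_le_normalCore.mpr hFL
      have h3 := Subgroup.map_mono (f := QuotientGroup.mk' (Cfsg.pCore p L)) hFD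
      rwa [Subgroup.map_comap_eq_self_of_surjective hsurj] at h3
  refine ⟨⟨hRD, hfrat, isPClosed_of_isSyl_normal hSyl (hnormR _)⟩, ?_⟩
  intro N hNn hNL
  have hND : N ≤ L₀.normalCore := Subgroup.normal_le_normalCore.mpr hNL
  have hnormN : ∀ X : Subgroup L, X ≤ Subgroup.normalizer ((N : Subgroup L) : Set L) := fun X => by
    rw [Subgroup.normalizer_eq_top_iff.mpr hNn]; exact le_top
  have hSN := hSyl.inf_normal hND (hnormN _)
  have hNn2 : N ≤ Subgroup.normalizer ((Cfsg.pCore p L ⊓ N : Subgroup L) : Set L) :=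
    le_normalizer_inf (hnormR N) Subgroup.le_normalizer
  have hcore : Cfsg.pCore p ↥N = (Cfsg.pCore p L).subgroupOf N := by
    rw [pCore_eq_subgroupOf, ← hSN.eq_pCoreOf hNn2, Subgroup.inf_subgroupOf_right]
  refine ⟨isPClosed_of_isSyl_normal hSN hNn2, ?_, ?_⟩
  · let φ : ↥N →* L ⧸ Cfsg.pCore p L := (QuotientGroup.mk' (Cfsg.pCore p L)).comp N.subtype
    have hrange : ∀ x : ↥N, φ x ∈ frattini (L ⧸ Cfsg.pCore p L) := by
      intro x
      rw [← hfrat]
      exact Subgroup.mem_map_of_mem _ (hND x.2)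
    have hker : Cfsg.pCore p ↥N ≤ (φ.codRestrict (frattini (L ⧸ Cfsg.pCore p L)) hrange).ker := by
      intro x hx
      rw [hcore, Subgroup.mem_subgroupOf] at hx
      rw [MonoidHom.mem_ker]
      apply Subtype.ext
      show φ x = 1
      exact (QuotientGroup.eq_one_iff _).mpr hx
    let ψ : ↥N ⧸ Cfsg.pCore p ↥N →* ↥(frattini (L ⧸ Cfsg.pCore p L)) :=
      QuotientGroup.lift (Cfsg.pCore p ↥N) (φ.codRestrict _ hrange) hker
    have hψ : Function.Injective ψ := by
      rw [injective_iff_map_eq_one]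
      intro q hq
      obtain ⟨x, rfl⟩ := QuotientGroup.mk_surjective q
      have h1 : φ x = 1 := congrArg Subtype.val hq
      have h2 : (x : L) ∈ Cfsg.pCore p L := (QuotientGroup.eq_one_iff _).mp h1
      rw [QuotientGroup.eq_one_iff, hcore, Subgroup.mem_subgroupOf]
      exact h2
    have hFnil : Group.IsNilpotent ↥(frattini (L ⧸ Cfsg.pCore p L)) := frattini_nilpotent
    have hrn : Group.IsNilpotent ↥ψ.range := inferInstance
    exact Group.nilpotent_of_mulEquiv (MonoidHom.ofInjective hψ).symm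
  · obtain ⟨P, hP, _⟩ := hSN.exists_sylow
    have h1 : ¬ p ∣ (P : Subgroup N).index := P.not_dvd_index
    rw [hP, Subgroup.inf_subgroupOf_right, ← hcore] at h1
    have hp : p.Prime := Fact.out
    exact ((Nat.Prime.coprime_iff_not_dvd hp).mpr h1).symm

end Cfsg.Agent.S2836
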