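import Cfsg.Statements.S2837
import Cfsg.Agent.Lib.Helper47.Cent
import Cfsg.Agent.Lib.Helper47.Frat
import Cfsg.Agent.Lib.Helper63.PFrattini

set_option autoImplicit false
open Cfsg

namespace Cfsg.Agent.S2837

open Cfsg.Agent.Lib.Helper47.Syl Cfsg.Agent.Lib.Helper47.Cent Cfsg.Agent.Lib.Helper47.Basic Cfsg.Agent.Lib.Helper47.Frat
open scoped commutatorElement

/-- two conjugates of `Y` under an element outside the unique maximal subgroup generate -/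
theorem sup_conj_eq_top {L : Type*} [Group L] [Finite L] (L₀ : Subgroup L) (hL₀ : IsCoatom L₀)
    (Y : Subgroup L) (hYL₀ : Y ≤ L₀) (hmin : Cfsg.IsMinimalOver Y) (g : L) (hg : g ∉ L₀) :
    Y ⊔ Y.map (MulAut.conj g).toMonoidHom = ⊤ := by
  obtain ⟨hncl, M₀, hM₀, hUniq⟩ := hmin
  have hL₀' : L₀ = M₀ := hUniq L₀ ⟨hL₀, hYL₀⟩
  by_contra hne
  obtain ⟨M, hM, hKM⟩ := exists_coatom_ge hne
  have hMe : M = M₀ := hUniq M ⟨hM, le_sup_left.trans hKM⟩
  have hYgL₀ : Y.map (MulAut.conj g).toMonoidHom ≤ L₀ := by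
    rw [hL₀', ← hMe]; exact le_sup_right.trans hKM
  have h1 : Y ≤ L₀.map (MulAut.conj g⁻¹).toMonoidHom := by
    intro y hy
    rw [mem_map_conj]
    have h := hYgL₀ (conj_mem_map_conj (g := g) hy)
    simpa using h
  have h2 : L₀.map (MulAut.conj g⁻¹).toMonoidHom = L₀ :=
    (hUniq _ ⟨isCoatom_map_conj hL₀ g⁻¹, h1⟩).trans hL₀'.symm
  have hgN : g ∈ Subgroup.normalizer (L₀ : Set L) := by
    have := mem_normalizer_iff_map_conj.mpr h2
    simpa using Subgroup.inv_mem _ this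
  rcases eq_or_lt_of_le (Subgroup.le_normalizer (H := L₀)) with h | h
  · exact hg (h ▸ hgN)
  · have htop := hL₀.2 _ h
    have hn : L₀.Normal := Subgroup.normalizer_eq_top_iff.mp htop
    have h3 : Subgroup.normalClosure (Y : Set L) ≤ L₀ := Subgroup.normalClosure_le_normal hYL₀
    rw [hncl] at h3
    exact hL₀.1 (top_le_iff.mp h3)

/-- Let L be a finite group of characteristic p, L₀ a maximal subgroup, Y an elementary abelian p-subgroup of L₀ with L Y-minimal and O_p(L) ≤ N_L(Y). Put A = the normal closure of O_p(L) ∩ Y in L. Then for every g ∈ L outside L₀: Φ(A) = A' = [A ∩ Y, A] = [A ∩ Y, A ∩ gYg⁻¹] ≤ C_Y(L), and Y ∩ gYg⁻¹ = (A ∩ Y) ∩ (A ∩ gYg⁻¹) = C_Y(L) = C_A(L). -/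
theorem result {L : Type*} [Group L] [Finite L] {p : ℕ} [Fact p.Prime] (hchar : Subgroup.centralizer (Cfsg.pCore p L : Set L) ≤ Cfsg.pCore p L) (L₀ : Subgroup L) (hL₀ : IsCoatom L₀) (Y : Subgroup L) (hYL₀ : Y ≤ L₀) (hYel : Cfsg.IsElementaryAbelian p Y) (hmin : Cfsg.IsMinimalOver Y) (hOY : Cfsg.pCore p L ≤ Subgroup.normalizer (Y : Set L)) (A : Subgroup L) (hA : A = Subgroup.normalClosure (((Cfsg.pCore p L ⊓ Y : Subgroup L)) : Set L)) (g : L) (hg : g ∉ L₀) : (frattini ↥A).map A.subtype = ⁅A, A⁆ ∧ ⁅A, A⁆ = ⁅A ⊓ Y, A⁆ ∧ ⁅A ⊓ Y, A⁆ = ⁅A ⊓ Y, A ⊓ Y.map (MulAut.conj g).toMonoidHom⁆ ∧ ⁅A ⊓ Y, A⁆ ≤ Y ⊓ Subgroup.center L ∧ Y ⊓ Y.map (MulAut.conj g).toMonoidHom = Y ⊓ Subgroup.center L ∧ (A ⊓ Y) ⊓ (A ⊓ Y.map (MulAut.conj g).toMonoidHom) = Y ⊓ Subgroup.center L ∧ A ⊓ Subgroup.center L = Y ⊓ Subgroup.center L := by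
  classical
  obtain ⟨hYc, hYp⟩ := hYel
  have htop := sup_conj_eq_top L₀ hL₀ Y hYL₀ hmin g hg
  have hQn : (Cfsg.pCore p L).Normal := pCore_normal p L
  have hQp : IsPGroup p (Cfsg.pCore p L) := pCore_isPGroup p L
  have hYcomm : ∀ a ∈ Y, ∀ b ∈ Y, a * b = b * a := fun a ha b hb =>
    congrArg Subtype.val (hYc.is_comm.comm ⟨a, ha⟩ ⟨b, hb⟩)
  have hYgcomm : ∀ a ∈ Y.map (MulAut.conj g).toMonoidHom, ∀ b ∈ Y.map (MulAut.conj g).toMonoidHom,
      a * b = b * a := by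
    intro a ha b hb
    rw [mem_map_conj] at ha hb
    have h := hYcomm _ ha _ hb
    have e1 : a * b = g * (g⁻¹ * a * g * (g⁻¹ * b * g)) * g⁻¹ := by group
    have e2 : b * a = g * (g⁻¹ * b * g * (g⁻¹ * a * g)) * g⁻¹ := by group
    rw [e1, e2, h]
  have hYgp : ∀ a ∈ Y.map (MulAut.conj g).toMonoidHom, a ^ p = 1 := by
    rintro a ⟨y, hy, rfl⟩
    have h := hYp y hy
    simp only [MulEquiv.coe_toMonoidHom, MulAut.conj_apply]
    rw [conj_pow, h]; group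
  have hQY : ∀ q ∈ Cfsg.pCore p L, ∀ y ∈ Y, q * y * q⁻¹ ∈ Y :=
    fun q hq y hy => conj_mem_of_mem_normalizer (hOY hq) hy
  have hQYg : ∀ q ∈ Cfsg.pCore p L, ∀ y ∈ Y.map (MulAut.conj g).toMonoidHom,
      q * y * q⁻¹ ∈ Y.map (MulAut.conj g).toMonoidHom := by
    intro q hq y hy
    rw [mem_map_conj] at hy ⊢
    have hq' : g⁻¹ * q * g ∈ Cfsg.pCore p L := by
      have := hQn.conj_mem q hq g⁻¹
      simpa using this
    have h := hQY _ hq' _ hy
    have e : g⁻¹ * (q * y * q⁻¹) * g = g⁻¹ * q * g * (g⁻¹ * y * g) * (g⁻¹ * q * g)⁻¹ := by group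
    rw [e]; exact h
  obtain ⟨Q, hQdef⟩ : ∃ Q, Q = Cfsg.pCore p L := ⟨_, rfl⟩
  obtain ⟨Yg, hYgdef⟩ : ∃ Yg, Yg = Y.map (MulAut.conj g).toMonoidHom := ⟨_, rfl⟩
  rw [← hQdef] at hQn hQp hQY hQYg hA
  rw [← hYgdef] at htop hYgcomm hYgp hQYg ⊢
  have hcomm_mem : ∀ b ∈ Q ⊓ Y, ∀ c ∈ Q ⊓ Yg, b * c * b⁻¹ * c⁻¹ ∈ (Q ⊓ Y) ⊓ (Q ⊓ Yg) := by
    intro b hb c hc
    have hq : b * c * b⁻¹ * c⁻¹ ∈ Q :=
      Q.mul_mem (Q.mul_mem (Q.mul_mem hb.1 hc.1) (Q.inv_mem hb.1)) (Q.inv_mem hc.1)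
    refine ⟨⟨hq, ?_⟩, ⟨hq, ?_⟩⟩
    · have h1 := hQY c hc.1 b⁻¹ (Y.inv_mem hb.2)
      have e : b * c * b⁻¹ * c⁻¹ = b * (c * b⁻¹ * c⁻¹) := by group
      rw [e]; exact Y.mul_mem hb.2 h1
    · have h1 := hQYg b hb.1 c hc.2
      exact Yg.mul_mem h1 (Yg.inv_mem hc.2)
  have hcenter : ∀ x, (∀ y ∈ Y, y * x = x * y) → (∀ y ∈ Yg, y * x = x * y) →
      x ∈ Subgroup.center L := by
    intro x h1 h2
    have h3 : (⊤ : Subgroup L) ≤ Subgroup.centralizer ({x} : Set L) := by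
      rw [← htop, sup_le_iff]
      constructor
      · intro y hy
        rw [Subgroup.mem_centralizer_iff]
        intro z hz
        rw [Set.mem_singleton_iff] at hz; subst hz
        exact (h1 y hy).symm
      · intro y hy
        rw [Subgroup.mem_centralizer_iff]
        intro z hz
        rw [Set.mem_singleton_iff] at hz; subst hz
        exact (h2 y hy).symm
    rw [Subgroup.mem_center_iff]
    intro z
    have h4 := h3 (Subgroup.mem_top z)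
    rw [Subgroup.mem_centralizer_iff] at h4
    exact (h4 x rfl).symm
  have hYYg : Y ⊓ Yg = Y ⊓ Subgroup.center L := by
    apply le_antisymm
    · rintro x ⟨hx1, hx2⟩
      exact ⟨hx1, hcenter x (fun y hy => hYcomm y hy x hx1) (fun y hy => hYgcomm y hy x hx2)⟩
    · intro x hx
      rw [Subgroup.mem_inf] at hx ⊢
      obtain ⟨hx1, hx2⟩ := hx
      refine ⟨hx1, ?_⟩
      rw [hYgdef, mem_map_conj]
      have h := (Subgroup.mem_center_iff.mp hx2) g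
      have e : g⁻¹ * x * g = x := by rw [mul_assoc, ← h, ← mul_assoc, inv_mul_cancel, one_mul]
      rw [e]; exact hx1
  have hYpg : IsPGroup p ↥Y := fun y => ⟨1, Subtype.ext (by simpa using hYp y y.2)⟩
  have hZQ : Y ⊓ Subgroup.center L ≤ Q := by
    rw [hQdef]
    apply le_pCore
    · refine ⟨fun n hn x => ?_⟩
      have h := (Subgroup.mem_center_iff.mp hn.2) x
      have e : x * n * x⁻¹ = n := by rw [h, mul_assoc, mul_inv_cancel, mul_one]
      rw [e]; exact hn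
    · exact hYpg.to_le inf_le_left
  have hZB : Y ⊓ Subgroup.center L ≤ Q ⊓ Y := le_inf hZQ inf_le_left
  have hZBg : Y ⊓ Subgroup.center L ≤ Q ⊓ Yg := le_inf hZQ (hYYg ▸ inf_le_right)
  have hAQ : A ≤ Q := by rw [hA]; exact Subgroup.normalClosure_le_normal inf_le_left
  have hBA : Q ⊓ Y ≤ A := by rw [hA]; exact Subgroup.subset_normalClosure
  have hAn : A.Normal := by rw [hA]; exact Subgroup.normalClosure_normal
  have hBgA : Q ⊓ Yg ≤ A := by
    intro c hc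
    have h1 : g⁻¹ * c * g ∈ Q ⊓ Y := by
      refine ⟨?_, ?_⟩
      · have := hQn.conj_mem c hc.1 g⁻¹
        simpa using this
      · have h0 : c ∈ Yg := hc.2
        rw [hYgdef, mem_map_conj] at h0
        exact h0
    have h2 := hAn.conj_mem _ (hBA h1) g
    have e : g * (g⁻¹ * c * g) * g⁻¹ = c := by group
    rwa [e] at h2
  have hBnBg : Q ⊓ Y ≤ Subgroup.normalizer ((Q ⊓ Yg : Subgroup L) : Set L) := by
    intro q hq
    apply mem_normalizer_of_map_conj_le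
    rintro x ⟨c, hc, rfl⟩
    simp only [MulEquiv.coe_toMonoidHom, MulAut.conj_apply]
    exact ⟨hQn.conj_mem c hc.1 q, hQYg q hq.1 c hc.2⟩
  have hNtop : Subgroup.normalizer ((Q ⊓ Y ⊔ Q ⊓ Yg : Subgroup L) : Set L) = ⊤ := by
    rw [eq_top_iff, ← htop, sup_le_iff]
    constructor
    · intro y hy
      apply mem_normalizer_of_map_conj_le
      rw [Subgroup.map_sup, sup_le_iff]
      constructor
      · rintro x ⟨b, hb, rfl⟩
        simp only [MulEquiv.coe_toMonoidHom, MulAut.conj_apply]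
        have e : y * b * y⁻¹ = b := by rw [hYcomm y hy b hb.2, mul_assoc, mul_inv_cancel, mul_one]
        rw [e]; exact Subgroup.mem_sup_left hb
      · rintro x ⟨c, hc, rfl⟩
        simp only [MulEquiv.coe_toMonoidHom, MulAut.conj_apply]
        have h1 : y * c * y⁻¹ * c⁻¹ ∈ Q ⊓ Y := by
          refine ⟨Q.mul_mem (hQn.conj_mem c hc.1 y) (Q.inv_mem hc.1), ?_⟩
          have h2 := hQY c hc.1 y⁻¹ (Y.inv_mem hy)
          have e : y * c * y⁻¹ * c⁻¹ = y * (c * y⁻¹ * c⁻¹) := by group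
          rw [e]; exact Y.mul_mem hy h2
        have e : y * c * y⁻¹ = y * c * y⁻¹ * c⁻¹ * c := by group
        rw [e]
        exact Subgroup.mul_mem _ (Subgroup.mem_sup_left h1) (Subgroup.mem_sup_right hc)
    · intro z hz
      apply mem_normalizer_of_map_conj_le
      rw [Subgroup.map_sup, sup_le_iff]
      constructor
      · rintro x ⟨b, hb, rfl⟩
        simp only [MulEquiv.coe_toMonoidHom, MulAut.conj_apply]
        have h1 : z * b * z⁻¹ * b⁻¹ ∈ Q ⊓ Yg := by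
          refine ⟨Q.mul_mem (hQn.conj_mem b hb.1 z) (Q.inv_mem hb.1), ?_⟩
          have h2 := hQYg b hb.1 z⁻¹ (Yg.inv_mem hz)
          have e : z * b * z⁻¹ * b⁻¹ = z * (b * z⁻¹ * b⁻¹) := by group
          rw [e]; exact Yg.mul_mem hz h2
        have e : z * b * z⁻¹ = z * b * z⁻¹ * b⁻¹ * b := by group
        rw [e]
        exact Subgroup.mul_mem _ (Subgroup.mem_sup_right h1) (Subgroup.mem_sup_left hb)
      · rintro x ⟨c, hc, rfl⟩
        simp only [MulEquiv.coe_toMonoidHom, MulAut.conj_apply]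
        have e : z * c * z⁻¹ = c := by rw [hYgcomm z hz c hc.2, mul_assoc, mul_inv_cancel, mul_one]
        rw [e]; exact Subgroup.mem_sup_right hc
  have hAeq : A = Q ⊓ Y ⊔ Q ⊓ Yg := by
    apply le_antisymm
    · have : (Q ⊓ Y ⊔ Q ⊓ Yg : Subgroup L).Normal := Subgroup.normalizer_eq_top_iff.mp hNtop
      rw [hA]
      exact Subgroup.normalClosure_le_normal (le_sup_left (a := Q ⊓ Y) (b := Q ⊓ Yg))
    · exact sup_le hBA hBgA
  have hdec : ∀ a ∈ A, ∃ b ∈ Q ⊓ Y, ∃ c ∈ Q ⊓ Yg, a = b * c := by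
    intro a ha
    rw [hAeq] at ha
    exact exists_mul_of_mem_sup_left hBnBg ha
  have hAY : A ⊓ Y = Q ⊓ Y :=
    le_antisymm (le_inf (inf_le_left.trans hAQ) inf_le_right) (le_inf hBA inf_le_right)
  have hAYg : A ⊓ Yg = Q ⊓ Yg :=
    le_antisymm (le_inf (inf_le_left.trans hAQ) inf_le_right) (le_inf hBgA inf_le_right)
  have hcc : ∀ b ∈ Q ⊓ Y, ∀ c ∈ Q ⊓ Yg, ⁅b, c⁆ ∈ Y ⊓ Subgroup.center L := by
    intro b hb c hc
    have h := hcomm_mem b hb c hc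
    rw [commutatorElement_def]
    have h2 : b * c * b⁻¹ * c⁻¹ ∈ Y ⊓ Yg := ⟨h.1.2, h.2.2⟩
    rwa [hYYg] at h2
  have hkey : ∀ b ∈ Q ⊓ Y, ∀ b' ∈ Q ⊓ Y, ∀ c ∈ Q ⊓ Yg, ⁅b, b' * c⁆ = ⁅b, c⁆ := by
    intro b hb b' hb' c hc
    have hz := (hcc b hb c hc).2
    have hbb' : b * b' = b' * b := hYcomm b hb.2 b' hb'.2
    rw [commutatorElement_def, commutatorElement_def] at *
    have e1 : b * (b' * c) * b⁻¹ * (b' * c)⁻¹ = b' * (b * c * b⁻¹ * c⁻¹) * b'⁻¹ := by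
      calc b * (b' * c) * b⁻¹ * (b' * c)⁻¹ = (b * b') * c * b⁻¹ * c⁻¹ * b'⁻¹ := by group
        _ = (b' * b) * c * b⁻¹ * c⁻¹ * b'⁻¹ := by rw [hbb']
        _ = b' * (b * c * b⁻¹ * c⁻¹) * b'⁻¹ := by group
    rw [e1]
    have h := (Subgroup.mem_center_iff.mp hz) b'
    rw [h, mul_assoc, mul_inv_cancel, mul_one]
  have hkey' : ∀ c ∈ Q ⊓ Yg, ∀ b' ∈ Q ⊓ Y, ∀ c' ∈ Q ⊓ Yg, ⁅c, b' * c'⁆ = ⁅c, b'⁆ := by
    intro c hc b' hb' c' hc'
    have hcc' : c * c' = c' * c := hYgcomm c hc.2 c' hc'.2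
    rw [commutatorElement_def, commutatorElement_def]
    calc c * (b' * c') * c⁻¹ * (b' * c')⁻¹ = c * b' * (c' * c⁻¹) * c'⁻¹ * b'⁻¹ := by group
      _ = c * b' * (c⁻¹ * c') * c'⁻¹ * b'⁻¹ := by
        have : c' * c⁻¹ = c⁻¹ * c' := by
          rw [eq_inv_mul_iff_mul_eq, ← mul_assoc, hcc', mul_assoc, mul_inv_cancel, mul_one]
        rw [this]
      _ = c * b' * c⁻¹ * b'⁻¹ := by group
  have h4 : ⁅A ⊓ Y, A⁆ ≤ Y ⊓ Subgroup.center L := by
    rw [hAY, Subgroup.commutator_le]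
    intro b hb a ha
    obtain ⟨b', hb', c, hc, rfl⟩ := hdec a ha
    rw [hkey b hb b' hb' c hc]
    exact hcc b hb c hc
  have h3 : ⁅A ⊓ Y, A⁆ = ⁅A ⊓ Y, A ⊓ Yg⁆ := by
    rw [hAY, hAYg]
    apply le_antisymm
    · rw [Subgroup.commutator_le]
      intro b hb a ha
      obtain ⟨b', hb', c, hc, rfl⟩ := hdec a ha
      rw [hkey b hb b' hb' c hc]
      exact Subgroup.commutator_mem_commutator hb hc
    · exact Subgroup.commutator_mono le_rfl hBgA
  have h2 : ⁅A, A⁆ = ⁅A ⊓ Y, A⁆ := by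
    apply le_antisymm
    · rw [hAY, Subgroup.commutator_le]
      intro a₁ ha₁ a₂ ha₂
      obtain ⟨b₁, hb₁, c₁, hc₁, rfl⟩ := hdec a₁ ha₁
      have e : ⁅b₁ * c₁, a₂⁆ = b₁ * ⁅c₁, a₂⁆ * b₁⁻¹ * ⁅b₁, a₂⁆ := by
        simp only [commutatorElement_def]; group
      have hm1 : ⁅b₁, a₂⁆ ∈ ⁅Q ⊓ Y, A⁆ := Subgroup.commutator_mem_commutator hb₁ ha₂
      obtain ⟨b₂, hb₂, c₂, hc₂, rfl⟩ := hdec a₂ ha₂
      have e2 : ⁅c₁, b₂ * c₂⁆ = ⁅b₂, c₁⁆⁻¹ := by
        rw [hkey' c₁ hc₁ b₂ hb₂ c₂ hc₂, commutatorElement_inv]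
      have hz := (hcc b₂ hb₂ c₁ hc₁).2
      have hm2 : ⁅b₂, c₁⁆⁻¹ ∈ ⁅Q ⊓ Y, A⁆ :=
        Subgroup.inv_mem _ (Subgroup.commutator_mem_commutator hb₂ (hBgA hc₁))
      have hzc : b₁ * ⁅b₂, c₁⁆⁻¹ * b₁⁻¹ = ⁅b₂, c₁⁆⁻¹ := by
        have h := (Subgroup.mem_center_iff.mp (Subgroup.inv_mem _ hz)) b₁
        rw [h, mul_assoc, mul_inv_cancel, mul_one]
      rw [e, e2, hzc]
      exact Subgroup.mul_mem _ hm2 hm1
    · exact Subgroup.commutator_mono inf_le_left le_rfl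
  have hAp : IsPGroup p ↥A := hQp.to_le hAQ
  have h1 : (frattini ↥A).map A.subtype = ⁅A, A⁆ := by
    apply le_antisymm
    · have hf : frattini ↥A ≤ (⁅A, A⁆).subgroupOf A := by
        apply frattini_le_of_pow_comm (p := p)
        · intro x
          rw [Subgroup.mem_subgroupOf]
          obtain ⟨b, hb, c, hc, hx⟩ := hdec x.1 x.2
          have h := mul_pow_mem_commutator A (hBA hb) (hBgA hc) p
          rw [hYp b hb.2, hYgp c hc.2, one_mul, inv_one, mul_one, ← hx] at h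
          simpa using h
        · intro x hx
          rw [Subgroup.mem_subgroupOf, ← Subgroup.map_subtype_commutator]
          exact ⟨x, hx, rfl⟩
      rintro x ⟨y, hy, rfl⟩
      exact Subgroup.mem_subgroupOf.mp (hf hy)
    · rw [← Subgroup.map_subtype_commutator]
      exact Subgroup.map_mono (Cfsg.Agent.Lib.Helper63.PFrattini.commutator_le_frattini hAp)
  refine ⟨h1, h2, h3, h4, hYYg, ?_, ?_⟩
  · rw [hAY, hAYg]
    apply le_antisymm
    · rw [← hYYg]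
      exact inf_le_inf inf_le_right inf_le_right
    · exact le_inf hZB hZBg
  · apply le_antisymm
    · rintro z ⟨hzA, hzc⟩
      refine ⟨?_, hzc⟩
      obtain ⟨b, hb, c, hc, rfl⟩ := hdec z hzA
      have hzc' := Subgroup.mem_center_iff.mp hzc
      have hcY : ∀ y ∈ Y, y * c = c * y := by
        intro y hy
        have h := hzc' y
        have hyb : y * b = b * y := hYcomm y hy b hb.2
        have e1 : y * c = b⁻¹ * (y * (b * c)) := by
          rw [← mul_assoc y b c, hyb]; group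
        rw [e1, h]; group
      have hcc' : c ∈ Subgroup.center L := hcenter c hcY (fun y hy => hYgcomm y hy c hc.2)
      have hcYY : c ∈ Y ⊓ Yg := by
        rw [hYYg]
        refine ⟨?_, hcc'⟩
        have h5 : c ∈ Yg := hc.2
        rw [hYgdef, mem_map_conj] at h5
        have h := (Subgroup.mem_center_iff.mp hcc') g
        have e : g⁻¹ * c * g = c := by rw [mul_assoc, ← h, ← mul_assoc, inv_mul_cancel, one_mul]
        rwa [e] at h5
      exact Y.mul_mem hb.2 hcYY.1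
    · exact le_inf (hZB.trans hBA) inf_le_right

end Cfsg.Agent.S2837
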