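import Cfsg.Statements.S2840
import Cfsg.Agent.Lib.Helper55.WeaklyClosed

set_option autoImplicit false
open Cfsg

namespace Cfsg.Agent.S2840

open Cfsg.Agent.Lib.Helper55.WeaklyClosed

/-- a weakly closed `Q ≤ S'` with `S'` subnormal in `K`: every conjugate of `Q` in `K` lies in `S'`. -/
theorem conj_le_of_subnormal {H : Type*} [Group H] [Finite H] {p : ℕ} [Fact p.Prime]
    (Q : Subgroup H) (hQp : IsPGroup p ↥Q) (hwc : Cfsg.IsWeaklyClosedSubgroup p Q)
    (K : Subgroup H) (hQK : Q ≤ K) (S' : Subgroup K) (hS' : S'.IsSubnormal) :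
    Q.subgroupOf K ≤ S' → ∀ g : H, Q.map (MulAut.conj g).toMonoidHom ≤ K →
      Q.map (MulAut.conj g).toMonoidHom ≤ S'.map K.subtype := by
  induction hS' with
  | top =>
    intro _ g hg x hx
    exact ⟨⟨x, hg hx⟩, Subgroup.mem_top _, rfl⟩
  | step S₁ S₂ hle hS₂ hN ih =>
    intro hQS₁ g hg
    have h1 := ih (hQS₁.trans hle) g hg
    have hQ2 : Q ≤ S₂.map K.subtype := fun x hx =>
      ⟨⟨x, hQK hx⟩, hle (hQS₁ (Subgroup.mem_subgroupOf.mpr hx)), rfl⟩
    obtain ⟨s, hs, e⟩ := wc_conj_in hwc hQp hQ2 g h1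
    rw [e]
    obtain ⟨s', hs', rfl⟩ := hs
    rw [conj_le_iff]
    intro q hq
    have hq1 : (⟨q, hQK hq⟩ : K) ∈ S₁ := hQS₁ (Subgroup.mem_subgroupOf.mpr hq)
    have h2 := hN.conj_mem ⟨⟨q, hQK hq⟩, hle hq1⟩ (Subgroup.mem_subgroupOf.mpr hq1) ⟨s', hs'⟩
    rw [Subgroup.mem_subgroupOf] at h2
    exact ⟨_, h2, rfl⟩

/-- Let Q be a nontrivial p-subgroup of the finite group H that is a weakly closed subgroup and K a subgroup containing Q; let K° be the weak closure of Q in K (generated by the H-conjugates of Q inside K). Then K° is generated by the K-conjugates of Q, and K° is the subnormal closure of Q in K. -/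
theorem result {H : Type*} [Group H] [Finite H] {p : ℕ} [Fact p.Prime] (Q : Subgroup H) (hQp : IsPGroup p ↥Q) (hQ1 : Q ≠ ⊥) (hwc : Cfsg.IsWeaklyClosedSubgroup p Q) (K : Subgroup H) (hQK : Q ≤ K) (Kc : Subgroup H) (hKc : Kc = Cfsg.weakClosure Q K) : Kc = ⨆ k : ↥K, ((Q : Subgroup H).map (MulAut.conj ((k : H) : H)).toMonoidHom) ∧ Kc = (Cfsg.subnormalClosure (Q.subgroupOf K)).map K.subtype := by
  have hconjK : ∀ k : K, Q.map (MulAut.conj (k : H)).toMonoidHom ≤ K := by
    intro k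
    rw [conj_le_iff]
    intro q hq
    exact K.mul_mem (K.mul_mem k.2 (hQK hq)) (K.inv_mem k.2)
  have h1 : Kc = ⨆ k : ↥K, ((Q : Subgroup H).map (MulAut.conj ((k : H) : H)).toMonoidHom) := by
    rw [hKc]
    unfold Cfsg.weakClosure
    apply le_antisymm
    · refine iSup_le fun g => ?_
      obtain ⟨k, hk, e⟩ := wc_conj_in hwc hQp hQK g.1 g.2
      rw [e]
      exact le_iSup (fun k : K => Q.map (MulAut.conj (k : H)).toMonoidHom) ⟨k, hk⟩
    · refine iSup_le fun k => ?_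
      exact le_iSup (fun g : {g : H // Q.map (MulAut.conj g).toMonoidHom ≤ K} =>
        Q.map (MulAut.conj (g : H)).toMonoidHom) ⟨k.1, hconjK k⟩
  refine ⟨h1, ?_⟩
  rw [h1]
  obtain ⟨NC, hNC⟩ : ∃ NC : Subgroup H,
      NC = ⨆ k : ↥K, ((Q : Subgroup H).map (MulAut.conj ((k : H) : H)).toMonoidHom) := ⟨_, rfl⟩
  rw [← hNC]
  have hNCK : NC ≤ K := by
    rw [hNC]
    exact iSup_le hconjK
  have hQNC : Q ≤ NC := by
    rw [hNC]
    refine le_trans ?_ (le_iSup (fun k : K => Q.map (MulAut.conj (k : H)).toMonoidHom) 1)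
    intro x hx
    rw [mem_conj]
    simpa using hx
  have hnormal : (NC.subgroupOf K).Normal := by
    refine ⟨fun y hy k => ?_⟩
    rw [Subgroup.mem_subgroupOf] at hy ⊢
    have h2 : NC.map (MulAut.conj (k : H)).toMonoidHom ≤ NC := by
      rw [hNC, Subgroup.map_iSup]
      refine iSup_le fun k' => ?_
      rw [conj_conj]
      exact le_iSup (fun k : K => Q.map (MulAut.conj (k : H)).toMonoidHom) (k * k')
    exact h2 (conj_mem_conj (k : H) hy)
  unfold Cfsg.subnormalClosure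
  apply le_antisymm
  · intro x hx
    refine ⟨⟨x, hNCK hx⟩, ?_, rfl⟩
    show (⟨x, hNCK hx⟩ : K) ∈ sInf {S' : Subgroup K | Q.subgroupOf K ≤ S' ∧ S'.IsSubnormal}
    rw [Subgroup.mem_sInf]
    rintro S' ⟨hQS', hS'⟩
    have h3 : NC ≤ S'.map K.subtype := by
      rw [hNC]
      refine iSup_le fun k => ?_
      exact conj_le_of_subnormal Q hQp hwc K hQK S' hS' hQS' k (hconjK k)
    obtain ⟨y, hy, hyx⟩ := h3 hx
    have : y = ⟨x, hNCK hx⟩ := Subtype.ext hyx
    rw [← this]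
    exact hy
  · have h4 : sInf {S' : Subgroup K | Q.subgroupOf K ≤ S' ∧ S'.IsSubnormal} ≤ NC.subgroupOf K := by
      apply sInf_le
      refine ⟨?_, hnormal.isSubnormal⟩
      intro y hy
      rw [Subgroup.mem_subgroupOf] at hy ⊢
      exact hQNC hy
    refine (Subgroup.map_mono h4).trans ?_
    rw [Subgroup.subgroupOf_map_subtype]
    exact inf_le_left

end Cfsg.Agent.S2840
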