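import Cfsg.Statements.S2841
import Cfsg.Agent.Lib.Helper55.WeaklyClosed

set_option autoImplicit false
open Cfsg

namespace Cfsg.Agent.S2841

open Cfsg.Agent.Lib.Helper55.WeaklyClosed
open scoped commutatorElement

theorem mem_normalizer_of_normal {H : Type*} [Group H] (N : Subgroup H) [hN : N.Normal] (a : H) :
    a ∈ Subgroup.normalizer (N : Set H) := by
  rw [Subgroup.mem_normalizer_iff]
  intro h
  constructor
  · intro hh
    exact hN.conj_mem h hh a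
  · intro hh
    have := hN.conj_mem _ hh a⁻¹
    have e : a⁻¹ * (a * h * a⁻¹) * a⁻¹⁻¹ = h := by group
    rw [e] at this
    exact this

/-- Let Q be a nontrivial p-subgroup of the finite group H that is a weakly closed subgroup and N a normal subgroup of H. Then N = N_N(Q)·[N, Q] and [N, Q] = (Q ∩ [N, Q])·[N, Q, Q]. -/
theorem result {H : Type*} [Group H] [Finite H] {p : ℕ} [Fact p.Prime] (Q : Subgroup H) (hQp : IsPGroup p ↥Q) (hQ1 : Q ≠ ⊥) (hwc : Cfsg.IsWeaklyClosedSubgroup p Q) (N' : Subgroup H) [N'.Normal] : (∀ n : H, n ∈ N' → ∃ a ∈ N' ⊓ Subgroup.normalizer ((Q : Subgroup H) : Set H), ∃ b ∈ ⁅N', Q⁆, n = a * b) ∧ (∀ c : H, c ∈ ⁅N', Q⁆ → ∃ a ∈ Q ⊓ ⁅N', Q⁆, ∃ b ∈ ⁅⁅N', Q⁆, Q⁆, c = a * b) := by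
  have hMN : ⁅N', Q⁆ ≤ N' := Subgroup.commutator_le_left N' Q
  have hQM : Q ≤ Subgroup.normalizer ((⁅N', Q⁆ : Subgroup H) : Set H) := fun q hq =>
    mem_normalizer_commutator (mem_normalizer_of_normal N' q) (Subgroup.le_normalizer hq)
  have key : ∀ n : H, n ∈ N' →
      ∃ a ∈ N' ⊓ Subgroup.normalizer ((Q : Subgroup H) : Set H), ∃ b ∈ ⁅N', Q⁆, n = a * b := by
    intro n hn
    have h1 : Q.map (MulAut.conj n⁻¹).toMonoidHom ≤ Q ⊔ ⁅N', Q⁆ := by
      rw [conj_le_iff]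
      intro q hq
      have e : n⁻¹ * q * n⁻¹⁻¹ = q * ⁅q⁻¹, n⁻¹⁆ := by
        rw [commutatorElement_def]; group
      rw [e]
      refine Subgroup.mul_mem_sup hq ?_
      rw [Subgroup.commutator_comm]
      exact Subgroup.commutator_mem_commutator (Q.inv_mem hq) (N'.inv_mem hn)
    obtain ⟨k, hk, e⟩ := wc_conj_in hwc hQp le_sup_left n⁻¹ h1
    obtain ⟨c, hc, q, hq, rfl⟩ := mem_sup_of_le_normalizer' hQM hk
    have h2 : Q.map (MulAut.conj (n * (c * q))).toMonoidHom = Q := by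
      rw [← conj_conj, ← e, conj_conj, mul_inv_cancel]
      ext x
      rw [mem_conj]
      simp
    have h3 : n * (c * q) ∈ Subgroup.normalizer ((Q : Subgroup H) : Set H) :=
      conj_eq_self_iff.mp h2
    have h4 : n * c ∈ Subgroup.normalizer ((Q : Subgroup H) : Set H) := by
      have := Subgroup.mul_mem _ h3 (Subgroup.inv_mem _ (Subgroup.le_normalizer hq))
      have e2 : n * (c * q) * q⁻¹ = n * c := by group
      rw [e2] at this
      exact this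
    exact ⟨n * c, ⟨N'.mul_mem hn (hMN hc), h4⟩, c⁻¹, Subgroup.inv_mem _ hc, by group⟩
  refine ⟨key, ?_⟩
  have hAB : Q ⊓ ⁅N', Q⁆ ≤ Subgroup.normalizer ((⁅⁅N', Q⁆, Q⁆ : Subgroup H) : Set H) :=
    fun a ha => mem_normalizer_commutator (Subgroup.le_normalizer ha.2) (Subgroup.le_normalizer ha.1)
  have hM : ⁅N', Q⁆ ≤ (Q ⊓ ⁅N', Q⁆) ⊔ ⁅⁅N', Q⁆, Q⁆ := by
    rw [Subgroup.commutator_le]
    intro n hn q hq
    obtain ⟨a, ⟨haN, haQ⟩, b, hb, rfl⟩ := key n hn
    have e : ⁅a * b, q⁆ = (a * ⁅b, q⁆ * a⁻¹) * ⁅a, q⁆ := by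
      simp only [commutatorElement_def]; group
    rw [e]
    have ha1 : a ∈ Subgroup.normalizer ((⁅N', Q⁆ : Subgroup H) : Set H) :=
      mem_normalizer_commutator (mem_normalizer_of_normal N' a) haQ
    have ha2 : a ∈ Subgroup.normalizer ((⁅⁅N', Q⁆, Q⁆ : Subgroup H) : Set H) :=
      mem_normalizer_commutator ha1 haQ
    have t1 : a * ⁅b, q⁆ * a⁻¹ ∈ ⁅⁅N', Q⁆, Q⁆ :=
      (Subgroup.mem_normalizer_iff.mp ha2 _).mp (Subgroup.commutator_mem_commutator hb hq)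
    have t2 : ⁅a, q⁆ ∈ Q ⊓ ⁅N', Q⁆ := by
      refine ⟨?_, Subgroup.commutator_mem_commutator haN hq⟩
      rw [commutatorElement_def]
      exact Q.mul_mem ((Subgroup.mem_normalizer_iff.mp haQ q).mp hq) (Q.inv_mem hq)
    exact Subgroup.mul_mem _ (Subgroup.mem_sup_right t1) (Subgroup.mem_sup_left t2)
  intro c hc
  exact mem_sup_of_le_normalizer hAB (hM hc)

end Cfsg.Agent.S2841
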