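import Cfsg.Statements.S2842
import Cfsg.Agent.Lib.Helper55.WeaklyClosed
import Cfsg.Agent.Lib.Helper24.Coprime
import Cfsg.Agent.Lib.Helper46.PCore

set_option autoImplicit false
open Cfsg

namespace Cfsg.Agent.S2842

open Cfsg.Agent.Lib.Helper55.WeaklyClosed
open scoped commutatorElement

variable {H : Type*} [Group H]

/-- `X` has characteristic `p`, stated inside the ambient group. -/
def HasCharP (p : ℕ) (X : Subgroup H) : Prop :=
  ∀ x ∈ X, (∀ r ∈ pCoreOf p X, r * x = x * r) → x ∈ pCoreOf p X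

theorem conj_mem_centralizer {V : Subgroup H} {g : H}
    (hg : g ∈ Subgroup.normalizer (V : Set H)) {h : H}
    (hh : h ∈ Subgroup.centralizer (V : Set H)) :
    g * h * g⁻¹ ∈ Subgroup.centralizer (V : Set H) := by
  rw [Subgroup.mem_centralizer_iff] at hh ⊢
  intro v hv
  have hv' : g⁻¹ * v * g ∈ V := by
    have := (Subgroup.mem_normalizer_iff.mp (Subgroup.inv_mem _ hg) v).mp hv
    rw [inv_inv] at this
    exact this
  have h1 := hh _ hv'
  calc v * (g * h * g⁻¹) = g * ((g⁻¹ * v * g) * h) * g⁻¹ := by group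
    _ = g * (h * (g⁻¹ * v * g)) * g⁻¹ := by rw [h1]
    _ = g * h * g⁻¹ * v := by group

theorem normalizer_le_normalizer_centralizer (V : Subgroup H) :
    Subgroup.normalizer (V : Set H) ≤
      Subgroup.normalizer ((Subgroup.centralizer (V : Set H) : Subgroup H) : Set H) := by
  intro g hg
  rw [Subgroup.mem_normalizer_iff]
  intro h
  constructor
  · intro hh
    exact conj_mem_centralizer hg hh
  · intro hh
    have := conj_mem_centralizer (Subgroup.inv_mem _ hg) hh
    have e : g⁻¹ * (g * h * g⁻¹) * g⁻¹⁻¹ = h := by group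
    rw [e] at this
    exact this

theorem normalizer_le_normalizer_pCoreOf [Finite H] (p : ℕ) (X : Subgroup H) :
    Subgroup.normalizer (X : Set H) ≤ Subgroup.normalizer ((pCoreOf p X : Subgroup H) : Set H) := by
  intro g hg
  have h1 : X.map (MulAut.conj g).toMonoidHom = X := conj_eq_self_iff.mpr hg
  have h2 := Lib.Helper46.PCore.pCoreOf_map_conj (p := p) X g
  rw [h1] at h2
  exact conj_eq_self_iff.mp h2.symm

theorem conj_mem_of_mem_normalizer {V : Subgroup H} {g : H}
    (hg : g ∈ Subgroup.normalizer (V : Set H)) {v : H} (hv : v ∈ V) : g * v * g⁻¹ ∈ V :=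
  (Subgroup.mem_normalizer_iff.mp hg v).mp hv

/-- characteristic `p` for `H` itself, as a property of `⊤`. -/
theorem hasCharP_top [Finite H] {p : ℕ}
    (h : Subgroup.centralizer (Cfsg.pCore p H : Set H) ≤ Cfsg.pCore p H) :
    HasCharP p (⊤ : Subgroup H) := by
  have hle : Cfsg.pCore p H ≤ pCoreOf p (⊤ : Subgroup H) := by
    apply Lib.Helper46.PCore.le_pCoreOf le_top
    · intro g _ n hn
      exact (Cfsg.pCore_normal p H).conj_mem n hn g
    · exact Lib.Helper46.PCore.pCore_isPGroup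
  intro x _ hx
  apply hle
  apply h
  rw [Subgroup.mem_centralizer_iff]
  intro r hr
  exact hx r (hle hr)

/-- characteristic `p` for a subgroup, from the subtype formulation. -/
theorem hasCharP_of_subtype {p : ℕ} (X : Subgroup H)
    (h : Subgroup.centralizer (Cfsg.pCore p ↥X : Set ↥X) ≤ Cfsg.pCore p ↥X) :
    HasCharP p X := by
  intro x hxX hx
  have h1 : (⟨x, hxX⟩ : X) ∈ Subgroup.centralizer (Cfsg.pCore p ↥X : Set ↥X) := by
    rw [Subgroup.mem_centralizer_iff]
    intro r hr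
    apply Subtype.ext
    exact hx r.1 ((Lib.Helper46.PCore.mem_pCoreOf_iff r).2 hr)
  exact (Lib.Helper46.PCore.mem_pCoreOf_iff ⟨x, hxX⟩).2 (h h1)

section main

variable [Finite H] {p : ℕ} [Fact p.Prime]

/-- one step: if `V ⊴ V₂` are `p`-groups and `C_H(V)` has characteristic `p`, so has `C_H(V₂)`. -/
theorem hasCharP_centralizer_step (V V₂ : Subgroup H) (hVV₂ : V ≤ V₂) (hV₂ : IsPGroup p V₂)
    (hn : V₂ ≤ Subgroup.normalizer (V : Set H))
    (hV : HasCharP p (Subgroup.centralizer (V : Set H))) :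
    HasCharP p (Subgroup.centralizer (V₂ : Set H)) := by
  obtain ⟨Y₁, hY₁⟩ : ∃ Y₁ : Subgroup H, Y₁ = Subgroup.centralizer (V : Set H) := ⟨_, rfl⟩
  obtain ⟨Y, hY⟩ : ∃ Y : Subgroup H, Y = Subgroup.centralizer (V₂ : Set H) := ⟨_, rfl⟩
  rw [← hY₁] at hV
  rw [← hY]
  have hYY₁ : Y ≤ Y₁ := by
    rw [hY, hY₁]
    exact Subgroup.centralizer_le hVV₂
  have hRp : IsPGroup p (pCoreOf p Y₁) := Lib.Helper46.PCore.pCoreOf_isPGroup Y₁
  have hY₁R : Y₁ ≤ Subgroup.normalizer ((pCoreOf p Y₁ : Subgroup H) : Set H) :=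
    Subgroup.le_normalizer.trans (normalizer_le_normalizer_pCoreOf p Y₁)
  have hV₂R : V₂ ≤ Subgroup.normalizer ((pCoreOf p Y₁ : Subgroup H) : Set H) := by
    intro v hv
    apply normalizer_le_normalizer_pCoreOf p Y₁
    rw [hY₁]
    exact normalizer_le_normalizer_centralizer V (hn hv)
  -- the subgroup of `Y` centralizing `O_p(Y)` is a `p`-group
  have hK₀ : IsPGroup p (Y ⊓ Subgroup.centralizer ((pCoreOf p Y : Subgroup H) : Set H) :
      Subgroup H) := by
    apply Lib.Helper46.PCore.isPGroup_of_forall_coprime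
    intro x hx hcop
    have hxY₁ : x ∈ Y₁ := hYY₁ hx.1
    have hxV₂ : ∀ b ∈ V₂, b * x = x * b := by
      have h3 : x ∈ Y := hx.1
      rw [hY] at h3
      exact Subgroup.mem_centralizer_iff.mp h3
    have hC : ∀ r ∈ pCoreOf p Y₁, (∀ b ∈ V₂, b * r = r * b) → r * x = x * r := by
      intro r hr hrV₂
      have hrY : r ∈ Y := by
        rw [hY, Subgroup.mem_centralizer_iff]
        exact hrV₂
      have hle : pCoreOf p Y₁ ⊓ Y ≤ pCoreOf p Y := by
        apply Lib.Helper46.PCore.le_pCoreOf inf_le_right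
        · intro h hh n hn
          exact ⟨conj_mem_of_mem_normalizer (hY₁R (hYY₁ hh)) hn.1,
            Y.mul_mem (Y.mul_mem hh hn.2) (Y.inv_mem hh)⟩
        · exact hRp.to_le inf_le_left
      exact (Subgroup.mem_centralizer_iff.mp hx.2) r (hle ⟨hr, hrY⟩)
    have hpg : IsPGroup p (V₂ ⊔ pCoreOf p Y₁ : Subgroup H) :=
      hV₂.to_sup_of_normal_right' hRp hV₂R
    have hcent := Lib.Helper24.Coprime.thompson_AxB p (V₂ ⊔ pCoreOf p Y₁) hpg V₂ le_sup_left x hcop
      hxV₂ (pCoreOf p Y₁) le_sup_right (hY₁R hxY₁) hV₂R hC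
    have hxR : x ∈ pCoreOf p Y₁ := hV x hxY₁ hcent
    exact Lib.Helper46.PCore.eq_one_of_mem_of_coprime hRp hxR hcop
  intro x hxY hx
  have hle : Y ⊓ Subgroup.centralizer ((pCoreOf p Y : Subgroup H) : Set H) ≤ pCoreOf p Y := by
    apply Lib.Helper46.PCore.le_pCoreOf inf_le_left
    · intro h hh n hn
      refine ⟨Y.mul_mem (Y.mul_mem hh hn.1) (Y.inv_mem hh), ?_⟩
      have hYn : Y ≤ Subgroup.normalizer ((pCoreOf p Y : Subgroup H) : Set H) :=
        Subgroup.le_normalizer.trans (normalizer_le_normalizer_pCoreOf p Y)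
      exact conj_mem_centralizer (hYn hh) hn.2
    · exact hK₀
  exact hle ⟨hxY, Subgroup.mem_centralizer_iff.mpr hx⟩

/-- if `V ≤ W` are `p`-groups and `C_H(V)` has characteristic `p`, so has `C_H(W)`. -/
theorem hasCharP_centralizer_of_le (W : Subgroup H) (hW : IsPGroup p W) :
    ∀ (n : ℕ) (V : Subgroup H), V ≤ W → Nat.card W - Nat.card V = n →
      HasCharP p (Subgroup.centralizer (V : Set H)) →
      HasCharP p (Subgroup.centralizer (W : Set H)) := by
  intro n
  induction n using Nat.strong_induction_on with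
  | _ n ih =>
    intro V hVW hn hV
    by_cases hVeq : V = W
    · rw [← hVeq]; exact hV
    -- normalizer growth inside the `p`-group `W`
    have hlt : V.subgroupOf W < ⊤ := by
      rw [lt_top_iff_ne_top]
      intro htop
      apply hVeq
      apply le_antisymm hVW
      intro w hw
      have : (⟨w, hw⟩ : W) ∈ V.subgroupOf W := by rw [htop]; trivial
      exact Subgroup.mem_subgroupOf.mp this
    have hnil : Group.IsNilpotent W := hW.isNilpotent
    have hnc := Group.normalizerCondition_of_isNilpotent (G := W) (V.subgroupOf W) hlt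
    obtain ⟨x, hx1, hx2⟩ := SetLike.exists_of_lt hnc
    have hxN : (x : H) ∈ Subgroup.normalizer (V : Set H) := by
      rw [Subgroup.mem_normalizer_iff]
      intro h
      constructor
      · intro hh
        have := (Subgroup.mem_normalizer_iff.mp hx1 ⟨h, hVW hh⟩).mp (Subgroup.mem_subgroupOf.mpr hh)
        exact Subgroup.mem_subgroupOf.mp this
      · intro hh
        have hhW : h ∈ W := by
          have h3 := W.mul_mem (W.mul_mem (W.inv_mem x.2) (hVW hh)) x.2
          have e : (x : H)⁻¹ * ((x : H) * h * (x : H)⁻¹) * (x : H) = h := by group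
          rw [e] at h3
          exact h3
        have := (Subgroup.mem_normalizer_iff.mp hx1 ⟨h, hhW⟩).mpr (Subgroup.mem_subgroupOf.mpr hh)
        exact Subgroup.mem_subgroupOf.mp this
    have hxV : (x : H) ∉ V := fun h => hx2 (Subgroup.mem_subgroupOf.mpr h)
    obtain ⟨V₂, hV₂⟩ : ∃ V₂ : Subgroup H, V₂ = Subgroup.normalizer (V : Set H) ⊓ W := ⟨_, rfl⟩
    have hVV₂ : V ≤ V₂ := by
      rw [hV₂]
      exact le_inf Subgroup.le_normalizer hVW
    have hV₂W : V₂ ≤ W := by rw [hV₂]; exact inf_le_right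
    have hne : V ≠ V₂ := by
      intro h
      apply hxV
      rw [h, hV₂]
      exact ⟨hxN, x.2⟩
    have hcard : Nat.card V < Nat.card V₂ := Lib.Helper24.Coprime.card_lt_of_le_of_ne hVV₂ hne
    have hcard2 : Nat.card V₂ ≤ Nat.card W := Subgroup.card_le_of_le hV₂W
    have hstep := hasCharP_centralizer_step V V₂ hVV₂ (hW.to_le hV₂W)
      (by rw [hV₂]; exact inf_le_left) hV
    exact ih (Nat.card W - Nat.card V₂) (by omega) V₂ hV₂W rfl hstep

/-- Let Q be a nontrivial p-subgroup of the finite group H that is a weakly closed subgroup with C_H(Q) ≤ Q, and Q ≤ L ≤ H. Suppose H has characteristic p, or more generally that C_H(y) has characteristic p for some nonidentity y ∈ C_{O_p(L)}(Q). Then [Q, C_H(O_p(L))] ≤ Q ∩ O_p(L), C_H(O_p(L)) is a p-group, and L has characteristic p. -/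
theorem result {H : Type*} [Group H] [Finite H] {p : ℕ} [Fact p.Prime] (Q : Subgroup H) (hQp : IsPGroup p ↥Q) (hQ1 : Q ≠ ⊥) (hwc : Cfsg.IsWeaklyClosedSubgroup p Q) (hCQ : Subgroup.centralizer ((Q : Subgroup H) : Set H) ≤ Q) (L : Subgroup H) (hQL : Q ≤ L) (hyp : Subgroup.centralizer (Cfsg.pCore p H : Set H) ≤ Cfsg.pCore p H ∨ ∃ y : H, y ≠ 1 ∧ y ∈ (Cfsg.pCoreOf p L) ⊓ Subgroup.centralizer ((Q : Subgroup H) : Set H) ∧ Subgroup.centralizer (Cfsg.pCore p ↥(Subgroup.centralizer ({y} : Set H)) : Set ↥(Subgroup.centralizer ({y} : Set H))) ≤ Cfsg.pCore p ↥(Subgroup.centralizer ({y} : Set H))) : ⁅Q, Subgroup.centralizer (((Cfsg.pCoreOf p L) : Subgroup H) : Set H)⁆ ≤ Q ⊓ (Cfsg.pCoreOf p L) ∧ IsPGroup p ↥(Subgroup.centralizer (((Cfsg.pCoreOf p L) : Subgroup H) : Set H)) ∧ Subgroup.centralizer (Cfsg.pCore p ↥L : Set ↥L) ≤ Cfsg.pCore p ↥L := by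
  obtain ⟨P, hP⟩ : ∃ P : Subgroup H, P = Cfsg.pCoreOf p L := ⟨_, rfl⟩
  rw [← hP]
  have hPp : IsPGroup p P := by rw [hP]; exact Lib.Helper46.PCore.pCoreOf_isPGroup L
  obtain ⟨C, hCdef⟩ : ∃ C : Subgroup H, C = Subgroup.centralizer (P : Set H) := ⟨_, rfl⟩
  rw [← hCdef]
  -- Step 0: `C` has characteristic `p`
  have hC : HasCharP p C := by
    rw [hCdef]
    rcases hyp with h1 | ⟨y, _, hy, h2⟩
    · have htop := hasCharP_top h1
      have e : Subgroup.centralizer (((⊥ : Subgroup H) : Subgroup H) : Set H) = ⊤ := by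
        ext x
        simp [Subgroup.mem_centralizer_iff]
      rw [← e] at htop
      exact hasCharP_centralizer_of_le P hPp _ ⊥ bot_le rfl htop
    · have hy' := hasCharP_of_subtype _ h2
      have e : Subgroup.centralizer ((Subgroup.zpowers y : Subgroup H) : Set H) =
          Subgroup.centralizer ({y} : Set H) := by
        ext x
        simp only [Subgroup.mem_centralizer_iff, Set.mem_singleton_iff, forall_eq, SetLike.mem_coe]
        constructor
        · intro h
          exact h y (Subgroup.mem_zpowers y)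
        · intro h z hz
          exact (Lib.Helper24.Coprime.commute_zpowers h.symm hz).symm
      rw [← e] at hy'
      have hyP : Subgroup.zpowers y ≤ P := by
        rw [Subgroup.zpowers_le, hP]
        exact hy.1
      exact hasCharP_centralizer_of_le P hPp _ (Subgroup.zpowers y) hyP rfl hy'
  -- basic facts
  have hLP : L ≤ Subgroup.normalizer (P : Set H) := by
    rw [hP]
    exact Subgroup.le_normalizer.trans (normalizer_le_normalizer_pCoreOf p L)
  have hLC : L ≤ Subgroup.normalizer (C : Set H) := by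
    rw [hCdef]
    exact hLP.trans (normalizer_le_normalizer_centralizer P)
  have hCR : C ≤ Subgroup.normalizer ((pCoreOf p C : Subgroup H) : Set H) :=
    Subgroup.le_normalizer.trans (normalizer_le_normalizer_pCoreOf p C)
  have hLR : L ≤ Subgroup.normalizer ((pCoreOf p C : Subgroup H) : Set H) :=
    hLC.trans (normalizer_le_normalizer_pCoreOf p C)
  have hRp : IsPGroup p (pCoreOf p C) := Lib.Helper46.PCore.pCoreOf_isPGroup C
  have hRC : pCoreOf p C ≤ C := Lib.Helper46.PCore.pCoreOf_le C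
  have hRL : pCoreOf p C ⊓ L ≤ P := by
    rw [hP]
    apply Lib.Helper46.PCore.le_pCoreOf inf_le_right
    · intro h hh n hn
      exact ⟨conj_mem_of_mem_normalizer (hLR hh) hn.1, L.mul_mem (L.mul_mem hh hn.2) (L.inv_mem hh)⟩
    · exact hRp.to_le inf_le_left
  have hRQ : pCoreOf p C ≤ Subgroup.normalizer (Q : Set H) := by
    have hpg : IsPGroup p (Q ⊔ pCoreOf p C : Subgroup H) :=
      hQp.to_sup_of_normal_right' hRp (hQL.trans hLR)
    exact le_sup_right.trans (wc_le_normalizer hwc hpg le_sup_left)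
  have hR₂P : pCoreOf p C ⊓ Q ≤ P := (inf_le_inf_left _ hQL).trans hRL
  have hCcomm : ∀ c ∈ C, ∀ s ∈ P, s * c = c * s := by
    intro c hc
    rw [hCdef, Subgroup.mem_centralizer_iff] at hc
    exact hc
  have hCR₂ : ∀ c ∈ C, ∀ s ∈ pCoreOf p C ⊓ Q, c * s * c⁻¹ = s := by
    intro c hc s hs
    rw [← hCcomm c hc s (hR₂P hs), mul_inv_cancel_right]
  have hQC : Q ≤ Subgroup.normalizer (C : Set H) := hQL.trans hLC
  have hQR : Q ≤ Subgroup.normalizer ((pCoreOf p C : Subgroup H) : Set H) := hQL.trans hLR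
  -- `Z₁`: elements normalizing `R_C`, `R₂` and centralizing `R_C` modulo `R₂`
  let Z₁ : Subgroup H :=
    { carrier := {z | (∀ s ∈ pCoreOf p C ⊓ Q, z * s * z⁻¹ ∈ pCoreOf p C ⊓ Q) ∧
        (∀ s ∈ pCoreOf p C ⊓ Q, z⁻¹ * s * z ∈ pCoreOf p C ⊓ Q) ∧
        ∀ r ∈ pCoreOf p C, ⁅r, z⁆ ∈ pCoreOf p C ⊓ Q}
      one_mem' := by
        refine ⟨fun s hs => by simpa using hs, fun s hs => by simpa using hs, fun r _ => ?_⟩
        rw [commutatorElement_def]
        simp
      mul_mem' := by
        rintro a b ⟨ha1, ha2, ha3⟩ ⟨hb1, hb2, hb3⟩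
        refine ⟨fun s hs => ?_, fun s hs => ?_, fun r hr => ?_⟩
        · have := ha1 _ (hb1 s hs)
          have e : a * b * s * (a * b)⁻¹ = a * (b * s * b⁻¹) * a⁻¹ := by group
          rw [e]; exact this
        · have := hb2 _ (ha2 s hs)
          have e : (a * b)⁻¹ * s * (a * b) = b⁻¹ * (a⁻¹ * s * a) * b := by group
          rw [e]; exact this
        · have e : ⁅r, a * b⁆ = ⁅r, a⁆ * (a * ⁅r, b⁆ * a⁻¹) := by
            simp only [commutatorElement_def]; group
          rw [e]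
          exact Subgroup.mul_mem _ (ha3 r hr) (ha1 _ (hb3 r hr))
      inv_mem' := by
        rintro a ⟨ha1, ha2, ha3⟩
        refine ⟨fun s hs => ?_, fun s hs => ?_, fun r hr => ?_⟩
        · have := ha2 s hs
          rw [inv_inv]; exact this
        · have := ha1 s hs
          rw [inv_inv]; exact this
        · have e : ⁅r, a⁻¹⁆ = a⁻¹ * (⁅r, a⁆)⁻¹ * a := by
            simp only [commutatorElement_def]; group
          rw [e]
          exact ha2 _ (Subgroup.inv_mem _ (ha3 r hr)) }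
  have hQZ : Q ≤ Z₁ := by
    intro q hq
    refine ⟨fun s hs => ?_, fun s hs => ?_, fun r hr => ?_⟩
    · exact ⟨conj_mem_of_mem_normalizer (hQR hq) hs.1,
        Q.mul_mem (Q.mul_mem hq hs.2) (Q.inv_mem hq)⟩
    · have h1 := conj_mem_of_mem_normalizer (hQR (Q.inv_mem hq)) hs.1
      rw [inv_inv] at h1
      exact ⟨h1, Q.mul_mem (Q.mul_mem (Q.inv_mem hq) hs.2) hq⟩
    · refine ⟨Lib.Helper24.Coprime.commutator_mem_of_mem_normalizer hr (hQR hq), ?_⟩
      have h1 := conj_mem_of_mem_normalizer (hRQ hr) hq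
      rw [commutatorElement_def]
      exact Q.mul_mem h1 (Q.inv_mem hq)
  have hCZ : ∀ c ∈ C, ∀ z ∈ Z₁, c * z * c⁻¹ ∈ Z₁ := by
    intro c hc z hz
    obtain ⟨hz1, hz2, hz3⟩ := hz
    have hcinv : c⁻¹ ∈ C := C.inv_mem hc
    refine ⟨fun s hs => ?_, fun s hs => ?_, fun r hr => ?_⟩
    · have e : c * z * c⁻¹ * s * (c * z * c⁻¹)⁻¹ = c * (z * (c⁻¹ * s * c⁻¹⁻¹) * z⁻¹) * c⁻¹ := by
        group
      rw [e, hCR₂ c⁻¹ hcinv s hs, hCR₂ c hc _ (hz1 s hs)]
      exact hz1 s hs
    · have e : (c * z * c⁻¹)⁻¹ * s * (c * z * c⁻¹) = c * (z⁻¹ * (c⁻¹ * s * c⁻¹⁻¹) * z) * c⁻¹ := by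
        group
      rw [e, hCR₂ c⁻¹ hcinv s hs, hCR₂ c hc _ (hz2 s hs)]
      exact hz2 s hs
    · have hr' : c⁻¹ * r * c⁻¹⁻¹ ∈ pCoreOf p C := conj_mem_of_mem_normalizer (hCR hcinv) hr
      have e : ⁅r, c * z * c⁻¹⁆ = c * ⁅c⁻¹ * r * c⁻¹⁻¹, z⁆ * c⁻¹ := by
        simp only [commutatorElement_def]; group
      rw [e, hCR₂ c hc _ (hz3 _ hr')]
      exact hz3 _ hr'
  have hEZ : ⁅C, Q⁆ ≤ Z₁ := by
    rw [Subgroup.commutator_le]
    intro c hc q hq
    have e : ⁅c, q⁆ = (c * q * c⁻¹) * q⁻¹ := by rw [commutatorElement_def]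
    rw [e]
    exact Z₁.mul_mem (hCZ c hc q (hQZ hq)) (Z₁.inv_mem (hQZ hq))
  have hEC : ⁅C, Q⁆ ≤ C := by
    rw [Subgroup.commutator_le]
    intro c hc q hq
    have e : ⁅c, q⁆ = c * (q * c⁻¹ * q⁻¹) := by rw [commutatorElement_def]; group
    rw [e]
    exact C.mul_mem hc (conj_mem_of_mem_normalizer (hQC hq) (C.inv_mem hc))
  -- `E = [C, Q]` is a `p`-group
  have hEp : IsPGroup p (⁅C, Q⁆ : Subgroup H) := by
    apply Lib.Helper46.PCore.isPGroup_of_forall_coprime
    intro z hz hcop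
    have hzC : z ∈ C := hEC hz
    obtain ⟨_, _, hz3⟩ := hEZ hz
    obtain ⟨n, hn⟩ := hRp.exists_card_eq
    have hcop2 : (orderOf z).Coprime (Nat.card (pCoreOf p C)) := by
      rw [hn]; exact Nat.Coprime.pow_right n hcop
    have hcent : ∀ r ∈ pCoreOf p C, r * z = z * r := by
      intro r hr
      exact Lib.Helper24.Coprime.commute_of_commutator_commute (hCR hzC) hcop2 hr
        (hCcomm z hzC _ (hR₂P (hz3 r hr)))
    exact Lib.Helper46.PCore.eq_one_of_mem_of_coprime hRp (hC z hzC hcent) hcop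
  -- `C` normalizes `Q`
  have hCQ2 : C ≤ Subgroup.normalizer (Q : Set H) := by
    have hQE : Q ≤ Subgroup.normalizer ((⁅C, Q⁆ : Subgroup H) : Set H) :=
      Subgroup.normalizer_commutator_ge_right C Q
    have hCE : C ≤ Subgroup.normalizer ((⁅C, Q⁆ : Subgroup H) : Set H) :=
      Subgroup.normalizer_commutator_ge_left C Q
    have hpg : IsPGroup p (Q ⊔ ⁅C, Q⁆ : Subgroup H) := hQp.to_sup_of_normal_right' hEp hQE
    have hconj : ∀ c ∈ C, (Q ⊔ ⁅C, Q⁆ : Subgroup H).map (MulAut.conj c).toMonoidHom ≤ Q ⊔ ⁅C, Q⁆ := by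
      intro c hc
      rw [Subgroup.map_sup]
      refine sup_le ?_ ?_
      · rw [conj_le_iff]
        intro q hq
        have e : c * q * c⁻¹ = ⁅c, q⁆ * q := by rw [commutatorElement_def]; group
        rw [e]
        exact Subgroup.mul_mem _ (Subgroup.mem_sup_right (Subgroup.commutator_mem_commutator hc hq))
          (Subgroup.mem_sup_left hq)
      · rw [conj_eq_self_iff.mpr (hCE hc)]
        exact le_sup_right
    intro c hc
    apply wc_normalizer_le hwc hpg le_sup_left
    rw [← conj_eq_self_iff]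
    apply le_antisymm (hconj c hc)
    have h2 := Subgroup.map_mono (f := (MulAut.conj c).toMonoidHom) (hconj c⁻¹ (C.inv_mem hc))
    rw [conj_conj, mul_inv_cancel] at h2
    refine le_trans ?_ h2
    intro x hx
    rw [mem_conj]
    simpa using hx
  have hCQP : C ⊓ Q ≤ P := by
    have h1 : C ⊓ Q ≤ pCoreOf p C := by
      apply Lib.Helper46.PCore.le_pCoreOf inf_le_left
      · intro h hh n hn
        exact ⟨C.mul_mem (C.mul_mem hh hn.1) (C.inv_mem hh),
          conj_mem_of_mem_normalizer (hCQ2 hh) hn.2⟩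
      · exact hQp.to_le inf_le_right
    exact (le_inf h1 inf_le_right).trans hR₂P
  -- (1)
  have part1 : ⁅Q, C⁆ ≤ Q ⊓ P := by
    rw [Subgroup.commutator_le]
    intro q hq c hc
    have h1 : ⁅q, c⁆ ∈ Q := Lib.Helper24.Coprime.commutator_mem_of_mem_normalizer hq (hCQ2 hc)
    have h2 : ⁅q, c⁆ ∈ C := by
      rw [commutatorElement_def]
      exact C.mul_mem (conj_mem_of_mem_normalizer (hQC hq) hc) (C.inv_mem hc)
    exact ⟨h1, hCQP ⟨h2, h1⟩⟩
  -- (2)
  have part2 : IsPGroup p C := by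
    apply Lib.Helper46.PCore.isPGroup_of_forall_coprime
    intro x hx hcop
    obtain ⟨n, hn⟩ := hQp.exists_card_eq
    have hcop2 : (orderOf x).Coprime (Nat.card Q) := by
      rw [hn]; exact Nat.Coprime.pow_right n hcop
    have hcent : ∀ q ∈ Q, q * x = x * q := by
      intro q hq
      exact Lib.Helper24.Coprime.commute_of_commutator_commute (hCQ2 hx) hcop2 hq
        (hCcomm x hx _ (part1 (Subgroup.commutator_mem_commutator hq hx)).2)
    have hxQ : x ∈ Q := hCQ (Subgroup.mem_centralizer_iff.mpr hcent)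
    exact Lib.Helper46.PCore.eq_one_of_mem_of_coprime hQp hxQ hcop
  refine ⟨part1, part2, ?_⟩
  -- (3)
  apply Lib.Helper46.PCore.le_pCore
  · refine ⟨fun k hk g => ?_⟩
    rw [Subgroup.mem_centralizer_iff] at hk ⊢
    intro r hr
    have hr' : g⁻¹ * r * g ∈ Cfsg.pCore p ↥L := by
      have := (Cfsg.pCore_normal p ↥L).conj_mem r hr g⁻¹
      rw [inv_inv] at this
      exact this
    have h1 := hk _ hr'
    calc r * (g * k * g⁻¹) = g * ((g⁻¹ * r * g) * k) * g⁻¹ := by group
      _ = g * (k * (g⁻¹ * r * g)) * g⁻¹ := by rw [h1]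
      _ = g * k * g⁻¹ * r := by group
  · have hle : Subgroup.centralizer (Cfsg.pCore p ↥L : Set ↥L) ≤ C.comap L.subtype := by
      intro k hk
      rw [Subgroup.mem_comap, hCdef, Subgroup.mem_centralizer_iff]
      intro s hs
      rw [hP] at hs
      obtain ⟨r, hr, rfl⟩ := hs
      have := (Subgroup.mem_centralizer_iff.mp hk) r hr
      exact congrArg Subtype.val this
    exact (part2.comap_of_injective L.subtype L.subtype_injective).to_le hle

end main

end Cfsg.Agent.S2842
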