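import Cfsg.Statements.S2844
import Cfsg.Agent.Lib.Helper47.Syl
import Cfsg.Agent.Lib.Helper47.Cent
import Cfsg.Agent.Lib.Helper47.Large

set_option autoImplicit false
open Cfsg

namespace Cfsg.Agent.S2844

open Cfsg.Agent.Lib.Helper47.Syl Cfsg.Agent.Lib.Helper47.Cent Cfsg.Agent.Lib.Helper47.Large

/-- Let Q be a nontrivial large p-subgroup of the finite group H and Q• = O_p(N_H(Q)). Then for every g ∈ H outside N_H(Q): C_H(Q) ∩ C_H(gQg⁻¹) = 1, C_H(Q•) ∩ C_H(gQ•g⁻¹) = 1, Z(Q) ∩ Z(gQg⁻¹) = 1 and Z(Q•) ∩ Z(gQ•g⁻¹) = 1; moreover N_H(Q) = N_H(Q•) and Q• is large in H. -/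
theorem result {H : Type*} [Group H] [Finite H] {p : ℕ} [Fact p.Prime] (Q : Subgroup H) (hQp : IsPGroup p ↥Q) (hQ1 : Q ≠ ⊥) (hL : Cfsg.IsLarge Q) (Qb : Subgroup H) (hQb : Qb = Cfsg.largeBullet p Q) : (∀ g : H, g ∉ Subgroup.normalizer ((Q : Subgroup H) : Set H) → Subgroup.centralizer ((Q : Subgroup H) : Set H) ⊓ Subgroup.centralizer ((((Q : Subgroup H).map (MulAut.conj (g : H)).toMonoidHom) : Subgroup H) : Set H) = ⊥ ∧ Subgroup.centralizer ((Qb : Subgroup H) : Set H) ⊓ Subgroup.centralizer ((((Qb : Subgroup H).map (MulAut.conj (g : H)).toMonoidHom) : Subgroup H) : Set H) = ⊥ ∧ (Q ⊓ Subgroup.centralizer ((Q : Subgroup H) : Set H)) ⊓ (((Q : Subgroup H).map (MulAut.conj (g : H)).toMonoidHom) ⊓ Subgroup.centralizer ((((Q : Subgroup H).map (MulAut.conj (g : H)).toMonoidHom) : Subgroup H) : Set H)) = ⊥ ∧ (Qb ⊓ Subgroup.centralizer ((Qb : Subgroup H) : Set H)) ⊓ (((Qb : Subgroup H).map (MulAut.conj (g : H)).toMonoidHom) ⊓ Subgroup.centralizer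 ((((Qb : Subgroup H).map (MulAut.conj (g : H)).toMonoidHom) : Subgroup H) : Set H)) = ⊥) ∧ Subgroup.normalizer ((Q : Subgroup H) : Set H) = Subgroup.normalizer ((Qb : Subgroup H) : Set H) ∧ Cfsg.IsLarge Qb := by
  subst hQb
  have hQle : Q ≤ Cfsg.largeBullet p Q :=
    le_pCoreOf Subgroup.le_normalizer le_rfl hQp
  have hCle : Subgroup.centralizer ((Cfsg.largeBullet p Q : Subgroup H) : Set H) ≤
      Subgroup.centralizer ((Q : Subgroup H) : Set H) :=
    Subgroup.centralizer_le (by exact_mod_cast hQle)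
  have hbp : IsPGroup p (Cfsg.largeBullet p Q) := pCoreOf_isPGroup p _
  have hb1 : Cfsg.largeBullet p Q ≠ ⊥ := fun h => hQ1 (le_bot_iff.mp (h ▸ hQle))
  have hN : Subgroup.normalizer ((Q : Subgroup H) : Set H) =
      Subgroup.normalizer ((Cfsg.largeBullet p Q : Subgroup H) : Set H) := by
    apply le_antisymm
    · exact le_normalizer_pCoreOf p _
    · have hZ := center_ne_bot hbp hb1
      exact (normalizer_le_normalizer_center _).trans
        (hL.2 _ (inf_le_right.trans hCle) hZ)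
  have hLb : Cfsg.IsLarge (Cfsg.largeBullet p Q) := by
    refine ⟨hCle.trans (hL.1.trans hQle), ?_⟩
    intro U hU hU1
    rw [← hN]
    exact hL.2 U (hU.trans hCle) hU1
  refine ⟨?_, hN, hLb⟩
  intro g hg
  have h1 : Subgroup.centralizer ((Q : Subgroup H) : Set H) ⊓ Subgroup.centralizer ((((Q : Subgroup H).map (MulAut.conj (g : H)).toMonoidHom) : Subgroup H) : Set H) = ⊥ := by
    by_contra hne
    exact hg (mem_normalizer_of_centralizer_inf_ne_bot hQp hQ1 hL hne)
  have h2 : Subgroup.centralizer ((Cfsg.largeBullet p Q : Subgroup H) : Set H) ⊓ Subgroup.centralizer ((((Cfsg.largeBullet p Q : Subgroup H).map (MulAut.conj (g : H)).toMonoidHom) : Subgroup H) : Set H) = ⊥ := by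
    by_contra hne
    have hg' : g ∉ Subgroup.normalizer ((Cfsg.largeBullet p Q : Subgroup H) : Set H) := by
      rw [← hN]; exact hg
    exact hg' (mem_normalizer_of_centralizer_inf_ne_bot hbp hb1 hLb hne)
  refine ⟨h1, h2, ?_, ?_⟩
  · apply le_bot_iff.mp
    rw [← h1]
    exact inf_le_inf inf_le_right inf_le_right
  · apply le_bot_iff.mp
    rw [← h2]
    exact inf_le_inf inf_le_right inf_le_right

end Cfsg.Agent.S2844
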