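import Cfsg.Statements.S2846
import Cfsg.Agent.Lib.Helper47.FrakM
import Cfsg.Agent.Lib.Helper47.Large
import Cfsg.Agent.Lib.Helper48.Large
import Cfsg.Agent.S2843

set_option autoImplicit false
open Cfsg

namespace Cfsg.Agent.S2846

open Cfsg.Agent.Lib.Helper47.Syl Cfsg.Agent.Lib.Helper47.PRed Cfsg.Agent.Lib.Helper47.FrakM

/-- Let Q be a nontrivial large p-subgroup of the finite group H, S a Sylow p-subgroup containing Q, and L a subgroup containing S with O_p(L) ≠ 1 and C_H(O_p(L)) ≤ O_p(L). Then there are a subgroup M containing S having the basic property (M ∈ 𝔐_H, writing Y_X for the largest p-reduced normal subgroup of X and 𝓛_H for the set of subgroups X with O_p(X) ≠ 1 and C_H(O_p(X)) ≤ O_p(X): M ∈ 𝓛_H, M·C_H(Y_M) is the only maximal member of 𝓛_H containing M and its largest p-reduced normal subgroup is again Y_M, C_M(Y_M) is p-closed, and the image of C_M(Y_M) in M/O_p(M) lies in the Frattini subgroup of M/O_p(M)) and a subgroup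 L* with S ≤ L* ≤ M, O_p(L*) ≠ 1, C_H(O_p(L*)) ≤ O_p(L*), such that L·C_H(Y_L) = L*·C_H(Y_L), the weak closures of Q in L and in L* agree and lie in that of M, and Y_L = Y_{L*} ≤ Y_M. If moreover Q is not normal in L, then Q is normal in neither L* nor M. -/
theorem result {H : Type*} [Group H] [Finite H] {p : ℕ} [Fact p.Prime] (Q : Subgroup H) (hQp : IsPGroup p ↥Q) (hQ1 : Q ≠ ⊥) (hLg : Cfsg.IsLarge Q) (S : Sylow p H) (hQS : Q ≤ (S : Subgroup H)) (L : Subgroup H) (hSL : (S : Subgroup H) ≤ L) (hL : L ∈ Cfsg.charPSubgroups p H) : ∃ M Ls : Subgroup H, (S : Subgroup H) ≤ M ∧ Cfsg.IsInFrakM p M ∧ (S : Subgroup H) ≤ Ls ∧ Ls ≤ M ∧ Ls ∈ Cfsg.charPSubgroups p H ∧ L ⊔ Subgroup.centralizer (((Cfsg.largestPReducedOf p L) : Subgroup H) : Set H) = Ls ⊔ Subgroup.centralizer (((Cfsg.largestPReducedOf p L) : Subgroup H) : Set H) ∧ Cfsg.weakClosure Q L = Cfsg.weakClosure Q Ls ∧ Cfsg.weakClosure Q Ls ≤ Cfsg.weakClosure Q M ∧ (Cfsg.largestPReducedOf p L)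 = (Cfsg.largestPReducedOf p Ls) ∧ (Cfsg.largestPReducedOf p Ls) ≤ (Cfsg.largestPReducedOf p M) ∧ (¬ L ≤ Subgroup.normalizer ((Q : Subgroup H) : Set H) → ¬ Ls ≤ Subgroup.normalizer ((Q : Subgroup H) : Set H) ∧ ¬ M ≤ Subgroup.normalizer ((Q : Subgroup H) : Set H)) := by
  have hpar := Cfsg.Agent.Lib.Helper48.Large.parabolicCharacteristic hQp hLg
  obtain ⟨M, Ls, hSM, hFrak, hSLs, hLsM, hLsL, hY, hYM, hfac⟩ :=
    exists_frakM_of_parabolic hpar S L hSL hL
  have hT := isSyl_top S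
  have hYL1 := largest_ne_bot hT hSL hL
  have hYLp : IsPGroup p (Cfsg.largestPReducedOf p L) :=
    (pCoreOf_isPGroup p L).to_le (largest_le_pCoreOf p L)
  have hLY : L ≤ Subgroup.normalizer (Cfsg.largestPReducedOf p L : Set H) :=
    (isRed_largest p L).2.1
  have hLsY : Ls ≤ Subgroup.normalizer (Cfsg.largestPReducedOf p L : Set H) := by
    rw [hY]; exact (isRed_largest p Ls).2.1
  have hwc1 : Cfsg.weakClosure Q L = Cfsg.weakClosure Q Ls := by
    have h1 := (Cfsg.Agent.S2843.result Q hQp hQ1 hLg L (hQS.trans hSL) _ hYLp hYL1 hLY).1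
    have h2 := (Cfsg.Agent.S2843.result Q hQp hQ1 hLg Ls (hQS.trans hSLs) _ hYLp hYL1 hLsY).1
    rw [h1, h2, hfac]
  have hwc2 : Cfsg.weakClosure Q Ls ≤ Cfsg.weakClosure Q M := by
    unfold Cfsg.weakClosure
    apply iSup_le
    rintro ⟨g, hg⟩
    exact le_iSup (fun g : {g : H // Q.map (MulAut.conj g).toMonoidHom ≤ M} =>
      Q.map (MulAut.conj (g : H)).toMonoidHom) ⟨g, hg.trans hLsM⟩
  have hnn : ¬ L ≤ Subgroup.normalizer ((Q : Subgroup H) : Set H) →
      ¬ Ls ≤ Subgroup.normalizer ((Q : Subgroup H) : Set H) := by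
    intro hLQ hLsQ
    apply hLQ
    have hwLs : Cfsg.weakClosure Q Ls ≤ Q := by
      unfold Cfsg.weakClosure
      apply iSup_le
      rintro ⟨g, hg⟩
      have hpg : IsPGroup p (Q ⊔ Q.map (MulAut.conj g).toMonoidHom : Subgroup H) := by
        rw [sup_comm]
        exact (hQp.map _).to_sup_of_normal_right' hQp (hg.trans hLsQ)
      have hgN := Cfsg.Agent.Lib.Helper47.Large.mem_normalizer_of_isPGroup_sup hQ1 hLg hpg
      exact (map_conj_eq_of_mem_normalizer hgN).le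
    intro l hl
    apply Cfsg.Agent.Lib.Helper47.Syl.mem_normalizer_of_map_conj_le
    have h1 : Q.map (MulAut.conj l).toMonoidHom ≤ L := by
      have := Subgroup.map_mono (f := (MulAut.conj l).toMonoidHom) (hQS.trans hSL)
      rwa [map_conj_eq_of_mem_normalizer (Subgroup.le_normalizer hl)] at this
    have h2 : Q.map (MulAut.conj l).toMonoidHom ≤ Cfsg.weakClosure Q L :=
      le_iSup (fun g : {g : H // Q.map (MulAut.conj g).toMonoidHom ≤ L} =>
        Q.map (MulAut.conj (g : H)).toMonoidHom) ⟨l, h1⟩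
    rw [hwc1] at h2
    exact h2.trans hwLs
  refine ⟨M, Ls, hSM, hFrak, hSLs, hLsM, hLsL, hfac, hwc1, hwc2, hY, ?_,
    fun h => ⟨hnn h, fun hMQ => hnn h (hLsM.trans hMQ)⟩⟩
  rw [← hY]; exact hYM

end Cfsg.Agent.S2846
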