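import Cfsg.Statements.S2848
import Cfsg.Agent.Lib.Helper47.PRed2

set_option autoImplicit false
open Cfsg

namespace Cfsg.Agent.S2848

open Cfsg.Agent.Lib.Helper47.Syl Cfsg.Agent.Lib.Helper47.PRed Cfsg.Agent.Lib.Helper47.PRed2 Cfsg.Agent.Lib.Helper47.Cent

/-- Standing hypotheses: G a finite group, S a Sylow p-subgroup, Q a nontrivial large p-subgroup of G contained in S (C_G(Q) ≤ Q and N_G(U) ≤ N_G(Q) for all nontrivial U ≤ C_G(Q)), and M a subgroup containing S with the basic property (M ∈ 𝔐_G(S)); Y_M denotes the largest p-reduced normal subgroup of M and M† = M·C_G(Y_M). Then O_p(M) is a weakly closed subgroup of M† (for p): it is the only M†-conjugate of itself inside some Sylow p-subgroup of M† containing it. -/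
theorem result {G : Type*} [Group G] [Finite G] {p : ℕ} [Fact p.Prime] (S : Sylow p G) (Q : Subgroup G) (hQp : IsPGroup p ↥Q) (hQ1 : Q ≠ ⊥) (hQS : Q ≤ (S : Subgroup G)) (hQ : Cfsg.IsLarge Q) (M : Subgroup G) (hSM : (S : Subgroup G) ≤ M) (hM : Cfsg.IsInFrakM p M) : Cfsg.IsWeaklyClosedSubgroup p (((Cfsg.pCoreOf p M)).subgroupOf (M ⊔ Subgroup.centralizer (((Cfsg.largestPReducedOf p M) : Subgroup G) : Set G))) := by
  obtain ⟨_, _, _, _, hpc, _⟩ := hM
  have hS := isSyl_top S
  have hSsM : IsSyl p (S : Subgroup G) M := isSyl_of_sylow_le S hSM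
  have hY := isRed_largest p M
  have hMC := le_normalizer_centralizer hY.2.1
  have hMCM : M ≤ Subgroup.normalizer ((M ⊓ Subgroup.centralizer (((Cfsg.largestPReducedOf p M) : Subgroup G) : Set G) : Subgroup G) : Set G) :=
    le_normalizer_inf Subgroup.le_normalizer hMC
  have hSCM := hSsM.inf_normal inf_le_left hMCM
  have hn := (isPClosed_iff _).mp hpc _ hSCM
  have hMn : M ≤ Subgroup.normalizer (((S : Subgroup G) ⊓ (M ⊓ Subgroup.centralizer (((Cfsg.largestPReducedOf p M) : Subgroup G) : Set G)) : Subgroup G) : Set G) := by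
    intro m hm
    rw [mem_normalizer_iff_map_conj]
    have h1 := hSCM.map_conj m
    rw [map_conj_eq_of_mem_normalizer (hMCM hm)] at h1
    exact hSCM.eq_of_normal hn h1
  have hO : Cfsg.pCoreOf p M = (S : Subgroup G) ⊓ Subgroup.centralizer (((Cfsg.largestPReducedOf p M) : Subgroup G) : Set G) := by
    apply le_antisymm
    · exact le_inf hSsM.pCoreOf_le (pCoreOf_le_centralizer_largest p M)
    · have h1 : (S : Subgroup G) ⊓ Subgroup.centralizer (((Cfsg.largestPReducedOf p M) : Subgroup G) : Set G) ≤ (S : Subgroup G) ⊓ (M ⊓ Subgroup.centralizer (((Cfsg.largestPReducedOf p M) : Subgroup G) : Set G)) :=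
        le_inf inf_le_left (le_inf (inf_le_left.trans hSsM.1) inf_le_right)
      exact h1.trans (le_pCoreOf (inf_le_right.trans inf_le_left) hMn hSCM.2.1)
  have hSd : IsSyl p (S : Subgroup G) (M ⊔ Subgroup.centralizer (((Cfsg.largestPReducedOf p M) : Subgroup G) : Set G)) :=
    hS.of_le (hSsM.1.trans le_sup_left) le_top
  obtain ⟨P, hP, _⟩ := hSd.exists_sylow
  refine ⟨P, ?_, ?_⟩
  · rw [hP]
    intro x hx
    rw [Subgroup.mem_subgroupOf] at hx ⊢
    exact hSsM.pCoreOf_le hx
  · intro g hg
    apply Subgroup.eq_of_le_of_card_ge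
    · rintro x ⟨w, hw, rfl⟩
      have hxS : (((MulAut.conj g).toMonoidHom w : ↥(M ⊔ Subgroup.centralizer (((Cfsg.largestPReducedOf p M) : Subgroup G) : Set G))) : G) ∈ (S : Subgroup G) := by
        have h1 := hg ⟨w, hw, rfl⟩
        rw [hP] at h1
        exact Subgroup.mem_subgroupOf.mp h1
      have hw' : (w : G) ∈ Cfsg.pCoreOf p M := Subgroup.mem_subgroupOf.mp hw
      rw [Subgroup.mem_subgroupOf, hO]
      refine Subgroup.mem_inf.mpr ⟨hxS, ?_⟩
      have hgN := sup_le_normalizer_centralizer hY.2.1 g.2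
      have hwC := pCoreOf_le_centralizer_largest p M hw'
      have h2 := conj_mem_of_mem_normalizer hgN hwC
      simpa [MulAut.conj_apply] using h2
    · rw [Subgroup.card_map_of_injective (MulAut.conj g).injective]

end Cfsg.Agent.S2848
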