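import Cfsg.Statements.S2849
import Cfsg.Agent.Lib.Helper47.PRed2
import Cfsg.Agent.Lib.Helper47.Elem

set_option autoImplicit false
open Cfsg

namespace Cfsg.Agent.S2849

open Cfsg.Agent.Lib.Helper47.Syl Cfsg.Agent.Lib.Helper47.PRed Cfsg.Agent.Lib.Helper47.PRed2 Cfsg.Agent.Lib.Helper47.Cent Cfsg.Agent.Lib.Helper47.Elem
open scoped commutatorElement

/-- Standing hypotheses: G a finite group, S a Sylow p-subgroup, Q a nontrivial large p-subgroup of G contained in S (C_G(Q) ≤ Q and N_G(U) ≤ N_G(Q) for all nontrivial U ≤ C_G(Q)), and M a subgroup containing S with the basic property (M ∈ 𝔐_G(S)); Y_M denotes the largest p-reduced normal subgroup of M and M† = M·C_G(Y_M). Suppose Y_M is asymmetric in G. Then for every subgroup R with Y_M ≤ R ≤ M†, the normal closure of Y_M in N_G(R) is elementary abelian. -/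
theorem result {G : Type*} [Group G] [Finite G] {p : ℕ} [Fact p.Prime] (S : Sylow p G) (Q : Subgroup G) (hQp : IsPGroup p ↥Q) (hQ1 : Q ≠ ⊥) (hQS : Q ≤ (S : Subgroup G)) (hQ : Cfsg.IsLarge Q) (M : Subgroup G) (hSM : (S : Subgroup G) ≤ M) (hM : Cfsg.IsInFrakM p M) (hasym : ¬ Cfsg.IsSymmetricIn (Cfsg.largestPReducedOf p M)) (R : Subgroup G) (hYR : (Cfsg.largestPReducedOf p M) ≤ R) (hRM : R ≤ (M ⊔ Subgroup.centralizer (((Cfsg.largestPReducedOf p M) : Subgroup G) : Set G))) : Cfsg.IsElementaryAbelian p ((Subgroup.normalClosure ((((Cfsg.largestPReducedOf p M)).subgroupOf (Subgroup.normalizer ((R : Subgroup G) : Set G)) : Subgroup ↥(Subgroup.normalizer ((R : Subgroup G) : Set G))) : Set ↥(Subgroup.normalizer ((R : Subgroup G) : Set G)))).map (Subgroup.normalizer ((R : Subgroup G) : Set G)).subtype) := by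
  have hY := isRed_largest p M
  have hMdN := sup_centralizer_le_normalizer hY.2.1
  have key : ∀ g ∈ Subgroup.normalizer ((R : Subgroup G) : Set G), Cfsg.largestPReducedOf p M ≤
      Subgroup.centralizer ((((Cfsg.largestPReducedOf p M).map (MulAut.conj g).toMonoidHom) : Subgroup G) : Set G) := by
    intro g hg
    rw [← Subgroup.commutator_eq_bot_iff_le_centralizer]
    by_contra hne
    apply hasym
    refine ⟨g, hne, ?_⟩
    rw [Subgroup.commutator_le]
    intro a ha b hb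
    refine Subgroup.mem_inf.mpr ⟨?_, ?_⟩
    · have hbR : b ∈ R := by
        rw [mem_map_conj] at hb
        have h1 := conj_mem_of_mem_normalizer hg (hYR hb)
        simpa [mul_assoc] using h1
      have hbN := hMdN (hRM hbR)
      have h1 : b * a⁻¹ * b⁻¹ ∈ Cfsg.largestPReducedOf p M :=
        conj_mem_of_mem_normalizer hbN (Subgroup.inv_mem _ ha)
      have h2 : ⁅a, b⁆ = a * (b * a⁻¹ * b⁻¹) := by rw [commutatorElement_def]; group
      rw [h2]
      exact Subgroup.mul_mem _ ha h1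
    · have haN : a ∈ Subgroup.normalizer ((((Cfsg.largestPReducedOf p M).map (MulAut.conj g).toMonoidHom) : Subgroup G) : Set G) := by
        rw [mem_normalizer_map_conj]
        exact hMdN (hRM (conj_mem_of_mem_normalizer' hg (hYR ha)))
      have h1 := conj_mem_of_mem_normalizer haN hb
      have h2 : ⁅a, b⁆ = (a * b * a⁻¹) * b⁻¹ := by rw [commutatorElement_def]
      rw [h2]
      exact Subgroup.mul_mem _ h1 (Subgroup.inv_mem _ hb)
  have hZ : ∀ x ∈ ((Subgroup.normalizer ((R : Subgroup G) : Set G)).subtype '' Group.conjugatesOfSet ((((Cfsg.largestPReducedOf p M)).subgroupOf (Subgroup.normalizer ((R : Subgroup G) : Set G)) : Subgroup ↥(Subgroup.normalizer ((R : Subgroup G) : Set G))) : Set ↥(Subgroup.normalizer ((R : Subgroup G) : Set G)))),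
      ∃ g ∈ Subgroup.normalizer ((R : Subgroup G) : Set G), ∃ y ∈ Cfsg.largestPReducedOf p M, x = g * y * g⁻¹ := by
    rintro x ⟨c, hc, rfl⟩
    obtain ⟨b, hb, hbc⟩ := Group.mem_conjugatesOfSet_iff.mp hc
    obtain ⟨u, hu⟩ := isConj_iff.mp hbc
    refine ⟨u, u.2, b, Subgroup.mem_subgroupOf.mp hb, ?_⟩
    rw [← hu]
    simp
  rw [Subgroup.normalClosure, MonoidHom.map_closure]
  apply isElementaryAbelian_closure
  · intro x₁ hx₁ x₂ hx₂
    obtain ⟨g, hg, y₁, hy₁, rfl⟩ := hZ x₁ hx₁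
    obtain ⟨h, hh, y₂, hy₂, rfl⟩ := hZ x₂ hx₂
    have hk := key (g⁻¹ * h) (Subgroup.mul_mem _ (Subgroup.inv_mem _ hg) hh) hy₁
    rw [Subgroup.mem_centralizer_iff] at hk
    have e := hk _ (conj_mem_map_conj (g := g⁻¹ * h) hy₂)
    calc g * y₁ * g⁻¹ * (h * y₂ * h⁻¹) = g * (y₁ * ((g⁻¹ * h) * y₂ * (g⁻¹ * h)⁻¹)) * g⁻¹ := by group
      _ = g * ((g⁻¹ * h) * y₂ * (g⁻¹ * h)⁻¹ * y₁) * g⁻¹ := by rw [e]
      _ = h * y₂ * h⁻¹ * (g * y₁ * g⁻¹) := by group
  · intro x hx
    obtain ⟨g, hg, y, hy, rfl⟩ := hZ x hx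
    rw [conj_pow, hY.pow_eq_one hy]
    simp

end Cfsg.Agent.S2849
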