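import Cfsg.Statements.S2850
import Cfsg.Agent.Lib.Helper47.FrakM
import Cfsg.Agent.Lib.Helper47.Asym
import Cfsg.Agent.S2838
import Cfsg.Agent.S2839
import Cfsg.Agent.S2845

set_option autoImplicit false
open Cfsg

namespace Cfsg.Agent.S2850

open Cfsg.Agent.Lib.Helper47.Syl Cfsg.Agent.Lib.Helper47.PRed Cfsg.Agent.Lib.Helper47.PRed2 Cfsg.Agent.Lib.Helper47.Cent Cfsg.Agent.Lib.Helper47.FrakM Cfsg.Agent.Lib.Helper47.Asym

/-- the abstract form: from the critical pair argument to the four conclusions -/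
theorem core {G : Type*} [Group G] [Finite G] {p : ℕ} [Fact p.Prime] (M Y O Md : Subgroup G)
    (hyp : Hyp p Y O) (hY1 : Y ≠ ⊥) (hOC : O ≤ Subgroup.centralizer (Y : Set G))
    (hMO : M ≤ Subgroup.normalizer (O : Set G))
    (hU : ∀ R : Subgroup G, IsPGroup p ↥R → R ≠ ⊥ → M ≤ Subgroup.normalizer (R : Set G) →
      Subgroup.normalizer (R : Set G) ≤ Md)
    (hMdN : Md ≤ Subgroup.normalizer (Y : Set G))
    (hMd : ∀ n ∈ Md, ∃ m ∈ M, ∃ c ∈ Subgroup.centralizer (Y : Set G), n = m * c) :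
    (∀ L : Subgroup G, IsPGroup p ↥L → O ≤ L →
      Subgroup.normalizer ((L : Subgroup G) : Set G) ≤ Subgroup.normalizer ((O : Subgroup G) : Set G) ∧
        Subgroup.normalizer ((O : Subgroup G) : Set G) ≤ Md) ∧
    Cfsg.IsWeaklyClosedSubgroup p O ∧
    (∀ L : Subgroup G, O ≤ L → Cfsg.IsParabolic p ((L ⊓ Md).subgroupOf L)) ∧
    (∀ x ∈ Y, ∀ g : G, g * x * g⁻¹ ∈ Y → ∃ m ∈ M, m * x * m⁻¹ = g * x * g⁻¹) := by
  have hOp := hyp.pg
  have hO1 : O ≠ ⊥ := fun h => hY1 (le_bot_iff.mp (h ▸ hyp.le))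
  obtain ⟨W, hYW, hWO, hWn⟩ := exists_normalized hyp
  have hW1 : W ≠ ⊥ := fun h => hY1 (le_bot_iff.mp (h ▸ hYW))
  have hWp : IsPGroup p ↥W := hOp.to_le hWO
  have hMW : M ≤ Subgroup.normalizer (W : Set G) :=
    fun m hm => hWn m (mem_adj_of_mem_normalizer (hMO hm))
  have hNW := hU W hWp hW1 hMW
  have hNO : Subgroup.normalizer (O : Set G) ≤ Md := hU O hOp hO1 hMO
  have key : ∀ g : G, ⁅O, O.map (MulAut.conj g).toMonoidHom⁆ ≤ O ⊓ O.map (MulAut.conj g).toMonoidHom →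
      O.map (MulAut.conj g).toMonoidHom = O := by
    intro g hg
    obtain ⟨n1, n2⟩ := Cfsg.Agent.S2838.normalize_of_comm_le hg
    have hgA : g ∈ Adj O := ⟨n2, n1⟩
    have hgY : g ∈ Subgroup.normalizer (Y : Set G) := hMdN (hNW (hWn g hgA))
    apply Subgroup.eq_of_le_of_card_ge _ (card_map_conj O g).ge
    have hT : IsPGroup p ↥(O ⊔ O.map (MulAut.conj g).toMonoidHom) :=
      IsPGroup.to_sup_of_normal_left' hOp (hOp.map _) hgA.1
    have hC : O.map (MulAut.conj g).toMonoidHom ≤ Subgroup.centralizer (Y : Set G) := by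
      intro x hx
      rw [mem_map_conj] at hx
      have h1 := hOC hx
      rw [Subgroup.mem_centralizer_iff] at h1 ⊢
      intro y hy
      have hy' : g⁻¹ * y * g ∈ Y := conj_mem_of_mem_normalizer' hgY hy
      have h2 := h1 _ hy'
      have h3 : g * (g⁻¹ * y * g * (g⁻¹ * x * g)) * g⁻¹ = g * (g⁻¹ * x * g * (g⁻¹ * y * g)) * g⁻¹ := by
        rw [h2]
      have e1 : g * (g⁻¹ * y * g * (g⁻¹ * x * g)) * g⁻¹ = y * x := by group
      have e2 : g * (g⁻¹ * x * g * (g⁻¹ * y * g)) * g⁻¹ = x * y := by group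
      rw [e1, e2] at h3
      exact h3
    exact (le_inf le_sup_right hC).trans (hyp.syl _ hT le_sup_left)
  have hwc : Cfsg.IsWeaklyClosedSubgroup p O := ((Cfsg.Agent.S2838.result O hOp hO1).1).mpr key
  refine ⟨?_, hwc, ?_, ?_⟩
  · intro L hL hOL
    exact ⟨((Cfsg.Agent.S2838.result O hOp hO1).2).mp hwc L hL hOL, hNO⟩
  · intro L hOL
    obtain ⟨_, _, ⟨T, hT⟩, _⟩ := Cfsg.Agent.S2839.result O hOp hO1 hwc L hOL ⊤
    refine ⟨T, fun x hx => ?_⟩
    have h1 := hT hx
    rw [Subgroup.mem_subgroupOf] at h1 ⊢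
    exact ⟨x.2, hNO h1⟩
  · intro x hx g hgx
    have hOK : O ≤ Subgroup.centralizer ({g * x * g⁻¹} : Set G) := by
      intro y hy
      rw [Subgroup.mem_centralizer_iff]
      intro z hz
      rw [Set.mem_singleton_iff] at hz
      subst hz
      exact (Subgroup.mem_centralizer_iff.mp (hOC hy)) _ hgx
    have hOgK : O.map (MulAut.conj g).toMonoidHom ≤ Subgroup.centralizer ({g * x * g⁻¹} : Set G) := by
      intro y hy
      rw [mem_map_conj] at hy
      rw [Subgroup.mem_centralizer_iff]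
      intro z hz
      rw [Set.mem_singleton_iff] at hz
      subst hz
      have h1 := (Subgroup.mem_centralizer_iff.mp (hOC hy)) x hx
      have h3 : g * (x * (g⁻¹ * y * g)) * g⁻¹ = g * (g⁻¹ * y * g * x) * g⁻¹ := by rw [h1]
      have e1 : g * (x * (g⁻¹ * y * g)) * g⁻¹ = g * x * g⁻¹ * y := by group
      have e2 : g * (g⁻¹ * y * g * x) * g⁻¹ = y * (g * x * g⁻¹) := by group
      rw [e1, e2] at h3
      exact h3
    obtain ⟨_, hconj, _⟩ := Cfsg.Agent.S2839.result O hOp hO1 hwc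
      (Subgroup.centralizer ({g * x * g⁻¹} : Set G)) hOK ⊤
    obtain ⟨k, hk, hke⟩ := hconj g hOgK
    have hn : k⁻¹ * g ∈ Subgroup.normalizer (O : Set G) := by
      rw [mem_normalizer_iff_map_conj, ← map_conj_map_conj, hke, map_conj_map_conj, inv_mul_cancel,
        map_conj_one]
    obtain ⟨m, hm, c, hc, e⟩ := hMd _ (hNO hn)
    refine ⟨m, hm, ?_⟩
    have hcx : x * c = c * x := (Subgroup.mem_centralizer_iff.mp hc) x hx
    have hkx : g * x * g⁻¹ * k = k * (g * x * g⁻¹) :=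
      (Subgroup.mem_centralizer_iff.mp hk) _ (Set.mem_singleton _)
    have hm' : m = k⁻¹ * g * c⁻¹ := by rw [e]; group
    have h1 : c⁻¹ * x * c = x := by rw [mul_assoc, hcx, ← mul_assoc, inv_mul_cancel, one_mul]
    have h2 : k⁻¹ * (g * x * g⁻¹) * k = g * x * g⁻¹ := by
      rw [mul_assoc, hkx, ← mul_assoc, inv_mul_cancel, one_mul]
    rw [hm']
    calc k⁻¹ * g * c⁻¹ * x * (k⁻¹ * g * c⁻¹)⁻¹ = k⁻¹ * (g * (c⁻¹ * x * c) * g⁻¹) * k := by group
      _ = g * x * g⁻¹ := by rw [h1, h2]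

/-- Standing hypotheses: G a finite group, S a Sylow p-subgroup, Q a nontrivial large p-subgroup of G contained in S (C_G(Q) ≤ Q and N_G(U) ≤ N_G(Q) for all nontrivial U ≤ C_G(Q)), and M a subgroup containing S with the basic property (M ∈ 𝔐_G(S)); Y_M denotes the largest p-reduced normal subgroup of M and M† = M·C_G(Y_M). Suppose Y_M is asymmetric in G. Then N_G(L) ≤ N_G(O_p(M)) ≤ M† for every p-subgroup L containing O_p(M); O_p(M) is a weakly closed subgroup of G; for every subgroup L containing O_p(M), L ∩ M† contains a Sylow p-subgroup of L; and two elements of Y_M conjugate in G are conjugate in M. -/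
theorem result {G : Type*} [Group G] [Finite G] {p : ℕ} [Fact p.Prime] (S : Sylow p G) (Q : Subgroup G) (hQp : IsPGroup p ↥Q) (hQ1 : Q ≠ ⊥) (hQS : Q ≤ (S : Subgroup G)) (hQ : Cfsg.IsLarge Q) (M : Subgroup G) (hSM : (S : Subgroup G) ≤ M) (hM : Cfsg.IsInFrakM p M) (hasym : ¬ Cfsg.IsSymmetricIn (Cfsg.largestPReducedOf p M)) : (∀ L : Subgroup G, IsPGroup p ↥L → (Cfsg.pCoreOf p M) ≤ L → Subgroup.normalizer ((L : Subgroup G) : Set G) ≤ Subgroup.normalizer (((Cfsg.pCoreOf p M) : Subgroup G) : Set G) ∧ Subgroup.normalizer (((Cfsg.pCoreOf p M) : Subgroup G) : Set G) ≤ (M ⊔ Subgroup.centralizer (((Cfsg.largestPReducedOf p M) : Subgroup G) : Set G))) ∧ Cfsg.IsWeaklyClosedSubgroup p (Cfsg.pCoreOf p M) ∧ (∀ L : Subgroup G, (Cfsg.pCoreOf p M) ≤ L → Cfsg.IsParabolic p ((L ⊓ (M ⊔ Subgroup.centralizer (((Cfsg.largestPReducedOf p M) : Subgroup G) : Set G))).subgroupOf L)) ∧ (∀ x ∈ (Cfsg.largestPReducedOf p M), ∀ g : G, g * x * g⁻¹ ∈ (Cfsg.largestPReducedOf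 p M) → ∃ m ∈ M, m * x * m⁻¹ = g * x * g⁻¹) := by
  have hM' := hM
  obtain ⟨hMc, hMmax, hMuniq, _, hpc, _⟩ := hM
  have hS := isSyl_top S
  have hSsM : IsSyl p (S : Subgroup G) M := isSyl_of_sylow_le S hSM
  have hY := isRed_largest p M
  have hMC := le_normalizer_centralizer hY.2.1
  have hMCM : M ≤ Subgroup.normalizer ((M ⊓ Subgroup.centralizer (((Cfsg.largestPReducedOf p M) : Subgroup G) : Set G) : Subgroup G) : Set G) :=
    le_normalizer_inf Subgroup.le_normalizer hMC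
  have hSCM := hSsM.inf_normal inf_le_left hMCM
  have hn := (isPClosed_iff _).mp hpc _ hSCM
  have hMn : M ≤ Subgroup.normalizer (((S : Subgroup G) ⊓ (M ⊓ Subgroup.centralizer (((Cfsg.largestPReducedOf p M) : Subgroup G) : Set G)) : Subgroup G) : Set G) := by
    intro m hm
    rw [mem_normalizer_iff_map_conj]
    have h1 := hSCM.map_conj m
    rw [map_conj_eq_of_mem_normalizer (hMCM hm)] at h1
    exact hSCM.eq_of_normal hn h1
  have hO : Cfsg.pCoreOf p M = (S : Subgroup G) ⊓ Subgroup.centralizer (((Cfsg.largestPReducedOf p M) : Subgroup G) : Set G) := by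
    apply le_antisymm
    · exact le_inf hSsM.pCoreOf_le (pCoreOf_le_centralizer_largest p M)
    · have h1 : (S : Subgroup G) ⊓ Subgroup.centralizer (((Cfsg.largestPReducedOf p M) : Subgroup G) : Set G) ≤ (S : Subgroup G) ⊓ (M ⊓ Subgroup.centralizer (((Cfsg.largestPReducedOf p M) : Subgroup G) : Set G)) :=
        le_inf inf_le_left (le_inf (inf_le_left.trans hSsM.1) inf_le_right)
      exact h1.trans (le_pCoreOf (inf_le_right.trans inf_le_left) hMn hSCM.2.1)
  have hOSyl : IsSyl p (Cfsg.pCoreOf p M) (Subgroup.centralizer (((Cfsg.largestPReducedOf p M) : Subgroup G) : Set G)) := by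
    rw [hO]
    exact (hS.of_le (hSM.trans hY.2.1) le_top).inf_normal (Subgroup.centralizer_le_normalizer _)
      (normalizer_le_normalizer_centralizer _)
  have hpar := (Cfsg.Agent.S2845.result Q hQp hQ1 hQ).2.1
  have hMdN := sup_centralizer_le_normalizer hY.2.1
  have hU : ∀ R : Subgroup G, IsPGroup p ↥R → R ≠ ⊥ → M ≤ Subgroup.normalizer (R : Set G) →
      Subgroup.normalizer (R : Set G) ≤ M ⊔ Subgroup.centralizer (((Cfsg.largestPReducedOf p M) : Subgroup G) : Set G) := by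
    intro R hRp hR1 hMR
    have hRN : R ≤ Cfsg.pCoreOf p (Subgroup.normalizer (R : Set G)) :=
      le_pCoreOf Subgroup.le_normalizer le_rfl hRp
    have hN1 : Cfsg.pCoreOf p (Subgroup.normalizer (R : Set G)) ≠ ⊥ :=
      fun h => hR1 (le_bot_iff.mp (h ▸ hRN))
    have hNc : Subgroup.normalizer (R : Set G) ∈ Cfsg.charPSubgroups p G := by
      rw [mem_charP_iff]
      refine ⟨hN1, hpar _ ⟨S, hSM.trans hMR⟩ ?_⟩
      intro h
      apply hN1
      unfold Cfsg.pCoreOf
      rw [h, Subgroup.map_bot]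
    obtain ⟨X, hNX, hXmax⟩ := (Set.toFinite {X : Subgroup G | X ∈ Cfsg.charPSubgroups p G}).exists_le_maximal hNc
    have hXm : X ∈ Cfsg.maxCharPSubgroups p G :=
      ⟨hXmax.1, fun L hL hXL => le_antisymm (hXmax.2 hL hXL) hXL⟩
    have hXe := hMuniq X hXm (hMR.trans hNX)
    rw [← hXe]
    exact hNX
  have hyp : Hyp p (Cfsg.largestPReducedOf p M) (Cfsg.pCoreOf p M) := by
    refine ⟨largest_le_pCoreOf p M, ?_, pCoreOf_isPGroup p M, ?_, ?_⟩
    · intro T hT hOT
      exact (hOSyl.2.2 _ (hT.to_le inf_le_left) (le_inf hOT hOSyl.1) inf_le_right).le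
    · exact (hU _ (pCoreOf_isPGroup p M) (mem_charP_iff.mp hMc).1 (le_normalizer_pCoreOf p M)).trans hMdN
    · intro g hA hB
      by_contra hC
      apply hasym
      refine ⟨g, ?_, Cfsg.Agent.S2838.comm_le_of_normalize hA hB⟩
      intro hbot
      apply hC
      rw [Subgroup.commutator_eq_bot_iff_le_centralizer] at hbot
      exact Subgroup.le_centralizer_iff.mp hbot
  exact core M _ _ _ hyp (largest_ne_bot hS hSM hMc) (pCoreOf_le_centralizer_largest p M)
    (le_normalizer_pCoreOf p M) hU hMdN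
    (fun n hn => exists_mul_of_mem_sup_left hMC hn)

end Cfsg.Agent.S2850
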