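import Cfsg.Statements.S2851
import Cfsg.Agent.Lib.Helper47.FrakH
import Cfsg.Agent.S2850
import Cfsg.Agent.Lib.Helper21.FStar

set_option autoImplicit false
open Cfsg

namespace Cfsg.Agent.S2851

open Cfsg.Agent.Lib.Helper47.Syl Cfsg.Agent.Lib.Helper47.Cent Cfsg.Agent.Lib.Helper47.FrakM2
  Cfsg.Agent.Lib.Helper47.PRes Cfsg.Agent.Lib.Helper47.PRed Cfsg.Agent.Lib.Helper47.PRed2
  Cfsg.Agent.Lib.Helper47.FrakH Cfsg.Agent.Lib.Helper47.FrakM

/-- the kernel of the action on `Y` lies in the preimage `F` -/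
theorem ker_le_F {G : Type*} [Group G] (Y Md : Subgroup G)
    [hn : ((Subgroup.centralizer (Y : Set G)).subgroupOf Md).Normal]
    (F : Subgroup G)
    (hF : F = ((generalizedFittingSubgroup
      (↥Md ⧸ (Subgroup.centralizer (Y : Set G)).subgroupOf Md)).comap
        (QuotientGroup.mk' ((Subgroup.centralizer (Y : Set G)).subgroupOf Md))).map Md.subtype) :
    Md ⊓ Subgroup.centralizer (Y : Set G) ≤ F := by
  rintro x ⟨hxM, hxC⟩
  rw [hF]
  refine ⟨⟨x, hxM⟩, Subgroup.mem_comap.mpr ?_, rfl⟩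
  have h1 : (QuotientGroup.mk' ((Subgroup.centralizer (Y : Set G)).subgroupOf Md)) ⟨x, hxM⟩ = 1 := by
    rw [QuotientGroup.mk'_apply, QuotientGroup.eq_one_iff]
    exact Subgroup.mem_subgroupOf.mpr hxC
  rw [h1]
  exact Subgroup.one_mem _

/-- `Y` stays `p`-reduced in every subgroup of `M†` containing the preimage `F` of
`F*(M†/C(Y))` -/
theorem isRed_of_F_le {G : Type*} [Group G] [Finite G] {p : ℕ} [Fact p.Prime] (Y Md : Subgroup G)
    (hY : IsRed p Y Md) [hn : ((Subgroup.centralizer (Y : Set G)).subgroupOf Md).Normal]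
    (F : Subgroup G)
    (hF : F = ((generalizedFittingSubgroup
      (↥Md ⧸ (Subgroup.centralizer (Y : Set G)).subgroupOf Md)).comap
        (QuotientGroup.mk' ((Subgroup.centralizer (Y : Set G)).subgroupOf Md))).map Md.subtype)
    (H₁ : Subgroup G) (hFH : F ≤ H₁) (hHM : H₁ ≤ Md) : IsRed p Y H₁ := by
  obtain ⟨hYM, hMY, hab, hexp, hred⟩ := hY
  have hYC : Y ≤ Subgroup.centralizer (Y : Set G) := by
    intro y hy
    rw [Subgroup.mem_centralizer_iff]
    intro z hz
    exact hab z hz y hy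
  refine ⟨fun y hy => hFH (ker_le_F Y Md F hF ⟨hYM hy, hYC hy⟩), hHM.trans hMY, hab, hexp, ?_⟩
  intro D hDH hHD hpow
  -- the quotient
  have hFn : (generalizedFittingSubgroup
      (↥Md ⧸ (Subgroup.centralizer (Y : Set G)).subgroupOf Md)).Normal :=
    Cfsg.Agent.Lib.Helper21.FStar.gfs_normal
  have hFc := Cfsg.Agent.Lib.Helper21.FStar.centralizer_gfs_le
    (G := ↥Md ⧸ (Subgroup.centralizer (Y : Set G)).subgroupOf Md)
  have hpc : pCore p (↥Md ⧸ (Subgroup.centralizer (Y : Set G)).subgroupOf Md) = ⊥ := by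
    rw [pCore_quotient_eq_bot_iff]
    intro E hE hEpow
    have h1 := hred (E.map Md.subtype) (Subgroup.map_subtype_le _) (le_normalizer_map_subtype E) (by
      rintro _ ⟨e, he, rfl⟩
      obtain ⟨k, hk⟩ := hEpow e he
      exact ⟨k, Subgroup.mem_subgroupOf.mp hk⟩)
    intro e he
    exact Subgroup.mem_subgroupOf.mpr (h1 (Subgroup.mem_map_of_mem _ he))
  obtain ⟨Db, hDb⟩ : ∃ Db : Subgroup (↥Md ⧸ (Subgroup.centralizer (Y : Set G)).subgroupOf Md),
      Db = (D.subgroupOf Md).map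
        (QuotientGroup.mk' ((Subgroup.centralizer (Y : Set G)).subgroupOf Md)) := ⟨_, rfl⟩
  have hDbp : IsPGroup p ↥Db := by
    rintro ⟨_, hx⟩
    rw [hDb] at hx
    obtain ⟨d, hd, rfl⟩ := hx
    obtain ⟨k, hk⟩ := hpow d (Subgroup.mem_subgroupOf.mp hd)
    refine ⟨k, Subtype.ext ?_⟩
    simp only [Subgroup.coe_pow, Subgroup.coe_one, QuotientGroup.mk'_apply]
    rw [← QuotientGroup.mk_pow, QuotientGroup.eq_one_iff]
    exact Subgroup.mem_subgroupOf.mpr hk
  have hFDb : generalizedFittingSubgroup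
      (↥Md ⧸ (Subgroup.centralizer (Y : Set G)).subgroupOf Md) ≤
      Subgroup.normalizer (Db : Set (↥Md ⧸ (Subgroup.centralizer (Y : Set G)).subgroupOf Md)) := by
    apply le_normalizer_of_conj_mem
    intro f hf x hx
    obtain ⟨f', rfl⟩ := QuotientGroup.mk'_surjective _ f
    rw [hDb] at hx ⊢
    obtain ⟨d, hd, rfl⟩ := hx
    have hf'F : (f' : G) ∈ F := by
      rw [hF]
      exact ⟨f', hf, rfl⟩
    have h1 : (f' : G) * (d : G) * (f' : G)⁻¹ ∈ D :=
      conj_mem_of_mem_normalizer (hHD (hFH hf'F)) (Subgroup.mem_subgroupOf.mp hd)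
    refine ⟨f' * d * f'⁻¹, Subgroup.mem_subgroupOf.mpr h1, ?_⟩
    simp
  have hW : Db ⊓ generalizedFittingSubgroup
      (↥Md ⧸ (Subgroup.centralizer (Y : Set G)).subgroupOf Md) = ⊥ := by
    rw [eq_bot_iff, ← hpc, ← pCoreOf_top]
    refine le_trans (le_pCoreOf inf_le_right ?_ (hDbp.to_le inf_le_left))
      (pCoreOf_le_pCoreOf_of_normal le_top (by rw [Subgroup.normalizer_eq_top]))
    intro f hf
    exact normalizer_inf_le _ _ ⟨hFDb hf, Subgroup.le_normalizer hf⟩
  intro d hd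
  have hdM : d ∈ Md := hHM (hDH hd)
  have hdb : (QuotientGroup.mk' ((Subgroup.centralizer (Y : Set G)).subgroupOf Md)) ⟨d, hdM⟩ ∈ Db := by
    rw [hDb]
    exact ⟨⟨d, hdM⟩, Subgroup.mem_subgroupOf.mpr hd, rfl⟩
  have hdc : (QuotientGroup.mk' ((Subgroup.centralizer (Y : Set G)).subgroupOf Md)) ⟨d, hdM⟩ ∈
      Subgroup.centralizer ((generalizedFittingSubgroup
        (↥Md ⧸ (Subgroup.centralizer (Y : Set G)).subgroupOf Md) : Subgroup _) : Set _) := by
    rw [Subgroup.mem_centralizer_iff]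
    intro f hf
    obtain ⟨db, hdb'⟩ : ∃ db, db = (QuotientGroup.mk'
      ((Subgroup.centralizer (Y : Set G)).subgroupOf Md)) ⟨d, hdM⟩ := ⟨_, rfl⟩
    rw [← hdb'] at hdb ⊢
    have h1 : db * f * db⁻¹ * f⁻¹ ∈ Db ⊓ generalizedFittingSubgroup
        (↥Md ⧸ (Subgroup.centralizer (Y : Set G)).subgroupOf Md) := by
      refine ⟨?_, ?_⟩
      · have h2 := Db.mul_mem hdb (conj_mem_of_mem_normalizer (hFDb hf) (Db.inv_mem hdb))
        have h3 : db * (f * db⁻¹ * f⁻¹) = db * f * db⁻¹ * f⁻¹ := by group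
        rwa [h3] at h2
      · exact Subgroup.mul_mem _ (hFn.conj_mem f hf db) (Subgroup.inv_mem _ hf)
    rw [hW, Subgroup.mem_bot] at h1
    calc f * db = (db * f * db⁻¹ * f⁻¹)⁻¹ * (db * f) := by group
      _ = db * f := by rw [h1, inv_one, one_mul]
  have h1 : (QuotientGroup.mk' ((Subgroup.centralizer (Y : Set G)).subgroupOf Md)) ⟨d, hdM⟩ ∈
      Db ⊓ generalizedFittingSubgroup
        (↥Md ⧸ (Subgroup.centralizer (Y : Set G)).subgroupOf Md) := ⟨hdb, hFc hdc⟩
  rw [hW, Subgroup.mem_bot, QuotientGroup.mk'_apply, QuotientGroup.eq_one_iff] at h1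
  exact Subgroup.mem_subgroupOf.mp h1

/-- Standing hypotheses: G a finite group, S a Sylow p-subgroup, Q a nontrivial large p-subgroup of G contained in S, M a subgroup containing S with the basic property (M ∈ 𝔐_G(S)); Y_M the largest p-reduced normal subgroup of M and M† = M·C_G(Y_M). Let F be the preimage in M† of the generalized Fitting subgroup of M†/C_{M†}(Y_M). If Y_M is asymmetric in G and H is a subgroup of characteristic p containing F, then Y_M ≤ Y_H. -/
theorem result {G : Type*} [Group G] [Finite G] {p : ℕ} [Fact p.Prime] (S : Sylow p G) (Q : Subgroup G) (hQp : IsPGroup p ↥Q) (hQ1 : Q ≠ ⊥) (hQS : Q ≤ (S : Subgroup G)) (hQ : Cfsg.IsLarge Q) (M : Subgroup G) (hSM : (S : Subgroup G) ≤ M) (hM : Cfsg.IsInFrakM p M) (hasym : ¬ Cfsg.IsSymmetricIn (Cfsg.largestPReducedOf p M)) [hn : ((Subgroup.centralizer (((Cfsg.largestPReducedOf p M) : Subgroup G) : Set G)).subgroupOf (M ⊔ Subgroup.centralizer (((Cfsg.largestPReducedOf p M) : Subgroup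 G) : Set G))).Normal] (F : Subgroup G) (hF : F = ((Cfsg.generalizedFittingSubgroup (↥(M ⊔ Subgroup.centralizer (((Cfsg.largestPReducedOf p M) : Subgroup G) : Set G)) ⧸ (Subgroup.centralizer (((Cfsg.largestPReducedOf p M) : Subgroup G) : Set G)).subgroupOf (M ⊔ Subgroup.centralizer (((Cfsg.largestPReducedOf p M) : Subgroup G) : Set G)))).comap (QuotientGroup.mk' ((Subgroup.centralizer (((Cfsg.largestPReducedOf p M) : Subgroup G) : Set G)).subgroupOf (M ⊔ Subgroup.centralizer (((Cfsg.largestPReducedOf p M) : Subgroup G) : Set G))))).map ((M ⊔ Subgroup.centralizer (((Cfsg.largestPReducedOf p M) : Subgroup G) : Set G))).subtype) (H : Subgroup G) (hFH : F ≤ H) (hH : Subgroup.centralizer (Cfsg.pCore p ↥H : Set ↥H) ≤ Cfsg.pCore p ↥H) : (Cfsg.largestPReducedOf p M) ≤ Cfsg.largestPReducedOf p H := by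
  have h50 := Cfsg.Agent.S2850.result S Q hQp hQ1 hQS hQ M hSM hM hasym
  have hY : IsRed p (largestPReducedOf p M)
      (M ⊔ Subgroup.centralizer ((largestPReducedOf p M : Subgroup G) : Set G)) := by
    have h := isRed_largest p
      (M ⊔ Subgroup.centralizer ((largestPReducedOf p M : Subgroup G) : Set G))
    rw [← hM.2.2.2.1] at h
    exact h
  have hFMd : F ≤ M ⊔ Subgroup.centralizer ((largestPReducedOf p M : Subgroup G) : Set G) := by
    rw [hF]; exact Subgroup.map_subtype_le _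
  have hOH : pCoreOf p M ≤ H := by
    intro x hx
    apply hFH
    apply ker_le_F _ _ F hF
    have h1 := (pCoreOf_eq S hSM hM).le hx
    exact ⟨le_sup_left (a := M) (pCoreOf_le p M hx), h1.2⟩
  obtain ⟨T₀, hT₀⟩ := h50.2.2.1 H hOH
  have hT := isSyl_of_sylow T₀
  have hTR : (T₀ : Subgroup ↥H).map H.subtype ≤
      H ⊓ (M ⊔ Subgroup.centralizer ((largestPReducedOf p M : Subgroup G) : Set G)) := by
    rintro _ ⟨y, hy, rfl⟩
    exact Subgroup.mem_subgroupOf.mp (hT₀ hy)
  have hred := isRed_of_F_le _ _ hY F hF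
    (H ⊓ (M ⊔ Subgroup.centralizer ((largestPReducedOf p M : Subgroup G) : Set G)))
    (le_inf hFH hFMd) inf_le_right
  have hnc := IsRed.nclOf (charp_ambient hH) hT hTR inf_le_left hred
  exact (le_nclOf H _).trans hnc.le_largest

end Cfsg.Agent.S2851
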