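import Cfsg.Statements.S2923
import Cfsg.Agent.Lib.Helper49.CharP

set_option autoImplicit false
open Cfsg

namespace Cfsg.Agent.S2923

open Cfsg.Agent.Lib.Helper49.CharP

/-- The image of the `p`-core under an isomorphism lies in the `p`-core. -/
theorem map_pCore_le {A B : Type*} [Group A] [Group B] {p : ℕ} [Fact p.Prime] (e : A ≃* B) :
    (pCore p A).map e.toMonoidHom ≤ pCore p B := by
  apply le_pCore
  · exact Subgroup.Normal.map (pCore_normal p A) e.toMonoidHom e.surjective
  · exact (pCore_isPGroup p A).map e.toMonoidHom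

/-- Characteristic `p` is invariant under isomorphism. -/
theorem charP_of_mulEquiv {A B : Type*} [Group A] [Group B] {p : ℕ} [Fact p.Prime] (e : A ≃* B)
    (hA : Subgroup.centralizer (pCore p A : Set A) ≤ pCore p A) :
    Subgroup.centralizer (pCore p B : Set B) ≤ pCore p B := by
  intro b hb
  have h1 : e.symm b ∈ Subgroup.centralizer (pCore p A : Set A) := by
    rw [Subgroup.mem_centralizer_iff]
    intro a ha
    have h2 : e a ∈ pCore p B := map_pCore_le e ⟨a, ha, rfl⟩
    have h3 := (Subgroup.mem_centralizer_iff.mp hb) (e a) h2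
    apply e.injective
    simpa using h3
  have h4 := hA h1
  have h5 : e (e.symm b) ∈ pCore p B := map_pCore_le e ⟨_, h4, rfl⟩
  simpa using h5

/-- Let p be a prime and X a finite group of characteristic p, that is C_X(O_p(X)) ≤ O_p(X). Then every subnormal subgroup of X has characteristic p. -/
theorem result {X : Type*} [Group X] [Finite X] {p : ℕ} [Fact p.Prime] (hX : Subgroup.centralizer (Cfsg.pCore p X : Set X) ≤ Cfsg.pCore p X) (Y : Subgroup X) (hY : Y.IsSubnormal) : Subgroup.centralizer (Cfsg.pCore p ↥Y : Set ↥Y) ≤ Cfsg.pCore p ↥Y := by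
  induction hY with
  | top => exact charP_of_mulEquiv (Subgroup.topEquiv (G := X)).symm hX
  | step H K h_le hSubn hN ih =>
    have h1 : Subgroup.centralizer (pCore p ↥(H.subgroupOf K) : Set ↥(H.subgroupOf K))
        ≤ pCore p ↥(H.subgroupOf K) := by
      apply charP_of_pCore_le_normalizer ih
      rw [Subgroup.normalizer_eq_top]
      exact le_top
    exact charP_of_mulEquiv (Subgroup.subgroupOfEquivOfLe h_le) h1

end Cfsg.Agent.S2923
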