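import Cfsg.Statements.S2852
import Cfsg.Agent.Lib.Helper47.FrakM2
import Cfsg.Agent.S2850
import Cfsg.Agent.S2839
import Cfsg.Agent.S2842
import Cfsg.Agent.S2923
import Cfsg.Agent.Lib.Helper46.PCore

set_option autoImplicit false
open Cfsg

namespace Cfsg.Agent.S2852

open Cfsg.Agent.Lib.Helper47.Syl Cfsg.Agent.Lib.Helper47.Cent Cfsg.Agent.Lib.Helper47.FrakM2

/-- Standing hypotheses: G a finite group, S a Sylow p-subgroup, Q a nontrivial large p-subgroup of G contained in S, M a subgroup containing S with the basic property (M ∈ 𝔐_G(S)); Y_M the largest p-reduced normal subgroup of M. If Y_M is char-p-tall and asymmetric in G, then some subgroup H of G lies in ℌ_G(O_p(M)): H has characteristic p, O_p(M) ≤ H, Y_M ≰ O_p(H), and Y_M ≤ O_p(P) for every proper subgroup P of H containing O_p(M). -/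
theorem result {G : Type*} [Group G] [Finite G] {p : ℕ} [Fact p.Prime] (S : Sylow p G) (Q : Subgroup G) (hQp : IsPGroup p ↥Q) (hQ1 : Q ≠ ⊥) (hQS : Q ≤ (S : Subgroup G)) (hQ : Cfsg.IsLarge Q) (M : Subgroup G) (hSM : (S : Subgroup G) ≤ M) (hM : Cfsg.IsInFrakM p M) (htall : Cfsg.IsCharPTall p (Cfsg.largestPReducedOf p M)) (hasym : ¬ Cfsg.IsSymmetricIn (Cfsg.largestPReducedOf p M)) : ∃ H : Subgroup G, Cfsg.IsInFrakH p M H := by
  obtain ⟨T, L₁, hTL, hL₁c, hYL₁⟩ := htall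
  have hwc := (Cfsg.Agent.S2850.result S Q hQp hQ1 hQS hQ M hSM hM hasym).2.1
  have hOsyl := isSyl_pCoreOf S hSM hM
  have hTsyl := isSyl_of_sylow T
  obtain ⟨c, hc, hTc⟩ := hOsyl.exists_conj hTsyl
  rw [hTc] at hTL
  have hcN : c ∈ Subgroup.normalizer ((largestPReducedOf p M : Subgroup G) : Set G) :=
    Subgroup.centralizer_le_normalizer _ hc
  obtain ⟨L₂, hL₂⟩ : ∃ L₂ : Subgroup G, L₂ = L₁.map (MulAut.conj c⁻¹).toMonoidHom := ⟨_, rfl⟩
  have hOL₂ : pCoreOf p M ≤ L₂ := by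
    have := Subgroup.map_mono (f := (MulAut.conj c⁻¹).toMonoidHom) hTL
    rwa [map_conj_inv_map_conj, ← hL₂] at this
  have hL₂c : Subgroup.centralizer (pCore p ↥L₂ : Set ↥L₂) ≤ pCore p ↥L₂ := by
    subst hL₂
    exact Cfsg.Agent.S2923.charP_of_mulEquiv
      (L₁.equivMapOfInjective _ (MulAut.conj c⁻¹).injective) hL₁c
  have hYL₂ : ¬ largestPReducedOf p M ≤ pCoreOf p L₂ := by
    intro h
    apply hYL₁
    rw [hL₂, Cfsg.Agent.Lib.Helper46.PCore.pCoreOf_map_conj] at h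
    have h2 := Subgroup.map_mono (f := (MulAut.conj c).toMonoidHom) h
    rw [map_conj_eq_of_mem_normalizer hcN, map_conj_map_conj, mul_inv_cancel, map_conj_one] at h2
    exact h2
  obtain ⟨H, hHmin⟩ := (Set.toFinite {K : Subgroup G | pCoreOf p M ≤ K ∧ K ≤ L₂ ∧
    ¬ largestPReducedOf p M ≤ pCoreOf p K}).exists_minimal ⟨L₂, hOL₂, le_rfl, hYL₂⟩
  obtain ⟨⟨hOH, hHL, hYH⟩, hmin⟩ := hHmin
  refine ⟨H, ?_, hOH, hYH, ?_⟩
  · have hO1 := pCoreOf_ne_bot hM
    have hOp := pCoreOf_isPGroup p M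
    have h39 := (Cfsg.Agent.S2839.result (pCoreOf p M) hOp hO1 hwc L₂ hOL₂ ⊥).1
    have hQ'1 : (pCoreOf p M).subgroupOf L₂ ≠ ⊥ := by
      intro h
      rw [Subgroup.subgroupOf_eq_bot] at h
      exact hO1 (h.eq_bot_of_le hOL₂)
    have hC : Subgroup.centralizer (((pCoreOf p M).subgroupOf L₂ : Subgroup ↥L₂) : Set ↥L₂) ≤
        (pCoreOf p M).subgroupOf L₂ := by
      intro x hx
      rw [Subgroup.mem_subgroupOf]
      apply centralizer_pCoreOf_le hM
      rw [Subgroup.mem_centralizer_iff]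
      intro y hy
      rw [Subgroup.mem_centralizer_iff] at hx
      have := hx ⟨y, hOL₂ hy⟩ (Subgroup.mem_subgroupOf.mpr hy)
      exact congrArg Subtype.val this
    have h42 := (Cfsg.Agent.S2842.result ((pCoreOf p M).subgroupOf L₂) hOp.comap_subtype hQ'1 h39
      hC (H.subgroupOf L₂) (fun x hx => Subgroup.mem_subgroupOf.mpr (hOH (Subgroup.mem_subgroupOf.mp hx))) (Or.inl hL₂c)).2.2
    exact Cfsg.Agent.S2923.charP_of_mulEquiv (Subgroup.subgroupOfEquivOfLe hHL) h42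
  · intro P hOP hPH
    by_contra hcon
    exact absurd (hmin ⟨hOP, hPH.le.trans hHL, hcon⟩ hPH.le) (not_le_of_gt hPH)

end Cfsg.Agent.S2852
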