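import Cfsg.Statements.S2853
import Cfsg.Agent.Lib.Helper47.FrakH
import Cfsg.Agent.S2850

set_option autoImplicit false
open Cfsg

namespace Cfsg.Agent.S2853

open Cfsg.Agent.Lib.Helper47.Syl Cfsg.Agent.Lib.Helper47.Cent Cfsg.Agent.Lib.Helper47.FrakM2
  Cfsg.Agent.Lib.Helper47.PRes Cfsg.Agent.Lib.Helper47.PRed Cfsg.Agent.Lib.Helper47.PRed2
  Cfsg.Agent.Lib.Helper47.FrakH Cfsg.Agent.Lib.Helper47.FrakM
open scoped commutatorElement

/-- Standing hypotheses: G a finite group, S a Sylow p-subgroup, Q a nontrivial large p-subgroup of G contained in S, M a subgroup containing S with the basic property (M ∈ 𝔐_G(S)); Y_M the largest p-reduced normal subgroup of M and M† = M·C_G(Y_M). Suppose Y_M is char-p-tall and asymmetric in G and H ∈ ℌ_G(O_p(M)). Then every Sylow p-subgroup of H ∩ M† is a Sylow p-subgroup of H; O_p(H) normalizes O_p(M) and Y_M; O^p(H) = [O^p(H), Y_M] and H = O^p(H)·O_p(M); O^p(H)·Y_M is the normal closure of Y_M in H; and H is the normal closure of O_p(M)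 in H. Here O^p(H) is the subgroup generated by the elements of H of order prime to p. -/
theorem result {G : Type*} [Group G] [Finite G] {p : ℕ} [Fact p.Prime] (S : Sylow p G) (Q : Subgroup G) (hQp : IsPGroup p ↥Q) (hQ1 : Q ≠ ⊥) (hQS : Q ≤ (S : Subgroup G)) (hQ : Cfsg.IsLarge Q) (M : Subgroup G) (hSM : (S : Subgroup G) ≤ M) (hM : Cfsg.IsInFrakM p M) (htall : Cfsg.IsCharPTall p (Cfsg.largestPReducedOf p M)) (hasym : ¬ Cfsg.IsSymmetricIn (Cfsg.largestPReducedOf p M)) (H : Subgroup G) (hH : Cfsg.IsInFrakH p M H) (R : Subgroup G) (hR : R = (Cfsg.pResidual p ↥H).map H.subtype) : (∀ T : Sylow p ↥(H ⊓ (M ⊔ Subgroup.centralizer (((Cfsg.largestPReducedOf p M) : Subgroup G) : Set G))), ∃ P : Sylow p ↥H, ((P : Subgroup ↥H).map H.subtype) = (T : Subgroup ↥(H ⊓ (M ⊔ Subgroup.centralizer (((Cfsg.largestPReducedOf p M) : Subgroup G) : Set G)))).map (H ⊓ (M ⊔ Subgroup.centralizer (((Cfsg.largestPReducedOf p M) : Subgroup G) : Set G))).subtype) ∧ Cfsg.pCoreOf p H ≤ Subgroup.normalizer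 (((Cfsg.pCoreOf p M) : Subgroup G) : Set G) ⊓ Subgroup.normalizer (((Cfsg.largestPReducedOf p M) : Subgroup G) : Set G) ∧ ⁅R, (Cfsg.largestPReducedOf p M)⁆ = R ∧ R ⊔ (Cfsg.pCoreOf p M) = H ∧ R ⊔ (Cfsg.largestPReducedOf p M) = (Subgroup.normalClosure ((((Cfsg.largestPReducedOf p M)).subgroupOf H : Subgroup ↥H) : Set ↥H)).map H.subtype ∧ (Subgroup.normalClosure ((((Cfsg.pCoreOf p M)).subgroupOf H : Subgroup ↥H) : Set ↥H)).map H.subtype = H := by
  have h50 := Cfsg.Agent.S2850.result S Q hQp hQ1 hQS hQ M hSM hM hasym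
  have hHc := hH
  obtain ⟨_, hOH, hYH, hmin⟩ := hH
  have hYr := isRed_largest p M
  have hYO : largestPReducedOf p M ≤ pCoreOf p M := largest_le_pCoreOf p M
  have hYHle : largestPReducedOf p M ≤ H := hYO.trans hOH
  have hOp := pCoreOf_isPGroup p M
  have hYp := largest_isPGroup p M
  have hON_Y : pCoreOf p M ≤ Subgroup.normalizer ((largestPReducedOf p M : Subgroup G) : Set G) :=
    (pCoreOf_le p M).trans hYr.2.1
  have hRe : R = pResOf p H := hR
  have hHR : H ≤ Subgroup.normalizer (R : Set G) := by rw [hRe]; exact le_normalizer_pResOf p H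
  have hRH : R ≤ H := by rw [hRe]; exact pResOf_le p H
  -- H = O^p(H) O_p(M)
  have h4 : R ⊔ pCoreOf p M = H := by
    by_contra hne
    have hlt : R ⊔ pCoreOf p M < H := lt_of_le_of_ne (sup_le hRH hOH) hne
    have hY := hmin _ le_sup_right hlt
    exact hYH (hY.trans (pCoreOf_le_pCoreOf_of_pResOf_le (hRe ▸ le_sup_left) hlt.le))
  -- H is the normal closure of O_p(M)
  have h6 : nclIn (pCoreOf p M) H = H := by
    have := sup_eq_of_frakH hHc (nclIn_le _ H) (le_normalizer_nclIn _ H)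
      (hYO.trans (le_nclIn hOH))
    rwa [sup_eq_left.mpr (le_nclIn hOH)] at this
  -- the normal closure of Y
  have h5a : nclIn (largestPReducedOf p M) H ⊔ pCoreOf p M = H :=
    sup_eq_of_frakH hHc (nclIn_le _ H) (le_normalizer_nclIn _ H) (le_nclIn hYHle)
  have h5b : R ≤ nclIn (largestPReducedOf p M) H :=
    hRe.le.trans (pResOf_le_of_sup_eq hOp (hOH.trans (le_normalizer_nclIn _ H)) h5a)
  have hHRY : H ≤ Subgroup.normalizer ((R ⊔ largestPReducedOf p M : Subgroup G) : Set G) := by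
    have h : R ⊔ pCoreOf p M ≤
        Subgroup.normalizer ((R ⊔ largestPReducedOf p M : Subgroup G) : Set G) := by
      refine sup_le (le_sup_left.trans Subgroup.le_normalizer) ?_
      intro o ho
      exact mem_normalizer_sup (hHR (hOH ho)) (hON_Y ho)
    rwa [h4] at h
  have h5 : R ⊔ largestPReducedOf p M = nclIn (largestPReducedOf p M) H :=
    le_antisymm (sup_le h5b (le_nclIn hYHle)) (nclIn_le_of le_sup_right hHRY)
  -- [R, Y] = R
  have hR1R : ⁅R, largestPReducedOf p M⁆ ≤ R := commutator_le_left (hYHle.trans hHR)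
  have hHX : H ≤ Subgroup.normalizer
      ((⁅R, largestPReducedOf p M⁆ ⊔ largestPReducedOf p M : Subgroup G) : Set G) := by
    have h : R ⊔ pCoreOf p M ≤ Subgroup.normalizer
        ((⁅R, largestPReducedOf p M⁆ ⊔ largestPReducedOf p M : Subgroup G) : Set G) := by
      refine sup_le ?_ ?_
      · intro r hr
        apply mem_normalizer_of_map_conj_le
        rw [Subgroup.map_sup]
        refine sup_le ?_ ?_
        · rw [map_conj_eq_of_mem_normalizer (le_normalizer_commutator_left R _ hr)]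
          exact le_sup_left
        · rintro _ ⟨y, hy, rfl⟩
          have h1 : (MulAut.conj r).toMonoidHom y = ⁅r, y⁆ * y := by
            simp [commutatorElement_def, MulAut.conj_apply]
          rw [h1]
          exact Subgroup.mul_mem _ (Subgroup.mem_sup_left (Subgroup.commutator_mem_commutator hr hy))
            (Subgroup.mem_sup_right hy)
      · intro o ho
        exact mem_normalizer_sup (mem_normalizer_commutator (hHR (hOH ho)) (hON_Y ho)) (hON_Y ho)
    rwa [h4] at h
  have h3a : ⁅R, largestPReducedOf p M⁆ ⊔ largestPReducedOf p M ⊔ pCoreOf p M = H :=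
    sup_eq_of_frakH hHc (sup_le (hR1R.trans hRH) hYHle) hHX le_sup_right
  have h3b : R ≤ ⁅R, largestPReducedOf p M⁆ ⊔ largestPReducedOf p M :=
    hRe.le.trans (pResOf_le_of_sup_eq hOp (hOH.trans hHX) h3a)
  have h3 : ⁅R, largestPReducedOf p M⁆ = R := by
    apply le_antisymm hR1R
    refine hRe.le.trans (pResOf_le_of_coprime_mem fun x hx hc => ?_)
    have hxR : x ∈ R := hRe.ge (mem_pResOf_of_coprime hx hc)
    exact mem_of_coprime_of_mem_sup hYp (le_normalizer_commutator_right R _) (h3b hxR) hc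
  refine ⟨?_, ?_, h3, h4, h5, h6⟩
  · intro T
    obtain ⟨T₀, hT₀⟩ := h50.2.2.1 H hOH
    have hT₀s := isSyl_of_sylow T₀
    have hT₀le : (T₀ : Subgroup ↥H).map H.subtype ≤
        H ⊓ (M ⊔ Subgroup.centralizer ((largestPReducedOf p M : Subgroup G) : Set G)) := by
      rintro _ ⟨y, hy, rfl⟩
      exact Subgroup.mem_subgroupOf.mp (hT₀ hy)
    have hTs := isSyl_of_sylow T
    have hc := (hT₀s.of_le hT₀le inf_le_left).card_eq hTs
    have hS := hT₀s.of_card_le hTs.2.1 (hTs.1.trans inf_le_left) hc.ge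
    obtain ⟨P, _, hP⟩ := hS.exists_sylow
    exact ⟨P, hP⟩
  · have hD := pCoreOf_isPGroup p H
    have hLp : IsPGroup p ↥(pCoreOf p M ⊔ pCoreOf p H) :=
      hOp.to_sup_of_normal_right' hD (hOH.trans (le_normalizer_pCoreOf p H))
    obtain ⟨hN1, hN2⟩ := h50.1 _ hLp le_sup_left
    have h1 : pCoreOf p H ≤ Subgroup.normalizer ((pCoreOf p M : Subgroup G) : Set G) :=
      le_sup_right.trans (Subgroup.le_normalizer.trans hN1)
    exact le_inf h1 (h1.trans (hN2.trans (sup_centralizer_le_normalizer hYr.2.1)))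

end Cfsg.Agent.S2853
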