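import Cfsg.Statements.S2854
import Cfsg.Agent.Lib.Helper47.FrakH2
import Cfsg.Agent.S2850

set_option autoImplicit false
open Cfsg

namespace Cfsg.Agent.S2854

open Cfsg.Agent.Lib.Helper47.Syl Cfsg.Agent.Lib.Helper47.Cent Cfsg.Agent.Lib.Helper47.FrakM2
  Cfsg.Agent.Lib.Helper47.PRes Cfsg.Agent.Lib.Helper47.PRed Cfsg.Agent.Lib.Helper47.PRed2
  Cfsg.Agent.Lib.Helper47.FrakH Cfsg.Agent.Lib.Helper47.FrakM Cfsg.Agent.Lib.Helper47.FrakH2
  Cfsg.Agent.Lib.Helper47.SecCent Cfsg.Agent.Lib.Helper47.PClosed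

/-- Standing hypotheses: G a finite group, S a Sylow p-subgroup, Q a nontrivial large p-subgroup of G contained in S, M a subgroup containing S with the basic property (M ∈ 𝔐_G(S)); Y_M the largest p-reduced normal subgroup of M and M† = M·C_G(Y_M). Suppose Y_M is asymmetric in G, H ∈ ℌ_G(O_p(M)), and H ≤ N_G(gQg⁻¹) for some g ∈ G. Then gQg⁻¹ ≤ O_p(H·gQg⁻¹) ≤ N_G(O_p(M)) ≤ N_G(Y_M) = M†; H is normal in H·gQg⁻¹ with O^p(H) = O^p(H·gQg⁻¹); and H·gQg⁻¹ is p-irreducible. -/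
theorem result {G : Type*} [Group G] [Finite G] {p : ℕ} [Fact p.Prime] (S : Sylow p G) (Q : Subgroup G) (hQp : IsPGroup p ↥Q) (hQ1 : Q ≠ ⊥) (hQS : Q ≤ (S : Subgroup G)) (hQ : Cfsg.IsLarge Q) (M : Subgroup G) (hSM : (S : Subgroup G) ≤ M) (hM : Cfsg.IsInFrakM p M) (hasym : ¬ Cfsg.IsSymmetricIn (Cfsg.largestPReducedOf p M)) (H : Subgroup G) (hH : Cfsg.IsInFrakH p M H) (g : G) (hHQ : H ≤ Subgroup.normalizer ((((Q : Subgroup G).map (MulAut.conj (g : G)).toMonoidHom) : Subgroup G) : Set G)) : ((Q : Subgroup G).map (MulAut.conj (g : G)).toMonoidHom) ≤ Cfsg.pCoreOf p (H ⊔ ((Q : Subgroup G).map (MulAut.conj (g : G)).toMonoidHom)) ∧ Cfsg.pCoreOf p (H ⊔ ((Q : Subgroup G).map (MulAut.conj (g : G)).toMonoidHom)) ≤ Subgroup.normalizer (((Cfsg.pCoreOf p M) : Subgroup G) : Set G) ∧ Subgroup.normalizer (((Cfsg.pCoreOf p M) : Subgroup G) : Set G) ≤ Subgroup.normalizer (((Cfsg.largestPReducedOf p M) : Subgroup G) : Set G) ∧ Subgroup.normalizer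 (((Cfsg.largestPReducedOf p M) : Subgroup G) : Set G) = (M ⊔ Subgroup.centralizer (((Cfsg.largestPReducedOf p M) : Subgroup G) : Set G)) ∧ (H.subgroupOf (H ⊔ ((Q : Subgroup G).map (MulAut.conj (g : G)).toMonoidHom))).Normal ∧ (Cfsg.pResidual p ↥H).map H.subtype = (Cfsg.pResidual p ↥(H ⊔ ((Q : Subgroup G).map (MulAut.conj (g : G)).toMonoidHom))).map (H ⊔ ((Q : Subgroup G).map (MulAut.conj (g : G)).toMonoidHom)).subtype ∧ Cfsg.IsPIrreducible p ↥(H ⊔ ((Q : Subgroup G).map (MulAut.conj (g : G)).toMonoidHom)) := by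
  have h50 := Cfsg.Agent.S2850.result S Q hQp hQ1 hQS hQ M hSM hM hasym
  have hHc := hH
  obtain ⟨_, hOH, hYH, hmin⟩ := hH
  have hYr := isRed_largest p M
  have hYO : largestPReducedOf p M ≤ pCoreOf p M := largest_le_pCoreOf p M
  have hYHle : largestPReducedOf p M ≤ H := hYO.trans hOH
  have hOp := pCoreOf_isPGroup p M
  have hYp := largest_isPGroup p M
  obtain ⟨Qg, hQg⟩ : ∃ Qg : Subgroup G, Qg = Q.map (MulAut.conj g).toMonoidHom := ⟨_, rfl⟩
  rw [← hQg] at hHQ ⊢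
  have hQgp : IsPGroup p ↥Qg := by rw [hQg]; exact hQp.map _
  obtain ⟨K, hK⟩ : ∃ K : Subgroup G, K = H ⊔ Qg := ⟨_, rfl⟩
  rw [← hK]
  have hHK : H ≤ K := hK ▸ le_sup_left
  have hQgK : Qg ≤ K := hK ▸ le_sup_right
  have hKQg : K ≤ Subgroup.normalizer (Qg : Set G) := by
    rw [hK]; exact sup_le hHQ Subgroup.le_normalizer
  have hDp := pCoreOf_isPGroup p K
  have hKD := le_normalizer_pCoreOf p K
  have ha : Qg ≤ pCoreOf p K := le_pCoreOf hQgK hKQg hQgp
  have hLp : IsPGroup p ↥(pCoreOf p M ⊔ pCoreOf p K) :=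
    hOp.to_sup_of_normal_right' hDp ((hOH.trans hHK).trans hKD)
  obtain ⟨hN1, hN2⟩ := h50.1 _ hLp le_sup_left
  have hb : pCoreOf p K ≤ Subgroup.normalizer ((pCoreOf p M : Subgroup G) : Set G) :=
    le_sup_right.trans (Subgroup.le_normalizer.trans hN1)
  have hc : Subgroup.normalizer ((pCoreOf p M : Subgroup G) : Set G) ≤
      Subgroup.normalizer ((largestPReducedOf p M : Subgroup G) : Set G) :=
    hN2.trans (sup_centralizer_le_normalizer hYr.2.1)
  have hd := normalizer_largest_eq S hQp hQ1 hQ hSM hM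
  have hDH : pCoreOf p K ≤ Subgroup.normalizer (H : Set G) := by
    intro x hx
    have h1 : x ∈ Subgroup.normalizer ((nclOf H (pCoreOf p M) : Subgroup G) : Set G) := by
      apply mem_normalizer_nclOf
      intro h hh
      exact hb (conj_mem_of_mem_normalizer' (hKD (hHK hh)) hx)
    rwa [nclOf_pCoreOf_eq hHc] at h1
  have hKH : K ≤ Subgroup.normalizer (H : Set G) := by
    rw [hK]; exact sup_le Subgroup.le_normalizer (ha.trans hDH)
  have hcopH : ∀ x ∈ K, (orderOf x).Coprime p → x ∈ H := fun x hx hc' =>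
    mem_of_coprime_of_mem_sup hQgp (ha.trans hDH) (hK ▸ hx) hc'
  have hf : pResOf p H = pResOf p K := le_antisymm (pResOf_mono hHK)
    (pResOf_le_of_coprime_mem fun x hx hc' => mem_pResOf_of_coprime (hcopH x hx hc') hc')
  refine ⟨ha, hb, hc, hd, Subgroup.normal_subgroupOf_of_le_normalizer hKH, hf,
    not_isPClosed_of_frakH hHc hHK, ?_⟩
  intro N hNn hNcl
  obtain ⟨N', hN'⟩ : ∃ N' : Subgroup G, N' = N.map K.subtype := ⟨_, rfl⟩
  have hN'K : N' ≤ K := by rw [hN']; exact Subgroup.map_subtype_le _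
  have hKN' : K ≤ Subgroup.normalizer (N' : Set G) := by
    rw [hN']; exact le_normalizer_map_subtype _
  have hN'cl : ¬ IsPClosed p ↥N' := by
    intro h
    apply hNcl
    rw [hN'] at h
    exact isPClosed_of_mulEquiv (N.equivMapOfInjective K.subtype K.subtype_injective).symm h
  suffices hsuff : pResOf p K ≤ N' by
    intro x hx
    have h1 : (x : G) ∈ N' := hsuff (Subgroup.mem_map_of_mem K.subtype hx)
    rw [hN'] at h1
    obtain ⟨y, hy, hyx⟩ := h1
    have h2 : y = x := Subtype.ext hyx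
    rwa [← h2]
  obtain ⟨X, hX⟩ : ∃ X : Subgroup G, X = (N' ⊔ pCoreOf p K) ⊓ H := ⟨_, rfl⟩
  have hXH : X ≤ H := hX ▸ inf_le_right
  have hKN2 : K ≤ Subgroup.normalizer ((N' ⊔ pCoreOf p K : Subgroup G) : Set G) :=
    fun k hk => mem_normalizer_sup (hKN' hk) (hKD hk)
  have hKX : K ≤ Subgroup.normalizer (X : Set G) := by
    rw [hX]; exact fun k hk => normalizer_inf_le _ _ ⟨hKN2 hk, hKH hk⟩
  by_cases hcase : X ⊔ pCoreOf p M = H
  · have h1 : pResOf p H ≤ X := pResOf_le_of_sup_eq hOp ((hOH.trans hHK).trans hKX) hcase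
    apply pResOf_le_of_coprime_mem
    intro x hx hc'
    have h2 : x ∈ N' ⊔ pCoreOf p K := by
      have h3 := h1 (mem_pResOf_of_coprime (hcopH x hx hc') hc')
      rw [hX] at h3
      exact h3.1
    exact mem_of_coprime_of_mem_sup hDp ((pCoreOf_le p K).trans hKN') h2 hc'
  · exfalso
    have hlt : X ⊔ pCoreOf p M < H := lt_of_le_of_ne (sup_le hXH hOH) hcase
    have hY := hmin _ le_sup_right hlt
    have hKD1 : K ≤ Subgroup.normalizer ((pCoreOf p X : Subgroup G) : Set G) :=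
      hKX.trans (normalizer_le_normalizer_pCoreOf p X)
    have hD2X : pCoreOf p (X ⊔ pCoreOf p M) ⊓ X ≤ pCoreOf p X := by
      refine le_pCoreOf inf_le_right ?_ ((pCoreOf_isPGroup p _).to_le inf_le_left)
      intro x hx
      exact normalizer_inf_le _ _ ⟨le_normalizer_pCoreOf p _ (le_sup_left (a := X) hx),
        Subgroup.le_normalizer hx⟩
    have hYC : largestPReducedOf p M ≤ H ⊓ secCent X (pCoreOf p X) := by
      intro y hy
      refine ⟨hYHle hy, hKD1 (hHK (hYHle hy)), fun n hn => hD2X ⟨?_, ?_⟩⟩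
      · have h2 := conj_mem_of_mem_normalizer
          (le_normalizer_pCoreOf p _ (le_sup_left (a := X) (b := pCoreOf p M) hn))
          (Subgroup.inv_mem _ (hY hy))
        have h3 := Subgroup.mul_mem _ (hY hy) h2
        have h4 : y * (n * y⁻¹ * n⁻¹) = y * n * y⁻¹ * n⁻¹ := by group
        rwa [h4] at h3
      · exact X.mul_mem (conj_mem_of_mem_normalizer (hKX (hHK (hYHle hy))) hn) (X.inv_mem hn)
    have hHC : H ≤ Subgroup.normalizer ((H ⊓ secCent X (pCoreOf p X) : Subgroup G) : Set G) :=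
      fun h hh => normalizer_inf_le _ _ ⟨Subgroup.le_normalizer hh,
        mem_normalizer_secCent (hKX (hHK hh)) (hKD1 (hHK hh))⟩
    have hRC : pResOf p H ≤ H ⊓ secCent X (pCoreOf p X) :=
      (pResOf_le_nclIn hHc).trans (nclIn_le_of hYC hHC)
    have hD1K : pCoreOf p X ≤ pCoreOf p K := pCoreOf_le_pCoreOf_of_normal (hXH.trans hHK) hKX
    obtain ⟨T, hT⟩ := exists_isSyl p N'
    have hDN : pCoreOf p K ⊓ N' ≤ T := by
      refine le_trans (le_pCoreOf inf_le_right ?_ (hDp.to_le inf_le_left)) hT.pCoreOf_le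
      exact fun n hn => normalizer_inf_le _ _ ⟨hKD (hN'K hn), Subgroup.le_normalizer hn⟩
    apply hN'cl
    apply isPClosed_of_coprime_normalize hT
    intro x hx hc'
    have hxK : x ∈ K := hN'K hx
    have hxR : x ∈ pResOf p H := mem_pResOf_of_coprime (hcopH x hxK hc') hc'
    have hxC := (hRC hxR).2
    apply mem_normalizer_of_map_conj_le
    intro z hz
    obtain ⟨t, ht⟩ : ∃ t : G, t = x⁻¹ * z * x := ⟨_, rfl⟩
    have hs : t ∈ T := ht ▸ mem_map_conj.mp hz
    have htN : t ∈ N' := hT.1 hs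
    have htK : t ∈ H ⊔ pCoreOf p K := by
      have h1 : K ≤ H ⊔ pCoreOf p K :=
        hK.le.trans (sup_le le_sup_left (ha.trans le_sup_right))
      exact h1 (hN'K htN)
    obtain ⟨h, hh, d, hd', htd⟩ := exists_mul_of_mem_sup_left (hHK.trans hKD) htK
    have hhX : h ∈ X := by
      rw [hX]
      refine ⟨?_, hh⟩
      have h1 : h = t * d⁻¹ := by rw [htd]; group
      rw [h1]
      exact Subgroup.mul_mem _ (Subgroup.mem_sup_left htN)
        (Subgroup.mem_sup_right (Subgroup.inv_mem _ hd'))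
    have h1 : x * h * x⁻¹ * h⁻¹ ∈ pCoreOf p K := hD1K (hxC.2 h hhX)
    have h2 : x * d * x⁻¹ * d⁻¹ ∈ pCoreOf p K :=
      Subgroup.mul_mem _ (conj_mem_of_mem_normalizer (hKD hxK) hd') (Subgroup.inv_mem _ hd')
    have h3 := Subgroup.mul_mem _ h1 (conj_mem_of_mem_normalizer (hKD (hHK hh)) h2)
    have h4 : x * h * x⁻¹ * h⁻¹ * (h * (x * d * x⁻¹ * d⁻¹) * h⁻¹) = x * t * x⁻¹ * t⁻¹ := by
      rw [htd]; group
    rw [h4] at h3
    have h5 : x * t * x⁻¹ * t⁻¹ ∈ N' :=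
      N'.mul_mem (N'.mul_mem (N'.mul_mem hx htN) (N'.inv_mem hx)) (N'.inv_mem htN)
    have h6 := T.mul_mem (hDN ⟨h3, h5⟩) hs
    have h7 : x * t * x⁻¹ * t⁻¹ * t = z := by rw [ht]; group
    rwa [h7] at h6

end Cfsg.Agent.S2854
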