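import Cfsg.Statements.S2860
import Cfsg.Agent.Lib.Helper31.ECAsm
import Cfsg.Agent.Lib.Helper31.ECIMK2
import Cfsg.Agent.Lib.Helper50.ECQSA
import Cfsg.Agent.Lib.Helper58.ECQSB
import Cfsg.Agent.Lib.Helper21.ECABPERF
import Cfsg.Agent.Lib.Helper21.ECYGEN
import Cfsg.Agent.Lib.Helper78.ECQS5
import Cfsg.Agent.Lib.Helper82.ECIMLE
import Cfsg.Agent.Lib.Helper23.ECIMCOMM
import Cfsg.Agent.Lib.Helper77.ECIMBASIC

set_option autoImplicit false
open Cfsg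

namespace Cfsg.Agent.S2860

/-- Let Q be a nontrivial large p-subgroup of the finite group H, U a nontrivial elementary abelian p-subgroup of H, and Q ≤ E ≤ N_H(U) with Q not normal in E. Suppose O_p(E/C_E(U)) = 1 and O^p(E)·C_E(U)/C_E(U) is quasisimple. Let E° be the weak closure of Q in E (generated by the conjugates of Q inside E) and E_∘ = O^p(E°). Then O^p(E)·C_E(U) = E_∘·C_E(U); E_∘ is perfect and equals O^p(E_∘); E_∘/C_{E_∘}(U) and E_∘/O_p(E_∘) are quasisimple; and E_∘ = [E_∘, Y] for every p-subgroup Y of E not centralizing U. -/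
theorem result {G : Type*} [Group G] [Finite G] {p : ℕ} [Fact p.Prime] (Q : Subgroup G) (hQp : IsPGroup p ↥Q) (hQ1 : Q ≠ ⊥) (hQ : Cfsg.IsLarge Q) (U : Subgroup G) (hU : Cfsg.IsElementaryAbelian p U) (hU1 : U ≠ ⊥) (E : Subgroup G) (hQE : Q ≤ E) (hEU : E ≤ Subgroup.normalizer ((U : Subgroup G) : Set G)) (hQn : ¬ E ≤ Subgroup.normalizer ((Q : Subgroup G) : Set G)) [hn : ((Subgroup.centralizer ((U : Subgroup G) : Set G)).subgroupOf E).Normal] (hred : Cfsg.pCore p (↥E ⧸ (Subgroup.centralizer ((U : Subgroup G) : Set G)).subgroupOf E) = ⊥) (hqs : Cfsg.IsQuasisimple ↥(((Cfsg.pResidual p ↥E) ⊔ (Subgroup.centralizer ((U : Subgroup G) : Set G)).subgroupOf E).map (QuotientGroup.mk' ((Subgroup.centralizer ((U : Subgroup G) : Set G)).subgroupOf E)))) (Er : Subgroup G) (hEr : Er = ((Cfsg.pResidual p ↥(Cfsg.weakClosure Q E)).map ((Cfsg.weakClosure Q E)).subtype)) [hn2 : ((Subgroup.centralizer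 ((U : Subgroup G) : Set G)).subgroupOf Er).Normal] : ((Cfsg.pResidual p ↥E).map (E).subtype) ⊔ (E ⊓ Subgroup.centralizer ((U : Subgroup G) : Set G)) = Er ⊔ (E ⊓ Subgroup.centralizer ((U : Subgroup G) : Set G)) ∧ ⁅Er, Er⁆ = Er ∧ ((Cfsg.pResidual p ↥Er).map (Er).subtype) = Er ∧ Cfsg.IsQuasisimple (↥Er ⧸ (Subgroup.centralizer ((U : Subgroup G) : Set G)).subgroupOf Er) ∧ Cfsg.IsQuasisimple (↥Er ⧸ Cfsg.pCore p ↥Er) ∧ ∀ Y : Subgroup G, Y ≤ E → IsPGroup p ↥Y → ¬ Y ≤ Subgroup.centralizer ((U : Subgroup G) : Set G) → ⁅Er, Y⁆ = Er := by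
  exact Cfsg.Agent.Lib.Helper31.ECAsm.assembly Cfsg.Agent.Lib.Helper50.ECQSA.main
    Cfsg.Agent.Lib.Helper58.ECQSB.main Cfsg.Agent.Lib.Helper21.ECABPERF.main
    Cfsg.Agent.Lib.Helper21.ECYGEN.main Cfsg.Agent.Lib.Helper78.ECQS5.main
    Cfsg.Agent.Lib.Helper82.ECIMLE.main Cfsg.Agent.Lib.Helper23.ECIMCOMM.main
    Cfsg.Agent.Lib.Helper77.ECIMBASIC.main Cfsg.Agent.Lib.Helper31.ECIMK2.imk
    Cfsg.Agent.Lib.Helper31.ECIMK2.qiso Q hQp hQ1 hQ U hU hU1 E hQE hEU hQn hred hqs Er hEr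

end Cfsg.Agent.S2860
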