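import Cfsg.Statements.S2861
import Cfsg.Agent.Lib.Helper31.LFpf
import Cfsg.Agent.Lib.Helper31.LFpfQ
import Cfsg.Agent.Lib.Helper31.LFpfSL
import Cfsg.Agent.Lib.Helper31.LFpfSz
import Cfsg.Agent.Lib.Helper31.LNorm
import Cfsg.Agent.Lib.Helper31.LNormSL
import Cfsg.Agent.Lib.Helper31.LNormSz
import Cfsg.Agent.Lib.Helper65.SzIso
import Cfsg.Agent.Lib.Helper47.FrakM2
import Cfsg.Agent.Lib.Helper47.FrakH
import Cfsg.Agent.Lib.Helper47.PRed

set_option autoImplicit false
open Cfsg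

namespace Cfsg.Agent.S2861

/-- Standing hypotheses: G a finite group, S a Sylow p-subgroup, Q a nontrivial large p-subgroup of G contained in S, M a subgroup containing S with the basic property (M ∈ 𝔐_G(S)); Y_M the largest p-reduced normal subgroup of M and M† = M·C_G(Y_M). Let L ∈ 𝔏_G(Y_M) (L ∈ 𝔏_G(Y_M): Y_M ≤ L; O_p(L) is the normal closure in L of Y_M ∩ O_p(L) and normalizes Y_M; L is Y_M-minimal of characteristic p with N_L(Y_M) its unique maximal subgroup over Y_M; and L/O_p(L) ≅ SL₂(q) with q = |Y_M : Y_M ∩ O_p(L)|, or p = 2 and L/O_p(L) is a Suzuki group Sz(q) or dihedral of order 2r, r an odd prime) and A = O_p(L). Then Y_M·A/A is the unique nontrivial elementary abelian normal p-subgroup of N_L(Y_M)/A. -/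
theorem result {G : Type*} [Group G] [Finite G] {p : ℕ} [Fact p.Prime] (S : Sylow p G) (Q : Subgroup G) (hQp : IsPGroup p ↥Q) (hQ1 : Q ≠ ⊥) (hQS : Q ≤ (S : Subgroup G)) (hQ : Cfsg.IsLarge Q) (M : Subgroup G) (hSM : (S : Subgroup G) ≤ M) (hM : Cfsg.IsInFrakM p M) (L : Subgroup G) (hL : Cfsg.IsInFrakL p M L) (NL : Subgroup G) (hNL : NL = L ⊓ Subgroup.normalizer (((Cfsg.largestPReducedOf p M) : Subgroup G) : Set G)) [hn : (((Cfsg.pCoreOf p L)).subgroupOf NL).Normal] : let Ybar : Subgroup (↥NL ⧸ ((Cfsg.pCoreOf p L)).subgroupOf NL) := (((Cfsg.largestPReducedOf p M)).subgroupOf NL).map (QuotientGroup.mk' (((Cfsg.pCoreOf p L)).subgroupOf NL)); Ybar ≠ ⊥ ∧ Ybar.Normal ∧ Cfsg.IsElementaryAbelian p Ybar ∧ ∀ (V : Subgroup (↥NL ⧸ ((Cfsg.pCoreOf p L)).subgroupOf NL)), V.Normal → Cfsg.IsElementaryAbelian p V → V ≠ ⊥ → V = Ybar := by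
  have hred := Cfsg.Agent.Lib.Helper47.PRed.isRed_largest p M
  have hexp : ∀ y ∈ Cfsg.largestPReducedOf p M, y ^ p = 1 := hred.2.2.2.1
  have c : Cfsg.Agent.Lib.Helper31.LFpf.LCtx p (Cfsg.largestPReducedOf p M) (Cfsg.pCoreOf p L) L := by
    refine
      { YL := hL.1
        Ycomm := hred.2.2.1
        Yp := Cfsg.Agent.Lib.Helper47.FrakM2.largest_isPGroup p M
        Ap := Cfsg.Agent.Lib.Helper47.Syl.pCoreOf_isPGroup p L
        AL := Cfsg.Agent.Lib.Helper47.Syl.pCoreOf_le p L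
        LA := Cfsg.Agent.Lib.Helper47.Syl.le_normalizer_pCoreOf p L
        Amax := fun N hNL hLN hNp => Cfsg.Agent.Lib.Helper47.Syl.le_pCoreOf hNL hLN hNp
        Ancl := ?_
        AY := hL.2.2.1
        Bmax := hL.2.2.2.2.2.1.2
        Blt := hL.2.2.2.2.2.1.1
        Yncl := ?_ }
    · intro X hYAX hLX
      have h1 : Cfsg.Agent.Lib.Helper47.FrakH.nclIn
          (Cfsg.largestPReducedOf p M ⊓ Cfsg.pCoreOf p L) L ≤ X :=
        Cfsg.Agent.Lib.Helper47.FrakH.nclIn_le_of hYAX hLX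
      exact hL.2.1.le.trans h1
    · intro X hYX hXL hLX
      refine le_antisymm hXL ?_
      have h1 : Cfsg.Agent.Lib.Helper47.FrakH.nclIn (Cfsg.largestPReducedOf p M) L ≤ X :=
        Cfsg.Agent.Lib.Helper47.FrakH.nclIn_le_of hYX hLX
      have h2 : Cfsg.Agent.Lib.Helper47.FrakH.nclIn (Cfsg.largestPReducedOf p M) L = L := by
        unfold Cfsg.Agent.Lib.Helper47.FrakH.nclIn
        rw [hL.2.2.2.1.1, ← MonoidHom.range_eq_map, Subgroup.range_subtype]
      rw [h2] at h1
      exact h1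
  -- the order of the image of `Y` is a power of `p`
  obtain ⟨n, hrel⟩ : ∃ n : ℕ, (Cfsg.largestPReducedOf p M ⊓ Cfsg.pCoreOf p L).relIndex
      (Cfsg.largestPReducedOf p M) = p ^ n := by
    obtain ⟨k, hk⟩ := IsPGroup.iff_card.mp c.Yp
    have h1 := Subgroup.relIndex_dvd_card (Cfsg.largestPReducedOf p M ⊓ Cfsg.pCoreOf p L)
      (Cfsg.largestPReducedOf p M)
    rw [hk] at h1
    obtain ⟨j, -, hj⟩ := (Nat.dvd_prime_pow Fact.out).mp h1
    exact ⟨j, hj⟩
  have hn0 : n ≠ 0 := by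
    rintro rfl
    rw [pow_zero, Subgroup.relIndex_eq_one] at hrel
    exact Cfsg.Agent.Lib.Helper31.LFpfQ.LCtx_not_le c (hrel.trans inf_le_right)
  -- the quotient map
  have hkerq : ∀ l : ↥L, (QuotientGroup.mk' (Cfsg.pCore p ↥L)) l = 1 ↔
      (l : G) ∈ Cfsg.pCoreOf p L := by
    intro l
    rw [QuotientGroup.mk'_apply, QuotientGroup.eq_one_iff,
      Cfsg.Agent.Lib.Helper47.Syl.mem_pCoreOf_iff l.2]
  have huniq : ∀ V' : Subgroup G, Cfsg.pCoreOf p L ≤ V' →
      V' ≤ L ⊓ Subgroup.normalizer ((Cfsg.largestPReducedOf p M : Subgroup G) : Set G) →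
      L ⊓ Subgroup.normalizer ((Cfsg.largestPReducedOf p M : Subgroup G) : Set G) ≤
        Subgroup.normalizer (V' : Set G) →
      (∀ v ∈ V', v ^ p ∈ Cfsg.pCoreOf p L) → ¬ V' ≤ Cfsg.pCoreOf p L →
      V' = Cfsg.largestPReducedOf p M ⊔ Cfsg.pCoreOf p L := by
    intro V' hAV hVN hNV hexpV hne
    rcases hL.2.2.2.2.2.2 with ⟨F, instF, instFin, hcard, ⟨e⟩⟩ |
        ⟨hp2, F, instF, instFin, m, hF, hcard, ⟨e⟩⟩ | ⟨hp2, r, hr, hr2, ⟨e⟩⟩
    · -- `SL₂(q)`
      have hsurj : Function.Surjective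
          (e.toMonoidHom.comp (QuotientGroup.mk' (Cfsg.pCore p ↥L))) :=
        e.surjective.comp (QuotientGroup.mk'_surjective _)
      have hker : ∀ l : ↥L, (e.toMonoidHom.comp (QuotientGroup.mk' (Cfsg.pCore p ↥L))) l = 1 ↔
          (l : G) ∈ Cfsg.pCoreOf p L := by
        intro l
        rw [← hkerq l]
        exact e.map_eq_one_iff
      have hE : Nat.card (Cfsg.Agent.Lib.Helper31.LFpfQ.img (Cfsg.largestPReducedOf p M) L
          (e.toMonoidHom.comp (QuotientGroup.mk' (Cfsg.pCore p ↥L)))) = Fintype.card F := by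
        rw [Cfsg.Agent.Lib.Helper31.LFpfQ.card_img c.YL hker, hcard]
      have hEp := Cfsg.Agent.Lib.Helper31.LFpfQ.isPGroup_img (L := L) c.Yp
        (e.toMonoidHom.comp (QuotientGroup.mk' (Cfsg.pCore p ↥L)))
      have hchar : CharP F p :=
        Cfsg.Agent.Lib.Helper31.LFpfSL.charP_of_card (n := n) (by rw [hcard, hrel])
      exact Cfsg.Agent.Lib.Helper31.LNorm.uniq_of_XU c hsurj hker
        (fun W hW hW1 hWE hN => Cfsg.Agent.Lib.Helper31.LNormSL.XU_SL hE hEp W hW hW1 hWE hN)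
        hAV hVN hNV hexpV hne
    · -- `Sz(q)`
      rcases Nat.eq_zero_or_pos m with rfl | hm
      · have hidx : (Cfsg.largestPReducedOf p M ⊓ Cfsg.pCoreOf p L).relIndex
            (Cfsg.largestPReducedOf p M) = 2 := by
          rw [← hcard, hF]
          norm_num
        obtain ⟨y₀, hy₀, hsq, hidx'⟩ := Cfsg.Agent.Lib.Helper31.LNorm.exists_y0 hp2 hexp hidx
        exact Cfsg.Agent.Lib.Helper31.LNorm.uniq_two c hy₀ hsq hidx' hAV hVN hne
      · have hm1 : 1 ≤ m := hm
        have key : ∀ ψ : ↥L →* ↥(Cfsg.Sz F m), Function.Surjective ψ →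
            (∀ l : ↥L, ψ l = 1 ↔ (l : G) ∈ Cfsg.pCoreOf p L) →
            V' = Cfsg.largestPReducedOf p M ⊔ Cfsg.pCoreOf p L := by
          intro ψ hsurj hker
          have hEc : Nat.card (Cfsg.Agent.Lib.Helper31.LFpfQ.img (Cfsg.largestPReducedOf p M) L ψ)
              = 2 ^ (2 * m + 1) := by
            rw [Cfsg.Agent.Lib.Helper31.LFpfQ.card_img c.YL hker, ← hcard, hF]
          have hE2 : ∀ x ∈ Cfsg.Agent.Lib.Helper31.LFpfQ.img (Cfsg.largestPReducedOf p M) L ψ,
              x * x = 1 := by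
            intro x hx
            obtain ⟨y, hy, rfl⟩ := Cfsg.Agent.Lib.Helper31.LFpfQ.mem_img.mp hx
            rw [← map_mul]
            have h1 : y * y = 1 := by
              apply Subtype.ext
              have h2 := hexp _ hy
              rw [hp2, pow_two] at h2
              exact h2
            rw [h1, map_one]
          exact Cfsg.Agent.Lib.Helper31.LNorm.uniq_of_XU c hsurj hker
            (fun W hW hW1 hWE hN => Cfsg.Agent.Lib.Helper31.LNormSz.XU_Sz hm1 hF hE2 hEc W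
              (fun w hw => by
                have h1 := hW w hw
                rwa [hp2, pow_two] at h1) hW1 hWE hN)
            hAV hVN hNV hexpV hne
        refine key ((Cfsg.Agent.Lib.Helper65.SzIso.iso hm1 hF).toMonoidHom.comp
            (e.toMonoidHom.comp (QuotientGroup.mk' (Cfsg.pCore p ↥L))))
          ((Cfsg.Agent.Lib.Helper65.SzIso.iso hm1 hF).surjective.comp
            (e.surjective.comp (QuotientGroup.mk'_surjective _))) ?_
        intro l
        rw [← hkerq l]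
        exact (Cfsg.Agent.Lib.Helper65.SzIso.iso hm1 hF).map_eq_one_iff.trans e.map_eq_one_iff
    · -- dihedral of order `2r`
      have hker : ∀ l : ↥L, (e.toMonoidHom.comp (QuotientGroup.mk' (Cfsg.pCore p ↥L))) l = 1 ↔
          (l : G) ∈ Cfsg.pCoreOf p L := by
        intro l
        rw [← hkerq l]
        exact e.map_eq_one_iff
      have hE := Cfsg.Agent.Lib.Helper31.LFpfQ.card_img c.YL hker
      have hdvd : p ^ n ∣ 2 * r := by
        rw [← hrel, ← hE, ← DihedralGroup.nat_card]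
        exact Subgroup.card_subgroup_dvd_card _
      have hidx : (Cfsg.largestPReducedOf p M ⊓ Cfsg.pCoreOf p L).relIndex
          (Cfsg.largestPReducedOf p M) = 2 := by
        rw [hrel, hp2]
        rw [hp2] at hdvd
        have hn1 : n = 1 := by
          by_contra hne1
          have h2 : 2 ≤ n := by omega
          have h3 : 2 ^ 2 ∣ 2 * r := (pow_dvd_pow 2 h2).trans hdvd
          have h4 : 2 ∣ r := by
            have h5 : 2 * 2 ∣ 2 * r := by norm_num at h3 ⊢; exact h3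
            exact (Nat.mul_dvd_mul_iff_left (by norm_num)).mp h5
          exact hr2 ((Nat.prime_dvd_prime_iff_eq Nat.prime_two hr).mp h4).symm
        rw [hn1, pow_one]
      obtain ⟨y₀, hy₀, hsq, hidx'⟩ := Cfsg.Agent.Lib.Helper31.LNorm.exists_y0 hp2 hexp hidx
      exact Cfsg.Agent.Lib.Helper31.LNorm.uniq_two c hy₀ hsq hidx' hAV hVN hne
  intro Ybar
  exact Cfsg.Agent.Lib.Helper31.LNorm.final c hexp NL hNL huniq

end Cfsg.Agent.S2861
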