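import Cfsg.Statements.S2862
import Cfsg.Agent.Lib.Helper31.AsymL
import Cfsg.Agent.Lib.Helper47.FrakM2
import Cfsg.Agent.Lib.Helper47.PRed2
import Cfsg.Agent.S2850
import Cfsg.Agent.S2853
import Cfsg.Agent.S2838

set_option autoImplicit false
open Cfsg

namespace Cfsg.Agent.S2862

/-- Standing hypotheses: G a finite group, S a Sylow p-subgroup, Q a nontrivial large p-subgroup of G contained in S, M a subgroup containing S with the basic property (M ∈ 𝔐_G(S)); Y_M the largest p-reduced normal subgroup of M and M† = M·C_G(Y_M). Suppose Y_M is char-p-tall and asymmetric in G, H ∈ ℌ_G(O_p(M)), and L is minimal among the subgroups of H containing Y_M with Y_M ≰ O_p(L). Then H = ⟨L, O_p(M)⟩ = ⟨hY_Mh⁻¹, O_p(M)⟩ for every h ∈ L outside N_L(Y_M); L is Y_M-minimal and of characteristic p, with N_L(Y_M) the unique maximal subgroup of L containing Y_M; [V, O^p(L)] ≠ 1 for every noncentral chief factor V/W of H inside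 O_p(H) (that is, O^p(L) does not act trivially on V/W); and the normal closure of O_p(L) ∩ Y_M in L lies in O_p(H). -/
theorem result {G : Type*} [Group G] [Finite G] {p : ℕ} [Fact p.Prime] (S : Sylow p G) (Q : Subgroup G) (hQp : IsPGroup p ↥Q) (hQ1 : Q ≠ ⊥) (hQS : Q ≤ (S : Subgroup G)) (hQ : Cfsg.IsLarge Q) (M : Subgroup G) (hSM : (S : Subgroup G) ≤ M) (hM : Cfsg.IsInFrakM p M) (htall : Cfsg.IsCharPTall p (Cfsg.largestPReducedOf p M)) (hasym : ¬ Cfsg.IsSymmetricIn (Cfsg.largestPReducedOf p M)) (H : Subgroup G) (hH : Cfsg.IsInFrakH p M H) (L : Subgroup G) (hLH : L ≤ H) (hYL : (Cfsg.largestPReducedOf p M) ≤ L) (hYO : ¬ (Cfsg.largestPReducedOf p M) ≤ (Cfsg.pCoreOf p L)) (hmin : ∀ L' : Subgroup G, L' ≤ L → (Cfsg.largestPReducedOf p M) ≤ L' → ¬ (Cfsg.largestPReducedOf p M) ≤ (Cfsg.pCoreOf p L') → L' = L) : (L ⊔ (Cfsg.pCoreOf p M) = H ∧ ∀ h ∈ L, h ∉ Subgroup.normalizer (((Cfsg.largestPReducedOf p M) : Subgroup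 G) : Set G) → (((Cfsg.largestPReducedOf p M) : Subgroup G).map (MulAut.conj (h : G)).toMonoidHom) ⊔ (Cfsg.pCoreOf p M) = H) ∧ (Cfsg.IsMinimalOver (((Cfsg.largestPReducedOf p M)).subgroupOf L) ∧ Subgroup.centralizer (Cfsg.pCore p ↥L : Set ↥L) ≤ Cfsg.pCore p ↥L ∧ L ⊓ Subgroup.normalizer (((Cfsg.largestPReducedOf p M) : Subgroup G) : Set G) < L ∧ ∀ X : Subgroup G, (Cfsg.largestPReducedOf p M) ≤ X → X < L → X ≤ L ⊓ Subgroup.normalizer (((Cfsg.largestPReducedOf p M) : Subgroup G) : Set G)) ∧ (∀ V W' : Subgroup G, V ≤ (Cfsg.pCoreOf p H) → H ≤ Subgroup.normalizer ((V : Subgroup G) : Set G) → H ≤ Subgroup.normalizer ((W' : Subgroup G) : Set G) → W' < V → (∀ Z' : Subgroup G, H ≤ Subgroup.normalizer ((Z' : Subgroup G) : Set G) → W' ≤ Z' → Z' ≤ V → Z' = W' ∨ Z' = V) → ¬ ⁅V, H⁆ ≤ W' → ¬ ⁅V, ((Cfsg.pResidual p ↥L).map (L).subtype)⁆ ≤ W') ∧ (Subgroup.normalClosure (((((Cfsg.pCoreOf p L) ⊓ (Cfsg.largestPReducedOf p M)).subgroupOf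 L : Subgroup ↥L)) : Set ↥L)).map L.subtype ≤ (Cfsg.pCoreOf p H) := by
  have hyp := Cfsg.Agent.Lib.Helper47.FrakM2.hyp_of_asym S hQp hQ1 hQ hSM hM hasym
  have h50 := Cfsg.Agent.S2850.result S Q hQp hQ1 hQS hQ M hSM hM hasym
  have h53 := Cfsg.Agent.S2853.result S Q hQp hQ1 hQS hQ M hSM hM htall hasym H hH _ rfl
  have hred := Cfsg.Agent.Lib.Helper47.PRed.isRed_largest p M
  have hOp : IsPGroup p ↥(Cfsg.pCoreOf p M) := Cfsg.Agent.Lib.Helper47.Syl.pCoreOf_isPGroup p M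
  have hO1 : Cfsg.pCoreOf p M ≠ ⊥ := Cfsg.Agent.Lib.Helper47.FrakM2.pCoreOf_ne_bot hM
  have hwc : ∀ T : Subgroup G, IsPGroup p T → Cfsg.pCoreOf p M ≤ T →
      T ≤ Subgroup.normalizer ((Cfsg.pCoreOf p M : Subgroup G) : Set G) :=
    fun T hT hOT => Subgroup.le_normalizer.trans (h50.1 T hT hOT).1
  have c : Cfsg.Agent.Lib.Helper31.AsymL.Ctx p (Cfsg.largestPReducedOf p M) (Cfsg.pCoreOf p M) H L
      (Cfsg.pCoreOf p H) := by
    refine
      { YO := Cfsg.Agent.Lib.Helper47.FrakM.largest_le_pCoreOf p M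
        OH := hH.2.1
        LH := hLH
        YL := hYL
        Ycomm := hred.2.2.1
        Op := hOp
        OcY := Cfsg.Agent.Lib.Helper47.PRed2.pCoreOf_le_centralizer_largest p M
        Rp := Cfsg.Agent.Lib.Helper47.Syl.pCoreOf_isPGroup p H
        RH := Cfsg.Agent.Lib.Helper47.Syl.pCoreOf_le p H
        HR := Cfsg.Agent.Lib.Helper47.Syl.le_normalizer_pCoreOf p H
        Rmax := fun N hNH hHN hNp => Cfsg.Agent.Lib.Helper47.Syl.le_pCoreOf hNH hHN hNp
        RnY := h53.2.1.trans inf_le_right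
        hchar := Cfsg.Agent.Lib.Helper47.PRed.charp_ambient hH.1
        hfrak := hH.2.2.2
        hwc := hwc
        hwc2 := ?_
        hnor := hyp.nor
        hasym := hyp.asym
        hmin := hmin
        YnL := hYO }
    intro T g hT hOT hgT
    apply (Cfsg.Agent.S2838.result (Cfsg.pCoreOf p M) hOp hO1).1.mp h50.2.1 g
    apply Cfsg.Agent.S2838.comm_le_of_normalize
    · have h1 : Cfsg.pCoreOf p M ≤
          Cfsg.Agent.Lib.Helper31.LLemma.cj g⁻¹ T := by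
        rw [Cfsg.Agent.Lib.Helper31.LLemma.le_cj_iff, inv_inv]; exact hgT
      have h2 := hwc _ (Cfsg.Agent.Lib.Helper31.LLemma.isPGroup_cj hT g⁻¹) h1
      have h3 : T ≤ Cfsg.Agent.Lib.Helper31.LLemma.cj g
          (Subgroup.normalizer ((Cfsg.pCoreOf p M : Subgroup G) : Set G)) := by
        rw [Cfsg.Agent.Lib.Helper31.LLemma.le_cj_iff]; exact h2
      rw [Cfsg.Agent.Lib.Helper31.LLemma.cj_normalizer] at h3
      exact hOT.trans h3
    · exact hgT.trans (hwc T hT hOT)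
  exact ⟨⟨c.sup_eq, fun h hh hn => c.cj_sup_eq hh hn⟩,
    ⟨c.minimalOver, Cfsg.Agent.Lib.Helper47.FrakM.charp_type_of_ambient c.charp,
      c.inf_normalizer_lt, fun X hYX hXL => c.le_normalizer_of_lt hYX hXL⟩,
    fun V W' hVR hHV hHW hWV hchief hnc => c.chief hVR hHV hHW hWV hchief hnc, c.ncl_le⟩

end Cfsg.Agent.S2862
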