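import Cfsg.Statements.S2863
import Cfsg.Agent.Lib.Helper31.LFpf
import Cfsg.Agent.Lib.Helper31.LFpfQ
import Cfsg.Agent.Lib.Helper31.LFpfSL
import Cfsg.Agent.Lib.Helper31.LFpfSz
import Cfsg.Agent.Lib.Helper65.SzIso
import Cfsg.Agent.Lib.Helper47.FrakM2
import Cfsg.Agent.Lib.Helper47.FrakH
import Cfsg.Agent.Lib.Helper47.PRed

set_option autoImplicit false
open Cfsg

namespace Cfsg.Agent.S2863

/-- Standing hypotheses: G a finite group, S a Sylow p-subgroup, Q a nontrivial large p-subgroup of G contained in S, M a subgroup containing S with the basic property (M ∈ 𝔐_G(S)); Y_M the largest p-reduced normal subgroup of M and M† = M·C_G(Y_M). Let L ∈ 𝔏_G(Y_M) (L ∈ 𝔏_G(Y_M): Y_M ≤ L; O_p(L) is the normal closure in L of Y_M ∩ O_p(L) and normalizes Y_M; L is Y_M-minimal of characteristic p with N_L(Y_M) its unique maximal subgroup over Y_M; and L/O_p(L) ≅ SL₂(q) with q = |Y_M : Y_M ∩ O_p(L)|, or p = 2 and L/O_p(L) is a Suzuki group Sz(q)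 or dihedral of order 2r, r an odd prime), A = O_p(L), and C = C_{Y_M}(L). Then every element h of L whose order is not a power of p acts without nontrivial fixed points on A/C: for a ∈ A, hah⁻¹a⁻¹ ∈ C implies a ∈ C. -/
theorem result {G : Type*} [Group G] [Finite G] {p : ℕ} [Fact p.Prime] (S : Sylow p G) (Q : Subgroup G) (hQp : IsPGroup p ↥Q) (hQ1 : Q ≠ ⊥) (hQS : Q ≤ (S : Subgroup G)) (hQ : Cfsg.IsLarge Q) (M : Subgroup G) (hSM : (S : Subgroup G) ≤ M) (hM : Cfsg.IsInFrakM p M) (L : Subgroup G) (hL : Cfsg.IsInFrakL p M L) (h : G) (hh : h ∈ L) (hnp : ¬ ∃ k : ℕ, orderOf h = p ^ k) : ∀ a ∈ (Cfsg.pCoreOf p L), h * a * h⁻¹ * a⁻¹ ∈ (Cfsg.largestPReducedOf p M) ⊓ Subgroup.centralizer ((L : Subgroup G) : Set G) → a ∈ (Cfsg.largestPReducedOf p M) ⊓ Subgroup.centralizer ((L : Subgroup G) : Set G) := by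
  have hred := Cfsg.Agent.Lib.Helper47.PRed.isRed_largest p M
  have hexp : ∀ y ∈ Cfsg.largestPReducedOf p M, y ^ p = 1 := hred.2.2.2.1
  have c : Cfsg.Agent.Lib.Helper31.LFpf.LCtx p (Cfsg.largestPReducedOf p M) (Cfsg.pCoreOf p L) L := by
    refine
      { YL := hL.1
        Ycomm := hred.2.2.1
        Yp := Cfsg.Agent.Lib.Helper47.FrakM2.largest_isPGroup p M
        Ap := Cfsg.Agent.Lib.Helper47.Syl.pCoreOf_isPGroup p L
        AL := Cfsg.Agent.Lib.Helper47.Syl.pCoreOf_le p L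
        LA := Cfsg.Agent.Lib.Helper47.Syl.le_normalizer_pCoreOf p L
        Amax := fun N hNL hLN hNp => Cfsg.Agent.Lib.Helper47.Syl.le_pCoreOf hNL hLN hNp
        Ancl := ?_
        AY := hL.2.2.1
        Bmax := hL.2.2.2.2.2.1.2
        Blt := hL.2.2.2.2.2.1.1
        Yncl := ?_ }
    · intro X hYAX hLX
      have h1 : Cfsg.Agent.Lib.Helper47.FrakH.nclIn
          (Cfsg.largestPReducedOf p M ⊓ Cfsg.pCoreOf p L) L ≤ X :=
        Cfsg.Agent.Lib.Helper47.FrakH.nclIn_le_of hYAX hLX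
      exact hL.2.1.le.trans h1
    · intro X hYX hXL hLX
      refine le_antisymm hXL ?_
      have h1 : Cfsg.Agent.Lib.Helper47.FrakH.nclIn (Cfsg.largestPReducedOf p M) L ≤ X :=
        Cfsg.Agent.Lib.Helper47.FrakH.nclIn_le_of hYX hLX
      have h2 : Cfsg.Agent.Lib.Helper47.FrakH.nclIn (Cfsg.largestPReducedOf p M) L = L := by
        unfold Cfsg.Agent.Lib.Helper47.FrakH.nclIn
        rw [hL.2.2.2.1.1, ← MonoidHom.range_eq_map, Subgroup.range_subtype]
      rw [h2] at h1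
      exact h1
  -- the order of the image of `Y` is a power of `p`
  obtain ⟨n, hn⟩ : ∃ n : ℕ, (Cfsg.largestPReducedOf p M ⊓ Cfsg.pCoreOf p L).relIndex
      (Cfsg.largestPReducedOf p M) = p ^ n := by
    obtain ⟨k, hk⟩ := IsPGroup.iff_card.mp c.Yp
    have h1 := Subgroup.relIndex_dvd_card (Cfsg.largestPReducedOf p M ⊓ Cfsg.pCoreOf p L)
      (Cfsg.largestPReducedOf p M)
    rw [hk] at h1
    obtain ⟨j, -, hj⟩ := (Nat.dvd_prime_pow Fact.out).mp h1
    exact ⟨j, hj⟩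
  have hn0 : n ≠ 0 := by
    rintro rfl
    rw [pow_zero, Subgroup.relIndex_eq_one] at hn
    exact Cfsg.Agent.Lib.Helper31.LFpfQ.LCtx_not_le c (hn.trans inf_le_right)
  -- the quotient map
  have hkerq : ∀ l : ↥L, (QuotientGroup.mk' (Cfsg.pCore p ↥L)) l = 1 ↔
      (l : G) ∈ Cfsg.pCoreOf p L := by
    intro l
    rw [QuotientGroup.mk'_apply, QuotientGroup.eq_one_iff,
      Cfsg.Agent.Lib.Helper47.Syl.mem_pCoreOf_iff l.2]
  intro a ha hfix
  rcases hL.2.2.2.2.2.2 with ⟨F, instF, instFin, hcard, ⟨e⟩⟩ |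
      ⟨hp2, F, instF, instFin, m, hF, hcard, ⟨e⟩⟩ | ⟨hp2, r, hr, hr2, ⟨e⟩⟩
  · -- `SL₂(q)`
    have hsurj : Function.Surjective
        (e.toMonoidHom.comp (QuotientGroup.mk' (Cfsg.pCore p ↥L))) :=
      e.surjective.comp (QuotientGroup.mk'_surjective _)
    have hker : ∀ l : ↥L, (e.toMonoidHom.comp (QuotientGroup.mk' (Cfsg.pCore p ↥L))) l = 1 ↔
        (l : G) ∈ Cfsg.pCoreOf p L := by
      intro l
      rw [← hkerq l]
      exact e.map_eq_one_iff
    have hE : Nat.card (Cfsg.Agent.Lib.Helper31.LFpfQ.img (Cfsg.largestPReducedOf p M) L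
        (e.toMonoidHom.comp (QuotientGroup.mk' (Cfsg.pCore p ↥L)))) = Fintype.card F := by
      rw [Cfsg.Agent.Lib.Helper31.LFpfQ.card_img c.YL hker, hcard]
    have hEp := Cfsg.Agent.Lib.Helper31.LFpfQ.isPGroup_img (L := L) c.Yp
      (e.toMonoidHom.comp (QuotientGroup.mk' (Cfsg.pCore p ↥L)))
    have hchar : CharP F p :=
      Cfsg.Agent.Lib.Helper31.LFpfSL.charP_of_card (n := n) (by rw [hcard, hn])
    exact Cfsg.Agent.Lib.Helper31.LFpfQ.fpf_of_hom c hsurj hker
      (Or.inl (Cfsg.Agent.Lib.Helper31.LFpfSL.XS_SL hE))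
      (fun x r hr hrp hox => Cfsg.Agent.Lib.Helper31.LFpfSL.XD_SL hE hEp x (by
        rintro rfl
        rw [orderOf_one] at hox
        exact hr.one_lt.ne hox)) hh hnp ha hfix
  · -- `Sz(q)`
    rcases Nat.eq_zero_or_pos m with rfl | hm
    · have hidx : (Cfsg.largestPReducedOf p M ⊓ Cfsg.pCoreOf p L).relIndex
          (Cfsg.largestPReducedOf p M) = 2 := by
        rw [← hcard, hF]
        norm_num
      exact Cfsg.Agent.Lib.Helper31.LFpfQ.fpf_two c hp2 hexp hidx hh hnp ha hfix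
    · have hm1 : 1 ≤ m := hm
      have key : ∀ ψ : ↥L →* ↥(Cfsg.Sz F m), Function.Surjective ψ →
          (∀ l : ↥L, ψ l = 1 ↔ (l : G) ∈ Cfsg.pCoreOf p L) →
          a ∈ Cfsg.largestPReducedOf p M ⊓ Subgroup.centralizer ((L : Subgroup G) : Set G) := by
        intro ψ hsurj hker
        have hEc : Nat.card (Cfsg.Agent.Lib.Helper31.LFpfQ.img (Cfsg.largestPReducedOf p M) L ψ)
            = 2 ^ (2 * m + 1) := by
          rw [Cfsg.Agent.Lib.Helper31.LFpfQ.card_img c.YL hker, ← hcard, hF]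
        have hE2 : ∀ x ∈ Cfsg.Agent.Lib.Helper31.LFpfQ.img (Cfsg.largestPReducedOf p M) L ψ,
            x * x = 1 := by
          intro x hx
          obtain ⟨y, hy, rfl⟩ := Cfsg.Agent.Lib.Helper31.LFpfQ.mem_img.mp hx
          rw [← map_mul]
          have h1 : y * y = 1 := by
            apply Subtype.ext
            have h2 := hexp _ hy
            rw [hp2, pow_two] at h2
            exact h2
          rw [h1, map_one]
        -- a nontrivial element of the image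
        obtain ⟨y₀, hy₀, hy₀A⟩ : ∃ y₀ ∈ Cfsg.largestPReducedOf p M, y₀ ∉ Cfsg.pCoreOf p L := by
          by_contra hcon
          push Not at hcon
          exact Cfsg.Agent.Lib.Helper31.LFpfQ.LCtx_not_le c hcon
        have he₀ : ψ ⟨y₀, c.YL hy₀⟩ ∈
            Cfsg.Agent.Lib.Helper31.LFpfQ.img (Cfsg.largestPReducedOf p M) L ψ :=
          Cfsg.Agent.Lib.Helper31.LFpfQ.mem_img.mpr ⟨_, hy₀, rfl⟩
        have he₀1 : ψ ⟨y₀, c.YL hy₀⟩ ≠ 1 := fun h1 => hy₀A ((hker _).mp h1)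
        exact Cfsg.Agent.Lib.Helper31.LFpfQ.fpf_of_hom c hsurj hker
          (Or.inr (Cfsg.Agent.Lib.Helper31.LFpfSz.XA_Sz hm1 hF hE2 hEc))
          (fun x r hr hrp hox => Cfsg.Agent.Lib.Helper31.LFpfSz.XD_Sz hm1 hF he₀ he₀1
            (hE2 _ he₀) x r hr (hp2 ▸ hrp) hox) hh hnp ha hfix
      refine key ((Cfsg.Agent.Lib.Helper65.SzIso.iso hm1 hF).toMonoidHom.comp
          (e.toMonoidHom.comp (QuotientGroup.mk' (Cfsg.pCore p ↥L))))
        ((Cfsg.Agent.Lib.Helper65.SzIso.iso hm1 hF).surjective.comp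
          (e.surjective.comp (QuotientGroup.mk'_surjective _))) ?_
      intro l
      rw [← hkerq l]
      exact (Cfsg.Agent.Lib.Helper65.SzIso.iso hm1 hF).map_eq_one_iff.trans e.map_eq_one_iff
  · -- dihedral of order `2r`
    have hsurj : Function.Surjective
        (e.toMonoidHom.comp (QuotientGroup.mk' (Cfsg.pCore p ↥L))) :=
      e.surjective.comp (QuotientGroup.mk'_surjective _)
    have hker : ∀ l : ↥L, (e.toMonoidHom.comp (QuotientGroup.mk' (Cfsg.pCore p ↥L))) l = 1 ↔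
        (l : G) ∈ Cfsg.pCoreOf p L := by
      intro l
      rw [← hkerq l]
      exact e.map_eq_one_iff
    have hE := Cfsg.Agent.Lib.Helper31.LFpfQ.card_img c.YL hker
    have hdvd : p ^ n ∣ 2 * r := by
      rw [← hn, ← hE, ← DihedralGroup.nat_card]
      exact Subgroup.card_subgroup_dvd_card _
    have hidx : (Cfsg.largestPReducedOf p M ⊓ Cfsg.pCoreOf p L).relIndex
        (Cfsg.largestPReducedOf p M) = 2 := by
      rw [hn, hp2]
      rw [hp2] at hdvd
      have hn1 : n = 1 := by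
        by_contra hne
        have h2 : 2 ≤ n := by omega
        have h3 : 2 ^ 2 ∣ 2 * r := (pow_dvd_pow 2 h2).trans hdvd
        have h4 : 2 ∣ r := by
          have h5 : 2 * 2 ∣ 2 * r := by norm_num at h3 ⊢; exact h3
          exact (Nat.mul_dvd_mul_iff_left (by norm_num)).mp h5
        exact hr2 ((Nat.prime_dvd_prime_iff_eq Nat.prime_two hr).mp h4).symm
      rw [hn1, pow_one]
    exact Cfsg.Agent.Lib.Helper31.LFpfQ.fpf_two c hp2 hexp hidx hh hnp ha hfix

end Cfsg.Agent.S2863
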