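import Cfsg.Statements.S2864
import Cfsg.Agent.Lib.Helper47.FrakM2
import Cfsg.Agent.Lib.Helper47.SecCent

set_option autoImplicit false
open Cfsg

namespace Cfsg.Agent.S2864

open Cfsg.Agent.Lib.Helper47.Syl Cfsg.Agent.Lib.Helper47.Cent Cfsg.Agent.Lib.Helper47.FrakM2
  Cfsg.Agent.Lib.Helper47.SecCent

/-- Standing hypotheses: G a finite group, S a Sylow p-subgroup, Q a nontrivial large p-subgroup of G contained in S, M a subgroup containing S with the basic property (M ∈ 𝔐_G(S)); Y_M the largest p-reduced normal subgroup of M and M† = M·C_G(Y_M). Let I be a nontrivial normal p-subgroup of M and Y ≤ O_p(M†); let L be a subgroup of G containing Y and A a normal p-subgroup of L with I ≤ A ≤ M. If [Y, A] ≤ [I, A], then Y ≤ O_p(L). -/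
theorem result {G : Type*} [Group G] [Finite G] {p : ℕ} [Fact p.Prime] (S : Sylow p G) (Q : Subgroup G) (hQp : IsPGroup p ↥Q) (hQ1 : Q ≠ ⊥) (hQS : Q ≤ (S : Subgroup G)) (hQ : Cfsg.IsLarge Q) (M : Subgroup G) (hSM : (S : Subgroup G) ≤ M) (hM : Cfsg.IsInFrakM p M) (I : Subgroup G) (hI1 : I ≠ ⊥) (hIp : IsPGroup p ↥I) (hIM : I ≤ M ∧ M ≤ Subgroup.normalizer ((I : Subgroup G) : Set G)) (Y : Subgroup G) (hY : Y ≤ (Cfsg.pCoreOf p (M ⊔ Subgroup.centralizer (((Cfsg.largestPReducedOf p M) : Subgroup G) : Set G)))) (L : Subgroup G) (hYL : Y ≤ L) (A : Subgroup G) (hAp : IsPGroup p ↥A) (hAL : A ≤ L ∧ L ≤ Subgroup.normalizer ((A : Subgroup G) : Set G)) (hIA : I ≤ A) (hAM : A ≤ M) (hc : ⁅Y, A⁆ ≤ ⁅I, A⁆) : Y ≤ (Cfsg.pCoreOf p L) := by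
  have hNI := normalizer_le_dagger S hQp hQ1 hQ hSM hM hIp hI1 hIM.2
  have hYp : IsPGroup p ↥Y := (pCoreOf_isPGroup p _).to_le hY
  have hEM : ∀ e ∈ L ⊓ Subgroup.centralizer (A : Set G),
      e ∈ M ⊔ Subgroup.centralizer ((largestPReducedOf p M : Subgroup G) : Set G) := fun e he =>
    hNI (Subgroup.centralizer_le_normalizer _
      (Subgroup.centralizer_le (SetLike.coe_subset_coe.mpr hIA) he.2))
  have hLE : L ≤ Subgroup.normalizer ((L ⊓ Subgroup.centralizer (A : Set G) : Subgroup G) : Set G) :=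
    fun l hl => normalizer_inf_le _ _
      ⟨Subgroup.le_normalizer hl, normalizer_le_normalizer_centralizer A (hAL.2 hl)⟩
  apply le_pCoreOf_of_secCent hAp hAL.2 hYp hYL
  · intro y hy a ha
    exact Subgroup.commutator_mono hIA le_rfl (hc (Subgroup.commutator_mem_commutator hy ha))
  · intro y hy e he
    have h1 : y * e * y⁻¹ * e⁻¹ ∈
        pCoreOf p (M ⊔ Subgroup.centralizer ((largestPReducedOf p M : Subgroup G) : Set G)) := by
      have h2 := conj_mem_of_mem_normalizer (le_normalizer_pCoreOf p _ (hEM e he))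
        (Subgroup.inv_mem _ (hY hy))
      have h3 := Subgroup.mul_mem _ (hY hy) h2
      have h4 : y * (e * y⁻¹ * e⁻¹) = y * e * y⁻¹ * e⁻¹ := by group
      rwa [h4] at h3
    have h2 : y * e * y⁻¹ * e⁻¹ ∈ L ⊓ Subgroup.centralizer (A : Set G) :=
      Subgroup.mul_mem _ (conj_mem_of_mem_normalizer (hLE (hYL hy)) he) (Subgroup.inv_mem _ he)
    refine le_pCoreOf (N := pCoreOf p (M ⊔ Subgroup.centralizer
      ((largestPReducedOf p M : Subgroup G) : Set G)) ⊓ (L ⊓ Subgroup.centralizer (A : Set G)))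
      inf_le_right ?_ ((pCoreOf_isPGroup p _).to_le inf_le_left) ⟨h1, h2⟩
    intro x hx
    exact normalizer_inf_le _ _ ⟨le_normalizer_pCoreOf p _ (hEM x hx), hLE hx.1⟩

end Cfsg.Agent.S2864
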