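import Mathlib
import Cfsg.Statements.S2873
import Cfsg.Agent.Lib.Helper47.Basic

set_option autoImplicit false
open Cfsg

namespace Cfsg.Agent.S2873

theorem mem_normalizer_of_conj_mem {G : Type*} [Group G] (R : Subgroup G) [Finite R] (n : G)
    (h : ∀ y ∈ R, n * y * n⁻¹ ∈ R) : n ∈ Subgroup.normalizer (R : Set G) := by
  rw [Subgroup.mem_normalizer_iff]
  intro y
  constructor
  · exact h y
  · intro hy
    let c : R → R := fun z => ⟨n * z * n⁻¹, h z z.2⟩
    have hinj : Function.Injective c := by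
      intro z w hzw
      have h1 : n * (z : G) * n⁻¹ = n * (w : G) * n⁻¹ := congrArg Subtype.val hzw
      exact Subtype.ext (mul_left_cancel (mul_right_cancel h1))
    obtain ⟨z, hz⟩ := (Finite.injective_iff_surjective.mp hinj) ⟨n * y * n⁻¹, hy⟩
    have h1 : n * (z : G) * n⁻¹ = n * y * n⁻¹ := congrArg Subtype.val hz
    have hzy : (z : G) = y := mul_left_cancel (mul_right_cancel h1)
    rw [← hzy]; exact z.2

theorem inv_conj_aux {G : Type*} [Group G] (b t u x : G) (hb : b * b = 1) (ht : t⁻¹ = t)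
    (h : b * t = u * x * u⁻¹) : (u⁻¹ * b * u) * x * (u⁻¹ * b * u)⁻¹ = x⁻¹ := by
  have h1 : b * (u * x * u⁻¹) * b⁻¹ = (u * x * u⁻¹)⁻¹ := by
    rw [← h, mul_inv_rev, ht, ← mul_assoc, hb, one_mul]
  have h2 : (u⁻¹ * b * u) * x * (u⁻¹ * b * u)⁻¹ = u⁻¹ * (b * (u * x * u⁻¹) * b⁻¹) * u := by
    group
  rw [h2, h1]; group

theorem two_ne_zero_zmod {p : ℕ} [Fact p.Prime] (hp2 : p ≠ 2) : (2 : ZMod p) ≠ 0 := by
  have hpp : p.Prime := Fact.out
  intro h
  have h2 : ((2 : ℕ) : ZMod p) = 0 := by exact_mod_cast h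
  rw [ZMod.natCast_eq_zero_iff] at h2
  exact hp2 ((Nat.prime_dvd_prime_iff_eq hpp Nat.prime_two).mp h2)

theorem dih_invol {p : ℕ} [Fact p.Prime] (hp2 : p ≠ 2) (d : DihedralGroup p) (hd : d * d = 1)
    (hd1 : d ≠ 1) : ∃ i, d = DihedralGroup.sr i := by
  rcases d with j | i
  · exfalso
    apply hd1
    rw [DihedralGroup.r_mul_r, DihedralGroup.one_def] at hd
    have hj : j + j = 0 := DihedralGroup.r.inj hd
    have h2 : (2 : ZMod p) * j = 0 := by rw [two_mul]; exact hj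
    rcases mul_eq_zero.mp h2 with h | h
    · exact absurd h (two_ne_zero_zmod hp2)
    · rw [h, DihedralGroup.one_def]
  · exact ⟨i, rfl⟩

theorem main {G : Type*} [Group G] [Finite G] {p : ℕ} [Fact p.Prime] (hp2 : p ≠ 2)
    (Q : Subgroup G) [hQn : Q.Normal] (hQ : IsPGroup 2 Q)
    (e : G ⧸ Q ≃* DihedralGroup p)
    (R : Sylow p G) (hC : Q ⊓ Subgroup.centralizer ((R : Subgroup G) : Set G) = ⊥) :
    Nonempty (↥(Subgroup.normalizer ((R : Subgroup G) : Set G)) ≃* DihedralGroup p) ∧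
    ∀ a : G, a ∈ Subgroup.normalizer ((R : Subgroup G) : Set G) → orderOf a = 2 →
      (∀ b : G, orderOf b = 2 → b ∉ Q → ∃ g : G, g * a * g⁻¹ = b) ∧
      Nat.card ↥(Q ⊓ Subgroup.centralizer ({a} : Set G)) ^ 2 = Nat.card ↥Q := by
  have hpp : p.Prime := Fact.out
  have h2ne : (2 : ZMod p) ≠ 0 := two_ne_zero_zmod hp2
  -- the projection
  obtain ⟨π, hπs, hker⟩ : ∃ π : G →* DihedralGroup p, Function.Surjective π ∧
      ∀ q : G, q ∈ Q ↔ π q = 1 := by
    refine ⟨e.toMonoidHom.comp (QuotientGroup.mk' Q), ?_, ?_⟩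
    · exact e.surjective.comp (QuotientGroup.mk'_surjective Q)
    · intro q
      simp [QuotientGroup.eq_one_iff]
  -- cardinalities
  obtain ⟨m, hm⟩ := IsPGroup.iff_card.mp hQ
  have hGcard : Nat.card G = 2 * p * 2 ^ m := by
    rw [Subgroup.card_eq_card_quotient_mul_card_subgroup Q, hm, Nat.card_congr e.toEquiv,
      DihedralGroup.nat_card]
  have hRcard : Nat.card (R : Subgroup G) = p := by
    have h1 : Nat.card (R : Subgroup G) = p ^ (Nat.card G).factorization p :=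
      Sylow.card_eq_multiplicity R
    have h2 : (2 * p * 2 ^ m).factorization p = 1 := by
      rw [Nat.factorization_mul (Nat.mul_ne_zero two_ne_zero hpp.ne_zero)
        (pow_ne_zero _ two_ne_zero), Nat.factorization_mul two_ne_zero hpp.ne_zero,
        Nat.Prime.factorization_pow Nat.prime_two, Nat.prime_two.factorization,
        hpp.factorization]
      simp [Finsupp.single_apply, hp2, Ne.symm hp2]
    rw [h1, hGcard, h2, pow_one]
  -- R ∩ Q = 1
  have hRQ : ∀ y : G, y ∈ (R : Subgroup G) → y ∈ Q → y = 1 := by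
    intro y hy hyQ
    exact Subgroup.disjoint_def.mp (IsPGroup.disjoint_of_ne p 2 hp2 _ _ R.isPGroup' hQ) hy hyQ
  -- generators
  have hzp : ∀ x : G, x ∈ (R : Subgroup G) → x ≠ 1 →
      Subgroup.zpowers x = (R : Subgroup G) := by
    intro x hx hx1
    apply Subgroup.eq_of_le_of_card_ge (Subgroup.zpowers_le.mpr hx)
    rw [Nat.card_zpowers]
    have h1 : orderOf x ∣ p := by
      have := Subgroup.orderOf_dvd_natCard (R : Subgroup G) hx
      rwa [hRcard] at this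
    rcases (Nat.dvd_prime hpp).mp h1 with h | h
    · exact absurd (orderOf_eq_one_iff.mp h) hx1
    · rw [hRcard, h]
  -- fixed-point-freeness
  have hCx : ∀ x : G, x ∈ (R : Subgroup G) → x ≠ 1 → ∀ c : G, c ∈ Q → c * x = x * c →
      c = 1 := by
    intro x hx hx1 c hc hcx
    have hmem : c ∈ Q ⊓ Subgroup.centralizer ((R : Subgroup G) : Set G) := by
      refine Subgroup.mem_inf.mpr ⟨hc, ?_⟩
      rw [Subgroup.mem_centralizer_iff]
      intro h hh
      have hh' : h ∈ Subgroup.zpowers x := by rw [hzp x hx hx1]; exact hh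
      obtain ⟨k, rfl⟩ := Subgroup.mem_zpowers_iff.mp hh'
      have hcomm : Commute x c := hcx.symm
      exact (hcomm.zpow_left k).eq
    rw [hC] at hmem
    exact Subgroup.mem_bot.mp hmem
  -- every element of `Q x` is a `Q`-conjugate of `x`
  have hF3 : ∀ x : G, x ∈ (R : Subgroup G) → x ≠ 1 → ∀ q : G, q ∈ Q →
      ∃ u : G, u ∈ Q ∧ q * x = u * x * u⁻¹ := by
    intro x hx hx1 q hq
    let f : Q → Q := fun u => ⟨(u : G) * x * (u : G)⁻¹ * x⁻¹, by
      have h1 : x * (u : G)⁻¹ * x⁻¹ ∈ Q := hQn.conj_mem _ (inv_mem u.2) x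
      have h2 : (u : G) * x * (u : G)⁻¹ * x⁻¹ = (u : G) * (x * (u : G)⁻¹ * x⁻¹) := by group
      rw [h2]; exact mul_mem u.2 h1⟩
    have hinj : Function.Injective f := by
      intro u v huv
      have h1 : (u : G) * x * (u : G)⁻¹ * x⁻¹ = (v : G) * x * (v : G)⁻¹ * x⁻¹ :=
        congrArg Subtype.val huv
      have h2 : (u : G) * x * (u : G)⁻¹ = (v : G) * x * (v : G)⁻¹ := mul_right_cancel h1
      have h3 : ((v : G)⁻¹ * (u : G)) * x = x * ((v : G)⁻¹ * (u : G)) := by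
        calc ((v : G)⁻¹ * (u : G)) * x
            = (v : G)⁻¹ * ((u : G) * x * (u : G)⁻¹) * (u : G) := by group
          _ = (v : G)⁻¹ * ((v : G) * x * (v : G)⁻¹) * (u : G) := by rw [h2]
          _ = x * ((v : G)⁻¹ * (u : G)) := by group
      have h4 := hCx x hx hx1 _ (mul_mem (inv_mem v.2) u.2) h3
      exact Subtype.ext (inv_mul_eq_one.mp h4).symm
    obtain ⟨u, hu⟩ := (Finite.injective_iff_surjective.mp hinj) ⟨q, hq⟩
    have h1 : (u : G) * x * (u : G)⁻¹ * x⁻¹ = q := congrArg Subtype.val hu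
    exact ⟨u, u.2, by rw [← h1]; group⟩
  -- N ∩ Q = 1
  have hNQ : ∀ n : G, n ∈ Subgroup.normalizer ((R : Subgroup G) : Set G) → n ∈ Q → n = 1 := by
    intro n hn hnQ
    have hmem : n ∈ Q ⊓ Subgroup.centralizer ((R : Subgroup G) : Set G) := by
      refine Subgroup.mem_inf.mpr ⟨hnQ, ?_⟩
      rw [Subgroup.mem_centralizer_iff]
      intro h hh
      have h1 : n * h * n⁻¹ ∈ (R : Subgroup G) := (Subgroup.mem_normalizer_iff.mp hn h).mp hh
      have h2 : n * h * n⁻¹ * h⁻¹ ∈ (R : Subgroup G) := mul_mem h1 (inv_mem hh)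
      have h3 : n * h * n⁻¹ * h⁻¹ ∈ Q := by
        have h4 : h * n⁻¹ * h⁻¹ ∈ Q := hQn.conj_mem _ (inv_mem hnQ) h
        have h5 : n * h * n⁻¹ * h⁻¹ = n * (h * n⁻¹ * h⁻¹) := by group
        rw [h5]; exact mul_mem hnQ h4
      have h6 := hRQ _ h2 h3
      have h7 : n * h = h * n := by
        have h8 : n * h = (n * h * n⁻¹ * h⁻¹) * (h * n) := by group
        rw [h8, h6, one_mul]
      exact h7.symm
    rw [hC] at hmem
    exact Subgroup.mem_bot.mp hmem
  -- normalizer criterion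
  have hNmem : ∀ x : G, x ∈ (R : Subgroup G) → x ≠ 1 → ∀ n : G,
      n * x * n⁻¹ ∈ (R : Subgroup G) → n ∈ Subgroup.normalizer ((R : Subgroup G) : Set G) := by
    intro x hx hx1 n hn
    apply mem_normalizer_of_conj_mem
    intro y hy
    have hy' : y ∈ Subgroup.zpowers x := by rw [hzp x hx hx1]; exact hy
    obtain ⟨k, rfl⟩ := Subgroup.mem_zpowers_iff.mp hy'
    rw [← conj_zpow]
    exact zpow_mem hn k
  have hRN : (R : Subgroup G) ≤ Subgroup.normalizer ((R : Subgroup G) : Set G) :=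
    Subgroup.le_normalizer
  -- a nontrivial element of R
  obtain ⟨x, hxR, hx1⟩ : ∃ x : G, x ∈ (R : Subgroup G) ∧ x ≠ 1 := by
    have hnt : Nontrivial (R : Subgroup G) := by
      rw [← Finite.one_lt_card_iff_nontrivial, hRcard]; exact hpp.one_lt
    obtain ⟨y, hy⟩ := exists_ne (1 : (R : Subgroup G))
    exact ⟨y, y.2, fun h => hy (Subtype.ext h)⟩
  -- π on R
  have hπR : ∀ y : G, y ∈ (R : Subgroup G) → ∃ j, π y = DihedralGroup.r j := by
    intro y hy
    rcases hd : π y with j | i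
    · exact ⟨j, rfl⟩
    · exfalso
      have h1 : y ^ p = 1 := by
        have := Subgroup.orderOf_dvd_natCard (R : Subgroup G) hy
        rw [hRcard] at this
        exact orderOf_dvd_iff_pow_eq_one.mp this
      have h2 : (DihedralGroup.sr i : DihedralGroup p) ^ p = 1 := by
        rw [← hd, ← map_pow, h1, map_one]
      have h3 : 2 ∣ p := by
        rw [← DihedralGroup.orderOf_sr i]; exact orderOf_dvd_of_pow_eq_one h2
      exact hp2 ((Nat.prime_dvd_prime_iff_eq Nat.prime_two hpp).mp h3).symm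
  obtain ⟨j, hxj⟩ := hπR x hxR
  -- G = Q N
  have hQN : ∀ g : G, ∃ u : G, u ∈ Q ∧
      u⁻¹ * g ∈ Subgroup.normalizer ((R : Subgroup G) : Set G) := by
    intro g
    have key : ∃ y : G, y ∈ (R : Subgroup G) ∧ y ≠ 1 ∧ π (g * x * g⁻¹) = π y := by
      rcases hd : π g with k | k
      · refine ⟨x, hxR, hx1, ?_⟩
        rw [map_mul, map_mul, map_inv, hd, hxj, DihedralGroup.inv_r, DihedralGroup.r_mul_r,
          DihedralGroup.r_mul_r]
        congr 1; ring
      · refine ⟨x⁻¹, inv_mem hxR, inv_ne_one.mpr hx1, ?_⟩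
        rw [map_mul, map_mul, map_inv, map_inv, hd, hxj, DihedralGroup.inv_sr,
          DihedralGroup.sr_mul_r, DihedralGroup.sr_mul_sr, DihedralGroup.inv_r]
        congr 1; ring
    obtain ⟨y, hyR, hy1, hy⟩ := key
    have hq : g * x * g⁻¹ * y⁻¹ ∈ Q := by
      rw [hker, map_mul, hy, map_inv, mul_inv_cancel]
    obtain ⟨u, hu, hu2⟩ := hF3 y hyR hy1 _ hq
    refine ⟨u, hu, hNmem x hxR hx1 _ ?_⟩
    have h1 : u⁻¹ * g * x * (u⁻¹ * g)⁻¹ = y := by
      have h2 : g * x * g⁻¹ = u * y * u⁻¹ := by rw [← hu2]; group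
      have h3 : u⁻¹ * g * x * (u⁻¹ * g)⁻¹ = u⁻¹ * (g * x * g⁻¹) * u := by group
      rw [h3, h2]; group
    rw [h1]; exact hyR
  have hNinj : ∀ n₁ n₂ : G, n₁ ∈ Subgroup.normalizer ((R : Subgroup G) : Set G) →
      n₂ ∈ Subgroup.normalizer ((R : Subgroup G) : Set G) → π n₁ = π n₂ → n₁ = n₂ := by
    intro n₁ n₂ h1 h2 h
    have h3 : n₁ * n₂⁻¹ ∈ Q := by rw [hker, map_mul, map_inv, h, mul_inv_cancel]
    exact mul_inv_eq_one.mp (hNQ _ (mul_mem h1 (inv_mem h2)) h3)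
  have hNsurj : ∀ d : DihedralGroup p, ∃ n : G,
      n ∈ Subgroup.normalizer ((R : Subgroup G) : Set G) ∧ π n = d := by
    intro d
    obtain ⟨g, hg⟩ := hπs d
    obtain ⟨u, hu, hun⟩ := hQN g
    refine ⟨u⁻¹ * g, hun, ?_⟩
    rw [map_mul, map_inv, (hker u).mp hu, inv_one, one_mul, hg]
  refine ⟨⟨MulEquiv.ofBijective (π.comp (Subgroup.subtype _)) ⟨?_, ?_⟩⟩, ?_⟩
  · intro n₁ n₂ h
    exact Subtype.ext (hNinj _ _ n₁.2 n₂.2 h)
  · intro d
    obtain ⟨n, hn, hnd⟩ := hNsurj d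
    exact ⟨⟨n, hn⟩, hnd⟩
  intro a haN ha2
  have ha1 : a ≠ 1 := by
    rintro rfl
    rw [orderOf_one] at ha2
    exact absurd ha2 (by norm_num)
  have haa : a * a = 1 := by
    rw [← pow_two, ← ha2]; exact pow_orderOf_eq_one a
  have hπa1 : π a ≠ 1 := fun h => ha1 (hNQ a haN ((hker a).mpr h))
  obtain ⟨i₀, hi₀⟩ := dih_invol hp2 (π a) (by rw [← map_mul, haa, map_one]) hπa1
  -- claim 2
  have claim2 : ∀ b : G, orderOf b = 2 → b ∉ Q → ∃ g : G, g * a * g⁻¹ = b := by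
    intro b hb2 hbQ
    have hbb : b * b = 1 := by
      rw [← pow_two, ← hb2]; exact pow_orderOf_eq_one b
    have hπb1 : π b ≠ 1 := fun h => hbQ ((hker b).mpr h)
    obtain ⟨i, hi⟩ := dih_invol hp2 (π b) (by rw [← map_mul, hbb, map_one]) hπb1
    obtain ⟨a', ha'N, ha'⟩ := hNsurj (DihedralGroup.sr (i + j))
    have ha'a' : a' * a' = 1 := by
      apply hNinj _ _ (mul_mem ha'N ha'N) (one_mem _)
      rw [map_mul, ha', DihedralGroup.sr_mul_self, map_one]
    have ha'inv : a'⁻¹ = a' := inv_eq_of_mul_eq_one_left ha'a'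
    have hq : b * a' * x⁻¹ ∈ Q := by
      rw [hker, map_mul, map_mul, map_inv, hi, ha', hxj, DihedralGroup.sr_mul_sr,
        DihedralGroup.inv_r, DihedralGroup.r_mul_r, DihedralGroup.one_def]
      congr 1; ring
    obtain ⟨u, hu, hu2⟩ := hF3 x hxR hx1 _ hq
    have hbu : b * a' = u * x * u⁻¹ := by rw [← hu2]; group
    have hconj : (u⁻¹ * b * u) * x * (u⁻¹ * b * u)⁻¹ = x⁻¹ :=
      inv_conj_aux b a' u x hbb ha'inv hbu
    have hn₁ : u⁻¹ * b * u ∈ Subgroup.normalizer ((R : Subgroup G) : Set G) :=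
      hNmem x hxR hx1 _ (by rw [hconj]; exact inv_mem hxR)
    have hπu : π u = 1 := (hker u).mp hu
    have hπn₁ : π (u⁻¹ * b * u) = DihedralGroup.sr i := by
      rw [map_mul, map_mul, map_inv, hπu, hi]; simp
    obtain ⟨k, hk⟩ : ∃ k : ZMod p, k * 2 = i₀ - i := ⟨(i₀ - i) / 2, div_mul_cancel₀ _ h2ne⟩
    obtain ⟨n₂, hn₂N, hn₂⟩ := hNsurj (DihedralGroup.r k)
    have heq : n₂ * a * n₂⁻¹ = u⁻¹ * b * u := by
      apply hNinj _ _ (mul_mem (mul_mem hn₂N haN) (inv_mem hn₂N)) hn₁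
      rw [hπn₁, map_mul, map_mul, map_inv, hn₂, hi₀, DihedralGroup.inv_r,
        DihedralGroup.r_mul_sr, DihedralGroup.sr_mul_r]
      congr 1
      linear_combination (-1 : ZMod p) * hk
    refine ⟨u * n₂, ?_⟩
    have h9 : u * n₂ * a * (u * n₂)⁻¹ = u * (n₂ * a * n₂⁻¹) * u⁻¹ := by group
    rw [h9, heq]; group
  refine ⟨claim2, ?_⟩
  -- claim 3
  obtain ⟨a', ha'def⟩ : ∃ a' : G, a' = a * x := ⟨_, rfl⟩
  have ha'N : a' ∈ Subgroup.normalizer ((R : Subgroup G) : Set G) := by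
    rw [ha'def]; exact mul_mem haN (hRN hxR)
  have hπa' : π a' = DihedralGroup.sr (i₀ + j) := by
    rw [ha'def, map_mul, hi₀, hxj, DihedralGroup.sr_mul_r]
  have ha'a' : a' * a' = 1 := by
    apply hNinj _ _ (mul_mem ha'N ha'N) (one_mem _)
    rw [map_mul, hπa', DihedralGroup.sr_mul_self, map_one]
  have ha'inv : a'⁻¹ = a' := inv_eq_of_mul_eq_one_left ha'a'
  have ha'Q : a' ∉ Q := by
    intro h
    have h1 := (hker a').mp h
    rw [hπa', DihedralGroup.one_def] at h1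
    cases h1
  have ha'1 : a' ≠ 1 := fun h => ha'Q (h ▸ one_mem Q)
  have ha'ord : orderOf a' = 2 := orderOf_eq_prime (by rw [pow_two]; exact ha'a') ha'1
  obtain ⟨g, hg⟩ := claim2 a' ha'ord ha'Q
  have hxa : x = a⁻¹ * a' := by rw [ha'def]; group
  let Φ : ↥(Q ⊓ Subgroup.centralizer ({a} : Set G)) ×
      ↥(Q ⊓ Subgroup.centralizer ({a} : Set G)) → ↥Q :=
    fun cd => ⟨(cd.1 : G) * (g * (cd.2 : G) * g⁻¹),
      mul_mem (Subgroup.mem_inf.mp cd.1.2).1
        (hQn.conj_mem _ (Subgroup.mem_inf.mp cd.2.2).1 g)⟩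
  have hcomm : ∀ c : G, c ∈ Q ⊓ Subgroup.centralizer ({a} : Set G) → a * c = c * a := by
    intro c hc
    exact Subgroup.mem_centralizer_iff.mp (Subgroup.mem_inf.mp hc).2 a (Set.mem_singleton a)
  have hΦinj : Function.Injective Φ := by
    rintro ⟨c, d⟩ ⟨c₁, d₁⟩ h
    have h1 : (c : G) * (g * (d : G) * g⁻¹) = (c₁ : G) * (g * (d₁ : G) * g⁻¹) :=
      congrArg Subtype.val h
    have hz : (c₁ : G)⁻¹ * (c : G) = g * ((d₁ : G) * (d : G)⁻¹) * g⁻¹ := by
      rw [eq_mul_inv_of_mul_eq h1]; group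
    have hzQ : (c₁ : G)⁻¹ * (c : G) ∈ Q :=
      mul_mem (inv_mem (Subgroup.mem_inf.mp c₁.2).1) (Subgroup.mem_inf.mp c.2).1
    have hza : Commute a ((c₁ : G)⁻¹ * (c : G)) :=
      (Commute.inv_right (hcomm _ c₁.2)).mul_right (hcomm _ c.2)
    have hda : Commute a ((d₁ : G) * (d : G)⁻¹) :=
      (show Commute a (d₁ : G) from hcomm _ d₁.2).mul_right (Commute.inv_right (hcomm _ d.2))
    have hza' : Commute a' ((c₁ : G)⁻¹ * (c : G)) := by
      rw [hz, ← hg]
      show g * a * g⁻¹ * (g * ((d₁ : G) * (d : G)⁻¹) * g⁻¹) =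
        g * ((d₁ : G) * (d : G)⁻¹) * g⁻¹ * (g * a * g⁻¹)
      have e1 : g * a * g⁻¹ * (g * ((d₁ : G) * (d : G)⁻¹) * g⁻¹) =
          g * (a * ((d₁ : G) * (d : G)⁻¹)) * g⁻¹ := by group
      have e2 : g * ((d₁ : G) * (d : G)⁻¹) * g⁻¹ * (g * a * g⁻¹) =
          g * (((d₁ : G) * (d : G)⁻¹) * a) * g⁻¹ := by group
      rw [e1, e2, hda.eq]
    have hzx : ((c₁ : G)⁻¹ * (c : G)) * x = x * ((c₁ : G)⁻¹ * (c : G)) := by
      rw [hxa]
      exact ((hza.inv_left.mul_left hza').symm).eq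
    have hz1 := hCx x hxR hx1 _ hzQ hzx
    have hcc : (c₁ : G) = c := inv_mul_eq_one.mp hz1
    have hdd : (d₁ : G) = d := by
      rw [hz1] at hz
      exact mul_inv_eq_one.mp (conj_eq_one_iff.mp hz.symm)
    exact Prod.ext (Subtype.ext hcc.symm) (Subtype.ext hdd.symm)
  have hΦsurj : Function.Surjective Φ := by
    rintro ⟨q, hq⟩
    obtain ⟨t, htdef⟩ : ∃ t : G, t = q * a' * q⁻¹ := ⟨_, rfl⟩
    have htinv : t⁻¹ = t := by
      rw [htdef]
      have h1 : (q * a' * q⁻¹)⁻¹ = q * a'⁻¹ * q⁻¹ := by group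
      rw [h1, ha'inv]
    have hπq : π q = 1 := (hker q).mp hq
    have hq' : a * t * x⁻¹ ∈ Q := by
      rw [hker, htdef, map_mul, map_mul, map_mul, map_mul, map_inv, map_inv, hπq, hi₀, hπa',
        hxj]
      rw [inv_one, mul_one, one_mul, DihedralGroup.sr_mul_sr, DihedralGroup.inv_r,
        DihedralGroup.r_mul_r, DihedralGroup.one_def]
      congr 1; ring
    obtain ⟨u, hu, hu2⟩ := hF3 x hxR hx1 _ hq'
    have hat : a * t = u * x * u⁻¹ := by rw [← hu2]; group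
    have hconj : (u⁻¹ * a * u) * x * (u⁻¹ * a * u)⁻¹ = x⁻¹ :=
      inv_conj_aux a t u x haa htinv hat
    have hn₁ : u⁻¹ * a * u ∈ Subgroup.normalizer ((R : Subgroup G) : Set G) :=
      hNmem x hxR hx1 _ (by rw [hconj]; exact inv_mem hxR)
    have hπu : π u = 1 := (hker u).mp hu
    have hua1 : u⁻¹ * a * u = a := by
      apply hNinj _ _ hn₁ haN
      rw [map_mul, map_mul, map_inv, hπu]; simp
    have hua : a * u = u * a := by
      have h1 : a * u = u * (u⁻¹ * a * u) := by group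
      rw [h1, hua1]
    have h3 : q * a' * q⁻¹ = u * a' * u⁻¹ := by
      have ht : t = a * (u * x * u⁻¹) := by
        rw [← hat, ← mul_assoc, haa, one_mul]
      rw [← htdef, ht, ha'def]
      have h1 : a * (u * x * u⁻¹) = (a * u) * x * u⁻¹ := by group
      rw [h1, hua]; group
    have hd' : (u⁻¹ * q) * a' = a' * (u⁻¹ * q) := by
      calc (u⁻¹ * q) * a' = u⁻¹ * (q * a' * q⁻¹) * q := by group
        _ = u⁻¹ * (u * a' * u⁻¹) * q := by rw [h3]
        _ = a' * (u⁻¹ * q) := by group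
    have hd'Q : u⁻¹ * q ∈ Q := mul_mem (inv_mem hu) hq
    have hw : g⁻¹ * (u⁻¹ * q) * g ∈ Q ⊓ Subgroup.centralizer ({a} : Set G) := by
      refine Subgroup.mem_inf.mpr ⟨?_, ?_⟩
      · have h1 := hQn.conj_mem _ hd'Q g⁻¹
        simpa using h1
      · rw [Subgroup.mem_centralizer_iff]
        intro h hh
        rw [Set.mem_singleton_iff] at hh
        rw [hh]
        have e1 : a * (g⁻¹ * (u⁻¹ * q) * g) = g⁻¹ * ((g * a * g⁻¹) * (u⁻¹ * q)) * g := by group
        have e2 : g⁻¹ * (u⁻¹ * q) * g * a = g⁻¹ * ((u⁻¹ * q) * (g * a * g⁻¹)) * g := by group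
        rw [e1, e2, hg, hd']
    have huC : u ∈ Q ⊓ Subgroup.centralizer ({a} : Set G) := by
      refine Subgroup.mem_inf.mpr ⟨hu, ?_⟩
      rw [Subgroup.mem_centralizer_iff]
      intro h hh
      rw [Set.mem_singleton_iff] at hh
      rw [hh]
      exact hua
    refine ⟨(⟨u, huC⟩, ⟨g⁻¹ * (u⁻¹ * q) * g, hw⟩), ?_⟩
    apply Subtype.ext
    show u * (g * (g⁻¹ * (u⁻¹ * q) * g) * g⁻¹) = q
    group
  have hcard := Nat.card_eq_of_bijective Φ ⟨hΦinj, hΦsurj⟩
  rw [Nat.card_prod] at hcard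
  rw [pow_two]; exact hcard

/-- Let G be a finite group and r an odd prime such that G ⧸ O₂(G) is dihedral of order 2r, and let R be a Sylow r-subgroup of G with C_{O₂(G)}(R) = 1. Then N_G(R) is dihedral of order 2r; for any involution a of N_G(R), every involution of G outside O₂(G) is conjugate to a; and |C_{O₂(G)}(a)|² = |O₂(G)|. -/
theorem result {G : Type*} [Group G] [Finite G] {r : ℕ} [Fact r.Prime] (hr : r ≠ 2) [hN : (Cfsg.pCore 2 G).Normal] (hquot : Nonempty (G ⧸ Cfsg.pCore 2 G ≃* DihedralGroup r)) (R : Sylow r G) (hC : Cfsg.pCore 2 G ⊓ Subgroup.centralizer ((R : Subgroup G) : Set G) = ⊥) : Nonempty (↥(Subgroup.normalizer ((R : Subgroup G) : Set G)) ≃* DihedralGroup r) ∧ ∀ a : G, a ∈ Subgroup.normalizer ((R : Subgroup G) : Set G) → orderOf a = 2 → (∀ b : G, orderOf b = 2 → b ∉ Cfsg.pCore 2 G → ∃ g : G, g * a * g⁻¹ = b) ∧ Nat.card ↥(Cfsg.pCore 2 G ⊓ Subgroup.centralizer ({a} : Set G)) ^ 2 = Nat.card ↥(Cfsg.pCore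 2 G) := by
  obtain ⟨e⟩ := hquot
  exact main hr (Cfsg.pCore 2 G) (Cfsg.Agent.Lib.Helper47.Basic.pCore_isPGroup 2 G) e R hC

end Cfsg.Agent.S2873
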