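import Mathlib
import Cfsg.Statements.S2874
import Cfsg.Agent.Lib.Helper53.SylowConj

set_option autoImplicit false

namespace Cfsg.Agent.S2874

set_option maxRecDepth 100000 in
set_option synthInstance.maxSize 1024 in
/-- Structure of `A₄` relative to an element of order `3`. -/
theorem a4fact : ∀ g : alternatingGroup (Fin 4), g ^ 3 = 1 → g ≠ 1 →
    ∃ t : alternatingGroup (Fin 4), t ≠ 1 ∧ t * t = 1 ∧ t * g * t * g = g * g * t ∧
      g * t * g⁻¹ ≠ t ∧ g * g * t * (g * g)⁻¹ ≠ t ∧ g * g * t * (g * g)⁻¹ ≠ g * t * g⁻¹ ∧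
      g * t * g⁻¹ ≠ 1 ∧ g * g * t * (g * g)⁻¹ ≠ 1 ∧
      ∀ m : alternatingGroup (Fin 4), ∃ i : Fin 3, m = g ^ (i : ℕ) ∨ m = t * g ^ (i : ℕ) ∨
        m = g * t * g⁻¹ * g ^ (i : ℕ) ∨ m = g * g * t * (g * g)⁻¹ * g ^ (i : ℕ) := by
  decide +kernel

set_option maxRecDepth 100000 in
theorem a4ex : ∃ g : alternatingGroup (Fin 4), g ^ 3 = 1 ∧ g ≠ 1 := by
  decide +kernel

open Matrix


theorem m2fact : ∀ M : Matrix (Fin 2) (Fin 2) (ZMod 2), M * M * M = 1 → M ≠ 1 →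
    M * M + M + 1 = 0 ∧ M 1 0 = 1 ∧ (M - 1).det = 1 := by
  decide +kernel

theorem m2one : (1 * 1 + 1 + 1 : Matrix (Fin 2) (Fin 2) (ZMod 2)).det = 1 := by decide

/-- Reduction modulo `2`. -/
noncomputable def phi (k : ℕ) (hk : 1 ≤ k) : ZMod (2 ^ k) →+* ZMod 2 :=
  ZMod.castHom (dvd_pow_self 2 (by omega)) (ZMod 2)

theorem isUnit_of_phi (k : ℕ) (hk : 1 ≤ k) (x : ZMod (2 ^ k)) (h : phi k hk x = 1) :
    IsUnit x := by
  have : NeZero (2 ^ k) := ⟨by positivity⟩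
  have hx : ((x.val : ℕ) : ZMod (2 ^ k)) = x := ZMod.natCast_zmod_val x
  rw [← hx] at h ⊢
  rw [map_natCast] at h
  rw [ZMod.isUnit_iff_coprime]
  have hodd : Odd x.val := ZMod.natCast_eq_one_iff_odd.mp h
  exact Nat.Coprime.pow_right k (Nat.coprime_two_right.mpr hodd)

theorem isUnit_of_det_phi (k : ℕ) (hk : 1 ≤ k) (A : Matrix (Fin 2) (Fin 2) (ZMod (2 ^ k)))
    (h : ((phi k hk).mapMatrix A).det = 1) : IsUnit A := by
  rw [Matrix.isUnit_iff_isUnit_det]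
  apply isUnit_of_phi k hk
  rw [RingHom.map_det, h]

theorem two_mul_eq_zero (k : ℕ) (hk : 1 ≤ k) (z : ZMod (2 ^ k)) (h : 2 * z = 0) :
    z = 0 ∨ z = 2 ^ (k - 1) := by
  have : NeZero (2 ^ k) := ⟨by positivity⟩
  have hx : ((z.val : ℕ) : ZMod (2 ^ k)) = z := ZMod.natCast_zmod_val z
  obtain ⟨k', rfl⟩ : ∃ k', k = k' + 1 := ⟨k - 1, by omega⟩
  have h1 : ((2 * z.val : ℕ) : ZMod (2 ^ (k' + 1))) = 0 := by
    push_cast
    rw [hx]
    exact h
  rw [ZMod.natCast_eq_zero_iff] at h1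
  have h2 : 2 ^ k' ∣ z.val := by
    have : 2 ^ k' * 2 ∣ z.val * 2 := by
      rw [← pow_succ, mul_comm z.val 2]
      exact h1
    exact Nat.dvd_of_mul_dvd_mul_right (by norm_num) this
  obtain ⟨m, hm⟩ := h2
  have hlt : z.val < 2 ^ (k' + 1) := ZMod.val_lt z
  have hm2 : m < 2 := by
    rw [hm, pow_succ] at hlt
    by_contra hcon
    push Not at hcon
    have : 2 ^ k' * 2 ≤ 2 ^ k' * m := Nat.mul_le_mul_left _ hcon
    omega
  interval_cases m
  · left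
    rw [← hx, hm]
    simp
  · right
    rw [← hx, hm]
    simp

/-- The companion matrix of `x² + x + 1`. -/
def Cm (R : Type*) [CommRing R] : Matrix (Fin 2) (Fin 2) R := !![0, -1; 1, -1]

theorem sol_entries {R : Type*} [CommRing R] (u : R) (h3 : 3 * u = 1) (p q r s : R)
    (e1 : p*p + q*r = 1) (e2 : p*q + q*s = 0) (e3 : r*p + s*r = 0) (e4 : r*q + s*s = 1)
    (f1 : q*q - p*s - q*s = -p + r) (f2 : (-p - q)*(q - r - s) = -q + s)
    (f3 : s*q - r*s - s*s = -p) (f4 : -(p*s) - q*s + (r+s)*(r+s) = -q) :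
    2 * (p - 1) = 0 ∧ 2 * r = 0 ∧ s = p ∧ q = r - (p - 1) := by
  have _h3' := h3
  refine ⟨?_, ?_, ?_, ?_⟩
  · grind
  · grind
  · grind
  · grind

/-- Elements of order `3` of `GL₂(ℤ/2ᵏ)` satisfy `g² + g + 1 = 0` and have a unit lower left
entry. -/
theorem order_three (k : ℕ) (hk : 1 ≤ k) (g : GL (Fin 2) (ZMod (2 ^ k))) (hg : g ^ 3 = 1)
    (hg1 : g ≠ 1) :
    (g : Matrix (Fin 2) (Fin 2) (ZMod (2 ^ k))) * (g : Matrix (Fin 2) (Fin 2) (ZMod (2 ^ k))) +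
      (g : Matrix (Fin 2) (Fin 2) (ZMod (2 ^ k))) + 1 = 0 ∧
    IsUnit ((g : Matrix (Fin 2) (Fin 2) (ZMod (2 ^ k))) 1 0) := by
  obtain ⟨A, hA⟩ : ∃ A : Matrix (Fin 2) (Fin 2) (ZMod (2 ^ k)), A = g := ⟨_, rfl⟩
  rw [← hA]
  have hA3 : A * A * A = 1 := by
    have := congrArg Units.val hg
    rw [hA]
    simpa [pow_succ] using this
  obtain ⟨B, hB⟩ : ∃ B : Matrix (Fin 2) (Fin 2) (ZMod 2), B = (phi k hk).mapMatrix A := ⟨_, rfl⟩
  have hB3 : B * B * B = 1 := by rw [hB, ← map_mul, ← map_mul, hA3, map_one]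
  have hprod : (A - 1) * (A * A + A + 1) = 0 := by
    have : (A - 1) * (A * A + A + 1) = A * A * A - 1 := by noncomm_ring
    rw [this, hA3, sub_self]
  by_cases hB1 : B = 1
  · exfalso
    have hU : IsUnit (A * A + A + 1) := by
      apply isUnit_of_det_phi k hk
      rw [map_add, map_add, map_mul, map_one, ← hB, hB1]
      exact m2one
    have : A - 1 = 0 := (hU.mul_left_eq_zero).mp hprod
    apply hg1
    apply Units.ext
    rw [← hA, sub_eq_zero.mp this]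
    rfl
  · obtain ⟨h1, h2, h3⟩ := m2fact B hB3 hB1
    have hU : IsUnit (A - 1) := by
      apply isUnit_of_det_phi k hk
      rw [map_sub, map_one, ← hB]
      exact h3
    refine ⟨(hU.mul_right_eq_zero).mp hprod, ?_⟩
    apply isUnit_of_phi k hk
    have : (phi k hk) (A 1 0) = B 1 0 := by rw [hB]; rfl
    rw [this, h2]

/-- The solutions of `v² = 1`, `v C v C = C² v`. -/
theorem sol (k : ℕ) (hk : 1 ≤ k) (v : Matrix (Fin 2) (Fin 2) (ZMod (2 ^ k))) (h1 : v * v = 1)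
    (h2 : v * Cm _ * v * Cm _ = Cm _ * Cm _ * v) :
    v = 1 ∨ v = !![1 + 2 ^ (k - 1), 2 ^ (k - 1); 0, 1 + 2 ^ (k - 1)] ∨
      v = !![1, 2 ^ (k - 1); 2 ^ (k - 1), 1] ∨
      v = !![1 + 2 ^ (k - 1), 0; 2 ^ (k - 1), 1 + 2 ^ (k - 1)] := by
  have h3u : IsUnit (3 : ZMod (2 ^ k)) := by
    apply isUnit_of_phi k hk
    rw [map_ofNat]
    decide
  obtain ⟨u, hu⟩ := h3u.exists_right_inv
  have e1 := congrFun (congrFun h1 0) 0
  have e2 := congrFun (congrFun h1 0) 1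
  have e3 := congrFun (congrFun h1 1) 0
  have e4 := congrFun (congrFun h1 1) 1
  have f1 := congrFun (congrFun h2 0) 0
  have f2 := congrFun (congrFun h2 0) 1
  have f3 := congrFun (congrFun h2 1) 0
  have f4 := congrFun (congrFun h2 1) 1
  simp only [Matrix.mul_apply, Fin.sum_univ_two, Matrix.one_apply_eq, Matrix.one_apply_ne,
    ne_eq, Fin.isValue, zero_ne_one, one_ne_zero, not_false_eq_true, Cm, Matrix.of_apply,
    Matrix.cons_val', Matrix.cons_val_zero, Matrix.cons_val_one, Matrix.cons_val_fin_one]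
    at e1 e2 e3 e4 f1 f2 f3 f4
  obtain ⟨c1, c2, c3, c4⟩ := sol_entries u hu (v 0 0) (v 0 1) (v 1 0) (v 1 1)
    (by linear_combination e1) (by linear_combination e2) (by linear_combination e3)
    (by linear_combination e4) (by linear_combination f1) (by linear_combination f2)
    (by linear_combination f3) (by linear_combination f4)
  have hh : (2 : ZMod (2 ^ k)) * 2 ^ (k - 1) = 0 := by
    rw [← pow_succ', Nat.sub_add_cancel hk]
    have : ((2 ^ k : ℕ) : ZMod (2 ^ k)) = 0 := ZMod.natCast_self _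
    exact_mod_cast this
  rcases two_mul_eq_zero k hk _ c1 with hz | hz <;> rcases two_mul_eq_zero k hk _ c2 with hw | hw
  · left
    ext i j
    fin_cases i <;> fin_cases j <;> simp
    · linear_combination hz
    · rw [c4, hw, hz]; ring
    · exact hw
    · rw [c3]; linear_combination hz
  · right; right; left
    ext i j
    fin_cases i <;> fin_cases j <;> simp
    · linear_combination hz
    · rw [c4, hw, hz]; ring
    · exact hw
    · rw [c3]; linear_combination hz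
  · right; left
    ext i j
    fin_cases i <;> fin_cases j <;> simp
    · linear_combination hz
    · rw [c4, hw, hz]; linear_combination (-1 : ZMod (2 ^ k)) * hh
    · exact hw
    · rw [c3]; linear_combination hz
  · right; right; right
    ext i j
    fin_cases i <;> fin_cases j <;> simp
    · linear_combination hz
    · rw [c4, hw, hz]; ring
    · exact hw
    · rw [c3]; linear_combination hz

/-- The three involutions of the standard `A₄`. -/
noncomputable def Sset (k : ℕ) : Finset (Matrix (Fin 2) (Fin 2) (ZMod (2 ^ k))) := by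
  classical
  exact {!![1 + 2 ^ (k - 1), 2 ^ (k - 1); 0, 1 + 2 ^ (k - 1)],
    !![1, 2 ^ (k - 1); 2 ^ (k - 1), 1],
    !![1 + 2 ^ (k - 1), 0; 2 ^ (k - 1), 1 + 2 ^ (k - 1)]}

/-- Membership in the standard `A₄`. -/
def Q (k : ℕ) (x : GL (Fin 2) (ZMod (2 ^ k))) : Prop :=
  ∃ M : Matrix (Fin 2) (Fin 2) (ZMod (2 ^ k)), (M = 1 ∨ M ∈ Sset k) ∧
    ∃ i : Fin 3, (x : Matrix (Fin 2) (Fin 2) (ZMod (2 ^ k))) = M * Cm _ ^ (i : ℕ)

theorem rel_conj {G : Type*} [Group G] (t g : G) (hg : g ^ 3 = 1) (ht : t * t = 1)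
    (h : t * g * t * g = g * g * t) :
    (g * t * g⁻¹) * (g * t * g⁻¹) = 1 ∧
      (g * t * g⁻¹) * g * (g * t * g⁻¹) * g = g * g * (g * t * g⁻¹) := by
  constructor
  · have : (g * t * g⁻¹) * (g * t * g⁻¹) = g * (t * t) * g⁻¹ := by group
    rw [this, ht]; group
  · have e1 : (g * t * g⁻¹) * g * (g * t * g⁻¹) * g = g * (t * g * t * g) * g⁻¹ := by group
    have e2 : g * (g * g * t) * g⁻¹ = g * g * g * t * g⁻¹ := by group
    have e3 : g * g * (g * t * g⁻¹) = g * g * g * t * g⁻¹ := by group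
    rw [e1, h, e2, e3]

/-- Every subgroup isomorphic to `A₄` is conjugate to the standard one. -/
theorem key (k : ℕ) (hk : 2 ≤ k) (H : Subgroup (GL (Fin 2) (ZMod (2 ^ k))))
    (e : H ≃* alternatingGroup (Fin 4)) :
    ∃ P : GL (Fin 2) (ZMod (2 ^ k)), ∀ m : GL (Fin 2) (ZMod (2 ^ k)),
      m ∈ H ↔ Q k (MulAut.conj P m) := by
  classical
  have hk1 : 1 ≤ k := by omega
  obtain ⟨g₀, hg₀3, hg₀1⟩ := a4ex
  obtain ⟨t₀, ht₀1, ht₀2, hrel₀, hne1, hne2, hne3, hne4, hne5, hall₀⟩ := a4fact g₀ hg₀3 hg₀1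
  obtain ⟨F, hF⟩ : ∃ F : alternatingGroup (Fin 4) →* GL (Fin 2) (ZMod (2 ^ k)),
      F = H.subtype.comp e.symm.toMonoidHom := ⟨_, rfl⟩
  have hFinj : Function.Injective F := by
    rw [hF]
    exact (Subgroup.subtype_injective H).comp e.symm.injective
  have hFmem : ∀ x, F x ∈ H := by
    intro x
    rw [hF]
    exact (e.symm x).2
  have hFsurj : ∀ m ∈ H, ∃ x, F x = m := by
    intro m hm
    refine ⟨e ⟨m, hm⟩, ?_⟩
    rw [hF]
    simp
  obtain ⟨g, hg⟩ : ∃ g, g = F g₀ := ⟨_, rfl⟩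
  obtain ⟨t, ht⟩ : ∃ t, t = F t₀ := ⟨_, rfl⟩
  have hgH : g ∈ H := hg ▸ hFmem g₀
  have htH : t ∈ H := ht ▸ hFmem t₀
  have hg3 : g ^ 3 = 1 := by rw [hg, ← map_pow, hg₀3, map_one]
  have hg1 : g ≠ 1 := by
    rw [hg]
    intro h
    exact hg₀1 (hFinj (h.trans (map_one F).symm))
  have ht2 : t * t = 1 := by rw [ht, ← map_mul, ht₀2, map_one]
  have hrel : t * g * t * g = g * g * t := by
    have := congrArg F hrel₀
    simp only [map_mul] at this
    rw [ht, hg]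
    exact this
  have e2 : F (g₀ * t₀ * g₀⁻¹) = g * t * g⁻¹ := by simp only [map_mul, map_inv, hg, ht]
  have e3 : F (g₀ * g₀ * t₀ * (g₀ * g₀)⁻¹) = g * g * t * (g * g)⁻¹ := by
    simp only [map_mul, map_inv, hg, ht]
  have ht1 : t ≠ 1 := by
    rw [ht]
    intro h
    exact ht₀1 (hFinj (h.trans (map_one F).symm))
  have h21 : g * t * g⁻¹ ≠ t := by
    rw [← e2, ht]
    exact fun h => hne1 (hFinj h)
  have h31 : g * g * t * (g * g)⁻¹ ≠ t := by
    rw [← e3, ht]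
    exact fun h => hne2 (hFinj h)
  have h32 : g * g * t * (g * g)⁻¹ ≠ g * t * g⁻¹ := by
    rw [← e3, ← e2]
    exact fun h => hne3 (hFinj h)
  have h2ne : g * t * g⁻¹ ≠ 1 := by
    rw [← e2]
    exact fun h => hne4 (hFinj (h.trans (map_one F).symm))
  have h3ne : g * g * t * (g * g)⁻¹ ≠ 1 := by
    rw [← e3]
    exact fun h => hne5 (hFinj (h.trans (map_one F).symm))
  have hall : ∀ m ∈ H, ∃ i : Fin 3, m = g ^ (i : ℕ) ∨ m = t * g ^ (i : ℕ) ∨
      m = g * t * g⁻¹ * g ^ (i : ℕ) ∨ m = g * g * t * (g * g)⁻¹ * g ^ (i : ℕ) := by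
    intro m hm
    obtain ⟨x, rfl⟩ := hFsurj m hm
    obtain ⟨i, h | h | h | h⟩ := hall₀ x
    · exact ⟨i, Or.inl (by rw [h, map_pow, hg])⟩
    · exact ⟨i, Or.inr (Or.inl (by rw [h, map_mul, map_pow, hg, ht]))⟩
    · exact ⟨i, Or.inr (Or.inr (Or.inl (by rw [h, map_mul, map_pow, e2, hg])))⟩
    · exact ⟨i, Or.inr (Or.inr (Or.inr (by rw [h, map_mul, map_pow, e3, hg])))⟩
  -- relations for the other two involutions
  obtain ⟨r21, r22⟩ := rel_conj t g hg3 ht2 hrel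
  obtain ⟨r31', r32'⟩ := rel_conj (g * t * g⁻¹) g hg3 r21 r22
  have e33 : g * (g * t * g⁻¹) * g⁻¹ = g * g * t * (g * g)⁻¹ := by group
  rw [e33] at r31' r32'
  -- the conjugating matrix
  obtain ⟨hq, hu⟩ := order_three k hk1 g hg3 hg1
  obtain ⟨A, hA⟩ : ∃ A : Matrix (Fin 2) (Fin 2) (ZMod (2 ^ k)), A = g := ⟨_, rfl⟩
  rw [← hA] at hq hu
  have hPu : IsUnit (!![1, A 0 0; 0, A 1 0] : Matrix (Fin 2) (Fin 2) (ZMod (2 ^ k))) := by
    rw [Matrix.isUnit_iff_isUnit_det, Matrix.det_fin_two_of]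
    simpa using hu
  obtain ⟨P, hP⟩ := hPu
  have hAP : A * (P : Matrix (Fin 2) (Fin 2) (ZMod (2 ^ k))) =
      (P : Matrix (Fin 2) (Fin 2) (ZMod (2 ^ k))) * Cm _ := by
    rw [hP]
    have h00 := congrFun (congrFun hq 0) 0
    have h10 := congrFun (congrFun hq 1) 0
    simp only [Matrix.add_apply, Matrix.mul_apply, Fin.sum_univ_two, Matrix.one_apply_eq,
      Matrix.one_apply_ne, ne_eq, Fin.isValue, one_ne_zero, not_false_eq_true,
      Matrix.zero_apply, add_zero] at h00 h10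
    ext i j
    fin_cases i <;> fin_cases j <;> simp [Cm, Matrix.mul_apply, Fin.sum_univ_two]
    · linear_combination h00
    · linear_combination h10
  obtain ⟨ψ, hψ⟩ : ∃ ψ : GL (Fin 2) (ZMod (2 ^ k)) ≃* GL (Fin 2) (ZMod (2 ^ k)),
      ψ = MulAut.conj P⁻¹ := ⟨_, rfl⟩
  have hc : ((ψ g : GL (Fin 2) (ZMod (2 ^ k))) : Matrix (Fin 2) (Fin 2) (ZMod (2 ^ k))) =
      Cm _ := by
    have h1 : (P : Matrix (Fin 2) (Fin 2) (ZMod (2 ^ k))) *
        ((ψ g : GL (Fin 2) (ZMod (2 ^ k))) : Matrix (Fin 2) (Fin 2) (ZMod (2 ^ k))) =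
        (P : Matrix (Fin 2) (Fin 2) (ZMod (2 ^ k))) * Cm _ := by
      rw [← hAP, hA, ← Units.val_mul, ← Units.val_mul, hψ, MulAut.conj_apply]
      congr 1
      group
    exact (Units.mul_right_inj P).mp h1
  -- membership of the images of the involutions in `Sset`
  have hmemS : ∀ w : GL (Fin 2) (ZMod (2 ^ k)), w * w = 1 → w * g * w * g = g * g * w →
      w ≠ 1 → ((ψ w : GL (Fin 2) (ZMod (2 ^ k))) : Matrix (Fin 2) (Fin 2) (ZMod (2 ^ k))) ∈
        Sset k := by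
    intro w hw2 hwrel hw1
    have a1 : ((ψ w : GL (Fin 2) (ZMod (2 ^ k))) : Matrix (Fin 2) (Fin 2) (ZMod (2 ^ k))) *
        ((ψ w : GL (Fin 2) (ZMod (2 ^ k))) : Matrix (Fin 2) (Fin 2) (ZMod (2 ^ k))) = 1 := by
      rw [← Units.val_mul, ← map_mul, hw2, map_one, Units.val_one]
    have a2 : ((ψ w : GL (Fin 2) (ZMod (2 ^ k))) : Matrix (Fin 2) (Fin 2) (ZMod (2 ^ k))) *
        Cm _ * ((ψ w : GL (Fin 2) (ZMod (2 ^ k))) : Matrix (Fin 2) (Fin 2) (ZMod (2 ^ k))) *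
        Cm _ = Cm _ * Cm _ *
        ((ψ w : GL (Fin 2) (ZMod (2 ^ k))) : Matrix (Fin 2) (Fin 2) (ZMod (2 ^ k))) := by
      rw [← hc, ← Units.val_mul, ← Units.val_mul, ← Units.val_mul, ← Units.val_mul,
        ← Units.val_mul, ← map_mul, ← map_mul, ← map_mul, ← map_mul, ← map_mul, hwrel]
    have hne : ((ψ w : GL (Fin 2) (ZMod (2 ^ k))) : Matrix (Fin 2) (Fin 2) (ZMod (2 ^ k))) ≠
        1 := by
      intro h
      apply hw1
      apply ψ.injective
      rw [map_one]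
      exact Units.ext h
    rcases sol k hk1 _ a1 a2 with h | h | h | h
    · exact absurd h hne
    · rw [h]; simp [Sset]
    · rw [h]; simp [Sset]
    · rw [h]; simp [Sset]
  have m1 := hmemS t ht2 hrel ht1
  have m2 := hmemS (g * t * g⁻¹) r21 r22 h2ne
  have m3 := hmemS (g * g * t * (g * g)⁻¹) r31' r32' h3ne
  have hval : ∀ x y : GL (Fin 2) (ZMod (2 ^ k)), x ≠ y →
      ((ψ x : GL (Fin 2) (ZMod (2 ^ k))) : Matrix (Fin 2) (Fin 2) (ZMod (2 ^ k))) ≠
      ((ψ y : GL (Fin 2) (ZMod (2 ^ k))) : Matrix (Fin 2) (Fin 2) (ZMod (2 ^ k))) :=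
    fun x y hxy h => hxy (ψ.injective (Units.ext h))
  have hS : ({((ψ t : GL (Fin 2) (ZMod (2 ^ k))) : Matrix (Fin 2) (Fin 2) (ZMod (2 ^ k))),
      ((ψ (g * t * g⁻¹) : GL (Fin 2) (ZMod (2 ^ k))) : Matrix (Fin 2) (Fin 2) (ZMod (2 ^ k))),
      ((ψ (g * g * t * (g * g)⁻¹) : GL (Fin 2) (ZMod (2 ^ k))) :
        Matrix (Fin 2) (Fin 2) (ZMod (2 ^ k)))} :
      Finset (Matrix (Fin 2) (Fin 2) (ZMod (2 ^ k)))) = Sset k := by
    apply Finset.eq_of_subset_of_card_le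
    · intro x hx
      simp only [Finset.mem_insert, Finset.mem_singleton] at hx
      rcases hx with rfl | rfl | rfl
      · exact m1
      · exact m2
      · exact m3
    · have hc3 : (Sset k).card ≤ 3 := by
        unfold Sset
        exact Finset.card_le_three
      refine hc3.trans (le_of_eq ?_)
      symm
      rw [Finset.card_eq_three]
      exact ⟨_, _, _, hval _ _ h21.symm, hval _ _ h31.symm, hval _ _ h32.symm, rfl⟩
  have hpow : ∀ (w : GL (Fin 2) (ZMod (2 ^ k))) (i : ℕ),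
      ((ψ (w * g ^ i) : GL (Fin 2) (ZMod (2 ^ k))) : Matrix (Fin 2) (Fin 2) (ZMod (2 ^ k))) =
      ((ψ w : GL (Fin 2) (ZMod (2 ^ k))) : Matrix (Fin 2) (Fin 2) (ZMod (2 ^ k))) *
        Cm _ ^ i := by
    intro w i
    rw [map_mul, map_pow, Units.val_mul, Units.val_pow_eq_pow_val, hc]
  refine ⟨P⁻¹, fun m => ⟨fun hm => ?_, ?_⟩⟩
  · rw [← hψ]
    obtain ⟨i, h | h | h | h⟩ := hall m hm
    · refine ⟨1, Or.inl rfl, i, ?_⟩
      have := hpow 1 i
      rw [one_mul, map_one, Units.val_one] at this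
      rw [h, this]
    · exact ⟨_, Or.inr m1, i, by rw [h]; exact hpow _ _⟩
    · exact ⟨_, Or.inr m2, i, by rw [h]; exact hpow _ _⟩
    · exact ⟨_, Or.inr m3, i, by rw [h]; exact hpow _ _⟩
  · rw [← hψ]
    rintro ⟨M, hM, i, hMi⟩
    have hfin : ∀ w ∈ H, ((ψ m : GL (Fin 2) (ZMod (2 ^ k))) :
        Matrix (Fin 2) (Fin 2) (ZMod (2 ^ k))) =
        ((ψ w : GL (Fin 2) (ZMod (2 ^ k))) : Matrix (Fin 2) (Fin 2) (ZMod (2 ^ k))) *
          Cm _ ^ (i : ℕ) → m ∈ H := by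
      intro w hw h
      rw [← hpow] at h
      have : m = w * g ^ (i : ℕ) := ψ.injective (Units.ext h)
      rw [this]
      exact H.mul_mem hw (H.pow_mem hgH _)
    rcases hM with hM | hM
    · apply hfin 1 H.one_mem
      rw [map_one, Units.val_one, hMi, hM]
    · rw [← hS] at hM
      simp only [Finset.mem_insert, Finset.mem_singleton] at hM
      rcases hM with hM | hM | hM
      · exact hfin t htH (by rw [hMi, hM])
      · exact hfin _ (H.mul_mem (H.mul_mem hgH htH) (H.inv_mem hgH)) (by rw [hMi, hM])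
      · exact hfin _ (H.mul_mem (H.mul_mem (H.mul_mem hgH hgH) htH)
          (H.inv_mem (H.mul_mem hgH hgH))) (by rw [hMi, hM])

/-- For k ≥ 2, any two subgroups of GL₂(ℤ/2ᵏℤ) (the automorphism group of the homocyclic group ℤ/2ᵏ × ℤ/2ᵏ) that are isomorphic to the alternating group of degree 4 are conjugate. -/
theorem result (k : ℕ) (hk : 2 ≤ k) (H₁ H₂ : Subgroup (GL (Fin 2) (ZMod (2 ^ k)))) (h₁ : Nonempty (↥H₁ ≃* ↥(alternatingGroup (Fin 4)))) (h₂ : Nonempty (↥H₂ ≃* ↥(alternatingGroup (Fin 4)))) : ∃ g : GL (Fin 2) (ZMod (2 ^ k)), H₂ = H₁.map (MulAut.conj g).toMonoidHom := by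
  obtain ⟨e₁⟩ := h₁
  obtain ⟨e₂⟩ := h₂
  obtain ⟨P₁, hP₁⟩ := key k hk H₁ e₁
  obtain ⟨P₂, hP₂⟩ := key k hk H₂ e₂
  refine ⟨P₂⁻¹ * P₁, ?_⟩
  ext m
  rw [Cfsg.Agent.Lib.Helper53.SylowConj.mem_map_conj_iff, hP₂, hP₁]
  have : (MulAut.conj P₁) ((P₂⁻¹ * P₁)⁻¹ * m * (P₂⁻¹ * P₁)) = (MulAut.conj P₂) m := by
    simp only [MulAut.conj_apply]
    group
  rw [this]

end Cfsg.Agent.S2874
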