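import Cfsg.Statements.S2880
import Cfsg.Agent.Lib.Helper30.XSCount

set_option autoImplicit false
open Cfsg

namespace Cfsg.Agent.S2880

open Cfsg.Agent.Lib.Helper93.LargeExtra2 Cfsg.Agent.Lib.Helper30

theorem count_aux {E : Type*} [Group E] [Finite E] (m : ℕ) (hE : Cfsg.IsExtraspecial 2 E)
    (hcard : Nat.card E = 2 ^ (2 * m + 1))
    (hplus : ∃ A : Subgroup E, Cfsg.IsElementaryAbelian 2 A ∧ Nat.card A = 2 ^ (m + 1)) :
    Nat.card {x : E // orderOf x = 4} = 2 ^ (2 * m) - 2 ^ m := by
  classical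
  obtain ⟨z, hz, hcen⟩ := XSCount.xs_top hE
  obtain ⟨A, ⟨hAcomm, hA2⟩, hAcard⟩ := hplus
  have hAc : ∀ a ∈ A, ∀ b ∈ A, a * b = b * a := by
    intro a ha b hb
    have := hAcomm.is_comm.comm (⟨a, ha⟩ : A) ⟨b, hb⟩
    exact congrArg Subtype.val this
  have hA2' : ∀ a ∈ A, a * a = 1 := fun a ha => by rw [← pow_two]; exact hA2 a ha
  have hcard2 : Nat.card A * Nat.card A = 2 * Nat.card E := by rw [hAcard, hcard]; ring
  have : Fintype E := Fintype.ofFinite E
  have key := XSCount.card_sq_ne_one hz A hAc hA2' hcard2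
  rw [Nat.card_eq_fintype_card, Fintype.card_subtype]
  have hfilter : Finset.univ.filter (fun x : E => orderOf x = 4) =
      Finset.univ.filter (fun x : E => ¬ x * x = 1) := by
    apply Finset.filter_congr
    intro x _
    exact XSCount.orderOf_eq_four_iff hz x
  rw [hfilter]
  rw [hAcard, ← Nat.card_eq_fintype_card, hcard] at key
  have h1 : 2 ^ m ≤ 2 ^ (2 * m) := Nat.pow_le_pow_right (by norm_num) (by omega)
  have e1 : 2 ^ (m + 1) = 2 * 2 ^ m := by ring
  have e2 : 2 ^ (2 * m + 1) = 2 * 2 ^ (2 * m) := by ring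
  rw [e1, e2] at key
  push_cast at key
  generalize (Finset.univ.filter (fun x : E => ¬ x * x = 1)).card = n at key ⊢
  have key' : 2 * n + 2 * 2 ^ m = 2 * 2 ^ (2 * m) := by exact_mod_cast key
  omega

/-- Let E be an extraspecial 2-group of order 2^(2m+1) of plus type, that is, containing an elementary abelian subgroup of order 2^(m+1) (equivalently, a central product of m dihedral groups of order 8). Then E has exactly 2^(2m) − 2^m elements of order 4. -/
theorem result {E : Type*} [Group E] [Finite E] (m : ℕ) (hm : 1 ≤ m) (hE : Cfsg.IsExtraspecial 2 E) (hcard : Nat.card E = 2 ^ (2 * m + 1)) (hplus : ∃ A : Subgroup E, Cfsg.IsElementaryAbelian 2 A ∧ Nat.card A = 2 ^ (m + 1)) : Nat.card {x : E // orderOf x = 4} = 2 ^ (2 * m) - 2 ^ m := by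
  exact count_aux m hE hcard hplus

end Cfsg.Agent.S2880
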