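import Cfsg.Statements.S2881
import Cfsg.Agent.S2880

set_option autoImplicit false
open Cfsg

namespace Cfsg.Agent.S2881

theorem two_ne_zero5 : (2 : ZMod 5) ≠ 0 := by decide

theorem two_sq5 : ¬ (2 : ZMod 5) ^ 2 ^ 1 = 1 := by decide

theorem two_four5 : (2 : ZMod 5) ^ 2 ^ (1 + 1) = 1 := by decide

theorem four_dvd_of_mod (m : ℕ) (h : 2 ^ (2 * m) - 2 ^ m ≡ 0 [MOD 5]) : 4 ∣ m := by
  haveI : Fact (Nat.Prime 5) := ⟨by norm_num⟩
  have hle : 2 ^ m ≤ 2 ^ (2 * m) := Nat.pow_le_pow_right (by norm_num) (by omega)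
  have h1 : ((2 ^ (2 * m) - 2 ^ m : ℕ) : ZMod 5) = 0 := by
    rw [ZMod.natCast_eq_zero_iff]
    exact (Nat.modEq_zero_iff_dvd).mp h
  rw [Nat.cast_sub hle] at h1
  push_cast at h1
  have h2 : (2 : ZMod 5) ^ m * (2 : ZMod 5) ^ m = (2 : ZMod 5) ^ m * 1 := by
    rw [mul_one, ← pow_add, ← two_mul]
    exact sub_eq_zero.mp h1
  have h20 : (2 : ZMod 5) ≠ 0 := two_ne_zero5
  have h3 : (2 : ZMod 5) ^ m = 1 := mul_left_cancel₀ (pow_ne_zero m h20) h2
  have h4 : orderOf (2 : ZMod 5) ∣ m := orderOf_dvd_of_pow_eq_one h3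
  have h5 : orderOf (2 : ZMod 5) = 2 ^ (1 + 1) :=
    orderOf_eq_prime_pow (p := 2) (n := 1) two_sq5 two_four5
  rw [h5] at h4
  exact h4

/-- Let E be an extraspecial 2-group of order 2^(2m+1) of plus type (containing an elementary abelian subgroup of order 2^(m+1)), and let ω be an automorphism of E of order 5 whose fixed points are exactly the centre of E. Then m is divisible by 4. -/
theorem result {E : Type*} [Group E] [Finite E] (m : ℕ) (hm : 1 ≤ m) (hE : Cfsg.IsExtraspecial 2 E) (hcard : Nat.card E = 2 ^ (2 * m + 1)) (hplus : ∃ A : Subgroup E, Cfsg.IsElementaryAbelian 2 A ∧ Nat.card A = 2 ^ (m + 1)) (ω : E ≃* E) (hω : orderOf ω = 5) (hfix : ∀ x : E, ω x = x ↔ x ∈ Subgroup.center E) : 4 ∣ m := by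
  classical
  have hcount := Cfsg.Agent.S2880.result m hm hE hcard hplus
  have : Fintype E := Fintype.ofFinite E
  let f : Function.End {x : E // orderOf x = 4} :=
    fun x => ⟨ω x.1, by rw [MulEquiv.orderOf_eq]; exact x.2⟩
  have hpow : ∀ n : ℕ, ∀ x : {x : E // orderOf x = 4}, ((f ^ n) x : E) = (ω ^ n) x.1 := by
    intro n
    induction n with
    | zero => intro x; rfl
    | succ k ih =>
      intro x
      rw [pow_succ, pow_succ]
      exact ih (f x)
  have hω5 : ω ^ 5 = 1 := by rw [← hω]; exact pow_orderOf_eq_one ω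
  have hf5 : f ^ 5 ^ 1 = 1 := by
    funext x
    apply Subtype.ext
    rw [pow_one, hpow, hω5]
    rfl
  haveI : Fact (Nat.Prime 5) := ⟨by norm_num⟩
  have hmod := Equiv.Perm.card_fixedPoints_modEq (f := f) (p := 5) (n := 1) hf5
  have hempty : IsEmpty (Function.fixedPoints f) := by
    constructor
    rintro ⟨x, hx⟩
    have h1 : ω x.1 = x.1 := congrArg Subtype.val hx
    have h2 := (hfix x.1).mp h1
    have h3 : (⟨x.1, h2⟩ : Subgroup.center E) ^ 2 = 1 := by
      rw [← hE.2]; exact pow_card_eq_one'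
    have h4 : x.1 ^ 2 = 1 := congrArg Subtype.val h3
    have h5 : orderOf x.1 ∣ 2 := orderOf_dvd_of_pow_eq_one h4
    rw [x.2] at h5
    omega
  rw [Fintype.card_eq_zero (α := Function.fixedPoints f), ← Nat.card_eq_fintype_card, hcount]
    at hmod
  exact four_dvd_of_mod m hmod

end Cfsg.Agent.S2881
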