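import Mathlib
import Cfsg.Statements.S2911
import Cfsg.Agent.S2872
import Cfsg.Agent.Lib.Helper52.AbSylow
import Cfsg.Agent.Lib.Helper4.TateCor
import Cfsg.Agent.Lib.Helper34.PResidual

set_option autoImplicit false
open Cfsg

namespace Cfsg.Agent.S2911

/-- the model group `C₂ × D₈` -/
abbrev Gam := Multiplicative (ZMod 2) × DihedralGroup 4

/-- the central involution outside the Frattini subgroup -/
def z0 : Gam := (Multiplicative.ofAdd 1, 1)

/-- the commutator involution -/
def c0 : Gam := (1, DihedralGroup.r 2)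

theorem F1 : ∀ x : Gam, (∀ y : Gam, x * y = y * x) → x = 1 ∨ x = z0 ∨ x = c0 ∨ x = z0 * c0 := by
  decide

theorem F2 : ∀ x y : Gam, x * y * x⁻¹ * y⁻¹ = 1 ∨ x * y * x⁻¹ * y⁻¹ = c0 := by decide

theorem F3 : c0 = ((1, DihedralGroup.r 1) : Gam) * (1, DihedralGroup.sr 0) *
    ((1, DihedralGroup.r 1) : Gam)⁻¹ * ((1, DihedralGroup.sr 0) : Gam)⁻¹ := by decide

theorem F4 : (∀ y : Gam, z0 * y = y * z0) ∧ z0 * z0 = 1 ∧ z0.1 ≠ 1 ∧ c0 * c0 = 1 ∧
    (∀ y : Gam, c0 * y = y * c0) ∧ c0 ≠ 1 ∧ z0 ≠ c0 ∧ z0 * c0 ≠ c0 ∧ z0 ≠ 1 ∧ z0 * c0 ≠ 1 := by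
  decide

/-- an element normalizing a Sylow 2-subgroup whose square centralizes `z` and which has odd
order centralizes `z`; combined with 2-elements lying in `S` -/
theorem commute_of_normalizer {G : Type*} [Group G] [Finite G] (S : Sylow 2 G) (z : G)
    (hS : ∀ s ∈ (S : Subgroup G), Commute s z)
    (hsq : ∀ g ∈ Subgroup.normalizer ((S : Subgroup G) : Set G), Commute (g * g) z)
    (g : G) (hg : g ∈ Subgroup.normalizer ((S : Subgroup G) : Set G)) : Commute g z := by
  have hn0 : orderOf g ≠ 0 := (orderOf_pos g).ne'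
  obtain ⟨j, m, hm, hnm⟩ := Nat.exists_eq_two_pow_mul_odd hn0
  -- the odd part
  have hh : Commute (g ^ (2 ^ j)) z := by
    have h1 : (g ^ (2 ^ j)) ^ m = 1 := by
      rw [← pow_mul, ← hnm]; exact pow_orderOf_eq_one g
    obtain ⟨t, ht⟩ := hm
    have h2 : g ^ (2 ^ j) = ((g ^ (2 ^ j)) * (g ^ (2 ^ j))) ^ (t + 1) := by
      have h3 : ((g ^ (2 ^ j)) * (g ^ (2 ^ j))) ^ (t + 1) = (g ^ (2 ^ j)) ^ m * g ^ (2 ^ j) := by
        rw [← pow_two, ← pow_mul, ht, ← pow_succ]
        congr 1
      rw [h3, h1, one_mul]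
    rw [h2]
    exact (hsq _ (Subgroup.pow_mem _ hg _)).pow_left _
  -- the 2-part
  have hs : Commute (g ^ m) z := by
    apply hS
    have h1 : (g ^ m) ^ (2 ^ j) = 1 := by
      rw [← pow_mul, mul_comm, ← hnm]; exact pow_orderOf_eq_one g
    have hP : IsPGroup 2 (Subgroup.zpowers (g ^ m)) := by
      rintro ⟨x, hx⟩
      obtain ⟨k, rfl⟩ := Subgroup.mem_zpowers_iff.mp hx
      refine ⟨j, ?_⟩
      apply Subtype.ext
      show ((g ^ m) ^ k) ^ (2 ^ j) = 1
      rw [← zpow_natCast, ← zpow_mul, mul_comm, zpow_mul, zpow_natCast, h1, one_zpow]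
    have h2 : g ^ m ∈ Subgroup.zpowers (g ^ m) ⊓ Subgroup.normalizer ((S : Subgroup G) : Set G) :=
      ⟨Subgroup.mem_zpowers _, Subgroup.pow_mem _ hg _⟩
    have h3 := hP.inf_normalizer_sylow S
    have h4 : g ^ m ∈ Subgroup.zpowers (g ^ m) ⊓ (S : Subgroup G) := by
      rw [← h3]; exact h2
    exact h4.2
  -- Bezout
  have hcop : Nat.Coprime (2 ^ j) m := (Nat.coprime_two_left.mpr hm).pow_left j
  have hbez := Int.gcd_eq_gcd_ab ((2 ^ j : ℕ) : ℤ) (m : ℤ)
  rw [Int.gcd_natCast_natCast, hcop.gcd_eq_one] at hbez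
  have hg1 : g = (g ^ (2 ^ j)) ^ (Int.gcdA ((2 ^ j : ℕ) : ℤ) (m : ℤ)) *
      (g ^ m) ^ (Int.gcdB ((2 ^ j : ℕ) : ℤ) (m : ℤ)) := by
    rw [← zpow_natCast g (2 ^ j), ← zpow_natCast g m, ← zpow_mul, ← zpow_mul, ← zpow_add, ← hbez]
    simp
  rw [hg1]
  exact (hh.zpow_left _).mul_left (hs.zpow_left _)

/-- If S ∈ Syl₂(G) is ≅ C₂ × D₈ then G has a subgroup of index 2. -/
theorem result {G : Type*} [Group G] [Finite G] (S : Sylow 2 G) (hS : Nonempty (↥(S : Subgroup G) ≃* Multiplicative (ZMod 2) × DihedralGroup 4)) : ∃ H : Subgroup G, H.index = 2 := by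
  classical
  have : Fact (Nat.Prime 2) := ⟨Nat.prime_two⟩
  obtain ⟨e⟩ := hS
  obtain ⟨zs, hzs⟩ : ∃ zs : ↥(S : Subgroup G), e zs = z0 := ⟨e.symm z0, e.apply_symm_apply z0⟩
  obtain ⟨cs, hcs⟩ : ∃ cs : ↥(S : Subgroup G), e cs = c0 := ⟨e.symm c0, e.apply_symm_apply c0⟩
  have hcomm_s : ∀ (x : ↥(S : Subgroup G)), (∀ y : Gam, e x * y = y * e x) →
      ∀ y : ↥(S : Subgroup G), x * y = y * x := by
    intro x hx y
    apply e.injective
    rw [map_mul, map_mul]
    exact hx (e y)
  have hz_central : ∀ y : ↥(S : Subgroup G), zs * y = y * zs :=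
    hcomm_s zs (by rw [hzs]; exact F4.1)
  have hc_central : ∀ y : ↥(S : Subgroup G), cs * y = y * cs :=
    hcomm_s cs (by rw [hcs]; exact F4.2.2.2.2.1)
  have hcenter : ∀ x : ↥(S : Subgroup G), (∀ y : ↥(S : Subgroup G), x * y = y * x) →
      x = 1 ∨ x = zs ∨ x = cs ∨ x = zs * cs := by
    intro x hx
    have h1 : ∀ y : Gam, e x * y = y * e x := by
      intro y
      have := congrArg e (hx (e.symm y))
      simpa using this
    rcases F1 (e x) h1 with h | h | h | h
    · left; apply e.injective; rw [h, map_one]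
    · right; left; apply e.injective; rw [h, hzs]
    · right; right; left; apply e.injective; rw [h, hcs]
    · right; right; right; apply e.injective; rw [h, map_mul, hzs, hcs]
  have hcommutator : ∀ x y : ↥(S : Subgroup G),
      x * y * x⁻¹ * y⁻¹ = 1 ∨ x * y * x⁻¹ * y⁻¹ = cs := by
    intro x y
    rcases F2 (e x) (e y) with h | h
    · left; apply e.injective; simpa using h
    · right; apply e.injective; rw [hcs]; simpa using h
  obtain ⟨as, bs, hab⟩ : ∃ as bs : ↥(S : Subgroup G), cs = as * bs * as⁻¹ * bs⁻¹ := by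
    refine ⟨e.symm (1, DihedralGroup.r 1), e.symm (1, DihedralGroup.sr 0), ?_⟩
    apply e.injective
    rw [hcs]
    simp only [map_mul, map_inv, e.apply_symm_apply]
    exact F3
  have hcs1 : cs ≠ 1 := by
    intro h; rw [h, map_one] at hcs; exact F4.2.2.2.2.2.1 hcs.symm
  have hzs1 : zs ≠ 1 := by
    intro h; rw [h, map_one] at hzs; exact F4.2.2.2.2.2.2.2.2.1 hzs.symm
  have hzc : zs ≠ cs := by
    intro h; rw [h, hcs] at hzs; exact F4.2.2.2.2.2.2.1 hzs.symm
  have hzz : zs * zs = 1 := by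
    apply e.injective; rw [map_mul, hzs, map_one]; exact F4.2.1
  have hcc : cs * cs = 1 := by
    apply e.injective; rw [map_mul, hcs, map_one]; exact F4.2.2.2.1
  -- conjugation by the normalizer fixes `cs`
  have hNc : ∀ g ∈ Subgroup.normalizer ((S : Subgroup G) : Set G),
      g * (cs : G) * g⁻¹ = (cs : G) := by
    intro g hg
    have ha' : g * (as : G) * g⁻¹ ∈ (S : Subgroup G) :=
      (Subgroup.mem_normalizer_iff.mp hg _).mp as.2
    have hb' : g * (bs : G) * g⁻¹ ∈ (S : Subgroup G) :=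
      (Subgroup.mem_normalizer_iff.mp hg _).mp bs.2
    have h1 : g * (cs : G) * g⁻¹ =
        ((⟨_, ha'⟩ * ⟨_, hb'⟩ * (⟨_, ha'⟩ : ↥(S : Subgroup G))⁻¹ *
          (⟨_, hb'⟩ : ↥(S : Subgroup G))⁻¹ : ↥(S : Subgroup G)) : G) := by
      rw [hab]
      push_cast
      group
    rcases hcommutator ⟨_, ha'⟩ ⟨_, hb'⟩ with h | h
    · exfalso
      rw [h] at h1
      apply hcs1
      apply Subtype.ext
      have : (cs : G) = g⁻¹ * (g * (cs : G) * g⁻¹) * g := by group
      rw [this, h1]
      simp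
    · rw [h1, h]
  -- conjugation by the normalizer maps `zs` to `zs` or `zs * cs`
  have hNz : ∀ g ∈ Subgroup.normalizer ((S : Subgroup G) : Set G),
      g * (zs : G) * g⁻¹ = (zs : G) ∨ g * (zs : G) * g⁻¹ = (zs : G) * (cs : G) := by
    intro g hg
    have hginv : g⁻¹ ∈ Subgroup.normalizer ((S : Subgroup G) : Set G) := Subgroup.inv_mem _ hg
    have hz' : g * (zs : G) * g⁻¹ ∈ (S : Subgroup G) :=
      (Subgroup.mem_normalizer_iff.mp hg _).mp zs.2
    have hcen : ∀ y : ↥(S : Subgroup G), (⟨_, hz'⟩ : ↥(S : Subgroup G)) * y = y * ⟨_, hz'⟩ := by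
      intro y
      have hy' : g⁻¹ * (y : G) * g⁻¹⁻¹ ∈ (S : Subgroup G) :=
        (Subgroup.mem_normalizer_iff.mp hginv _).mp y.2
      have h1 := congrArg Subtype.val (hz_central ⟨_, hy'⟩)
      simp only [Subgroup.coe_mul] at h1
      apply Subtype.ext
      simp only [Subgroup.coe_mul]
      calc g * (zs : G) * g⁻¹ * (y : G) = g * ((zs : G) * (g⁻¹ * (y : G) * g⁻¹⁻¹)) * g⁻¹ := by
            group
        _ = g * ((g⁻¹ * (y : G) * g⁻¹⁻¹) * (zs : G)) * g⁻¹ := by rw [h1]
        _ = (y : G) * (g * (zs : G) * g⁻¹) := by group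
    rcases hcenter ⟨_, hz'⟩ hcen with h | h | h | h
    · exfalso
      apply hzs1
      apply Subtype.ext
      have h1 := congrArg Subtype.val h
      simp only [Subgroup.coe_one] at h1
      have : (zs : G) = g⁻¹ * (g * (zs : G) * g⁻¹) * g := by group
      rw [this, h1]; simp
    · left; exact congrArg Subtype.val h
    · exfalso
      apply hzc
      apply Subtype.ext
      have h1 := congrArg Subtype.val h
      simp only at h1
      have h2 := hNc g⁻¹ hginv
      have : (zs : G) = g⁻¹ * (g * (zs : G) * g⁻¹) * g⁻¹⁻¹ := by group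
      rw [this, h1, h2]
    · right
      have h1 := congrArg Subtype.val h
      simpa using h1
  have hNsq : ∀ g ∈ Subgroup.normalizer ((S : Subgroup G) : Set G),
      Commute (g * g) (zs : G) := by
    intro g hg
    have h1 : g * g * (zs : G) * (g * g)⁻¹ = (zs : G) := by
      rcases hNz g hg with h | h
      · calc g * g * (zs : G) * (g * g)⁻¹ = g * (g * (zs : G) * g⁻¹) * g⁻¹ := by group
          _ = (zs : G) := by rw [h, h]
      · calc g * g * (zs : G) * (g * g)⁻¹ = g * (g * (zs : G) * g⁻¹) * g⁻¹ := by group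
          _ = g * ((zs : G) * (cs : G)) * g⁻¹ := by rw [h]
          _ = (g * (zs : G) * g⁻¹) * (g * (cs : G) * g⁻¹) := by group
          _ = (zs : G) * (cs : G) * (cs : G) := by rw [h, hNc g hg]
          _ = (zs : G) := by
            have := congrArg Subtype.val hcc
            simp only [Subgroup.coe_mul, Subgroup.coe_one] at this
            rw [mul_assoc, this, mul_one]
    show g * g * (zs : G) = (zs : G) * (g * g)
    calc g * g * (zs : G) = (g * g * (zs : G) * (g * g)⁻¹) * (g * g) := by group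
      _ = (zs : G) * (g * g) := by rw [h1]
  have hSz : ∀ s ∈ (S : Subgroup G), Commute s (zs : G) := by
    intro s hs
    have := congrArg Subtype.val (hz_central ⟨s, hs⟩)
    simp only [Subgroup.coe_mul] at this
    exact this.symm
  have hNzc : ∀ g ∈ Subgroup.normalizer ((S : Subgroup G) : Set G), Commute g (zs : G) :=
    fun g hg => commute_of_normalizer S (zs : G) hSz hNsq g hg
  rcases Cfsg.Agent.S2872.result S with h1 | h2 | h3
  · -- a subgroup of index 2 from `O²(G) ≠ G`
    have := Cfsg.Agent.Lib.Helper34.PResidual.pResidual_normal 2 G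
    obtain ⟨n, hn⟩ := Cfsg.Agent.Lib.Helper34.PResidual.exists_index_pResidual_eq Nat.prime_two G
    have hQ : IsPGroup 2 (G ⧸ Cfsg.pResidual 2 G) := IsPGroup.of_card (n := n) hn
    have hnt : Nontrivial (G ⧸ Cfsg.pResidual 2 G) := by
      rw [← Finite.one_lt_card_iff_nontrivial]
      have h2 : (Cfsg.pResidual 2 G).index ≠ 1 := fun h => h1 (Subgroup.index_eq_one.mp h)
      have h3 : (Cfsg.pResidual 2 G).index ≠ 0 := Subgroup.index_ne_zero_of_finite
      have h4 : Nat.card (G ⧸ Cfsg.pResidual 2 G) = (Cfsg.pResidual 2 G).index := rfl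
      omega
    obtain ⟨K, hK⟩ := Cfsg.Agent.Lib.Helper52.AbSylow.exists_index_two_of_two_group _ hQ hnt
    refine ⟨K.comap (QuotientGroup.mk' (Cfsg.pResidual 2 G)), ?_⟩
    rw [Subgroup.index_comap_of_surjective _ (QuotientGroup.mk'_surjective _), hK]
  · exfalso
    have hzmem : (zs : G) ∈ Cfsg.omegaOne 2 ((S : Subgroup G) ⊓
        Subgroup.centralizer ((S : Subgroup G) : Set G)) := by
      apply Subgroup.subset_closure
      refine ⟨Subgroup.mem_inf.mpr ⟨zs.2, ?_⟩, ?_⟩
      · rw [Subgroup.mem_centralizer_iff]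
        intro s hs
        exact (hSz s hs)
      · rw [pow_two]
        have := congrArg Subtype.val hzz
        simpa using this
    obtain ⟨y, hy, hyz⟩ := h2 hzmem
    have hyz' : y = zs := Subtype.ext hyz
    rw [hyz'] at hy
    -- the index-2 subgroup `ker (fst ∘ e)`
    obtain ⟨ψ, hψ⟩ : ∃ ψ : ↥(S : Subgroup G) →* Multiplicative (ZMod 2), ∀ s, ψ s = (e s).1 :=
      ⟨(MonoidHom.fst _ _).comp e.toMonoidHom, fun s => rfl⟩
    have hsurj : Function.Surjective ψ := by
      intro t
      refine ⟨e.symm (t, 1), ?_⟩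
      rw [hψ, e.apply_symm_apply]
    have hidx : ψ.ker.index = 2 := by
      rw [Subgroup.index_ker, MonoidHom.range_eq_top.mpr hsurj, Subgroup.card_top,
        Nat.card_eq_fintype_card]
      rfl
    have hle := Cfsg.Agent.Lib.Helper4.TateCor.frattini_le_of_index_prime Nat.prime_two ψ.ker hidx
    have hker := hle hy
    rw [MonoidHom.mem_ker, hψ, hzs] at hker
    exact F4.2.2.1 hker
  · exfalso
    obtain ⟨g, hg, z, hz, hne⟩ := h3
    apply hne
    have hle : Cfsg.omegaOne 2 ((S : Subgroup G) ⊓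
        Subgroup.centralizer ((S : Subgroup G) : Set G)) ≤ Subgroup.centralizer {g} := by
      unfold Cfsg.omegaOne
      rw [Subgroup.closure_le]
      rintro x ⟨⟨hxS, hxC⟩, hx2⟩
      rw [SetLike.mem_coe, Subgroup.mem_centralizer_iff]
      intro h hh
      rw [Set.mem_singleton_iff] at hh
      rw [hh]
      have hxcen : ∀ y : ↥(S : Subgroup G), (⟨x, hxS⟩ : ↥(S : Subgroup G)) * y = y * ⟨x, hxS⟩ := by
        intro y
        apply Subtype.ext
        exact (Subgroup.mem_centralizer_iff.mp hxC y y.2).symm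
      rcases hcenter ⟨x, hxS⟩ hxcen with h | h | h | h
      · have h' := congrArg Subtype.val h
        simp only [Subgroup.coe_one] at h'
        rw [h']; simp
      · have h' := congrArg Subtype.val h
        simp only at h'
        rw [h']; exact hNzc g hg
      · have h' := congrArg Subtype.val h
        simp only at h'
        rw [h']
        have := hNc g hg
        calc g * (cs : G) = (g * (cs : G) * g⁻¹) * g := by group
          _ = (cs : G) * g := by rw [this]
      · have h' := congrArg Subtype.val h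
        simp only [Subgroup.coe_mul] at h'
        rw [h']
        have h5 := hNc g hg
        have h6 : g * (cs : G) = (cs : G) * g := by
          calc g * (cs : G) = (g * (cs : G) * g⁻¹) * g := by group
            _ = (cs : G) * g := by rw [h5]
        have h7 : g * (zs : G) = (zs : G) * g := hNzc g hg
        calc g * ((zs : G) * (cs : G)) = (g * (zs : G)) * (cs : G) := by group
          _ = (zs : G) * (g * (cs : G)) := by rw [h7]; group
          _ = (zs : G) * (cs : G) * g := by rw [h6]; group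
    have hzc' := hle hz
    rw [Subgroup.mem_centralizer_iff] at hzc'
    have h8 := hzc' g (Set.mem_singleton g)
    calc g * z * g⁻¹ = (z * g) * g⁻¹ := by rw [h8]
      _ = z := by group

end Cfsg.Agent.S2911
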