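import Cfsg.Statements.S2968
import Cfsg.Agent.Lib.Helper49.Isolated

set_option autoImplicit false
open Cfsg

namespace Cfsg.Agent.S2968

open Cfsg.Agent.Lib.Helper49.Isolated

/-- Let G be a finite group, p a prime, P a Sylow p-subgroup of G and x ∈ P an element of p-power order which is isolated in G (the only conjugate of x commuting with x is x itself). Then x lies in the centre of P, and the subgroup generated by x is both strongly closed and weakly closed in P with respect to G. -/
theorem result {G : Type*} [Group G] [Finite G] {p : ℕ} [Fact p.Prime] (P : Sylow p G) (x : G) (hxP : x ∈ (P : Subgroup G)) (hx : ∃ k : ℕ, orderOf x = p ^ k) (hiso : Cfsg.IsIsolated x) : x ∈ (P : Subgroup G) ⊓ Subgroup.centralizer ((P : Subgroup G) : Set G) ∧ Cfsg.IsStronglyClosed (Subgroup.zpowers x) (P : Subgroup G) ∧ Cfsg.IsWeaklyClosed (Subgroup.zpowers x) (P : Subgroup G) := by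
  have hcen : ∀ r ∈ (P : Subgroup G), Commute x r :=
    commute_of_mem_pGroup hiso (P : Subgroup G) P.isPGroup' hxP
  have hzle : Subgroup.zpowers x ≤ (P : Subgroup G) := (Subgroup.zpowers_le).mpr hxP
  refine ⟨Subgroup.mem_inf.mpr ⟨hxP, ?_⟩, ⟨hzle, ?_⟩, ⟨hzle, ?_⟩⟩
  · rw [Subgroup.mem_centralizer_iff]
    intro r hr
    exact ((hcen r hr).eq).symm
  · intro y hy g hgy
    obtain ⟨k, rfl⟩ := Subgroup.mem_zpowers_iff.mp hy
    -- y' = g x^k g⁻¹ ∈ P; work in the centralizer of y'
    set y' : G := g * x ^ k * g⁻¹ with hy'def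
    have hy'pow : y' = (g * x * g⁻¹) ^ k := by
      rw [hy'def, conj_zpow]
    have hxH : x ∈ Subgroup.centralizer ({y'} : Set G) := by
      rw [Subgroup.mem_centralizer_iff]
      intro z hz
      rw [Set.mem_singleton_iff.mp hz]
      exact ((hcen y' hgy).eq).symm
    have hx'H : g * x * g⁻¹ ∈ Subgroup.centralizer ({y'} : Set G) := by
      rw [Subgroup.mem_centralizer_iff]
      intro z hz
      rw [Set.mem_singleton_iff.mp hz, hy'pow]
      exact ((Commute.refl (g * x * g⁻¹)).zpow_left k).eq
    obtain ⟨c, hc, hce⟩ := conj_in_subgroup hiso hx _ hxH g hx'H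
    have h1 : y' = c * x ^ k * c⁻¹ := by
      rw [hy'pow, hce, conj_zpow]
    have h2 : y' * c = c * y' := (Subgroup.mem_centralizer_iff.mp hc) y' (Set.mem_singleton y')
    have h3 : y' = x ^ k := by
      have : c * y' * c⁻¹ = c * x ^ k * c⁻¹ := by
        rw [← h2]
        rw [mul_inv_cancel_right]
        exact h1
      have h4 := mul_left_cancel (mul_right_cancel this)
      exact h4
    rw [h3]
    exact Subgroup.zpow_mem_zpowers x k
  · intro g hg
    have h1 : g * x * g⁻¹ ∈ (P : Subgroup G) := hg ⟨x, Subgroup.mem_zpowers x, rfl⟩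
    have h2 : g * x * g⁻¹ = x := hiso g (hcen _ h1)
    have h3 : (Subgroup.zpowers x).map (MulAut.conj g).toMonoidHom
        = Subgroup.zpowers ((MulAut.conj g).toMonoidHom x) := by
      rw [MonoidHom.map_zpowers]
    rw [h3]
    have h4 : (MulAut.conj g).toMonoidHom x = g * x * g⁻¹ := rfl
    rw [h4, h2]

end Cfsg.Agent.S2968
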