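import Cfsg.Statements.S2970
import Cfsg.Agent.Lib.Helper49.IsolatedCyclic

set_option autoImplicit false
open Cfsg

namespace Cfsg.Agent.S2970

open Cfsg.Agent.Lib.Helper49.Isolated Cfsg.Agent.Lib.Helper49.IsolatedCyclic

/-- Let G be a finite group, p a prime and x ∈ G an element of p-power order which is isolated in G. Then the image of x in any quotient G ⧸ N is isolated in G ⧸ N; and if x ≠ 1 and the Sylow p-subgroups of G are cyclic, then G has a normal p-complement. -/
theorem result {G : Type*} [Group G] [Finite G] {p : ℕ} [Fact p.Prime] (x : G) (hx : ∃ k : ℕ, orderOf x = p ^ k) (hiso : Cfsg.IsIsolated x) : (∀ (N : Subgroup G) [N.Normal], Cfsg.IsIsolated (QuotientGroup.mk x : G ⧸ N)) ∧ (x ≠ 1 → (∀ P : Sylow p G, IsCyclic ↥(P : Subgroup G)) → Cfsg.HasNormalPComplement p G) := by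
  constructor
  · intro N hN gbar hcomm
    obtain ⟨g, rfl⟩ := QuotientGroup.mk_surjective gbar
    set H : Subgroup G :=
      (Subgroup.centralizer {(QuotientGroup.mk x : G ⧸ N)}).comap (QuotientGroup.mk' N) with hH
    have hxH : x ∈ H := by
      show (QuotientGroup.mk' N) x ∈ Subgroup.centralizer {(QuotientGroup.mk x : G ⧸ N)}
      rw [Subgroup.mem_centralizer_iff]
      intro z hz
      rw [Set.mem_singleton_iff.mp hz]
      rfl
    have hx'H : g * x * g⁻¹ ∈ H := by
      show (QuotientGroup.mk' N) (g * x * g⁻¹) ∈ Subgroup.centralizer {(QuotientGroup.mk x : G ⧸ N)}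
      rw [Subgroup.mem_centralizer_iff]
      intro z hz
      rw [Set.mem_singleton_iff.mp hz]
      exact hcomm.eq
    obtain ⟨c, hc, hce⟩ := conj_in_subgroup hiso hx H hxH g hx'H
    have hc' : (QuotientGroup.mk' N) c ∈ Subgroup.centralizer {(QuotientGroup.mk x : G ⧸ N)} := hc
    have h1 := (Subgroup.mem_centralizer_iff.mp hc') _ (Set.mem_singleton _)
    have h2 : (QuotientGroup.mk (g * x * g⁻¹) : G ⧸ N) = QuotientGroup.mk (c * x * c⁻¹) := by rw [hce]
    have h3 : (QuotientGroup.mk g : G ⧸ N) * QuotientGroup.mk x * (QuotientGroup.mk g)⁻¹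
        = QuotientGroup.mk c * QuotientGroup.mk x * (QuotientGroup.mk c)⁻¹ := by
      simpa using h2
    rw [h3]
    have h4 : (QuotientGroup.mk x : G ⧸ N) * QuotientGroup.mk c = QuotientGroup.mk c * QuotientGroup.mk x := h1
    rw [← h4, mul_inv_cancel_right]
  · intro hx1 hcyc
    exact hasNormalPComplement_of_cyclic x hx hiso hx1 hcyc

end Cfsg.Agent.S2970
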