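import Cfsg.Statements.S2971
import Cfsg.Agent.Lib.Helper49.IsolatedCyclic
import Cfsg.Agent.Lib.Helper49.RankOne

set_option autoImplicit false
open Cfsg

namespace Cfsg.Agent.S2971

open Cfsg.Agent.Lib.Helper49.Isolated Cfsg.Agent.Lib.Helper49.IsolatedCyclic
open Cfsg.Agent.Lib.Helper49.RankOne

/-- The subgroup generated by two commuting elements of exponent `p` has exponent `p` and is commutative. -/
theorem closure_pair_props {G : Type*} [Group G] {g x : G} {p : ℕ} (hgx : g * x = x * g)
    (hg : g ^ p = 1) (hx : x ^ p = 1) :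
    IsMulCommutative ↥(Subgroup.closure ({g, x} : Set G)) ∧
      ∀ a ∈ Subgroup.closure ({g, x} : Set G), a ^ p = 1 := by
  have hcomm : IsMulCommutative ↥(Subgroup.closure ({g, x} : Set G)) := by
    apply Subgroup.isMulCommutative_closure
    intro a ha b hb
    rcases ha with rfl | ha
    · rcases hb with rfl | hb
      · rfl
      · rw [Set.mem_singleton_iff.mp hb]; exact hgx
    · rw [Set.mem_singleton_iff.mp ha]
      rcases hb with rfl | hb
      · exact hgx.symm
      · rw [Set.mem_singleton_iff.mp hb]
  refine ⟨hcomm, ?_⟩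
  intro a ha
  induction ha using Subgroup.closure_induction with
  | mem a ha =>
    rcases ha with rfl | ha
    · exact hg
    · rw [Set.mem_singleton_iff.mp ha]; exact hx
  | one => exact one_pow p
  | mul a b ha hb iha ihb =>
    have hab : Commute a b :=
      congrArg Subtype.val (mul_comm' (⟨a, ha⟩ : ↥(Subgroup.closure ({g, x} : Set G))) ⟨b, hb⟩)
    rw [hab.mul_pow, iha, ihb, one_mul]
  | inv a ha iha => rw [inv_pow, iha, inv_one]

/-- Let G be a finite group and p an odd prime such that G has p-rank at most 1 (no elementary abelian subgroup of order p²). If x ∈ G is an isolated element of order p, then x is central modulo the largest normal subgroup of G of order prime to p. -/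
theorem result {G : Type*} [Group G] [Finite G] {p : ℕ} [Fact p.Prime] (hp : p ≠ 2) (hrk : Cfsg.PRankLE p 1 G) (x : G) (hx : orderOf x = p) (hiso : Cfsg.IsIsolated x) : Cfsg.InZStar p x := by
  have hpp : p.Prime := Fact.out
  have hx1 : x ≠ 1 := by
    intro h
    rw [h, orderOf_one] at hx
    exact hpp.ne_one hx.symm
  have hxp : x ^ p = 1 := by rw [← hx]; exact pow_orderOf_eq_one x
  have hZcard : Nat.card ↥(Subgroup.zpowers x) = p := by rw [Nat.card_zpowers, hx]
  have hp1 : IsPGroup p (Subgroup.zpowers x) := by
    apply IsPGroup.of_card (n := 1)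
    rw [hZcard, pow_one]
  obtain ⟨P, hP⟩ := hp1.exists_le_sylow
  have hxP : x ∈ (P : Subgroup G) := hP (Subgroup.mem_zpowers x)
  have hxcen : ∀ r ∈ (P : Subgroup G), Commute x r :=
    commute_of_mem_pGroup hiso (P : Subgroup G) P.isPGroup' hxP
  -- elements of order dividing p in P lie in ⟨x⟩
  have hmem : ∀ g ∈ (P : Subgroup G), g ^ p = 1 → g ∈ Subgroup.zpowers x := by
    intro g hgP hgp
    obtain ⟨hcomm, hexp⟩ := closure_pair_props ((hxcen g hgP).eq.symm) hgp hxp
    have hcard := hrk (Subgroup.closure ({g, x} : Set G)) hcomm hexp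
    rw [pow_one] at hcard
    have hle : Subgroup.zpowers x ≤ Subgroup.closure ({g, x} : Set G) :=
      (Subgroup.zpowers_le).mpr (Subgroup.subset_closure (by simp))
    have heq := Subgroup.eq_of_le_of_card_ge hle (by rw [hZcard]; exact hcard)
    rw [heq]
    exact Subgroup.subset_closure (by simp)
  have hU : Nat.card {g : ↥(P : Subgroup G) // g ^ p = 1} ≤ p := by
    refine le_of_le_of_eq ?_ hZcard
    refine Nat.card_le_card_of_injective
      (fun g : {g : ↥(P : Subgroup G) // g ^ p = 1} =>
        (⟨(g.1 : G), hmem _ g.1.2 (by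
          have := congrArg Subtype.val g.2
          simpa using this)⟩ : ↥(Subgroup.zpowers x))) ?_
    intro a b hab
    have h1 := congrArg Subtype.val hab
    exact Subtype.ext (Subtype.ext h1)
  obtain ⟨k, hk⟩ := P.isPGroup'.exists_card_eq
  have hcyc : IsCyclic ↥(P : Subgroup G) := isCyclic_of_card_pow_eq_one_le hp k _ hk hU
  have hNC := normalizer_le_centralizer_of_cyclic P hcyc x hxP hx1 hiso
  have hKle : (MonoidHom.transferSylow P hNC).ker ≤ pPrimeCore p G := by
    apply le_sSup
    refine ⟨inferInstance, ?_⟩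
    have := MonoidHom.not_dvd_card_ker_transferSylow P hNC
    exact ((Nat.Prime.coprime_iff_not_dvd hpp).mpr this).symm
  intro g
  apply hKle
  rw [MonoidHom.mem_ker]
  have hI : IsMulCommutative ↥(P : Subgroup G) := IsCyclic.isMulCommutative
  simp only [map_mul, map_inv]
  rw [mul_comm' ((MonoidHom.transferSylow P hNC) g) ((MonoidHom.transferSylow P hNC) x)]
  group

end Cfsg.Agent.S2971
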