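import Cfsg.Statements.S2975
import Mathlib
import Cfsg.Agent.Lib.Helper50.ZStarMin

set_option autoImplicit false
open Cfsg

namespace Cfsg.Agent.S2975

open Cfsg.Agent.Lib.Helper50 Cfsg.Agent.Lib.Helper50.ZStarMin

open scoped Pointwise in
/-- A `p`-subgroup `U` normalizing `Y`, with the number of Sylow `q`-subgroups of `Y` prime to `p`,
normalizes some Sylow `q`-subgroup of `Y`. -/
theorem exists_fixed_sylow {G : Type*} [Group G] [Finite G] (p : ℕ) [Fact p.Prime] (q : ℕ)
    [Fact q.Prime] (U Y : Subgroup G) (hUp : IsPGroup p ↥U)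
    (hUY : U ≤ Subgroup.normalizer (Y : Set G)) (hnd : ¬ p ∣ Nat.card (Sylow q ↥Y)) :
    ∃ S : Sylow q ↥Y, ∀ u ∈ U, ∀ s ∈ (S : Subgroup ↥Y).map Y.subtype,
      u * s * u⁻¹ ∈ (S : Subgroup ↥Y).map Y.subtype := by
  let act : MulDistribMulAction ↥U ↥Y :=
    { smul := fun u r => ⟨u * r * (u : G)⁻¹, (Subgroup.mem_normalizer_iff.mp (hUY u.2) r).mp r.2⟩
      one_smul := fun r => Subtype.ext (by
        show ((1 : ↥U) : G) * r * ((1 : ↥U) : G)⁻¹ = r
        simp)
      mul_smul := fun a b r => Subtype.ext (by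
        show ((a * b : ↥U) : G) * r * ((a * b : ↥U) : G)⁻¹ = a * (b * r * (b : G)⁻¹) * (a : G)⁻¹
        simp [mul_assoc])
      smul_mul := fun a r s => Subtype.ext (by
        show (a : G) * ((r * s : ↥Y) : G) * (a : G)⁻¹ =
          (a * r * (a : G)⁻¹) * (a * s * (a : G)⁻¹)
        simp [mul_assoc])
      smul_one := fun a => Subtype.ext (by
        show (a : G) * ((1 : ↥Y) : G) * (a : G)⁻¹ = ((1 : ↥Y) : G)
        simp) }
  obtain ⟨S, hS⟩ := hUp.nonempty_fixed_point_of_prime_not_dvd_card (Sylow q ↥Y) hnd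
  rw [MulAction.mem_fixedPoints] at hS
  refine ⟨S, ?_⟩
  rintro u hu _ ⟨s, hs, rfl⟩
  have h1 : (⟨u, hu⟩ : ↥U) • s ∈ (⟨u, hu⟩ : ↥U) • (S : Subgroup ↥Y) :=
    Subgroup.smul_mem_pointwise_smul s _ _ hs
  rw [← Sylow.pointwise_smul_def, hS ⟨u, hu⟩] at h1
  exact ⟨(⟨u, hu⟩ : ↥U) • s, h1, rfl⟩

/-- If `x` is central modulo a normal `p'`-subgroup `O` and `x ^ p = 1`, then `x` normalizes a
Sylow `q`-subgroup. -/
theorem exists_invariant_sylow' {H : Type*} [Group H] [Finite H] {p : ℕ} [Fact p.Prime] (q : ℕ)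
    [Fact q.Prime] (x : H) (hxp : x ^ p = 1) (O : Subgroup H) [hOn : O.Normal]
    (hO : (Nat.card O).Coprime p) (hx : ∀ h : H, h * x * h⁻¹ * x⁻¹ ∈ O) :
    ∃ T : Sylow q H, ∀ t ∈ (T : Subgroup H), x * t * x⁻¹ ∈ (T : Subgroup H) := by
  obtain ⟨S⟩ : Nonempty (Sylow q H) := inferInstance
  have hxY : ∀ y ∈ O ⊔ (S : Subgroup H), x * y * x⁻¹ ∈ O ⊔ (S : Subgroup H) := by
    intro y hy
    have h2 : x * y * x⁻¹ = (y * x * y⁻¹ * x⁻¹)⁻¹ * y := by group
    rw [h2]
    exact Subgroup.mul_mem _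
      (Subgroup.inv_mem _ ((le_sup_left : O ≤ O ⊔ (S : Subgroup H)) (hx y))) hy
  have hUp : IsPGroup p ↥(Subgroup.zpowers x) := by
    have h1 : orderOf x ∣ p := orderOf_dvd_of_pow_eq_one hxp
    rcases (Nat.dvd_prime Fact.out).mp h1 with h2 | h2
    · exact IsPGroup.of_card (n := 0) (by rw [Nat.card_zpowers, h2, pow_zero])
    · exact IsPGroup.of_card (n := 1) (by rw [Nat.card_zpowers, h2, pow_one])
  have hUY : Subgroup.zpowers x ≤
      Subgroup.normalizer ((O ⊔ (S : Subgroup H) : Subgroup H) : Set H) := by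
    rw [Subgroup.zpowers_le]
    exact Transfer.mem_normalizer_of_conj_mem _ _ hxY
  have hnd : ¬ p ∣ Nat.card (Sylow q ↥(O ⊔ (S : Subgroup H))) := by
    intro hdvd
    obtain ⟨P⟩ : Nonempty (Sylow q ↥(O ⊔ (S : Subgroup H))) := inferInstance
    have h1 : Nat.card (Sylow q ↥(O ⊔ (S : Subgroup H))) ∣
        (P : Subgroup ↥(O ⊔ (S : Subgroup H))).index := Sylow.card_dvd_index P
    have h2 : (P : Subgroup ↥(O ⊔ (S : Subgroup H))).index ∣ Nat.card O := by
      have h3 : Nat.card ↥(O ⊔ (S : Subgroup H)) ∣ Nat.card (S : Subgroup H) * Nat.card O := by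
        rw [sup_comm]; exact Cores.card_sup_dvd_of_normal (S : Subgroup H) O
      have h4 : (P : Subgroup ↥(O ⊔ (S : Subgroup H))).index ∣
          Nat.card (S : Subgroup H) * Nat.card O := (Subgroup.index_dvd_card _).trans h3
      have h5 : Nat.Coprime (P : Subgroup ↥(O ⊔ (S : Subgroup H))).index
          (Nat.card (S : Subgroup H)) := by
        obtain ⟨n, hn⟩ := IsPGroup.iff_card.mp S.isPGroup'
        rw [hn]
        apply Nat.Coprime.pow_right
        exact (Nat.Coprime.symm ((Nat.Prime.coprime_iff_not_dvd Fact.out).mpr P.not_dvd_index))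
      exact h5.dvd_of_dvd_mul_left h4
    have h6 : p ∣ Nat.card O := hdvd.trans (h1.trans h2)
    exact (Nat.Prime.coprime_iff_not_dvd Fact.out).mp hO.symm h6
  obtain ⟨T, hT⟩ := exists_fixed_sylow p q (Subgroup.zpowers x) (O ⊔ (S : Subgroup H)) hUp hUY hnd
  have hcard : Nat.card ((T : Subgroup ↥(O ⊔ (S : Subgroup H))).map
      (O ⊔ (S : Subgroup H)).subtype) = q ^ (Nat.card H).factorization q := by
    rw [Subgroup.card_map_of_injective (Subgroup.subtype_injective _), Sylow.card_eq_multiplicity]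
    congr 1
    apply le_antisymm
    · exact (Nat.factorization_le_iff_dvd (Nat.card_pos.ne') (Nat.card_pos.ne')).mpr
        (Subgroup.card_subgroup_dvd_card _) q
    · have h1 : Nat.card (S : Subgroup H) ∣ Nat.card ↥(O ⊔ (S : Subgroup H)) :=
        Subgroup.card_dvd_of_le le_sup_right
      rw [Sylow.card_eq_multiplicity] at h1
      exact (Nat.Prime.pow_dvd_iff_le_factorization Fact.out Nat.card_pos.ne').mp h1
  refine ⟨Sylow.ofCard _ hcard, ?_⟩
  intro t ht
  rw [Sylow.coe_ofCard] at ht ⊢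
  exact hT x (Subgroup.mem_zpowers x) t ht

open scoped Pointwise in
theorem part_two {G : Type*} [Group G] [Finite G] {p : ℕ} [Fact p.Prime] {x : G}
    (h : MinCE p x) (q : ℕ) [Fact q.Prime] (S₁ S₂ : Sylow q G)
    (h1 : x ∈ Subgroup.normalizer ((S₁ : Subgroup G) : Set G))
    (h2 : x ∈ Subgroup.normalizer ((S₂ : Subgroup G) : Set G)) :
    ∃ c ∈ Subgroup.centralizer ({x} : Set G),
      (S₁ : Subgroup G).map (MulAut.conj c).toMonoidHom = (S₂ : Subgroup G) := by
  obtain ⟨g, hg⟩ := MulAction.exists_smul_eq G S₁ S₂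
  have hgS : ∀ s ∈ (S₁ : Subgroup G), g * s * g⁻¹ ∈ (S₂ : Subgroup G) := by
    intro s hs
    have h3 : MulAut.conj g • s ∈ MulAut.conj g • (S₁ : Subgroup G) :=
      Subgroup.smul_mem_pointwise_smul _ _ _ hs
    rw [← Sylow.pointwise_smul_def, ← Sylow.smul_def, hg] at h3
    simpa [MulAut.smul_def] using h3
  have hgS' : ∀ s ∈ (S₂ : Subgroup G), g⁻¹ * s * g ∈ (S₁ : Subgroup G) := by
    intro s hs
    have h3 : MulAut.conj g⁻¹ • s ∈ MulAut.conj g⁻¹ • (S₂ : Subgroup G) :=
      Subgroup.smul_mem_pointwise_smul _ _ _ hs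
    rw [← Sylow.pointwise_smul_def, ← Sylow.smul_def, ← hg, inv_smul_smul] at h3
    simpa [MulAut.smul_def] using h3
  have hx' : g * x * g⁻¹ ∈ Subgroup.normalizer ((S₂ : Subgroup G) : Set G) := by
    apply Transfer.mem_normalizer_of_conj_mem
    intro s hs
    have h3 := hgS _ (Transfer.conj_mem_of_mem_normalizer _ x h1 _ (hgS' s hs))
    have h4 : g * x * g⁻¹ * s * (g * x * g⁻¹)⁻¹ = g * (x * (g⁻¹ * s * g) * x⁻¹) * g⁻¹ := by group
    rw [h4]; exact h3
  have hp1 : IsPGroup p (Subgroup.zpowers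
      (⟨x, h2⟩ : ↥(Subgroup.normalizer ((S₂ : Subgroup G) : Set G)))) :=
    IsPGroup.of_card (n := 1) (by rw [Nat.card_zpowers, Subgroup.orderOf_mk, h.hx, pow_one])
  have hp2 : IsPGroup p (Subgroup.zpowers
      (⟨g * x * g⁻¹, hx'⟩ : ↥(Subgroup.normalizer ((S₂ : Subgroup G) : Set G)))) :=
    IsPGroup.of_card (n := 1) (by
      have ho : orderOf (g * x * g⁻¹) = orderOf x :=
        orderOf_injective (MulAut.conj g).toMonoidHom (MulAut.conj g).injective x
      rw [Nat.card_zpowers, Subgroup.orderOf_mk, ho, h.hx, pow_one])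
  obtain ⟨P₀, hP₀⟩ := hp1.exists_le_sylow
  obtain ⟨P₁, hP₁⟩ := hp2.exists_le_sylow
  obtain ⟨n, hn⟩ := MulAction.exists_smul_eq
    (↥(Subgroup.normalizer ((S₂ : Subgroup G) : Set G))) P₁ P₀
  have hmem : n * ⟨g * x * g⁻¹, hx'⟩ * n⁻¹ ∈
      (P₀ : Subgroup ↥(Subgroup.normalizer ((S₂ : Subgroup G) : Set G))) := by
    have hm := hP₁ (Subgroup.mem_zpowers _)
    have h3 : MulAut.conj n • (⟨g * x * g⁻¹, hx'⟩ :
        ↥(Subgroup.normalizer ((S₂ : Subgroup G) : Set G))) ∈ MulAut.conj n •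
        (P₁ : Subgroup ↥(Subgroup.normalizer ((S₂ : Subgroup G) : Set G))) :=
      Subgroup.smul_mem_pointwise_smul _ _ _ hm
    rw [← Sylow.pointwise_smul_def, ← Sylow.smul_def, hn] at h3
    simpa [MulAut.smul_def] using h3
  obtain ⟨P, hP⟩ := (P₀.isPGroup'.map
    (Subgroup.normalizer ((S₂ : Subgroup G) : Set G)).subtype).exists_le_sylow
  have hxP : x ∈ (P : Subgroup G) := hP ⟨⟨x, h2⟩, hP₀ (Subgroup.mem_zpowers _), rfl⟩
  have hyP : (n : G) * (g * x * g⁻¹) * (n : G)⁻¹ ∈ (P : Subgroup G) := hP ⟨_, hmem, rfl⟩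
  have hcomm := comm_of_conj_mul_inv_eq_one (h.sylow_centralizes P hxP _ hyP)
  have hiso := h.hiso ((n : G) * g) (by
    have : (n : G) * g * x * ((n : G) * g)⁻¹ = (n : G) * (g * x * g⁻¹) * (n : G)⁻¹ := by group
    rw [this]; exact hcomm.symm)
  refine ⟨(n : G) * g, ?_, ?_⟩
  · rw [Subgroup.mem_centralizer_iff]
    intro y hy
    rw [Set.mem_singleton_iff] at hy; subst hy
    exact (mul_inv_eq_iff_eq_mul.mp hiso).symm
  · apply Subgroup.eq_of_le_of_card_ge
    · rintro _ ⟨s, hs, rfl⟩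
      have h5 := Transfer.conj_mem_of_mem_normalizer _ (n : G) n.2 _ (hgS s hs)
      simp only [MulEquiv.coe_toMonoidHom, MulAut.conj_apply]
      have h6 : (n : G) * g * s * ((n : G) * g)⁻¹ = (n : G) * (g * s * g⁻¹) * (n : G)⁻¹ := by group
      rw [h6]; exact h5
    · rw [Subgroup.card_map_of_injective (MulAut.conj _).injective, Sylow.card_eq_multiplicity,
        Sylow.card_eq_multiplicity]

theorem part_one {G : Type*} [Group G] [Finite G] {p : ℕ} [Fact p.Prime] {x : G}
    (h : MinCE p x) (q : ℕ) [Fact q.Prime] (Q : Subgroup G) (hQ : IsPGroup q ↥Q)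
    (hxQ : x ∈ Subgroup.normalizer (Q : Set G))
    (hmax : ∀ R : Subgroup G, IsPGroup q ↥R → x ∈ Subgroup.normalizer (R : Set G) → Q ≤ R → R = Q) :
    Q = ⊥ ∨ ∃ S : Sylow q G, (S : Subgroup G) = Q := by
  by_cases hqp : q = p
  · subst hqp
    right
    have hxQ' : x ∈ Q := by
      have hxp : IsPGroup q ↥(Subgroup.zpowers x) :=
        IsPGroup.of_card (n := 1) (by rw [Nat.card_zpowers, h.hx, pow_one])
      have hR : IsPGroup q ↥(Q ⊔ Subgroup.zpowers x) :=
        IsPGroup.to_sup_of_normal_left' hQ hxp (by rw [Subgroup.zpowers_le]; exact hxQ)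
      have hRn : x ∈ Subgroup.normalizer ((Q ⊔ Subgroup.zpowers x : Subgroup G) : Set G) :=
        Subgroup.le_normalizer
          ((le_sup_right : Subgroup.zpowers x ≤ Q ⊔ Subgroup.zpowers x) (Subgroup.mem_zpowers x))
      have h3 := hmax _ hR hRn le_sup_left
      have h4 : x ∈ Q ⊔ Subgroup.zpowers x :=
        (le_sup_right : Subgroup.zpowers x ≤ Q ⊔ Subgroup.zpowers x) (Subgroup.mem_zpowers x)
      rwa [h3] at h4
    obtain ⟨S, hS⟩ := hQ.exists_le_sylow
    exact ⟨S, hmax S S.isPGroup' (Subgroup.le_normalizer (hS hxQ')) hS⟩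
  · by_cases hQb : Q = ⊥
    · exact Or.inl hQb
    right
    have hO := h.core_eq_bot
    have hH : Subgroup.normalizer (Q : Set G) ≠ ⊤ := by
      intro hH
      have hQn : Q.Normal := Subgroup.normalizer_eq_top_iff.mp hH
      have hle := Cores.le_pPrimeCore p Q hQn (by
        obtain ⟨n, hn⟩ := IsPGroup.iff_card.mp hQ
        rw [hn]
        exact Nat.Coprime.pow_left n ((Nat.coprime_primes Fact.out Fact.out).mpr hqp))
      rw [hO, le_bot_iff] at hle
      exact hQb hle
    have hxp : (⟨x, hxQ⟩ : ↥(Subgroup.normalizer (Q : Set G))) ^ p = 1 := by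
      apply Subtype.ext
      simp [← h.hx, pow_orderOf_eq_one]
    obtain ⟨T, hT⟩ := exists_invariant_sylow' q
      (⟨x, hxQ⟩ : ↥(Subgroup.normalizer (Q : Set G))) hxp
      (Cfsg.pPrimeCore p ↥(Subgroup.normalizer (Q : Set G))) (Cores.pPrimeCore_coprime p)
      (h.hmin _ hxQ hH)
    have hQT : Q.subgroupOf (Subgroup.normalizer (Q : Set G)) ≤
        (T : Subgroup ↥(Subgroup.normalizer (Q : Set G))) := by
      have hpg : IsPGroup q ↥((T : Subgroup ↥(Subgroup.normalizer (Q : Set G))) ⊔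
          Q.subgroupOf (Subgroup.normalizer (Q : Set G))) :=
        IsPGroup.to_sup_of_normal_right T.isPGroup' hQ.comap_subtype
      have h3 := T.3 hpg le_sup_left
      exact le_sup_right.trans h3.le
    have hTG : (T : Subgroup ↥(Subgroup.normalizer (Q : Set G))).map
        (Subgroup.normalizer (Q : Set G)).subtype = Q := by
      apply hmax
      · exact T.isPGroup'.map _
      · apply Transfer.mem_normalizer_of_conj_mem
        rintro _ ⟨t, ht, rfl⟩
        exact ⟨_, hT t ht, rfl⟩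
      · intro y hy
        exact ⟨⟨y, Subgroup.le_normalizer hy⟩, hQT (Subgroup.mem_subgroupOf.mpr hy), rfl⟩
    obtain ⟨S, hS⟩ := hQ.exists_le_sylow
    refine ⟨S, ?_⟩
    by_contra hSQ
    have hK : Q.subgroupOf (S : Subgroup G) < ⊤ := by
      rw [lt_top_iff_ne_top, Ne, Subgroup.subgroupOf_eq_top]
      intro hle; exact hSQ (le_antisymm hle hS)
    haveI : Group.IsNilpotent ↥(S : Subgroup G) := S.isPGroup'.isNilpotent
    have hnc := normalizerCondition_of_isNilpotent (G := ↥(S : Subgroup G)) _ hK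
    obtain ⟨s, hsN, hsK⟩ := SetLike.exists_of_lt hnc
    have hsH : (s : G) ∈ Subgroup.normalizer (Q : Set G) := by
      apply Transfer.mem_normalizer_of_conj_mem
      intro y hy
      have hy' : (⟨y, hS hy⟩ : ↥(S : Subgroup G)) ∈ Q.subgroupOf (S : Subgroup G) :=
        Subgroup.mem_subgroupOf.mpr hy
      have h3 := (Subgroup.mem_normalizer_iff.mp hsN ⟨y, hS hy⟩).mp hy'
      exact Subgroup.mem_subgroupOf.mp h3
    have hR : IsPGroup q ↥(((S : Subgroup G) ⊓ Subgroup.normalizer (Q : Set G)).subgroupOf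
        (Subgroup.normalizer (Q : Set G))) :=
      (S.isPGroup'.to_le inf_le_left).comap_subtype
    have hTR : (T : Subgroup ↥(Subgroup.normalizer (Q : Set G))) ≤
        ((S : Subgroup G) ⊓ Subgroup.normalizer (Q : Set G)).subgroupOf
          (Subgroup.normalizer (Q : Set G)) := by
      intro t ht
      rw [Subgroup.mem_subgroupOf]
      have h3 : (t : G) ∈ (T : Subgroup ↥(Subgroup.normalizer (Q : Set G))).map
          (Subgroup.normalizer (Q : Set G)).subtype := ⟨t, ht, rfl⟩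
      rw [hTG] at h3
      exact Subgroup.mem_inf.mpr ⟨hS h3, t.2⟩
    have hRT := T.3 hR hTR
    apply hsK
    rw [Subgroup.mem_subgroupOf]
    have h4 : (⟨s, hsH⟩ : ↥(Subgroup.normalizer (Q : Set G))) ∈
        (T : Subgroup ↥(Subgroup.normalizer (Q : Set G))) := by
      rw [← hRT, Subgroup.mem_subgroupOf]; exact Subgroup.mem_inf.mpr ⟨s.2, hsH⟩
    have h5 : (s : G) ∈ (T : Subgroup ↥(Subgroup.normalizer (Q : Set G))).map
        (Subgroup.normalizer (Q : Set G)).subtype := ⟨_, h4, rfl⟩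
    rwa [hTG] at h5

/-- Let G be a finite group, p a prime and x ∈ G an isolated element of order p (the only conjugate of x commuting with x is x) which is not central modulo the largest normal subgroup of order prime to p, while x is central modulo the largest normal subgroup of order prime to p in every proper subgroup containing x, and the image of x is so in every quotient of G by a nontrivial normal subgroup (a minimal counterexample to the Z*_p statement). Then for every prime q, every q-subgroup of G that is normalized by x and maximal among the q-subgroups normalized by x is either trivial or a Sylow q-subgroup of G; and C_G(x) permutes the x-invariant Sylow q-subgroups of G transitively by conjugation. -/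
theorem result {G : Type*} [Group G] [Finite G] {p : ℕ} [Fact p.Prime] (x : G) (hx : orderOf x = p) (hiso : Cfsg.IsIsolated x) (hnz : ¬ Cfsg.InZStar p x) (hmin : ∀ (H : Subgroup G) (hxH : x ∈ H), H ≠ ⊤ → Cfsg.InZStar p (⟨x, hxH⟩ : ↥H)) (hquot : ∀ (N : Subgroup G) [N.Normal], N ≠ ⊥ → Cfsg.InZStar p (QuotientGroup.mk x : G ⧸ N)) (q : ℕ) [Fact q.Prime] : (∀ Q : Subgroup G, IsPGroup q ↥Q → x ∈ Subgroup.normalizer (Q : Set G) → (∀ R : Subgroup G, IsPGroup q ↥R → x ∈ Subgroup.normalizer (R : Set G) → Q ≤ R → R = Q) → Q = ⊥ ∨ ∃ S : Sylow q G, (S : Subgroup G) = Q) ∧ (∀ S₁ S₂ : Sylow q G, x ∈ Subgroup.normalizer ((S₁ : Subgroup G) : Set G) → x ∈ Subgroup.normalizer ((S₂ : Subgroup G) : Set G) → ∃ c ∈ Subgroup.centralizer ({x} : Set G), (S₁ : Subgroup G).map (MulAut.conj c).toMonoidHom = (S₂ : Subgroup G)) := by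
  have h : Cfsg.Agent.Lib.Helper50.ZStarMin.MinCE p x := ⟨hx, hiso, hnz, hmin, hquot⟩
  exact ⟨fun Q hQ hxQ hmax => part_one h q Q hQ hxQ hmax,
    fun S₁ S₂ h1 h2 => part_two h q S₁ S₂ h1 h2⟩

end Cfsg.Agent.S2975
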