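import Cfsg.Statements.S3078
-- import your own Cfsg.Agent.* helpers here
import Cfsg.Agent.S0649
import Cfsg.Agent.S0650
import Cfsg.Agent.Lib.Helper24.Coprime
import Mathlib

set_option autoImplicit false
set_option linter.unusedSectionVars false
set_option linter.unusedVariables false
open Cfsg

namespace Cfsg.Agent.S3078

open scoped commutatorElement

section facts

variable {S : Type*} [Group S] [Finite S] {p : ℕ} [Fact p.Prime] (hS : IsPGroup p S)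
    (B : Subgroup S) [B.Normal] (hB2 : p = 2 → IsMulCommutative B) (A : Subgroup S)
    (hA : IsMulCommutative A) (hBA : ⁅B, B⁆ ≤ A)
    (b : S) (hb : b ∈ B)
    (hbN : b ∈ Subgroup.normalizer ((Subgroup.normalizer (A : Set S)) : Set S))
    (Z C : Subgroup S) (hZ : ∀ x, x ∈ Z ↔ x ∈ A ∧ b * x * b⁻¹ ∈ A)
    (hC : C = Subgroup.closure {g : S | ∃ a ∈ A, g = a * b⁻¹ * a⁻¹ * b})

include hS hB2 hA hBA hb hbN hZ hC in
theorem tau_mul : ∀ a ∈ A, ∀ a' ∈ A,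
    ((a * a') * b⁻¹ * (a * a')⁻¹ * b)⁻¹ * ((a * b⁻¹ * a⁻¹ * b) * (a' * b⁻¹ * a'⁻¹ * b)) ∈ Z := by
  intro a ha a' ha'
  have hcomC := Cfsg.Agent.S0650.hCcomm hS B hB2 A hA hBA b hb hbN Z C hZ hC
  have hPP := Cfsg.Agent.S0650.hP A hA b hbN Z C hZ hC
  have hc := Cfsg.Agent.S0650.hCgen A b C hC a ha
  have hc' := Cfsg.Agent.S0650.hCgen A b C hC a' ha'
  have hz' : ⁅a, (a' * b⁻¹ * a'⁻¹ * b)⁻¹⁆ ∈ Z := by
    have h1 := (hPP _ (C.inv_mem hc')).2 a ha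
    have h2 : ⁅a, (a' * b⁻¹ * a'⁻¹ * b)⁻¹⁆ = (⁅(a' * b⁻¹ * a'⁻¹ * b)⁻¹, a⁆)⁻¹ := by
      rw [commutatorElement_inv]
    rw [h2]
    exact Z.inv_mem h1
  have hcc : (a' * b⁻¹ * a'⁻¹ * b)⁻¹ * (a * b⁻¹ * a⁻¹ * b) * (a' * b⁻¹ * a'⁻¹ * b) =
      a * b⁻¹ * a⁻¹ * b := by
    rw [mul_assoc, hcomC _ hc _ hc', ← mul_assoc, inv_mul_cancel, one_mul]
  have hzc := (hPP _ (C.inv_mem hc)).1 _ hz'
  have hX : ((a * a') * b⁻¹ * (a * a')⁻¹ * b)⁻¹ *
      ((a * b⁻¹ * a⁻¹ * b) * (a' * b⁻¹ * a'⁻¹ * b)) = ⁅a, (a' * b⁻¹ * a'⁻¹ * b)⁻¹⁆ := by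
    calc ((a * a') * b⁻¹ * (a * a')⁻¹ * b)⁻¹ * ((a * b⁻¹ * a⁻¹ * b) * (a' * b⁻¹ * a'⁻¹ * b))
        = (a * b⁻¹ * a⁻¹ * b)⁻¹ * ⁅a, (a' * b⁻¹ * a'⁻¹ * b)⁻¹⁆ *
          ((a' * b⁻¹ * a'⁻¹ * b)⁻¹ * (a * b⁻¹ * a⁻¹ * b) * (a' * b⁻¹ * a'⁻¹ * b)) := by
          simp only [commutatorElement_def]; group
      _ = (a * b⁻¹ * a⁻¹ * b)⁻¹ * ⁅a, (a' * b⁻¹ * a'⁻¹ * b)⁻¹⁆ * (a * b⁻¹ * a⁻¹ * b) := by
          rw [hcc]
      _ = ⁅a, (a' * b⁻¹ * a'⁻¹ * b)⁻¹⁆ * (a * b⁻¹ * a⁻¹ * b)⁻¹ * (a * b⁻¹ * a⁻¹ * b) := by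
          rw [hzc]
      _ = _ := by group
  rw [hX]
  exact hz'

include hBA hb hZ in
theorem tau_mem_iff : ∀ a ∈ A, (a * b⁻¹ * a⁻¹ * b ∈ Z ↔ a ∈ Z) := by
  intro a ha
  constructor
  · intro h
    rw [hZ] at h ⊢
    refine ⟨ha, ?_⟩
    have h1 : b * a * b⁻¹ = (b * (a * b⁻¹ * a⁻¹ * b) * b⁻¹) * a := by group
    rw [h1]
    exact A.mul_mem h.2 ha
  · intro h
    rw [hZ]
    constructor
    · have h1 : a * b⁻¹ * a⁻¹ * b = a * (b⁻¹ * a⁻¹ * b) := by group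
      rw [h1]
      exact A.mul_mem ha (Cfsg.Agent.S0650.hK1 B A hBA b hb Z hZ _ (Z.inv_mem h))
    · have h1 : b * (a * b⁻¹ * a⁻¹ * b) * b⁻¹ = (b * a * b⁻¹) * a⁻¹ := by group
      rw [h1]
      exact A.mul_mem ((hZ _).mp h).2 (A.inv_mem ha)

include hA hbN hZ in
theorem tau_pow (hp2 : p ≠ 2) : ∀ a ∈ A, a ^ p = 1 → (a * b⁻¹ * a⁻¹ * b) ^ p = 1 := by
  intro a ha hap
  have ht : ⁅(b⁻¹ * a⁻¹ * b)⁻¹, a⁻¹⁆ ∈ Z := by
    have h1 := Cfsg.Agent.S0650.hXA A hA b hbN Z hZ a⁻¹ (A.inv_mem ha) a⁻¹ (A.inv_mem ha)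
    have h2 : (b⁻¹ * a⁻¹ * b)⁻¹ = b⁻¹ * a⁻¹⁻¹ * b := by group
    rw [h2]; exact h1
  have hteq : ⁅(b⁻¹ * a⁻¹ * b)⁻¹, a⁻¹⁆ = (b⁻¹ * a⁻¹ * b)⁻¹ * a⁻¹ * (b⁻¹ * a⁻¹ * b) * a := by
    simp only [commutatorElement_def]; group
  rw [hteq] at ht
  have hta : ((b⁻¹ * a⁻¹ * b)⁻¹ * a⁻¹ * (b⁻¹ * a⁻¹ * b) * a) * a =
      a * ((b⁻¹ * a⁻¹ * b)⁻¹ * a⁻¹ * (b⁻¹ * a⁻¹ * b) * a) :=
    Cfsg.Agent.S0650.hAcomm A hA _ (Cfsg.Agent.S0650.hZA A b Z hZ ht) _ ha
  have htx : ((b⁻¹ * a⁻¹ * b)⁻¹ * a⁻¹ * (b⁻¹ * a⁻¹ * b) * a) * (b⁻¹ * a⁻¹ * b) =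
      (b⁻¹ * a⁻¹ * b) * ((b⁻¹ * a⁻¹ * b)⁻¹ * a⁻¹ * (b⁻¹ * a⁻¹ * b) * a) :=
    (Cfsg.Agent.S0650.hXZ A hA b hbN Z hZ a ha _ ht).symm
  have hxe : (b⁻¹ * a⁻¹ * b) ^ p = 1 := by
    have h3 : (b⁻¹ * a⁻¹ * b) ^ p = b⁻¹ * (a⁻¹) ^ p * b := by
      have h4 := conj_pow (a := b⁻¹) (b := a⁻¹) (i := p)
      simpa using h4
    rw [h3, inv_pow, hap]; group
  have hpow := Cfsg.Agent.Lib.Helper24.Coprime.mul_pow_prime_of_central p hp2
    (x := a) (y := b⁻¹ * a⁻¹ * b) hta htx (by rw [hxe, one_mul, mul_one])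
  have h6 : a * b⁻¹ * a⁻¹ * b = a * (b⁻¹ * a⁻¹ * b) := by group
  rw [h6, hpow, hap, hxe, one_mul]

include hS hB2 hA hBA hb hbN hZ hC in
theorem rank_le (hp2 : p ≠ 2) :
    Nat.card (omegaOne p A) ≤ Nat.card (omegaOne p (Z ⊔ C)) := by
  have hAc := Cfsg.Agent.S0650.hAcomm A hA
  have hcommS := Cfsg.Agent.S0650.hScomm hS B hB2 A hA hBA b hb hbN Z C hZ hC
  have hZA := Cfsg.Agent.S0650.hZA A b Z hZ
  let EA : Subgroup S :=
    { carrier := {x | x ∈ A ∧ x ^ p = 1}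
      mul_mem' := by
        rintro x y ⟨hx, hxp⟩ ⟨hy, hyp⟩
        refine ⟨A.mul_mem hx hy, ?_⟩
        rw [(show Commute x y from hAc x hx y hy).mul_pow, hxp, hyp, one_mul]
      one_mem' := ⟨A.one_mem, one_pow _⟩
      inv_mem' := by
        rintro x ⟨hx, hxp⟩
        exact ⟨A.inv_mem hx, by rw [inv_pow, hxp, inv_one]⟩ }
  have hEA : ∀ x, x ∈ EA ↔ x ∈ A ∧ x ^ p = 1 := fun x => Iff.rfl
  have h1 : omegaOne p A ≤ EA := by
    unfold omegaOne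
    rw [Subgroup.closure_le]
    intro x hx
    exact hx
  have hc1 : Nat.card (omegaOne p A) ≤ Nat.card EA := Subgroup.card_le_of_le h1
  obtain ⟨T, hT, -⟩ := Subgroup.exists_isComplement_left (Z.subgroupOf EA) 1
  have hcard : Nat.card T * Nat.card (Z.subgroupOf EA) = Nat.card EA := hT.card_mul_card
  have hmem : ∀ x : T × (Z.subgroupOf EA),
      (((x.1 : EA) : S) * b⁻¹ * ((x.1 : EA) : S)⁻¹ * b) * ((x.2 : EA) : S) ∈
        omegaOne p (Z ⊔ C) := by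
    intro x
    have hxA : ((x.1 : EA) : S) ∈ A := ((hEA _).mp (x.1 : EA).2).1
    have hxp : ((x.1 : EA) : S) ^ p = 1 := ((hEA _).mp (x.1 : EA).2).2
    have hzZ : ((x.2 : EA) : S) ∈ Z := Subgroup.mem_subgroupOf.mp x.2.2
    have hzp : ((x.2 : EA) : S) ^ p = 1 := ((hEA _).mp (x.2 : EA).2).2
    have hc : ((x.1 : EA) : S) * b⁻¹ * ((x.1 : EA) : S)⁻¹ * b ∈ Z ⊔ C :=
      Subgroup.mem_sup_right (Cfsg.Agent.S0650.hCgen A b C hC _ hxA)
    have hz : ((x.2 : EA) : S) ∈ Z ⊔ C := Subgroup.mem_sup_left hzZ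
    apply Subgroup.subset_closure
    refine ⟨(Z ⊔ C).mul_mem hc hz, ?_⟩
    rw [(show Commute _ _ from hcommS _ hc _ hz).mul_pow,
      tau_pow A hA b hbN Z hZ hp2 _ hxA hxp, hzp, one_mul]
  let φ : T × (Z.subgroupOf EA) → omegaOne p (Z ⊔ C) := fun x => ⟨_, hmem x⟩
  have hφ : Function.Injective φ := by
    rintro ⟨t, h⟩ ⟨t', h'⟩ heq
    have heq' : (((t : EA) : S) * b⁻¹ * ((t : EA) : S)⁻¹ * b) * ((h : EA) : S) =
        (((t' : EA) : S) * b⁻¹ * ((t' : EA) : S)⁻¹ * b) * ((h' : EA) : S) :=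
      congrArg Subtype.val heq
    have htA : ((t : EA) : S) ∈ A := ((hEA _).mp (t : EA).2).1
    have htA' : ((t' : EA) : S) ∈ A := ((hEA _).mp (t' : EA).2).1
    have hhZ : ((h : EA) : S) ∈ Z := Subgroup.mem_subgroupOf.mp h.2
    have hhZ' : ((h' : EA) : S) ∈ Z := Subgroup.mem_subgroupOf.mp h'.2
    -- u = t'⁻¹ t ∈ A
    have huA : ((t' : EA) : S)⁻¹ * ((t : EA) : S) ∈ A := A.mul_mem (A.inv_mem htA') htA
    have hm := tau_mul hS B hB2 A hA hBA b hb hbN Z C hZ hC _ htA' _ huA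
    have e1 : ((t' : EA) : S) * (((t' : EA) : S)⁻¹ * ((t : EA) : S)) = ((t : EA) : S) := by group
    rw [e1] at hm
    have hτu : (((t' : EA) : S)⁻¹ * ((t : EA) : S)) * b⁻¹ *
        (((t' : EA) : S)⁻¹ * ((t : EA) : S))⁻¹ * b ∈ Z := by
      have e2 : (((t' : EA) : S)⁻¹ * ((t : EA) : S)) * b⁻¹ *
          (((t' : EA) : S)⁻¹ * ((t : EA) : S))⁻¹ * b =
          ((((t' : EA) : S) * b⁻¹ * ((t' : EA) : S)⁻¹ * b)⁻¹ *
            (((t : EA) : S) * b⁻¹ * ((t : EA) : S)⁻¹ * b)) *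
          ((((t : EA) : S) * b⁻¹ * ((t : EA) : S)⁻¹ * b)⁻¹ *
            ((((t' : EA) : S) * b⁻¹ * ((t' : EA) : S)⁻¹ * b) *
              ((((t' : EA) : S)⁻¹ * ((t : EA) : S)) * b⁻¹ *
                (((t' : EA) : S)⁻¹ * ((t : EA) : S))⁻¹ * b))) := by group
      have e3 : (((t' : EA) : S) * b⁻¹ * ((t' : EA) : S)⁻¹ * b)⁻¹ *
            (((t : EA) : S) * b⁻¹ * ((t : EA) : S)⁻¹ * b) =
          ((h' : EA) : S) * ((h : EA) : S)⁻¹ := by
        rw [inv_mul_eq_iff_eq_mul, ← mul_assoc, ← heq']; group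
      rw [e2, e3]
      exact Z.mul_mem (Z.mul_mem hhZ' (Z.inv_mem hhZ)) hm
    have huZ : ((t' : EA) : S)⁻¹ * ((t : EA) : S) ∈ Z :=
      (tau_mem_iff B A hBA b hb Z hZ _ huA).mp hτu
    -- uniqueness in the complement
    have hu : (t' : EA)⁻¹ * (t : EA) ∈ Z.subgroupOf EA := Subgroup.mem_subgroupOf.mpr huZ
    have hinj := hT.1
    have hpair : (⟨t', ⟨(t' : EA)⁻¹ * (t : EA), hu⟩⟩ : T × (Z.subgroupOf EA)) =
        ⟨t, 1⟩ := by
      apply hinj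
      show (t' : EA) * ((t' : EA)⁻¹ * (t : EA)) = (t : EA) * 1
      group
    have htt : t' = t := congrArg Prod.fst hpair
    subst htt
    have hh : ((h : EA) : S) = ((h' : EA) : S) := mul_left_cancel heq'
    have hh2 : h = h' := Subtype.ext (Subtype.ext hh)
    rw [hh2]
  have hc2 : Nat.card (T × (Z.subgroupOf EA)) ≤ Nat.card (omegaOne p (Z ⊔ C)) :=
    Nat.card_le_card_of_injective φ hφ
  rw [Nat.card_prod, hcard] at hc2
  exact hc1.trans hc2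

end facts

theorem omegaOne_map_subtype {G : Type*} [Group G] (p : ℕ) (K : Subgroup G) (H : Subgroup K) :
    omegaOne p (H.map K.subtype) = (omegaOne p H).map K.subtype := by
  unfold omegaOne
  rw [MonoidHom.map_closure]
  congr 1
  ext x
  constructor
  · rintro ⟨⟨y, hy, rfl⟩, hp⟩
    refine ⟨y, ⟨hy, ?_⟩, rfl⟩
    apply Subtype.ext
    simpa using hp
  · rintro ⟨y, ⟨hy, hp⟩, rfl⟩
    refine ⟨⟨y, hy, rfl⟩, ?_⟩
    have := congrArg Subtype.val hp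
    simpa using this

/-- A replacement Theorem for abelian subgroups of p-groups, p odd. Let G be a finite p-group with p odd, A an abelian subgroup of G, and B a subgroup of nilpotency class at most 2 with [B, B] ≤ A, such that A normalizes B but B does not normalize A. Then there is an abelian subgroup A* of G of the same order as A with A ∩ B strictly contained in A* ∩ B, A* contained in N_G(A) and in the normal closure of A, the exponent of A* dividing the exponent of A, and with the subgroup generated by the elements of order dividing p in A of order at most that of the corresponding subgroup of A* (the rank of A is at most the rank of A*). -/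
theorem result {G : Type*} [Group G] [Finite G] {p : ℕ} [Fact p.Prime] (hp : p ≠ 2) (hG : IsPGroup p G) (A B : Subgroup G) (hA : IsMulCommutative A) (hB2 : ⁅⁅B, B⁆, B⁆ = ⊥) (hBA : ⁅B, B⁆ ≤ A) (hAB : A ≤ Subgroup.normalizer (B : Set G)) (hBnA : ¬ B ≤ Subgroup.normalizer (A : Set G)) : ∃ Astar : Subgroup G, IsMulCommutative Astar ∧ Nat.card Astar = Nat.card A ∧ A ⊓ B < Astar ⊓ B ∧ Astar ≤ Subgroup.normalizer (A : Set G) ∧ Astar ≤ Subgroup.normalClosure (A : Set G) ∧ Monoid.exponent Astar ∣ Monoid.exponent A ∧ Nat.card (Cfsg.omegaOne p A) ≤ Nat.card (Cfsg.omegaOne p Astar) := by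
  have hAc : ∀ x ∈ A, ∀ y ∈ A, x * y = y * x := Cfsg.Agent.S0650.hAcomm A hA
  set K : Subgroup G := A ⊔ B with hK
  have hAK : A ≤ K := le_sup_left
  have hBK : B ≤ K := le_sup_right
  set A' : Subgroup K := A.subgroupOf K with hA'
  set B' : Subgroup K := B.subgroupOf K with hB'
  have hBn : B'.Normal := Subgroup.normal_subgroupOf_sup_of_le_normalizer hAB
  have hKp : IsPGroup p K := hG.to_subgroup K
  have hA'c : IsMulCommutative A' :=
    ⟨⟨fun x y => Subtype.ext (Subtype.ext (hAc _ (Subgroup.mem_subgroupOf.mp x.2) _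
      (Subgroup.mem_subgroupOf.mp y.2)))⟩⟩
  have hB2' : p = 2 → IsMulCommutative B' := fun h => absurd h hp
  have hBA' : ⁅B', B'⁆ ≤ A' := by
    have h1 : (⁅B', B'⁆).map K.subtype ≤ A := by
      rw [Subgroup.map_commutator]
      refine le_trans (Subgroup.commutator_mono ?_ ?_) hBA
      · rw [hB', Subgroup.subgroupOf_map_subtype]; exact inf_le_left
      · rw [hB', Subgroup.subgroupOf_map_subtype]; exact inf_le_left
    intro x hx
    exact Subgroup.mem_subgroupOf.mpr (h1 ⟨x, hx, rfl⟩)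
  have hmapA : A'.map K.subtype = A := Subgroup.map_subgroupOf_eq_of_le hAK
  have hnot' : ¬ B' ≤ Subgroup.normalizer (A' : Set K) := by
    intro hle
    apply hBnA
    intro x hx
    apply Cfsg.Agent.S0650.mem_normalizer_of_conj_mem
    intro a ha
    have h1 : (⟨x, hBK hx⟩ : K) ∈ Subgroup.normalizer (A' : Set K) :=
      hle (Subgroup.mem_subgroupOf.mpr hx)
    have h2 := (Subgroup.mem_normalizer_iff.mp h1 ⟨a, hAK ha⟩).mp (Subgroup.mem_subgroupOf.mpr ha)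
    exact Subgroup.mem_subgroupOf.mp h2
  obtain ⟨b, hb, hbN, hbA⟩ := Cfsg.Agent.S0649.result hKp B' hB2' A' hA'c hBA' hnot'
  set Z : Subgroup K := A' ⊓ A'.map (MulAut.conj (b⁻¹)).toMonoidHom with hZdef
  set C : Subgroup K := Subgroup.closure {g : K | ∃ a ∈ A', g = a * b⁻¹ * a⁻¹ * b} with hCdef
  obtain ⟨i1, i2, -, i4, -, -, i7, -, -, i10⟩ :=
    Cfsg.Agent.S0650.result hKp B' hB2' A' hA'c hBA' hnot' b hb hbN hbA
  have hZ : ∀ x, x ∈ Z ↔ x ∈ A' ∧ b * x * b⁻¹ ∈ A' := by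
    intro x
    rw [hZdef, Subgroup.mem_inf]
    apply and_congr Iff.rfl
    constructor
    · rintro ⟨a, ha, rfl⟩
      simpa [MulAut.conj_apply, mul_assoc] using ha
    · intro h
      exact ⟨b * x * b⁻¹, h, by simp [MulAut.conj_apply, mul_assoc]⟩
  have hrank := rank_le hKp B' hB2' A' hA'c hBA' b hb hbN Z C hZ hCdef hp
  have hinj : Function.Injective K.subtype := K.subtype_injective
  refine ⟨(Z ⊔ C).map K.subtype, ?_, ?_, ?_, ?_, ?_, ?_, ?_⟩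
  · -- commutative
    refine ⟨⟨fun x y => ?_⟩⟩
    obtain ⟨x', hx', hxx⟩ := x.2
    obtain ⟨y', hy', hyy⟩ := y.2
    have h := setLike_mul_comm (S := Subgroup K) hx' hy'
    apply Subtype.ext
    show (x : G) * (y : G) = (y : G) * (x : G)
    rw [← hxx, ← hyy, ← map_mul, ← map_mul, h]
  · rw [Subgroup.card_map_of_injective hinj, i1]
    exact Nat.card_congr (Subgroup.subgroupOfEquivOfLe hAK).toEquiv
  · rw [lt_iff_le_not_ge]
    constructor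
    · intro x hx
      have hxA : x ∈ A := (Subgroup.mem_inf.mp hx).1
      have hxB : x ∈ B := (Subgroup.mem_inf.mp hx).2
      have h1 : (⟨x, hAK hxA⟩ : K) ∈ A' ⊓ B' :=
        Subgroup.mem_inf.mpr ⟨Subgroup.mem_subgroupOf.mpr hxA, Subgroup.mem_subgroupOf.mpr hxB⟩
      have h2 := i4.le h1
      exact Subgroup.mem_inf.mpr ⟨⟨⟨x, hAK hxA⟩, (Subgroup.mem_inf.mp h2).1, rfl⟩, hxB⟩
    · intro hle
      apply i4.not_ge
      intro y hy
      have hy1 : y ∈ Z ⊔ C := (Subgroup.mem_inf.mp hy).1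
      have hy2 : (y : G) ∈ B := Subgroup.mem_subgroupOf.mp (Subgroup.mem_inf.mp hy).2
      have h3 : (y : G) ∈ A ⊓ B := hle (Subgroup.mem_inf.mpr ⟨⟨y, hy1, rfl⟩, hy2⟩)
      exact Subgroup.mem_inf.mpr ⟨Subgroup.mem_subgroupOf.mpr (Subgroup.mem_inf.mp h3).1,
        Subgroup.mem_subgroupOf.mpr hy2⟩
  · rintro x ⟨y, hy, rfl⟩
    apply Cfsg.Agent.S0650.mem_normalizer_of_conj_mem
    intro a ha
    have h1 := i7 hy
    have h2 := (Subgroup.mem_normalizer_iff.mp h1 ⟨a, hAK ha⟩).mp (Subgroup.mem_subgroupOf.mpr ha)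
    exact Subgroup.mem_subgroupOf.mp h2
  · rw [Subgroup.map_le_iff_le_comap]
    refine sup_le ?_ ?_
    · intro z hz
      rw [Subgroup.mem_comap]
      exact Subgroup.le_normalClosure (Subgroup.mem_subgroupOf.mp ((hZ z).mp hz).1)
    · rw [hCdef, Subgroup.closure_le]
      rintro _ ⟨a, ha, rfl⟩
      rw [SetLike.mem_coe, Subgroup.mem_comap]
      have haA : (a : G) ∈ A := Subgroup.mem_subgroupOf.mp ha
      have hn : (Subgroup.normalClosure (A : Set G)).Normal := Subgroup.normalClosure_normal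
      have h1 : (a : G) ∈ Subgroup.normalClosure (A : Set G) := Subgroup.le_normalClosure haA
      have h2 : (b : G)⁻¹ * (a : G)⁻¹ * (b : G)⁻¹⁻¹ ∈ Subgroup.normalClosure (A : Set G) :=
        hn.conj_mem _ (inv_mem h1) _
      have h3 : K.subtype (a * b⁻¹ * a⁻¹ * b) = (a : G) * ((b : G)⁻¹ * (a : G)⁻¹ * (b : G)⁻¹⁻¹) := by
        simp [mul_assoc]
      rw [h3]
      exact mul_mem h1 h2
  · rw [← Monoid.exponent_eq_of_mulEquiv ((Z ⊔ C).equivMapOfInjective K.subtype hinj),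
      Monoid.exponent_eq_of_mulEquiv (Subgroup.subgroupOfEquivOfLe hAK).symm]
    exact i10 hp
  · rw [omegaOne_map_subtype, Subgroup.card_map_of_injective hinj]
    have h1 : Nat.card (omegaOne p A) = Nat.card (omegaOne p A') := by
      conv_lhs => rw [← hmapA]
      rw [omegaOne_map_subtype, Subgroup.card_map_of_injective hinj]
    rw [h1]
    exact hrank

end Cfsg.Agent.S3078
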