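import Cfsg.Statements.S3103
import Cfsg.Agent.S0630
import Cfsg.Agent.S0256
import Cfsg.Agent.Lib.Helper70.HallHigman
import Cfsg.Agent.Lib.Helper86.ElemAb
import Cfsg.Agent.Lib.Helper43.SLCard

set_option autoImplicit false
open Cfsg

namespace Cfsg.Agent.S3103

open Matrix
open scoped commutatorElement

/-! ### generic pieces -/

/-- the automorphism induced on the quotient by a characteristic subgroup -/
noncomputable def quotAut {P : Type*} [Group P] (N : Subgroup P) [N.Normal]
    (hN : N.Characteristic) : MulAut P →* MulAut (P ⧸ N) where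
  toFun α := QuotientGroup.congr N N α (Subgroup.characteristic_iff_map_eq.mp hN α)
  map_one' := by
    ext x
    induction x using QuotientGroup.induction_on
    rfl
  map_mul' α β := by
    ext x
    induction x using QuotientGroup.induction_on
    rfl

/-- extend an automorphism by the identity on a direct factor -/
def prodAut (E K : Type*) [Group E] [Group K] : MulAut E →* MulAut (E × K) where
  toFun α := MulEquiv.prodCongr α (MulEquiv.refl K)
  map_one' := by ext x <;> rfl
  map_mul' α β := by ext x <;> rfl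

theorem prodAut_injective (E K : Type*) [Group E] [Group K] :
    Function.Injective (prodAut E K) := by
  intro α β h
  ext x
  exact congrArg (fun φ : MulAut (E × K) => (φ (x, 1)).1) h

theorem det_eq_one (g : GL (Fin 4) (ZMod 2)) :
    (g : Matrix (Fin 4) (Fin 4) (ZMod 2)).det = 1 := by
  have h : IsUnit (g : Matrix (Fin 4) (Fin 4) (ZMod 2)).det :=
    (Matrix.isUnit_iff_isUnit_det _).mp g.isUnit
  have key : ∀ x : ZMod 2, x ≠ 0 → x = 1 := by decide
  exact key _ h.ne_zero

/-- over the field with two elements every invertible matrix has determinant one -/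
def toSL : GL (Fin 4) (ZMod 2) →* Matrix.SpecialLinearGroup (Fin 4) (ZMod 2) where
  toFun g := ⟨g.1, det_eq_one g⟩
  map_one' := rfl
  map_mul' _ _ := rfl

theorem toSL_injective : Function.Injective toSL := by
  intro g h hgh
  apply Units.ext
  exact congrArg Subtype.val hgh

theorem K_sq (m : ℕ) (k : Multiplicative (Fin m → ZMod 2)) : k ^ 2 = 1 := by
  apply Multiplicative.toAdd.injective
  rw [toAdd_pow, toAdd_one]
  ext i
  have key : ∀ x : ZMod 2, (2 : ℕ) • x = 0 := by decide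
  exact key _

theorem K_card (m : ℕ) : Nat.card (Multiplicative (Fin m → ZMod 2)) = 2 ^ m := by
  rw [Nat.card_congr Multiplicative.toAdd, Nat.card_fun, Nat.card_zmod, Nat.card_fin]

/-! ### the Frattini quotient -/

theorem frat_key {P : Type*} [Group P] (α : MulAut P) :
    quotAut (frattini P) inferInstance α = 1 ↔ α ∈ Cfsg.Agent.S4189.frattiniKer P := by
  constructor
  · intro h
    show ∀ x : P, α x * x⁻¹ ∈ frattini P
    intro x
    have h1 := congrArg (fun φ : MulAut (P ⧸ frattini P) => φ (QuotientGroup.mk x)) h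
    have h2 : (QuotientGroup.mk x : P ⧸ frattini P) = QuotientGroup.mk (α x) := h1.symm
    rw [QuotientGroup.eq] at h2
    exact (Subgroup.Normal.mem_comm_iff inferInstance).mp h2
  · intro h
    have h' : ∀ x : P, α x * x⁻¹ ∈ frattini P := h
    ext y
    induction y using QuotientGroup.induction_on with
    | _ x =>
      show (QuotientGroup.mk (α x) : P ⧸ frattini P) = QuotientGroup.mk x
      refine Eq.symm ?_
      rw [QuotientGroup.eq]
      exact (Subgroup.Normal.mem_comm_iff inferInstance).mp (h' x)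

theorem quot_comm {Q : Type*} [Group Q] [Finite Q] (hQp : IsPGroup 2 Q)
    (a b : Q ⧸ frattini Q) : a * b = b * a := by
  have : Fact (Nat.Prime 2) := ⟨Nat.prime_two⟩
  induction a using QuotientGroup.induction_on with
  | _ x =>
    induction b using QuotientGroup.induction_on with
    | _ y =>
      rw [← QuotientGroup.mk_mul, ← QuotientGroup.mk_mul, QuotientGroup.eq]
      have h1 : (x * y)⁻¹ * (y * x) = ⁅y⁻¹, x⁻¹⁆ := by
        rw [commutatorElement_def]; group
      rw [h1]
      exact Lib.Helper70.FrattiniQuot.commutator_le_frattini hQp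
        (Subgroup.commutator_mem_commutator (Subgroup.mem_top _) (Subgroup.mem_top _))

theorem quot_sq {Q : Type*} [Group Q] [Finite Q] (hQp : IsPGroup 2 Q)
    (a : Q ⧸ frattini Q) : a ^ 2 = 1 := by
  have : Fact (Nat.Prime 2) := ⟨Nat.prime_two⟩
  induction a using QuotientGroup.induction_on with
  | _ x =>
    rw [← QuotientGroup.mk_pow, QuotientGroup.eq_one_iff]
    exact Lib.Helper70.FrattiniQuot.pow_mem_frattini hQp x

theorem card_quot_le {Q : Type*} [Group Q] [Finite Q] (hQp : IsPGroup 2 Q)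
    (h4 : Cfsg.SectionalPRankLE 2 4 Q) : Nat.card (Q ⧸ frattini Q) ≤ 2 ^ 4 := by
  have hmap : ((frattini Q).subgroupOf ⊤).map
      ((Subgroup.topEquiv : ↥(⊤ : Subgroup Q) ≃* Q) : ↥(⊤ : Subgroup Q) →* Q) = frattini Q := by
    ext x
    constructor
    · rintro ⟨y, hy, rfl⟩
      exact Subgroup.mem_subgroupOf.mp hy
    · intro hx
      exact ⟨⟨x, Subgroup.mem_top x⟩, Subgroup.mem_subgroupOf.mpr hx, rfl⟩
  obtain ⟨ψ⟩ : Nonempty ((↥(⊤ : Subgroup Q) ⧸ (frattini Q).subgroupOf ⊤) ≃* Q ⧸ frattini Q) :=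
    ⟨QuotientGroup.congr _ _ Subgroup.topEquiv hmap⟩
  have h5 := h4 ⊤ ((frattini Q).subgroupOf ⊤) ⊤
    ⟨⟨fun a b => Subtype.ext (ψ.injective (by
      show ψ ((a : ↥(⊤ : Subgroup Q) ⧸ (frattini Q).subgroupOf ⊤) * b) = ψ (b * a)
      rw [map_mul, map_mul]
      exact quot_comm hQp _ _))⟩⟩
    (fun a _ => ψ.injective (by
      rw [map_pow, map_one]
      exact quot_sq hQp _))
  rw [Subgroup.card_top, Nat.card_congr ψ.toEquiv] at h5
  exact h5

/-- the kernel of the action on the Frattini quotient of `O_2(X)` is `O_2(X)` -/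
theorem frat_act {X : Type*} [Group X] [Finite X]
    (hcent : Subgroup.centralizer ((Cfsg.pCore 2 X : Subgroup X) : Set X) ≤ Cfsg.pCore 2 X) :
    ((quotAut (frattini ↥(Cfsg.pCore 2 X)) inferInstance).comp
      (MulAut.conjNormal : X →* MulAut ↥(Cfsg.pCore 2 X))).ker = Cfsg.pCore 2 X := by
  have : Fact (Nat.Prime 2) := ⟨Nat.prime_two⟩
  have hPp : IsPGroup 2 ↥(Cfsg.pCore 2 X) := Lib.Helper78.Fitting.pCore_isPGroup 2
  have hmem : ∀ h : X, h ∈ ((quotAut (frattini ↥(Cfsg.pCore 2 X)) inferInstance).comp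
      (MulAut.conjNormal : X →* MulAut ↥(Cfsg.pCore 2 X))).ker ↔
      (MulAut.conjNormal h : MulAut ↥(Cfsg.pCore 2 X)) ∈
        Cfsg.Agent.S4189.frattiniKer ↥(Cfsg.pCore 2 X) := by
    intro h
    rw [MonoidHom.mem_ker, MonoidHom.comp_apply, frat_key]
  apply le_antisymm
  · have hKp : IsPGroup 2 ↥((quotAut (frattini ↥(Cfsg.pCore 2 X)) inferInstance).comp
        (MulAut.conjNormal : X →* MulAut ↥(Cfsg.pCore 2 X))).ker := by
      rintro ⟨c, hc⟩
      have ho : orderOf c ≠ 0 := (orderOf_pos c).ne'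
      obtain ⟨a, ha⟩ : ∃ a, a = (orderOf c).factorization 2 := ⟨_, rfl⟩
      have hd_mem : c ^ 2 ^ a ∈ ((quotAut (frattini ↥(Cfsg.pCore 2 X)) inferInstance).comp
          (MulAut.conjNormal : X →* MulAut ↥(Cfsg.pCore 2 X))).ker := Subgroup.pow_mem _ hc _
      have hd_ord : (orderOf (c ^ 2 ^ a)).Coprime 2 := by
        rw [orderOf_pow' c (pow_pos Nat.prime_two.pos a).ne',
          Nat.gcd_eq_right (ha ▸ Nat.ordProj_dvd (orderOf c) 2), ha]
        exact (Nat.coprime_ordCompl Nat.prime_two ho).symm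
      have hα : (MulAut.conjNormal (c ^ 2 ^ a) : MulAut (Cfsg.pCore 2 X)) = 1 := by
        obtain ⟨k, hk⟩ := Lib.Helper70.HallHigman.isPGroup_frattiniKer hPp
          ⟨_, (hmem _).mp hd_mem⟩
        have h1 : (MulAut.conjNormal (c ^ 2 ^ a) : MulAut (Cfsg.pCore 2 X)) ^ 2 ^ k = 1 := by
          simpa using congrArg Subtype.val hk
        have h2 : (MulAut.conjNormal (c ^ 2 ^ a) : MulAut (Cfsg.pCore 2 X)) ^
            orderOf (c ^ 2 ^ a) = 1 := by
          rw [← map_pow, pow_orderOf_eq_one, map_one]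
        have h3 := orderOf_dvd_of_pow_eq_one h1
        have h4 := orderOf_dvd_of_pow_eq_one h2
        have h5 : orderOf (MulAut.conjNormal (c ^ 2 ^ a) : MulAut (Cfsg.pCore 2 X)) = 1 := by
          have h6 : (orderOf (MulAut.conjNormal (c ^ 2 ^ a) : MulAut (Cfsg.pCore 2 X))).Coprime
              (2 ^ k) := Nat.Coprime.pow_right k (Nat.Coprime.coprime_dvd_left h4 hd_ord)
          exact Nat.Coprime.eq_one_of_dvd h6 h3
        exact orderOf_eq_one_iff.1 h5
      have hd_cent : c ^ 2 ^ a ∈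
          Subgroup.centralizer ((Cfsg.pCore 2 X : Subgroup X) : Set X) := by
        rw [Subgroup.mem_centralizer_iff]
        intro y hy
        have h1 := congrArg
          (fun β : MulAut (Cfsg.pCore 2 X) => ((β ⟨y, hy⟩ : Cfsg.pCore 2 X) : X)) hα
        simp only [MulAut.conjNormal_apply, MulAut.one_apply] at h1
        calc y * c ^ 2 ^ a = (c ^ 2 ^ a * y * (c ^ 2 ^ a)⁻¹) * c ^ 2 ^ a := by rw [h1]
          _ = c ^ 2 ^ a * y := by group
      have hd_P : c ^ 2 ^ a ∈ Cfsg.pCore 2 X := hcent hd_cent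
      obtain ⟨k, hk⟩ := hPp ⟨_, hd_P⟩
      refine ⟨a + k, ?_⟩
      apply Subtype.ext
      have := congrArg Subtype.val hk
      simpa [pow_add, pow_mul] using this
    exact Lib.Helper78.Fitting.le_pCore (MonoidHom.normal_ker _) hKp
  · intro h hh
    rw [hmem]
    show ∀ y : ↥(Cfsg.pCore 2 X),
      (MulAut.conjNormal h : MulAut ↥(Cfsg.pCore 2 X)) y * y⁻¹ ∈ frattini ↥(Cfsg.pCore 2 X)
    intro y
    have h1 : (MulAut.conjNormal h : MulAut (Cfsg.pCore 2 X)) y * y⁻¹
        = ⁅(⟨h, hh⟩ : Cfsg.pCore 2 X), y⁆ := by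
      apply Subtype.ext
      simp [commutatorElement_def, MulAut.conjNormal_apply]
    rw [h1]
    exact Lib.Helper70.FrattiniQuot.commutator_le_frattini hPp
      (Subgroup.commutator_mem_commutator (Subgroup.mem_top _) (Subgroup.mem_top _))


theorem exists_f1 {X : Type*} [Group X] [Finite X]
    (hcent : Subgroup.centralizer ((Cfsg.pCore 2 X : Subgroup X) : Set X) ≤ Cfsg.pCore 2 X) :
    ∃ f1 : X ⧸ Cfsg.pCore 2 X →*
      MulAut (↥(Cfsg.pCore 2 X) ⧸ frattini ↥(Cfsg.pCore 2 X)), Function.Injective f1 := by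
  have hker := frat_act hcent
  refine ⟨(QuotientGroup.kerLift ((quotAut (frattini ↥(Cfsg.pCore 2 X)) inferInstance).comp
      (MulAut.conjNormal : X →* MulAut ↥(Cfsg.pCore 2 X)))).comp
        (QuotientGroup.quotientMulEquivOfEq hker.symm).toMonoidHom, ?_⟩
  intro a b hab
  have hab' : QuotientGroup.kerLift ((quotAut (frattini ↥(Cfsg.pCore 2 X)) inferInstance).comp
      (MulAut.conjNormal : X →* MulAut ↥(Cfsg.pCore 2 X)))
        (QuotientGroup.quotientMulEquivOfEq hker.symm a) =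
      QuotientGroup.kerLift ((quotAut (frattini ↥(Cfsg.pCore 2 X)) inferInstance).comp
      (MulAut.conjNormal : X →* MulAut ↥(Cfsg.pCore 2 X)))
        (QuotientGroup.quotientMulEquivOfEq hker.symm b) := hab
  exact (QuotientGroup.quotientMulEquivOfEq hker.symm).injective
    (QuotientGroup.kerLift_injective _ hab')

theorem exists_r {X : Type*} [Group X] [Finite X]
    (h4 : Cfsg.SectionalPRankLE 2 4 ↥(Cfsg.pCore 2 X)) :
    ∃ r ≤ 4, Nat.card (↥(Cfsg.pCore 2 X) ⧸ frattini ↥(Cfsg.pCore 2 X)) = 2 ^ r := by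
  have : Fact (Nat.Prime 2) := ⟨Nat.prime_two⟩
  have hQp : IsPGroup 2 ↥(Cfsg.pCore 2 X) := Lib.Helper78.Fitting.pCore_isPGroup 2
  obtain ⟨n, hn⟩ := IsPGroup.iff_card.1 hQp
  have hdvd : Nat.card (↥(Cfsg.pCore 2 X) ⧸ frattini ↥(Cfsg.pCore 2 X)) ∣ 2 ^ n := by
    rw [← hn]; exact Subgroup.card_quotient_dvd_card _
  obtain ⟨r, -, hr⟩ := (Nat.dvd_prime_pow Nat.prime_two).1 hdvd
  have hr4 : r ≤ 4 := by
    have h5 := card_quot_le hQp h4
    rw [hr] at h5
    exact (Nat.pow_le_pow_iff_right (by norm_num)).mp h5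
  exact ⟨r, hr4, hr⟩

/-- Let X be a finite 2-constrained group with no nontrivial normal subgroup of odd order such that O₂(X) has sectional 2-rank at most 4. Then X/O₂(X) is isomorphic to a subgroup of the alternating group of degree 8. -/
theorem result {X : Type*} [Group X] [Finite X] (hc : Cfsg.IsPConstrained 2 X) (hO : Cfsg.oddCore X = ⊥)
    (h4 : Cfsg.SectionalPRankLE 2 4 ↥(Cfsg.pCore 2 X)) :
    ∃ f : X ⧸ Cfsg.pCore 2 X →* ↥(alternatingGroup (Fin 8)), Function.Injective f := by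
  classical
  have : Fact (Nat.Prime 2) := ⟨Nat.prime_two⟩
  have hQp : IsPGroup 2 ↥(Cfsg.pCore 2 X) := Lib.Helper78.Fitting.pCore_isPGroup 2
  have hcent : Subgroup.centralizer ((Cfsg.pCore 2 X : Subgroup X) : Set X) ≤ Cfsg.pCore 2 X :=
    (Cfsg.Agent.S0630.isPConstrained_iff_of_core_bot (p := 2) hO).mp hc
  -- step 1: `X / O_2(X)` embeds in the automorphism group of the Frattini quotient
  obtain ⟨f1, hf1⟩ := exists_f1 hcent
  -- step 2: the Frattini quotient is elementary abelian of order `2 ^ r`, `r ≤ 4`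
  obtain ⟨r, hr4, hr⟩ := exists_r h4
  -- step 3: its automorphism group embeds in `GL_4(2)`
  have hcard : Nat.card ((↥(Cfsg.pCore 2 X) ⧸ frattini ↥(Cfsg.pCore 2 X)) ×
      Multiplicative (Fin (4 - r) → ZMod 2)) = 2 ^ 4 := by
    rw [Nat.card_prod, hr, K_card, ← pow_add]
    congr 1
    omega
  obtain ⟨e3⟩ := Lib.Helper86.ElemAb.exists_mulAut_equiv_GL
    (H := (↥(Cfsg.pCore 2 X) ⧸ frattini ↥(Cfsg.pCore 2 X)) ×
      Multiplicative (Fin (4 - r) → ZMod 2)) (p := 2)
    (fun a b => Prod.ext (quot_comm hQp _ _) (mul_comm _ _))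
    (fun a => Prod.ext (quot_sq hQp _) (K_sq _ _)) 4 hcard
  -- step 4: `GL_4(2) = SL_4(2) = PSL_4(2)` is the alternating group of degree 8
  obtain ⟨e5⟩ := Cfsg.Agent.S0256.result (F := ZMod 2) (ZMod.card 2)
  have hc0 := Lib.Helper43.SLCard.center_SL_eq_bot_of_card_two (F := ZMod 2) (ZMod.card 2) 4
  obtain ⟨e4⟩ : Nonempty (Matrix.SpecialLinearGroup (Fin 4) (ZMod 2) ≃*
      Matrix.ProjectiveSpecialLinearGroup (Fin 4) (ZMod 2)) :=
    ⟨((QuotientGroup.quotientMulEquivOfEq hc0).trans QuotientGroup.quotientBot).symm⟩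
  refine ⟨(((e5.toMonoidHom.comp e4.toMonoidHom).comp toSL).comp e3.toMonoidHom).comp
    ((prodAut _ _).comp f1), ?_⟩
  intro a b hab
  have h1 : e5 (e4 (toSL (e3 (prodAut _ _ (f1 a))))) =
      e5 (e4 (toSL (e3 (prodAut _ _ (f1 b))))) := hab
  exact hf1 (prodAut_injective _ _ (e3.injective (toSL_injective
    (e4.injective (e5.injective h1)))))

end Cfsg.Agent.S3103
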