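import Cfsg.Statements.S3157
import Cfsg.Agent.Lib.Helper26.T64Final
import Cfsg.Agent.Lib.Helper47.T64FPF
import Cfsg.Agent.Lib.Helper47.T64LANG
import Cfsg.Agent.Lib.Helper10.T64MOD3
import Cfsg.Agent.Lib.Helper10.T64ZCARD
import Cfsg.Agent.Lib.Helper64.T64ZEXP
import Cfsg.Agent.Lib.Helper13.T64SQ
import Cfsg.Agent.Lib.Helper86.T64COMMID
import Cfsg.Agent.Lib.Helper97.T64CXZ
import Cfsg.Agent.Lib.Helper97.T64CXFACT
import Cfsg.Agent.Lib.Helper86.T64CXCARD
import Cfsg.Agent.Lib.Helper13.T64CXNAB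
import Cfsg.Agent.Lib.Helper61.T64INV
import Cfsg.Agent.Lib.Helper2.T64GEN
import Cfsg.Agent.Lib.Helper26.T64NF
import Cfsg.Agent.Lib.Helper57.T64HEIS
import Cfsg.Agent.Lib.Helper93.T64ORD8

set_option autoImplicit false
open Cfsg

namespace Cfsg.Agent.S3157

/-- Let T be a non-abelian group of order 64 admitting automorphisms ρ of order 3 and x of order 2 with x ρ x⁻¹ = ρ⁻¹ (so they generate a symmetric group of degree 3), where ρ fixes only the identity. Then T is isomorphic to a Sylow 2-subgroup of the projective special linear group of dimension 3 over the field with 4 elements, and the subgroup of fixed points of x is dihedral of order 8 or quaternion of order 8. -/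
theorem result {T : Type*} [Group T] [Finite T] (hT : Nat.card T = 64) (hna : ¬ IsMulCommutative T) (ρ x : MulAut T) (hρ : orderOf ρ = 3) (hx : orderOf x = 2)
    (hxr : x * ρ * x⁻¹ = ρ⁻¹) (hfp : ∀ y : T, ρ y = y → y = 1) (C : Subgroup T) (hC : ∀ y : T, y ∈ C ↔ x y = y) :
    (∃ (F : Type) (_ : Field F) (_ : Fintype F), Fintype.card F = 4 ∧
        ∃ S : Sylow 2 (Matrix.ProjectiveSpecialLinearGroup (Fin 3) F), Nonempty (T ≃* ↥(S : Subgroup (Matrix.ProjectiveSpecialLinearGroup (Fin 3) F)))) ∧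
      (Nonempty (↥C ≃* DihedralGroup 4) ∨ Nonempty (↥C ≃* QuaternionGroup 2)) :=
  Cfsg.Agent.Lib.Helper26.T64Final.final
    Cfsg.Agent.Lib.Helper47.T64FPF.main
    Cfsg.Agent.Lib.Helper47.T64LANG.main
    Cfsg.Agent.Lib.Helper10.T64MOD3.main
    Cfsg.Agent.Lib.Helper10.T64ZCARD.main
    Cfsg.Agent.Lib.Helper64.T64ZEXP.main
    Cfsg.Agent.Lib.Helper13.T64SQ.main
    Cfsg.Agent.Lib.Helper86.T64COMMID.main
    Cfsg.Agent.Lib.Helper97.T64CXZ.main
    Cfsg.Agent.Lib.Helper97.T64CXFACT.main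
    Cfsg.Agent.Lib.Helper86.T64CXCARD.main
    Cfsg.Agent.Lib.Helper13.T64CXNAB.main
    Cfsg.Agent.Lib.Helper61.T64INV.main
    Cfsg.Agent.Lib.Helper2.T64GEN.main
    Cfsg.Agent.Lib.Helper26.T64NF.main
    Cfsg.Agent.Lib.Helper57.T64HEIS.main
    Cfsg.Agent.Lib.Helper93.T64ORD8.main
    hT hna ρ x hρ hx hxr hfp C hC

end Cfsg.Agent.S3157
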