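import Mathlib
import Cfsg.Statements.S3179
import Cfsg.Agent.Lib.Helper53.GL5
import Cfsg.Agent.Lib.Helper65.SzIso
import Cfsg.Agent.S0324
import Cfsg.Agent.S0280
import Cfsg.Agent.Lib.Helper59.PSL2Spec

set_option autoImplicit false
open Cfsg

namespace Cfsg.Agent.S3179

/-- the order of a section of `GL₅(2)` divides `9999360` -/
theorem card_section_dvd {H : Subgroup (GL (Fin 5) (ZMod 2))} (K : Subgroup ↥H) [K.Normal] :
    Nat.card (↥H ⧸ K) ∣ 9999360 := by
  rw [← Cfsg.Agent.Lib.Helper53.GL5.card_GL5]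
  have h1 : Nat.card (↥H ⧸ K) ∣ Nat.card ↥H := by
    rw [← Subgroup.index_eq_card]; exact Subgroup.index_dvd_card K
  exact h1.trans (Subgroup.card_subgroup_dvd_card H)

/-- element orders of a section occur in `GL₅(2)` -/
theorem exists_orderOf {H : Subgroup (GL (Fin 5) (ZMod 2))} (K : Subgroup ↥H) [K.Normal]
    (x : ↥H ⧸ K) : ∃ g : GL (Fin 5) (ZMod 2), orderOf g = orderOf x := by
  obtain ⟨h, rfl⟩ := QuotientGroup.mk_surjective x
  have h1 : orderOf (QuotientGroup.mk' K h) ∣ orderOf h := orderOf_map_dvd (QuotientGroup.mk' K) h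
  have hpos : 0 < orderOf h := orderOf_pos h
  obtain ⟨t, ht⟩ := h1
  have ht0 : t ≠ 0 := by
    rintro rfl
    rw [mul_zero] at ht
    omega
  refine ⟨((h ^ t : ↥H) : GL (Fin 5) (ZMod 2)), ?_⟩
  rw [Subgroup.orderOf_coe, orderOf_pow_of_dvd ht0 ⟨_, by rw [ht, mul_comm]⟩, ht]
  have hm0 : orderOf (QuotientGroup.mk' K h) ≠ 0 := by
    intro h0; rw [h0, zero_mul] at ht; omega
  show orderOf ((QuotientGroup.mk' K) h) * t / t = orderOf ((QuotientGroup.mk' K) h)
  exact Nat.mul_div_cancel _ (Nat.pos_of_ne_zero ht0)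

/-- Let X be a section of the general linear group GL(5, 2), that is, a quotient of a subgroup of it. If X is isomorphic to PSL(2, 2^n) for some n ≥ 2, to a Suzuki group over the field with 2^(2m+1) elements for some m ≥ 1, or to PSU(3, 2^n) for some n ≥ 2, then X is isomorphic to PSL(2, 4). -/
theorem result {H : Subgroup (GL (Fin 5) (ZMod 2))}
    {K : Subgroup ↥H} [K.Normal]
    (hX : (∃ (n : ℕ) (F : Type) (_ : Field F) (_ : Fintype F), 2 ≤ n ∧ Fintype.card F = 2 ^ n ∧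
        Nonempty (↥H ⧸ K ≃* Matrix.ProjectiveSpecialLinearGroup (Fin 2) F)) ∨
      (∃ (m : ℕ) (F : Type) (_ : Field F) (_ : Fintype F), 1 ≤ m ∧ Fintype.card F = 2 ^ (2 * m + 1) ∧
        Nonempty (↥H ⧸ K ≃* ↥(Cfsg.Lie.Sz F (2 ^ (m + 1))))) ∨
      (∃ (n : ℕ) (F : Type) (_ : Field F) (_ : Fintype F), 2 ≤ n ∧ Fintype.card F = 4 ^ n ∧
        Nonempty (↥H ⧸ K ≃* Cfsg.PSU 3 F (2 ^ n)))) :
    ∃ (F : Type) (_ : Field F) (_ : Fintype F), Fintype.card F = 4 ∧
      Nonempty (↥H ⧸ K ≃* Matrix.ProjectiveSpecialLinearGroup (Fin 2) F) := by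
  have hdvd := card_section_dvd K
  rcases hX with ⟨n, F, hField, hFin, hn, hF, ⟨e⟩⟩ | ⟨m, F, hField, hFin, hm, hF, ⟨e⟩⟩ |
    ⟨n, F, hField, hFin, hn, hF, ⟨e⟩⟩
  · -- PSL₂(2ⁿ)
    by_cases hn2 : n = 2
    · subst hn2
      exact ⟨F, hField, hFin, by rw [hF]; norm_num, ⟨e⟩⟩
    exfalso
    have h2F : (2 : F) = 0 := by
      have h1 := Nat.cast_card_eq_zero F
      rw [hF] at h1
      push_cast at h1
      exact pow_eq_zero_iff (by omega) |>.mp h1
    have hchar : CharP F 2 := CharTwo.of_one_ne_zero_of_two_eq_zero one_ne_zero h2F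
    have hF2 : Fact (Nat.Prime 2) := ⟨Nat.prime_two⟩
    have hmem : (2 ^ n + 1) ∈ Set.range
        (orderOf : Matrix.ProjectiveSpecialLinearGroup (Fin 2) F → ℕ) := by
      rw [Cfsg.Agent.Lib.Helper59.PSL2Spec.range_orderOf 2]
      right; right
      rw [hF]
      have hodd : Nat.gcd 2 (2 ^ n + 1) = 1 := by
        have h1 : ¬ 2 ∣ 2 ^ n + 1 := by
          intro h
          have h2 : 2 ∣ 2 ^ n := dvd_pow_self 2 (by omega)
          have h3 := (Nat.dvd_add_right h2).mp h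
          omega
        exact (Nat.Prime.coprime_iff_not_dvd Nat.prime_two).mpr h1
      rw [hodd, Nat.div_one]
    obtain ⟨x, hx⟩ := hmem
    obtain ⟨g, hg⟩ := exists_orderOf K (e.symm x)
    rw [MulEquiv.orderOf_eq, hx] at hg
    have hgd : 2 ^ n + 1 ∣ 9999360 := by
      rw [← hg, ← Cfsg.Agent.Lib.Helper53.GL5.card_GL5]; exact orderOf_dvd_natCard g
    by_cases hn3 : n = 3
    · subst hn3
      exact Cfsg.Agent.Lib.Helper53.GL5.no_order_nine g (by rw [hg]; norm_num)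
    have hle : 2 ^ n + 1 ≤ 9999360 := Nat.le_of_dvd (by norm_num) hgd
    have hn24 : n < 24 := by
      by_contra hcon
      have h1 : 2 ^ 24 ≤ 2 ^ n := Nat.pow_le_pow_right (by norm_num) (by omega)
      norm_num at h1
      omega
    interval_cases n <;> omega
  · -- Suzuki groups
    exfalso
    have hcard : Nat.card (↥H ⧸ K) = (2 ^ (2 * m + 1)) ^ 2 * ((2 ^ (2 * m + 1)) ^ 2 + 1) *
        (2 ^ (2 * m + 1) - 1) := by
      rw [Nat.card_congr e.toEquiv,
        Nat.card_congr (Cfsg.Agent.Lib.Helper65.SzIso.iso hm hF).toEquiv]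
      exact Cfsg.Agent.S0324.result hm hF
    rw [hcard] at hdvd
    by_cases hm1 : m = 1
    · subst hm1
      norm_num at hdvd
    have hq : 32 ≤ 2 ^ (2 * m + 1) := by
      calc 32 = 2 ^ 5 := by norm_num
        _ ≤ 2 ^ (2 * m + 1) := Nat.pow_le_pow_right (by norm_num) (by omega)
    have hle := Nat.le_of_dvd (by norm_num) hdvd
    have h1 : 32 ^ 2 * (32 ^ 2 + 1) * (32 - 1) ≤ (2 ^ (2 * m + 1)) ^ 2 *
        ((2 ^ (2 * m + 1)) ^ 2 + 1) * (2 ^ (2 * m + 1) - 1) := by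
      have ha : 32 ^ 2 ≤ (2 ^ (2 * m + 1)) ^ 2 := Nat.pow_le_pow_left hq 2
      exact Nat.mul_le_mul (Nat.mul_le_mul ha (by omega)) (by omega)
    norm_num at h1
    omega
  · -- PSU₃(2ⁿ)
    exfalso
    have hF' : Fintype.card F = (2 ^ n) ^ 2 := by
      rw [hF, ← pow_mul, show (4 : ℕ) = 2 ^ 2 by norm_num, ← pow_mul, mul_comm]
    have h1 := Cfsg.Agent.S0280.result hF' 3 (by norm_num)
    rw [← Nat.card_congr e.toEquiv] at h1
    have hprod : ∏ i ∈ Finset.range 3, (if Even i then (2 ^ n) ^ (i + 1) + 1 else (2 ^ n) ^ (i + 1) - 1)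
        = (2 ^ n + 1) * ((2 ^ n) ^ 2 - 1) * ((2 ^ n) ^ 3 + 1) := by
      rw [Finset.prod_range_succ, Finset.prod_range_succ, Finset.prod_range_succ,
        Finset.prod_range_zero]
      rw [if_pos (by decide), if_neg (by decide), if_pos (by decide)]
      simp
    rw [hprod] at h1
    have h2 : 3 * (3 - 1) / 2 = 3 := by norm_num
    rw [h2] at h1
    obtain ⟨N, hN⟩ : ∃ N, N = Nat.card (↥H ⧸ K) := ⟨_, rfl⟩
    rw [← hN] at h1 hdvd
    obtain ⟨q, hqdef⟩ : ∃ q, q = 2 ^ n := ⟨_, rfl⟩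
    rw [← hqdef] at h1
    have hNle : N ≤ 9999360 := Nat.le_of_dvd (by norm_num) hdvd
    by_cases hn2 : n = 2
    · subst hn2
      have hq4 : q = 4 := by rw [hqdef]; norm_num
      subst hq4
      have hN' : N = 62400 := by
        have : Nat.gcd 3 (4 + 1) = 1 := by decide
        rw [this] at h1
        omega
      rw [hN'] at hdvd
      norm_num at hdvd
    by_cases hn3 : n = 3
    · subst hn3
      have hq8 : q = 8 := by rw [hqdef]; norm_num
      subst hq8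
      have hN' : N = 5515776 := by
        have : Nat.gcd 3 (8 + 1) = 3 := by decide
        rw [this] at h1
        omega
      rw [hN'] at hdvd
      norm_num at hdvd
    have hq16 : 16 ≤ q := by
      rw [hqdef]
      calc 16 = 2 ^ 4 := by norm_num
        _ ≤ 2 ^ n := Nat.pow_le_pow_right (by norm_num) (by omega)
    have hg3 : Nat.gcd 3 (q + 1) ≤ 3 := Nat.le_of_dvd (by norm_num) (Nat.gcd_dvd_left 3 (q + 1))
    have h3 : Nat.gcd 3 (q + 1) * ((q + 1) * N) ≤ 3 * ((q + 1) * 9999360) :=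
      Nat.mul_le_mul hg3 (Nat.mul_le_mul_left _ hNle)
    rw [h1] at h3
    have h4 : q ^ 3 * ((q + 1) * (q ^ 2 - 1) * (q ^ 3 + 1)) =
        (q + 1) * (q ^ 3 * ((q ^ 2 - 1) * (q ^ 3 + 1))) := by ring
    have h5 : 3 * ((q + 1) * 9999360) = (q + 1) * 29998080 := by ring
    rw [h4, h5] at h3
    have h6 : q ^ 3 * ((q ^ 2 - 1) * (q ^ 3 + 1)) ≤ 29998080 :=
      Nat.le_of_mul_le_mul_left h3 (by omega)
    have h7 : 16 ^ 3 * ((16 ^ 2 - 1) * (16 ^ 3 + 1)) ≤ q ^ 3 * ((q ^ 2 - 1) * (q ^ 3 + 1)) := by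
      have ha : 16 ^ 3 ≤ q ^ 3 := Nat.pow_le_pow_left hq16 3
      have hb : 16 ^ 2 ≤ q ^ 2 := Nat.pow_le_pow_left hq16 2
      exact Nat.mul_le_mul ha (Nat.mul_le_mul (by omega) (by omega))
    norm_num at h7
    omega

end Cfsg.Agent.S3179
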