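import Cfsg.Statements.S4043
import Mathlib
import Cfsg.Agent.S0001

set_option autoImplicit false
open Cfsg
open Pointwise

namespace Cfsg.Agent.S4043

/-- a `p`-group `Q` normalizing a nontrivial `p`-group `C` fixes a nontrivial element of `C`. -/
theorem exists_fixed_ne_one {G : Type*} [Group G] [Finite G] {p : ℕ} [Fact p.Prime]
    (C Q : Subgroup G) (hC : IsPGroup p C) (hQ : IsPGroup p Q)
    (hn : ∀ g ∈ Q, ∀ c ∈ C, g * c * g⁻¹ ∈ C) (hne : C ≠ ⊥) :
    ∃ c ∈ C, c ≠ 1 ∧ ∀ g ∈ Q, g * c * g⁻¹ = c := by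
  let _ : MulAction Q C :=
    { smul := fun g c => ⟨(g : G) * c * (g : G)⁻¹, hn g g.2 c c.2⟩
      one_smul := fun c => Subtype.ext (by
        show ((1 : Q) : G) * c * ((1 : Q) : G)⁻¹ = c
        simp)
      mul_smul := fun g h c => Subtype.ext (by
        show ((g * h : Q) : G) * c * ((g * h : Q) : G)⁻¹
          = (g : G) * ((h : G) * c * (h : G)⁻¹) * (g : G)⁻¹
        simp [mul_assoc]) }
  have hsmul : ∀ (g : Q) (c : C), ((g • c : C) : G) = (g : G) * c * (g : G)⁻¹ := fun _ _ => rfl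
  have hcard : p ∣ Nat.card C := by
    obtain ⟨k, hk⟩ := hC.exists_card_eq
    have hk0 : k ≠ 0 := by
      rintro rfl
      apply hne
      rw [pow_zero] at hk
      exact Subgroup.card_eq_one.mp hk
    rw [hk]
    exact dvd_pow_self p hk0
  have h1 : (1 : C) ∈ MulAction.fixedPoints Q C := by
    intro g
    apply Subtype.ext
    rw [hsmul]
    simp
  obtain ⟨b, hb, hb1⟩ := hQ.exists_fixed_point_of_prime_dvd_card_of_fixed_point (α := C) hcard h1
  refine ⟨b, b.2, ?_, ?_⟩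
  · intro h
    apply hb1
    exact Subtype.ext h.symm
  · intro g hg
    have h2 := hb ⟨g, hg⟩
    have h3 := congrArg Subtype.val h2
    rw [hsmul] at h3
    exact h3

/-- the complement of a Sylow `p`-subgroup has order prime to `p`. -/
theorem coprime_card_compl {A : Type*} [Group A] [Finite A] {p : ℕ} [Fact p.Prime]
    (P : Sylow p A) (K : Subgroup A)
    (hK : K.IsComplement' (P : Subgroup A)) : (Nat.card K).Coprime p := by
  have h1 : (P : Subgroup A).index = Nat.card K := hK.index_eq_card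
  have h2 := P.not_dvd_index
  rw [h1] at h2
  exact (Nat.Coprime.symm ((Nat.Prime.coprime_iff_not_dvd Fact.out).mpr h2))

/-- a `p'`-element lies in `N K` where `K` is the normal `p`-complement of the complement `A`. -/
theorem mem_sup_of_coprime {G : Type*} [Group G] [Finite G] {p : ℕ} [Fact p.Prime]
    (N A : Subgroup G) [N.Normal] (hA : A.IsComplement' N) (P : Sylow p A) (K : Subgroup A)
    [K.Normal] (hK : K.IsComplement' (P : Subgroup A)) (g : G) (hg : (orderOf g).Coprime p) :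
    g ∈ N ⊔ K.map A.subtype := by
  obtain ⟨⟨⟨a, ha⟩, ⟨x, hx⟩⟩, hax⟩ := hA.2 g
  simp only at hax
  have ha1 : a ^ orderOf g = 1 := by
    have h1 : (QuotientGroup.mk' N) a = (QuotientGroup.mk' N) g := by
      have hx1 : (QuotientGroup.mk' N) x = 1 := (QuotientGroup.eq_one_iff x).mpr hx
      rw [← hax, map_mul, hx1, mul_one]
    have h2 : (QuotientGroup.mk' N) (a ^ orderOf g) = 1 := by
      rw [map_pow, h1, ← map_pow, pow_orderOf_eq_one, map_one]
    have h3 : a ^ orderOf g ∈ N := (QuotientGroup.eq_one_iff _).mp h2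
    have h4 : a ^ orderOf g ∈ A ⊓ N := ⟨A.pow_mem ha _, h3⟩
    rw [hA.disjoint.eq_bot] at h4
    exact h4
  have haK : (⟨a, ha⟩ : A) ∈ K := by
    have hidx : K.index = Nat.card (P : Subgroup A) := hK.symm.index_eq_card
    obtain ⟨k, hk⟩ := P.2.exists_card_eq
    have h5 : (⟨a, ha⟩ : A) ^ (p ^ k) ∈ K := by
      rw [← hk, ← hidx]; exact Subgroup.pow_index_mem K _
    have hord : orderOf (⟨a, ha⟩ : A) ∣ orderOf g := by
      apply orderOf_dvd_of_pow_eq_one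
      exact Subtype.ext ha1
    have hcop : (p ^ k).Coprime (orderOf (⟨a, ha⟩ : A)) := by
      apply Nat.Coprime.pow_left
      exact (Nat.Coprime.coprime_dvd_left hord hg).symm
    obtain ⟨m, hm⟩ := exists_pow_eq_self_of_coprime hcop
    rw [← hm]
    exact K.pow_mem h5 m
  rw [← hax]
  exact Subgroup.mul_mem _
    ((le_sup_right : K.map A.subtype ≤ N ⊔ K.map A.subtype)
      (Subgroup.mem_map.mpr ⟨⟨a, ha⟩, haK, rfl⟩))
    ((le_sup_left : N ≤ N ⊔ K.map A.subtype) hx)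

/-- Let G be a finite group that is the semidirect product of a normal p-subgroup N by a subgroup A, and also of N by a subgroup A₁, where p is a prime and A and A₁ both have normal p-complements. If C_N(A) = C_N(A₁) = 1, then A₁ is conjugate to A by an element of N. -/
theorem result {G : Type*} [Group G] [Finite G] {p : ℕ}
    [Fact p.Prime] (N : Subgroup G) [N.Normal] (hN : IsPGroup p N) (A A₁ : Subgroup G)
    (hA : A.IsComplement' N) (hA₁ : A₁.IsComplement' N)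
    (hAp : Cfsg.HasNormalPComplement p A) (hA₁p : Cfsg.HasNormalPComplement p A₁)
    (hC : ∀ n : G, n ∈ N → (∀ a : G, a ∈ A → a * n * a⁻¹ = n) → n = 1)
    (hC₁ : ∀ n : G, n ∈ N → (∀ a : G, a ∈ A₁ → a * n * a⁻¹ = n) → n = 1) :
    ∃ n : G, n ∈ N ∧ A₁ = A.map (MulAut.conj n).toMonoidHom := by
  obtain ⟨P, K, hKn, hK⟩ := hAp
  obtain ⟨P₁, K₁, hK₁n, hK₁⟩ := hA₁p
  set K' : Subgroup G := K.map A.subtype with hK'
  set K₁' : Subgroup G := K₁.map A₁.subtype with hK₁'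
  have hcK : (Nat.card K').Coprime p := by
    rw [hK', Subgroup.card_map_of_injective A.subtype_injective]
    exact coprime_card_compl P K hK
  have hcK₁ : (Nat.card K₁').Coprime p := by
    rw [hK₁', Subgroup.card_map_of_injective A₁.subtype_injective]
    exact coprime_card_compl P₁ K₁ hK₁
  have hK'A : K' ≤ A := Subgroup.map_subtype_le K
  have hK₁'A : K₁' ≤ A₁ := Subgroup.map_subtype_le K₁
  have hle1 : K₁' ≤ N ⊔ K' := by
    intro g hg
    apply mem_sup_of_coprime N A hA P K hK g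
    exact Nat.Coprime.coprime_dvd_left (Subgroup.orderOf_dvd_natCard _ hg) hcK₁
  have hle2 : K' ≤ N ⊔ K₁' := by
    intro g hg
    apply mem_sup_of_coprime N A₁ hA₁ P₁ K₁ hK₁ g
    exact Nat.Coprime.coprime_dvd_left (Subgroup.orderOf_dvd_natCard _ hg) hcK
  have hsup : N ⊔ K' = N ⊔ K₁' := le_antisymm (sup_le le_sup_left hle2) (sup_le le_sup_left hle1)
  have hdisj : Disjoint N K' := (hA.disjoint.symm).mono_right hK'A
  have hdisj₁ : Disjoint N K₁' := (hA₁.disjoint.symm).mono_right hK₁'A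
  obtain ⟨L, hL⟩ : ∃ L : Subgroup G, L = N ⊔ K' := ⟨_, rfl⟩
  have hc := S0001.compl_sup hdisj hL
  have hc₁ := S0001.compl_sup hdisj₁ (hL.trans hsup)
  have hNL : IsPGroup p (N.subgroupOf L) := hN.comap_subtype
  have hK'L : K' ≤ L := hL ▸ le_sup_right
  have hK₁'L : K₁' ≤ L := hL ▸ hle1
  have hcop : (Nat.card (N.subgroupOf L)).Coprime (Nat.card (K'.subgroupOf L)) := by
    obtain ⟨k, hk⟩ := hNL.exists_card_eq
    rw [hk, S0001.card_subgroupOf_of_le hK'L]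
    exact Nat.Coprime.pow_left k hcK.symm
  have hsolv : Group.IsSolvable (N.subgroupOf L) := by
    have := hNL.isNilpotent
    infer_instance
  obtain ⟨x, hx, hconj⟩ := S0001.sz_conj_mem (N.subgroupOf L) (K'.subgroupOf L)
    (K₁'.subgroupOf L) hc hc₁ hcop (Or.inl hsolv)
  have hconj' : MulAut.conj (x : G) • K' = K₁' := S0001.conj_of_subgroupOf x hK'L hK₁'L hconj
  obtain ⟨n, hn⟩ : ∃ n : G, n = (x : G) := ⟨_, rfl⟩
  rw [← hn] at hconj'
  have hnN : n ∈ N := hn ▸ Subgroup.mem_subgroupOf.mp hx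
  refine ⟨n, hnN, ?_⟩
  have hmemK₁ : ∀ g, g ∈ K₁' ↔ n⁻¹ * g * n ∈ K' := by
    intro g
    rw [← hconj', Subgroup.mem_pointwise_smul_iff_inv_smul_mem]
    simp [MulAut.smul_def]
  have hKnorm : ∀ a ∈ A, ∀ k ∈ K', a * k * a⁻¹ ∈ K' := by
    intro a ha k hk
    obtain ⟨k0, hk0, rfl⟩ := Subgroup.mem_map.mp hk
    exact Subgroup.mem_map.mpr ⟨⟨a, ha⟩ * k0 * ⟨a, ha⟩⁻¹, hKn.conj_mem k0 hk0 ⟨a, ha⟩, rfl⟩
  have hK₁norm : ∀ a ∈ A₁, ∀ k ∈ K₁', a * k * a⁻¹ ∈ K₁' := by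
    intro a ha k hk
    obtain ⟨k0, hk0, rfl⟩ := Subgroup.mem_map.mp hk
    exact Subgroup.mem_map.mpr ⟨⟨a, ha⟩ * k0 * ⟨a, ha⟩⁻¹, hK₁n.conj_mem k0 hk0 ⟨a, ha⟩, rfl⟩
  obtain ⟨M, hM⟩ : ∃ M : Subgroup G, M = Subgroup.normalizer (K₁' : Set G) := ⟨_, rfl⟩
  have hA₁M : A₁ ≤ M := by
    intro a ha
    rw [hM]
    exact Subgroup.mem_normalizer_fintype (hK₁norm a ha)
  have hA'M : ∀ a ∈ A, n * a * n⁻¹ ∈ M := by
    intro a ha
    rw [hM]
    apply Subgroup.mem_normalizer_fintype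
    intro k hk0
    have hk : k ∈ K₁' := hk0
    show n * a * n⁻¹ * k * (n * a * n⁻¹)⁻¹ ∈ K₁'
    rw [hmemK₁] at hk ⊢
    have := hKnorm a ha _ hk
    have e : n⁻¹ * (n * a * n⁻¹ * k * (n * a * n⁻¹)⁻¹) * n = a * (n⁻¹ * k * n) * a⁻¹ := by group
    rw [e]; exact this
  have hMnorm : ∀ m ∈ M, ∀ k ∈ K₁', m * k * m⁻¹ ∈ K₁' := by
    intro m hm k hk
    rw [hM, Subgroup.mem_normalizer_iff] at hm
    exact (hm k).mp hk
  -- the claim
  have hCbot : N ⊓ M = ⊥ := by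
    by_contra hne
    obtain ⟨P₁', hP₁'⟩ : ∃ Q : Subgroup G, Q = (P₁ : Subgroup A₁).map A₁.subtype := ⟨_, rfl⟩
    have hP₁p : IsPGroup p P₁' := hP₁' ▸ P₁.2.map _
    have hP₁A : P₁' ≤ A₁ := hP₁' ▸ Subgroup.map_subtype_le _
    have hcent : ∀ c ∈ N ⊓ M, ∀ k ∈ K₁', k * c * k⁻¹ = c := by
      intro c hc k hk
      have h1 : c * k * c⁻¹ * k⁻¹ ∈ K₁' := K₁'.mul_mem (hMnorm c hc.2 k hk) (K₁'.inv_mem hk)
      have h2 : c * k * c⁻¹ * k⁻¹ ∈ N := by
        have : c * k * c⁻¹ * k⁻¹ = c * (k * c⁻¹ * k⁻¹) := by group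
        rw [this]
        exact N.mul_mem hc.1 (‹N.Normal›.conj_mem _ (N.inv_mem hc.1) k)
      have h3 : c * k * c⁻¹ * k⁻¹ ∈ A₁ ⊓ N := ⟨hK₁'A h1, h2⟩
      rw [hA₁.disjoint.eq_bot, Subgroup.mem_bot] at h3
      have h4 : k * c * k⁻¹ = (c * k * c⁻¹ * k⁻¹)⁻¹ * c := by group
      rw [h4, h3]; simp
    obtain ⟨c, hcC, hc1, hcfix⟩ := exists_fixed_ne_one (N ⊓ M) P₁' (hN.to_le inf_le_left) hP₁p
      (fun g hg c hc => ⟨‹N.Normal›.conj_mem c hc.1 g,
        M.mul_mem (M.mul_mem (hA₁M (hP₁A hg)) hc.2) (M.inv_mem (hA₁M (hP₁A hg)))⟩) hne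
    apply hc1
    apply hC₁ c hcC.1
    intro a ha
    obtain ⟨⟨⟨k, hk⟩, ⟨q, hq⟩⟩, hkq⟩ := hK₁.2 ⟨a, ha⟩
    simp only at hkq
    have hkq' : (k : G) * (q : G) = a := congrArg Subtype.val hkq
    have hk' : (k : G) ∈ K₁' := Subgroup.mem_map.mpr ⟨k, hk, rfl⟩
    have hq' : (q : G) ∈ P₁' := hP₁' ▸ Subgroup.mem_map.mpr ⟨q, hq, rfl⟩
    rw [← hkq']
    have e : (k : G) * (q : G) * c * ((k : G) * (q : G))⁻¹
        = (k : G) * ((q : G) * c * (q : G)⁻¹) * (k : G)⁻¹ := by group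
    rw [e, hcfix _ hq', hcent c hcC _ hk']
  have hle : A.map (MulAut.conj n).toMonoidHom ≤ A₁ := by
    rintro _ ⟨a, ha, rfl⟩
    have h1 : n * a * n⁻¹ ∈ M := hA'M a ha
    obtain ⟨⟨⟨a₁, ha₁⟩, ⟨y, hy⟩⟩, hay⟩ := hA₁.2 (n * a * n⁻¹)
    simp only at hay
    have h2 : y ∈ N ⊓ M := by
      refine ⟨hy, ?_⟩
      have : y = a₁⁻¹ * (n * a * n⁻¹) := by rw [← hay]; group
      rw [this]
      exact M.mul_mem (M.inv_mem (hA₁M ha₁)) h1
    rw [hCbot, Subgroup.mem_bot] at h2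
    rw [h2, mul_one] at hay
    show n * a * n⁻¹ ∈ A₁
    rw [← hay]; exact ha₁
  have hcard : Nat.card A₁ ≤ Nat.card (A.map (MulAut.conj n).toMonoidHom) := by
    rw [Subgroup.card_map_of_injective (MulAut.conj n).injective, ← hA.index_eq_card,
      ← hA₁.index_eq_card]
  exact (Subgroup.eq_of_le_of_card_ge hle hcard).symm

end Cfsg.Agent.S4043
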