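import Cfsg.Statements.S3215
import Cfsg.Agent.S0017
import Cfsg.Agent.S0044
import Cfsg.Agent.S4043
import Cfsg.Agent.Lib.Helper24.Coprime
import Cfsg.Agent.Lib.Helper31.SigBasic
import Cfsg.Agent.Lib.Helper47.Basic
import Cfsg.Agent.Lib.Helper71.Fitting
import Cfsg.Agent.Lib.Helper65.NilCoprime
import Cfsg.Agent.Lib.Helper90.Invert
import Cfsg.Agent.Lib.Helper54.FpfCyclic

set_option autoImplicit false
open Cfsg

namespace Cfsg.Agent.S3215

open Subgroup
open Cfsg.Agent.Lib.Helper54.UniqueSubgroup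
open Cfsg.Agent.Lib.Helper54.FpfNorm
open Cfsg.Agent.Lib.Helper54.FpfCyclic
open Cfsg.Agent.Lib.Helper47.Basic

universe u

theorem eq_one_of_pow_two_pow_of_odd {G : Type*} [Group G] {x : G} {k m : ℕ}
    (h2 : x ^ 2 ^ k = 1) (hm : Odd m) (hxm : x ^ m = 1) : x = 1 := by
  have h1 : orderOf x ∣ 2 ^ k := orderOf_dvd_of_pow_eq_one h2
  have h3 : orderOf x ∣ m := orderOf_dvd_of_pow_eq_one hxm
  have hcop : Nat.Coprime (2 ^ k) m := Nat.Coprime.pow_left k (Nat.coprime_two_left.2 hm)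
  exact orderOf_eq_one_iff.1 (Nat.eq_one_of_dvd_coprimes hcop h1 h3)

theorem eq_one_of_mem_of_odd {G : Type*} [Group G] {Y : Subgroup G} (hY : IsPGroup 2 Y) {x : G}
    (hx : x ∈ Y) (hodd : Odd (orderOf x)) : x = 1 := by
  obtain ⟨k, hk⟩ := hY ⟨x, hx⟩
  have hk' : x ^ 2 ^ k = 1 := by
    have := congrArg Subtype.val hk
    simpa using this
  exact eq_one_of_pow_two_pow_of_odd hk' hodd (pow_orderOf_eq_one x)

/-- Odd-order elements of an involution centralizer with a normal `2`-complement centralize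
the fixed points of the involution on `O_2`. -/
theorem commute_of_complement {H : Type u} [Group H] [Finite H] (t : H)
    (hI : HasNormalPComplement 2 ↥(centralizer ({t} : Set H)))
    (x : H) (hx : Odd (orderOf x)) (hxt : x * t = t * x)
    (d : H) (hd : d ∈ pCore 2 H) (hdt : d * t = t * d) : x * d = d * x := by
  have h2 : Fact (Nat.Prime 2) := ⟨Nat.prime_two⟩
  obtain ⟨P, N, hN, hcomp⟩ := hI
  have hxC : x ∈ centralizer ({t} : Set H) := by
    rw [mem_centralizer_iff]; intro h hh; rw [Set.mem_singleton_iff] at hh; subst hh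
    exact hxt.symm
  have hdC : d ∈ centralizer ({t} : Set H) := by
    rw [mem_centralizer_iff]; intro h hh; rw [Set.mem_singleton_iff] at hh; subst hh
    exact hdt.symm
  have hidx : N.index = Nat.card (P : Subgroup ↥(centralizer ({t} : Set H))) :=
    hcomp.symm.index_eq_card
  have hNcard : Nat.card N = (P : Subgroup ↥(centralizer ({t} : Set H))).index :=
    hcomp.index_eq_card.symm
  obtain ⟨a, ha⟩ := (P.isPGroup').exists_card_eq
  have hNodd : Odd (Nat.card N) := by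
    rw [hNcard, ← Nat.not_even_iff_odd, even_iff_two_dvd]
    exact P.not_dvd_index
  -- `x ∈ N`
  have hxN : (⟨x, hxC⟩ : ↥(centralizer ({t} : Set H))) ∈ N := by
    rw [← QuotientGroup.eq_one_iff]
    apply eq_one_of_pow_two_pow_of_odd (k := a) (m := orderOf x) _ hx
    · rw [← QuotientGroup.mk_pow]
      have : (⟨x, hxC⟩ : ↥(centralizer ({t} : Set H))) ^ orderOf x = 1 :=
        Subtype.ext (by simp [pow_orderOf_eq_one])
      rw [this, QuotientGroup.mk_one]
    · have h1 : Nat.card (↥(centralizer ({t} : Set H)) ⧸ N) = 2 ^ a := by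
        rw [← Subgroup.index_eq_card, hidx, ha]
      rw [← h1]
      exact pow_card_eq_one'
  -- the commutator lies in `N` and in `O_2`
  have hc1 : (⟨d, hdC⟩ : ↥(centralizer ({t} : Set H))) * ⟨x, hxC⟩ * (⟨d, hdC⟩)⁻¹ * (⟨x, hxC⟩)⁻¹ ∈ N :=
    N.mul_mem (hN.conj_mem _ hxN _) (N.inv_mem hxN)
  have hYn : (pCore 2 H).Normal := pCore_normal 2 H
  have hYp : IsPGroup 2 (pCore 2 H) := pCore_isPGroup 2 H
  have hc2 : d * x * d⁻¹ * x⁻¹ ∈ pCore 2 H := by
    have h3 : x * d⁻¹ * x⁻¹ ∈ pCore 2 H := hYn.conj_mem _ (inv_mem hd) _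
    have h4 : d * x * d⁻¹ * x⁻¹ = d * (x * d⁻¹ * x⁻¹) := by group
    rw [h4]; exact mul_mem hd h3
  obtain ⟨j, hj⟩ := hYp ⟨_, hc2⟩
  have hj' : (d * x * d⁻¹ * x⁻¹) ^ 2 ^ j = 1 := by
    have := congrArg Subtype.val hj
    simpa using this
  have hc3 : (⟨d, hdC⟩ : ↥(centralizer ({t} : Set H))) * ⟨x, hxC⟩ * (⟨d, hdC⟩)⁻¹ * (⟨x, hxC⟩)⁻¹ = 1 := by
    have h5 : (⟨_, hc1⟩ : ↥N) ^ Nat.card N = 1 := pow_card_eq_one'
    have h6 : ((⟨_, hc1⟩ : ↥N) : ↥(centralizer ({t} : Set H))) ^ Nat.card N = 1 := by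
      rw [← Subgroup.coe_pow, h5]; rfl
    apply eq_one_of_pow_two_pow_of_odd (k := j) (m := Nat.card N) _ hNodd
    · exact h6
    · apply Subtype.ext
      simpa using hj'
  have h7 := congrArg Subtype.val hc3
  have h8 : d * x * d⁻¹ * x⁻¹ = 1 := by simpa using h7
  calc x * d = (d * x * d⁻¹ * x⁻¹)⁻¹ * (d * x) := by group
    _ = d * x := by rw [h8, inv_one, one_mul]

/-- Elements of odd order act fixed-point-freely on `O_2(H)`. -/
theorem fpf {H : Type u} [Group H] [Finite H]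
    (hC : centralizer (pCore 2 H : Set H) ≤ pCore 2 H)
    (hI : ∀ t : H, orderOf t = 2 → HasNormalPComplement 2 ↥(centralizer ({t} : Set H)))
    (x : H) (hx : Odd (orderOf x)) (y : H) (hy : y ∈ pCore 2 H) (hy1 : y ≠ 1)
    (hxy : x * y = y * x) : x = 1 := by
  have h2 : Fact (Nat.Prime 2) := ⟨Nat.prime_two⟩
  have hYn : (pCore 2 H).Normal := pCore_normal 2 H
  have hYp : IsPGroup 2 (pCore 2 H) := pCore_isPGroup 2 H
  obtain ⟨m, hm1, hm2⟩ := exists_pow_prime hYp (u := (⟨y, hy⟩ : ↥(pCore 2 H)))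
    (fun h => hy1 (by simpa using congrArg Subtype.val h))
  have ht1 : y ^ m ≠ 1 := fun h => hm1 (Subtype.ext (by simpa using h))
  have ht2 : (y ^ m) ^ 2 = 1 := by simpa using congrArg Subtype.val hm2
  have ht : orderOf (y ^ m) = 2 := orderOf_eq_prime ht2 ht1
  have htY : y ^ m ∈ pCore 2 H := pow_mem hy m
  have hxt : x * y ^ m = y ^ m * x := ((show Commute x y from hxy).pow_right m).eq
  have hkey := commute_of_complement (y ^ m) (hI _ ht) x hx hxt
  have hnorm : normalizer ((pCore 2 H : Subgroup H) : Set H) = ⊤ := normalizer_eq_top_iff.2 hYn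
  have hall := Cfsg.Agent.Lib.Helper24.Coprime.thompson_AxB 2 (pCore 2 H) hYp (zpowers (y ^ m))
    (by rw [zpowers_le]; exact htY) x (Nat.coprime_two_right.2 hx)
    (by
      intro b hb
      obtain ⟨i, rfl⟩ := mem_zpowers_iff.1 hb
      exact (((show Commute x (y ^ m) from hxt).zpow_right i).eq).symm)
    (pCore 2 H) le_rfl (by rw [hnorm]; exact mem_top _) (by rw [hnorm]; exact le_top)
    (by
      intro q hq hqb
      exact (hkey q hq (hqb _ (mem_zpowers _)).symm).symm)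
  have hxC : x ∈ centralizer ((pCore 2 H : Subgroup H) : Set H) := by
    rw [mem_centralizer_iff]
    intro q hq
    exact hall q hq
  exact eq_one_of_mem_of_odd hYp (hC hxC) hx

/-- Centralizers of involutions contain no nontrivial elements of odd order. -/
theorem cit {H : Type u} [Group H] [Finite H]
    (hC : centralizer (pCore 2 H : Set H) ≤ pCore 2 H) (hY : pCore 2 H ≠ ⊥)
    (hI : ∀ t : H, orderOf t = 2 → HasNormalPComplement 2 ↥(centralizer ({t} : Set H)))
    (v : H) (hv : orderOf v = 2) (x : H) (hx : Odd (orderOf x)) (hxv : x * v = v * x) :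
    x = 1 := by
  have h2 : Fact (Nat.Prime 2) := ⟨Nat.prime_two⟩
  have hYn : (pCore 2 H).Normal := pCore_normal 2 H
  have hYp : IsPGroup 2 (pCore 2 H) := pCore_isPGroup 2 H
  have hv2 : v ^ 2 = 1 := by rw [← hv]; exact pow_orderOf_eq_one v
  obtain ⟨d, hdY, hd1, hdv⟩ := Cfsg.Agent.S4043.exists_fixed_ne_one (p := 2) (pCore 2 H)
    (zpowers v) hYp (isPGroup_zpowers hv2) (fun g _ c hc => hYn.conj_mem c hc g) hY
  have hdv' : d * v = v * d := by
    have h1 := hdv v (mem_zpowers v)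
    calc d * v = (v * d * v⁻¹) * v := by rw [h1]
      _ = v * d := by group
  have h3 := commute_of_complement v (hI v hv) x hx hxv d hdY hdv'
  exact fpf hC hI x hx d hdY hd1 h3

/-- Lifting an element of odd prime order `r` modulo a normal `2`-subgroup. -/
theorem exists_lift {H : Type u} [Group H] [Finite H] {Y : Subgroup H} [Y.Normal]
    (hYp : IsPGroup 2 Y) {r : ℕ} (hr : r.Prime) (hr2 : r ≠ 2) (f : H ⧸ Y) (hf : f ^ r = 1) :
    ∃ f₁ : H, (QuotientGroup.mk f₁ : H ⧸ Y) = f ∧ f₁ ^ r = 1 := by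
  obtain ⟨f₀, rfl⟩ := QuotientGroup.mk_surjective f
  have h1 : f₀ ^ r ∈ Y := by
    rw [← QuotientGroup.eq_one_iff, QuotientGroup.mk_pow]; exact hf
  obtain ⟨b, hb⟩ := hYp ⟨_, h1⟩
  have hb' : (f₀ ^ r) ^ 2 ^ b = 1 := by simpa using congrArg Subtype.val hb
  have hcop : Nat.Coprime (2 ^ b) r :=
    Nat.Coprime.pow_left b ((Nat.coprime_primes Nat.prime_two hr).2 (Ne.symm hr2))
  obtain ⟨m, -, hm⟩ := Nat.exists_mul_mod_eq_one_of_coprime hcop hr.one_lt
  refine ⟨f₀ ^ (2 ^ b * m), ?_, ?_⟩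
  · rw [QuotientGroup.mk_pow]
    have h3 : 2 ^ b * m = r * (2 ^ b * m / r) + 1 := by
      have h4 := Nat.div_add_mod (2 ^ b * m) r
      rw [hm] at h4
      exact h4.symm
    rw [h3, pow_succ, pow_mul, hf, one_pow, one_mul]
  · have h5 : 2 ^ b * m * r = r * 2 ^ b * m := by ring
    rw [← pow_mul, h5, pow_mul, pow_mul, hb', one_pow]

/-- `O_2(H / O_2(H)) = 1`. -/
theorem pCore_quot {H : Type u} [Group H] [(pCore 2 H).Normal] :
    pCore 2 (H ⧸ pCore 2 H) = ⊥ := by
  have hYp : IsPGroup 2 (pCore 2 H) := pCore_isPGroup 2 H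
  have hDn : (pCore 2 (H ⧸ pCore 2 H)).Normal := pCore_normal 2 _
  have hDp : IsPGroup 2 (pCore 2 (H ⧸ pCore 2 H)) := pCore_isPGroup 2 _
  have h1 : ((pCore 2 (H ⧸ pCore 2 H)).comap (QuotientGroup.mk' (pCore 2 H))).Normal :=
    hDn.comap _
  have h2 : IsPGroup 2 ((pCore 2 (H ⧸ pCore 2 H)).comap (QuotientGroup.mk' (pCore 2 H))) := by
    rintro ⟨d, hd⟩
    rw [Subgroup.mem_comap] at hd
    obtain ⟨k, hk⟩ := hDp ⟨_, hd⟩
    have hk' : (QuotientGroup.mk' (pCore 2 H) d) ^ 2 ^ k = 1 := by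
      simpa using congrArg Subtype.val hk
    have h3 : d ^ 2 ^ k ∈ pCore 2 H := by
      rw [← QuotientGroup.eq_one_iff, QuotientGroup.mk_pow]; exact hk'
    obtain ⟨j, hj⟩ := hYp ⟨_, h3⟩
    have hj' : (d ^ 2 ^ k) ^ 2 ^ j = 1 := by simpa using congrArg Subtype.val hj
    refine ⟨k + j, Subtype.ext ?_⟩
    show d ^ 2 ^ (k + j) = 1
    rw [pow_add, pow_mul]; exact hj'
  have h4 := le_pCore h1 h2
  rw [eq_bot_iff]
  intro q hq
  obtain ⟨d, rfl⟩ := QuotientGroup.mk_surjective q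
  have h5 : d ∈ pCore 2 H := h4 (by rw [Subgroup.mem_comap]; exact hq)
  rw [Subgroup.mem_bot]
  exact (QuotientGroup.eq_one_iff d).2 h5

theorem not_dvd_card_two_group {H : Type u} [Group H] [Finite H] {Y : Subgroup H}
    (hYp : IsPGroup 2 Y) {r : ℕ} (hr : r.Prime) (hr2 : r ≠ 2) : ¬ r ∣ Nat.card Y := by
  have : Fact (Nat.Prime 2) := ⟨Nat.prime_two⟩
  obtain ⟨j, hj⟩ := hYp.exists_card_eq
  rw [hj]
  intro h
  exact hr2 ((Nat.prime_dvd_prime_iff_eq hr Nat.prime_two).1 (hr.dvd_of_dvd_pow h))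

/-- In `H / O_2(H)` an involution commutes with no nontrivial element of odd order. -/
theorem quot_inv {H : Type u} [Group H] [Finite H] {Y : Subgroup H} [hYn : Y.Normal]
    (hYp : IsPGroup 2 Y)
    (hfpf : ∀ x : H, Odd (orderOf x) → ∀ y ∈ Y, y ≠ 1 → x * y = y * x → x = 1)
    (hcit : ∀ v : H, orderOf v = 2 → ∀ x : H, Odd (orderOf x) → x * v = v * x → x = 1)
    (u f : H ⧸ Y) (hu : orderOf u = 2) (hf : Odd (orderOf f)) (huf : u * f = f * u) : f = 1 := by
  by_contra hf1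
  have hn1 : orderOf f ≠ 1 := fun h => hf1 (orderOf_eq_one_iff.1 h)
  have hnpos : 0 < orderOf f := orderOf_pos f
  have hr : (orderOf f).minFac.Prime := Nat.minFac_prime hn1
  have hrn : (orderOf f).minFac ∣ orderOf f := Nat.minFac_dvd _
  have hr2 : (orderOf f).minFac ≠ 2 := by
    intro h; rw [h] at hrn
    exact (Nat.not_even_iff_odd.2 hf) (even_iff_two_dvd.2 hrn)
  generalize (orderOf f).minFac = r at hr hrn hr2
  have hf'r : (f ^ (orderOf f / r)) ^ r = 1 := by
    rw [← pow_mul, Nat.div_mul_cancel hrn]; exact pow_orderOf_eq_one f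
  have hf'1 : f ^ (orderOf f / r) ≠ 1 := by
    apply pow_ne_one_of_lt_orderOf
    · exact (Nat.div_pos (Nat.le_of_dvd hnpos hrn) hr.pos).ne'
    · exact Nat.div_lt_self hnpos hr.one_lt
  have hcomm : u * f ^ (orderOf f / r) = f ^ (orderOf f / r) * u :=
    ((show Commute u f from huf).pow_right _).eq
  obtain ⟨f₁, hf₁, hf₁r⟩ := exists_lift hYp hr hr2 (f ^ (orderOf f / r)) hf'r
  obtain ⟨u₁, hu₁⟩ := QuotientGroup.mk_surjective u
  have hf₁1 : f₁ ≠ 1 := by
    rintro rfl; apply hf'1; rw [← hf₁]; rfl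
  have : Fact r.Prime := ⟨hr⟩
  have hcardY : ¬ r ∣ Nat.card Y := not_dvd_card_two_group hYp hr hr2
  obtain ⟨y, hy, hcy⟩ := Cfsg.Agent.Lib.Helper31.SigBasic.exists_commute_in_coset f₁ hf₁r Y hcardY
    (fun n hn => hYn.conj_mem n hn f₁) u₁ (by
      rw [← QuotientGroup.eq_one_iff]
      simp only [QuotientGroup.mk_mul, QuotientGroup.mk_inv, hu₁, hf₁]
      rw [← hcomm]; group)
  have hmk : (QuotientGroup.mk (u₁ * y) : H ⧸ Y) = u := by
    rw [QuotientGroup.mk_mul, hu₁, (QuotientGroup.eq_one_iff y).2 hy, mul_one]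
  have hu2 : u ^ 2 = 1 := by rw [← hu]; exact pow_orderOf_eq_one u
  have hu1 : u ≠ 1 := by intro h; rw [h, orderOf_one] at hu; norm_num at hu
  have hu'sq : (u₁ * y) ^ 2 ∈ Y := by
    rw [← QuotientGroup.eq_one_iff, QuotientGroup.mk_pow, hmk]; exact hu2
  have hf₁odd : Odd (orderOf f₁) := by
    rw [orderOf_eq_prime hf₁r hf₁1]; exact hr.odd_of_ne_two hr2
  have hu'2 : (u₁ * y) ^ 2 = 1 := by
    by_contra h
    apply hf₁1
    exact hfpf f₁ hf₁odd ((u₁ * y) ^ 2) hu'sq h
      ((show Commute f₁ (u₁ * y) from hcy).pow_right 2).eq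
  have hu'1 : u₁ * y ≠ 1 := by
    intro h; apply hu1; rw [← hmk, h]; rfl
  have : Fact (Nat.Prime 2) := ⟨Nat.prime_two⟩
  have hu'ord : orderOf (u₁ * y) = 2 := orderOf_eq_prime hu'2 hu'1
  exact hf₁1 (hcit (u₁ * y) hu'ord f₁ hf₁odd hcy)

/-- In `H / O_2(H)` two commuting elements of odd prime order `r` generate a cyclic group. -/
theorem quot_cyc {H : Type u} [Group H] [Finite H] {Y : Subgroup H} [hYn : Y.Normal]
    (hYp : IsPGroup 2 Y) (hY : Y ≠ ⊥)
    (hfpf : ∀ x : H, Odd (orderOf x) → ∀ y ∈ Y, y ≠ 1 → x * y = y * x → x = 1)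
    (r : ℕ) (hr : r.Prime) (hr2 : r ≠ 2) (g h : H ⧸ Y) (hg : g ^ r = 1) (hh : h ^ r = 1)
    (hgh : g * h = h * g) (hg1 : g ≠ 1) : h ∈ zpowers g := by
  by_contra hnot
  have : Fact r.Prime := ⟨hr⟩
  have hodd : Odd r := hr.odd_of_ne_two hr2
  have hfpf' : ∀ w : H, w ^ r = 1 → w ≠ 1 → ∀ x ∈ Y, w * x = x * w → x = 1 := by
    intro w hw hw1 x hx hwx
    by_contra hx1
    exact hw1 (hfpf w (by rw [orderOf_eq_prime hw hw1]; exact hodd) x hx hx1 hwx)
  obtain ⟨g₁, hg₁, hg₁r⟩ := exists_lift hYp hr hr2 g hg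
  obtain ⟨h₁, hh₁, hh₁r⟩ := exists_lift hYp hr hr2 h hh
  have hg₁1 : g₁ ≠ 1 := by rintro rfl; apply hg1; rw [← hg₁]; rfl
  have hcardY : ¬ r ∣ Nat.card Y := not_dvd_card_two_group hYp hr hr2
  obtain ⟨y, hy, hcy⟩ := Cfsg.Agent.Lib.Helper31.SigBasic.exists_commute_in_coset g₁ hg₁r Y hcardY
    (fun n hn => hYn.conj_mem n hn g₁) h₁ (by
      rw [← QuotientGroup.eq_one_iff]
      simp only [QuotientGroup.mk_mul, QuotientGroup.mk_inv, hg₁, hh₁]
      rw [hgh]; group)
  have hmk : (QuotientGroup.mk (h₁ * y) : H ⧸ Y) = h := by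
    rw [QuotientGroup.mk_mul, hh₁, (QuotientGroup.eq_one_iff y).2 hy, mul_one]
  have hh₂r : (h₁ * y) ^ r = 1 := by
    by_contra hne
    have hmem : (h₁ * y) ^ r ∈ Y := by
      rw [← QuotientGroup.eq_one_iff, QuotientGroup.mk_pow, hmk]; exact hh
    exact hne (hfpf' g₁ hg₁r hg₁1 ((h₁ * y) ^ r) hmem
      ((show Commute g₁ (h₁ * y) from hcy).pow_right r).eq)
  have hcomm : Commute (h₁ * y) g₁ := (show Commute g₁ (h₁ * y) from hcy).symm
  apply false_of_fpf Y hY hcomm hh₂r hg₁r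
  · intro k _ x hx hwx
    apply hfpf' (h₁ * y * g₁ ^ k) _ _ x hx hwx
    · rw [(hcomm.pow_right k).mul_pow, hh₂r, ← pow_mul, mul_comm, pow_mul, hg₁r, one_pow,
        one_mul]
    · intro hw
      apply hnot
      have h3 : h * g ^ k = 1 := by
        rw [← hmk, ← hg₁, ← QuotientGroup.mk_pow, ← QuotientGroup.mk_mul, hw]; rfl
      have h4 : h = (g ^ k)⁻¹ := eq_inv_of_mul_eq_one_left h3
      rw [h4]
      exact inv_mem (pow_mem (mem_zpowers g) k)
  · intro i hi0 hir x hx hwx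
    apply hfpf' (g₁ ^ i) _ _ x hx hwx
    · rw [← pow_mul, mul_comm, pow_mul, hg₁r, one_pow]
    · apply pow_ne_one_of_lt_orderOf hi0.ne'
      rw [orderOf_eq_prime hg₁r hg₁1]; exact hir

theorem isPGroup_two_of_odd_trivial {G : Type*} [Group G] [Finite G] {F : Subgroup G}
    (h : ∀ x ∈ F, Odd (orderOf x) → x = 1) : IsPGroup 2 F := by
  rintro ⟨g, hg⟩
  obtain ⟨k, m, hm, hkm⟩ := Nat.exists_eq_two_pow_mul_odd (orderOf_pos g).ne'
  refine ⟨k, Subtype.ext ?_⟩
  have h1 : (g ^ 2 ^ k) ^ m = 1 := by rw [← pow_mul, ← hkm]; exact pow_orderOf_eq_one g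
  have h2 : Odd (orderOf (g ^ 2 ^ k)) := Odd.of_dvd_nat hm (orderOf_dvd_of_pow_eq_one h1)
  exact h _ (pow_mem hg _) h2

/-- The structure of the quotient `H / O_2(H)`. -/
theorem main_quot {G : Type u} [Group G] [Finite G] (hsol : Group.IsSolvable G)
    (hO2 : pCore 2 G = ⊥)
    (hinv : ∀ u f : G, orderOf u = 2 → Odd (orderOf f) → u * f = f * u → f = 1)
    (hcyc : ∀ r : ℕ, r.Prime → r ≠ 2 → ∀ g h : G, g ^ r = 1 → h ^ r = 1 → g * h = h * g →
      g ≠ 1 → h ∈ zpowers g)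
    (X : Subgroup G) (hXodd : Odd (Nat.card X)) (k : ℕ) (hXidx : X.index = 2 ^ k) :
    X.Normal ∧ ∀ hN : X.Normal, IsCyclic (G ⧸ X) := by
  classical
  have hf2 : Fact (Nat.Prime 2) := ⟨Nat.prime_two⟩
  by_cases hex : ∃ u : G, orderOf u = 2
  swap
  · have hodd : ¬ 2 ∣ Nat.card G := by
      intro h
      obtain ⟨u, hu⟩ := exists_prime_orderOf_dvd_card' 2 h
      exact hex ⟨u, hu⟩
    have hk : X.index = 1 := by
      have h1 : X.index ∣ Nat.card G := X.index_dvd_card
      rw [hXidx] at h1 ⊢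
      cases k with
      | zero => rfl
      | succ k => exact absurd (dvd_trans (dvd_pow_self 2 (Nat.succ_ne_zero k)) h1) hodd
    have hX : X = ⊤ := Subgroup.index_eq_one.1 hk
    subst hX
    refine ⟨inferInstance, fun hN => ?_⟩
    have : Subsingleton (G ⧸ (⊤ : Subgroup G)) := QuotientGroup.subsingleton_quotient_top
    exact isCyclic_of_subsingleton
  obtain ⟨u₀, hu₀⟩ := hex
  have hFn : (fittingSubgroup G).Normal := Cfsg.Agent.Lib.Helper71.Fitting.fitting_normal G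
  have hFnil : Group.IsNilpotent (fittingSubgroup G) :=
    Cfsg.Agent.Lib.Helper71.Fitting.fitting_isNilpotent G
  have hCF : centralizer (fittingSubgroup G : Set G) ≤ fittingSubgroup G :=
    Cfsg.Agent.S0044.result
  generalize fittingSubgroup G = F at hFn hFnil hCF
  -- no involution in `F`
  have hnoinv : ∀ t ∈ F, orderOf t ≠ 2 := by
    intro t ht hto
    have htriv : ∀ x ∈ F, Odd (orderOf x) → x = 1 := by
      intro x hx hxodd
      have hc := Cfsg.Agent.Lib.Helper65.NilCoprime.commute_of_coprime ↥F ⟨t, ht⟩ ⟨x, hx⟩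
        (isOfFinOrder_of_finite _) (isOfFinOrder_of_finite _) (by
          rw [Subgroup.orderOf_mk, Subgroup.orderOf_mk, hto]; exact Nat.coprime_two_left.2 hxodd)
      have hc' : t * x = x * t := by simpa using congrArg Subtype.val hc
      exact hinv t x hto hxodd hc'
    have hP : IsPGroup 2 F := isPGroup_two_of_odd_trivial htriv
    have hle : F ≤ pCore 2 G := le_pCore hFn hP
    rw [hO2] at hle
    have ht1 : t = 1 := by simpa using hle ht
    rw [ht1, orderOf_one] at hto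
    norm_num at hto
  have hFodd : ∀ x ∈ F, Odd (orderOf x) := by
    intro x hx
    rw [← Nat.not_even_iff_odd]
    intro hev
    obtain ⟨m, hm⟩ := hev
    have hpos := orderOf_pos x
    have hm0 : m ≠ 0 := by omega
    apply hnoinv (x ^ m) (pow_mem hx m)
    rw [orderOf_pow_of_dvd hm0 ⟨2, by omega⟩, hm, ← two_mul]
    exact Nat.mul_div_cancel 2 (by omega)
  -- involutions invert `F`
  have hinvF : ∀ u : G, orderOf u = 2 → ∀ f ∈ F, u * f * u⁻¹ = f⁻¹ := by
    intro u hu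
    have hu2 : u * u = 1 := by rw [← pow_two, ← hu]; exact pow_orderOf_eq_one u
    exact Cfsg.Agent.Lib.Helper90.Invert.inverts_of_fixed_point_free F u hu2
      (fun k hk => hFn.conj_mem k hk u) (fun k hk hc => hinv u k hu (hFodd k hk) hc)
  -- `F` is abelian
  have hFab : ∀ x ∈ F, ∀ y ∈ F, x * y = y * x := by
    intro x hx y hy
    have h1 := hinvF u₀ hu₀ x hx
    have h2 := hinvF u₀ hu₀ y hy
    have h3 := hinvF u₀ hu₀ (x * y) (mul_mem hx hy)
    have h4 : u₀ * (x * y) * u₀⁻¹ = (u₀ * x * u₀⁻¹) * (u₀ * y * u₀⁻¹) := by group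
    rw [h4, h1, h2, mul_inv_rev] at h3
    have h5 : (x⁻¹ * y⁻¹)⁻¹ = (y⁻¹ * x⁻¹)⁻¹ := by rw [h3]
    simpa [mul_inv_rev] using h5.symm
  -- `F` is cyclic
  have hFcyc : IsCyclic ↥F := by
    apply isCyclic_of_comm_of_sylow (fun a b => Subtype.ext (hFab a a.2 b b.2))
    intro p hp P
    have hPp : IsPGroup p ↥(P : Subgroup ↥F) := P.isPGroup'
    apply isCyclic_of_comm hPp _
      (fun a b => Subtype.ext (Subtype.ext (hFab a.1 a.1.2 b.1 b.1.2)))
    intro g h hg hh hg1
    have hg' : ((g : ↥F) : G) ^ p = 1 := by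
      have := congrArg (fun z : ↥(P : Subgroup ↥F) => ((z : ↥F) : G)) hg
      simpa using this
    have hh' : ((h : ↥F) : G) ^ p = 1 := by
      have := congrArg (fun z : ↥(P : Subgroup ↥F) => ((z : ↥F) : G)) hh
      simpa using this
    have hg1' : ((g : ↥F) : G) ≠ 1 := by
      intro h0; apply hg1; apply Subtype.ext; apply Subtype.ext; simpa using h0
    by_cases hp2 : p = 2
    · exfalso
      subst hp2
      exact hnoinv _ (g : ↥F).2 (orderOf_eq_prime hg' hg1')
    · have h1 := hcyc p hp.out hp2 _ _ hg' hh' (hFab _ (g : ↥F).2 _ (h : ↥F).2) hg1'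
      obtain ⟨i, hi⟩ := mem_zpowers_iff.1 h1
      rw [mem_zpowers_iff]
      refine ⟨i, ?_⟩
      apply Subtype.ext; apply Subtype.ext
      simpa using hi
  obtain ⟨c, hc⟩ := hFcyc.exists_generator
  have hcgen : ∀ f ∈ F, ∃ i : ℤ, (c : G) ^ i = f := by
    intro f hf
    obtain ⟨i, hi⟩ := mem_zpowers_iff.1 (hc ⟨f, hf⟩)
    exact ⟨i, by simpa using congrArg Subtype.val hi⟩
  -- commutators lie in `F`
  have hcomm : ∀ a b : G, a⁻¹ * b⁻¹ * a * b ∈ F := by
    intro a b
    apply hCF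
    rw [mem_centralizer_iff]
    intro f hf
    obtain ⟨n, rfl⟩ := hcgen f hf
    obtain ⟨i, hi⟩ := hcgen (a * c * a⁻¹) (hFn.conj_mem _ c.2 a)
    obtain ⟨j, hj⟩ := hcgen (b * c * b⁻¹) (hFn.conj_mem _ c.2 b)
    have h1 : a * (b * c * b⁻¹) * a⁻¹ = (c : G) ^ (i * j) := by
      rw [← hj, ← conj_zpow, ← hi, ← zpow_mul]
    have h2 : b * (a * c * a⁻¹) * b⁻¹ = (c : G) ^ (i * j) := by
      rw [← hi, ← conj_zpow, ← hj, ← zpow_mul, mul_comm]
    have h3 : (a⁻¹ * b⁻¹ * a * b) * c = c * (a⁻¹ * b⁻¹ * a * b) := by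
      calc (a⁻¹ * b⁻¹ * a * b) * c = a⁻¹ * b⁻¹ * (a * (b * c * b⁻¹) * a⁻¹) * (a * b) := by group
        _ = a⁻¹ * b⁻¹ * (b * (a * c * a⁻¹) * b⁻¹) * (a * b) := by rw [h1, h2]
        _ = c * (a⁻¹ * b⁻¹ * a * b) := by group
    exact (((show Commute (a⁻¹ * b⁻¹ * a * b) (c : G) from h3).zpow_right n).eq).symm
  -- products of two involutions lie in `F`
  have hprod : ∀ u v : G, orderOf u = 2 → orderOf v = 2 → u * v ∈ F := by
    intro u v hu hv
    apply hCF
    rw [mem_centralizer_iff]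
    intro f hf
    have h1 := hinvF v hv f hf
    have h2 := hinvF u hu f⁻¹ (inv_mem hf)
    have h3 : u * v * f * (u * v)⁻¹ = f := by
      calc u * v * f * (u * v)⁻¹ = u * (v * f * v⁻¹) * u⁻¹ := by group
        _ = f := by rw [h1, h2, inv_inv]
    calc f * (u * v) = (u * v * f * (u * v)⁻¹) * (u * v) := by rw [h3]
      _ = u * v * f := by group
  -- `F ≤ X`
  have hFX : F ≤ X := by
    have hFcardodd : Odd (Nat.card F) := by
      rw [← Nat.not_even_iff_odd, even_iff_two_dvd]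
      intro h
      obtain ⟨t, ht⟩ := exists_prime_orderOf_dvd_card' (G := ↥F) 2 h
      exact hnoinv t t.2 (by rw [Subgroup.orderOf_coe]; exact ht)
    have h1 : Nat.card ↥(F ⊔ X) ∣ Nat.card F * Nat.card X :=
      Cfsg.Agent.Lib.Helper31.SigBasic.card_sup_dvd F X
        (by rw [normalizer_eq_top_iff.2 hFn]; exact le_top)
    have h2 : Odd (Nat.card ↥(F ⊔ X)) := Odd.of_dvd_nat (hFcardodd.mul hXodd) h1
    have h3 : X.relIndex (F ⊔ X) ∣ Nat.card ↥(F ⊔ X) := Subgroup.relIndex_dvd_card _ _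
    have h4 : X.relIndex (F ⊔ X) ∣ 2 ^ k := by
      rw [← hXidx]; exact ⟨_, (Subgroup.relIndex_mul_index (le_sup_right : X ≤ F ⊔ X)).symm⟩
    obtain ⟨j, -, hj⟩ := (Nat.dvd_prime_pow Nat.prime_two).1 h4
    have h5 : X.relIndex (F ⊔ X) = 1 := by
      have h6 : Odd (X.relIndex (F ⊔ X)) := Odd.of_dvd_nat h2 h3
      rw [hj] at h6 ⊢
      cases j with
      | zero => rfl
      | succ j =>
        exact absurd h6 (by rw [Nat.not_odd_iff_even]; exact ⟨2 ^ j, by ring⟩)
    exact le_trans le_sup_left (Subgroup.relIndex_eq_one.1 h5)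
  have hXn : X.Normal := by
    constructor
    intro x hx g
    have h1 : g * x * g⁻¹ = (g * x * g⁻¹ * x⁻¹) * x := by group
    rw [h1]
    apply mul_mem _ hx
    apply hFX
    have h2 := hcomm g⁻¹ x⁻¹
    simpa using h2
  refine ⟨hXn, fun hN => ?_⟩
  have hQcomm : ∀ a b : G ⧸ X, a * b = b * a := by
    intro a b
    obtain ⟨a, rfl⟩ := QuotientGroup.mk_surjective a
    obtain ⟨b, rfl⟩ := QuotientGroup.mk_surjective b
    rw [← QuotientGroup.mk_mul, ← QuotientGroup.mk_mul, QuotientGroup.eq]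
    apply hFX
    have h2 := hcomm b a
    have h3 : (a * b)⁻¹ * (b * a) = b⁻¹ * a⁻¹ * b * a := by group
    rw [h3]; exact h2
  have hQp : IsPGroup 2 (G ⧸ X) :=
    IsPGroup.of_card (n := k) (by rw [← Subgroup.index_eq_card, hXidx])
  have hlift : ∀ q : G ⧸ X, q ^ 2 = 1 → q ≠ 1 →
      ∃ u : G, orderOf u = 2 ∧ (QuotientGroup.mk u : G ⧸ X) = q := by
    intro q hq hq1
    obtain ⟨u₁, rfl⟩ := QuotientGroup.mk_surjective q
    obtain ⟨a, m, hm, ham⟩ := Nat.exists_eq_two_pow_mul_odd (orderOf_pos u₁).ne'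
    have hmk : (QuotientGroup.mk (u₁ ^ m) : G ⧸ X) = QuotientGroup.mk u₁ := by
      rw [QuotientGroup.mk_pow]
      obtain ⟨j, hj⟩ := hm
      rw [hj, pow_succ, pow_mul, hq, one_pow, one_mul]
    have h1 : (u₁ ^ m) ^ 2 ^ a = 1 := by
      rw [← pow_mul, mul_comm, ← ham]; exact pow_orderOf_eq_one u₁
    have h2 : (u₁ ^ m) ^ 2 ∈ X := by
      rw [← QuotientGroup.eq_one_iff, QuotientGroup.mk_pow, hmk]; exact hq
    have h3 : (u₁ ^ m) ^ 2 = 1 := by
      have h4 : (⟨_, h2⟩ : ↥X) ^ Nat.card X = 1 := pow_card_eq_one'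
      have h5 : ((u₁ ^ m) ^ 2) ^ Nat.card X = 1 := by
        have h6 : (((⟨_, h2⟩ : ↥X) ^ Nat.card X : ↥X) : G) = 1 := by rw [h4]; rfl
        rw [Subgroup.coe_pow] at h6
        exact h6
      apply eq_one_of_pow_two_pow_of_odd (k := a) _ hXodd h5
      rw [← pow_mul, mul_comm, pow_mul, h1, one_pow]
    have h6 : u₁ ^ m ≠ 1 := by
      intro h; apply hq1; rw [← hmk, h]; rfl
    exact ⟨u₁ ^ m, orderOf_eq_prime h3 h6, hmk⟩
  have hUI : UI 2 (G ⧸ X) := by
    intro g h hg hh hg1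
    by_cases hh1 : h = 1
    · rw [hh1]; exact one_mem _
    obtain ⟨u, hu, rfl⟩ := hlift g hg hg1
    obtain ⟨v, hv, rfl⟩ := hlift h hh hh1
    have h1 : u * v ∈ X := hFX (hprod u v hu hv)
    have h2 : (QuotientGroup.mk u : G ⧸ X) * QuotientGroup.mk v = 1 := by
      rw [← QuotientGroup.mk_mul]; exact (QuotientGroup.eq_one_iff _).2 h1
    have h3 : (QuotientGroup.mk v : G ⧸ X) = (QuotientGroup.mk u)⁻¹ :=
      eq_inv_of_mul_eq_one_right h2
    rw [h3]; exact inv_mem (mem_zpowers _)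
  exact isCyclic_of_comm hQp hUI hQcomm

/-- Let H be a finite solvable group with no nontrivial normal subgroup of odd order in which the centralizer of every involution has a normal 2-complement. Let X be a Hall 2'-subgroup of H (odd order, index a power of 2) and Y = O₂(H). Then no non-identity element of X commutes with a non-identity element of Y (so for X ≠ 1 the group XY is a Frobenius group with kernel Y), every Sylow subgroup of X is cyclic, XY is normal in H, and H/XY is a cyclic 2-group. -/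
theorem result {H : Type*} [Group H] [Finite H] (hsol : Group.IsSolvable H)
    (hO : Cfsg.oddCore H = ⊥)
    (hI : ∀ t : H, orderOf t = 2 → Cfsg.HasNormalPComplement 2 ↥(Subgroup.centralizer ({t} : Set H)))
    (X : Subgroup H) (hXodd : Odd (Nat.card X)) (hXidx : ∃ k : ℕ, X.index = 2 ^ k) :
    (∀ x ∈ X, x ≠ 1 → ∀ y ∈ Cfsg.pCore 2 H, y ≠ 1 → x * y ≠ y * x) ∧
      (∀ (p : ℕ) [Fact p.Prime] (P : Sylow p ↥X), IsCyclic ↥(P : Subgroup ↥X)) ∧
      (X ⊔ Cfsg.pCore 2 H).Normal ∧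
      ∀ hN : (X ⊔ Cfsg.pCore 2 H).Normal, IsCyclic (H ⧸ (X ⊔ Cfsg.pCore 2 H)) ∧ IsPGroup 2 (H ⧸ (X ⊔ Cfsg.pCore 2 H)) := by
  classical
  have hf2 : Fact (Nat.Prime 2) := ⟨Nat.prime_two⟩
  have hYn : (pCore 2 H).Normal := pCore_normal 2 H
  have hYp : IsPGroup 2 (pCore 2 H) := pCore_isPGroup 2 H
  have hCY : centralizer (pCore 2 H : Set H) ≤ pCore 2 H := Cfsg.Agent.S0017.result 2 hO
  by_cases hY : pCore 2 H = ⊥
  · have hsub : Subsingleton H := by
      constructor
      intro a b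
      have h1 : ∀ g : H, g = 1 := by
        intro g
        have hg : g ∈ centralizer ((pCore 2 H : Subgroup H) : Set H) := by
          rw [mem_centralizer_iff]
          intro h hh
          rw [hY] at hh
          have h0 : h = 1 := by simpa using hh
          rw [h0, one_mul, mul_one]
        have h3 := hCY hg
        rw [hY] at h3
        simpa using h3
      rw [h1 a, h1 b]
    refine ⟨?_, ?_, ?_, ?_⟩
    · intro x _ hx1; exact absurd (Subsingleton.elim x 1) hx1
    · intro p _ P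
      have : Subsingleton ↥(P : Subgroup ↥X) :=
        ⟨fun a b => Subtype.ext (Subtype.ext (Subsingleton.elim _ _))⟩
      exact isCyclic_of_subsingleton
    · constructor
      intro n hn g
      rw [Subsingleton.elim (g * n * g⁻¹) n]; exact hn
    · intro hN
      have : Subsingleton (H ⧸ (X ⊔ pCore 2 H)) := by
        constructor
        intro a b
        obtain ⟨a', rfl⟩ := QuotientGroup.mk_surjective a
        obtain ⟨b', rfl⟩ := QuotientGroup.mk_surjective b
        rw [Subsingleton.elim a' b']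
      exact ⟨isCyclic_of_subsingleton, fun g => ⟨0, Subsingleton.elim _ _⟩⟩
  · have hfpf := fpf hCY hI
    have hcit := cit hCY hY hI
    have hXel : ∀ x ∈ X, Odd (orderOf x) := by
      intro x hx
      have h1 : orderOf (⟨x, hx⟩ : ↥X) ∣ Nat.card X := orderOf_dvd_natCard _
      rw [Subgroup.orderOf_mk] at h1
      exact Odd.of_dvd_nat hXodd h1
    obtain ⟨k, hk⟩ := hXidx
    have hquot := main_quot (G := H ⧸ pCore 2 H) inferInstance pCore_quot
      (fun u f hu hf huf => quot_inv hYp hfpf hcit u f hu hf huf)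
      (fun r hr hr2 g h hg hh hgh hg1 => quot_cyc hYp hY hfpf r hr hr2 g h hg hh hgh hg1)
      (X.map (QuotientGroup.mk' (pCore 2 H)))
      (Odd.of_dvd_nat hXodd (Subgroup.card_map_dvd _ _))
    have hidx : ∃ k', (X.map (QuotientGroup.mk' (pCore 2 H))).index = 2 ^ k' := by
      have h1 : (X.map (QuotientGroup.mk' (pCore 2 H))).index ∣ X.index :=
        Subgroup.index_map_dvd X (QuotientGroup.mk'_surjective _)
      rw [hk] at h1
      obtain ⟨j, -, hj⟩ := (Nat.dvd_prime_pow Nat.prime_two).1 h1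
      exact ⟨j, hj⟩
    obtain ⟨k', hk'⟩ := hidx
    obtain ⟨hXbn, hXbc⟩ := hquot k' hk'
    have hsup : X ⊔ pCore 2 H =
        (X.map (QuotientGroup.mk' (pCore 2 H))).comap (QuotientGroup.mk' (pCore 2 H)) := by
      rw [Subgroup.comap_map_eq, QuotientGroup.ker_mk']
    have hsupn : (X ⊔ pCore 2 H).Normal := by rw [hsup]; exact hXbn.comap _
    refine ⟨?_, ?_, hsupn, ?_⟩
    · intro x hx hx1 y hy hy1 hxy
      exact hx1 (hfpf x (hXel x hx) y hy hy1 hxy)
    · intro p hp P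
      by_cases hp2 : p = 2
      · subst hp2
        have : Subsingleton ↥(P : Subgroup ↥X) := by
          constructor
          intro a b
          have h1 : ∀ s : ↥(P : Subgroup ↥X), s = 1 := by
            intro s
            obtain ⟨j, hj⟩ := P.isPGroup' s
            have h3 : ((s : ↥X) : H) ^ 2 ^ j = 1 := by
              have := congrArg (fun z : ↥(P : Subgroup ↥X) => ((z : ↥X) : H)) hj
              simpa using this
            have h4 := eq_one_of_pow_two_pow_of_odd h3 (hXel _ (s : ↥X).2) (pow_orderOf_eq_one _)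
            apply Subtype.ext; apply Subtype.ext; simpa using h4
          rw [h1 a, h1 b]
        exact isCyclic_of_subsingleton
      · have hPp : IsPGroup p ↥(P : Subgroup ↥X) := P.isPGroup'
        have hUI : UI p ↥(P : Subgroup ↥X) := by
          apply ui_of_fpf (pCore 2 H) hY hPp (X.subtype.comp (P : Subgroup ↥X).subtype)
          intro s hs x hx hsx
          by_contra hx1
          apply hs
          have h1 := hfpf ((s : ↥X) : H) (hXel _ (s : ↥X).2) x hx hx1 hsx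
          apply Subtype.ext; apply Subtype.ext; simpa using h1
        exact isCyclic_of_odd hp2 (Nat.card ↥(P : Subgroup ↥X)) _ rfl hPp hUI
    · intro hN
      constructor
      · have : IsCyclic ((H ⧸ pCore 2 H) ⧸ X.map (QuotientGroup.mk' (pCore 2 H))) := hXbc hXbn
        let ψ : H ⧸ pCore 2 H →* H ⧸ (X ⊔ pCore 2 H) :=
          QuotientGroup.map (pCore 2 H) (X ⊔ pCore 2 H) (MonoidHom.id H) (by
            intro y hy; exact (le_sup_right : pCore 2 H ≤ X ⊔ pCore 2 H) hy)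
        have hψ : ∀ h : H, ψ (QuotientGroup.mk h) = QuotientGroup.mk h := fun h => rfl
        let φ : (H ⧸ pCore 2 H) ⧸ X.map (QuotientGroup.mk' (pCore 2 H)) →*
            H ⧸ (X ⊔ pCore 2 H) :=
          QuotientGroup.lift _ ψ (by
            intro q hq
            obtain ⟨x, hx, rfl⟩ := Subgroup.mem_map.1 hq
            rw [MonoidHom.mem_ker]
            show ψ (QuotientGroup.mk x) = 1
            rw [hψ]
            exact (QuotientGroup.eq_one_iff x).2 ((le_sup_left : X ≤ X ⊔ pCore 2 H) hx))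
        apply isCyclic_of_surjective φ
        intro q
        obtain ⟨h, rfl⟩ := QuotientGroup.mk_surjective q
        exact ⟨QuotientGroup.mk (QuotientGroup.mk h), rfl⟩
      · have h1 : (X ⊔ pCore 2 H).index ∣ X.index := Subgroup.index_dvd_of_le le_sup_left
        rw [hk] at h1
        obtain ⟨j, -, hj⟩ := (Nat.dvd_prime_pow Nat.prime_two).1 h1
        exact IsPGroup.of_card (n := j) (by rw [← Subgroup.index_eq_card, hj])

end Cfsg.Agent.S3215
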