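import Mathlib
import Cfsg.Statements.S3247
import Cfsg.Agent.Lib.Helper34.LBal1
import Cfsg.Agent.Lib.Helper22.PCons
import Cfsg.Agent.Lib.Helper22.PPrimeP
import Cfsg.Agent.Lib.Helper21.Comp
import Cfsg.Agent.S0631

set_option autoImplicit false
open Cfsg

namespace Cfsg.Agent.S3247

open Cfsg.Agent.Lib.Helper34.LBal1

/-- Transport of `p`-constraint along an isomorphism. -/
theorem isPConstrained_of_mulEquiv {A B : Type*} [Group A] [Group B] (p : ℕ) (e : A ≃* B)
    (hA : IsPConstrained p A) : IsPConstrained p B := by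
  intro P' b hb
  have hmap := Cfsg.Agent.Lib.Helper22.PPrimeP.pPrimePCore_map_mulEquiv p e
  let e' : ↥(pPrimePCore p A) ≃* ↥(pPrimePCore p B) :=
    (e.subgroupMap (pPrimePCore p A)).trans (MulEquiv.subgroupCongr hmap)
  have he' : ∀ a : ↥(pPrimePCore p A), ((e' a : ↥(pPrimePCore p B)) : B) = e (a : A) :=
    fun a => rfl
  let P : Sylow p ↥(pPrimePCore p A) := P'.comapOfInjective e'.toMonoidHom e'.injective (by
    intro x _; exact ⟨e'.symm x, e'.apply_symm_apply x⟩)
  have hP : (P : Subgroup ↥(pPrimePCore p A)) = (P' : Subgroup _).comap e'.toMonoidHom :=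
    Sylow.coe_comapOfInjective _ _ _ _
  have h1 : e.symm b ∈ Subgroup.centralizer
      (((P : Subgroup ↥(pPrimePCore p A)).map (pPrimePCore p A).subtype : Subgroup A) : Set A) := by
    rw [Subgroup.mem_centralizer_iff]
    rintro _ ⟨a, ha, rfl⟩
    have ha' : e' a ∈ (P' : Subgroup _) := by
      have : a ∈ (P : Subgroup _) := ha
      rw [hP] at this
      exact this
    have h2 := (Subgroup.mem_centralizer_iff.mp hb) (e (a : A)) ⟨e' a, ha', he' a⟩
    apply e.injective
    simp only [map_mul, MulEquiv.apply_symm_apply]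
    exact h2
  have h3 := hA P h1
  have h4 : e (e.symm b) ∈ (pPrimePCore p A).map e.toMonoidHom := ⟨_, h3, rfl⟩
  rw [hmap] at h4
  simpa using h4

/-- If every `p`-component of `↥X` lies in `Y ≤ X` and `Y` is `p`-constrained then so is `X`. -/
theorem constrained_of_sub {G : Type*} [Group G] [Finite G] (p : ℕ) [Fact p.Prime]
    {X Y : Subgroup G} (hYX : Y ≤ X)
    (hK : ∀ K : Subgroup ↥X, IsPComponent p K → K.map X.subtype ≤ Y)
    (hY : IsPConstrained p ↥Y) : IsPConstrained p ↥X := by
  rw [Cfsg.Agent.Lib.Helper22.PCons.isPConstrained_iff]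
  by_contra hne
  have hex : ∃ K : Subgroup ↥X, IsPComponent p K := by
    by_contra hno
    apply hne
    unfold pLayer
    have : {K : Subgroup ↥X | IsPComponent p K} = ∅ := by
      ext K
      simp only [Set.mem_setOf_eq, Set.mem_empty_iff_false, iff_false]
      intro hK'
      exact hno ⟨K, hK'⟩
    rw [this, sSup_empty]
  obtain ⟨K, hKc⟩ := hex
  have hpcl : PCL p K := pcl_of_isPComponent p hKc
  have hpcl0 : PCL p (K.map X.subtype) := PCL.map X.subtype hpcl (by
    rw [X.ker_subtype, bot_inf_eq]; simp)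
  have hKY := hK K hKc
  have hpclY : PCL p ((K.map X.subtype).subgroupOf Y) := PCL.subgroupOf hpcl0 hKY
  have hsubX : ((K.map X.subtype).subgroupOf X).IsSubnormal := by
    have : (K.map X.subtype).subgroupOf X = K :=
      Subgroup.comap_map_eq_self_of_injective X.subtype_injective K
    rw [this]; exact hKc.1
  have hsubY := subn_restrict hYX hsubX
  have hcomp := isComponent_map_of_pcl p hpclY hsubY
  have hYl : pLayer p ↥Y = ⊥ := (Cfsg.Agent.Lib.Helper22.PCons.isPConstrained_iff p).mp hY
  rw [Cfsg.Agent.Lib.Helper22.PCons.pLayer_eq_bot_iff] at hYl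
  have hle : ((K.map X.subtype).subgroupOf Y).map (QuotientGroup.mk' (pPrimeCore p ↥Y))
      ≤ layer (↥Y ⧸ pPrimeCore p ↥Y) := le_sSup hcomp
  rw [hYl] at hle
  exact Cfsg.Agent.Lib.Helper21.Comp.ne_bot_of_quasisimple hcomp.2 (le_bot_iff.mp hle)

/-- Let G be a finite group and p a prime; here a p-local subgroup means the normalizer of a nontrivial p-subgroup, other than G itself. If every p-local subgroup of G that is maximal among p-local subgroups is p-constrained, or if the centralizer of every element of order p of G is p-constrained, then every p-local subgroup of G is p-constrained. -/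
theorem result {G : Type*} [Group G] [Finite G] (p : ℕ) [hp : Fact p.Prime]
    (h : (∀ M : Subgroup G, (∃ T : Subgroup G, IsPGroup p ↥T ∧ T ≠ ⊥ ∧ M = Subgroup.normalizer (T : Set G)) → M ≠ ⊤ →
        (∀ M' : Subgroup G, (∃ T' : Subgroup G, IsPGroup p ↥T' ∧ T' ≠ ⊥ ∧ M' = Subgroup.normalizer (T' : Set G)) → M' ≠ ⊤ → M ≤ M' → M = M') →
        Cfsg.IsPConstrained p ↥M) ∨
      (∀ x : G, orderOf x = p → Cfsg.IsPConstrained p ↥(Subgroup.centralizer ({x} : Set G))))
    (T : Subgroup G) (hT : IsPGroup p ↥T) (hT1 : T ≠ ⊥) (hTG : Subgroup.normalizer (T : Set G) ≠ ⊤) :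
    Cfsg.IsPConstrained p ↥(Subgroup.normalizer (T : Set G)) := by
  classical
  have hTN : T ≤ Subgroup.normalizer (T : Set G) := Subgroup.le_normalizer
  rcases h with hA | hB
  · let S : Set (Subgroup G) := {M | (∃ T' : Subgroup G, IsPGroup p ↥T' ∧ T' ≠ ⊥ ∧
        M = Subgroup.normalizer (T' : Set G)) ∧ M ≠ ⊤}
    have hNS : Subgroup.normalizer (T : Set G) ∈ S := ⟨⟨T, hT, hT1, rfl⟩, hTG⟩
    obtain ⟨M, hNM, hMmax⟩ := (Set.toFinite S).exists_le_maximal hNS
    have hMS : M ∈ S := hMmax.prop
    have hMc : IsPConstrained p ↥M := hA M hMS.1 hMS.2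
      (fun M' h1 h2 h3 => le_antisymm h3 (hMmax.le_of_ge ⟨h1, h2⟩ h3))
    have h1 := (Cfsg.Agent.S0631.result hMc (T.subgroupOf M) hT.comap_subtype).1
    rw [← Subgroup.subgroupOf_normalizer_eq (hTN.trans hNM)] at h1
    exact isPConstrained_of_mulEquiv p (Subgroup.subgroupOfEquivOfLe hNM) h1
  · haveI : Nontrivial ↥T := (Subgroup.nontrivial_iff_ne_bot T).mpr hT1
    haveI : Nontrivial ↥(Subgroup.center ↥T) := hT.center_nontrivial
    have hZp : IsPGroup p ↥(Subgroup.center ↥T) := hT.to_subgroup _
    obtain ⟨n, hn⟩ := IsPGroup.iff_card.mp hZp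
    have hn0 : n ≠ 0 := by
      rintro rfl
      have h1 : Nat.card ↥(Subgroup.center ↥T) = 1 := by simpa using hn
      have h2 := Finite.one_lt_card (α := ↥(Subgroup.center ↥T))
      omega
    have hdvd : p ∣ Nat.card ↥(Subgroup.center ↥T) := by rw [hn]; exact dvd_pow_self p hn0
    obtain ⟨z, hz⟩ := exists_prime_orderOf_dvd_card' p hdvd
    have hxo : orderOf (((z : ↥T) : G)) = p := by
      rw [Subgroup.orderOf_coe, Subgroup.orderOf_coe]; exact hz
    have hxT : ((z : ↥T) : G) ∈ T := (z : ↥T).2
    have hxc : ∀ t ∈ T, t * ((z : ↥T) : G) = ((z : ↥T) : G) * t := by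
      intro t ht
      have := (Subgroup.mem_center_iff.mp z.2) ⟨t, ht⟩
      exact congrArg Subtype.val this
    have hC₀ : IsPConstrained p ↥(Subgroup.centralizer ({((z : ↥T) : G)} : Set G)) := hB _ hxo
    have hTC₀ : T ≤ Subgroup.centralizer ({((z : ↥T) : G)} : Set G) := by
      intro t ht
      rw [Subgroup.mem_centralizer_iff]
      intro y hy
      rw [Set.mem_singleton_iff.mp hy]
      exact (hxc t ht).symm
    have hCC₀ : Subgroup.centralizer (T : Set G) ≤ Subgroup.centralizer ({((z : ↥T) : G)} : Set G) :=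
      Subgroup.centralizer_le (Set.singleton_subset_iff.mpr hxT)
    have h1 := (Cfsg.Agent.S0631.result hC₀
      (T.subgroupOf (Subgroup.centralizer ({((z : ↥T) : G)} : Set G))) hT.comap_subtype).2
    have h2 : Subgroup.centralizer ((T.subgroupOf (Subgroup.centralizer ({((z : ↥T) : G)} : Set G)) :
        Subgroup ↥(Subgroup.centralizer ({((z : ↥T) : G)} : Set G))) : Set _) =
        (Subgroup.centralizer (T : Set G)).subgroupOf (Subgroup.centralizer ({((z : ↥T) : G)} : Set G)) := by
      ext ⟨c, hc⟩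
      rw [Subgroup.mem_centralizer_iff, Subgroup.mem_subgroupOf, Subgroup.mem_centralizer_iff]
      constructor
      · intro h t ht
        have := h ⟨t, hTC₀ ht⟩ (by rw [SetLike.mem_coe, Subgroup.mem_subgroupOf]; exact ht)
        exact congrArg Subtype.val this
      · intro h t ht
        apply Subtype.ext
        exact h t.1 (Subgroup.mem_subgroupOf.mp ht)
    rw [h2] at h1
    have hCc : IsPConstrained p ↥(Subgroup.centralizer (T : Set G)) :=
      isPConstrained_of_mulEquiv p (Subgroup.subgroupOfEquivOfLe hCC₀) h1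
    have hCN : Subgroup.centralizer (T : Set G) ≤ Subgroup.normalizer (T : Set G) :=
      Subgroup.centralizer_le_normalizer _
    refine constrained_of_sub p hCN ?_ hCc
    intro K hK
    haveI : (T.subgroupOf (Subgroup.normalizer (T : Set G))).Normal := Subgroup.normal_in_normalizer
    have hcomm := pcl_commutator_pGroup p (pcl_of_isPComponent p hK) hK.1
      (T := T.subgroupOf (Subgroup.normalizer (T : Set G))) hT.comap_subtype
    rintro _ ⟨k, hk, rfl⟩
    rw [Subgroup.mem_centralizer_iff]
    intro t ht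
    have h3 := Subgroup.commutator_mem_commutator hk
      (show (⟨t, hTN ht⟩ : ↥(Subgroup.normalizer (T : Set G))) ∈
        T.subgroupOf (Subgroup.normalizer (T : Set G)) from ht)
    rw [hcomm, Subgroup.mem_bot] at h3
    have h4 := commutatorElement_eq_one_iff_mul_comm.mp h3
    exact (congrArg Subtype.val h4).symm

end Cfsg.Agent.S3247
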