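import Mathlib
import Cfsg.Statements.S3246
import Cfsg.Agent.S3247
import Cfsg.Agent.S0630
import Cfsg.Agent.S0631
import Cfsg.Agent.Lib.Helper53.PGroupBasics
import Cfsg.Agent.Lib.Helper33.PCore
import Cfsg.Agent.Lib.Helper23.Cores
import Cfsg.Agent.Lib.Helper31.CoprimeGen
import Cfsg.Agent.Lib.Helper31.SigBasic

set_option autoImplicit false
open Cfsg

namespace Cfsg.Agent.S3246

open Cfsg.Agent.Lib.Helper31.SigBasic

section idx

variable {G : Type*} [Group G]

theorem card_mul_relIndex' (H K : Subgroup G) (h : H ≤ K) :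
    Nat.card H * H.relIndex K = Nat.card K := by
  have := Subgroup.relIndex_mul_relIndex ⊥ H K bot_le h
  rwa [Subgroup.relIndex_bot_left, Subgroup.relIndex_bot_left] at this

theorem relIndex_ne_zero' [Finite G] (H K : Subgroup G) : H.relIndex K ≠ 0 := by
  intro h0
  have h1 := Subgroup.relIndex_dvd_card H K
  rw [h0, zero_dvd_iff] at h1
  exact (Nat.card_pos (α := K)).ne' h1

theorem mul_mem_of_relIndex_le_two [Finite G] (H K : Subgroup G) (h : H.relIndex K ≤ 2)
    {a b : G} (ha : a ∈ K) (hb : b ∈ K) (haH : a ∉ H) (hbH : b ∉ H) : a⁻¹ * b ∈ H := by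
  have h0 : H.relIndex K ≠ 0 := relIndex_ne_zero' H K
  have h1 : H.relIndex K ≠ 1 := by
    intro h1
    exact haH (Subgroup.relIndex_eq_one.mp h1 ha)
  have h2 : (H.subgroupOf K).index = 2 := by
    have : H.relIndex K = 2 := by omega
    exact this
  have haH' : (⟨a, ha⟩ : ↥K)⁻¹ ∉ H.subgroupOf K := by
    intro hx
    rw [Subgroup.mem_subgroupOf] at hx
    exact haH (by simpa using hx)
  have hbH' : (⟨b, hb⟩ : ↥K) ∉ H.subgroupOf K := by
    intro hx
    rw [Subgroup.mem_subgroupOf] at hx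
    exact hbH hx
  have h3 := (Subgroup.mul_mem_iff_of_index_two h2 (a := (⟨a, ha⟩ : ↥K)⁻¹) (b := ⟨b, hb⟩)).mpr
    ⟨fun hx => (haH' hx).elim, fun hx => (hbH' hx).elim⟩
  rw [Subgroup.mem_subgroupOf] at h3
  simpa using h3

theorem relIndex_le_two_of [Finite G] (H K : Subgroup G)
    (h : ∀ a ∈ K, ∀ b ∈ K, a ∉ H → b ∉ H → a⁻¹ * b ∈ H) : H.relIndex K ≤ 2 := by
  classical
  have key : Nat.card (↥K ⧸ H.subgroupOf K) ≤ Nat.card Bool :=
    Nat.card_le_card_of_injective
      (fun q => decide (q = (QuotientGroup.mk (1 : ↥K) : ↥K ⧸ H.subgroupOf K))) (by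
      intro q₁ q₂ hq
      induction q₁ using QuotientGroup.induction_on with
      | _ a =>
      induction q₂ using QuotientGroup.induction_on with
      | _ b =>
      simp only [decide_eq_decide] at hq
      by_cases ha : (QuotientGroup.mk a : ↥K ⧸ H.subgroupOf K) = QuotientGroup.mk (1 : ↥K)
      · rw [ha, hq.mp ha]
      · have hb : ¬ (QuotientGroup.mk b : ↥K ⧸ H.subgroupOf K) = QuotientGroup.mk (1 : ↥K) :=
          fun hb => ha (hq.mpr hb)
        rw [QuotientGroup.eq] at ha hb ⊢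
        rw [Subgroup.mem_subgroupOf] at ha hb ⊢
        have ha' : (a : G) ∉ H := fun hx => ha (by simpa using hx)
        have hb' : (b : G) ∉ H := fun hx => hb (by simpa using hx)
        simpa using h a a.2 b b.2 ha' hb')
  have h2 : Nat.card Bool = 2 := by simp
  rw [h2] at key
  exact key

/-- An element of odd order normalizing a `2`-group `Q` and centralizing a subgroup of index at
most two centralizes `Q`. -/
theorem commute_of_idx (Q Q₁ : Subgroup G) (hQ : IsPGroup 2 Q)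
    (hidx : ∀ a ∈ Q, ∀ b ∈ Q, a ∉ Q₁ → b ∉ Q₁ → a⁻¹ * b ∈ Q₁)
    (y : G) (hy : Odd (orderOf y)) (hyQ : ∀ q ∈ Q, y * q * y⁻¹ ∈ Q)
    (hc : ∀ q ∈ Q, q ∈ Q₁ → y * q = q * y) : ∀ q ∈ Q, y * q = q * y := by
  intro q hq
  by_cases hq1 : q ∈ Q₁
  · exact hc q hq hq1
  have hq' : y * q * y⁻¹ ∈ Q := hyQ q hq
  have hq'1 : y * q * y⁻¹ ∉ Q₁ := by
    intro hx
    have h1 := hc _ hq' hx
    apply hq1
    have h2 : y * q * y⁻¹ = q := by
      have h3 : y * (y * q * y⁻¹) = y * q := by rw [h1]; group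
      exact mul_left_cancel h3
    rw [← h2]; exact hx
  set c := q⁻¹ * (y * q * y⁻¹) with hcdef
  have hcQ1 : c ∈ Q₁ := hidx q hq _ hq' hq1 hq'1
  have hcQ : c ∈ Q := Q.mul_mem (Q.inv_mem hq) hq'
  have hyc : Commute y c := hc c hcQ hcQ1
  have hyq : y * q * y⁻¹ = q * c := by rw [hcdef]; group
  have key : ∀ n : ℕ, y ^ n * q * (y ^ n)⁻¹ = q * c ^ n := by
    intro n
    induction n with
    | zero => simp
    | succ n ih =>
      have hycn : y * c ^ n * y⁻¹ = c ^ n := by
        have h4 : Commute y (c ^ n) := hyc.pow_right n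
        rw [h4.eq]; group
      calc y ^ (n+1) * q * (y ^ (n+1))⁻¹ = y * (y ^ n * q * (y ^ n)⁻¹) * y⁻¹ := by
            rw [pow_succ']; group
        _ = y * (q * c ^ n) * y⁻¹ := by rw [ih]
        _ = (y * q * y⁻¹) * (y * c ^ n * y⁻¹) := by group
        _ = q * c * c ^ n := by rw [hyq, hycn]
        _ = q * c ^ (n+1) := by rw [pow_succ', mul_assoc]
  have h1 := key (orderOf y)
  rw [pow_orderOf_eq_one] at h1
  simp only [one_mul, inv_one, mul_one] at h1
  have hc1 : c ^ orderOf y = 1 := by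
    have h5 : q * 1 = q * c ^ orderOf y := by rw [mul_one]; exact h1
    exact (mul_left_cancel h5).symm
  obtain ⟨k, hk⟩ := hQ ⟨c, hcQ⟩
  have hk' : c ^ 2 ^ k = 1 := by simpa using congrArg Subtype.val hk
  have hd1 : orderOf c ∣ orderOf y := orderOf_dvd_of_pow_eq_one hc1
  have hd2 : orderOf c ∣ 2 ^ k := orderOf_dvd_of_pow_eq_one hk'
  have hcop : Nat.Coprime (orderOf y) (2 ^ k) := Nat.Coprime.pow_right k hy.coprime_two_right
  have hd : orderOf c ∣ Nat.gcd (orderOf y) (2 ^ k) := Nat.dvd_gcd hd1 hd2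
  rw [hcop] at hd
  have hc1' : c = 1 := orderOf_eq_one_iff.mp (Nat.dvd_one.mp hd)
  rw [hc1', mul_one] at hyq
  calc y * q = (y * q * y⁻¹) * y := by group
    _ = q * y := by rw [hyq]

end idx

/-- Core lemma: an odd-order subgroup `X` normalized by the Sylow `2`-subgroup `S` has trivial
centralizer of `u` whenever `C_S(u)` has index at most two in `S` and `C_G(u)` lies in a
`2`-constrained subgroup with trivial odd core. -/
theorem centralizer_inf_eq_bot {G : Type*} [Group G] [Finite G] (S : Sylow 2 G) (X : Subgroup G)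
    (hX : Odd (Nat.card X)) (hSX : (S : Subgroup G) ≤ Subgroup.normalizer (X : Set G))
    (u : G) (M : Subgroup G) (hM : Subgroup.centralizer ({u} : Set G) ≤ M)
    (hMc : IsPConstrained 2 ↥M) (hMo : oddCore ↥M = ⊥)
    (hidx : ((S : Subgroup G) ⊓ Subgroup.centralizer ({u} : Set G)).relIndex (S : Subgroup G) ≤ 2) :
    X ⊓ Subgroup.centralizer ({u} : Set G) = ⊥ := by
  haveI : Fact (Nat.Prime 2) := ⟨Nat.prime_two⟩
  set Su := (S : Subgroup G) ⊓ Subgroup.centralizer ({u} : Set G) with hSu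
  set Q := (pCore 2 ↥M).map M.subtype with hQdef
  have hQ2 : IsPGroup 2 Q := (Cfsg.Agent.Lib.Helper23.Cores.pCore_isPGroup 2).map _
  have hQn : ∀ m ∈ M, ∀ q ∈ Q, m * q * m⁻¹ ∈ Q := by
    rintro m hm _ ⟨q, hq, rfl⟩
    have hnorm : (pCore 2 ↥M).Normal := Cfsg.Agent.Lib.Helper33.PCore.pCore_normal (G := ↥M) 2
    exact ⟨⟨m, hm⟩ * q * ⟨m, hm⟩⁻¹, hnorm.conj_mem q hq ⟨m, hm⟩, rfl⟩
  have hSuM : Su ≤ M := inf_le_right.trans hM
  have hSuS : Su ≤ (S : Subgroup G) := inf_le_left
  have hrel : Su.relIndex Q ≤ 2 := by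
    have hn : Su ≤ Subgroup.normalizer (Q : Set G) :=
      le_normalizer_of_conj_mem Su Q (fun b hb q hq => hQn b (hSuM hb) q hq)
    have hdvd := card_sup_dvd Q Su hn
    have hSu2 : IsPGroup 2 Su := S.isPGroup'.to_le hSuS
    obtain ⟨a, ha⟩ := IsPGroup.iff_card.mp hQ2
    obtain ⟨b, hb⟩ := IsPGroup.iff_card.mp hSu2
    rw [ha, hb, ← pow_add] at hdvd
    obtain ⟨c, -, hc⟩ := (Nat.dvd_prime_pow Nat.prime_two).mp hdvd
    have hsup2 : IsPGroup 2 ↥(Q ⊔ Su) := IsPGroup.of_card hc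
    obtain ⟨P, hP⟩ := hsup2.exists_le_sylow
    have hcardP : Nat.card (P : Subgroup G) = Nat.card (S : Subgroup G) := by
      rw [Sylow.card_eq_multiplicity P, Sylow.card_eq_multiplicity S]
    have h1 : Nat.card ↥(Q ⊔ Su) ≤ Nat.card (S : Subgroup G) :=
      hcardP ▸ Subgroup.card_le_of_le hP
    have e1 := card_mul_relIndex' Su (Q ⊔ Su) le_sup_right
    have e2 := card_mul_relIndex' Su (S : Subgroup G) hSuS
    have hpos : 0 < Nat.card Su := Nat.card_pos
    have h2 : Su.relIndex (Q ⊔ Su) ≤ Su.relIndex (S : Subgroup G) := by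
      apply Nat.le_of_mul_le_mul_left _ hpos
      rw [e1, e2]; exact h1
    have h3 : Su.relIndex Q ≤ Su.relIndex (Q ⊔ Su) :=
      Subgroup.relIndex_le_of_le_right le_sup_left (relIndex_ne_zero' _ _)
    omega
  have hidxQ : ∀ a ∈ Q, ∀ b ∈ Q, a ∉ Su → b ∉ Su → a⁻¹ * b ∈ Su :=
    fun a ha b hb haS hbS => mul_mem_of_relIndex_le_two Su Q hrel ha hb haS hbS
  rw [eq_bot_iff]
  rintro y ⟨hyX, hyu⟩
  rw [Subgroup.mem_bot]
  have hyM : y ∈ M := hM hyu
  have hyodd : Odd (orderOf y) := by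
    have hd : orderOf y ∣ Nat.card X := by
      have := orderOf_dvd_natCard (⟨y, hyX⟩ : ↥X)
      rwa [Subgroup.orderOf_mk] at this
    exact Odd.of_dvd_nat hX hd
  have htriv : ∀ w : G, w ∈ Q → w ∈ X → w = 1 := by
    intro w hwQ hwX
    obtain ⟨k, hk⟩ := hQ2 ⟨w, hwQ⟩
    have hk' : w ^ 2 ^ k = 1 := by simpa using congrArg Subtype.val hk
    have hd2 : orderOf w ∣ 2 ^ k := orderOf_dvd_of_pow_eq_one hk'
    have hd1 : orderOf w ∣ Nat.card X := by
      have := orderOf_dvd_natCard (⟨w, hwX⟩ : ↥X)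
      rwa [Subgroup.orderOf_mk] at this
    have hcop : Nat.Coprime (Nat.card X) (2 ^ k) := Nat.Coprime.pow_right k hX.coprime_two_right
    have hd : orderOf w ∣ Nat.gcd (Nat.card X) (2 ^ k) := Nat.dvd_gcd hd1 hd2
    rw [hcop] at hd
    exact orderOf_eq_one_iff.mp (Nat.dvd_one.mp hd)
  have hcent : ∀ q ∈ Q, y * q = q * y := by
    apply commute_of_idx Q Su hQ2 hidxQ y hyodd (fun q hq => hQn y hyM q hq)
    intro q hq hqS
    have hqX : q * y * q⁻¹ ∈ X := conj_mem_of_mem_normalizer (hSX hqS.1) hyX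
    have hw1 : q * y * q⁻¹ * y⁻¹ ∈ X := X.mul_mem hqX (X.inv_mem hyX)
    have hw2 : q * y * q⁻¹ * y⁻¹ ∈ Q := by
      have := Q.mul_mem hq (hQn y hyM q⁻¹ (Q.inv_mem hq))
      simpa [mul_assoc] using this
    have hw := htriv _ hw2 hw1
    have h3 : q * y = y * q := by
      calc q * y = (q * y * q⁻¹ * y⁻¹) * (y * q) := by group
        _ = y * q := by rw [hw, one_mul]
    exact h3.symm
  have hcm : (⟨y, hyM⟩ : ↥M) ∈ Subgroup.centralizer ((pCore 2 ↥M : Subgroup ↥M) : Set ↥M) := by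
    rw [Subgroup.mem_centralizer_iff]
    intro q hq
    apply Subtype.ext
    have := hcent (q : G) ⟨q, hq, rfl⟩
    exact this.symm
  have hyQ' := ((Cfsg.Agent.S0630.isPConstrained_iff_of_core_bot hMo).mp hMc) hcm
  exact htriv y ⟨⟨y, hyM⟩, hyQ', rfl⟩ hyX

/-- Two commuting involutions `z, u` in `Ω₁(A)`, with `z` central in `S` and `[S, u] ≤ ⟨z⟩`. -/
theorem exists_zu {G : Type*} [Group G] [Finite G] (S : Sylow 2 G) (A : Subgroup G)
    (hA : IsSCN (S : Subgroup G) A) (hA3 : ¬ PRankLE 2 2 ↥A) :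
    ∃ z u : G, z ∈ (S : Subgroup G) ∧ u ∈ (S : Subgroup G) ∧ z ^ 2 = 1 ∧ u ^ 2 = 1 ∧ z ≠ 1 ∧
      u ≠ 1 ∧ u ≠ z ∧ (∀ s ∈ (S : Subgroup G), s * z = z * s) ∧
      (∀ s ∈ (S : Subgroup G), s * u * s⁻¹ = u ∨ s * u * s⁻¹ = z * u) := by
  classical
  haveI : Fact (Nat.Prime 2) := ⟨Nat.prime_two⟩
  obtain ⟨hAS, hSA, hCA⟩ := hA
  have hAcomm : ∀ a ∈ A, ∀ b ∈ A, a * b = b * a := by
    intro a ha b hb
    have hb' : b ∈ (S : Subgroup G) ⊓ Subgroup.centralizer (A : Set G) := by rw [hCA]; exact hb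
    exact Subgroup.mem_centralizer_iff.mp hb'.2 a ha
  let E : Subgroup G :=
    { carrier := {a | a ∈ A ∧ a ^ 2 = 1}
      one_mem' := ⟨A.one_mem, one_pow 2⟩
      mul_mem' := by
        rintro a b ⟨ha, ha2⟩ ⟨hb, hb2⟩
        refine ⟨A.mul_mem ha hb, ?_⟩
        have hab : Commute a b := hAcomm a ha b hb
        rw [hab.mul_pow, ha2, hb2, one_mul]
      inv_mem' := by
        rintro a ⟨ha, ha2⟩
        exact ⟨A.inv_mem ha, by rw [inv_pow, ha2, inv_one]⟩ }
  have hE : ∀ a, a ∈ E ↔ a ∈ A ∧ a ^ 2 = 1 := fun a => Iff.rfl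
  have hES : E ≤ (S : Subgroup G) := fun a ha => hAS ((hE a).mp ha).1
  haveI hEn : (E.subgroupOf (S : Subgroup G)).Normal := by
    constructor
    intro a ha s
    rw [Subgroup.mem_subgroupOf] at ha ⊢
    rw [hE] at ha ⊢
    refine ⟨conj_mem_of_mem_normalizer (hSA s.2) ha.1, ?_⟩
    simp only [Subgroup.coe_mul, Subgroup.coe_inv]
    rw [conj_pow, ha.2, mul_one, mul_inv_cancel]
  unfold PRankLE at hA3
  push Not at hA3
  obtain ⟨B, hBc, hB2, hBcard⟩ := hA3
  have hB_E : ∀ b : ↥A, b ∈ B → (b : G) ∈ E := fun b hb =>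
    (hE _).mpr ⟨b.2, by have := hB2 b hb; simpa using congrArg Subtype.val this⟩
  have hex : ∀ z : G, ∃ e ∈ E, e ≠ 1 ∧ e ≠ z := by
    intro z
    by_contra hno
    push Not at hno
    have hle : Nat.card B ≤ Nat.card Bool :=
      Nat.card_le_card_of_injective (fun b : ↥B => decide (((b : ↥A) : G) = 1)) (by
        intro b₁ b₂ hb
        simp only [decide_eq_decide] at hb
        apply Subtype.ext; apply Subtype.ext
        by_cases h1 : ((b₁ : ↥A) : G) = 1
        · rw [h1, hb.mp h1]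
        · have h2 : ¬ ((b₂ : ↥A) : G) = 1 := fun h => h1 (hb.mpr h)
          rw [hno _ (hB_E _ b₁.2) h1, hno _ (hB_E _ b₂.2) h2])
    have h2 : Nat.card Bool = 2 := by simp
    omega
  have hE1 : E.subgroupOf (S : Subgroup G) ≠ ⊥ := by
    obtain ⟨e, he, he1, -⟩ := hex 1
    intro hbot
    have hmem : (⟨e, hES he⟩ : ↥(S : Subgroup G)) ∈ E.subgroupOf (S : Subgroup G) := he
    rw [hbot, Subgroup.mem_bot] at hmem
    exact he1 (congrArg Subtype.val hmem)
  have hS2 : IsPGroup 2 ↥(S : Subgroup G) := S.isPGroup'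
  obtain ⟨z', hz'E, hz'1, hz'c⟩ :=
    Cfsg.Agent.Lib.Helper53.PGroupBasics.exists_center_mem_normal hS2
      (E.subgroupOf (S : Subgroup G)) hE1
  have hz'E' : (z' : G) ∈ E := hz'E
  have hz2 : z' ^ 2 = 1 := Subtype.ext (by simpa using ((hE _).mp hz'E').2)
  have hZmem : ∀ x : ↥(S : Subgroup G), x ∈ Subgroup.zpowers z' → x = 1 ∨ x = z' := by
    rintro x ⟨k, rfl⟩
    rcases Int.even_or_odd' k with ⟨m, rfl | rfl⟩
    · left
      show z' ^ (2 * m) = 1
      rw [zpow_mul, zpow_ofNat, hz2, one_zpow]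
    · right
      show z' ^ (2 * m + 1) = z'
      rw [zpow_add, zpow_mul, zpow_ofNat, hz2, one_zpow, one_mul, zpow_one]
  haveI hZn : (Subgroup.zpowers z').Normal := by
    constructor
    intro n hn g
    have hnc : n ∈ Subgroup.center ↥(S : Subgroup G) := by
      rcases hZmem n hn with rfl | rfl
      · exact Subgroup.one_mem _
      · exact hz'c
    have hgn : g * n * g⁻¹ = n := by
      rw [Subgroup.mem_center_iff] at hnc
      rw [hnc g]; group
    rw [hgn]; exact hn
  set Ebar := (E.subgroupOf (S : Subgroup G)).map (QuotientGroup.mk' (Subgroup.zpowers z'))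
    with hEbar
  haveI : Ebar.Normal := Subgroup.Normal.map hEn _ (QuotientGroup.mk'_surjective _)
  have hEbar1 : Ebar ≠ ⊥ := by
    obtain ⟨e, he, he1, hez⟩ := hex (z' : G)
    intro hbot
    have hmem : QuotientGroup.mk' (Subgroup.zpowers z') ⟨e, hES he⟩ ∈ Ebar := ⟨⟨e, hES he⟩, he, rfl⟩
    rw [hbot, Subgroup.mem_bot, QuotientGroup.mk'_apply, QuotientGroup.eq_one_iff] at hmem
    rcases hZmem _ hmem with h | h
    · exact he1 (congrArg Subtype.val h)
    · exact hez (congrArg Subtype.val h)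
  have hSbar2 : IsPGroup 2 (↥(S : Subgroup G) ⧸ Subgroup.zpowers z') := hS2.to_quotient _
  obtain ⟨ub, hubE, hub1, hubc⟩ :=
    Cfsg.Agent.Lib.Helper53.PGroupBasics.exists_center_mem_normal hSbar2 Ebar hEbar1
  obtain ⟨u', hu'E, rfl⟩ := hubE
  have hu'E' : (u' : G) ∈ E := hu'E
  refine ⟨(z' : G), (u' : G), z'.2, u'.2, ?_, ?_, ?_, ?_, ?_, ?_, ?_⟩
  · exact ((hE _).mp hz'E').2
  · exact ((hE _).mp hu'E').2
  · exact fun h => hz'1 (Subtype.ext h)
  · intro h
    apply hub1
    have hu1 : u' = 1 := Subtype.ext h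
    rw [hu1, map_one]
  · intro h
    apply hub1
    have hu1 : u' = z' := Subtype.ext h
    rw [hu1, QuotientGroup.mk'_apply, QuotientGroup.eq_one_iff]
    exact Subgroup.mem_zpowers z'
  · intro s hs
    have := Subgroup.mem_center_iff.mp hz'c ⟨s, hs⟩
    exact congrArg Subtype.val this
  · intro s hs
    have h1 : QuotientGroup.mk' (Subgroup.zpowers z') (⟨s, hs⟩ * u' * ⟨s, hs⟩⁻¹ * u'⁻¹) = 1 := by
      rw [map_mul, map_mul, map_mul, map_inv, map_inv]
      have := Subgroup.mem_center_iff.mp hubc (QuotientGroup.mk' (Subgroup.zpowers z') ⟨s, hs⟩)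
      rw [this]; group
    rw [QuotientGroup.mk'_apply, QuotientGroup.eq_one_iff] at h1
    rcases hZmem _ h1 with h | h
    · left
      have h2 := congrArg Subtype.val h
      simp only [Subgroup.coe_mul, Subgroup.coe_inv, Subgroup.coe_one] at h2
      calc s * (u' : G) * s⁻¹ = (s * (u' : G) * s⁻¹ * (u' : G)⁻¹) * (u' : G) := by group
        _ = (u' : G) := by rw [h2, one_mul]
    · right
      have h2 := congrArg Subtype.val h
      simp only [Subgroup.coe_mul, Subgroup.coe_inv] at h2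
      calc s * (u' : G) * s⁻¹ = (s * (u' : G) * s⁻¹ * (u' : G)⁻¹) * (u' : G) := by group
        _ = (z' : G) * (u' : G) := by rw [h2]

/-- If the centralizer of every element of order `p` is `p`-constrained, then so is the normalizer
of every nontrivial `p`-subgroup (also when that normalizer is the whole group). -/
theorem caseB {G : Type*} [Group G] [Finite G] (p : ℕ) [hp : Fact p.Prime]
    (hB : ∀ x : G, orderOf x = p → Cfsg.IsPConstrained p ↥(Subgroup.centralizer ({x} : Set G)))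
    (T : Subgroup G) (hT : IsPGroup p ↥T) (hT1 : T ≠ ⊥) :
    Cfsg.IsPConstrained p ↥(Subgroup.normalizer (T : Set G)) := by
  classical
  have hTN : T ≤ Subgroup.normalizer (T : Set G) := Subgroup.le_normalizer
  haveI : Nontrivial ↥T := (Subgroup.nontrivial_iff_ne_bot T).mpr hT1
  haveI : Nontrivial ↥(Subgroup.center ↥T) := hT.center_nontrivial
  have hZp : IsPGroup p ↥(Subgroup.center ↥T) := hT.to_subgroup _
  obtain ⟨n, hn⟩ := IsPGroup.iff_card.mp hZp
  have hn0 : n ≠ 0 := by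
    rintro rfl
    have h1 : Nat.card ↥(Subgroup.center ↥T) = 1 := by simpa using hn
    have h2 := Finite.one_lt_card (α := ↥(Subgroup.center ↥T))
    omega
  have hdvd : p ∣ Nat.card ↥(Subgroup.center ↥T) := by rw [hn]; exact dvd_pow_self p hn0
  obtain ⟨z, hz⟩ := exists_prime_orderOf_dvd_card' p hdvd
  have hxo : orderOf (((z : ↥T) : G)) = p := by
    rw [Subgroup.orderOf_coe, Subgroup.orderOf_coe]; exact hz
  have hxT : ((z : ↥T) : G) ∈ T := (z : ↥T).2
  have hxc : ∀ t ∈ T, t * ((z : ↥T) : G) = ((z : ↥T) : G) * t := by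
    intro t ht
    have := (Subgroup.mem_center_iff.mp z.2) ⟨t, ht⟩
    exact congrArg Subtype.val this
  have hC₀ : IsPConstrained p ↥(Subgroup.centralizer ({((z : ↥T) : G)} : Set G)) := hB _ hxo
  have hTC₀ : T ≤ Subgroup.centralizer ({((z : ↥T) : G)} : Set G) := by
    intro t ht
    rw [Subgroup.mem_centralizer_iff]
    intro y hy
    rw [Set.mem_singleton_iff.mp hy]
    exact (hxc t ht).symm
  have hCC₀ : Subgroup.centralizer (T : Set G) ≤ Subgroup.centralizer ({((z : ↥T) : G)} : Set G) :=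
    Subgroup.centralizer_le (Set.singleton_subset_iff.mpr hxT)
  have h1 := (Cfsg.Agent.S0631.result hC₀
    (T.subgroupOf (Subgroup.centralizer ({((z : ↥T) : G)} : Set G))) hT.comap_subtype).2
  have h2 : Subgroup.centralizer ((T.subgroupOf (Subgroup.centralizer ({((z : ↥T) : G)} : Set G)) :
      Subgroup ↥(Subgroup.centralizer ({((z : ↥T) : G)} : Set G))) : Set _) =
      (Subgroup.centralizer (T : Set G)).subgroupOf (Subgroup.centralizer ({((z : ↥T) : G)} : Set G)) := by
    ext ⟨c, hc⟩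
    rw [Subgroup.mem_centralizer_iff, Subgroup.mem_subgroupOf, Subgroup.mem_centralizer_iff]
    constructor
    · intro h t ht
      have := h ⟨t, hTC₀ ht⟩ (by rw [SetLike.mem_coe, Subgroup.mem_subgroupOf]; exact ht)
      exact congrArg Subtype.val this
    · intro h t ht
      apply Subtype.ext
      exact h t.1 (Subgroup.mem_subgroupOf.mp ht)
  rw [h2] at h1
  have hCc : IsPConstrained p ↥(Subgroup.centralizer (T : Set G)) :=
    Cfsg.Agent.S3247.isPConstrained_of_mulEquiv p (Subgroup.subgroupOfEquivOfLe hCC₀) h1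
  have hCN : Subgroup.centralizer (T : Set G) ≤ Subgroup.normalizer (T : Set G) :=
    Subgroup.centralizer_le_normalizer _
  refine Cfsg.Agent.S3247.constrained_of_sub p hCN ?_ hCc
  intro K hK
  haveI : (T.subgroupOf (Subgroup.normalizer (T : Set G))).Normal := Subgroup.normal_in_normalizer
  have hcomm := Cfsg.Agent.Lib.Helper34.LBal1.pcl_commutator_pGroup p
    (Cfsg.Agent.Lib.Helper34.LBal1.pcl_of_isPComponent p hK) hK.1
    (T := T.subgroupOf (Subgroup.normalizer (T : Set G))) hT.comap_subtype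
  rintro _ ⟨k, hk, rfl⟩
  rw [Subgroup.mem_centralizer_iff]
  intro t ht
  have h3 := Subgroup.commutator_mem_commutator hk
    (show (⟨t, hTN ht⟩ : ↥(Subgroup.normalizer (T : Set G))) ∈
      T.subgroupOf (Subgroup.normalizer (T : Set G)) from ht)
  rw [hcomm, Subgroup.mem_bot] at h3
  have h4 := commutatorElement_eq_one_iff_mul_comm.mp h3
  exact (congrArg Subtype.val h4).symm

/-- Let G be a finite group whose Sylow 2-subgroup S has a self-centralizing normal subgroup of rank at least 3. Suppose that either every maximal 2-local subgroup of G is 2-constrained with no nontrivial normal subgroup of odd order, or the centralizer of every involution of G is 2-constrained with no nontrivial normal subgroup of odd order. Then S normalizes no nontrivial subgroup of G of odd order and every 2-local subgroup of G is 2-constrained. -/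
theorem result {G : Type*} [Group G] [Finite G]
    (S : Sylow 2 G) (A : Subgroup G) (hA : Cfsg.IsSCN (S : Subgroup G) A) (hA3 : ¬ Cfsg.PRankLE 2 2 ↥A)
    (h : (∀ M : Subgroup G, Cfsg.IsMaximalTwoLocal M → Cfsg.IsPConstrained 2 ↥M ∧ Cfsg.oddCore ↥M = ⊥) ∨
      (∀ t : G, orderOf t = 2 → Cfsg.IsPConstrained 2 ↥(Subgroup.centralizer ({t} : Set G)) ∧
        Cfsg.oddCore ↥(Subgroup.centralizer ({t} : Set G)) = ⊥)) :
    (∀ X : Subgroup G, Odd (Nat.card ↥X) → (S : Subgroup G) ≤ Subgroup.normalizer (X : Set G) → X = ⊥) ∧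
      (∀ T : Subgroup G, IsPGroup 2 ↥T → T ≠ ⊥ → Cfsg.IsPConstrained 2 ↥(Subgroup.normalizer (T : Set G))) := by
  classical
  haveI : Fact (Nat.Prime 2) := ⟨Nat.prime_two⟩
  have hmax : ∀ N₀ : Subgroup G, IsTwoLocal N₀ → ∃ M, N₀ ≤ M ∧ IsMaximalTwoLocal M := by
    intro N₀ hN₀
    obtain ⟨M, hNM, hMmax⟩ :=
      (Set.toFinite {M : Subgroup G | IsTwoLocal M}).exists_le_maximal hN₀
    exact ⟨M, hNM, hMmax.prop, fun N hN hMN => le_antisymm (hMmax.le_of_ge hN hMN) hMN⟩
  constructor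
  · have hstar : ∀ t : G, orderOf t = 2 → ∃ M : Subgroup G,
        Subgroup.centralizer ({t} : Set G) ≤ M ∧ IsPConstrained 2 ↥M ∧ oddCore ↥M = ⊥ := by
      intro t ht
      rcases h with hA' | hB'
      · have hloc : IsTwoLocal (Subgroup.normalizer ((Subgroup.zpowers t : Subgroup G) : Set G)) := by
          refine ⟨Subgroup.zpowers t, ?_, ?_, rfl⟩
          · apply IsPGroup.of_card (n := 1)
            rw [Nat.card_zpowers, ht, pow_one]
          · intro hbot
            rw [Subgroup.zpowers_eq_bot] at hbot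
            rw [hbot, orderOf_one] at ht
            omega
        obtain ⟨M, hNM, hMmax⟩ := hmax _ hloc
        refine ⟨M, ?_, hA' M hMmax⟩
        refine le_trans ?_ hNM
        apply le_normalizer_of_conj_mem
        rintro b hb _ ⟨k, rfl⟩
        have hbt : Commute b t := (Subgroup.mem_centralizer_iff.mp hb t rfl).symm
        have hbk : Commute b (t ^ k) := hbt.zpow_right k
        have : b * t ^ k * b⁻¹ = t ^ k := by rw [hbk.eq]; group
        show b * t ^ k * b⁻¹ ∈ Subgroup.zpowers t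
        rw [this]; exact ⟨k, rfl⟩
      · exact ⟨_, le_rfl, hB' t ht⟩
    intro X hXodd hSX
    obtain ⟨z, u, hzS, huS, hz2, hu2, hz1, hu1, huz, hzc, hconj⟩ := exists_zu S A hA hA3
    have hzo : orderOf z = 2 := orderOf_eq_prime hz2 hz1
    have huo : orderOf u = 2 := orderOf_eq_prime hu2 hu1
    have hzu_comm : z * u = u * z := (hzc u huS).symm
    have hzu2 : (z * u) ^ 2 = 1 := by
      rw [(show Commute z u from hzu_comm).mul_pow, hz2, hu2, one_mul]
    have hzu1 : z * u ≠ 1 := by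
      intro h1
      have h2 : z * u = z * z := by rw [h1, ← pow_two, hz2]
      exact huz (mul_left_cancel h2)
    have hzuo : orderOf (z * u) = 2 := orderOf_eq_prime hzu2 hzu1
    have hcs : ∀ w g : G, g ∈ Subgroup.centralizer ({w} : Set G) ↔ g * w * g⁻¹ = w := by
      intro w g
      rw [Subgroup.mem_centralizer_singleton_iff, mul_inv_eq_iff_eq_mul]
    have hidx_u : ((S : Subgroup G) ⊓ Subgroup.centralizer ({u} : Set G)).relIndex
        (S : Subgroup G) ≤ 2 := by
      apply relIndex_le_two_of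
      intro a ha b hb haS hbS
      have ha' : a * u * a⁻¹ = z * u :=
        (hconj a ha).resolve_left (fun h1 => haS ⟨ha, (hcs u a).mpr h1⟩)
      have hb' : b * u * b⁻¹ = z * u :=
        (hconj b hb).resolve_left (fun h1 => hbS ⟨hb, (hcs u b).mpr h1⟩)
      refine ⟨(S : Subgroup G).mul_mem ((S : Subgroup G).inv_mem ha) hb, (hcs u _).mpr ?_⟩
      calc a⁻¹ * b * u * (a⁻¹ * b)⁻¹ = a⁻¹ * (b * u * b⁻¹) * a := by group
        _ = a⁻¹ * (a * u * a⁻¹) * a := by rw [hb', ha']
        _ = u := by group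
    have hidx_z : ((S : Subgroup G) ⊓ Subgroup.centralizer ({z} : Set G)).relIndex
        (S : Subgroup G) ≤ 2 := by
      have : ((S : Subgroup G) ⊓ Subgroup.centralizer ({z} : Set G)).relIndex (S : Subgroup G) = 1 := by
        rw [Subgroup.relIndex_eq_one]
        intro s hs
        refine ⟨hs, (hcs z s).mpr ?_⟩
        rw [hzc s hs]; group
      omega
    have hidx_zu : ((S : Subgroup G) ⊓ Subgroup.centralizer ({z * u} : Set G)).relIndex
        (S : Subgroup G) ≤ 2 := by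
      refine le_trans (Subgroup.relIndex_le_of_le_left ?_ (relIndex_ne_zero' _ _)) hidx_u
      rintro s ⟨hs, hsu⟩
      refine ⟨hs, (hcs _ s).mpr ?_⟩
      have h1 := (hcs u s).mp hsu
      calc s * (z * u) * s⁻¹ = (s * z) * (u * s⁻¹) := by group
        _ = (z * s) * (u * s⁻¹) := by rw [hzc s hs]
        _ = z * (s * u * s⁻¹) := by group
        _ = z * u := by rw [h1]
    obtain ⟨Mz, hMz, hMzc, hMzo⟩ := hstar z hzo
    obtain ⟨Mu, hMu, hMuc, hMuo⟩ := hstar u huo
    obtain ⟨Mzu, hMzu, hMzuc, hMzuo⟩ := hstar (z * u) hzuo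
    have hCz := centralizer_inf_eq_bot S X hXodd hSX z Mz hMz hMzc hMzo hidx_z
    have hCu := centralizer_inf_eq_bot S X hXodd hSX u Mu hMu hMuc hMuo hidx_u
    have hCzu := centralizer_inf_eq_bot S X hXodd hSX (z * u) Mzu hMzu hMzuc hMzuo hidx_zu
    have hX2 : ¬ 2 ∣ Nat.card X := fun h2 =>
      (Nat.not_even_iff_odd.mpr hXodd) (even_iff_two_dvd.mpr h2)
    have hgen := Cfsg.Agent.Lib.Helper31.CoprimeGen.rank_two_generation (p := 2) (S : Subgroup G) X
      S.isPGroup' hX2 hSX z u hzS huS hzu_comm hz2 hu2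
    rw [eq_bot_iff]
    refine hgen.trans ?_
    rw [hCu]
    apply sup_le bot_le
    apply iSup₂_le
    intro j hj
    have hj' : j = 0 ∨ j = 1 := by have := Finset.mem_range.mp hj; omega
    rcases hj' with rfl | rfl
    · rw [pow_zero, mul_one, hCz]
    · rw [pow_one, hCzu]
  · intro T hT hT1
    rcases h with hA' | hB'
    · obtain ⟨M, hNM, hMmax⟩ := hmax _ ⟨T, hT, hT1, rfl⟩
      have hMc := (hA' M hMmax).1
      have h1 := (Cfsg.Agent.S0631.result hMc (T.subgroupOf M) hT.comap_subtype).1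
      rw [← Subgroup.subgroupOf_normalizer_eq (Subgroup.le_normalizer.trans hNM)] at h1
      exact Cfsg.Agent.S3247.isPConstrained_of_mulEquiv 2 (Subgroup.subgroupOfEquivOfLe hNM) h1
    · exact caseB 2 (fun x hx => (hB' x hx).1) T hT hT1

end Cfsg.Agent.S3246
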