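import Cfsg.Statements.S3304
import Cfsg.Agent.S0017
import Cfsg.Agent.S3742
import Cfsg.Agent.Lib.Helper47.Basic
import Cfsg.Agent.Lib.Helper76.PSolv
import Cfsg.Agent.Lib.Helper54.OddAutTwo
import Cfsg.Agent.Lib.Helper54.GL23

set_option autoImplicit false
open Cfsg

namespace Cfsg.Agent.S3304

open Subgroup

theorem mem_smul_sylow {G : Type*} [Group G] {p : ℕ} (g x : G) (P : Sylow p G) :
    x ∈ ((g • P : Sylow p G) : Subgroup G) ↔ g⁻¹ * x * g ∈ (P : Subgroup G) := by
  rw [Sylow.smul_def, Sylow.pointwise_smul_def, Subgroup.mem_pointwise_smul_iff_inv_smul_mem]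
  simp [MulAut.smul_def]

/-- a 2-subgroup can be conjugated into a given Sylow 2-subgroup -/
theorem exists_conj_mem {G : Type*} [Group G] [Finite G] (S : Sylow 2 G) (D : Subgroup G)
    (hD : IsPGroup 2 D) : ∃ g : G, ∀ x ∈ D, g * x * g⁻¹ ∈ (S : Subgroup G) := by
  have : Fact (Nat.Prime 2) := ⟨Nat.prime_two⟩
  obtain ⟨Q, hQ⟩ := hD.exists_le_sylow
  obtain ⟨g, hg⟩ := MulAction.exists_smul_eq G S Q
  refine ⟨g⁻¹, fun x hx => ?_⟩
  have h1 : x ∈ ((g • S : Sylow 2 G) : Subgroup G) := by rw [hg]; exact hQ hx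
  rw [mem_smul_sylow] at h1
  rw [inv_inv]; exact h1

/-- two commuting involutions in a group of 2-rank at most one are equal -/
theorem eq_of_prankLE {X : Type*} [Group X] [Finite X] (Q : Subgroup X)
    (h : Cfsg.PRankLE 2 1 ↥Q) {a b : X} (ha : a ∈ Q) (hb : b ∈ Q) (ha2 : a * a = 1)
    (hb2 : b * b = 1) (hab : a * b = b * a) (ha1 : a ≠ 1) (hb1 : b ≠ 1) : a = b := by
  classical
  by_contra hne
  obtain ⟨A, hA⟩ : ∃ A : Subgroup ↥Q, A = Subgroup.closure {⟨a, ha⟩, ⟨b, hb⟩} := ⟨_, rfl⟩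
  have hcomm : IsMulCommutative A := by
    rw [hA]
    apply Subgroup.isMulCommutative_closure
    intro x hx y hy
    rcases hx with rfl | rfl <;> rcases hy with rfl | rfl
    · rfl
    · exact Subtype.ext hab
    · exact Subtype.ext hab.symm
    · rfl
  have hexp : ∀ x ∈ A, x ^ 2 = 1 := by
    intro x hx
    have hAcomm : ∀ y ∈ A, ∀ z ∈ A, y * z = z * y := by
      intro y hy z hz
      have := mul_comm' (⟨y, hy⟩ : A) ⟨z, hz⟩
      exact congrArg Subtype.val this
    have key : ∀ y ∈ Subgroup.closure ({⟨a, ha⟩, ⟨b, hb⟩} : Set ↥Q), y ^ 2 = 1 := by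
      intro y hy
      induction hy using Subgroup.closure_induction with
      | mem y hy =>
        rcases hy with rfl | rfl
        · apply Subtype.ext; rw [pow_two]; exact ha2
        · apply Subtype.ext; rw [pow_two]; exact hb2
      | one => exact one_pow 2
      | mul y z hy hz ihy ihz =>
        have hc : Commute y z := hAcomm y (by rw [hA]; exact hy) z (by rw [hA]; exact hz)
        rw [hc.mul_pow, ihy, ihz, one_mul]
      | inv y hy ih => rw [inv_pow, ih, inv_one]
    exact key x (by rw [← hA]; exact hx)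
  have hcard := h A hcomm hexp
  have haA : (⟨a, ha⟩ : ↥Q) ∈ A := by rw [hA]; exact Subgroup.subset_closure (by simp)
  have hbA : (⟨b, hb⟩ : ↥Q) ∈ A := by rw [hA]; exact Subgroup.subset_closure (by simp)
  have : Fintype A := Fintype.ofFinite A
  have h3 : ({1, ⟨⟨a, ha⟩, haA⟩, ⟨⟨b, hb⟩, hbA⟩} : Finset A).card = 3 := by
    rw [Finset.card_eq_three]
    refine ⟨1, ⟨⟨a, ha⟩, haA⟩, ⟨⟨b, hb⟩, hbA⟩, ?_, ?_, ?_, rfl⟩
    · intro h; exact ha1 (congrArg (fun t : A => ((t : ↥Q) : X)) h).symm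
    · intro h; exact hb1 (congrArg (fun t : A => ((t : ↥Q) : X)) h).symm
    · intro h; exact hne (congrArg (fun t : A => ((t : ↥Q) : X)) h)
  have h4 := Finset.card_le_univ ({1, ⟨⟨a, ha⟩, haA⟩, ⟨⟨b, hb⟩, hbA⟩} : Finset A)
  rw [h3, ← Nat.card_eq_fintype_card] at h4
  omega

/-- the hypothesis passes to quotients by normal subgroups of odd order -/
theorem hyp_quotient {G : Type*} [Group G] [Finite G] (N : Subgroup G) [N.Normal]
    (hN : (Nat.card N).Coprime 2)
    (hI : ∀ S T : Sylow 2 G, S ≠ T → Cfsg.PRankLE 2 1 ↥((S : Subgroup G) ⊓ (T : Subgroup G)))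
    (S' T' : Sylow 2 (G ⧸ N)) (hne : S' ≠ T') (a' b' : G ⧸ N)
    (haS : a' ∈ (S' : Subgroup (G ⧸ N))) (haT : a' ∈ (T' : Subgroup (G ⧸ N)))
    (hbS : b' ∈ (S' : Subgroup (G ⧸ N))) (hbT : b' ∈ (T' : Subgroup (G ⧸ N)))
    (ha2 : a' * a' = 1) (hb2 : b' * b' = 1) (hab : a' * b' = b' * a') (ha1 : a' ≠ 1)
    (hb1 : b' ≠ 1) : a' = b' := by
  classical
  have : Fact (Nat.Prime 2) := ⟨Nat.prime_two⟩
  have hπ : Function.Surjective (QuotientGroup.mk' N) := QuotientGroup.mk'_surjective N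
  obtain ⟨S, hS⟩ := Sylow.mapSurjective_surjective hπ 2 S'
  obtain ⟨T, hT⟩ := Sylow.mapSurjective_surjective hπ 2 T'
  have hS' : (S' : Subgroup (G ⧸ N)) = (S : Subgroup G).map (QuotientGroup.mk' N) := by
    rw [← hS]; exact Sylow.coe_mapSurjective hπ S
  have hT' : (T' : Subgroup (G ⧸ N)) = (T : Subgroup G).map (QuotientGroup.mk' N) := by
    rw [← hT]; exact Sylow.coe_mapSurjective hπ T
  rw [hS'] at haS hbS
  obtain ⟨a, haS₀, rfl⟩ := haS
  obtain ⟨b, hbS₀, rfl⟩ := hbS
  have htriv : ∀ x, x ∈ N → x ∈ (S : Subgroup G) → x = 1 := by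
    intro x hxN hxS
    obtain ⟨k, hk⟩ := S.isPGroup' ⟨x, hxS⟩
    have hk' : x ^ 2 ^ k = 1 := by simpa using congrArg Subtype.val hk
    have h1 : orderOf x ∣ 2 ^ k := orderOf_dvd_of_pow_eq_one hk'
    have h2 : orderOf x ∣ Nat.card N := by
      have := orderOf_dvd_natCard (⟨x, hxN⟩ : N)
      rwa [Subgroup.orderOf_mk] at this
    have hcop : Nat.Coprime (Nat.card N) (2 ^ k) := Nat.Coprime.pow_right k hN
    exact orderOf_eq_one_iff.1 (Nat.eq_one_of_dvd_coprimes hcop h2 h1)
  have ha2' : a * a = 1 := by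
    apply htriv _ _ (mul_mem haS₀ haS₀)
    have h1 : (QuotientGroup.mk' N) (a * a) = 1 := by rw [map_mul]; exact ha2
    exact (QuotientGroup.eq_one_iff _).1 h1
  have hb2' : b * b = 1 := by
    apply htriv _ _ (mul_mem hbS₀ hbS₀)
    have h1 : (QuotientGroup.mk' N) (b * b) = 1 := by rw [map_mul]; exact hb2
    exact (QuotientGroup.eq_one_iff _).1 h1
  have hab' : a * b = b * a := by
    have h0 : a * b * (b * a)⁻¹ = 1 := by
      apply htriv _ _ (mul_mem (mul_mem haS₀ hbS₀) (inv_mem (mul_mem hbS₀ haS₀)))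
      have h1 : (QuotientGroup.mk' N) (a * b * (b * a)⁻¹) = 1 := by
        rw [map_mul, map_inv, map_mul, map_mul, hab, mul_inv_cancel]
      exact (QuotientGroup.eq_one_iff _).1 h1
    exact mul_inv_eq_one.1 h0
  have ha1' : a ≠ 1 := by
    intro h; apply ha1; rw [h, map_one]
  have hb1' : b ≠ 1 := by
    intro h; apply hb1; rw [h, map_one]
  obtain ⟨K, hK⟩ : ∃ K, K = (T' : Subgroup (G ⧸ N)).comap (QuotientGroup.mk' N) := ⟨_, rfl⟩
  have hmemK : ∀ x, x ∈ K ↔ (QuotientGroup.mk' N) x ∈ (T' : Subgroup (G ⧸ N)) := by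
    intro x; rw [hK]; exact Subgroup.mem_comap
  have hTK : (T : Subgroup G) ≤ K := by
    intro x hx
    rw [hmemK, hT']
    exact Subgroup.mem_map_of_mem _ hx
  have haK : a ∈ K := (hmemK a).2 haT
  have hbK : b ∈ K := (hmemK b).2 hbT
  obtain ⟨D, hD⟩ : ∃ D, D = Subgroup.closure ({a, b} : Set G) := ⟨_, rfl⟩
  have hDS : D ≤ (S : Subgroup G) := by
    rw [hD, Subgroup.closure_le]
    intro x hx
    rcases hx with rfl | rfl
    · exact haS₀
    · exact hbS₀
  have hp : IsPGroup 2 (D.subgroupOf K) := (S.isPGroup'.to_le hDS).comap_subtype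
  obtain ⟨k, hk⟩ := exists_conj_mem (T.subtype hTK) (D.subgroupOf K) hp
  have hkmem : ∀ x (hx : x ∈ K), x ∈ D → (k : G) * x * (k : G)⁻¹ ∈ (T : Subgroup G) := by
    intro x hxK hxD
    have h1 := hk ⟨x, hxK⟩ (by rw [Subgroup.mem_subgroupOf]; exact hxD)
    rw [Sylow.coe_subtype, Subgroup.mem_subgroupOf] at h1
    exact h1
  obtain ⟨T₂, hT₂⟩ : ∃ T₂ : Sylow 2 G, T₂ = (k : G)⁻¹ • T := ⟨_, rfl⟩
  have hmemT₂ : ∀ x, x ∈ (T₂ : Subgroup G) ↔ (k : G) * x * (k : G)⁻¹ ∈ (T : Subgroup G) := by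
    intro x
    rw [hT₂, mem_smul_sylow, inv_inv]
  have haT₂ : a ∈ (T₂ : Subgroup G) :=
    (hmemT₂ a).2 (hkmem a haK (by rw [hD]; exact Subgroup.subset_closure (by simp)))
  have hbT₂ : b ∈ (T₂ : Subgroup G) :=
    (hmemT₂ b).2 (hkmem b hbK (by rw [hD]; exact Subgroup.subset_closure (by simp)))
  have hne₂ : S ≠ T₂ := by
    intro h
    apply hne
    have hle : (S' : Subgroup (G ⧸ N)) ≤ T' := by
      rw [hS']
      rintro _ ⟨x, hx, rfl⟩
      have hx' : x ∈ (T₂ : Subgroup G) := by rw [← h]; exact hx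
      rw [hmemT₂] at hx'
      have h1 : (QuotientGroup.mk' N) ((k : G) * x * (k : G)⁻¹) ∈ (T' : Subgroup (G ⧸ N)) := by
        rw [hT']; exact Subgroup.mem_map_of_mem _ hx'
      have hkT : (QuotientGroup.mk' N) (k : G) ∈ (T' : Subgroup (G ⧸ N)) := (hmemK _).1 k.2
      rw [map_mul, map_mul, map_inv] at h1
      have h2 : (QuotientGroup.mk' N) x = ((QuotientGroup.mk' N) (k : G))⁻¹ *
          ((QuotientGroup.mk' N) (k : G) * (QuotientGroup.mk' N) x *
            ((QuotientGroup.mk' N) (k : G))⁻¹) * (QuotientGroup.mk' N) (k : G) := by group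
      rw [h2]
      exact mul_mem (mul_mem (inv_mem hkT) h1) hkT
    have h3 := S'.is_maximal' T'.isPGroup' hle
    exact Sylow.ext h3.symm
  have hfin := eq_of_prankLE _ (hI S T₂ hne₂) (a := a) (b := b) ⟨haS₀, haT₂⟩ ⟨hbS₀, hbT₂⟩
    ha2' hb2' hab' ha1' hb1'
  rw [hfin]

theorem center_q8' : ∀ c : QuaternionGroup 2, (∀ q, c * q * c⁻¹ = q) →
    c = 1 ∨ c = QuaternionGroup.a 2 := by decide

theorem a2_central : ∀ q : QuaternionGroup 2,
    (QuaternionGroup.a 2 : QuaternionGroup 2) * q = q * QuaternionGroup.a 2 := by decide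

theorem q8_noncomm : (QuaternionGroup.a 1 : QuaternionGroup 2) * QuaternionGroup.xa 0 ≠
    QuaternionGroup.xa 0 * QuaternionGroup.a 1 := by decide

theorem main {H : Type*} [Group H] [Finite H] (hsol : Group.IsSolvable H) (hO : Cfsg.oddCore H = ⊥)
    (hI : ∀ S T : Sylow 2 H, S ≠ T → ∀ a b : H, a ∈ (S : Subgroup H) → a ∈ (T : Subgroup H) →
      b ∈ (S : Subgroup H) → b ∈ (T : Subgroup H) → a * a = 1 → b * b = 1 → a * b = b * a →
      a ≠ 1 → b ≠ 1 → a = b) :
    (∃ P : Sylow 2 H, (P : Subgroup H).Normal) ∨ Nonempty (H ≃* GL (Fin 2) (ZMod 3)) ∨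
    (Nat.card H = 48 ∧ Nat.card ↥(Subgroup.center H) = 2 ∧
      Nonempty (H ⧸ Subgroup.center H ≃* Equiv.Perm (Fin 4)) ∧
      ∀ P : Sylow 2 H, Nonempty (↥(P : Subgroup H) ≃* QuaternionGroup 4)) := by
  classical
  have : Fact (Nat.Prime 2) := ⟨Nat.prime_two⟩
  obtain ⟨P⟩ : Nonempty (Sylow 2 H) := inferInstance
  by_cases hPn : (P : Subgroup H).Normal
  · left; exact ⟨P, hPn⟩
  right
  obtain ⟨P', hP'⟩ : ∃ P' : Sylow 2 H, P' ≠ P := by
    by_contra hcon
    push Not at hcon
    apply hPn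
    have : Subsingleton (Sylow 2 H) := ⟨fun a b => by rw [hcon a, hcon b]⟩
    exact Sylow.normal_of_subsingleton P
  -- the 2-core
  have hQn : (Cfsg.pCore 2 H).Normal := Cfsg.Agent.Lib.Helper47.Basic.pCore_normal 2 H
  obtain ⟨Q, hQdef⟩ : ∃ Q, Q = Cfsg.pCore 2 H := ⟨_, rfl⟩
  rw [← hQdef] at hQn
  have hQle : ∀ T : Sylow 2 H, Q ≤ T := fun T => by
    rw [hQdef]; exact Cfsg.Agent.Lib.Helper47.Basic.pCore_le_sylow T
  have hCQ : Subgroup.centralizer (Q : Set H) ≤ Q := by
    rw [hQdef]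
    have := hsol
    exact Cfsg.Agent.S0017.result 2 hO
  have hQ2 : IsPGroup 2 Q := IsPGroup.to_le P.isPGroup' (hQle P)
  have hUI : ∀ a ∈ Q, ∀ b ∈ Q, a ^ 2 = 1 → b ^ 2 = 1 → a ≠ 1 → b ≠ 1 → a = b := by
    intro a ha b hb ha2 hb2 ha1 hb1
    have hnt : Nontrivial ↥Q := ⟨⟨⟨a, ha⟩, 1, fun h => ha1 (congrArg Subtype.val h)⟩⟩
    have hcn : Nontrivial (Subgroup.center ↥Q) := hQ2.center_nontrivial
    obtain ⟨⟨z', hz'c⟩, hz'1⟩ := exists_ne (1 : Subgroup.center ↥Q)
    have hz'ne : z' ≠ 1 := fun h => hz'1 (Subtype.ext h)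
    obtain ⟨m, hm1, hm2⟩ := Cfsg.Agent.Lib.Helper54.UniqueSubgroup.exists_pow_prime hQ2 hz'ne
    have hwc : z' ^ m ∈ Subgroup.center ↥Q := pow_mem hz'c m
    rw [Subgroup.mem_center_iff] at hwc
    obtain ⟨w, hw⟩ : ∃ w : H, w = ((z' ^ m : ↥Q) : H) := ⟨_, rfl⟩
    have hwQ : w ∈ Q := by rw [hw]; exact (z' ^ m).2
    have hw1 : w ≠ 1 := by
      intro h
      apply hm1
      apply Subtype.ext
      rw [← hw, h]; rfl
    have hw2 : w * w = 1 := by
      have := congrArg Subtype.val hm2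
      rw [hw, ← pow_two]
      exact this
    have hwcomm : ∀ q ∈ Q, q * w = w * q := by
      intro q hq
      have := congrArg Subtype.val (hwc ⟨q, hq⟩)
      rw [hw]; exact this
    have h1 : a = w := hI P P' (Ne.symm hP') a w (hQle P ha) (hQle P' ha) (hQle P hwQ)
      (hQle P' hwQ) (by rw [← pow_two]; exact ha2) hw2 (hwcomm a ha) ha1 hw1
    have h2 : b = w := hI P P' (Ne.symm hP') b w (hQle P hb) (hQle P' hb) (hQle P hwQ)
      (hQle P' hwQ) (by rw [← pow_two]; exact hb2) hw2 (hwcomm b hb) hb1 hw1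
    rw [h1, h2]
  -- an element of odd prime order
  have hPtop : (P : Subgroup H) ≠ ⊤ := by
    intro h; apply hPn; rw [h]; infer_instance
  obtain ⟨r, hr, g, hgr, hr2⟩ : ∃ r : ℕ, r.Prime ∧ ∃ g : H, orderOf g = r ∧ ¬ 2 ∣ r := by
    have hidx : (P : Subgroup H).index ≠ 1 := fun h => hPtop (Subgroup.index_eq_one.1 h)
    obtain ⟨r, hr, hrd⟩ := Nat.exists_prime_and_dvd hidx
    have hr2 : ¬ 2 ∣ r := by
      intro h2
      have : r = 2 := ((Nat.prime_dvd_prime_iff_eq Nat.prime_two hr).1 h2).symm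
      subst this
      exact P.not_dvd_index hrd
    have : Fact r.Prime := ⟨hr⟩
    obtain ⟨g, hg⟩ := exists_prime_orderOf_dvd_card' (G := H) r
      (hrd.trans (Subgroup.index_dvd_card _))
    exact ⟨r, hr, g, hg, hr2⟩
  have hgr' : g ^ r = 1 := by rw [← hgr, pow_orderOf_eq_one]
  have hgQ : ∀ q ∈ Q, g * q * g⁻¹ ∈ Q := fun q hq => hQn.conj_mem q hq g
  have hgC : ∃ q ∈ Q, g * q * g⁻¹ ≠ q := by
    by_contra hcon
    push Not at hcon
    have hgcent : g ∈ Subgroup.centralizer (Q : Set H) := by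
      rw [Subgroup.mem_centralizer_iff]
      intro q hq
      have := hcon q hq
      calc q * g = (g * q * g⁻¹) * g := by rw [this]
        _ = g * q := by group
    obtain ⟨k, hk⟩ := hQ2 ⟨g, hCQ hgcent⟩
    have hk' : g ^ 2 ^ k = 1 := by simpa using congrArg Subtype.val hk
    have h1 : r ∣ 2 ^ k := by rw [← hgr]; exact orderOf_dvd_of_pow_eq_one hk'
    have h2 := (Nat.prime_dvd_prime_iff_eq hr Nat.prime_two).1 (hr.dvd_of_dvd_pow h1)
    exact hr2 (by rw [h2])
  obtain ⟨hcardQ, ⟨e⟩⟩ :=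
    Cfsg.Agent.Lib.Helper54.OddAutTwo.quaternion_of_ui Q hQ2 hUI g hgQ hgr' hr2 hgC
  -- the central involution
  obtain ⟨z, hz⟩ : ∃ z : H, z = ((e.symm (QuaternionGroup.a 2) : Q) : H) := ⟨_, rfl⟩
  have hzQ : z ∈ Q := by rw [hz]; exact (e.symm (QuaternionGroup.a 2)).2
  have hez : e ⟨z, hzQ⟩ = QuaternionGroup.a 2 := by
    have : (⟨z, hzQ⟩ : Q) = e.symm (QuaternionGroup.a 2) := Subtype.ext hz
    rw [this, MulEquiv.apply_symm_apply]
  have hz1 : z ≠ 1 := by
    intro h
    have h1 : (⟨z, hzQ⟩ : Q) = 1 := Subtype.ext h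
    rw [h1, map_one] at hez
    revert hez; decide
  have hz2 : z * z = 1 := by
    have h1 : (⟨z, hzQ⟩ : Q) * ⟨z, hzQ⟩ = 1 := by
      apply e.injective
      rw [map_mul, hez, map_one]; decide
    exact congrArg Subtype.val h1
  have hzcent : ∀ h : H, h * z = z * h := by
    intro h
    have h1 : h * z * h⁻¹ = z := by
      apply hUI _ (hQn.conj_mem z hzQ h) _ hzQ
      · rw [conj_pow, pow_two, hz2]; group
      · rw [pow_two]; exact hz2
      · intro h'
        apply hz1
        have : z = h⁻¹ * (h * z * h⁻¹) * h := by group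
        rw [this, h']; group
      · exact hz1
    calc h * z = (h * z * h⁻¹) * h := by group
      _ = z * h := by rw [h1]
  -- the conjugation action on `Q`
  obtain ⟨κ, hκ⟩ : ∃ κ : H →* MulAut Q, κ = MulAut.conjNormal (H := Q) := ⟨_, rfl⟩
  have hκv : ∀ (h : H) (q : Q), ((κ h q : Q) : H) = h * q * h⁻¹ := by
    intro h q; rw [hκ]; exact MulAut.conjNormal_apply h q
  have hker : ∀ c : H, c ∈ κ.ker ↔ c = 1 ∨ c = z := by
    intro c
    constructor
    · intro hc
      rw [MonoidHom.mem_ker] at hc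
      have hcent : ∀ q (hq : q ∈ Q), c * q * c⁻¹ = q := by
        intro q hq
        have h3 := hκv c ⟨q, hq⟩
        rw [hc] at h3
        exact h3.symm
      have hcQ : c ∈ Q := by
        apply hCQ
        rw [Subgroup.mem_centralizer_iff]
        intro q hq
        have := hcent q hq
        calc q * c = (c * q * c⁻¹) * c := by rw [this]
          _ = c * q := by group
      have h4 : e ⟨c, hcQ⟩ = 1 ∨ e ⟨c, hcQ⟩ = QuaternionGroup.a 2 := by
        apply center_q8'
        intro q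
        have h5 : (⟨c, hcQ⟩ : Q) * e.symm q * (⟨c, hcQ⟩ : Q)⁻¹ = e.symm q :=
          Subtype.ext (hcent _ (e.symm q).2)
        have h6 := congrArg e h5
        rw [map_mul, map_mul, map_inv, MulEquiv.apply_symm_apply] at h6
        exact h6
      rcases h4 with h4 | h4
      · left
        have : (⟨c, hcQ⟩ : Q) = 1 := e.injective (by rw [h4, map_one])
        exact congrArg Subtype.val this
      · right
        have : (⟨c, hcQ⟩ : Q) = ⟨z, hzQ⟩ := e.injective (by rw [h4, hez])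
        exact congrArg Subtype.val this
    · rintro (h | h)
      · rw [h]; exact one_mem _
      · rw [h, MonoidHom.mem_ker]
        ext q
        rw [hκv, MulAut.one_apply]
        have h1 := hzcent (q : H)
        calc z * (q : H) * z⁻¹ = ((q : H) * z) * z⁻¹ := by rw [h1]
          _ = (q : H) := by group
  have hcenter : Subgroup.center H = κ.ker := by
    ext c
    constructor
    · intro hc
      rw [Subgroup.mem_center_iff] at hc
      rw [MonoidHom.mem_ker]
      ext q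
      rw [hκv, MulAut.one_apply, ← hc q]
      group
    · intro hc
      rw [Subgroup.mem_center_iff]
      rcases (hker c).1 hc with rfl | rfl
      · intro h; rw [mul_one, one_mul]
      · exact hzcent
  have hcardker : Nat.card κ.ker = 2 := by
    rw [Nat.card_eq_two_iff]
    refine ⟨1, ⟨z, (hker z).2 (Or.inr rfl)⟩, ?_, ?_⟩
    · intro h
      exact hz1 (congrArg Subtype.val h).symm
    · ext ⟨c, hc⟩
      simp only [Set.mem_insert_iff, Set.mem_singleton_iff, Set.mem_univ, iff_true]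
      rcases (hker c).1 hc with h | h
      · left; exact Subtype.ext h
      · right; exact Subtype.ext h
  obtain ⟨e4⟩ := Cfsg.Agent.S3742.result
  have hcardAut : Nat.card (MulAut Q) = 24 := by
    rw [Nat.card_congr (MulAut.congr e).toEquiv, Nat.card_congr e4.toEquiv,
      Nat.card_eq_fintype_card, Fintype.card_perm, Fintype.card_fin]
    rfl
  have hcardH : Nat.card H = 2 * Nat.card κ.range := by
    rw [← Subgroup.card_mul_index κ.ker, hcardker, Subgroup.index_ker]
  have hrange : Nat.card κ.range ∣ 24 := by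
    rw [← hcardAut]; exact Subgroup.card_subgroup_dvd_card _
  have hdvd48 : Nat.card H ∣ 48 := by
    rw [hcardH]
    exact Nat.mul_dvd_mul_left 2 hrange
  -- the order of the Sylow 2-subgroups
  obtain ⟨n, hn⟩ := IsPGroup.iff_card.1 P.isPGroup'
  have hQP : Q ≤ (P : Subgroup H) := hQle P
  have h8 : 8 ∣ Nat.card (P : Subgroup H) := by
    rw [← hcardQ]; exact Subgroup.card_dvd_of_le hQP
  have hne8 : Nat.card (P : Subgroup H) ≠ 8 := by
    intro h
    apply hPn
    have : Q = (P : Subgroup H) :=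
      Subgroup.eq_of_le_of_card_ge hQP (by rw [h, hcardQ])
    rw [← this]; exact hQn
  have hPdvd : Nat.card (P : Subgroup H) ∣ 48 :=
    (Subgroup.card_subgroup_dvd_card _).trans hdvd48
  have hcardP : Nat.card (P : Subgroup H) = 16 := by
    rw [hn] at h8 hne8 hPdvd ⊢
    have hn4 : n ≤ 4 := by
      by_contra hlt
      push Not at hlt
      have h32 : 2 ^ 5 ∣ 2 ^ n := pow_dvd_pow 2 hlt
      have := h32.trans hPdvd
      revert this; decide
    interval_cases n
    · revert h8; decide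
    · revert h8; decide
    · revert h8; decide
    · exact absurd rfl hne8
    · rfl
  have hcard48 : Nat.card H = 48 := by
    have h16 : 16 ∣ Nat.card H := by
      rw [← hcardP]; exact Subgroup.card_subgroup_dvd_card _
    have hne16 : Nat.card H ≠ 16 := by
      intro h
      apply hPtop
      exact Subgroup.eq_top_of_card_eq _ (by rw [hcardP, h])
    obtain ⟨m, hm⟩ := h16
    have hm48 : 16 * m ∣ 48 := by rw [← hm]; exact hdvd48
    have hmle : m ≤ 3 := by
      have := Nat.le_of_dvd (by norm_num) hm48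
      omega
    interval_cases m
    · simp at hm48
    · exact absurd hm hne16
    · exact absurd hm48 (by decide)
    · exact hm
  have hcardSyl : ∀ T : Sylow 2 H, Nat.card (T : Subgroup H) = 16 := by
    intro T
    rw [Sylow.card_eq_multiplicity, ← hcardP, Sylow.card_eq_multiplicity]
  by_cases hB : ∃ t : H, t * t = 1 ∧ t ∉ Q
  · left
    obtain ⟨t, ht2, htQ⟩ := hB
    exact Cfsg.Agent.Lib.Helper54.GL23.iso_gl23 hcard48 Q e hCQ t ht2 htQ
  right
  push Not at hB
  refine ⟨hcard48, by rw [hcenter]; exact hcardker, ?_, ?_⟩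
  · have hsurj : Function.Surjective κ := by
      rw [← MonoidHom.range_eq_top]
      apply Subgroup.eq_top_of_card_eq
      rw [hcardAut]
      rw [hcard48] at hcardH
      omega
    exact ⟨(QuotientGroup.quotientMulEquivOfEq hcenter).trans
      ((QuotientGroup.quotientKerEquivOfSurjective κ hsurj).trans ((MulAut.congr e).trans e4))⟩
  · intro T
    have hUIT : Cfsg.Agent.Lib.Helper54.UniqueSubgroup.UI 2 ↥(T : Subgroup H) := by
      intro a b ha hb ha1
      by_cases hb1 : b = 1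
      · rw [hb1]; exact one_mem _
      · have ha2 : (a : H) ^ 2 = 1 := by exact_mod_cast congrArg Subtype.val ha
        have hb2 : (b : H) ^ 2 = 1 := by exact_mod_cast congrArg Subtype.val hb
        have h := hUI (a : H) (hB _ (by rw [← pow_two]; exact ha2)) (b : H)
          (hB _ (by rw [← pow_two]; exact hb2)) ha2 hb2
          (fun h => ha1 (Subtype.ext h)) (fun h => hb1 (Subtype.ext h))
        have : a = b := Subtype.ext h
        rw [this]; exact Subgroup.mem_zpowers b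
    rcases Cfsg.Agent.Lib.Helper54.Quaternion.isCyclic_or_quaternion T.isPGroup' hUIT with
      hc | ⟨m, ⟨eT⟩⟩
    · exfalso
      obtain ⟨x₀, hx₀, hTeq⟩ := Cfsg.Agent.S2879.exists_gen (T : Subgroup H) hc
      have hcomm : ∀ c ∈ (T : Subgroup H), ∀ d ∈ (T : Subgroup H), c * d = d * c := by
        intro c hc d hd
        rw [hTeq] at hc hd
        obtain ⟨i, rfl⟩ := Subgroup.mem_zpowers_iff.1 hc
        obtain ⟨j, rfl⟩ := Subgroup.mem_zpowers_iff.1 hd
        rw [← zpow_add, ← zpow_add, add_comm]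
      have h1 := hcomm _ (hQle T (e.symm (QuaternionGroup.a 1)).2) _
        (hQle T (e.symm (QuaternionGroup.xa 0)).2)
      have h2 : e.symm (QuaternionGroup.a 1) * e.symm (QuaternionGroup.xa 0) =
          e.symm (QuaternionGroup.xa 0) * e.symm (QuaternionGroup.a 1) := Subtype.ext h1
      rw [← map_mul, ← map_mul] at h2
      exact q8_noncomm (e.symm.injective h2)
    · have : NeZero (2 ^ m) := ⟨by positivity⟩
      have h16 := hcardSyl T
      rw [Nat.card_congr eT.toEquiv, Nat.card_eq_fintype_card, QuaternionGroup.card] at h16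
      have h4 : 2 ^ m = 4 := by omega
      rw [h4] at eT
      exact ⟨eT⟩

/-- Let G be a finite solvable group in which the intersection of any two distinct Sylow 2-subgroups has 2-rank at most 1 (contains no Klein four-group). Write Q = G/O(G), O(G) the largest normal subgroup of odd order. Then Q has a normal Sylow 2-subgroup; or Q is isomorphic to GL(2,3); or Q has order 48, centre of order 2 with central quotient isomorphic to the symmetric group of degree 4, and generalized quaternion Sylow 2-subgroups of order 16 (the binary octahedral group). The last two are the two representation groups of the symmetric group of degree 4. -/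
theorem result {G : Type*} [Group G] [Finite G] (hs : Group.IsSolvable G)
    (hI : ∀ S T : Sylow 2 G, S ≠ T → Cfsg.PRankLE 2 1 ↥((S : Subgroup G) ⊓ (T : Subgroup G))) :
    (∃ P : Sylow 2 (G ⧸ Cfsg.oddCore G), (P : Subgroup (G ⧸ Cfsg.oddCore G)).Normal) ∨
    Nonempty ((G ⧸ Cfsg.oddCore G) ≃* GL (Fin 2) (ZMod 3)) ∨
    (Nat.card (G ⧸ Cfsg.oddCore G) = 48 ∧ Nat.card ↥(Subgroup.center (G ⧸ Cfsg.oddCore G)) = 2 ∧
      Nonempty ((G ⧸ Cfsg.oddCore G) ⧸ Subgroup.center (G ⧸ Cfsg.oddCore G) ≃* Equiv.Perm (Fin 4)) ∧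
      ∀ P : Sylow 2 (G ⧸ Cfsg.oddCore G), Nonempty (↥(P : Subgroup (G ⧸ Cfsg.oddCore G)) ≃* QuaternionGroup 4)) := by
  have hN2 : (Nat.card (Cfsg.oddCore G)).Coprime 2 :=
    Cfsg.Agent.Lib.Helper76.PSolv.pPrimeCore_coprime 2
  have hO : Cfsg.oddCore (G ⧸ Cfsg.oddCore G) = ⊥ :=
    Cfsg.Agent.Lib.Helper76.PSolv.pPrimeCore_quotient 2
  have hsolH : Group.IsSolvable (G ⧸ Cfsg.oddCore G) := by
    have := hs
    infer_instance
  exact main hsolH hO (fun S T hne a b haS haT hbS hbT ha2 hb2 hab ha1 hb1 =>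
    hyp_quotient (Cfsg.oddCore G) hN2 hI S T hne a b haS haT hbS hbT ha2 hb2 hab ha1 hb1)

end Cfsg.Agent.S3304
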