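import Cfsg.Statements.S3361
import Mathlib
import Cfsg.Agent.Lib.Helper12.FpfLin
import Cfsg.Agent.Lib.Helper12.MinQuat
import Cfsg.Agent.Lib.Helper12.QuatReg
import Cfsg.Agent.Lib.Helper12.PerfA
import Cfsg.Agent.Lib.Helper12.HupA
import Cfsg.Agent.Lib.Helper12.HupQ
import Cfsg.Agent.Lib.Helper12.HupR

set_option autoImplicit false
open Cfsg

namespace Cfsg.Agent.S3361

open Subgroup
open scoped commutatorElement
open Cfsg.Agent.Lib.Helper12.FpfLin
open Cfsg.Agent.Lib.Helper12.MinQuat
open Cfsg.Agent.Lib.Helper12.QuatReg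
open Cfsg.Agent.Lib.Helper12.PerfA
open Cfsg.Agent.Lib.Helper12

/-- Let q be a prime and V a non-trivial finite vector space over the field with q elements, and let G be a finite solvable group acting faithfully and linearly on V and regularly on the non-zero vectors (transitively, with only the identity fixing a non-zero vector). Then either V can be identified with the additive group of a finite field F so that every element of G acts as x ↦ a·σ(x) (a ∈ F, σ a field automorphism), or V has 5^2, 7^2, 11^2 or 23^2 elements. Moreover, if q ≠ 2 then G has a normal subgroup of index 2, except that when V has 25 elements G may be isomorphic to SL(2,3) and when V has 121 elements G may be isomorphic to SL(2,3) × C₅. -/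
theorem result
    (q : ℕ) [Fact q.Prime] {V : Type*} [AddCommGroup V] [Module (ZMod q) V] [Finite V] [Nontrivial V]
    {G : Type*} [Group G] [Finite G] (hsol : Group.IsSolvable G)
    (ρ : G →* (V ≃ₗ[ZMod q] V)) (hρ : Function.Injective ρ)
    (htrans : ∀ v w : V, v ≠ 0 → w ≠ 0 → ∃ g : G, ρ g v = w)
    (hreg : ∀ v : V, v ≠ 0 → ∀ g : G, ρ g v = v → g = 1) :
    ((∃ (F : Type) (_ : Field F) (_ : Fintype F) (e : V ≃+ F),
        ∀ g : G, ∃ (a : F) (σ : F ≃+* F), ∀ v : V, e (ρ g v) = a * σ (e v)) ∨
      Nat.card V ∈ ({25, 49, 121, 529} : Set ℕ)) ∧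
    (q ≠ 2 → (∃ N : Subgroup G, N.Normal ∧ N.index = 2) ∨
      (Nat.card V = 25 ∧ Nonempty (G ≃* Matrix.SpecialLinearGroup (Fin 2) (ZMod 3))) ∨
      (Nat.card V = 121 ∧ Nonempty (G ≃* Matrix.SpecialLinearGroup (Fin 2) (ZMod 3) × Multiplicative (ZMod 5)))) := by
  have hf : IsFpf ρ := by
    intro g hg v hv
    by_contra hv0
    exact hg (hreg v hv0 g hv)
  have ht : IsTrans ρ := htrans
  obtain ⟨A, hAn, hAc, hAmax⟩ := exists_max_abelian G
  haveI := hAn
  have hAc' := (comm_iff A).1 hAc
  have hAle : A ≤ centralizer (A : Set G) := by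
    intro a ha
    rw [mem_centralizer_iff]
    intro b hb
    exact hAc' b hb a ha
  by_cases hC : IsMulCommutative (centralizer (A : Set G))
  · -- the metacyclic case
    have hCA : centralizer (A : Set G) = A := hAmax _ inferInstance hC hAle
    obtain ⟨h1, h2⟩ := HupA.d1 hf ht A hAc' hCA
    exact ⟨Or.inl h1, fun hq => Or.inl (h2 hq)⟩
  · -- the quaternion case
    obtain ⟨N, hNn, hNle, hNna, hNmin⟩ :=
      exists_min_nonabelian (centralizer (A : Set G)) inferInstance hC
    haveI := hNn
    have hcen := cen_of_min A hAn hAc hAmax N hNle hNmin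
    have hna : ¬ ∀ a ∈ N, ∀ b ∈ N, a * b = b * a := fun h => hNna ((comm_iff N).2 h)
    have hder : ⁅N, N⁆ ≠ N := by
      intro h
      haveI : Nontrivial N := by
        by_contra hnt
        rw [not_nontrivial_iff_subsingleton] at hnt
        apply hna
        intro a ha b hb
        have := Subsingleton.elim (⟨a, ha⟩ : N) ⟨b, hb⟩
        have hab : a = b := congrArg Subtype.val this
        rw [hab]
      have hlt := IsSolvable.commutator_lt_top_of_nontrivial (G := N)
      apply hlt.ne
      apply Subgroup.map_injective N.subtype_injective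
      rw [_root_.commutator_def, Subgroup.map_commutator, ← MonoidHom.range_eq_map,
        Subgroup.range_subtype]
      exact h
    obtain ⟨e⟩ := quat_of_min N (fun B hB => abelian_isCyclic hf B hB) hcen hna hder
    have hq3 : q ≠ 3 := by
      intro h3
      obtain ⟨-, hcard, -, -, -⟩ := HupQ.quat_case hf ht N hNn e
      have hG := HupA.card_reg hf ht
      rw [hcard, h3] at hG
      have hG8 : Nat.card G = 8 := by omega
      have hNtop : N = ⊤ := by
        rw [← Subgroup.card_eq_iff_eq_top, hG8]; exact k8_card e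
      have hall : ∀ k : G, k ∈ centralizer (A : Set G) := fun k =>
        hNle (by rw [hNtop]; exact mem_top k)
      let e' : G ≃* QuaternionGroup 2 :=
        (Subgroup.topEquiv.symm.trans (MulEquiv.subgroupCongr hNtop.symm)).trans e
      obtain ⟨B, hBn, hBc, hAB, b, hb, k, hbk⟩ := q8_no_central_max e' A
        (fun x hx k => mem_centralizer_iff.mp (hall k) x hx)
      have hBA := hAmax B hBn hBc hAB
      rw [hBA] at hb
      exact hbk (mem_centralizer_iff.mp (hall k) b hb)
    obtain ⟨h1, h2⟩ := HupR.d2 hf ht N hNn e hq3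
    exact ⟨Or.inr h1, fun _ => h2⟩

end Cfsg.Agent.S3361
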