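import Cfsg.Statements.S3366
import Cfsg.Agent.Lib.Helper26.J3Final
import Cfsg.Agent.Lib.Helper11.J3ZF1
import Cfsg.Agent.Lib.Helper15.J3ZF2
import Cfsg.Agent.Lib.Helper28.J3T1
import Cfsg.Agent.Lib.Helper70.J3T2
import Cfsg.Agent.Lib.Helper77.J3FAITH
import Cfsg.Agent.Lib.Helper15.J3CT
import Cfsg.Agent.Lib.Helper15.J3DEX
import Cfsg.Agent.Lib.Helper11.J3EINT
import Cfsg.Agent.Lib.Helper77.J3ECONJ
import Cfsg.Agent.Lib.Helper70.J3DCUBE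
import Cfsg.Agent.Lib.Helper7.J3TNORM
import Cfsg.Agent.Lib.Helper16.J3KEX
import Cfsg.Agent.Lib.Helper11.J3FR1
import Cfsg.Agent.Lib.Helper56.J3FR2
import Cfsg.Agent.Lib.Helper31.J3FR3
import Cfsg.Agent.Lib.Helper29.J3KACT1
import Cfsg.Agent.Lib.Helper26.J3KACT2
import Cfsg.Agent.Lib.Helper86.J3KACT3
import Cfsg.Agent.Lib.Helper26.J3COORD
import Cfsg.Agent.Lib.Helper67.J3ISO
import Cfsg.Agent.Lib.Helper96.J3XFER
import Cfsg.Agent.Lib.Helper96.J3TRANS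
import Cfsg.Agent.Lib.Helper95.J3CON1
import Cfsg.Agent.Lib.Helper95.J3CON2
import Cfsg.Agent.Lib.Helper30.J3CON3
import Cfsg.Agent.Lib.Helper7.J3CON4
import Cfsg.Agent.Lib.Helper86.J3CON5
import Cfsg.Agent.Lib.Helper67.J3CON6
import Cfsg.Agent.Lib.Helper1.J3CON7
import Cfsg.Agent.Lib.Helper26.J3CASM
import Cfsg.Agent.Lib.Helper93.J3SYL

set_option autoImplicit false
open Cfsg

namespace Cfsg.Agent.S3366

/-- Let X be a finite group with O₃(X) extraspecial of order 27 and exponent 3, X/O₃(X) isomorphic to SL(2,3), O₂(X) = 1, and a Sylow 3-subgroup of X containing an elementary abelian subgroup of order 27. Then X is isomorphic to the centralizer in PSp(4,3) of a 3-central element of order 3 (an element of order 3 in the centre of a Sylow 3-subgroup). -/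
theorem result {X : Type*} [Group X] [Finite X]
    (hR : Cfsg.IsExtraspecial 3 (Cfsg.pCore 3 X)) (hRcard : Nat.card (Cfsg.pCore 3 X) = 27)
    (hRexp : ∀ r ∈ Cfsg.pCore 3 X, r ^ 3 = 1)
    (e : X ⧸ Cfsg.pCore 3 X ≃* Matrix.SpecialLinearGroup (Fin 2) (ZMod 3))
    (hO2 : Cfsg.pCore 2 X = ⊥)
    (hE : ∃ E : Subgroup X, IsMulCommutative E ∧ (∀ a ∈ E, a ^ 3 = 1) ∧ Nat.card E = 27)
    (F : Type*) [Field F] [Fintype F] (hF : Fintype.card F = 3) :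
    ∃ (c : Cfsg.PSp 2 F) (S : Sylow 3 (Cfsg.PSp 2 F)), orderOf c = 3 ∧ c ∈ (S : Subgroup (Cfsg.PSp 2 F)) ∧
      c ∈ Subgroup.centralizer ((S : Subgroup (Cfsg.PSp 2 F)) : Set (Cfsg.PSp 2 F)) ∧
      Nonempty (X ≃* Subgroup.centralizer ({c} : Set (Cfsg.PSp 2 F))) :=
  Cfsg.Agent.Lib.Helper26.J3Final.main
    Cfsg.Agent.Lib.Helper11.J3ZF1.main Cfsg.Agent.Lib.Helper15.J3ZF2.main
    Cfsg.Agent.Lib.Helper28.J3T1.main Cfsg.Agent.Lib.Helper70.J3T2.main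
    Cfsg.Agent.Lib.Helper77.J3FAITH.main Cfsg.Agent.Lib.Helper15.J3CT.main
    Cfsg.Agent.Lib.Helper15.J3DEX.main Cfsg.Agent.Lib.Helper11.J3EINT.main
    Cfsg.Agent.Lib.Helper77.J3ECONJ.main Cfsg.Agent.Lib.Helper70.J3DCUBE.main
    Cfsg.Agent.Lib.Helper7.J3TNORM.main Cfsg.Agent.Lib.Helper16.J3KEX.main
    Cfsg.Agent.Lib.Helper11.J3FR1.main Cfsg.Agent.Lib.Helper56.J3FR2.main
    Cfsg.Agent.Lib.Helper31.J3FR3.main Cfsg.Agent.Lib.Helper29.J3KACT1.main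
    Cfsg.Agent.Lib.Helper26.J3KACT2.main Cfsg.Agent.Lib.Helper86.J3KACT3.main
    Cfsg.Agent.Lib.Helper26.J3COORD.main Cfsg.Agent.Lib.Helper67.J3ISO.main
    Cfsg.Agent.Lib.Helper96.J3XFER.main Cfsg.Agent.Lib.Helper96.J3TRANS.main
    Cfsg.Agent.Lib.Helper95.J3CON1.main Cfsg.Agent.Lib.Helper95.J3CON2.main
    Cfsg.Agent.Lib.Helper30.J3CON3.main Cfsg.Agent.Lib.Helper7.J3CON4.main
    Cfsg.Agent.Lib.Helper86.J3CON5.main Cfsg.Agent.Lib.Helper67.J3CON6.main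
    Cfsg.Agent.Lib.Helper1.J3CON7.main Cfsg.Agent.Lib.Helper26.J3CASM.main
    Cfsg.Agent.Lib.Helper93.J3SYL.main hR hRcard hRexp e hO2 hE F hF

end Cfsg.Agent.S3366
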