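import Cfsg.Statements.S3371
import Cfsg.Agent.Lib.Helper59.HTStmt
import Cfsg.Agent.Lib.Helper59.HTAsm
import Cfsg.Agent.Lib.Helper59.HTSCAL
import Cfsg.Agent.Lib.Helper59.HTASTAB
import Cfsg.Agent.Lib.Helper59.HTANC
import Cfsg.Agent.Lib.Helper59.HTAINV1
import Cfsg.Agent.Lib.Helper59.HTAH
import Cfsg.Agent.Lib.Helper59.HTAUNITS
import Cfsg.Agent.Lib.Helper59.HTACOORD
import Cfsg.Agent.Lib.Helper47.HTPEQ
import Cfsg.Agent.Lib.Helper47.HTORB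
import Cfsg.Agent.Lib.Helper47.HTZF
import Cfsg.Agent.Lib.Helper47.HTNT1
import Cfsg.Agent.Lib.Helper47.HTNT2
import Cfsg.Agent.Lib.Helper47.HTAODD
import Cfsg.Agent.Lib.Helper47.HTDIAG
import Cfsg.Agent.Lib.Helper47.HTABASIS
import Cfsg.Agent.Lib.Helper13.HTQUAT
import Cfsg.Agent.Lib.Helper13.HTDIHCNT
import Cfsg.Agent.Lib.Helper13.HTSDCNT
import Cfsg.Agent.Lib.Helper13.HTFOUR
import Cfsg.Agent.Lib.Helper13.HTAIDX
import Cfsg.Agent.Lib.Helper13.HTSTAB2B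

set_option autoImplicit false
open Cfsg

namespace Cfsg.Agent.S3371

/-- Let q be a prime, V a non-trivial finite vector space over the field with q elements, and G a finite p-group (p prime) acting faithfully and linearly on V such that all G-orbits on the non-zero vectors have the same size. Then one of the following holds: G is cyclic or generalized quaternion and acts semiregularly on the non-zero vectors; or V has q² elements with q = 2^m − 1 and G is dihedral of order 2^(m+1) or semidihedral of order 2^(m+2); or V has q² elements with q = 2^m + 1 and, in suitable coordinates V = F_q², G is exactly the group of maps (x, y) ↦ (a x, ± a⁻¹ y) and (x, y) ↦ (± a⁻¹ y, a x) with a ≠ 0; or V has 81 elements (q = 3) and G is a 2-group. -/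
theorem result (q : ℕ) [Fact q.Prime] {V : Type*} [AddCommGroup V] [Module (ZMod q) V] [Finite V] [Nontrivial V]
    {G : Type*} [Group G] [Finite G] (p : ℕ) [Fact p.Prime] (hG : IsPGroup p G)
    (ρ : G →* (V ≃ₗ[ZMod q] V)) (hρ : Function.Injective ρ)
    (hhalf : ∀ v w : V, v ≠ 0 → w ≠ 0 → Nat.card {u : V | ∃ g : G, ρ g v = u} = Nat.card {u : V | ∃ g : G, ρ g w = u}) :
    ((IsCyclic G ∨ ∃ n : ℕ, Nonempty (G ≃* QuaternionGroup n)) ∧ ∀ v : V, v ≠ 0 → ∀ g : G, ρ g v = v → g = 1) ∨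
    (Nat.card V = q ^ 2 ∧ ∃ m : ℕ, q = 2 ^ m - 1 ∧
      (Nonempty (G ≃* DihedralGroup (2 ^ m)) ∨ (Cfsg.IsQuasiDihedral G ∧ Nat.card G = 2 ^ (m + 2)))) ∨
    (Nat.card V = q ^ 2 ∧ (∃ m : ℕ, q = 2 ^ m + 1) ∧
      ∃ e : V ≃ₗ[ZMod q] (Fin 2 → ZMod q), ∀ f : (Fin 2 → ZMod q) ≃ₗ[ZMod q] (Fin 2 → ZMod q),
        (∃ g : G, f = e.symm.trans ((ρ g).trans e)) ↔
        ∃ a s : ZMod q, a ≠ 0 ∧ (s = 1 ∨ s = -1) ∧
          ((∀ v, f v = ![a * v 0, s * a⁻¹ * v 1]) ∨ (∀ v, f v = ![s * a⁻¹ * v 1, a * v 0]))) ∨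
    (Nat.card V = 81 ∧ q = 3 ∧ p = 2) :=
  Cfsg.Agent.Lib.Helper59.HTAsm.thm_of
    Cfsg.Agent.Lib.Helper47.HTPEQ.main Cfsg.Agent.Lib.Helper47.HTORB.main
    Cfsg.Agent.Lib.Helper47.HTZF.main Cfsg.Agent.Lib.Helper13.HTQUAT.main
    Cfsg.Agent.Lib.Helper13.HTSTAB2B.main Cfsg.Agent.Lib.Helper13.HTDIHCNT.main
    Cfsg.Agent.Lib.Helper13.HTSDCNT.main Cfsg.Agent.Lib.Helper47.HTNT1.main
    Cfsg.Agent.Lib.Helper47.HTNT2.main Cfsg.Agent.Lib.Helper47.HTAODD.main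
    Cfsg.Agent.Lib.Helper13.HTFOUR.main Cfsg.Agent.Lib.Helper59.HTSCAL.main
    Cfsg.Agent.Lib.Helper59.HTASTAB.main Cfsg.Agent.Lib.Helper59.HTANC.main
    Cfsg.Agent.Lib.Helper59.HTAINV1.main Cfsg.Agent.Lib.Helper13.HTAIDX.main
    Cfsg.Agent.Lib.Helper59.HTAH.main Cfsg.Agent.Lib.Helper47.HTABASIS.main
    Cfsg.Agent.Lib.Helper47.HTDIAG.main Cfsg.Agent.Lib.Helper59.HTAUNITS.main
    Cfsg.Agent.Lib.Helper59.HTACOORD.main q p hG ρ hρ hhalf

end Cfsg.Agent.S3371
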