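import Cfsg.Statements.S3390
import Cfsg.Agent.S3224
import Cfsg.Agent.Lib.Helper59.FxAsm
import Cfsg.Agent.Lib.Helper13.FxBETA
import Cfsg.Agent.Lib.Helper13.FxIDX
import Cfsg.Agent.Lib.Helper34.FxTWO
import Cfsg.Agent.Lib.Helper34.FxUCENT
import Cfsg.Agent.Lib.Helper34.FxORB
import Cfsg.Agent.Lib.Helper74.FxCYCORB
import Cfsg.Agent.Lib.Helper28.FxFROB
import Cfsg.Agent.Lib.Helper66.FxSGN
import Cfsg.Agent.Lib.Helper66.FxNSIGN
import Cfsg.Agent.Lib.Helper74.FxNCYC
import Cfsg.Agent.Lib.Helper74.FxORD4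

set_option autoImplicit false
open Cfsg

namespace Cfsg.Agent.S3390

/-- Let G be a finite group acting faithfully and transitively on a finite set Ω with fixity 2 (every non-identity element fixes at most two points, and some fixes exactly two). Let α ∈ Ω and S a Sylow 2-subgroup of G. Then one of the following holds: the stabilizer S_α of α in S is trivial; S is dihedral or semidihedral and either |S_α| = 2 or |S : S_α| = 2; |S| ≥ 4, S has exactly one orbit of size 2 on Ω, every other S-orbit is regular, and G has a normal subgroup of index 2 or of index |S| which is a Frobenius group; or S ≤ G_α. -/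
theorem result {G : Type*} [Group G] [Finite G] {Ω : Type*} [Fintype Ω] [MulAction G Ω] [FaithfulSMul G Ω] (htr : MulAction.IsPretransitive G Ω)
    (hfix : ∀ g : G, g ≠ 1 → Nat.card (MulAction.fixedBy Ω g) ≤ 2) (hex : ∃ g : G, g ≠ 1 ∧ Nat.card (MulAction.fixedBy Ω g) = 2) (α : Ω) (S : Sylow 2 G) :
    (S : Subgroup G) ⊓ MulAction.stabilizer G α = ⊥ ∨
    (((∃ n : ℕ, Nonempty (↥(S : Subgroup G) ≃* DihedralGroup n)) ∨ Cfsg.IsQuasiDihedral ↥(S : Subgroup G)) ∧
       (Nat.card ↥((S : Subgroup G) ⊓ MulAction.stabilizer G α) = 2 ∨ ((S : Subgroup G) ⊓ MulAction.stabilizer G α).relIndex (S : Subgroup G) = 2)) ∨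
    (4 ≤ Nat.card (S : Subgroup G) ∧
       (∃ ω : Ω, Nat.card (MulAction.orbit ↥(S : Subgroup G) ω) = 2 ∧
          ∀ ω' : Ω, ω' ∉ MulAction.orbit ↥(S : Subgroup G) ω → Nat.card (MulAction.orbit ↥(S : Subgroup G) ω') = Nat.card (S : Subgroup G)) ∧
       ∃ N : Subgroup G, N.Normal ∧ (N.index = 2 ∨ N.index = Nat.card (S : Subgroup G)) ∧ (∃ H : Subgroup ↥N, Cfsg.IsFrobeniusComplement H)) ∨
    (S : Subgroup G) ≤ MulAction.stabilizer G α := by
  exact Cfsg.Agent.Lib.Helper59.FxAsm.thm_of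
    Cfsg.Agent.Lib.Helper13.FxBETA.main
    Cfsg.Agent.Lib.Helper13.FxIDX.main
    Cfsg.Agent.Lib.Helper34.FxTWO.main
    Cfsg.Agent.Lib.Helper34.FxUCENT.main
    Cfsg.Agent.Lib.Helper34.FxORB.main
    Cfsg.Agent.Lib.Helper74.FxCYCORB.main
    Cfsg.Agent.Lib.Helper28.FxFROB.main
    (Cfsg.Agent.Lib.Helper66.FxNSIGN.main Cfsg.Agent.Lib.Helper66.FxSGN.main)
    (Cfsg.Agent.Lib.Helper74.FxNCYC.main Cfsg.Agent.Lib.Helper66.FxSGN.main)
    Cfsg.Agent.Lib.Helper74.FxORD4.main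
    (fun hS x hx hC => Cfsg.Agent.S3224.result hS x hx hC)
    htr hfix α S

end Cfsg.Agent.S3390
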