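-- Statement S3413: a finite group with the commuting graph of M11 is isomorphic to M11.
-- The bijection gives the order 7920 and the centralizer orders; an element of order 11 has a
-- centralizer of order 11, so 11 is isolated in the prime graph (S2490, S0420).
import Cfsg.Statements.S3413
import Cfsg.Agent.Lib.Helper68.M11Iso

set_option autoImplicit false
open Cfsg

namespace Cfsg.Agent.S3413

open Subgroup Cfsg.Agent.Lib.Helper68

/-- Let H be a finite group whose commuting graph (vertices the non-identity elements, two joined when they commute) is isomorphic to that of the Mathieu group M_11: there is a bijection between the non-identity elements of H and of M_11 under which two elements commute exactly when their images do. Then H ≅ M_11. -/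
theorem result {H : Type*} [Group H] [Finite H]
    (f : {h : H // h ≠ 1} ≃ {g : ↥Cfsg.Spor.M11 // g ≠ 1})
    (hf : ∀ x y : {h : H // h ≠ 1}, (x : H) * y = y * x ↔ ((f x) : ↥Cfsg.Spor.M11) * (f y) = (f y) * (f x)) :
    Nonempty (H ≃* ↥Cfsg.Spor.M11) := by
  classical
  have hM : Nat.card ↥Spor.M11 = 7920 := M11Spor.card_spor
  have hH : Nat.card H = 7920 := by
    have h1 := Nat.card_congr (Equiv.optionSubtypeNe (1 : H))
    have h2 := Nat.card_congr (Equiv.optionSubtypeNe (1 : ↥Spor.M11))
    rw [Finite.card_option] at h1 h2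
    rw [Nat.card_congr f] at h1
    omega
  -- centralizer orders are preserved
  have hcent : ∀ (a : H) (ha : a ≠ 1), Nat.card (centralizer ({a} : Set H))
      = Nat.card (centralizer ({((f ⟨a, ha⟩ : {g : ↥Spor.M11 // g ≠ 1}) : ↥Spor.M11)} :
          Set ↥Spor.M11)) := by
    intro a ha
    rw [← M11Nse.card_comm_add_one a, ← M11Nse.card_comm_add_one]
    congr 1
    exact Nat.card_congr (f.subtypeEquiv (fun u => hf u ⟨a, ha⟩))
  apply M11Iso.iso_of_disc hH
  intro g hg
  obtain ⟨m, hm⟩ := hg
  have hpos : 0 < orderOf g := orderOf_pos g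
  have hm0 : m ≠ 0 := by
    rintro rfl
    rw [mul_zero] at hm
    omega
  have hho : orderOf (g ^ m) = 11 := by
    rw [orderOf_pow' g hm0, hm, Nat.gcd_mul_left_left, Nat.mul_div_cancel _ (Nat.pos_of_ne_zero hm0)]
  have hh1 : g ^ m ≠ 1 := by
    intro h
    rw [h, orderOf_one] at hho
    norm_num at hho
  have h11 : 11 ∣ Nat.card (centralizer ({g ^ m} : Set H)) := by
    rw [← hho]
    exact Subgroup.orderOf_dvd_natCard _ (mem_centralizer_singleton_iff.mpr rfl)
  rw [hcent (g ^ m) hh1] at h11
  have hc := M11Nse.cent_eleven hM _ (f ⟨g ^ m, hh1⟩).2 h11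
  rw [← hcent (g ^ m) hh1] at hc
  have hgc : g ∈ centralizer ({g ^ m} : Set H) := by
    rw [mem_centralizer_singleton_iff]
    exact (pow_mul_comm' g m).symm
  have hd : orderOf g ∣ 11 := by
    rw [← hc]
    exact Subgroup.orderOf_dvd_natCard _ hgc
  exact Nat.dvd_antisymm hd ⟨m, hm⟩

end Cfsg.Agent.S3413
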