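import Cfsg.Statements.S3494
import Mathlib

set_option autoImplicit false
open Cfsg

namespace Cfsg.Agent.S3494

open MulAction
open scoped Pointwise

/-- A normal subgroup of a point stabilizer that moves a point of an orbit on which the
stabilizer acts primitively is transitive on that orbit. -/
theorem normal_trans {G : Type*} [Group G] {Ω : Type*} [MulAction G Ω] (γ δ : Ω)
    (hprim : IsPreprimitive (stabilizer G γ) (orbit (stabilizer G γ) δ))
    (N : Subgroup G) (hN : N ≤ stabilizer G γ)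
    (hnorm : ∀ g ∈ stabilizer G γ, ∀ k ∈ N, g * k * g⁻¹ ∈ N)
    (hmove : ∃ k ∈ N, k • δ ≠ δ) :
    ∀ δ' ∈ orbit (stabilizer G γ) δ, ∃ k ∈ N, k • δ = δ' := by
  intro δ' hδ'
  have hnormal : (N.subgroupOf (stabilizer G γ)).Normal := by
    constructor
    intro n hn g
    rw [Subgroup.mem_subgroupOf] at hn ⊢
    simpa using hnorm g g.2 n hn
  obtain ⟨k, hk, hkδ⟩ := hmove
  have hfp : fixedPoints (N.subgroupOf (stabilizer G γ)) (orbit (stabilizer G γ) δ) ≠ Set.univ := by
    intro hfix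
    have hmem : (⟨δ, mem_orbit_self δ⟩ : orbit (stabilizer G γ) δ) ∈
        fixedPoints (N.subgroupOf (stabilizer G γ)) (orbit (stabilizer G γ) δ) := by
      rw [hfix]; trivial
    have h2 := hmem ⟨⟨k, hN hk⟩, by rw [Subgroup.mem_subgroupOf]; exact hk⟩
    apply hkδ
    exact congrArg Subtype.val h2
  have htr := IsQuasiPreprimitive.isPretransitive_of_normal (G := stabilizer G γ)
    (X := orbit (stabilizer G γ) δ) (N := N.subgroupOf (stabilizer G γ)) hfp
  obtain ⟨n, hn⟩ := htr.exists_smul_eq ⟨δ, mem_orbit_self δ⟩ ⟨δ', hδ'⟩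
  refine ⟨((n : stabilizer G γ) : G), n.2, ?_⟩
  exact congrArg Subtype.val hn

/-- A function compatible with a primitive action that takes the same value at two points
is constant. -/
theorem const_of_compat {G : Type*} [Group G] {Ω : Type*} [MulAction G Ω]
    [IsPreprimitive G Ω] {T : Type*} (f : Ω → T)
    (hf : ∀ (g : G) (x y : Ω), f x = f y → f (g • x) = f (g • y))
    {a b : Ω} (hab : a ≠ b) (h : f a = f b) : ∀ x, f x = f a := by
  have hB : IsBlock G {x | f x = f a} := by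
    rw [isBlock_iff_smul_eq_of_mem]
    intro g x hx hgx
    ext z
    simp only [Set.mem_smul_set_iff_inv_smul_mem, Set.mem_ofPred_eq] at hx hgx ⊢
    constructor
    · intro hz
      have := hf g _ _ (hz.trans hx.symm)
      rw [smul_inv_smul] at this
      exact this.trans hgx
    · intro hz
      have := hf g⁻¹ _ _ (hz.trans hgx.symm)
      rw [inv_smul_smul] at this
      exact this.trans hx
  rcases hB.subsingleton_or_eq_univ with hs | hu
  · exact absurd (hs (show a ∈ {x | f x = f a} from rfl) (show b ∈ {x | f x = f a} from h.symm)) hab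
  · intro x
    have : x ∈ {x | f x = f a} := by rw [hu]; trivial
    exact this

/-- Two distinct point stabilizers of a primitive non-regular group cannot both stabilize a
nonempty proper subset. -/
theorem two_stab {G : Type*} [Group G] [Finite G] {Ω : Type*} [MulAction G Ω]
    [IsPreprimitive G Ω] [FaithfulSMul G Ω] (hH : ∀ α : Ω, stabilizer G α ≠ ⊥)
    (O : Set Ω) (hO : O.Nonempty) {γ γ' : Ω} (hne : γ ≠ γ')
    (h1 : ∀ g ∈ stabilizer G γ, ∀ x ∈ O, g • x ∈ O)
    (h2 : ∀ g ∈ stabilizer G γ', ∀ x ∈ O, g • x ∈ O) : O = Set.univ := by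
  have hnt : Nontrivial Ω := ⟨⟨γ, γ', hne⟩⟩
  have hco : IsCoatom (stabilizer G γ) :=
    IsPreprimitive.isCoatom_stabilizer_of_isPreprimitive G γ
  have key : ∀ (δ : Ω), (∀ g ∈ stabilizer G δ, ∀ x ∈ O, g • x ∈ O) →
      stabilizer G δ ≤ stabilizer G O := by
    intro δ hδ g hg
    rw [mem_stabilizer_iff]
    ext z
    rw [Set.mem_smul_set_iff_inv_smul_mem]
    constructor
    · intro hz
      have := hδ g hg _ hz
      rwa [smul_inv_smul] at this
    · intro hz
      exact hδ g⁻¹ (inv_mem hg) z hz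
  have hS1 := key γ h1
  have hS2 := key γ' h2
  rcases eq_or_lt_of_le hS1 with heq | hlt
  · exfalso
    have hle : stabilizer G γ' ≤ stabilizer G γ := heq ▸ hS2
    obtain ⟨g, hg⟩ := exists_smul_eq G γ γ'
    have hcard : Nat.card (stabilizer G γ) = Nat.card (stabilizer G γ') :=
      Nat.card_congr (stabilizerEquivStabilizer hg.symm).toEquiv
    have heq' : stabilizer G γ' = stabilizer G γ :=
      Subgroup.eq_of_le_of_card_ge hle hcard.le
    have hconst := const_of_compat (G := G) (f := fun x : Ω => stabilizer G x)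
      (by
        intro g x y hxy
        simp only [stabilizer_smul_eq_stabilizer_map_conj, hxy]) hne heq'.symm
    apply hH γ
    rw [Subgroup.eq_bot_iff_forall]
    intro k hk
    apply FaithfulSMul.eq_of_smul_eq_smul (α := Ω)
    intro x
    rw [one_smul]
    have : k ∈ stabilizer G x := by
      have := hconst x
      rw [this]; exact hk
    exact this
  · have htop : stabilizer G O = ⊤ := hco.2 _ hlt
    obtain ⟨y, hy⟩ := hO
    ext x
    simp only [Set.mem_univ, iff_true]
    obtain ⟨g, hg⟩ := exists_smul_eq G y x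
    have hgS : g ∈ stabilizer G O := by rw [htop]; trivial
    rw [mem_stabilizer_iff] at hgS
    rw [← hgS, ← hg]
    exact Set.smul_mem_smul_set hy

/-- Manning's Theorem on extremely primitive groups. Let a finite group G act faithfully and primitively on a finite set Ω with non-trivial point stabilizers, and suppose every point stabilizer G_α acts primitively on each of its orbits. Then G_α acts faithfully on each of its orbits other than {α}: an element of G_α fixing every point of one such orbit is the identity. -/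
theorem result {G : Type*} [Group G] [Finite G] {Ω : Type*} [Fintype Ω] [MulAction G Ω] [FaithfulSMul G Ω] (hprim : MulAction.IsPreprimitive G Ω) (hH : ∀ α : Ω, MulAction.stabilizer G α ≠ ⊥) (hep : ∀ (α : Ω) (ω : Ω), MulAction.IsPreprimitive (MulAction.stabilizer G α) (MulAction.orbit (MulAction.stabilizer G α) ω))
    (α ω : Ω) (hω : ω ≠ α) (h : MulAction.stabilizer G α) (hfix : ∀ x ∈ MulAction.orbit (MulAction.stabilizer G α) ω, h • x = x) : h = 1 := by
  classical
  by_contra hne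
  -- the kernels
  let K : Ω → Subgroup G := fun γ =>
    { carrier := {k | k • γ = γ ∧ ∀ g : G, g • α = γ → k • (g • ω) = g • ω}
      one_mem' := by simp
      mul_mem' := by
        rintro a b ⟨ha1, ha2⟩ ⟨hb1, hb2⟩
        exact ⟨by rw [mul_smul, hb1, ha1], fun g hg => by rw [mul_smul, hb2 g hg, ha2 g hg]⟩
      inv_mem' := by
        rintro a ⟨ha1, ha2⟩
        exact ⟨by rw [inv_smul_eq_iff, ha1], fun g hg => by rw [inv_smul_eq_iff, ha2 g hg]⟩ }
  have hKmem : ∀ γ k, k ∈ K γ ↔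
      (k • γ = γ ∧ ∀ g : G, g • α = γ → k • (g • ω) = g • ω) := fun γ k => Iff.rfl
  have hKstab : ∀ γ, K γ ≤ stabilizer G γ := fun γ k hk => hk.1
  have hKconj : ∀ (g : G) (γ : Ω) (k : G), k ∈ K γ → g * k * g⁻¹ ∈ K (g • γ) := by
    intro g γ k hk
    rw [hKmem] at hk ⊢
    refine ⟨by rw [mul_smul, mul_smul, inv_smul_smul, hk.1], fun g' hg' => ?_⟩
    have h1 : (g⁻¹ * g') • α = γ := by rw [mul_smul, hg', inv_smul_smul]
    have h2 := hk.2 _ h1
    rw [mul_smul, mul_smul, ← mul_smul g⁻¹ g', h2, mul_smul, smul_inv_smul]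
  -- the fixed point sets
  let R : Ω → Set Ω := fun γ => {δ | ∀ k ∈ K γ, k • δ = δ}
  have hRmem : ∀ γ δ, δ ∈ R γ ↔ ∀ k ∈ K γ, k • δ = δ := fun γ δ => Iff.rfl
  have hRself : ∀ γ, γ ∈ R γ := fun γ k hk => hKstab γ hk
  have hRsmul : ∀ (g : G) (γ δ : Ω), δ ∈ R γ → g • δ ∈ R (g • γ) := by
    intro g γ δ hδ k hk
    have h1 := hKconj g⁻¹ (g • γ) k hk
    rw [inv_smul_smul, inv_inv] at h1
    have h2 := hδ _ h1
    rw [mul_smul, mul_smul, inv_smul_eq_iff] at h2
    exact h2
  have hRiff : ∀ (g : G) (γ z : Ω), z ∈ R (g • γ) ↔ g⁻¹ • z ∈ R γ := by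
    intro g γ z
    constructor
    · intro hz
      have := hRsmul g⁻¹ _ _ hz
      rwa [inv_smul_smul] at this
    · intro hz
      have := hRsmul g _ _ hz
      rwa [smul_inv_smul] at this
  have hhK : (h : G) ∈ K α := by
    rw [hKmem]
    refine ⟨h.2, fun g hg => ?_⟩
    exact hfix (g • ω) ⟨⟨g, hg⟩, rfl⟩
  have hωR : ω ∈ R α := fun k hk => by simpa using hk.2 1 (one_smul _ _)
  have hex : ∃ σ, σ ∉ R α := by
    by_contra hall
    push Not at hall
    apply hne
    apply Subtype.ext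
    apply FaithfulSMul.eq_of_smul_eq_smul (α := Ω)
    intro x
    rw [Subgroup.coe_one, one_smul]
    exact hall x _ hhK
  obtain ⟨σ₀, hσ₀⟩ := hex
  -- an extremal pair
  obtain ⟨⟨α₁, σ₁⟩, hmem, hmax⟩ := Set.exists_max_image {p : Ω × Ω | p.2 ∉ R p.1}
    (fun p => (orbit (stabilizer G p.1) p.2).ncard) (Set.toFinite _) ⟨(α, σ₀), hσ₀⟩
  simp only [Set.mem_ofPred_eq, Prod.forall] at hmem hmax
  set O := orbit (stabilizer G α₁) σ₁ with hOdef
  have hσ₁O : σ₁ ∈ O := mem_orbit_self σ₁
  have hα₁O : α₁ ∉ O := by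
    rintro ⟨g, hg⟩
    apply hmem
    have h1 : σ₁ = α₁ := by
      have h2 : (g : G) • σ₁ = α₁ := hg
      have h3 : (g : G) • α₁ = α₁ := g.2
      exact smul_left_cancel _ (h2.trans h3.symm)
    rw [h1]; exact hRself α₁
  have hmove : ∃ k ∈ K α₁, k • σ₁ ≠ σ₁ := by
    by_contra hall
    push Not at hall
    exact hmem hall
  have htrans := normal_trans α₁ σ₁ (hep α₁ σ₁) (K α₁) (hKstab α₁)
    (fun g hg k hk => by
      have := hKconj g α₁ k hk
      rw [mem_stabilizer_iff] at hg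
      rwa [hg] at this) hmove
  have hstabO : ∀ g ∈ stabilizer G α₁, ∀ x ∈ O, g • x ∈ O := by
    intro g hg x hx
    exact mem_orbit_of_mem_orbit (⟨g, hg⟩ : stabilizer G α₁) hx
  -- step 6
  have step6 : ∀ β ∈ R α₁, β ≠ α₁ → σ₁ ∈ R β := by
    intro β hβ hβne
    by_contra hσβ
    have hle := hmax β σ₁ hσβ
    have hsub : O ⊆ orbit (stabilizer G β) σ₁ := by
      intro x hx
      obtain ⟨k, hk, rfl⟩ := htrans x hx
      exact ⟨⟨k, hβ k hk⟩, rfl⟩
    have heq : O = orbit (stabilizer G β) σ₁ :=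
      Set.eq_of_subset_of_ncard_le hsub hle (Set.toFinite _)
    have h2 : ∀ g ∈ stabilizer G β, ∀ x ∈ O, g • x ∈ O := by
      intro g hg x hx
      rw [heq] at hx ⊢
      exact mem_orbit_of_mem_orbit (⟨g, hg⟩ : stabilizer G β) hx
    have := two_stab hH O ⟨σ₁, hσ₁O⟩ (Ne.symm hβne) hstabO h2
    rw [this] at hα₁O
    exact hα₁O trivial
  have step6b : ∀ β ∈ R α₁, β ≠ α₁ → ∀ x ∈ O, x ∈ R β := by
    intro β hβ hβne x hx
    obtain ⟨k, hk, rfl⟩ := htrans x hx
    have := hRsmul k β σ₁ (step6 β hβ hβne)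
    rwa [hβ k hk] at this
  -- step 7: symmetry
  have step7 : ∀ β ∈ R α₁, β ≠ α₁ → α₁ ∈ R β := by
    intro β hβ hβne k hk
    by_contra hkα
    have hfixO : ∀ x ∈ O, k • x = x := fun x hx => step6b β hβ hβne x hx k hk
    have h2 : ∀ g ∈ stabilizer G (k • α₁), ∀ x ∈ O, g • x ∈ O := by
      intro g hg x hx
      have hg' : k⁻¹ * g * k ∈ stabilizer G α₁ := by
        rw [mem_stabilizer_iff] at hg ⊢
        rw [mul_smul, mul_smul, hg, inv_smul_smul]
      have h3 : (k⁻¹ * g * k) • x ∈ O := hstabO _ hg' x hx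
      rw [mul_smul, mul_smul, hfixO x hx] at h3
      have h4 := hfixO _ h3
      rw [smul_inv_smul] at h4
      rw [h4]; exact h3
    have := two_stab hH O ⟨σ₁, hσ₁O⟩ (Ne.symm hkα) hstabO h2
    rw [this] at hα₁O
    exact hα₁O trivial
  have hsymm : ∀ γ δ, δ ∈ R γ → δ ≠ γ → γ ∈ R δ := by
    intro γ δ hδ hδne
    obtain ⟨g, rfl⟩ := exists_smul_eq G α₁ γ
    have h1 : g⁻¹ • δ ∈ R α₁ := (hRiff g α₁ δ).mp hδ
    have h2 : g⁻¹ • δ ≠ α₁ := by
      intro h; apply hδne; rw [← h, smul_inv_smul]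
    have h3 := step7 _ h1 h2
    have := hRsmul g _ _ h3
    rwa [smul_inv_smul] at this
  -- step 8
  have hσα : σ₁ ≠ α₁ := fun h => hmem (h ▸ hRself α₁)
  have hsub8 : R α₁ \ {α₁} ⊆ R σ₁ \ {σ₁} := by
    rintro β ⟨hβ, hβne⟩
    have hβne' : β ≠ α₁ := hβne
    have h1 := step6 β hβ hβne'
    have h2 : σ₁ ≠ β := fun h => hmem (h ▸ hβ)
    exact ⟨hsymm β σ₁ h1 h2, fun h => h2 h.symm⟩
  have hcardle : ∀ (g : G) (γ : Ω), (R γ).ncard ≤ (R (g • γ)).ncard := by
    intro g γ
    apply Set.ncard_le_ncard_of_injOn (fun x => g • x)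
    · intro x hx; exact hRsmul g γ x hx
    · intro x _ y _ hxy; exact smul_left_cancel g hxy
  have hcard : (R σ₁).ncard = (R α₁).ncard := by
    obtain ⟨g, rfl⟩ := exists_smul_eq G α₁ σ₁
    apply le_antisymm
    · have := hcardle g⁻¹ (g • α₁)
      rwa [inv_smul_smul] at this
    · exact hcardle g α₁
  have hF : R α₁ \ {α₁} = R σ₁ \ {σ₁} := by
    apply Set.eq_of_subset_of_ncard_le hsub8 _ (Set.toFinite _)
    rw [Set.ncard_sdiff_singleton_of_mem (hRself σ₁), Set.ncard_sdiff_singleton_of_mem (hRself α₁),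
      hcard]
  -- step 9
  have hconst := const_of_compat (G := G) (f := fun x : Ω => R x \ {x})
    (by
      intro g x y hxy
      ext z
      have hx : z ∈ R (g • x) \ {g • x} ↔ g⁻¹ • z ∈ R x \ {x} := by
        simp only [Set.mem_sdiff, Set.mem_singleton_iff, hRiff, inv_smul_eq_iff]
      have hy : z ∈ R (g • y) \ {g • y} ↔ g⁻¹ • z ∈ R y \ {y} := by
        simp only [Set.mem_sdiff, Set.mem_singleton_iff, hRiff, inv_smul_eq_iff]
      rw [hx, hy, hxy]) (Ne.symm hσα) hF
  obtain ⟨g, hg⟩ := exists_smul_eq G α α₁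
  have hβ : g • ω ∈ R α₁ := by
    have := hRsmul g α ω hωR
    rwa [hg] at this
  have hβne : g • ω ≠ α₁ := by
    rw [← hg]; intro h; exact hω (smul_left_cancel g h)
  have h1 : g • ω ∈ R α₁ \ {α₁} := ⟨hβ, hβne⟩
  have h2 := hconst (g • ω)
  rw [← h2] at h1
  exact h1.2 rfl

end Cfsg.Agent.S3494
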