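import Cfsg.Statements.S3495
import Cfsg.Agent.S3494
import Mathlib

set_option autoImplicit false
open Cfsg

namespace Cfsg.Agent.S3495

open MulAction

/-- Let a finite group G act faithfully and primitively on a finite set Ω with non-trivial point stabilizers, each acting primitively on every one of its orbits (an extremely primitive group), and suppose G has an elementary abelian normal p-subgroup N acting regularly on Ω (affine type). Then every non-trivial subgroup M of a point stabilizer G_α that is normal in G_α has the same orbits on Ω as G_α, and normalizes no subgroup of N other than 1 and N. -/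
theorem result {G : Type*} [Group G] [Finite G] {Ω : Type*} [Fintype Ω] [MulAction G Ω] [FaithfulSMul G Ω] (hprim : MulAction.IsPreprimitive G Ω) (hH : ∀ α : Ω, MulAction.stabilizer G α ≠ ⊥) (hep : ∀ (α : Ω) (ω : Ω), MulAction.IsPreprimitive (MulAction.stabilizer G α) (MulAction.orbit (MulAction.stabilizer G α) ω))
    (N : Subgroup G) [N.Normal] (hNc : IsMulCommutative N) (p : ℕ) (hp : p.Prime) (hNp : ∀ n ∈ N, n ^ p = 1)
    (hNtr : MulAction.IsPretransitive N Ω) (hNreg : ∀ ω : Ω, MulAction.stabilizer N ω = ⊥) (α : Ω) (M : Subgroup G) (hM : M ≠ ⊥) (hMle : M ≤ MulAction.stabilizer G α)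
    (hMn : MulAction.stabilizer G α ≤ Subgroup.normalizer (M : Set G)) :
    (∀ ω : Ω, MulAction.orbit M ω = MulAction.orbit (MulAction.stabilizer G α) ω) ∧
    (∀ L : Subgroup G, L ≤ N → M ≤ Subgroup.normalizer (L : Set G) → L = ⊥ ∨ L = N) := by
  classical
  have hMnorm : ∀ g ∈ stabilizer G α, ∀ k ∈ M, g * k * g⁻¹ ∈ M :=
    Subgroup.le_normalizer_iff.mp hMn
  -- part (a)
  have hsub : ∀ ω : Ω, orbit M ω ⊆ orbit (stabilizer G α) ω := by
    rintro ω x ⟨m, rfl⟩
    exact ⟨⟨m, hMle m.2⟩, rfl⟩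
  have hNregα : ∀ n ∈ N, n • α = α → n = 1 := by
    intro n hn hfix
    have hmem : (⟨n, hn⟩ : N) ∈ stabilizer N α := hfix
    rw [hNreg α, Subgroup.mem_bot] at hmem
    exact congrArg Subtype.val hmem
  have hA : ∀ ω : Ω, orbit M ω = orbit (stabilizer G α) ω := by
    intro ω
    apply Set.Subset.antisymm (hsub ω)
    by_cases hmove : ∃ k ∈ M, k • ω ≠ ω
    · intro x hx
      obtain ⟨k, hk, hkx⟩ := Cfsg.Agent.S3494.normal_trans α ω (hep α ω) M hMle hMnorm hmove x hx
      exact ⟨⟨k, hk⟩, hkx⟩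
    · push Not at hmove
      by_cases hωα : ω = α
      · subst hωα
        rintro x ⟨g, rfl⟩
        have : (g : G) • ω = ω := g.2
        change (g : G) • ω ∈ orbit M ω
        rw [this]
        exact mem_orbit_self ω
      · exfalso
        apply hM
        rw [Subgroup.eq_bot_iff_forall]
        intro m hm
        have h1 : (⟨m, hMle hm⟩ : stabilizer G α) = 1 := by
          apply Cfsg.Agent.S3494.result hprim hH hep α ω hωα
          rintro x ⟨g, rfl⟩
          change m • ((g : G) • ω) = (g : G) • ω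
          have h2 : (g : G)⁻¹ * m * ((g : G)⁻¹)⁻¹ ∈ M := hMnorm _ (inv_mem g.2) m hm
          have h3 := hmove _ h2
          rw [inv_inv, mul_smul, mul_smul, inv_smul_eq_iff] at h3
          exact h3
        exact congrArg Subtype.val h1
  refine ⟨hA, ?_⟩
  -- part (b)
  intro L hLN hML
  by_cases hL : L = ⊥
  · exact Or.inl hL
  right
  have hMLnorm : ∀ m ∈ M, ∀ l ∈ L, m * l * m⁻¹ ∈ L := Subgroup.le_normalizer_iff.mp hML
  -- the orbit of α under L is invariant under the stabilizer
  have hBM : ∀ m ∈ M, ∀ l ∈ L, ∃ l' ∈ L, m • l • α = l' • α := by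
    intro m hm l hl
    refine ⟨m * l * m⁻¹, hMLnorm m hm l hl, ?_⟩
    have : m⁻¹ • α = α := by
      rw [inv_smul_eq_iff]; exact (hMle hm).symm
    rw [mul_smul, mul_smul, this]
  have hBG : ∀ g ∈ stabilizer G α, ∀ l ∈ L, ∃ l' ∈ L, g • l • α = l' • α := by
    intro g hg l hl
    have h1 : g • l • α ∈ orbit (stabilizer G α) (l • α) := ⟨⟨g, hg⟩, rfl⟩
    rw [← hA] at h1
    obtain ⟨m, hm⟩ := h1
    obtain ⟨l', hl', h2⟩ := hBM m m.2 l hl
    refine ⟨l', hl', ?_⟩
    rw [← h2]
    exact hm.symm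
  have hGαL : ∀ g ∈ stabilizer G α, ∀ l ∈ L, g * l * g⁻¹ ∈ L := by
    intro g hg l hl
    obtain ⟨l', hl', h1⟩ := hBG g hg l hl
    have hgα : g⁻¹ • α = α := by
      rw [inv_smul_eq_iff]; exact (mem_stabilizer_iff.mp hg).symm
    have h2 : (l'⁻¹ * (g * l * g⁻¹)) • α = α := by
      rw [mul_smul, mul_smul, mul_smul, hgα, h1, inv_smul_smul]
    have hconjN : g * l * g⁻¹ ∈ N := Subgroup.Normal.conj_mem inferInstance l (hLN hl) g
    have h3 := hNregα _ (N.mul_mem (N.inv_mem (hLN hl')) hconjN) h2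
    have h4 : g * l * g⁻¹ = l' := by
      rw [inv_mul_eq_one] at h3
      exact h3.symm
    rw [h4]; exact hl'
  have hNL : ∀ n ∈ N, ∀ l ∈ L, n * l * n⁻¹ ∈ L := by
    intro n hn l hl
    have hcomm : n * l = l * n := by
      have := hNc.is_comm.comm (⟨n, hn⟩ : N) ⟨l, hLN hl⟩
      exact congrArg Subtype.val this
    rw [hcomm, mul_inv_cancel_right]
    exact hl
  have hGL : ∀ g : G, ∀ l ∈ L, g * l * g⁻¹ ∈ L := by
    intro g l hl
    obtain ⟨n, hn⟩ := hNtr.exists_smul_eq α (g • α)
    have hn' : (n : G) • α = g • α := hn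
    have hs : (n : G)⁻¹ * g ∈ stabilizer G α := by
      rw [mem_stabilizer_iff, mul_smul, ← hn', inv_smul_smul]
    have h1 := hGαL _ hs l hl
    have h2 := hNL n n.2 _ h1
    have h3 : (n : G) * ((n : G)⁻¹ * g * l * ((n : G)⁻¹ * g)⁻¹) * (n : G)⁻¹ = g * l * g⁻¹ := by
      group
    rw [h3] at h2
    exact h2
  have hLnormal : L.Normal := ⟨fun l hl g => hGL g l hl⟩
  have hfp : fixedPoints L Ω ≠ Set.univ := by
    intro hfix
    apply hL
    rw [Subgroup.eq_bot_iff_forall]
    intro l hl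
    apply FaithfulSMul.eq_of_smul_eq_smul (α := Ω)
    intro x
    rw [one_smul]
    have hx : x ∈ fixedPoints L Ω := by rw [hfix]; trivial
    exact hx ⟨l, hl⟩
  have hLtr : IsPretransitive L Ω := IsQuasiPreprimitive.isPretransitive_of_normal hfp
  apply le_antisymm hLN
  intro n hn
  obtain ⟨l, hl⟩ := hLtr.exists_smul_eq α (n • α)
  have hl' : (l : G) • α = n • α := hl
  have h1 : ((l : G)⁻¹ * n) • α = α := by
    rw [mul_smul, ← hl', inv_smul_smul]
  have h2 := hNregα _ (N.mul_mem (N.inv_mem (hLN l.2)) hn) h1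
  rw [inv_mul_eq_one] at h2
  rw [← h2]
  exact l.2

end Cfsg.Agent.S3495
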