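import Cfsg.Statements.S3496
import Cfsg.Agent.S3494
import Cfsg.Agent.S3495
import Cfsg.Agent.S3497
import Cfsg.Agent.Lib.Helper58.IrredCyclic
import Cfsg.Agent.Lib.Helper31.CoprimeGen
import Cfsg.Agent.Lib.Helper78.Fitting

set_option autoImplicit false
open Cfsg

namespace Cfsg.Agent.S3496

open MulAction

open scoped IsMulCommutative commutatorElement in
/-- A nontrivial solvable group has nontrivial Fitting subgroup. -/
theorem fitting_ne_bot_of_solvable (X : Type*) [Group X] [Nontrivial X] [Group.IsSolvable X] :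
    fittingSubgroup X ≠ ⊥ := by
  classical
  have hex : ∃ n, derivedSeries X n = ⊥ := Group.IsSolvable.solvable (G := X)
  have hn : derivedSeries X (Nat.find hex) = ⊥ := Nat.find_spec hex
  have hn0 : Nat.find hex ≠ 0 := by
    intro h0
    rw [h0, derivedSeries_zero] at hn
    exact top_ne_bot hn
  obtain ⟨m, hm⟩ := Nat.exists_eq_succ_of_ne_zero hn0
  have hAne : derivedSeries X m ≠ ⊥ := Nat.find_min hex (by omega)
  have hcomm : ⁅derivedSeries X m, derivedSeries X m⁆ = ⊥ := by
    rw [← derivedSeries_succ, ← Nat.succ_eq_add_one, ← hm]; exact hn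
  have hnormal : (derivedSeries X m).Normal := derivedSeries_normal X m
  have hc : IsMulCommutative (derivedSeries X m) := by
    refine ⟨⟨fun a b => ?_⟩⟩
    have : ⁅(a : X), (b : X)⁆ ∈ ⁅derivedSeries X m, derivedSeries X m⁆ :=
      Subgroup.commutator_mem_commutator a.2 b.2
    rw [hcomm, Subgroup.mem_bot, commutatorElement_eq_one_iff_mul_comm] at this
    exact Subtype.ext this
  have hnil : Group.IsNilpotent (derivedSeries X m) := inferInstance
  have hle := Lib.Helper78.Fitting.le_fitting hnormal hnil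
  intro hbot
  exact hAne (le_bot_iff.mp (hbot ▸ hle))

/-- A subgroup fixing a point and acting semiregularly off it has order dividing `|Ω| - 1`. -/
theorem card_dvd_card_sub_one {G : Type*} [Group G] {Ω : Type*} [Fintype Ω] [MulAction G Ω]
    (M : Subgroup G) (α : Ω) (hfix : ∀ m ∈ M, m • α = α)
    (hsr : ∀ ω : Ω, ω ≠ α → ∀ m ∈ M, m • ω = ω → m = 1) :
    Nat.card M ∣ Fintype.card Ω - 1 := by
  classical
  let S : SubMulAction M Ω :=
    { carrier := {ω | ω ≠ α}
      smul_mem' := by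
        intro f ω hω hfω
        apply hω
        have h1 : (f : G) • ω = α := hfω
        have h2 : (f : G) • α = α := hfix f f.2
        exact smul_left_cancel _ (h1.trans h2.symm) }
  have hfree : ∀ s : S, stabilizer M s = ⊥ := by
    intro s
    rw [Subgroup.eq_bot_iff_forall]
    intro f hf
    have h1 : f • s = s := hf
    have h2 : (f : G) • (s : Ω) = s := congrArg Subtype.val h1
    exact Subtype.ext (hsr s s.2 f f.2 h2)
  have e1 := MulAction.selfEquivOrbitsQuotientProd hfree
  have hc1 : Nat.card S = Nat.card (Quotient (MulAction.orbitRel M S)) * Nat.card M := by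
    rw [← Nat.card_prod]; exact Nat.card_congr e1
  have hc2 : Nat.card S = Fintype.card Ω - 1 := by
    have : Nat.card S = Nat.card {ω : Ω // ω ≠ α} :=
      Nat.card_congr (Equiv.subtypeEquivRight (fun x => Iff.rfl))
    rw [this, Nat.card_eq_fintype_card, Fintype.card_subtype_compl, Fintype.card_subtype_eq]
  rw [← hc2, hc1]
  exact Dvd.intro_left _ rfl

theorem zpowers_le_normalizer_of_conj_mem {G : Type*} [Group G] (L : Subgroup G) (t : G) (q : ℕ)
    (hq : 0 < q) (htq : t ^ q = 1) (hL : ∀ n ∈ L, t * n * t⁻¹ ∈ L) :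
    Subgroup.zpowers t ≤ Subgroup.normalizer (L : Set G) := by
  rw [Subgroup.zpowers_le, Subgroup.mem_normalizer_iff]
  have hiter : ∀ j : ℕ, ∀ n ∈ L, t ^ j * n * (t ^ j)⁻¹ ∈ L := by
    intro j
    induction j with
    | zero => intro n hn; simpa using hn
    | succ j ih =>
      intro n hn
      have := hL _ (ih n hn)
      have h2 : t ^ (j + 1) * n * (t ^ (j + 1))⁻¹ = t * (t ^ j * n * (t ^ j)⁻¹) * t⁻¹ := by
        rw [pow_succ']; group
      rw [h2]; exact this
  intro x
  refine ⟨hL x, fun hx => ?_⟩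
  have h1 := hiter (q - 1) _ hx
  have h2 : t ^ (q - 1) * (t * x * t⁻¹) * (t ^ (q - 1))⁻¹ = x := by
    have h3 : t ^ (q - 1) * t = 1 := by
      rw [← pow_succ, Nat.sub_add_cancel hq, htq]
    calc t ^ (q - 1) * (t * x * t⁻¹) * (t ^ (q - 1))⁻¹
        = (t ^ (q - 1) * t) * x * (t ^ (q - 1) * t)⁻¹ := by group
      _ = x := by rw [h3]; simp
  rw [h2] at h1
  exact h1


open scoped IsMulCommutative in
/-- From the conjugation action on an elementary abelian normal subgroup to linear algebra. -/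
theorem bridge {G : Type*} [Group G] (N : Subgroup G) [N.Normal] [Finite N]
    (hNc : ∀ a ∈ N, ∀ b ∈ N, a * b = b * a) (p d : ℕ) (hp : p.Prime)
    (hexp : ∀ x ∈ N, x ^ p = 1) (hcard : Nat.card N = p ^ d) (hd : 0 < d)
    (t : G) (q : ℕ) (htq : t ^ q = 1)
    (hirr : ∀ L : Subgroup G, L ≤ N → (∀ n ∈ L, t * n * t⁻¹ ∈ L) → L = ⊥ ∨ L = N) :
    (∀ i, 0 < i → i < d → ¬ q ∣ p ^ i - 1) ∧
    (∀ (h : G) (k : ℕ), h * t * h⁻¹ = t ^ k →
      ∃ j : ℕ, ∀ n ∈ N, t ^ k * n * (t ^ k)⁻¹ = t ^ (p ^ j) * n * (t ^ (p ^ j))⁻¹) := by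
  have : Fact p.Prime := ⟨hp⟩
  have hNc' : IsMulCommutative N := ⟨⟨fun a b => Subtype.ext (hNc a a.2 b b.2)⟩⟩
  have hNp' : ∀ x : Additive N, p • x = 0 := by
    intro x
    have h1 := hexp ((Additive.toMul x : N) : G) (Additive.toMul x : N).2
    apply Additive.toMul.injective
    rw [toMul_nsmul, toMul_zero]
    ext
    simpa using h1
  let _ : Module (ZMod p) (Additive N) := AddCommGroup.zmodModule (n := p) hNp'
  have hcardN : Nat.card (Additive N) = p ^ d := by
    rw [← hcard]
    exact Nat.card_congr Additive.toMul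
  let f : G →* Module.End (ZMod p) (Additive N) :=
    { toFun := fun h => AddMonoidHom.toZModLinearMap p
        ((MulAut.conjNormal h : MulAut N).toMonoidHom.toAdditive)
      map_one' := by
        ext x
        simp
      map_mul' := fun h k => by
        ext x
        simp [mul_assoc] }
  have hf : ∀ (h : G) (x : Additive N),
      ((Additive.toMul (f h x) : N) : G) = h * (Additive.toMul x : N) * h⁻¹ := by
    intro h x
    rfl
  have hcq : (f t) ^ q = 1 := by rw [← map_pow, htq, map_one]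
  have hirr' : ∀ W : Submodule (ZMod p) (Additive N), (∀ w ∈ W, f t w ∈ W) → W = ⊥ ∨ W = ⊤ := by
    intro W hW
    let L : Subgroup G :=
      { carrier := {g | ∃ hg : g ∈ N, Additive.ofMul (⟨g, hg⟩ : N) ∈ W}
        one_mem' := ⟨one_mem _, W.zero_mem⟩
        mul_mem' := by
          rintro a b ⟨ha, haW⟩ ⟨hb, hbW⟩
          exact ⟨mul_mem ha hb, W.add_mem haW hbW⟩
        inv_mem' := by
          rintro a ⟨ha, haW⟩
          exact ⟨inv_mem ha, W.neg_mem haW⟩ }
    have hLmem : ∀ g, g ∈ L ↔ ∃ hg : g ∈ N, Additive.ofMul (⟨g, hg⟩ : N) ∈ W := fun g => Iff.rfl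
    have hLN : L ≤ N := fun g hg => hg.1
    have hLt : ∀ n ∈ L, t * n * t⁻¹ ∈ L := by
      rintro n ⟨hn, hnW⟩
      exact ⟨‹N.Normal›.conj_mem n hn t, hW _ hnW⟩
    rcases hirr L hLN hLt with h | h
    · left
      rw [Submodule.eq_bot_iff]
      intro w hw
      have hwL : ((Additive.toMul w : N) : G) ∈ L := ⟨(Additive.toMul w).2, hw⟩
      rw [h, Subgroup.mem_bot] at hwL
      have h1 : (Additive.toMul w : N) = 1 := Subtype.ext hwL
      exact Additive.toMul.injective h1
    · right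
      rw [Submodule.eq_top_iff']
      intro w
      have hwL : ((Additive.toMul w : N) : G) ∈ L := by rw [h]; exact (Additive.toMul w).2
      obtain ⟨_, hw⟩ := hwL
      exact hw
  obtain ⟨h1, h2⟩ := Lib.Helper58.IrredCyclic.irred_cyclic (f t) d q hcardN hd hcq hirr'
  refine ⟨h1, ?_⟩
  intro h k hconj
  obtain ⟨j, hj⟩ := h2 (f h) (f h⁻¹) k (by rw [← map_mul, mul_inv_cancel, map_one])
    (by rw [← map_mul, inv_mul_cancel, map_one]) (by rw [← map_mul, ← map_mul, hconj, map_pow])
  refine ⟨j, fun n hn => ?_⟩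
  have h3 : f (t ^ k) = f (t ^ (p ^ j)) := by rw [map_pow, map_pow, hj]
  have h4 := congrArg (fun s : Module.End (ZMod p) (Additive N) =>
    ((Additive.toMul (s (Additive.ofMul ⟨n, hn⟩)) : N) : G)) h3
  exact h4

/-- The end game: a group with a self-centralizing normal cyclic subgroup of prime order `q` on
which every element acts as a power of the `p`-power map, where `t ^ (p ^ d) = t`. -/
theorem endgame {H : Type*} [Group H] [Finite H] (F : Subgroup H) [F.Normal] (t : H) (htF : t ∈ F)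
    (hF : ∀ x ∈ F, x ∈ Subgroup.zpowers t) (q : ℕ) (hq : q.Prime) (hcard : Nat.card F = q)
    (hcent : ∀ h : H, h * t = t * h → h ∈ F) (p d : ℕ) (hpd : t ^ (p ^ d) = t)
    (hstar : ∀ h : H, ∃ j : ℕ, h * t * h⁻¹ = t ^ (p ^ j)) :
    (∃ h0 : H, F ⊔ Subgroup.zpowers h0 = ⊤) ∧ Nat.card H ∣ q * d := by
  classical
  have hFcyc : IsCyclic F := ⟨⟨⟨t, htF⟩, fun x => by
      obtain ⟨z, hz⟩ := Subgroup.mem_zpowers_iff.mp (hF x x.2)
      exact ⟨z, Subtype.ext (by simpa using hz)⟩⟩⟩
  have hprime : Fact (Nat.card F).Prime := ⟨by rw [hcard]; exact hq⟩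
  have hcycAut : IsCyclic (MulAut F) :=
    isCyclic_of_surjective (IsCyclic.mulAutMulEquiv F).symm
      (IsCyclic.mulAutMulEquiv F).symm.surjective
  let Φ : H →* MulAut F := MulAut.conjNormal
  have hΦ : ∀ (h : H) (x : F), ((Φ h x : F) : H) = h * x * h⁻¹ := fun h x => rfl
  have hker : Φ.ker = F := by
    ext h
    rw [MonoidHom.mem_ker]
    constructor
    · intro h1
      apply hcent
      have h2 := congrArg (fun a : MulAut F => ((a ⟨t, htF⟩ : F) : H)) h1
      simp only [hΦ, MulAut.one_apply] at h2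
      calc h * t = (h * t * h⁻¹) * h := by group
        _ = t * h := by rw [h2]
    · intro hh
      ext x
      rw [hΦ, MulAut.one_apply]
      obtain ⟨a, rfl⟩ := Subgroup.mem_zpowers_iff.mp (hF h hh)
      obtain ⟨b, hb⟩ := Subgroup.mem_zpowers_iff.mp (hF x x.2)
      rw [← hb]
      group
  have hcycR : IsCyclic Φ.range := inferInstance
  obtain ⟨⟨g, ⟨h0, rfl⟩⟩, hg⟩ := IsCyclic.exists_generator (α := Φ.range)
  have hgen : ∀ h : H, ∃ z : ℤ, Φ h0 ^ z = Φ h := by
    intro h
    obtain ⟨z, hz⟩ := Subgroup.mem_zpowers_iff.mp (hg ⟨Φ h, ⟨h, rfl⟩⟩)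
    exact ⟨z, by simpa using congrArg Subtype.val hz⟩
  constructor
  · refine ⟨h0, ?_⟩
    rw [eq_top_iff]
    intro h _
    obtain ⟨z, hz⟩ := hgen h
    have h1 : h * (h0 ^ z)⁻¹ ∈ F := by
      rw [← hker, MonoidHom.mem_ker, map_mul, map_inv, map_zpow, hz, mul_inv_cancel]
    have h2 : h = (h * (h0 ^ z)⁻¹) * h0 ^ z := by group
    rw [h2]
    exact Subgroup.mul_mem_sup h1 (Subgroup.zpow_mem_zpowers h0 z)
  · have hrange : Nat.card Φ.range = orderOf (Φ h0) := by
      have h1 : Φ.range = Subgroup.zpowers (Φ h0) := by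
        ext a
        constructor
        · rintro ⟨h, rfl⟩
          obtain ⟨z, hz⟩ := hgen h
          exact ⟨z, hz⟩
        · rintro ⟨z, rfl⟩
          exact ⟨h0 ^ z, map_zpow Φ h0 z⟩
      rw [h1, Nat.card_zpowers]
    have hord : orderOf (Φ h0) ∣ d := by
      apply orderOf_dvd_of_pow_eq_one
      obtain ⟨j, hj⟩ := hstar h0
      have hiter : ∀ n : ℕ, (((Φ h0 ^ n) ⟨t, htF⟩ : F) : H) = t ^ ((p ^ j) ^ n) := by
        intro n
        induction n with
        | zero => simp
        | succ n ih =>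
          rw [pow_succ', MulAut.mul_apply, hΦ, ih, ← conj_pow, hj, ← pow_mul, ← pow_succ']
      have hpdj : ∀ j : ℕ, t ^ ((p ^ d) ^ j) = t := by
        intro j
        induction j with
        | zero => simp
        | succ j ih => rw [pow_succ, pow_mul, ih, hpd]
      ext x
      obtain ⟨z, hz⟩ := Subgroup.mem_zpowers_iff.mp (hF x x.2)
      have hx : x = (⟨t, htF⟩ : F) ^ z := Subtype.ext (by simpa using hz.symm)
      have hfix : (Φ h0 ^ d) ⟨t, htF⟩ = ⟨t, htF⟩ := by
        apply Subtype.ext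
        rw [hiter, ← pow_mul, mul_comm, pow_mul, hpdj]
      rw [hx, map_zpow, MulAut.one_apply, hfix]
    have h1 : Nat.card Φ.ker * Φ.ker.index = Nat.card H := Subgroup.card_mul_index _
    rw [Subgroup.index_ker, hker, hcard, hrange] at h1
    rw [← h1]
    exact Nat.mul_dvd_mul_left q hord


/-- The soluble extremely primitive groups. Let a finite solvable group G act faithfully and primitively on a finite set Ω with p ^ d points (p prime), with non-trivial point stabilizers each acting primitively on every one of its orbits. Then there is a prime q such that every orbit of a point stabilizer G_α other than {α} has exactly q points, q divides p ^ d − 1 but no p ^ i − 1 with 0 < i < d, and G_α has a normal subgroup T of order q with G_α generated by T and one further element and the order of G_α dividing q·d (so G_α is cyclic of order q, or an extension of T by a cyclic group of order dividing d). -/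
theorem result {G : Type*} [Group G] [Finite G] {Ω : Type*} [Fintype Ω] [MulAction G Ω] [FaithfulSMul G Ω] [Group.IsSolvable G] (p d : ℕ) (hp : p.Prime) (hcard : Fintype.card Ω = p ^ d)
    (hprim : MulAction.IsPreprimitive G Ω) (hH : ∀ α : Ω, MulAction.stabilizer G α ≠ ⊥) (hep : ∀ (α : Ω) (ω : Ω), MulAction.IsPreprimitive (MulAction.stabilizer G α) (MulAction.orbit (MulAction.stabilizer G α) ω)) (α : Ω) :
    ∃ q : ℕ, q.Prime ∧ (∀ ω : Ω, ω ≠ α → Nat.card (MulAction.orbit (MulAction.stabilizer G α) ω) = q) ∧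
      q ∣ p ^ d - 1 ∧ (∀ i : ℕ, 0 < i → i < d → ¬ q ∣ p ^ i - 1) ∧
      ∃ T : Subgroup G, T ≤ MulAction.stabilizer G α ∧ MulAction.stabilizer G α ≤ Subgroup.normalizer (T : Set G) ∧ Nat.card T = q ∧
        (∃ h : G, MulAction.stabilizer G α = T ⊔ Subgroup.zpowers h) ∧ Nat.card (MulAction.stabilizer G α) ∣ q * d := by
  classical
  have hfaithG : ∀ g : G, (∀ x : Ω, g • x = x) → g = 1 := by
    intro g hg
    apply FaithfulSMul.eq_of_smul_eq_smul (α := Ω)
    intro x; rw [hg x, one_smul]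
  obtain ⟨ω0, hω0⟩ : ∃ ω0 : Ω, ω0 ≠ α := by
    by_contra hcon
    push Not at hcon
    apply hH α
    rw [Subgroup.eq_bot_iff_forall]
    intro g hg
    apply hfaithG
    intro x
    rw [hcon x]; exact hg
  have hntΩ : Nontrivial Ω := ⟨⟨ω0, α, hω0⟩⟩
  have hd : 0 < d := by
    rcases Nat.eq_zero_or_pos d with h0 | h0
    · exfalso
      rw [h0, pow_zero] at hcard
      have := Fintype.one_lt_card (α := Ω)
      omega
    · exact h0
  -- the regular normal subgroup
  have hGnt : Nontrivial G := by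
    by_contra hc
    rw [not_nontrivial_iff_subsingleton] at hc
    exact hH α (Subsingleton.elim _ _)
  have hNne : fittingSubgroup G ≠ ⊥ := fitting_ne_bot_of_solvable G
  have hNn : (fittingSubgroup G).Normal := Lib.Helper78.Fitting.fitting_normal
  obtain ⟨hNc, hNrest⟩ := S3497.fitting_abelian hprim hfaithG
  obtain ⟨hNsr, hNself⟩ := hNrest hNne
  have hNtr : IsPretransitive (fittingSubgroup G) Ω :=
    S3497.normal_pretransitive hprim hfaithG _ hNne
  have hNreg : ∀ ω : Ω, stabilizer (fittingSubgroup G) ω = ⊥ := by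
    intro ω
    rw [Subgroup.eq_bot_iff_forall]
    intro n hn
    exact Subtype.ext (hNsr ω n n.2 hn)
  have hNcard : Nat.card (fittingSubgroup G) = p ^ d := by
    have hbij : Function.Bijective (fun n : fittingSubgroup G => n • α) := by
      constructor
      · intro a b hab
        have hab' : a • α = b • α := hab
        have : a⁻¹ * b ∈ stabilizer (fittingSubgroup G) α := by
          rw [mem_stabilizer_iff, mul_smul, ← hab', inv_smul_smul]
        rw [hNreg α, Subgroup.mem_bot] at this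
        exact inv_mul_eq_one.mp this
      · intro ω
        exact hNtr.exists_smul_eq α ω
    rw [← hcard, ← Nat.card_eq_fintype_card]
    exact Nat.card_congr (Equiv.ofBijective _ hbij)
  obtain ⟨p', e', hp', hcard', hexp'⟩ := S3497.fitting_elementary hprim hfaithG
  have hpp : p' = p := by
    have he' : e' ≠ 0 := by
      intro h0
      rw [h0, pow_zero] at hcard'
      exact hNne (Subgroup.card_eq_one.mp hcard')
    have h1 : p' ∣ p ^ d := by
      rw [← hNcard, hcard']; exact dvd_pow_self p' he'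
    exact (Nat.prime_dvd_prime_iff_eq hp' hp).mp (hp'.dvd_of_dvd_pow h1)
  rw [hpp] at hexp'
  have hNcI : IsMulCommutative (fittingSubgroup G) :=
    ⟨⟨fun a b => Subtype.ext (hNc a a.2 b b.2)⟩⟩
  -- the point stabilizer and its Fitting subgroup
  have hHnt : Nontrivial (stabilizer G α) := (Subgroup.nontrivial_iff_ne_bot _).mpr (hH α)
  have hFne : fittingSubgroup (stabilizer G α) ≠ ⊥ := fitting_ne_bot_of_solvable _
  have hFn : (fittingSubgroup (stabilizer G α)).Normal := Lib.Helper78.Fitting.fitting_normal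
  have hfaith : ∀ ω : Ω, ω ≠ α → ∀ h : stabilizer G α,
      (∀ x : orbit (stabilizer G α) ω, h • x = x) → h = 1 := by
    intro ω hω h hx
    apply S3494.result hprim hH hep α ω hω h
    intro x hxo
    exact congrArg Subtype.val (hx ⟨x, hxo⟩)
  have hnt : ∀ ω : Ω, ω ≠ α → Nontrivial (orbit (stabilizer G α) ω) := by
    intro ω hω
    obtain ⟨h, hh, hne⟩ := S3497.moves hprim hH α ω hω
    refine ⟨⟨⟨ω, mem_orbit_self ω⟩, ⟨h • ω, ?_⟩, ?_⟩⟩
    · exact ⟨⟨h, hh⟩, rfl⟩
    · intro heq; exact hne (congrArg Subtype.val heq).symm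
  have hnt0 := hnt ω0 hω0
  obtain ⟨hFc, hFrest⟩ := S3497.fitting_abelian (hep α ω0) (hfaith ω0 hω0)
  obtain ⟨-, hFself⟩ := hFrest hFne
  obtain ⟨r, e, hr, hFcard, hFexp⟩ := S3497.fitting_elementary (hep α ω0) (hfaith ω0 hω0)
  have hFsr : ∀ ω : Ω, ω ≠ α → ∀ f ∈ fittingSubgroup (stabilizer G α), f • ω = ω → f = 1 := by
    intro ω hω f hf hfω
    have := hnt ω hω
    obtain ⟨-, hrest⟩ := S3497.fitting_abelian (hep α ω) (hfaith ω hω)
    exact (hrest hFne).1 ⟨ω, mem_orbit_self ω⟩ f hf (Subtype.ext hfω)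
  -- transfer to a subgroup of G
  set M : Subgroup G := (fittingSubgroup (stabilizer G α)).map (stabilizer G α).subtype with hMdef
  have hMmem : ∀ g : G, g ∈ M ↔ ∃ hg : g ∈ stabilizer G α,
      (⟨g, hg⟩ : stabilizer G α) ∈ fittingSubgroup (stabilizer G α) := by
    intro g
    rw [hMdef, Subgroup.mem_map]
    constructor
    · rintro ⟨x, hx, rfl⟩
      exact ⟨x.2, hx⟩
    · rintro ⟨hg, hx⟩
      exact ⟨⟨g, hg⟩, hx, rfl⟩
  have hMle : M ≤ stabilizer G α := fun g hg => ((hMmem g).mp hg).1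
  have hMne : M ≠ ⊥ := by
    intro h
    exact hFne ((Subgroup.map_eq_bot_iff_of_injective _ (Subgroup.subtype_injective _)).mp h)
  have hconjM : ∀ h ∈ stabilizer G α, ∀ m ∈ M, h * m * h⁻¹ ∈ M := by
    intro h hh m hm
    obtain ⟨hm1, hm2⟩ := (hMmem m).mp hm
    rw [hMmem]
    exact ⟨mul_mem (mul_mem hh hm1) (inv_mem hh), hFn.conj_mem ⟨m, hm1⟩ hm2 ⟨h, hh⟩⟩
  have hMn : stabilizer G α ≤ Subgroup.normalizer (M : Set G) := by
    intro h hh
    rw [Subgroup.mem_normalizer_iff]
    intro x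
    refine ⟨hconjM h hh x, fun hx => ?_⟩
    have := hconjM h⁻¹ (inv_mem hh) _ hx
    simpa [mul_assoc] using this
  have hMc : ∀ a ∈ M, ∀ b ∈ M, a * b = b * a := by
    intro a ha b hb
    obtain ⟨ha1, ha2⟩ := (hMmem a).mp ha
    obtain ⟨hb1, hb2⟩ := (hMmem b).mp hb
    exact congrArg Subtype.val (hFc ⟨a, ha1⟩ ha2 ⟨b, hb1⟩ hb2)
  have hMexp : ∀ a ∈ M, a ^ r = 1 := by
    intro a ha
    obtain ⟨ha1, ha2⟩ := (hMmem a).mp ha
    exact congrArg Subtype.val (hFexp ⟨a, ha1⟩ ha2)
  have hMcardF : Nat.card M = Nat.card (fittingSubgroup (stabilizer G α)) :=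
    Subgroup.card_map_of_injective (Subgroup.subtype_injective _)
  have hMsr : ∀ ω : Ω, ω ≠ α → ∀ m ∈ M, m • ω = ω → m = 1 := by
    intro ω hω m hm hmω
    obtain ⟨hm1, hm2⟩ := (hMmem m).mp hm
    exact congrArg Subtype.val (hFsr ω hω ⟨m, hm1⟩ hm2 hmω)
  have hMself : ∀ h ∈ stabilizer G α, (∀ m ∈ M, h * m = m * h) → h ∈ M := by
    intro h hh hcomm
    rw [hMmem]
    refine ⟨hh, hFself ⟨h, hh⟩ ?_⟩
    intro f hf
    apply Subtype.ext
    exact hcomm f ((hMmem f).mpr ⟨f.2, hf⟩)
  -- |M| divides p^d - 1, so r ≠ p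
  have hMdvd : Nat.card M ∣ p ^ d - 1 := by
    rw [← hcard]
    exact card_dvd_card_sub_one M α (fun m hm => hMle hm) hMsr
  have he : e ≠ 0 := by
    intro h0
    rw [h0, pow_zero] at hFcard
    exact hFne (Subgroup.card_eq_one.mp hFcard)
  have hrp : r ≠ p := by
    intro h
    have h1 : r ∣ p ^ d - 1 := by
      refine Dvd.dvd.trans ?_ hMdvd
      rw [hMcardF, hFcard]; exact dvd_pow_self r he
    rw [h] at h1
    have h2 : p ∣ p ^ d := dvd_pow_self p hd.ne'
    have h4 : 1 ≤ p ^ d := Nat.one_le_pow _ _ hp.pos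
    have h3 : p ∣ p ^ d - (p ^ d - 1) := Nat.dvd_sub h2 h1
    have h5 : p ^ d - (p ^ d - 1) = 1 := by omega
    rw [h5] at h3
    exact hp.one_lt.ne' (Nat.dvd_one.mp h3)
  -- irreducibility
  obtain ⟨horb, hirr⟩ := S3495.result hprim hH hep (fittingSubgroup G) hNcI p hp hexp' hNtr hNreg
    α M hMne hMle hMn
  -- fixed-point-freeness
  have hfpf : ∀ f ∈ M, f ≠ 1 → ∀ n ∈ fittingSubgroup G, f * n = n * f → n = 1 := by
    intro f hf hf1 n hn hfn
    have hnorm : M ≤ Subgroup.normalizer
        ((fittingSubgroup G ⊓ Subgroup.centralizer {f} : Subgroup G) : Set G) := by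
      intro m hm
      rw [Subgroup.mem_normalizer_iff]
      have hmC : m ∈ Subgroup.centralizer ({f} : Set G) := by
        rw [Subgroup.mem_centralizer_singleton_iff]; exact hMc m hm f hf
      intro x
      rw [Subgroup.mem_inf, Subgroup.mem_inf]
      constructor
      · rintro ⟨hx1, hx2⟩
        exact ⟨hNn.conj_mem x hx1 m, mul_mem (mul_mem hmC hx2) (inv_mem hmC)⟩
      · rintro ⟨hx1, hx2⟩
        have h1 := hNn.conj_mem _ hx1 m⁻¹
        have h2 := mul_mem (mul_mem (inv_mem hmC) hx2) hmC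
        have e1 : m⁻¹ * (m * x * m⁻¹) * m⁻¹⁻¹ = x := by group
        have e2 : m⁻¹ * (m * x * m⁻¹) * m = x := by group
        rw [e1] at h1; rw [e2] at h2
        exact ⟨h1, h2⟩
    rcases hirr _ inf_le_left hnorm with h | h
    · have hnL : n ∈ fittingSubgroup G ⊓ Subgroup.centralizer {f} := by
        rw [Subgroup.mem_inf, Subgroup.mem_centralizer_singleton_iff]
        exact ⟨hn, hfn.symm⟩
      rw [h, Subgroup.mem_bot] at hnL
      exact hnL
    · exfalso
      apply hf1
      have hfN : f ∈ fittingSubgroup G := by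
        apply hNself
        intro x hx
        have hxL : x ∈ fittingSubgroup G ⊓ Subgroup.centralizer {f} := by rw [h]; exact hx
        rw [Subgroup.mem_inf, Subgroup.mem_centralizer_singleton_iff] at hxL
        exact hxL.2.symm
      exact hNsr α f hfN (hMle hf)
  -- M is cyclic of order r
  have hrF : Fact r.Prime := ⟨hr⟩
  obtain ⟨t, htM, ht1⟩ : ∃ t ∈ M, t ≠ 1 := by
    by_contra hcon
    push Not at hcon
    exact hMne ((Subgroup.eq_bot_iff_forall _).mpr hcon)
  have hNr : ¬ r ∣ Nat.card (fittingSubgroup G) := by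
    rw [hNcard]
    intro h
    exact hrp ((Nat.prime_dvd_prime_iff_eq hr hp).mp (hr.dvd_of_dvd_pow h))
  have hMt : ∀ a ∈ M, a ∈ Subgroup.zpowers t := by
    intro a ha
    by_contra hna
    have hgen := Lib.Helper31.CoprimeGen.rank_two_generation (p := r) M (fittingSubgroup G)
      (fun x => ⟨1, by rw [pow_one]; exact Subtype.ext (hMexp x x.2)⟩) hNr
      (by rw [Subgroup.normalizer_eq_top]; exact le_top) a t ha htM (hMc a ha t htM)
      (hMexp a ha) (hMexp t htM)
    have hbot : ∀ f ∈ M, f ≠ 1 → fittingSubgroup G ⊓ Subgroup.centralizer {f} = ⊥ := by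
      intro f hf hf1
      rw [Subgroup.eq_bot_iff_forall]
      intro n hn
      rw [Subgroup.mem_inf, Subgroup.mem_centralizer_singleton_iff] at hn
      exact hfpf f hf hf1 n hn.1 hn.2.symm
    apply hNne
    rw [← le_bot_iff]
    refine hgen.trans (sup_le (hbot t htM ht1).le (iSup₂_le fun j _ => ?_))
    refine (hbot (a * t ^ j) (mul_mem ha (pow_mem htM j)) ?_).le
    intro h1
    apply hna
    have : a = (t ^ j)⁻¹ := eq_inv_of_mul_eq_one_left h1
    rw [this]
    exact inv_mem (pow_mem (Subgroup.mem_zpowers t) j)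
  have hMeq : M = Subgroup.zpowers t := le_antisymm hMt (Subgroup.zpowers_le.mpr htM)
  have htr : t ^ r = 1 := hMexp t htM
  have hto : orderOf t = r := orderOf_eq_prime htr ht1
  have hMcard : Nat.card M = r := by rw [hMeq, Nat.card_zpowers, hto]
  have hrdvd : r ∣ p ^ d - 1 := hMcard ▸ hMdvd
  -- the linear algebra
  obtain ⟨hord, hstar0⟩ := bridge (fittingSubgroup G) hNc p d hp hexp' hNcard hd t r htr (by
    intro L hL hLt
    apply hirr L hL
    rw [hMeq]
    exact zpowers_le_normalizer_of_conj_mem L t r hr.pos htr hLt)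
  have hstar : ∀ h ∈ stabilizer G α, ∃ j : ℕ, h * t * h⁻¹ = t ^ (p ^ j) := by
    intro h hh
    have h1 : h * t * h⁻¹ ∈ Subgroup.zpowers t := by
      rw [← hMeq]; exact hconjM h hh t htM
    rw [← mem_powers_iff_mem_zpowers] at h1
    obtain ⟨k, hk⟩ := h1
    obtain ⟨j, hj⟩ := hstar0 h k hk.symm
    refine ⟨j, ?_⟩
    rw [← hk]
    have hgM : (t ^ (p ^ j))⁻¹ * t ^ k ∈ M := mul_mem (inv_mem (pow_mem htM _)) (pow_mem htM _)
    have hgN : (t ^ (p ^ j))⁻¹ * t ^ k ∈ fittingSubgroup G := by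
      apply hNself
      intro n hn
      have := hj n hn
      generalize t ^ (p ^ j) = a at this ⊢
      generalize t ^ k = b at this ⊢
      calc a⁻¹ * b * n = a⁻¹ * (b * n * b⁻¹) * b := by group
        _ = a⁻¹ * (a * n * a⁻¹) * b := by rw [this]
        _ = n * (a⁻¹ * b) := by group
    have hg1 := hNsr α _ hgN (hMle hgM)
    exact (inv_mul_eq_one.mp hg1).symm
  -- orbit sizes
  have hA : ∀ ω : Ω, ω ≠ α → Nat.card (orbit (stabilizer G α) ω) = r := by
    intro ω hω
    rw [← horb ω, Nat.card_coe_set_eq, ← MulAction.index_stabilizer]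
    have : stabilizer M ω = ⊥ := by
      rw [Subgroup.eq_bot_iff_forall]
      intro m hm
      exact Subtype.ext (hMsr ω hω m m.2 hm)
    rw [this, Subgroup.index_bot, hMcard]
  -- the end game inside the stabilizer
  have htH : t ∈ stabilizer G α := hMle htM
  have htF : (⟨t, htH⟩ : stabilizer G α) ∈ fittingSubgroup (stabilizer G α) := by
    obtain ⟨_, h2⟩ := (hMmem t).mp htM
    exact h2
  have hFz : ∀ x ∈ fittingSubgroup (stabilizer G α),
      x ∈ Subgroup.zpowers (⟨t, htH⟩ : stabilizer G α) := by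
    intro x hx
    have h1 : (x : G) ∈ M := (hMmem x).mpr ⟨x.2, hx⟩
    rw [hMeq] at h1
    obtain ⟨z, hz⟩ := Subgroup.mem_zpowers_iff.mp h1
    exact Subgroup.mem_zpowers_iff.mpr ⟨z, Subtype.ext (by simpa using hz)⟩
  have hcent : ∀ h : stabilizer G α, h * ⟨t, htH⟩ = ⟨t, htH⟩ * h →
      h ∈ fittingSubgroup (stabilizer G α) := by
    intro h hht
    apply hFself
    intro f hf
    obtain ⟨z, hz⟩ := Subgroup.mem_zpowers_iff.mp (hFz f hf)
    rw [← hz]
    exact (Commute.zpow_right (show Commute h ⟨t, htH⟩ from hht) z)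
  have hpd : (⟨t, htH⟩ : stabilizer G α) ^ (p ^ d) = ⟨t, htH⟩ := by
    apply Subtype.ext
    obtain ⟨m, hm⟩ := hrdvd
    have h1 : p ^ d = 1 + r * m := by
      have : 1 ≤ p ^ d := Nat.one_le_pow _ _ hp.pos
      omega
    show t ^ (p ^ d) = t
    rw [h1, pow_add, pow_one, pow_mul, htr, one_pow, mul_one]
  have hstar' : ∀ h : stabilizer G α, ∃ j : ℕ,
      h * ⟨t, htH⟩ * h⁻¹ = (⟨t, htH⟩ : stabilizer G α) ^ (p ^ j) := by
    intro h
    obtain ⟨j, hj⟩ := hstar h h.2
    exact ⟨j, Subtype.ext hj⟩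
  obtain ⟨⟨h0, hsup⟩, hdvd⟩ := endgame (fittingSubgroup (stabilizer G α)) ⟨t, htH⟩ htF hFz r hr
    (hMcardF.symm.trans hMcard) hcent p d hpd hstar'
  refine ⟨r, hr, hA, hrdvd, hord, M, hMle, hMn, hMcard, ⟨(h0 : G), ?_⟩, hdvd⟩
  have h1 := congrArg (Subgroup.map (stabilizer G α).subtype) hsup
  rw [Subgroup.map_sup, MonoidHom.map_zpowers, ← MonoidHom.range_eq_map,
    Subgroup.range_subtype] at h1
  exact h1.symm

end Cfsg.Agent.S3496
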