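import Cfsg.Statements.S3514
import Mathlib

set_option autoImplicit false
open Cfsg

namespace Cfsg.Agent.S3514

open MulAction

section general

variable {Γ : Type*} [Group Γ] {X : Type*} [MulAction Γ X]

theorem orbit_set_eq (S : Subgroup Γ) (v : X) :
    {u : X | ∃ s ∈ S, s • v = u} = orbit S v := by
  ext u
  constructor
  · rintro ⟨s, hs, rfl⟩
    exact ⟨⟨s, hs⟩, rfl⟩
  · rintro ⟨s, rfl⟩
    exact ⟨s.1, s.2, rfl⟩

/-- orbits of a normal subgroup have size dividing the orbit size of the big group -/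
theorem card_orbit_dvd_of_normal [Finite X] (K H : Subgroup Γ) (hKH : K ≤ H)
    (hn : H ≤ Subgroup.normalizer (K : Set Γ)) (v : X) :
    Nat.card {u : X | ∃ k ∈ K, k • v = u} ∣ Nat.card {u : X | ∃ h ∈ H, h • v = u} := by
  have hnormal : (K.subgroupOf H).Normal :=
    (Subgroup.normal_subgroupOf_iff_le_normalizer hKH).mpr hn
  have hB : IsBlock H (orbit (K.subgroupOf H) (⟨v, mem_orbit_self v⟩ : orbit H v)) :=
    IsBlock.orbit_of_normal _
  have hdvd := hB.ncard_dvd_card ⟨_, mem_orbit_self _⟩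
  have h1 : (orbit (K.subgroupOf H) (⟨v, mem_orbit_self v⟩ : orbit H v)).ncard =
      Nat.card {u : X | ∃ k ∈ K, k • v = u} := by
    rw [Nat.card_coe_set_eq, ← Set.ncard_image_of_injective _ Subtype.val_injective]
    congr 1
    ext u
    constructor
    · rintro ⟨⟨u', hu'⟩, ⟨k, hk⟩, rfl⟩
      refine ⟨((k : H) : Γ), k.2, ?_⟩
      exact congrArg Subtype.val hk
    · rintro ⟨k, hk, rfl⟩
      refine ⟨⟨k • v, ⟨⟨k, hKH hk⟩, rfl⟩⟩, ⟨⟨⟨k, hKH hk⟩, hk⟩, rfl⟩, rfl⟩
  have h2 : Nat.card (orbit H v) = Nat.card {u : X | ∃ h ∈ H, h • v = u} := by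
    rw [orbit_set_eq]
  rw [← h1, ← h2]
  exact hdvd

theorem card_sup_dvd [Finite Γ] (N H : Subgroup Γ)
    (hn : H ≤ Subgroup.normalizer (N : Set Γ)) :
    Nat.card ↥(N ⊔ H) ∣ Nat.card N * Nat.card H := by
  have hNL : N ≤ N ⊔ H := le_sup_left
  have hHL : H ≤ N ⊔ H := le_sup_right
  have hLn : N ⊔ H ≤ Subgroup.normalizer (N : Set Γ) := sup_le Subgroup.le_normalizer hn
  have hnormal : (N.subgroupOf (N ⊔ H)).Normal :=
    (Subgroup.normal_subgroupOf_iff_le_normalizer hNL).mpr hLn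
  have h1 : (N.subgroupOf (N ⊔ H)).relIndex (H.subgroupOf (N ⊔ H) ⊔ N.subgroupOf (N ⊔ H)) =
      (N.subgroupOf (N ⊔ H)).relIndex (H.subgroupOf (N ⊔ H)) := Subgroup.relIndex_sup_right _ _
  have htop : H.subgroupOf (N ⊔ H) ⊔ N.subgroupOf (N ⊔ H) = ⊤ := by
    rw [← Subgroup.subgroupOf_sup hHL hNL, sup_comm, Subgroup.subgroupOf_self]
  rw [htop, Subgroup.relIndex_top_right] at h1
  have h2 : (N.subgroupOf (N ⊔ H)).relIndex (H.subgroupOf (N ⊔ H)) ∣
      Nat.card (H.subgroupOf (N ⊔ H)) := Subgroup.relIndex_dvd_card _ _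
  have h3 : Nat.card (N.subgroupOf (N ⊔ H)) * (N.subgroupOf (N ⊔ H)).index =
      Nat.card ↥(N ⊔ H) := Subgroup.card_mul_index _
  have h4 : Nat.card (N.subgroupOf (N ⊔ H)) = Nat.card N :=
    Nat.card_congr (Subgroup.subgroupOfEquivOfLe hNL).toEquiv
  have h5 : Nat.card (H.subgroupOf (N ⊔ H)) = Nat.card H :=
    Nat.card_congr (Subgroup.subgroupOfEquivOfLe hHL).toEquiv
  rw [← h3, h4, h1]
  rw [h5] at h2
  exact mul_dvd_mul_left _ h2

theorem card_orbit_mul_card_stab [Finite Γ] (S : Subgroup Γ) (v : X) :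
    Nat.card {u : X | ∃ s ∈ S, s • v = u} * Nat.card (stabilizer S v) = Nat.card S := by
  rw [orbit_set_eq, Nat.card_coe_set_eq, ← index_stabilizer]
  exact Subgroup.index_mul_card _

theorem card_stab_dvd [Finite Γ] (H L : Subgroup Γ) (hHL : H ≤ L) (v : X) :
    Nat.card (stabilizer H v) ∣ Nat.card (stabilizer L v) := by
  let f : stabilizer H v →* stabilizer L v :=
    { toFun := fun x => ⟨⟨x.1.1, hHL x.1.2⟩, x.2⟩
      map_one' := rfl
      map_mul' := fun _ _ => rfl }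
  apply Subgroup.card_dvd_of_injective f
  intro x y hxy
  apply Subtype.ext
  apply Subtype.ext
  exact congrArg (fun z : stabilizer L v => ((z : L) : Γ)) hxy

theorem not_dvd_card_orbit_sup [Finite Γ] (p : ℕ) (hp : p.Prime) (N H : Subgroup Γ)
    (hN : ¬ p ∣ Nat.card N) (hn : H ≤ Subgroup.normalizer (N : Set Γ)) (v : X)
    (hH : ¬ p ∣ Nat.card {u : X | ∃ h ∈ H, h • v = u}) :
    ¬ p ∣ Nat.card {u : X | ∃ x ∈ N ⊔ H, x • v = u} := by
  have hHL : H ≤ N ⊔ H := le_sup_right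
  have h1 := card_sup_dvd N H hn
  have h2 := card_orbit_mul_card_stab (N ⊔ H) v
  have h3 := card_orbit_mul_card_stab H v
  obtain ⟨k, hk⟩ := card_stab_dvd H (N ⊔ H) hHL v
  set oL := Nat.card {u : X | ∃ x ∈ N ⊔ H, x • v = u} with hoL
  set oH := Nat.card {u : X | ∃ h ∈ H, h • v = u} with hoH
  set sH := Nat.card (stabilizer H v) with hsH
  have hsHpos : 0 < sH := Nat.card_pos
  -- oL * (sH * k) ∣ card N * (oH * sH)
  rw [← h2, ← h3, hk] at h1
  have h4 : oL * k * sH ∣ Nat.card N * oH * sH := by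
    have e1 : oL * k * sH = oL * (sH * k) := by ring
    have e2 : Nat.card N * oH * sH = Nat.card N * (oH * sH) := by ring
    rw [e1, e2]; exact h1
  have h5 : oL * k ∣ Nat.card N * oH := Nat.dvd_of_mul_dvd_mul_right hsHpos h4
  have h6 : oL ∣ Nat.card N * oH := Dvd.dvd.trans (Dvd.intro _ rfl) h5
  intro hdvd
  rcases (Nat.Prime.dvd_mul hp).mp (hdvd.trans h6) with h | h
  · exact hN h
  · exact hH h

end general

/-- Let p be a prime, V a finite vector space over the field with p elements, and H a group of linear transformations of V all of whose orbits on V have size coprime to p. (i) Every normal subgroup K of H has all its orbits on V of size coprime to p. (ii) If N is a group of linear transformations of V of order coprime to p that is normalized by H, then the group generated by N and H has all its orbits on V of size coprime to p. -/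
theorem result (p : ℕ) [Fact p.Prime] {V : Type*} [AddCommGroup V] [Module (ZMod p) V] [Finite V]
    (H : Subgroup (V ≃ₗ[ZMod p] V)) (hH : ∀ v : V, ¬ p ∣ Nat.card {u : V | ∃ h ∈ H, h v = u}) :
    (∀ K : Subgroup (V ≃ₗ[ZMod p] V), K ≤ H → H ≤ Subgroup.normalizer (K : Set (V ≃ₗ[ZMod p] V)) →
        ∀ v : V, ¬ p ∣ Nat.card {u : V | ∃ k ∈ K, k v = u}) ∧
    (∀ N : Subgroup (V ≃ₗ[ZMod p] V), ¬ p ∣ Nat.card N → H ≤ Subgroup.normalizer (N : Set (V ≃ₗ[ZMod p] V)) →
        ∀ v : V, ¬ p ∣ Nat.card {u : V | ∃ x ∈ N ⊔ H, x v = u}) := by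
  have hfin : Finite (V ≃ₗ[ZMod p] V) :=
    Finite.of_injective (fun f : V ≃ₗ[ZMod p] V => (f : V → V)) DFunLike.coe_injective
  constructor
  · intro K hKH hn v hdvd
    exact hH v (hdvd.trans (card_orbit_dvd_of_normal K H hKH hn v))
  · intro N hN hn v
    exact not_dvd_card_orbit_sup p (Fact.out) N H hN hn v (hH v)

end Cfsg.Agent.S3514
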