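import Cfsg.Statements.S3498
import Cfsg.Agent.S3514
import Mathlib

set_option autoImplicit false
open Cfsg

namespace Cfsg.Agent.S3498

open scoped Pointwise

/-- A maximal subgroup of a finite almost simple group does not have prime order. Here G is almost simple in the sense that it has a non-abelian simple normal subgroup T with trivial centralizer. -/
theorem result {G : Type*} [Group G] [Finite G] (T : Subgroup G) [T.Normal] (hT : IsSimpleGroup T) (hTc : ¬ IsMulCommutative T)
    (hC : Subgroup.centralizer (T : Set G) = ⊥) (H : Subgroup G) (hmax : IsCoatom H) : ¬ (Nat.card H).Prime := by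
  classical
  intro hprime
  obtain ⟨p, hp⟩ : ∃ p, p = Nat.card H := ⟨_, rfl⟩
  rw [← hp] at hprime
  have : Fact p.Prime := ⟨hprime⟩
  -- T is not solvable, hence not a q-group
  have hTns : ¬ Group.IsSolvable T := fun hs =>
    hTc (isMulCommutative_iff.mpr (IsSimpleGroup.comm_iff_isSolvable.mpr hs))
  have hTnp : ∀ q : ℕ, q.Prime → ¬ IsPGroup q T := by
    intro q hq hpg
    have : Fact q.Prime := ⟨hq⟩
    have := hpg.isNilpotent
    exact hTns inferInstance
  have hHp : IsPGroup p H := IsPGroup.of_card (n := 1) (by rw [pow_one, hp])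
  obtain ⟨P, hHP⟩ := hHp.exists_le_sylow
  have hPH : (P : Subgroup G) = H := by
    rcases eq_or_lt_of_le hHP with h | h
    · exact h.symm
    · exfalso
      have htop := hmax.2 _ h
      apply hTnp p hprime
      have hG : IsPGroup p G := by
        intro g
        obtain ⟨k, hk⟩ := P.isPGroup' ⟨g, by rw [htop]; trivial⟩
        exact ⟨k, by simpa using congrArg Subtype.val hk⟩
      exact hG.to_subgroup T
  have hHcyc : IsCyclic H := isCyclic_of_prime_card hp.symm
  have hHcomm : ∀ a ∈ H, ∀ b ∈ H, a * b = b * a := by
    intro a ha b hb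
    have := (isMulCommutative_iff (M := H)).mp inferInstance ⟨a, ha⟩ ⟨b, hb⟩
    exact congrArg Subtype.val this
  have hHne : H ≠ ⊥ := by
    intro h
    rw [h, Subgroup.card_bot] at hp
    exact hprime.ne_one hp
  by_cases hHT : H ≤ T
  · -- case A: H ≤ T, so T = ⊤
    have hTtop : T = ⊤ := by
      rcases eq_or_lt_of_le hHT with h | h
      · exfalso
        apply hTc
        rw [← h]
        exact isMulCommutative_iff.mpr fun a b => Subtype.ext (hHcomm a a.2 b b.2)
      · exact hmax.2 _ h
    have hsimp : ∀ N : Subgroup G, N.Normal → N = ⊥ ∨ N = ⊤ := by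
      intro N hN
      rcases hT.eq_bot_or_eq_top_of_normal (N.subgroupOf T) (Subgroup.Normal.subgroupOf hN T)
        with h | h
      · left
        rw [Subgroup.subgroupOf_eq_bot, hTtop, disjoint_top] at h
        exact h
      · right
        rw [Subgroup.subgroupOf_eq_top, hTtop, top_le_iff] at h
        exact h
    have hN : Subgroup.normalizer (P : Set G) ≤ Subgroup.centralizer (P : Set G) := by
      have hle : H ≤ Subgroup.normalizer (H : Set G) := Subgroup.le_normalizer
      rcases eq_or_lt_of_le hle with h | h
      · have hPset : (P : Set G) = (H : Set G) := by rw [← hPH]; rfl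
        rw [hPset, ← h]
        intro x hx
        rw [Subgroup.mem_centralizer_iff]
        intro y hy
        exact hHcomm y hy x hx
      · exfalso
        have hn := hmax.2 _ h
        have hHnormal : H.Normal := Subgroup.normalizer_eq_top_iff.mp hn
        rcases hsimp H hHnormal with h' | h'
        · exact hHne h'
        · exact hmax.1 h'
    have hcompl := MonoidHom.ker_transferSylow_isComplement' P hN
    rcases hsimp _ (MonoidHom.normal_ker (MonoidHom.transferSylow P hN)) with h | h
    · rw [h, Subgroup.isComplement'_bot_left, hPH] at hcompl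
      exact hmax.1 hcompl
    · rw [h, Subgroup.isComplement'_top_left, hPH] at hcompl
      exact hHne hcompl
  · -- case B: H is not contained in T
    have hdisj : H ⊓ T = ⊥ := by
      rw [Subgroup.eq_bot_iff_forall]
      rintro x ⟨hxH, hxT⟩
      by_contra hx1
      apply hHT
      have hord : orderOf x = p := by
        have hdvd : orderOf x ∣ p := hp ▸ H.orderOf_dvd_natCard hxH
        rcases (Nat.dvd_prime hprime).mp hdvd with h | h
        · exact absurd (orderOf_eq_one_iff.mp h) hx1
        · exact h
      have hzle : Subgroup.zpowers x ≤ H := by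
        rw [Subgroup.zpowers_le]; exact hxH
      have hzeq : Subgroup.zpowers x = H := by
        apply Subgroup.eq_of_le_of_card_ge hzle
        rw [Nat.card_zpowers, hord, hp]
      rw [← hzeq, Subgroup.zpowers_le]
      exact hxT
    have hpT : ¬ p ∣ Nat.card T := by
      intro hdvd
      obtain ⟨t, ht⟩ := exists_prime_orderOf_dvd_card' p hdvd
      have htG : orderOf (t : G) = p := by rw [Subgroup.orderOf_coe]; exact ht
      have hzp : IsPGroup p (Subgroup.zpowers (t : G)) :=
        IsPGroup.of_card (n := 1) (by rw [Nat.card_zpowers, htG, pow_one])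
      obtain ⟨Q, hQ⟩ := hzp.exists_le_sylow
      obtain ⟨g, hg⟩ := MulAction.exists_smul_eq G Q P
      have hmem : g * (t : G) * g⁻¹ ∈ (P : Subgroup G) := by
        rw [← hg]
        have h1 : (t : G) ∈ (Q : Subgroup G) := hQ (Subgroup.mem_zpowers _)
        have h2 : MulAut.conj g • (t : G) ∈ MulAut.conj g • (Q : Set G) :=
          Set.smul_mem_smul_set h1
        rw [← Sylow.coe_smul] at h2
        simp only [MulAut.smul_def, MulAut.conj_apply] at h2
        exact h2
      have hmemT : g * (t : G) * g⁻¹ ∈ T := Subgroup.Normal.conj_mem inferInstance _ t.2 g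
      have h1 : g * (t : G) * g⁻¹ ∈ H ⊓ T := ⟨hPH ▸ hmem, hmemT⟩
      rw [hdisj, Subgroup.mem_bot] at h1
      have h2 : (t : G) = 1 := by
        have := congrArg (fun y => g⁻¹ * y * g) h1
        simpa [mul_assoc] using this
      rw [h2, orderOf_one] at htG
      exact hprime.ne_one htG.symm
    -- a prime r dividing the order of T
    have hTnt : Nontrivial T := IsSimpleGroup.toNontrivial
    have hcardT : Nat.card T ≠ 1 := by
      have := Finite.one_lt_card (α := T)
      omega
    have hr : (Nat.card T).minFac.Prime := Nat.minFac_prime hcardT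
    obtain ⟨r, hr'⟩ : ∃ r, r = (Nat.card T).minFac := ⟨_, rfl⟩
    rw [← hr'] at hr
    have hrT : r ∣ Nat.card T := hr' ▸ Nat.minFac_dvd _
    have : Fact r.Prime := ⟨hr⟩
    have hcardSyl : ¬ p ∣ Nat.card (Sylow r T) := by
      intro hdvd
      obtain ⟨R0⟩ : Nonempty (Sylow r T) := inferInstance
      exact hpT ((hdvd.trans (Sylow.card_dvd_index R0)).trans (Subgroup.index_dvd_card _))
    let _ : MulAction H (Sylow r T) :=
      MulAction.compHom (Sylow r T)
        ((ConjAct.toConjAct (G := G)).toMonoidHom.comp H.subtype)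
    obtain ⟨R, hR⟩ := hHp.nonempty_fixed_point_of_prime_not_dvd_card (Sylow r T) hcardSyl
    have hRconj : ∀ h ∈ H, ∀ x : T, x ∈ (R : Subgroup T) →
        (⟨h * (x : G) * h⁻¹, Subgroup.Normal.conj_mem inferInstance _ x.2 h⟩ : T) ∈
          (R : Subgroup T) := by
      intro h hh x hx
      have h1 : (⟨h, hh⟩ : H) • R = R := hR ⟨h, hh⟩
      have h2 : ConjAct.toConjAct h • R = R := h1
      have h3 : ConjAct.toConjAct h • x ∈ ConjAct.toConjAct h • (R : Subgroup T) :=
        Subgroup.smul_mem_pointwise_smul x _ _ hx
      rw [← Sylow.pointwise_smul_def, h2] at h3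
      have h4 : ConjAct.toConjAct h • x =
          (⟨h * (x : G) * h⁻¹, Subgroup.Normal.conj_mem inferInstance _ x.2 h⟩ : T) := by
        apply Subtype.ext
        rw [ConjAct.Subgroup.val_conj_smul, ConjAct.toConjAct_smul]
      rw [h4] at h3
      exact h3
    set R' : Subgroup G := (R : Subgroup T).map T.subtype with hR'
    have hR'T : R' ≤ T := by
      rintro y ⟨x, _, rfl⟩
      exact x.2
    have hR'norm : H ≤ Subgroup.normalizer (R' : Set G) := by
      rw [Subgroup.le_normalizer_iff]
      rintro h hh y ⟨x, hx, rfl⟩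
      exact ⟨_, hRconj h hh x hx, rfl⟩
    have hR'ne : R' ≠ ⊥ := by
      intro h
      have h1 : (R : Subgroup T) = ⊥ := by
        rw [hR', Subgroup.map_eq_bot_iff_of_injective _ T.subtype_injective] at h
        exact h
      exact R.ne_bot_of_dvd_card hrT h1
    have hlt : H < R' ⊔ H := by
      apply lt_of_le_of_ne le_sup_right
      intro heq
      apply hR'ne
      have h1 : R' ≤ H := by
        calc R' ≤ R' ⊔ H := le_sup_left
          _ = H := heq.symm
      have h2 : R' ≤ H ⊓ T := le_inf h1 hR'T
      rw [hdisj] at h2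
      exact le_bot_iff.mp h2
    have htop := hmax.2 _ hlt
    have hdvd1 := Cfsg.Agent.S3514.card_sup_dvd R' H hR'norm
    rw [htop, Subgroup.card_top, ← hp] at hdvd1
    have hcardR' : Nat.card R' = Nat.card (R : Subgroup T) :=
      Subgroup.card_map_of_injective T.subtype_injective
    have hpG : p ∣ Nat.card G := hp ▸ Subgroup.card_subgroup_dvd_card H
    have hTG : Nat.card T ∣ Nat.card G := Subgroup.card_subgroup_dvd_card T
    have hcop : Nat.Coprime p (Nat.card T) := (Nat.Prime.coprime_iff_not_dvd hprime).mpr hpT
    have h1 : p * Nat.card T ∣ Nat.card R' * p :=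
      (Nat.Coprime.mul_dvd_of_dvd_of_dvd hcop hpG hTG).trans hdvd1
    have h2 : Nat.card T ∣ Nat.card R' := by
      rw [mul_comm (Nat.card R') p] at h1
      exact Nat.dvd_of_mul_dvd_mul_left hprime.pos h1
    have h3 : Nat.card (R : Subgroup T) = Nat.card T := by
      apply Nat.dvd_antisymm (Subgroup.card_subgroup_dvd_card _)
      rw [← hcardR']; exact h2
    have hRtop : (R : Subgroup T) = ⊤ := (Subgroup.card_eq_iff_eq_top _).mp h3
    apply hTnp r hr
    intro g
    obtain ⟨k, hk⟩ := R.isPGroup' ⟨g, by rw [hRtop]; trivial⟩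
    exact ⟨k, by simpa using congrArg Subtype.val hk⟩

end Cfsg.Agent.S3498
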