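import Cfsg.Statements.S3501
import Cfsg.Agent.Lib.Helper59.MinNormal2

set_option autoImplicit false
open Cfsg

namespace Cfsg.Agent.S3501

open Cfsg.Agent.Lib.Helper59.MinNormal Cfsg.Agent.Lib.Helper59.MinNormal2 MulAction

theorem card_iff {G Ω : Type*} [Group G] [MulAction G Ω] :
    Nat.card {c : ConjClasses G // ∃ g : G, ConjClasses.mk g = c ∧ ∀ ω : Ω, g • ω ≠ ω} = 1 ↔
    (∃ g : G, ∀ ω : Ω, g • ω ≠ ω) ∧ ∀ g h : G, (∀ ω : Ω, g • ω ≠ ω) → (∀ ω : Ω, h • ω ≠ ω) →
      ∃ c : G, c * g * c⁻¹ = h := by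
  rw [Nat.card_eq_one_iff_unique]
  constructor
  · rintro ⟨hs, ⟨⟨c, g, hg, hd⟩⟩⟩
    refine ⟨⟨g, hd⟩, fun a b ha hb => ?_⟩
    have h1 := @Subsingleton.elim _ hs ⟨ConjClasses.mk a, a, rfl, ha⟩ ⟨ConjClasses.mk b, b, rfl, hb⟩
    have h2 : ConjClasses.mk a = ConjClasses.mk b := congrArg Subtype.val h1
    exact isConj_iff.mp (ConjClasses.mk_eq_mk_iff_isConj.mp h2)
  · rintro ⟨⟨g, hg⟩, h⟩
    refine ⟨⟨?_⟩, ⟨⟨ConjClasses.mk g, g, rfl, hg⟩⟩⟩
    rintro ⟨c1, a, rfl, ha⟩ ⟨c2, b, rfl, hb⟩
    apply Subtype.ext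
    exact ConjClasses.mk_eq_mk_iff_isConj.mpr (isConj_iff.mpr (h a b ha hb))

theorem unique_in_coset {G Ω : Type*} [Group G] [Finite G] [MulAction G Ω] [Finite Ω]
    (h2 : ∀ {a b c d : Ω}, a ≠ b → c ≠ d → ∃ g : G, g • a = c ∧ g • b = d)
    (hfix : ∀ g : G, g ≠ 1 → ∀ a b : Ω, a ≠ b → g • a = a → g • b ≠ b)
    (α β : Ω) (hαβ : α ≠ β) (d d' : G) (hd : ∀ ω : Ω, d • ω ≠ ω) (hd' : ∀ ω : Ω, d' • ω ≠ ω)
    (hdα : d • α = β) (hd'α : d' • α = β) : d = d' := by
  classical
  let f : {g : G // g • α = β} → {δ : Ω // δ ≠ β} := fun g => ⟨g.1 • β, fun h => hαβ (by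
      have h1 : g.1 • β = g.1 • α := by rw [h, g.2]
      exact (smul_left_cancel g.1 h1).symm)⟩
  have hf : Function.Injective f := by
    rintro ⟨g, hg⟩ ⟨g', hg'⟩ h
    have h1 : g • β = g' • β := congrArg Subtype.val h
    apply Subtype.ext
    show g = g'
    by_contra hne
    have hne' : g⁻¹ * g' ≠ 1 := by
      intro h; apply hne; exact (inv_mul_eq_one.mp h)
    apply hfix (g⁻¹ * g') hne' α β hαβ
    · rw [mul_smul, hg', ← hg, inv_smul_smul]
    · rw [mul_smul, ← h1, inv_smul_smul]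
  have hne : ∀ g : {g : G // g • α = β}, ∀ γ : Ω, g.1 • γ = γ → γ ≠ β := by
    rintro ⟨g, hg⟩ γ hγ rfl
    apply hαβ
    have h1 : g • α = g • γ := by rw [hγ, hg]
    exact smul_left_cancel g h1
  let φ : {g : G // g • α = β} → {δ : Ω // δ ≠ β} := fun g =>
    if h : ∃ γ : Ω, g.1 • γ = γ then ⟨h.choose, hne g _ h.choose_spec⟩ else ⟨α, hαβ⟩
  have hφd : ∀ g : {g : G // g • α = β}, (∀ ω : Ω, g.1 • ω ≠ ω) → φ g = ⟨α, hαβ⟩ := by
    intro g hg
    have : ¬ ∃ γ : Ω, g.1 • γ = γ := by
      rintro ⟨γ, hγ⟩; exact hg γ hγ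
    simp only [φ, dif_neg this]
  have hφ : Function.Surjective φ := by
    rintro ⟨δ, hδ⟩
    by_cases hδα : δ = α
    · subst hδα
      exact ⟨⟨d, hdα⟩, hφd _ hd⟩
    · obtain ⟨g, hgα, hgδ⟩ := h2 (a := α) (b := δ) (c := β) (d := δ) (Ne.symm hδα) (Ne.symm hδ)
      refine ⟨⟨g, hgα⟩, ?_⟩
      have hex : ∃ γ : Ω, g • γ = γ := ⟨δ, hgδ⟩
      have hg1 : g ≠ 1 := by
        rintro rfl; rw [one_smul] at hgα; exact hαβ hgα
      have hch : hex.choose = δ := by
        by_contra hc
        exact hfix g hg1 _ _ hc hex.choose_spec hgδ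
      have : φ ⟨g, hgα⟩ = ⟨hex.choose, hne ⟨g, hgα⟩ _ hex.choose_spec⟩ := by
        simp only [φ, dif_pos hex]
      rw [this]
      exact Subtype.ext hch
  have hcard : Nat.card {g : G // g • α = β} ≤ Nat.card {δ : Ω // δ ≠ β} :=
    Nat.card_le_card_of_injective f hf
  have hbij := hφ.bijective_of_nat_card_le hcard
  have h3 := hbij.1 (a₁ := ⟨d, hdα⟩) (a₂ := ⟨d', hd'α⟩) (by rw [hφd _ hd, hφd _ hd'])
  exact congrArg Subtype.val h3

theorem of_sharp {G Ω : Type*} [Group G] [Finite G] [MulAction G Ω] [Finite Ω] [Nontrivial Ω]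
    (h2 : ∀ {a b c d : Ω}, a ≠ b → c ≠ d → ∃ g : G, g • a = c ∧ g • b = d)
    (hfix : ∀ g : G, g ≠ 1 → ∀ a b : Ω, a ≠ b → g • a = a → g • b ≠ b) :
    (∃ g : G, ∀ ω : Ω, g • ω ≠ ω) ∧ ∀ g h : G, (∀ ω : Ω, g • ω ≠ ω) → (∀ ω : Ω, h • ω ≠ ω) →
      ∃ c : G, c * g * c⁻¹ = h := by
  have htr : IsPretransitive G Ω := by
    refine ⟨fun a b => ?_⟩
    by_cases hab : a = b
    · exact ⟨1, by rw [one_smul, hab]⟩
    · obtain ⟨g, hg, -⟩ := h2 (a := a) (b := b) (c := b) (d := a) hab (Ne.symm hab)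
      exact ⟨g, hg⟩
  refine ⟨exists_derangement, fun g h hg hh => ?_⟩
  obtain ⟨α⟩ := (inferInstance : Nonempty Ω)
  obtain ⟨c, hcα, hcβ⟩ := h2 (a := α) (b := g • α) (c := α) (d := h • α) (Ne.symm (hg α))
    (Ne.symm (hh α))
  refine ⟨c, ?_⟩
  apply unique_in_coset h2 hfix α (h • α) (Ne.symm (hh α)) _ _ _ hh _ rfl
  · intro ω hω
    apply hg (c⁻¹ • ω)
    have := congrArg (fun x => c⁻¹ • x) hω
    simpa [mul_smul] using this
  · rw [mul_smul, mul_smul]
    have : c⁻¹ • α = α := by
      rw [inv_smul_eq_iff, hcα]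
    rw [this, hcβ]

/-- Let a finite group G act faithfully and primitively on a finite set Ω with at least two points, and suppose G is not almost simple (it has no non-abelian simple normal subgroup with trivial centralizer). Then the derangements of G form a single conjugacy class if and only if G is sharply 2-transitive (2-transitive, and no non-identity element fixes two points). -/
theorem result {G : Type*} [Group G] [Finite G] {Ω : Type*} [Fintype Ω] [MulAction G Ω] [FaithfulSMul G Ω] (hΩ : 2 ≤ Fintype.card Ω) (hprim : MulAction.IsPreprimitive G Ω) (hnas : ¬ ∃ T : Subgroup G, T.Normal ∧ IsSimpleGroup T ∧ ¬ IsMulCommutative T ∧ Subgroup.centralizer (T : Set G) = ⊥) :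
    Nat.card {c : ConjClasses G // ∃ g : G, ConjClasses.mk g = c ∧ ∀ ω : Ω, g • ω ≠ ω} = 1 ↔ (MulAction.IsMultiplyPretransitive G Ω 2 ∧ ∀ g : G, g ≠ 1 → ∀ a b : Ω, a ≠ b → g • a = a → g • b ≠ b) := by
  classical
  have hnt : Nontrivial Ω := by
    rw [← Fintype.one_lt_card_iff_nontrivial]; omega
  rw [card_iff]
  constructor
  · rintro ⟨-, hconj⟩
    have htrans : IsPretransitive G Ω := hprim.toIsPretransitive
    have hGnt : (⊤ : Subgroup G) ≠ ⊥ := top_ne_bot (Ω := Ω)
    obtain ⟨N, -, hN⟩ := exists_isMinInv (⊤ : Subgroup G) ⊤ hGnt Subgroup.le_normalizer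
    have hNn : N.Normal := Subgroup.normalizer_eq_top_iff.mp (top_le_iff.mp hN.2.1)
    have hNtr := transitive_of_normal hprim N hNn hN.1
    have hpgroup : ∀ T : Subgroup G, T ≠ ⊥ → (∀ x ∈ T, x ≠ 1 → ∀ ω : Ω, x • ω ≠ ω) →
        ∃ p : ℕ, p.Prime ∧ ∀ x ∈ T, ∃ k : ℕ, x ^ (p ^ k) = 1 := by
      intro T hT0 hTd
      have hTnt : Nontrivial T := (Subgroup.nontrivial_iff_ne_bot T).mpr hT0
      have hcard : Nat.card T ≠ 1 := by
        intro h
        have h1 : Subsingleton T := (Nat.card_eq_one_iff_unique.mp h).1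
        exact not_subsingleton T h1
      obtain ⟨r, hr, hrd⟩ := Nat.exists_prime_and_dvd hcard
      have hfact : Fact r.Prime := ⟨hr⟩
      obtain ⟨z, hz⟩ := exists_prime_orderOf_dvd_card' r hrd
      have hzr : (z : G) ^ r = 1 := by
        have h2 := pow_orderOf_eq_one z
        rw [hz] at h2
        exact_mod_cast congrArg Subtype.val h2
      have hz1 : (z : G) ≠ 1 := by
        intro h
        have hz1 : z = 1 := Subtype.ext h
        rw [hz1, orderOf_one] at hz
        exact hr.one_lt.ne hz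
      have hzd := hTd z z.2 hz1
      refine ⟨r, hr, fun x hx => ?_⟩
      by_cases hx1 : x = 1
      · exact ⟨0, by simp [hx1]⟩
      · obtain ⟨c, hc⟩ := hconj z x hzd (hTd x hx hx1)
        refine ⟨1, ?_⟩
        rw [pow_one, ← hc, conj_pow, hzr]; group
    have hab : ∀ x ∈ N, ∀ y ∈ N, x * y = y * x := by
      by_contra hab
      have hC : Subgroup.centralizer (N : Set G) = ⊥ := by
        by_contra hC0
        have hCn : (Subgroup.centralizer (N : Set G)).Normal := inferInstance
        have hCtr := transitive_of_normal hprim _ hCn hC0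
        obtain ⟨p, hp, hpN⟩ := hpgroup N hN.1 (fun x hx hx1 =>
          derangement_of_commuting _ hCtr x
            (fun c hc => (Subgroup.mem_centralizer_iff.mp hc x hx)) hx1)
        exact hab (comm_of_pgroup ⊤ N hN p hp hpN)
      obtain ⟨T, hTN, hT⟩ := exists_isMinInv N N hN.1 Subgroup.le_normalizer
      by_cases hTG : ∀ g : G, cj g T = T
      · apply hnas
        have hTeq : T = N := eq_of_forall_cj N T hN hTN hT hTG
        rw [hTeq] at hT
        refine ⟨N, hNn, simple_of_isMinInv_self N hT, ?_, hC⟩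
        intro hcomm
        apply hab
        intro x hx y hy
        have h5 := hcomm.is_comm.comm ⟨x, hx⟩ ⟨y, hy⟩
        exact congrArg Subtype.val h5
      · push Not at hTG
        obtain ⟨g, hg⟩ := hTG
        obtain ⟨hdisj, hcomm⟩ := (conj_dichotomy N T hTN hT g).resolve_left hg
        obtain ⟨α⟩ := (inferInstance : Nonempty Ω)
        by_cases hTH : T ⊓ stabilizer G α = ⊥
        · obtain ⟨p, hp, hpT⟩ := hpgroup T hT.1
            (derangement_of_inf_stabilizer N T hNtr hT.2.1 α hTH)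
          exact hab (comm_of_sub_pgroup N T hN hTN hT p hp hpT)
        · obtain ⟨x, hxT, hx⟩ := exists_forall_derangement hprim N T hN hNtr hTN hT g hg α hTH
          have hxd : ∀ ω : Ω, x • ω ≠ ω := by
            have := hx 1 (Subgroup.one_mem _); simpa using this
          have hx1 : x ≠ 1 := by
            rintro rfl; exact hxd α (one_smul _ _)
          obtain ⟨t, ht, ht1⟩ : ∃ t ∈ T, t ≠ 1 := by
            by_contra hcon
            push Not at hcon
            apply hT.1
            rw [eq_bot_iff]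
            intro t ht
            rw [Subgroup.mem_bot]; exact hcon t ht
          have hy : g * t * g⁻¹ ∈ cj g T := conj_mem_cj g T t ht
          have hy1 : g * t * g⁻¹ ≠ 1 := by
            rw [Ne, conj_eq_one_iff]; exact ht1
          obtain ⟨h, hh⟩ := hconj x (x * (g * t * g⁻¹)) hxd (hx _ hy)
          have hxy : x * (g * t * g⁻¹) ∈ cj h T := by rw [← hh]; exact conj_mem_cj h T x hxT
          rcases conj_dichotomy N T hTN hT h with hc | ⟨_, hc⟩
          · rw [hc] at hxy
            have hyT : g * t * g⁻¹ ∈ T := by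
              have := T.mul_mem (T.inv_mem hxT) hxy
              simpa using this
            have hmem : g * t * g⁻¹ ∈ T ⊓ cj g T := ⟨hyT, hy⟩
            rw [hdisj, Subgroup.mem_bot] at hmem
            exact hy1 hmem
          · apply hab
            apply comm_of_sub_comm N T hN hTN hT
            apply comm_of_central N T hT x hxT hx1
            intro s hs
            have h1 : s * (x * (g * t * g⁻¹)) = (x * (g * t * g⁻¹)) * s := hc s hs _ hxy
            have h2 : s * (g * t * g⁻¹) = (g * t * g⁻¹) * s := hcomm s hs _ hy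
            calc x * s = x * (s * (g * t * g⁻¹)) * (g * t * g⁻¹)⁻¹ := by group
              _ = x * ((g * t * g⁻¹) * s) * (g * t * g⁻¹)⁻¹ := by rw [h2]
              _ = ((x * (g * t * g⁻¹)) * s) * (g * t * g⁻¹)⁻¹ := by group
              _ = (s * (x * (g * t * g⁻¹))) * (g * t * g⁻¹)⁻¹ := by rw [h1]
              _ = s * x := by group
    have hNd : ∀ x ∈ N, x ≠ 1 → ∀ ω : Ω, x • ω ≠ ω := fun x hx hx1 =>
      derangement_of_commuting N hNtr x (fun c hc => hab x hx c hc) hx1
    obtain ⟨n0, hn0, hn01⟩ : ∃ t ∈ N, t ≠ 1 := by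
      by_contra hcon
      push Not at hcon
      apply hN.1
      rw [eq_bot_iff]
      intro t ht
      rw [Subgroup.mem_bot]; exact hcon t ht
    have hdN : ∀ g : G, (∀ ω : Ω, g • ω ≠ ω) → g ∈ N := by
      intro g hg
      obtain ⟨c, hc⟩ := hconj n0 g (hNd n0 hn0 hn01) hg
      rw [← hc]; exact hNn.conj_mem n0 hn0 c
    constructor
    · rw [MulAction.is_two_pretransitive_iff]
      intro a b c d hab' hcd
      obtain ⟨n, hn⟩ := hNtr.exists_smul_eq a b
      obtain ⟨m, hm⟩ := hNtr.exists_smul_eq c d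
      have hn' : (n : G) • a = b := hn
      have hm' : (m : G) • c = d := hm
      have hn1 : (n : G) ≠ 1 := by
        intro h; apply hab'; rw [← hn', h, one_smul]
      have hm1 : (m : G) ≠ 1 := by
        intro h; apply hcd; rw [← hm', h, one_smul]
      obtain ⟨h, hh⟩ := hconj n m (hNd n n.2 hn1) (hNd m m.2 hm1)
      obtain ⟨k, hk⟩ := hNtr.exists_smul_eq (h • a) c
      have hk' : (k : G) • (h • a) = c := hk
      refine ⟨(k : G) * h, ?_, ?_⟩
      · rw [mul_smul]; exact hk'
      · have hkm := hab k k.2 m m.2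
        calc ((k : G) * h) • b = ((k : G) * (h * n * h⁻¹)) • (h • a) := by
              rw [← hn']; simp [mul_smul]
          _ = ((k : G) * (m : G)) • (h • a) := by rw [hh]
          _ = ((m : G) * (k : G)) • (h • a) := by rw [hkm]
          _ = (m : G) • ((k : G) • (h • a)) := mul_smul _ _ _
          _ = d := by rw [hk']; exact hm'
    · intro g hg1 a b hab' hga hgb
      obtain ⟨n, hn⟩ := hNtr.exists_smul_eq a b
      have hn' : (n : G) • a = b := hn
      have hn1 : (n : G) ≠ 1 := by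
        intro h; apply hab'; rw [← hn', h, one_smul]
      have hginv : g⁻¹ • a = a := by rw [inv_smul_eq_iff, hga]
      have hNfix : ∀ z ∈ N, z • a = a → z = 1 := by
        intro z hz hza
        by_contra hz1
        exact hNd z hz hz1 a hza
      have hcomm : (n : G)⁻¹ * (g * n * g⁻¹) = 1 := by
        apply hNfix _ (N.mul_mem (N.inv_mem n.2) (hNn.conj_mem n n.2 g))
        rw [mul_smul, mul_smul, mul_smul, hginv, hn', hgb, ← hn', inv_smul_smul]
      have hgn : g * n * g⁻¹ = n := by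
        have := inv_mul_eq_one.mp hcomm
        exact this.symm
      let θ : N → N := fun k => ⟨k * (g * (k : G)⁻¹ * g⁻¹),
        N.mul_mem k.2 (hNn.conj_mem _ (N.inv_mem k.2) g)⟩
      have hθ : ¬ Function.Injective θ := by
        intro hinj
        have h1 : θ n = θ 1 := by
          apply Subtype.ext
          show (n : G) * (g * (n : G)⁻¹ * g⁻¹) = ((1 : N) : G) * (g * ((1 : N) : G)⁻¹ * g⁻¹)
          have h2 : g * (n : G)⁻¹ * g⁻¹ = (n : G)⁻¹ := by
            have : g * (n : G)⁻¹ * g⁻¹ = (g * n * g⁻¹)⁻¹ := by group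
            rw [this, hgn]
          rw [h2]; simp
        have h3 := hinj h1
        apply hn1
        rw [h3]; rfl
      have hθ' : ¬ Function.Surjective θ := fun hs => hθ (Finite.injective_iff_surjective.mpr hs)
      rw [Function.Surjective] at hθ'
      push Not at hθ'
      obtain ⟨m, hm⟩ := hθ'
      have hmg : ∀ ω : Ω, ((m : G) * g) • ω ≠ ω := by
        intro ω hω
        obtain ⟨k, rfl⟩ := hNtr.exists_smul_eq a ω
        apply hm k
        apply Subtype.ext
        show (k : G) * (g * (k : G)⁻¹ * g⁻¹) = m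
        have hω' : ((m : G) * g) • ((k : G) • a) = (k : G) • a := hω
        have h1 : (k : G)⁻¹ * (m : G) * (g * k * g⁻¹) = 1 := by
          apply hNfix _ (N.mul_mem (N.mul_mem (N.inv_mem k.2) m.2) (hNn.conj_mem k k.2 g))
          have h2 : ((k : G)⁻¹ * (m : G) * (g * k * g⁻¹)) • a
              = (k : G)⁻¹ • (((m : G) * g) • ((k : G) • a)) := by
            simp only [mul_smul]; rw [hginv]
          rw [h2, hω', inv_smul_smul]
        calc (k : G) * (g * (k : G)⁻¹ * g⁻¹)
            = (k : G) * ((k : G)⁻¹ * (m : G) * (g * k * g⁻¹)) * (g * (k : G)⁻¹ * g⁻¹) := by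
              rw [h1, mul_one]
          _ = m := by group
      have hmgN := hdN _ hmg
      have hgN : g ∈ N := by
        have := N.mul_mem (N.inv_mem m.2) hmgN
        simpa using this
      exact hNd g hgN hg1 a hga
  · rintro ⟨h2, hfix⟩
    rw [MulAction.is_two_pretransitive_iff] at h2
    exact of_sharp h2 hfix

end Cfsg.Agent.S3501
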