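import Cfsg.Statements.S3554

set_option autoImplicit false
open Cfsg

namespace Cfsg.Agent.S3554

/-- In a finite cyclic group, an element `d` with `d ^ p = 1` lies in the subgroup generated by
any element `c` of order `p`. -/
theorem mem_zpowers_of_pow_eq_one {C : Type*} [Group C] [Finite C] [IsCyclic C] {p : ℕ}
    (hp : 0 < p) (c d : C) (hc : orderOf c = p) (hd : d ^ p = 1) : d ∈ Subgroup.zpowers c := by
  classical
  haveI := Fintype.ofFinite C
  have h1 : (Finset.univ.filter fun a : C => a ^ p = 1).card ≤ p := IsCyclic.card_pow_eq_one_le hp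
  have h2 : ((Subgroup.zpowers c : Set C).toFinset) ⊆ (Finset.univ.filter fun a : C => a ^ p = 1) := by
    intro x hx
    rw [Set.mem_toFinset] at hx
    obtain ⟨k, rfl⟩ := hx
    simp only [Finset.mem_filter, Finset.mem_univ, true_and]
    rw [← zpow_natCast, ← zpow_mul, mul_comm, zpow_mul, zpow_natCast, ← hc, pow_orderOf_eq_one,
      one_zpow]
  have h3 : ((Subgroup.zpowers c : Set C).toFinset).card = p := by
    rw [Set.toFinset_card, ← hc, ← Nat.card_eq_fintype_card]
    exact Nat.card_zpowers c
  have h4 := Finset.eq_of_subset_of_card_le h2 (by rw [h3]; exact h1)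
  have : d ∈ (Finset.univ.filter fun a : C => a ^ p = 1) := by simp [hd]
  rw [← h4, Set.mem_toFinset] at this
  exact this

/-- Let G act faithfully and transitively on a finite set and suppose G has a non-trivial cyclic normal subgroup. Then some element of G of prime order fixes no point. -/
theorem result {G Ω : Type*} [Group G] [Finite G] [MulAction G Ω] [FaithfulSMul G Ω] [Finite Ω]
    (htrans : MulAction.IsPretransitive G Ω) (C : Subgroup G) (hC : C.Normal) (hC1 : C ≠ ⊥) (hcyc : IsCyclic ↥C) :
    ∃ g : G, (orderOf g).Prime ∧ ∀ ω : Ω, g • ω ≠ ω := by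
  classical
  have hcard : Nat.card C ≠ 1 := fun h => hC1 (Subgroup.card_eq_one.mp h)
  obtain ⟨p, hp, hpd⟩ := Nat.exists_prime_and_dvd hcard
  haveI := Fact.mk hp
  obtain ⟨c, hc⟩ := exists_prime_orderOf_dvd_card' p hpd
  refine ⟨(c : G), ?_, ?_⟩
  · rw [Subgroup.orderOf_coe, hc]; exact hp
  · intro ω hω
    have hall : ∀ ω' : Ω, (c : G) • ω' = ω' := by
      intro ω'
      obtain ⟨x, rfl⟩ := MulAction.exists_smul_eq G ω ω'
      have hconj : x⁻¹ * (c : G) * x ∈ C := by
        have := hC.conj_mem (c : G) c.2 x⁻¹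
        simpa using this
      have hdp : (⟨x⁻¹ * (c : G) * x, hconj⟩ : C) ^ p = 1 := by
        apply Subtype.ext
        have h1 : (c : G) ^ p = 1 := by
          rw [← hc, ← Subgroup.orderOf_coe, pow_orderOf_eq_one]
        have h2 : (x⁻¹ * (c : G) * x) ^ p = x⁻¹ * (c : G) ^ p * x := by
          have := conj_pow (a := x⁻¹) (b := (c : G)) (i := p)
          simpa using this
        simp [h2, h1]
      obtain ⟨k, hk⟩ := mem_zpowers_of_pow_eq_one hp.pos c _ hc hdp
      have hk' : ((c : G)) ^ k = x⁻¹ * (c : G) * x := by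
        have := congrArg (Subtype.val) hk
        simpa using this
      have hmem : (c : G) ∈ MulAction.stabilizer G ω := hω
      have hfix : (x⁻¹ * (c : G) * x) • ω = ω := by
        rw [← hk']
        exact (MulAction.stabilizer G ω).zpow_mem hmem k
      calc (c : G) • x • ω = x • ((x⁻¹ * (c : G) * x) • ω) := by simp [mul_smul]
        _ = x • ω := by rw [hfix]
    have h1 : (c : G) = 1 := by
      apply FaithfulSMul.eq_of_smul_eq_smul (α := Ω)
      intro ω'
      rw [hall, one_smul]
    have h2 : orderOf (c : G) = 1 := by rw [h1, orderOf_one]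
    rw [Subgroup.orderOf_coe, hc] at h2
    exact hp.one_lt.ne' h2

end Cfsg.Agent.S3554
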