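import Cfsg.Statements.S3555
import Cfsg.Agent.Lib.Helper59.Derange

set_option autoImplicit false
open Cfsg

namespace Cfsg.Agent.S3555

open MulAction Cfsg.Agent.Lib.Helper59.Derange

variable {G Ω : Type*} [Group G] [MulAction G Ω]

/-- `Σ fix(g²) ≤ Σ fix(g)²`. -/
theorem sum_fix_sq_le [Finite G] [Finite Ω] [Fintype G] :
    ∑ g : G, Nat.card (fixedBy Ω (g ^ 2)) ≤ ∑ g : G, Nat.card (fixedBy Ω g) ^ 2 := by
  classical
  have h1 : ∑ g : G, Nat.card (fixedBy Ω (g ^ 2)) =
      Nat.card {p : G × Ω // (p.1 ^ 2) • p.2 = p.2} := by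
    rw [Nat.card_congr (Equiv.subtypeProdEquivSigmaSubtype
      (fun (g : G) (ω : Ω) => (g ^ 2) • ω = ω)), Nat.card_sigma]
    rfl
  have h2 : ∑ g : G, Nat.card (fixedBy Ω g) ^ 2 =
      Nat.card {q : G × (Ω × Ω) // q.1 • q.2 = q.2} := by
    rw [Nat.card_congr (Equiv.subtypeProdEquivSigmaSubtype
      (fun (g : G) (ω : Ω × Ω) => g • ω = ω)), Nat.card_sigma]
    exact Finset.sum_congr rfl (fun g _ => (card_fixedBy_prod g).symm)
  rw [h1, h2]
  let c : Ω → Ω → G := fun ω ω' =>
    if h : ∃ c : G, c • ω = ω' ∧ c • ω' = ω then h.choose else 1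
  have hc : ∀ (g : G) (ω : Ω), (g ^ 2) • ω = ω →
      c ω (g • ω) • ω = g • ω ∧ c ω (g • ω) • (g • ω) = ω := by
    intro g ω h
    have hex : ∃ c : G, c • ω = g • ω ∧ c • (g • ω) = ω :=
      ⟨g, rfl, by rw [← mul_smul, ← sq]; exact h⟩
    simp only [c, dif_pos hex]
    exact hex.choose_spec
  apply Nat.card_le_card_of_injective (fun p : {p : G × Ω // (p.1 ^ 2) • p.2 = p.2} =>
    (⟨((c p.1.2 (p.1.1 • p.1.2))⁻¹ * p.1.1, (p.1.2, p.1.1 • p.1.2)), by
      obtain ⟨h1, h2⟩ := hc p.1.1 p.1.2 p.2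
      have h3 : p.1.1 • p.1.1 • p.1.2 = p.1.2 := by
        rw [← mul_smul, ← sq]; exact p.2
      ext
      · simp only [Prod.smul_mk, mul_smul]
        rw [inv_smul_eq_iff]; exact h1.symm
      · simp only [Prod.smul_mk, mul_smul]
        rw [inv_smul_eq_iff, h2, h3]⟩ : {q : G × (Ω × Ω) // q.1 • q.2 = q.2}))
  rintro ⟨⟨g₁, ω₁⟩, h₁⟩ ⟨⟨g₂, ω₂⟩, h₂⟩ heq
  simp only [Subtype.mk.injEq, Prod.mk.injEq] at heq
  obtain ⟨hg, hω, hgω⟩ := heq
  subst hω
  rw [hgω] at hg
  have : g₁ = g₂ := mul_left_cancel hg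
  subst this
  rfl

theorem arith_ident (f n : ℕ) (h1 : 1 ≤ f) (h2 : f ≤ n) :
    f ^ 2 + (f - 1) * (n - f) + n = f + n * f := by
  obtain ⟨a, rfl⟩ : ∃ a, f = a + 1 := ⟨f - 1, by omega⟩
  obtain ⟨b, rfl⟩ : ∃ b, n = a + 1 + b := ⟨n - (a + 1), by omega⟩
  have e1 : a + 1 - 1 = a := by omega
  have e2 : a + 1 + b - (a + 1) = b := by omega
  rw [e1, e2]
  ring

/-- Under the hypotheses, every non-identity element fixes at most one point. -/
theorem fix_le_one [Finite G] [Finite Ω] [FaithfulSMul G Ω] [IsPretransitive G Ω] [Nonempty Ω]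
    (hinv : ∀ g : G, (∀ ω : Ω, g • ω ≠ ω) → orderOf g = 2) (g : G) (hg : g ≠ 1) :
    Nat.card (fixedBy Ω g) ≤ 1 := by
  classical
  have := Fintype.ofFinite G
  set n := Nat.card Ω with hn
  set f : G → ℕ := fun g => Nat.card (fixedBy Ω g) with hf
  have hf0 : ∀ g : G, (∀ ω : Ω, g • ω ≠ ω) → f g = 0 := by
    intro g hg
    have : IsEmpty (fixedBy Ω g) := ⟨fun x => hg x.1 x.2⟩
    exact Nat.card_of_isEmpty
  have hf1 : ∀ g : G, ¬ (∀ ω : Ω, g • ω ≠ ω) → 1 ≤ f g := by
    intro g hg
    push Not at hg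
    obtain ⟨ω, hω⟩ := hg
    have : Nonempty (fixedBy Ω g) := ⟨⟨ω, hω⟩⟩
    exact Nat.card_pos
  have hfn : ∀ g : G, f g ≤ n := fun g =>
    Nat.card_le_card_of_injective Subtype.val Subtype.val_injective
  have hsq : ∀ g : G, (∀ ω : Ω, g • ω ≠ ω) → f (g ^ 2) = n := by
    intro g hg
    have h1 : g ^ 2 = 1 := by rw [← hinv g hg]; exact pow_orderOf_eq_one g
    simp only [hf, h1]
    exact Nat.card_congr ⟨fun x => x.1, fun x => ⟨x, by simp⟩, fun x => rfl, fun x => rfl⟩
  have hmono : ∀ g : G, f g ≤ f (g ^ 2) := by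
    intro g
    apply Nat.card_mono (Set.toFinite _)
    intro ω hω
    rw [mem_fixedBy] at hω ⊢
    rw [sq, mul_smul, hω, hω]
  set u : G → ℕ := fun g => if (∀ ω : Ω, g • ω ≠ ω) then n else f g with hu
  set t : G → ℕ := fun g => if (∀ ω : Ω, g • ω ≠ ω) then 0 else (f g - 1) * (n - f g) with ht
  have hident : ∀ g : G, f g ^ 2 + t g + n = u g + n * f g := by
    intro g
    by_cases hg : ∀ ω : Ω, g • ω ≠ ω
    · simp only [hu, ht, if_pos hg, hf0 g hg]; ring
    · simp only [hu, ht, if_neg hg]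
      exact arith_ident (f g) n (hf1 g hg) (hfn g)
  have hule : ∀ g : G, u g ≤ f (g ^ 2) := by
    intro g
    by_cases hg : ∀ ω : Ω, g • ω ≠ ω
    · simp only [hu, if_pos hg]; exact (hsq g hg).ge
    · simp only [hu, if_neg hg]; exact hmono g
  have hsum1 : ∑ g : G, f g = Nat.card G := sum_card_fixedBy_eq_card
  have hsum2 : ∑ g : G, f (g ^ 2) ≤ ∑ g : G, f g ^ 2 := sum_fix_sq_le
  have hsum3 : ∑ g : G, u g ≤ ∑ g : G, f (g ^ 2) := Finset.sum_le_sum fun g _ => hule g
  have hsum4 : ∑ g : G, (f g ^ 2 + t g + n) = ∑ g : G, (u g + n * f g) :=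
    Finset.sum_congr rfl fun g _ => hident g
  simp only [Finset.sum_add_distrib, ← Finset.mul_sum, hsum1] at hsum4
  have hcn : ∑ _g : G, n = n * Nat.card G := by
    rw [Finset.sum_const, Finset.card_univ, smul_eq_mul, Nat.card_eq_fintype_card, mul_comm]
  rw [hcn] at hsum4
  have hsumt : ∑ g : G, t g = 0 := by omega
  have ht0 : t g = 0 := (Finset.sum_eq_zero_iff.mp hsumt) g (Finset.mem_univ g)
  by_cases hgd : ∀ ω : Ω, g • ω ≠ ω
  · have := hf0 g hgd
    simp only [hf] at this
    omega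
  · simp only [ht, if_neg hgd] at ht0
    rcases Nat.mul_eq_zero.mp ht0 with h | h
    · simp only [hf] at h; omega
    · exfalso
      apply hg
      have hfull : fixedBy Ω g = Set.univ := by
        apply Set.eq_of_subset_of_ncard_le (Set.subset_univ _) _ (Set.toFinite _)
        rw [Set.ncard_univ, ← Nat.card_coe_set_eq]
        simp only [hf] at h
        omega
      apply FaithfulSMul.eq_of_smul_eq_smul (α := Ω)
      intro ω
      rw [one_smul]
      have : ω ∈ fixedBy Ω g := by rw [hfull]; trivial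
      exact this

/-- Reformulation: a non-identity element has at most one fixed point. -/
theorem fix_unique [Finite G] [Finite Ω] [FaithfulSMul G Ω] [IsPretransitive G Ω] [Nonempty Ω]
    (hinv : ∀ g : G, (∀ ω : Ω, g • ω ≠ ω) → orderOf g = 2) (g : G) (hg : g ≠ 1) (ω ω' : Ω)
    (h1 : g • ω = ω) (h2 : g • ω' = ω') : ω = ω' := by
  have h := fix_le_one hinv g hg
  have hs := (Finite.card_le_one_iff_subsingleton).mp h
  have h3 : (⟨ω, h1⟩ : fixedBy Ω g) = ⟨ω', h2⟩ := Subsingleton.elim _ _
  exact congrArg Subtype.val h3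

section Commute

variable (hF : ∀ g : G, g ≠ 1 → ∀ ω ω' : Ω, g • ω = ω → g • ω' = ω' → ω = ω')
  (hinv : ∀ g : G, (∀ ω : Ω, g • ω ≠ ω) → orderOf g = 2)

include hinv in
theorem der_sq (g : G) (hg : ∀ ω : Ω, g • ω ≠ ω) : g * g = 1 := by
  rw [← sq, ← hinv g hg]; exact pow_orderOf_eq_one g

include hinv in
theorem der_inv (g : G) (hg : ∀ ω : Ω, g • ω ≠ ω) : g⁻¹ = g :=
  inv_eq_of_mul_eq_one_left (der_sq hinv g hg)

include hF in
/-- A non-identity element commuting with a derangement is a derangement. -/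
theorem der_of_commute (t : G) (ht : ∀ ω : Ω, t • ω ≠ ω) (x : G) (hx : x ≠ 1)
    (hc : x * t = t * x) : ∀ ω : Ω, x • ω ≠ ω := by
  intro β hβ
  have h1 : x • (t • β) = t • β := by rw [← mul_smul, hc, mul_smul, hβ]
  exact ht β (hF x hx β (t • β) hβ h1).symm

include hF hinv in
theorem commute_trans (s t u : G) (hs : ∀ ω : Ω, s • ω ≠ ω) (ht : ∀ ω : Ω, t • ω ≠ ω)
    (hu : ∀ ω : Ω, u • ω ≠ ω) (hst : s * t = t * s) (hsu : s * u = u * s) : t * u = u * t := by
  by_cases h : t * u = 1
  · have h1 : u = t⁻¹ := (inv_eq_of_mul_eq_one_right h).symm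
    rw [der_inv hinv t ht] at h1
    rw [h1]
  · have hc : (t * u) * s = s * (t * u) := by
      rw [mul_assoc, ← hsu, ← mul_assoc, ← hst, mul_assoc]
    have hd := der_of_commute hF s hs (t * u) h hc
    have h2 := der_sq hinv (t * u) hd
    have h3 : t * u = (t * u)⁻¹ := (inv_eq_of_mul_eq_one_left h2).symm
    rw [h3, mul_inv_rev, der_inv hinv t ht, der_inv hinv u hu]

include hF hinv in
theorem conj_of_not_commute [Finite G] (s t : G) (hs : ∀ ω : Ω, s • ω ≠ ω)
    (ht : ∀ ω : Ω, t • ω ≠ ω) (hst : s * t ≠ t * s) : IsConj s t := by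
  set x := s * t with hx
  have hss := der_sq hinv s hs
  have htt := der_sq hinv t ht
  have hx1 : x ≠ 1 := by
    intro h
    have h1 : t = s⁻¹ := (inv_eq_of_mul_eq_one_right h).symm
    rw [der_inv hinv s hs] at h1
    exact hst (by rw [hx, h1])
  have hxd : ¬ ∀ ω : Ω, x • ω ≠ ω := by
    intro hd
    have h2 := der_sq hinv x hd
    have h3 : s * t = (s * t)⁻¹ := (inv_eq_of_mul_eq_one_left h2).symm
    rw [mul_inv_rev, der_inv hinv t ht, der_inv hinv s hs] at h3
    exact hst h3
  push Not at hxd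
  obtain ⟨β, hβ⟩ := hxd
  -- s inverts x
  have hsx : s * x * s⁻¹ = x⁻¹ := by
    rw [hx, mul_inv_rev, der_inv hinv t ht, der_inv hinv s hs, ← mul_assoc, hss, one_mul]
  have hsxk : ∀ k : ℕ, s * x ^ k * s⁻¹ = (x ^ k)⁻¹ := by
    intro k
    rw [← conj_pow, hsx, inv_pow]
  have hm : 0 < orderOf x := orderOf_pos x
  -- the order of x is odd
  have hodd : ¬ 2 ∣ orderOf x := by
    rintro ⟨k, hk⟩
    have hk0 : 0 < k := by omega
    set z := x ^ k with hz
    have hz1 : z ≠ 1 := pow_ne_one_of_lt_orderOf (by omega) (by omega)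
    have hzz : z * z = 1 := by
      rw [hz, ← pow_add, ← two_mul, ← hk, pow_orderOf_eq_one]
    have hzinv : z⁻¹ = z := inv_eq_of_mul_eq_one_left hzz
    have hzs : z * s = s * z := by
      have h1 := hsxk k
      rw [← hz, hzinv] at h1
      calc z * s = (s * z * s⁻¹) * s := by rw [h1]
        _ = s * z := by group
    have hzd := der_of_commute hF s hs z hz1 hzs
    apply hzd β
    have : x ∈ stabilizer G β := hβ
    exact (stabilizer G β).pow_mem this k
  obtain ⟨j, hj⟩ : ∃ j, orderOf x = 2 * j + 1 := ⟨orderOf x / 2, by omega⟩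
  set y := x ^ (j + 1) with hy
  have hyy : y * y = x := by
    rw [hy, ← pow_add]
    have : j + 1 + (j + 1) = orderOf x + 1 := by omega
    rw [this, pow_succ, pow_orderOf_eq_one, one_mul]
  have hsy : s * y * s⁻¹ = y⁻¹ := hsxk (j + 1)
  rw [isConj_iff]
  refine ⟨y⁻¹, ?_⟩
  rw [inv_inv]
  have h1 : y⁻¹ * s = s * y := by
    rw [← hsy]; group
  rw [h1, mul_assoc, hyy, hx, ← mul_assoc, hss, one_mul]

end Commute

section Main

variable [Finite G] [Finite Ω] [FaithfulSMul G Ω] [IsPretransitive G Ω] [Nonempty Ω]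

/-- The number of derangements is `n - 1`. -/
theorem ncard_der (hinv : ∀ g : G, (∀ ω : Ω, g • ω ≠ ω) → orderOf g = 2) :
    {u : G | ∀ ω : Ω, u • ω ≠ ω}.ncard + 1 = Nat.card Ω := by
  classical
  have := Fintype.ofFinite G
  set n := Nat.card Ω with hn'
  have hn : 1 ≤ n := Nat.card_pos
  have hsum1 : ∑ g : G, Nat.card (fixedBy Ω g) = Nat.card G := sum_card_fixedBy_eq_card
  have hval : ∀ g : G, Nat.card (fixedBy Ω g) + (if (∀ ω : Ω, g • ω ≠ ω) then 1 else 0) =
      1 + (if g = 1 then n - 1 else 0) := by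
    intro g
    by_cases hg1 : g = 1
    · subst hg1
      have h1 : ¬ ∀ ω : Ω, (1 : G) • ω ≠ ω := by
        push Not; exact ⟨Classical.arbitrary Ω, one_smul _ _⟩
      have h2 : Nat.card (fixedBy Ω (1 : G)) = n :=
        Nat.card_congr ⟨fun x => x.1, fun x => ⟨x, by simp⟩, fun x => rfl, fun x => rfl⟩
      rw [if_neg h1, h2, if_pos rfl]; omega
    · by_cases hgd : ∀ ω : Ω, g • ω ≠ ω
      · have : IsEmpty (fixedBy Ω g) := ⟨fun x => hgd x.1 x.2⟩
        rw [if_pos hgd, if_neg hg1, Nat.card_of_isEmpty]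
      · have h1 := fix_le_one hinv g hg1
        have h2 : 1 ≤ Nat.card (fixedBy Ω g) := by
          push Not at hgd; obtain ⟨ω, hω⟩ := hgd
          have : Nonempty (fixedBy Ω g) := ⟨⟨ω, hω⟩⟩
          exact Nat.card_pos
        rw [if_neg hgd, if_neg hg1]; omega
  have hsum := Finset.sum_congr (rfl : (Finset.univ : Finset G) = Finset.univ) (fun g _ => hval g)
  simp only [Finset.sum_add_distrib, hsum1] at hsum
  have h3 : ∑ g : G, (if (∀ ω : Ω, g • ω ≠ ω) then 1 else 0) =
      {u : G | ∀ ω : Ω, u • ω ≠ ω}.ncard := by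
    rw [Finset.sum_boole, Set.ncard_eq_toFinset_card']
    simp
  have h4 : ∑ g : G, (if g = 1 then n - 1 else 0) = n - 1 := by simp
  have h5 : ∑ _g : G, 1 = Nat.card G := by simp
  rw [h3, h4, h5] at hsum
  omega

/-- Any two derangements commute. -/
theorem der_commute (hinv : ∀ g : G, (∀ ω : Ω, g • ω ≠ ω) → orderOf g = 2) (s t : G)
    (hs : ∀ ω : Ω, s • ω ≠ ω) (ht : ∀ ω : Ω, t • ω ≠ ω) : s * t = t * s := by
  classical
  by_contra hst
  have hF : ∀ g : G, g ≠ 1 → ∀ ω ω' : Ω, g • ω = ω → g • ω' = ω' → ω = ω' :=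
    fun g hg ω ω' h1 h2 => fix_unique hinv g hg ω ω' h1 h2
  have hconj : ∀ u : G, (∀ ω : Ω, u • ω ≠ ω) → IsConj s u := by
    intro u hu
    by_cases hsu : s * u = u * s
    · have hut : u * t ≠ t * u := by
        intro hut
        exact hst (commute_trans hF hinv u s t hu hs ht hsu.symm hut)
      have h1 : IsConj u t := conj_of_not_commute hF hinv u t hu ht hut
      have h2 : IsConj s t := conj_of_not_commute hF hinv s t hs ht hst
      exact h2.trans h1.symm
    · exact conj_of_not_commute hF hinv s u hs hu hsu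
  have horb : orbit (ConjAct G) s = {u : G | ∀ ω : Ω, u • ω ≠ ω} := by
    ext u
    rw [ConjAct.mem_orbit_conjAct]
    constructor
    · intro h
      obtain ⟨c, hc⟩ := isConj_iff.mp h.symm
      intro ω hω
      apply hs (c⁻¹ • ω)
      rw [← hc] at hω
      have := congrArg (fun x => c⁻¹ • x) hω
      simpa [mul_smul] using this
    · intro hu; exact (hconj u hu).symm
  have hcard : Nat.card (Subgroup.centralizer {s}) * (orbit (ConjAct G) s).ncard = Nat.card G := by
    rw [Subgroup.nat_card_centralizer_nat_card_stabilizer, ← index_stabilizer]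
    exact Subgroup.card_mul_index _
  rw [horb] at hcard
  have hd := ncard_der (G := G) (Ω := Ω) hinv
  have hsub : (Subgroup.centralizer {s} : Set G) ⊆ insert 1 {u : G | ∀ ω : Ω, u • ω ≠ ω} := by
    intro x hx
    by_cases hx1 : x = 1
    · left; exact hx1
    · right
      have hxs : x * s = s * x := by
        have := Subgroup.mem_centralizer_iff.mp hx s rfl
        exact this.symm
      exact der_of_commute hF s hs x hx1 hxs
  have hcle : Nat.card (Subgroup.centralizer {s}) ≤ Nat.card Ω := by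
    rw [← hd]
    calc Nat.card (Subgroup.centralizer {s}) = (Subgroup.centralizer {s} : Set G).ncard :=
          Nat.card_coe_set_eq _
      _ ≤ (insert 1 {u : G | ∀ ω : Ω, u • ω ≠ ω}).ncard := Set.ncard_le_ncard hsub (Set.toFinite _)
      _ ≤ _ := Set.ncard_insert_le _ _
  obtain α := Classical.arbitrary Ω
  have hndvd : Nat.card Ω ∣ Nat.card G := by
    rw [← index_stabilizer_of_transitive (G := G) (x := α)]
    exact Subgroup.index_dvd_card _
  set c := Nat.card (Subgroup.centralizer {s}) with hc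
  set d := {u : G | ∀ ω : Ω, u • ω ≠ ω}.ncard with hd'
  set n := Nat.card Ω with hn
  have hcpos : 0 < c := Nat.card_pos
  have hcn : c = n := by
    have h1 : n ∣ c * d := by rw [hcard]; exact hndvd
    have hcop : Nat.Coprime n d := by
      rw [← hd]; simp
    have h2 : n ∣ c := hcop.dvd_of_dvd_mul_right h1
    exact le_antisymm hcle (Nat.le_of_dvd hcpos h2)
  have heq : (Subgroup.centralizer {s} : Set G) = insert 1 {u : G | ∀ ω : Ω, u • ω ≠ ω} := by
    apply Set.eq_of_subset_of_ncard_le hsub _ (Set.toFinite _)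
    calc (insert 1 {u : G | ∀ ω : Ω, u • ω ≠ ω}).ncard ≤ d + 1 := Set.ncard_insert_le _ _
      _ = n := hd
      _ = c := hcn.symm
      _ = (Subgroup.centralizer {s} : Set G).ncard := (Nat.card_coe_set_eq _).symm
  have htmem : t ∈ (Subgroup.centralizer {s} : Set G) := by
    rw [heq]; right; exact ht
  exact hst (Subgroup.mem_centralizer_iff.mp htmem s rfl)

end Main

/-- Let G act faithfully and transitively on a finite set and suppose every element of G fixing no point is an involution. Then either G is an elementary abelian 2-group, or G is a Frobenius group whose Frobenius kernel is an elementary abelian 2-group: G has a Frobenius complement H, and the elements lying in no conjugate of H, together with the identity, pairwise commute and square to the identity. -/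
theorem result {G Ω : Type*} [Group G] [Finite G] [MulAction G Ω] [FaithfulSMul G Ω] [Finite Ω]
    (htrans : MulAction.IsPretransitive G Ω) (hinv : ∀ g : G, (∀ ω : Ω, g • ω ≠ ω) → orderOf g = 2) :
    (IsMulCommutative G ∧ ∀ g : G, g ^ 2 = 1) ∨
    (∃ H : Subgroup G, Cfsg.IsFrobeniusComplement H ∧
      (∀ x ∈ Cfsg.frobeniusKernel H, x ^ 2 = 1) ∧
      ∀ x ∈ Cfsg.frobeniusKernel H, ∀ y ∈ Cfsg.frobeniusKernel H, x * y = y * x) := by
  classical
  rcases isEmpty_or_nonempty Ω with hΩ | hΩ
  · exfalso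
    have := hinv 1 (fun ω => (hΩ.false ω).elim)
    rw [orderOf_one] at this; omega
  · obtain α := Classical.arbitrary Ω
    have hF : ∀ g : G, g ≠ 1 → ∀ ω ω' : Ω, g • ω = ω → g • ω' = ω' → ω = ω' :=
      fun g hg ω ω' h1 h2 => fix_unique hinv g hg ω ω' h1 h2
    by_cases hH : stabilizer G α = ⊥
    · left
      have hall : ∀ g : G, g ^ 2 = 1 := by
        intro g
        by_cases hg : g = 1
        · rw [hg, one_pow]
        · have hgd : ∀ ω : Ω, g • ω ≠ ω := by
            intro ω hω
            obtain ⟨x, rfl⟩ := exists_smul_eq G α ω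
            have h1 : x⁻¹ * g * x ∈ stabilizer G α := by
              rw [mem_stabilizer_iff, mul_smul, mul_smul, hω, inv_smul_smul]
            rw [hH, Subgroup.mem_bot] at h1
            apply hg
            have h2 : g = x * (x⁻¹ * g * x) * x⁻¹ := by group
            rw [h2, h1]; group
          rw [← hinv g hgd]; exact pow_orderOf_eq_one g
      refine ⟨isMulCommutative_iff.mpr ?_, hall⟩
      intro a b
      have h1 : a⁻¹ = a := inv_eq_of_mul_eq_one_left (by rw [← sq]; exact hall a)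
      have h2 : b⁻¹ = b := inv_eq_of_mul_eq_one_left (by rw [← sq]; exact hall b)
      have h3 : (a * b)⁻¹ = a * b := inv_eq_of_mul_eq_one_left (by rw [← sq]; exact hall (a * b))
      rw [← h3, mul_inv_rev, h1, h2]
    · right
      have hker : ∀ x : G, x ∈ Cfsg.frobeniusKernel (stabilizer G α) → x ≠ 1 →
          ∀ ω : Ω, x • ω ≠ ω := by
        intro x hx hx1 ω hω
        rcases hx with hx | hx
        · exact hx1 hx
        · obtain ⟨g, rfl⟩ := exists_smul_eq G α ω
          apply hx g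
          rw [Subgroup.mem_pointwise_smul_iff_inv_smul_mem]
          have h1 : g⁻¹ * x * g ∈ stabilizer G α := by
            rw [mem_stabilizer_iff, mul_smul, mul_smul, hω, inv_smul_smul]
          simpa [MulAut.smul_def] using h1
      refine ⟨stabilizer G α, ⟨hH, ?_, ?_⟩, ?_, ?_⟩
      · intro htop
        apply hH
        rw [eq_bot_iff]
        intro g _
        rw [Subgroup.mem_bot]
        apply FaithfulSMul.eq_of_smul_eq_smul (α := Ω)
        intro ω
        obtain ⟨x, rfl⟩ := exists_smul_eq G α ω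
        have hx : x ∈ stabilizer G α := by rw [htop]; trivial
        have hgx : g * x ∈ stabilizer G α := by rw [htop]; trivial
        rw [one_smul, ← mul_smul, mem_stabilizer_iff.mp hgx, mem_stabilizer_iff.mp hx]
      · intro g hg
        rw [eq_bot_iff]
        intro x hx
        rw [Subgroup.mem_bot]
        rw [Subgroup.mem_inf] at hx
        obtain ⟨hx1, hx2⟩ := hx
        by_contra hx_ne
        rw [Subgroup.mem_pointwise_smul_iff_inv_smul_mem] at hx2
        have hx3 : x • (g • α) = g • α := by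
          have h1 : g⁻¹ * x * g ∈ stabilizer G α := by simpa [MulAut.smul_def] using hx2
          rw [mem_stabilizer_iff, mul_smul, mul_smul, inv_smul_eq_iff] at h1
          exact h1
        have h2 := hF x hx_ne α (g • α) hx1 hx3
        apply hg
        rw [mem_stabilizer_iff]; exact h2.symm
      · intro x hx
        by_cases hx1 : x = 1
        · rw [hx1, one_pow]
        · rw [← hinv x (hker x hx hx1)]; exact pow_orderOf_eq_one x
      · intro x hx y hy
        by_cases hx1 : x = 1
        · rw [hx1, one_mul, mul_one]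
        · by_cases hy1 : y = 1
          · rw [hy1, one_mul, mul_one]
          · exact der_commute hinv x y (hker x hx hx1) (hker y hy hy1)

end Cfsg.Agent.S3555
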