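import Cfsg.Statements.S3556
import Cfsg.Agent.Lib.Helper59.MinNormal

set_option autoImplicit false
open Cfsg

namespace Cfsg.Agent.S3556

open Cfsg.Agent.Lib.Helper59.MinNormal MulAction

/-- Let G act faithfully and primitively on a finite set with at least two points, and suppose that for some fixed prime p every element of G fixing no point has order a power of p. Then G is of affine type (it has a regular normal subgroup that is an elementary abelian r-group for some prime r) or almost simple (it has a non-abelian simple normal subgroup with trivial centralizer). -/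
theorem result {G Ω : Type*} [Group G] [Finite G] [MulAction G Ω] [FaithfulSMul G Ω] [Finite Ω]
    (hprim : MulAction.IsPreprimitive G Ω) (hΩ : 2 ≤ Nat.card Ω) (p : ℕ) (hp : p.Prime)
    (hder : ∀ g : G, (∀ ω : Ω, g • ω ≠ ω) → ∃ k : ℕ, orderOf g = p ^ k) :
    (∃ (N : Subgroup G) (r : ℕ), r.Prime ∧ N.Normal ∧ Cfsg.IsElementaryAbelian r N ∧
      MulAction.IsPretransitive N Ω ∧ ∀ a : Ω, MulAction.stabilizer N a = ⊥) ∨
    (∃ T : Subgroup G, T.Normal ∧ IsSimpleGroup ↥T ∧ ¬ IsMulCommutative ↥T ∧
      Subgroup.centralizer (T : Set G) = ⊥) := by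
  classical
  have hnt : Nontrivial Ω := by
    rw [← Finite.one_lt_card_iff_nontrivial]; omega
  have htrans : IsPretransitive G Ω := hprim.toIsPretransitive
  have hGnt : (⊤ : Subgroup G) ≠ ⊥ := by
    intro h
    obtain ⟨a, b, hab⟩ := exists_pair_ne Ω
    obtain ⟨g, rfl⟩ := MulAction.exists_smul_eq G a b
    have hg : g ∈ (⊤ : Subgroup G) := trivial
    rw [h, Subgroup.mem_bot] at hg
    rw [hg, one_smul] at hab
    exact hab rfl
  obtain ⟨N, -, hN⟩ := exists_isMinInv (⊤ : Subgroup G) ⊤ hGnt Subgroup.le_normalizer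
  have hNn : N.Normal := Subgroup.normalizer_eq_top_iff.mp (top_le_iff.mp hN.2.1)
  have hquasi : ∀ K : Subgroup G, K.Normal → K ≠ ⊥ → IsPretransitive K Ω := by
    intro K hK hK0
    apply IsQuasiPreprimitive.isPretransitive_of_normal (G := G)
    intro hfix
    apply hK0
    rw [eq_bot_iff]
    intro k hk
    rw [Subgroup.mem_bot]
    apply FaithfulSMul.eq_of_smul_eq_smul (α := Ω)
    intro ω
    have h1 : ω ∈ fixedPoints K Ω := by rw [hfix]; trivial
    rw [one_smul]
    exact h1 ⟨k, hk⟩
  have hNtr := hquasi N hNn hN.1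
  by_cases hab : ∀ x ∈ N, ∀ y ∈ N, x * y = y * x
  · left
    have hNnt : Nontrivial N := (Subgroup.nontrivial_iff_ne_bot N).mpr hN.1
    have hcard : Nat.card N ≠ 1 := by
      intro h
      have h1 : Subsingleton N := (Nat.card_eq_one_iff_unique.mp h).1
      exact not_subsingleton N h1
    obtain ⟨r, hr, hrd⟩ := Nat.exists_prime_and_dvd hcard
    have hfact : Fact r.Prime := ⟨hr⟩
    obtain ⟨z, hz⟩ := exists_prime_orderOf_dvd_card' r hrd
    let K : Subgroup G :=
      { carrier := {x | x ∈ N ∧ x ^ r = 1}
        one_mem' := ⟨N.one_mem, one_pow r⟩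
        mul_mem' := by
          rintro a b ⟨ha, ha'⟩ ⟨hb, hb'⟩
          refine ⟨N.mul_mem ha hb, ?_⟩
          have hc : Commute a b := hab a ha b hb
          rw [hc.mul_pow, ha', hb', one_mul]
        inv_mem' := by
          rintro a ⟨ha, ha'⟩
          exact ⟨N.inv_mem ha, by rw [inv_pow, ha', inv_one]⟩ }
    have hKn : K.Normal := ⟨by
      rintro a ⟨ha, ha'⟩ g
      exact ⟨hNn.conj_mem a ha g, by rw [conj_pow, ha', mul_one, mul_inv_cancel]⟩⟩
    have hK : K = N := by
      apply hN.2.2 K (fun x hx => hx.1)
      · intro h0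
        have h1 : (z : G) ∈ K := ⟨z.2, by
          have h2 := pow_orderOf_eq_one z
          rw [hz] at h2
          exact_mod_cast congrArg Subtype.val h2⟩
        rw [h0, Subgroup.mem_bot] at h1
        have hz1 : z = 1 := Subtype.ext h1
        rw [hz1, orderOf_one] at hz
        exact hr.one_lt.ne hz
      · rw [Subgroup.normalizer_eq_top_iff.mpr hKn]
    refine ⟨N, r, hr, hNn, ⟨?_, ?_⟩, hNtr, ?_⟩
    · exact ⟨⟨fun a b => Subtype.ext (hab a a.2 b b.2)⟩⟩
    · intro a ha
      have h1 : a ∈ K := by rw [hK]; exact ha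
      exact h1.2
    · intro a
      rw [eq_bot_iff]
      intro n hn
      rw [Subgroup.mem_bot]
      rw [mem_stabilizer_iff] at hn
      apply Subtype.ext
      apply FaithfulSMul.eq_of_smul_eq_smul (α := Ω)
      intro b
      obtain ⟨m, rfl⟩ := hNtr.exists_smul_eq a b
      have hc := hab n n.2 m m.2
      have hn' : (n : G) • a = a := hn
      calc (n : G) • (m • a) = ((n : G) * (m : G)) • a := by rw [mul_smul]; rfl
        _ = ((m : G) * (n : G)) • a := by rw [hc]
        _ = (m : G) • ((n : G) • a) := mul_smul _ _ _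
        _ = ((1 : N) : G) • (m • a) := by rw [hn', Subgroup.coe_one, one_smul]; rfl
  · right
    have hC : Subgroup.centralizer (N : Set G) = ⊥ := by
      by_contra hC0
      have hCn : (Subgroup.centralizer (N : Set G)).Normal := inferInstance
      have hCtr := hquasi _ hCn hC0
      have hpN : ∀ x ∈ N, ∃ k : ℕ, x ^ (p ^ k) = 1 := by
        intro x hx
        by_cases hx1 : x = 1
        · exact ⟨0, by simp [hx1]⟩
        have hxder : ∀ ω : Ω, x • ω ≠ ω := by
          intro ω hω
          apply hx1
          apply FaithfulSMul.eq_of_smul_eq_smul (α := Ω)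
          intro β
          obtain ⟨c, rfl⟩ := hCtr.exists_smul_eq ω β
          rw [one_smul]
          have hc : x * (c : G) = (c : G) * x := Subgroup.mem_centralizer_iff.mp c.2 x hx
          calc x • (c • ω) = (x * (c : G)) • ω := by rw [mul_smul]; rfl
            _ = ((c : G) * x) • ω := by rw [hc]
            _ = (c : G) • (x • ω) := mul_smul _ _ _
            _ = c • ω := by rw [hω]; rfl
        obtain ⟨k, hk⟩ := hder x hxder
        exact ⟨k, by rw [← hk]; exact pow_orderOf_eq_one x⟩
      exact hab (comm_of_pgroup ⊤ N hN p hp hpN)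
    obtain ⟨T, hTN, hT⟩ := exists_isMinInv N N hN.1 Subgroup.le_normalizer
    by_cases hTG : ∀ g : G, cj g T = T
    · have hTn : T.Normal := ⟨by
        intro t ht g
        have h1 := conj_mem_cj g T t ht
        rwa [hTG g] at h1⟩
      have hTeq : T = N := hN.2.2 T hTN hT.1 (by rw [Subgroup.normalizer_eq_top_iff.mpr hTn])
      rw [hTeq] at hT
      refine ⟨N, hNn, ?_, ?_, hC⟩
      · have hNnt : Nontrivial N := (Subgroup.nontrivial_iff_ne_bot N).mpr hN.1
        refine { toNontrivial := hNnt, eq_bot_or_eq_top_of_normal := fun K hK => ?_ }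
        by_cases hK0 : K = ⊥
        · exact Or.inl hK0
        · right
          have h2 : K.map N.subtype = N := by
            apply hT.2.2 _ (Subgroup.map_subtype_le K)
            · intro h0
              apply hK0
              exact (Subgroup.map_eq_bot_iff_of_injective K N.subtype_injective).mp h0
            · rw [Subgroup.le_normalizer_iff]
              rintro n hn z ⟨k, hk, rfl⟩
              exact ⟨⟨n, hn⟩ * k * ⟨n, hn⟩⁻¹, hK.conj_mem k hk ⟨n, hn⟩, rfl⟩
          rw [eq_top_iff]
          intro x _
          have h3 : (x : G) ∈ K.map N.subtype := by rw [h2]; exact x.2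
          obtain ⟨k, hk, hkx⟩ := h3
          have h4 : k = x := Subtype.ext hkx
          rwa [← h4]
      · intro hcomm
        apply hab
        intro x hx y hy
        have h5 := hcomm.is_comm.comm ⟨x, hx⟩ ⟨y, hy⟩
        exact congrArg Subtype.val h5
    · exfalso
      push Not at hTG
      obtain ⟨g, hg⟩ := hTG
      have hpT := pgroup_of_conj_ne hprim p hder N T hN hNtr hTN hT g hg
      exact hab (comm_of_sub_pgroup N T hN hTN hT p hp hpT)

end Cfsg.Agent.S3556
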