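import Cfsg.Statements.S3557
-- import your own Cfsg.Agent.* helpers here
import Cfsg.Agent.Lib.Helper56.TPFinal
import Cfsg.Agent.Lib.Helper86.TPSYLORB
import Cfsg.Agent.Lib.Helper86.TPTWOORB
import Cfsg.Agent.Lib.Helper51.TPCENT
import Cfsg.Agent.Lib.Helper59.TPGLUE
import Cfsg.Agent.Lib.Helper98.TPLIDX
import Cfsg.Agent.Lib.Helper51.TPLNORMAL
import Cfsg.Agent.Lib.Helper50.TPLMEM
import Cfsg.Agent.Lib.Helper98.TPRELCENT
import Cfsg.Agent.Lib.Helper98.TPKNE
import Cfsg.Agent.Lib.Helper50.TPFPF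
import Cfsg.Agent.Lib.Helper50.TPORDP

set_option autoImplicit false
open Cfsg

namespace Cfsg.Agent.S3557

/-- Let G act faithfully and transitively on a finite set with 2p² points, p a prime, and suppose G is 2-closed: every permutation of the set which, on each ordered pair of points, agrees with some element of G, is itself induced by an element of G. Then some element of G of prime order fixes no point. -/
theorem result {G Ω : Type*} [Group G] [Finite G] [MulAction G Ω] [FaithfulSMul G Ω] [Finite Ω]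
    (htrans : MulAction.IsPretransitive G Ω) (p : ℕ) (hp : p.Prime) (hcard : Nat.card Ω = 2 * p ^ 2)
    (hcl : ∀ σ : Equiv.Perm Ω, (∀ a b : Ω, ∃ g : G, σ a = g • a ∧ σ b = g • b) → ∃ g : G, ∀ a : Ω, σ a = g • a) :
    ∃ g : G, (orderOf g).Prime ∧ ∀ ω : Ω, g • ω ≠ ω :=
  Cfsg.Agent.Lib.Helper56.TPFinal.final
    Cfsg.Agent.Lib.Helper86.TPSYLORB.main Cfsg.Agent.Lib.Helper86.TPTWOORB.main
    Cfsg.Agent.Lib.Helper51.TPCENT.main Cfsg.Agent.Lib.Helper59.TPGLUE.main
    Cfsg.Agent.Lib.Helper98.TPLIDX.main Cfsg.Agent.Lib.Helper51.TPLNORMAL.main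
    Cfsg.Agent.Lib.Helper50.TPLMEM.main Cfsg.Agent.Lib.Helper98.TPRELCENT.main
    Cfsg.Agent.Lib.Helper98.TPKNE.main Cfsg.Agent.Lib.Helper50.TPFPF.main
    Cfsg.Agent.Lib.Helper50.TPORDP.main htrans p hp hcard hcl

end Cfsg.Agent.S3557
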