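-- Statement S3592: M11 is determined by its order and the numbers of elements of each order.
-- The number of elements of order 11 is 1440, so there are 144 Sylow 11-subgroups with
-- normalizers of order 55; an element of order 55 would give a number of elements of order 55
-- congruent to 7 modulo 11, which does not occur in M11.  So 11 is isolated in the prime graph
-- (S2490) and the group is simple of order 7920 (S0420).
import Cfsg.Statements.S3592
import Cfsg.Agent.Lib.Helper68.M11Iso

set_option autoImplicit false
open Cfsg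

namespace Cfsg.Agent.S3592

open Subgroup Cfsg.Agent.Lib.Helper68

/-- Let M be the Mathieu group M₁₁ (order 7920). If a finite group G has the same order as M and the same set of values of the function 'number of elements of order n' (taken over the element orders n that occur), then G is isomorphic to M. -/
theorem result {G : Type*} [Group G] [Finite G]
    (hcard : Nat.card G = Nat.card ↥Cfsg.Spor.M11)
    (hnse : {c : ℕ | 0 < c ∧ ∃ n : ℕ, c = Nat.card {g : G // orderOf g = n}} =
      {c : ℕ | 0 < c ∧ ∃ n : ℕ, c = Nat.card {g : ↥Cfsg.Spor.M11 // orderOf g = n}}) :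
    Nonempty (G ≃* ↥Cfsg.Spor.M11) := by
  classical
  have : Fact (Nat.Prime 11) := ⟨by norm_num⟩
  have hM : Nat.card ↥Spor.M11 = 7920 := M11Spor.card_spor
  have hG : Nat.card G = 7920 := hcard.trans hM
  -- the possible numbers of elements of a given order
  have hval : ∀ (n : ℕ) (g : G), orderOf g = n →
      Nat.card {g : G // orderOf g = n} = 1 ∨ Nat.card {g : G // orderOf g = n} = 1440 ∨
        11 ∣ Nat.card {g : G // orderOf g = n} := by
    intro n g hg
    have : Nonempty {g : G // orderOf g = n} := ⟨⟨g, hg⟩⟩
    have hpos : 0 < Nat.card {g : G // orderOf g = n} := Nat.card_pos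
    have hmem : Nat.card {g : G // orderOf g = n} ∈
        {c : ℕ | 0 < c ∧ ∃ n : ℕ, c = Nat.card {g : G // orderOf g = n}} := ⟨hpos, n, rfl⟩
    rw [hnse] at hmem
    obtain ⟨hpos', n', hn'⟩ := hmem
    rw [hn'] at hpos' ⊢
    exact M11Nse.nse_simple hM n' hpos'
  -- the Sylow 11-subgroups
  obtain ⟨z₀, hz₀⟩ := exists_prime_orderOf_dvd_card' (G := G) 11 (by rw [hG]; norm_num)
  have hsyl : Nat.card (Sylow 11 G) = 144 := by
    have h1 := M11Nse.card_order11 hG
    have h2 := card_sylow_modEq_one 11 G
    have h3 := hval 11 z₀ hz₀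
    rw [h1] at h3
    unfold Nat.ModEq at h2
    omega
  have hnorm : ∀ P : Sylow 11 G, Nat.card (normalizer ((P : Subgroup G) : Set G)) = 55 := by
    intro P
    have h1 := Sylow.card_eq_index_normalizer P
    have h2 := Subgroup.card_mul_index (normalizer ((P : Subgroup G) : Set G))
    rw [hG] at h2
    have h3 : (normalizer ((P : Subgroup G) : Set G)).index = 144 := by
      rw [← hsyl]
      exact h1.symm
    rw [h3] at h2
    omega
  apply M11Iso.iso_of_disc hG
  intro g hg
  obtain ⟨m, hm⟩ := hg
  have hpos : 0 < orderOf g := orderOf_pos g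
  have hm0 : m ≠ 0 := by
    rintro rfl
    rw [mul_zero] at hm
    omega
  have hz : orderOf (g ^ m) = 11 := by
    rw [orderOf_pow' g hm0, hm, Nat.gcd_mul_left_left, Nat.mul_div_cancel _ (Nat.pos_of_ne_zero hm0)]
  obtain ⟨P, hP⟩ := M11Nse.exists_sylow_eq hG (g ^ m) hz
  have hgz : g * g ^ m = g ^ m * g := (pow_mul_comm' g m).symm
  have hgN : g ∈ normalizer ((P : Subgroup G) : Set G) :=
    M11Nse.mem_normalizer_of_commute P (g ^ m) g hP hgz
  have hd : orderOf g ∣ 55 := by
    rw [← hnorm P]
    exact Subgroup.orderOf_dvd_natCard _ hgN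
  rw [hm] at hd
  have hm5 : m ∣ 5 := by
    have h1 : 11 * m ∣ 11 * 5 := hd
    exact (Nat.mul_dvd_mul_iff_left (by norm_num)).mp h1
  rcases (Nat.dvd_prime (by norm_num : Nat.Prime 5)).mp hm5 with h | h
  · rw [hm, h]
  · exfalso
    have hg55 : orderOf g = 55 := by rw [hm, h]
    have hNeq : zpowers g = normalizer ((P : Subgroup G) : Set G) :=
      Subgroup.eq_of_le_of_card_ge ((zpowers_le).mpr hgN)
        (by rw [hnorm P, Nat.card_zpowers, hg55])
    have hmod := M11Nse.card_order_modEq 11 (g ^ m) hz 55
    have hfix : Nat.card {x : G // orderOf x = 55 ∧ x * g ^ m = g ^ m * x} = 40 := by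
      have e : {x : G // orderOf x = 55 ∧ x * g ^ m = g ^ m * x} ≃
          {y : ↥(zpowers g) // orderOf y = 55} :=
        { toFun := fun x => ⟨⟨x.1, by
              rw [hNeq]
              exact M11Nse.mem_normalizer_of_commute P (g ^ m) x.1 hP x.2.2⟩,
            (Subgroup.orderOf_coe _).symm.trans x.2.1⟩
          invFun := fun y => ⟨y.1.1, (Subgroup.orderOf_coe _).trans y.2, by
              obtain ⟨k, hk⟩ := mem_zpowers_iff.mp y.1.2
              rw [← hk]
              exact (((Commute.refl g).zpow_left k).pow_right m).eq⟩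
          left_inv := fun x => Subtype.ext rfl
          right_inv := fun y => Subtype.ext (Subtype.ext rfl) }
      rw [Nat.card_congr e]
      have : Fintype ↥(zpowers g) := Fintype.ofFinite _
      have hc : Fintype.card ↥(zpowers g) = 55 := by
        rw [← Nat.card_eq_fintype_card, Nat.card_zpowers, hg55]
      have h1 := IsCyclic.card_orderOf_eq_totient (α := ↥(zpowers g)) (d := 55) (by rw [hc])
      have h2 : Nat.totient 55 = 40 := by
        rw [show (55 : ℕ) = 5 * 11 by norm_num, Nat.totient_mul (by norm_num),
          Nat.totient_prime (by norm_num), Nat.totient_prime (by norm_num)]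
      rw [Nat.card_eq_fintype_card, Fintype.card_subtype, ← h2, ← h1]
    rw [hfix] at hmod
    have h3 := hval 55 g hg55
    unfold Nat.ModEq at hmod
    omega

end Cfsg.Agent.S3592
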