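import Cfsg.Statements.S3599
import Mathlib

set_option autoImplicit false
open Cfsg

namespace Cfsg.Agent.S3599

/-- pairs `(c, i)` standing for the map `w ↦ shift_i w + c` on functions `ZMod v → ZMod u` -/
structure Aff (u v : ℕ) where
  c : ZMod v → ZMod u
  i : ZMod v

namespace Aff

variable {u v : ℕ}

theorem ext' {a b : Aff u v} (h1 : a.c = b.c) (h2 : a.i = b.i) : a = b := by
  cases a; cases b; simp_all

/-- cyclic shift -/
def sh (i : ZMod v) (w : ZMod v → ZMod u) : ZMod v → ZMod u := fun k => w (k - i)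

@[simp] theorem sh_apply (i : ZMod v) (w : ZMod v → ZMod u) (k : ZMod v) : sh i w k = w (k - i) := rfl

theorem sh_zero (w : ZMod v → ZMod u) : sh 0 w = w := by
  funext k; simp

theorem sh_sh (i j : ZMod v) (w : ZMod v → ZMod u) : sh i (sh j w) = sh (i + j) w := by
  funext k; simp only [sh_apply]; congr 1; ring

theorem sh_add (i : ZMod v) (w w' : ZMod v → ZMod u) : sh i (w + w') = sh i w + sh i w' := by
  funext k; simp

theorem sh_neg (i : ZMod v) (w : ZMod v → ZMod u) : sh i (-w) = - sh i w := by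
  funext k; simp

theorem sh_sub (i : ZMod v) (w w' : ZMod v → ZMod u) : sh i (w - w') = sh i w - sh i w' := by
  funext k; simp

theorem sh_zero' (i : ZMod v) : sh i (0 : ZMod v → ZMod u) = 0 := by
  funext k; simp

theorem sh_sum {ι : Type*} (t : Finset ι) (i : ZMod v) (f : ι → ZMod v → ZMod u) :
    sh i (∑ x ∈ t, f x) = ∑ x ∈ t, sh i (f x) := by
  funext k; simp [Finset.sum_apply]

theorem sh_injective (i : ZMod v) : Function.Injective (sh i : (ZMod v → ZMod u) → _) := by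
  intro w w' h
  have := congrArg (sh (-i)) h
  simpa [sh_sh, sh_zero] using this

instance : Mul (Aff u v) := ⟨fun a b => ⟨a.c + sh a.i b.c, a.i + b.i⟩⟩
instance : One (Aff u v) := ⟨⟨0, 0⟩⟩
instance : Inv (Aff u v) := ⟨fun a => ⟨- sh (-a.i) a.c, -a.i⟩⟩

@[simp] theorem mul_c (a b : Aff u v) : (a * b).c = a.c + sh a.i b.c := rfl
@[simp] theorem mul_i (a b : Aff u v) : (a * b).i = a.i + b.i := rfl
@[simp] theorem one_c : (1 : Aff u v).c = 0 := rfl
@[simp] theorem one_i : (1 : Aff u v).i = 0 := rfl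
@[simp] theorem inv_c (a : Aff u v) : (a⁻¹).c = - sh (-a.i) a.c := rfl
@[simp] theorem inv_i (a : Aff u v) : (a⁻¹).i = -a.i := rfl

instance : Group (Aff u v) :=
  Group.ofLeftAxioms
    (fun a b c => by
      apply ext'
      · simp only [mul_c, mul_i, sh_add, sh_sh, add_assoc]
      · simp only [mul_i, add_assoc])
    (fun a => by
      apply ext'
      · simp [sh_zero]
      · simp)
    (fun a => by
      apply ext'
      · simp
      · simp)

theorem pow_i (a : Aff u v) (n : ℕ) : (a ^ n).i = n • a.i := by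
  induction n with
  | zero => simp
  | succ n ih => rw [pow_succ, mul_i, ih, succ_nsmul]

theorem pow_c (a : Aff u v) (n : ℕ) :
    (a ^ n).c = ∑ t ∈ Finset.range n, sh (t • a.i) a.c := by
  induction n with
  | zero => simp
  | succ n ih => rw [pow_succ, mul_c, ih, pow_i, Finset.sum_range_succ]

end Aff

open Aff

/-- shift-invariant non-zero subgroups of sum-zero functions -/
def IsInv (u v : ℕ) [NeZero v] (A : AddSubgroup (ZMod v → ZMod u)) : Prop :=
  A ≠ ⊥ ∧ (∀ (i : ZMod v) (w : ZMod v → ZMod u), w ∈ A → sh i w ∈ A) ∧ ∀ w ∈ A, ∑ k, w k = 0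

theorem sum_sh {u v : ℕ} [NeZero v] (i : ZMod v) (w : ZMod v → ZMod u) :
    ∑ k, sh i w k = ∑ k, w k :=
  Fintype.sum_equiv (Equiv.subRight i) _ _ (fun _ => rfl)

theorem exists_isInv (u v : ℕ) [Fact u.Prime] [Fact v.Prime] :
    ∃ A, IsInv u v A := by
  have hv : (1 : ZMod v) ≠ 0 := one_ne_zero
  have hu : (1 : ZMod u) ≠ 0 := one_ne_zero
  let A : AddSubgroup (ZMod v → ZMod u) :=
    { carrier := {w | ∑ k, w k = 0}
      add_mem' := by
        intro a b ha hb
        simp only [Set.mem_ofPred_eq, Pi.add_apply, Finset.sum_add_distrib] at *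
        rw [ha, hb, add_zero]
      zero_mem' := by simp
      neg_mem' := by
        intro a ha
        simp only [Set.mem_ofPred_eq, Pi.neg_apply, Finset.sum_neg_distrib] at *
        rw [ha, neg_zero] }
  refine ⟨A, ?_, ?_, ?_⟩
  · intro hbot
    let w0 : ZMod v → ZMod u := Pi.single 0 1 - Pi.single 1 1
    have hmem : w0 ∈ A := by
      change ∑ k, w0 k = 0
      simp [w0, Finset.sum_sub_distrib]
    rw [hbot, AddSubgroup.mem_bot] at hmem
    have := congrFun hmem 0
    simp [w0, hv.symm] at this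
  · intro i w hw
    change ∑ k, sh i w k = 0
    rw [sum_sh]
    exact hw
  · intro w hw
    exact hw

/-- a minimal shift-invariant subgroup -/
noncomputable def V (u v : ℕ) : AddSubgroup (ZMod v → ZMod u) :=
  open Classical in
  if hv : v = 0 then ⊥ else
    haveI : NeZero v := ⟨hv⟩
    if h : ∃ A, Minimal (IsInv u v) A then h.choose else ⊥

theorem V_spec (u v : ℕ) [Fact u.Prime] [Fact v.Prime] : Minimal (IsInv u v) (V u v) := by
  have : NeZero u := ⟨(Fact.out : u.Prime).ne_zero⟩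
  have hv : v ≠ 0 := (Fact.out : v.Prime).ne_zero
  have h : ∃ A, Minimal (IsInv u v) A := exists_minimal_of_wellFoundedLT _ (exists_isInv u v)
  unfold V
  rw [dif_neg hv, dif_pos h]
  exact h.choose_spec

theorem V_ne_bot (u v : ℕ) [Fact u.Prime] [Fact v.Prime] : V u v ≠ ⊥ := (V_spec u v).1.1

/-- shift invariance of `V`, with no hypothesis -/
theorem V_sh (u v : ℕ) (i : ZMod v) {w : ZMod v → ZMod u}
    (hw : w ∈ V u v) : sh i w ∈ V u v := by
  unfold V at hw ⊢
  by_cases hv : v = 0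
  · rw [dif_pos hv] at hw ⊢
    rw [AddSubgroup.mem_bot] at hw ⊢
    rw [hw, sh_zero']
  · rw [dif_neg hv] at hw ⊢
    have : NeZero v := ⟨hv⟩
    by_cases h : ∃ A, Minimal (IsInv u v) A
    · rw [dif_pos h] at hw ⊢
      exact h.choose_spec.1.2.1 i w hw
    · rw [dif_neg h] at hw ⊢
      rw [AddSubgroup.mem_bot] at hw ⊢
      rw [hw, sh_zero']

theorem V_sum (u v : ℕ) [Fact u.Prime] [Fact v.Prime] {w : ZMod v → ZMod u}
    (hw : w ∈ V u v) : ∑ k, w k = 0 := (V_spec u v).1.2.2 w hw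

theorem exists_V_ne_zero (u v : ℕ) [Fact u.Prime] [Fact v.Prime] : ∃ c ∈ V u v, c ≠ 0 := by
  by_contra h
  push Not at h
  exact V_ne_bot u v ((AddSubgroup.eq_bot_iff_forall _).mpr h)

theorem eq_nsmul_of_ne_zero {v : ℕ} [Fact v.Prime] (i j : ZMod v) (hi : i ≠ 0) :
    j = (j / i).val • i := by
  rw [nsmul_eq_mul, ZMod.natCast_zmod_val, div_mul_cancel₀ _ hi]

/-- invariance under one non-zero shift gives invariance under all shifts -/
theorem sh_all {u v : ℕ} [Fact v.Prime] (B : AddSubgroup (ZMod v → ZMod u)) (i : ZMod v)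
    (hi : i ≠ 0) (hB : ∀ w ∈ B, sh i w ∈ B) (j : ZMod v) : ∀ w ∈ B, sh j w ∈ B := by
  have hn : ∀ n : ℕ, ∀ w ∈ B, sh (n • i) w ∈ B := by
    intro n
    induction n with
    | zero => intro w hw; simpa [sh_zero] using hw
    | succ n ih =>
      intro w hw
      have := hB _ (ih w hw)
      rw [sh_sh] at this
      rwa [succ_nsmul, add_comm]
  rw [eq_nsmul_of_ne_zero i j hi]
  exact hn _

/-- a sum-zero function fixed by a non-zero shift vanishes -/
theorem fixed_eq_zero {u v : ℕ} [Fact u.Prime] [Fact v.Prime] (huv : u ≠ v)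
    (w : ZMod v → ZMod u) (hsum : ∑ k, w k = 0) (i : ZMod v) (hi : i ≠ 0) (hfix : sh i w = w) :
    w = 0 := by
  have hn : ∀ n : ℕ, sh (n • i) w = w := by
    intro n
    induction n with
    | zero => simp [sh_zero]
    | succ n ih => rw [succ_nsmul, add_comm, ← sh_sh, ih, hfix]
  have hall : ∀ j : ZMod v, sh j w = w := by
    intro j
    rw [eq_nsmul_of_ne_zero i j hi]
    exact hn _
  have hconst : ∀ k : ZMod v, w k = w 0 := by
    intro k
    have := congrFun (hall k) k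
    simp only [sh_apply, sub_self] at this
    exact this.symm
  have h1 : ∑ k : ZMod v, w k = (v : ZMod u) * w 0 := by
    rw [Finset.sum_congr rfl (fun k _ => hconst k), Finset.sum_const, Finset.card_univ,
      ZMod.card, nsmul_eq_mul]
  rw [hsum] at h1
  have hv0 : (v : ZMod u) ≠ 0 := by
    rw [Ne, ZMod.natCast_eq_zero_iff]
    intro hdvd
    exact huv ((Nat.prime_dvd_prime_iff_eq Fact.out Fact.out).mp hdvd)
  have hw0 : w 0 = 0 := by
    rcases mul_eq_zero.mp h1.symm with h | h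
    · exact absurd h hv0
    · exact h
  funext k
  rw [hconst k, hw0]
  rfl

/-- irreducibility: a non-zero subgroup of `V` invariant under one non-zero shift is `V` -/
theorem irr {u v : ℕ} [Fact u.Prime] [Fact v.Prime] (B : AddSubgroup (ZMod v → ZMod u))
    (hBV : B ≤ V u v) (hB0 : B ≠ ⊥) (i : ZMod v) (hi : i ≠ 0) (hB : ∀ w ∈ B, sh i w ∈ B) :
    B = V u v := by
  have hInv : IsInv u v B :=
    ⟨hB0, fun j w hw => sh_all B i hi hB j w hw, fun w hw => V_sum u v (hBV hw)⟩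
  exact le_antisymm hBV ((V_spec u v).2 hInv hBV)

/-- the group `V ⋊ ZMod v` -/
noncomputable def F (u v : ℕ) : Subgroup (Aff u v) where
  carrier := {a | a.c ∈ V u v}
  mul_mem' := by
    intro a b ha hb
    exact (V u v).add_mem ha (V_sh u v _ hb)
  one_mem' := (V u v).zero_mem
  inv_mem' := by
    intro a ha
    exact (V u v).neg_mem (V_sh u v _ ha)

theorem mem_F {u v : ℕ} (a : Aff u v) : a ∈ F u v ↔ a.c ∈ V u v := Iff.rfl

theorem sum_range_shift {A : Type*} [AddCommGroup A] (f : ℕ → A) (r : ℕ) (h : f r = f 0) :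
    ∑ i ∈ Finset.range r, f (i + 1) = ∑ i ∈ Finset.range r, f i := by
  have h1 := Finset.sum_range_succ f r
  have h2 := Finset.sum_range_succ' f r
  rw [h1, h] at h2
  exact (add_right_cancel h2).symm

theorem orderOf_of_i_eq_zero {u v : ℕ} [Fact u.Prime] {a : Aff u v} (hi : a.i = 0)
    (hc : a.c ≠ 0) : orderOf a = u := by
  apply orderOf_eq_prime
  · apply Aff.ext'
    · rw [Aff.pow_c, hi]
      simp only [smul_zero, sh_zero, Finset.sum_const, Finset.card_range, Aff.one_c]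
      funext k
      simp
    · rw [Aff.pow_i, hi]
      simp
  · intro h
    apply hc
    rw [h]
    rfl

theorem orderOf_of_i_ne_zero {u v : ℕ} [Fact u.Prime] [Fact v.Prime] (huv : u ≠ v)
    {a : Aff u v} (ha : a ∈ F u v) (hi : a.i ≠ 0) : orderOf a = v := by
  have hv0 : v • a.i = 0 := by simp
  apply orderOf_eq_prime
  · apply Aff.ext'
    · rw [Aff.pow_c, Aff.one_c]
      apply fixed_eq_zero huv _ _ a.i hi
      · rw [sh_sum]
        simp_rw [sh_sh]
        have := sum_range_shift (fun t => sh (t • a.i) a.c) v (by simp [hv0])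
        simp only [succ_nsmul] at this
        simp_rw [add_comm a.i]
        exact this
      · apply V_sum u v
        apply AddSubgroup.sum_mem
        intro t _
        exact V_sh u v _ ha
    · rw [Aff.pow_i, hv0]
      rfl
  · intro h
    apply hi
    rw [h]
    rfl

theorem order_cases {u v : ℕ} [Fact u.Prime] [Fact v.Prime] (huv : u ≠ v)
    {a : Aff u v} (ha : a ∈ F u v) : a = 1 ∨ orderOf a = u ∨ orderOf a = v := by
  by_cases hi : a.i = 0
  · by_cases hc : a.c = 0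
    · left
      exact Aff.ext' hc hi
    · right; left
      exact orderOf_of_i_eq_zero hi hc
  · right; right
    exact orderOf_of_i_ne_zero huv ha hi

theorem comm_i {u v : ℕ} (g f : Aff u v) : (g * f * g⁻¹ * f⁻¹).i = 0 := by
  simp only [Aff.mul_i, Aff.inv_i]
  ring

theorem comm_c {u v : ℕ} (g f : Aff u v) :
    (g * f * g⁻¹ * f⁻¹).c = g.c + sh g.i f.c - sh f.i g.c - f.c := by
  simp only [Aff.mul_c, Aff.mul_i, Aff.inv_c, Aff.inv_i, sh_neg, sh_sh]
  have e1 : g.i + f.i + -g.i = f.i := by ring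
  have e2 : f.i + -f.i = 0 := by ring
  rw [e1, e2, sh_zero]
  abel

/-- the element `(c, 0)` of `F` -/
def tr {u v : ℕ} (c : ZMod v → ZMod u) (hc : c ∈ V u v) : F u v := ⟨⟨c, 0⟩, hc⟩

theorem eq_tr {u v : ℕ} (x : F u v) (hx : x.1.i = 0) : x = tr x.1.c x.2 :=
  Subtype.ext (Aff.ext' rfl hx)

/-- a subgroup of `F` containing a non-trivial translation and stable under conjugation by an
element outside the kernel contains all translations -/
theorem coreB {u v : ℕ} [Fact u.Prime] [Fact v.Prime] (T : Subgroup (F u v)) (x : F u v)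
    (hx : x ∈ T) (hxi : x.1.i = 0) (hxc : x.1.c ≠ 0) (y : F u v) (hyi : y.1.i ≠ 0)
    (hy : ∀ t ∈ T, y * t * y⁻¹ ∈ T) :
    ∀ (c : ZMod v → ZMod u) (hc : c ∈ V u v), tr c hc ∈ T := by
  let B : AddSubgroup (ZMod v → ZMod u) :=
    { carrier := {w | ∃ h : w ∈ V u v, tr w h ∈ T}
      add_mem' := by
        rintro a b ⟨ha, hTa⟩ ⟨hb, hTb⟩
        refine ⟨(V u v).add_mem ha hb, ?_⟩
        have : tr (a + b) ((V u v).add_mem ha hb) = tr a ha * tr b hb := by
          apply Subtype.ext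
          apply Aff.ext'
          · simp [tr, sh_zero]
          · simp [tr]
        rw [this]
        exact T.mul_mem hTa hTb
      zero_mem' := by
        refine ⟨(V u v).zero_mem, ?_⟩
        have : tr 0 (V u v).zero_mem = (1 : F u v) := rfl
        rw [this]
        exact T.one_mem
      neg_mem' := by
        rintro a ⟨ha, hTa⟩
        refine ⟨(V u v).neg_mem ha, ?_⟩
        have : tr (-a) ((V u v).neg_mem ha) = (tr a ha)⁻¹ := by
          apply Subtype.ext
          apply Aff.ext'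
          · simp [tr, sh_zero]
          · simp [tr]
        rw [this]
        exact T.inv_mem hTa }
  have hBV : B ≤ V u v := fun w hw => hw.1
  have hB0 : B ≠ ⊥ := by
    intro hbot
    have : x.1.c ∈ B := ⟨x.2, by rw [← eq_tr x hxi]; exact hx⟩
    rw [hbot, AddSubgroup.mem_bot] at this
    exact hxc this
  have hBsh : ∀ w ∈ B, sh y.1.i w ∈ B := by
    rintro w ⟨hw, hTw⟩
    refine ⟨V_sh u v _ hw, ?_⟩
    have : tr (sh y.1.i w) (V_sh u v _ hw) = y * tr w hw * y⁻¹ := by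
      apply Subtype.ext
      apply Aff.ext'
      · simp [tr, sh_neg, sh_sh, sh_zero]
      · simp [tr]
    rw [this]
    exact hy _ hTw
  have hBeq := irr B hBV hB0 y.1.i hyi hBsh
  intro c hc
  have : c ∈ B := by rw [hBeq]; exact hc
  exact this.2

/-- a subgroup of `F` containing a non-trivial translation and an element outside the kernel is
everything -/
theorem eq_top_of_mem {u v : ℕ} [Fact u.Prime] [Fact v.Prime] (T : Subgroup (F u v))
    (x : F u v) (hx : x ∈ T) (hxi : x.1.i = 0) (hxc : x.1.c ≠ 0) (y : F u v) (hy : y ∈ T)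
    (hyi : y.1.i ≠ 0) : T = ⊤ := by
  have hall := coreB T x hx hxi hxc y hyi
    (fun t ht => T.mul_mem (T.mul_mem hy ht) (T.inv_mem hy))
  rw [eq_top_iff]
  intro g _
  let n := (g.1.i / y.1.i).val
  have hn : g.1.i = n • y.1.i := eq_nsmul_of_ne_zero y.1.i g.1.i hyi
  have hz : (g * (y ^ n)⁻¹).1.i = 0 := by
    change (g.1 * ((y.1) ^ n)⁻¹).i = 0
    rw [Aff.mul_i, Aff.inv_i, Aff.pow_i, hn]
    simp
  have hzT : g * (y ^ n)⁻¹ ∈ T := by
    rw [eq_tr _ hz]
    exact hall _ _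
  have : g = g * (y ^ n)⁻¹ * y ^ n := by group
  rw [this]
  exact T.mul_mem hzT (T.pow_mem hy n)

theorem exists_comm {u v : ℕ} [Fact u.Prime] [Fact v.Prime] (huv : u ≠ v) (g : F u v)
    (hg : g ≠ 1) :
    ∃ f : F u v, (g * f * g⁻¹ * f⁻¹).1.i = 0 ∧ (g * f * g⁻¹ * f⁻¹).1.c ≠ 0 := by
  by_cases hgi : g.1.i = 0
  · have hgc : g.1.c ≠ 0 := by
      intro h
      apply hg
      exact Subtype.ext (Aff.ext' h hgi)
    refine ⟨⟨⟨0, 1⟩, (V u v).zero_mem⟩, comm_i _ _, ?_⟩
    change (g.1 * (⟨0, 1⟩ : Aff u v) * g.1⁻¹ * (⟨0, 1⟩ : Aff u v)⁻¹).c ≠ 0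
    rw [comm_c]
    simp only [sh_zero', add_zero, sub_zero]
    intro h
    apply hgc
    apply fixed_eq_zero huv _ (V_sum u v g.2) (1 : ZMod v) one_ne_zero
    exact (sub_eq_zero.mp h).symm
  · obtain ⟨c0, hc0, hc0ne⟩ := exists_V_ne_zero u v
    refine ⟨tr c0 hc0, comm_i _ _, ?_⟩
    change (g.1 * (⟨c0, 0⟩ : Aff u v) * g.1⁻¹ * (⟨c0, 0⟩ : Aff u v)⁻¹).c ≠ 0
    rw [comm_c]
    simp only [sh_zero, add_sub_cancel_left]
    intro h
    apply hc0ne
    apply fixed_eq_zero huv _ (V_sum u v hc0) g.1.i hgi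
    exact sub_eq_zero.mp h

/-- a non-trivial normal subgroup of `F` contains all translations -/
theorem normal_contains {u v : ℕ} [Fact u.Prime] [Fact v.Prime] (huv : u ≠ v)
    (T : Subgroup (F u v)) [hT : T.Normal] (g : F u v) (hgT : g ∈ T) (hg : g ≠ 1) :
    ∀ (c : ZMod v → ZMod u) (hc : c ∈ V u v), tr c hc ∈ T := by
  obtain ⟨f, hfi, hfc⟩ := exists_comm huv g hg
  have hxT : g * f * g⁻¹ * f⁻¹ ∈ T := by
    have : g * f * g⁻¹ * f⁻¹ = g * (f * g⁻¹ * f⁻¹) := by group
    rw [this]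
    exact T.mul_mem hgT (hT.conj_mem _ (T.inv_mem hgT) f)
  exact coreB T _ hxT hfi hfc ⟨⟨0, 1⟩, (V u v).zero_mem⟩ (by
    change (1 : ZMod v) ≠ 0
    exact one_ne_zero) (fun t ht => hT.conj_mem t ht _)


/-! ### The product level -/

instance instFiniteAff {u v : ℕ} [NeZero u] [NeZero v] : Finite (Aff u v) :=
  Finite.of_injective (fun a : Aff u v => (a.c, a.i)) (by
    intro a b h
    simp only [Prod.mk.injEq] at h
    exact Aff.ext' h.1 h.2)

theorem pow_eq_one_of_i_eq_zero {u v : ℕ} (a : Aff u v) (hi : a.i = 0) : a ^ u = 1 := by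
  apply Aff.ext'
  · rw [Aff.pow_c, hi]
    simp only [smul_zero, sh_zero, Finset.sum_const, Finset.card_range, Aff.one_c]
    funext k
    simp
  · rw [Aff.pow_i, hi]
    simp

theorem F_pow_eq_one_of_i_eq_zero {u v : ℕ} (x : F u v) (hi : x.1.i = 0) : x ^ u = 1 :=
  Subtype.ext (pow_eq_one_of_i_eq_zero x.1 hi)

theorem F_order_cases {u v : ℕ} [Fact u.Prime] [Fact v.Prime] (huv : u ≠ v) (x : F u v) :
    x = 1 ∨ orderOf x = u ∨ orderOf x = v := by
  rcases order_cases huv x.2 with h | h | h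
  · left; exact Subtype.ext h
  · right; left; rw [← Subgroup.orderOf_coe]; exact h
  · right; right; rw [← Subgroup.orderOf_coe]; exact h

theorem F_orderOf_of_i_eq_zero {u v : ℕ} [Fact u.Prime] (x : F u v) (hi : x.1.i = 0)
    (hc : x.1.c ≠ 0) : orderOf x = u := by
  rw [← Subgroup.orderOf_coe]; exact orderOf_of_i_eq_zero hi hc

theorem F_orderOf_of_i_ne_zero {u v : ℕ} [Fact u.Prime] [Fact v.Prime] (huv : u ≠ v) (x : F u v)
    (hi : x.1.i ≠ 0) : orderOf x = v := by
  rw [← Subgroup.orderOf_coe]; exact orderOf_of_i_ne_zero huv x.2 hi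

theorem pi_pow_eq_one_iff {ι : Type*} {M : ι → Type*} [∀ i, Monoid (M i)] (g : ∀ i, M i) (n : ℕ) :
    g ^ n = 1 ↔ ∀ i, (g i) ^ n = 1 := by
  constructor
  · intro h i
    have := congrFun h i
    simpa using this
  · intro h
    funext i
    simpa using h i

theorem nat_prod_dvd {ι : Type*} (t : Finset ι) (f : ι → ℕ) (n : ℕ)
    (hc : ∀ i ∈ t, ∀ j ∈ t, i ≠ j → Nat.Coprime (f i) (f j)) (hd : ∀ i ∈ t, f i ∣ n) :
    ∏ i ∈ t, f i ∣ n := by
  classical
  induction t using Finset.induction_on with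
  | empty => simp
  | insert a r har ih =>
    rw [Finset.prod_insert har]
    apply Nat.Coprime.mul_dvd_of_dvd_of_dvd
    · apply Nat.Coprime.prod_right
      intro i hi
      exact hc a (Finset.mem_insert_self a r) i (Finset.mem_insert_of_mem hi)
        (fun h => har (h ▸ hi))
    · exact hd a (Finset.mem_insert_self a r)
    · exact ih (fun i hi j hj hij => hc i (Finset.mem_insert_of_mem hi) j
        (Finset.mem_insert_of_mem hj) hij) (fun i hi => hd i (Finset.mem_insert_of_mem hi))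

theorem orderOf_pi_of_coprime {ι : Type*} [Fintype ι] {M : ι → Type*} [∀ i, Monoid (M i)]
    (g : ∀ i, M i) (hc : ∀ i j, i ≠ j → Nat.Coprime (orderOf (g i)) (orderOf (g j))) :
    orderOf g = ∏ i, orderOf (g i) := by
  apply Nat.dvd_antisymm
  · rw [orderOf_dvd_iff_pow_eq_one, pi_pow_eq_one_iff]
    intro i
    rw [← orderOf_dvd_iff_pow_eq_one]
    exact Finset.dvd_prod_of_mem _ (Finset.mem_univ i)
  · apply nat_prod_dvd
    · intro i _ j _ hij
      exact hc i j hij
    · intro i _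
      rw [orderOf_dvd_iff_pow_eq_one]
      exact (pi_pow_eq_one_iff g _).mp (pow_orderOf_eq_one g) i

/-- the product group -/
abbrev P {s : ℕ} (u v : Fin s → ℕ) : Type := ∀ j : Fin s, ↥(F (u j) (v j))

/-- the hypotheses on the two families of primes -/
structure Good {s : ℕ} (u v : Fin s → ℕ) : Prop where
  hu : ∀ j, (u j).Prime
  hv : ∀ j, (v j).Prime
  huv : ∀ j k, u j ≠ v k
  huu : ∀ j k, u j = u k → j = k
  hvv : ∀ j k, v j = v k → j = k

/-- the spectrum -/
def Om {s : ℕ} (u v : Fin s → ℕ) : Set ℕ :=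
  {m : ℕ | ∃ c : Fin s → ℕ, (∀ j, c j = 1 ∨ c j = u j ∨ c j = v j) ∧ m = ∏ j, c j}

theorem coprime_coord {s : ℕ} {u v : Fin s → ℕ} (hg : Good u v) (g : P u v) (i j : Fin s)
    (hij : i ≠ j) : Nat.Coprime (orderOf (g i)) (orderOf (g j)) := by
  have : ∀ j, Fact (u j).Prime := fun j => ⟨hg.hu j⟩
  have : ∀ j, Fact (v j).Prime := fun j => ⟨hg.hv j⟩
  rcases F_order_cases (hg.huv i i) (g i) with h | h | h
  · rw [h, orderOf_one]; exact Nat.coprime_one_left _
  · rcases F_order_cases (hg.huv j j) (g j) with h' | h' | h'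
    · rw [h', orderOf_one]; exact Nat.coprime_one_right _
    · rw [h, h']
      exact (Nat.coprime_primes (hg.hu i) (hg.hu j)).mpr (fun e => hij (hg.huu i j e))
    · rw [h, h']
      exact (Nat.coprime_primes (hg.hu i) (hg.hv j)).mpr (hg.huv i j)
  · rcases F_order_cases (hg.huv j j) (g j) with h' | h' | h'
    · rw [h', orderOf_one]; exact Nat.coprime_one_right _
    · rw [h, h']
      exact (Nat.coprime_primes (hg.hv i) (hg.hu j)).mpr (fun e => hg.huv j i e.symm)
    · rw [h, h']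
      exact (Nat.coprime_primes (hg.hv i) (hg.hv j)).mpr (fun e => hij (hg.hvv i j e))

theorem spectrum {s : ℕ} {u v : Fin s → ℕ} (hg : Good u v) :
    Set.range (orderOf : P u v → ℕ) = Om u v := by
  have : ∀ j, Fact (u j).Prime := fun j => ⟨hg.hu j⟩
  have : ∀ j, Fact (v j).Prime := fun j => ⟨hg.hv j⟩
  ext m
  constructor
  · rintro ⟨g, rfl⟩
    refine ⟨fun j => orderOf (g j), ?_, orderOf_pi_of_coprime g (coprime_coord hg g)⟩
    intro j
    rcases F_order_cases (hg.huv j j) (g j) with h | h | h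
    · left
      change orderOf (g j) = 1
      rw [h, orderOf_one]
    · right; left; exact h
    · right; right; exact h
  · rintro ⟨c, hc, rfl⟩
    have hex : ∀ j, ∃ t : F (u j) (v j), orderOf t = c j := by
      intro j
      rcases hc j with h | h | h
      · exact ⟨1, by rw [orderOf_one, h]⟩
      · obtain ⟨c0, hc0, hne⟩ := exists_V_ne_zero (u j) (v j)
        exact ⟨tr c0 hc0, by rw [h]; exact F_orderOf_of_i_eq_zero _ rfl hne⟩
      · refine ⟨⟨⟨0, 1⟩, (V _ _).zero_mem⟩, ?_⟩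
        rw [h]
        apply F_orderOf_of_i_ne_zero (hg.huv j j)
        change (1 : ZMod (v j)) ≠ 0
        exact one_ne_zero
    choose g hgo using hex
    refine ⟨g, ?_⟩
    change orderOf g = _
    rw [orderOf_pi_of_coprime g (coprime_coord hg g)]
    exact Finset.prod_congr rfl (fun j _ => hgo j)

/-- the isomorphism invariant separating the groups -/
def Q (G : Type*) [Group G] (q : ℕ) : Prop :=
  ∀ a b : G, a ^ q = 1 → b ^ q = 1 → (a * b) ^ q = 1

theorem Q_of_equiv {G G' : Type*} [Group G] [Group G'] (e : G ≃* G') (q : ℕ) (h : Q G q) :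
    Q G' q := by
  intro a b ha hb
  have h1 := h (e.symm a) (e.symm b) (by rw [← map_pow, ha, map_one])
    (by rw [← map_pow, hb, map_one])
  rw [← map_mul, ← map_pow] at h1
  have := congrArg e h1
  simpa using this

theorem pow_u_eq_one_iff {s : ℕ} {u v : Fin s → ℕ} (hg : Good u v) (a : P u v) (j : Fin s) :
    a ^ (u j) = 1 ↔ (∀ k, k ≠ j → a k = 1) ∧ (a j).1.i = 0 := by
  have : ∀ j, Fact (u j).Prime := fun j => ⟨hg.hu j⟩
  have : ∀ j, Fact (v j).Prime := fun j => ⟨hg.hv j⟩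
  rw [pi_pow_eq_one_iff]
  constructor
  · intro h
    constructor
    · intro k hk
      rcases F_order_cases (hg.huv k k) (a k) with h1 | h1 | h1
      · exact h1
      · exfalso
        have := orderOf_dvd_of_pow_eq_one (h k)
        rw [h1] at this
        exact hk (hg.huu k j ((Nat.prime_dvd_prime_iff_eq (hg.hu k) (hg.hu j)).mp this))
      · exfalso
        have := orderOf_dvd_of_pow_eq_one (h k)
        rw [h1] at this
        exact hg.huv j k ((Nat.prime_dvd_prime_iff_eq (hg.hv k) (hg.hu j)).mp this).symm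
    · by_contra hi
      have h1 := F_orderOf_of_i_ne_zero (hg.huv j j) (a j) hi
      have := orderOf_dvd_of_pow_eq_one (h j)
      rw [h1] at this
      exact hg.huv j j ((Nat.prime_dvd_prime_iff_eq (hg.hv j) (hg.hu j)).mp this).symm
  · rintro ⟨h1, h2⟩ k
    by_cases hk : k = j
    · subst hk
      exact F_pow_eq_one_of_i_eq_zero _ h2
    · rw [h1 k hk, one_pow]

theorem Q_u {s : ℕ} {u v : Fin s → ℕ} (hg : Good u v) (j : Fin s) : Q (P u v) (u j) := by
  intro a b ha hb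
  rw [pow_u_eq_one_iff hg] at ha hb ⊢
  refine ⟨fun k hk => ?_, ?_⟩
  · rw [Pi.mul_apply, ha.1 k hk, hb.1 k hk, one_mul]
  · change ((a j).1 * (b j).1).i = 0
    rw [Aff.mul_i, ha.2, hb.2, add_zero]

theorem not_Q_v {s : ℕ} {u v : Fin s → ℕ} (hg : Good u v) (j : Fin s) : ¬ Q (P u v) (v j) := by
  have : ∀ j, Fact (u j).Prime := fun j => ⟨hg.hu j⟩
  have : ∀ j, Fact (v j).Prime := fun j => ⟨hg.hv j⟩
  intro hQ
  obtain ⟨c0, hc0, hne⟩ := exists_V_ne_zero (u j) (v j)
  let a0 : F (u j) (v j) := ⟨⟨0, 1⟩, (V _ _).zero_mem⟩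
  let b0 : F (u j) (v j) := ⟨⟨c0, -1⟩, hc0⟩
  have ha0 : a0 ^ (v j) = 1 := by
    have h := F_orderOf_of_i_ne_zero (hg.huv j j) a0 (by
      change (1 : ZMod (v j)) ≠ 0
      exact one_ne_zero)
    have h' := pow_orderOf_eq_one a0
    rwa [h] at h'
  have hb0 : b0 ^ (v j) = 1 := by
    have h := F_orderOf_of_i_ne_zero (hg.huv j j) b0 (by
      change (-1 : ZMod (v j)) ≠ 0
      exact neg_ne_zero.mpr one_ne_zero)
    have h' := pow_orderOf_eq_one b0
    rwa [h] at h'
  have h := hQ (Pi.mulSingle j a0) (Pi.mulSingle j b0)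
    (by rw [← Pi.mulSingle_pow, ha0, Pi.mulSingle_one])
    (by rw [← Pi.mulSingle_pow, hb0, Pi.mulSingle_one])
  rw [← Pi.mulSingle_mul, ← Pi.mulSingle_pow] at h
  have h2 : (a0 * b0) ^ (v j) = 1 := by
    have := congrFun h j
    simpa using this
  have h3 : orderOf (a0 * b0) = u j := by
    apply F_orderOf_of_i_eq_zero
    · change (1 : ZMod (v j)) + -1 = 0
      ring
    · change (0 : ZMod (v j) → ZMod (u j)) + sh 1 c0 ≠ 0
      rw [zero_add]
      intro h0
      apply hne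
      apply sh_injective 1
      rw [h0, sh_zero']
  have := orderOf_dvd_of_pow_eq_one h2
  rw [h3] at this
  exact hg.huv j j ((Nat.prime_dvd_prime_iff_eq (hg.hu j) (hg.hv j)).mp this)

/-- the exponent used to isolate coordinate `j` -/
def ex {s : ℕ} (u v : Fin s → ℕ) (j : Fin s) : ℕ := ∏ k ∈ Finset.univ.erase j, (u k * v k)

theorem ex_dvd {s : ℕ} (u v : Fin s → ℕ) (j k : Fin s) (hk : k ≠ j) : u k * v k ∣ ex u v j :=
  Finset.dvd_prod_of_mem _ (Finset.mem_erase.mpr ⟨hk, Finset.mem_univ k⟩)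

theorem not_dvd_ex {s : ℕ} {u v : Fin s → ℕ} (hg : Good u v) (j : Fin s) (l : ℕ) (hl : l.Prime)
    (h1 : ∀ k, k ≠ j → l ≠ u k) (h2 : ∀ k, k ≠ j → l ≠ v k) : ¬ l ∣ ex u v j := by
  intro h
  obtain ⟨k, hk, hd⟩ := (Prime.dvd_finsetProd_iff hl.prime _).mp h
  have hkj := (Finset.mem_erase.mp hk).1
  rcases (Nat.Prime.dvd_mul hl).mp hd with h' | h'
  · exact h1 k hkj ((Nat.prime_dvd_prime_iff_eq hl (hg.hu k)).mp h')
  · exact h2 k hkj ((Nat.prime_dvd_prime_iff_eq hl (hg.hv k)).mp h')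

theorem coord_pow {s : ℕ} {u v : Fin s → ℕ} (hg : Good u v) (x : P u v) (k : Fin s) :
    (x k) ^ (u k * v k) = 1 := by
  have : ∀ j, Fact (u j).Prime := fun j => ⟨hg.hu j⟩
  have : ∀ j, Fact (v j).Prime := fun j => ⟨hg.hv j⟩
  rw [← orderOf_dvd_iff_pow_eq_one]
  rcases F_order_cases (hg.huv k k) (x k) with h | h | h
  · rw [h, orderOf_one]; exact one_dvd _
  · rw [h]; exact dvd_mul_right _ _
  · rw [h]; exact dvd_mul_left _ _

theorem isolate {s : ℕ} {u v : Fin s → ℕ} (hg : Good u v) (x : P u v) (j : Fin s) (m : ℕ) :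
    x ^ (m * ex u v j) = Pi.mulSingle j ((x j) ^ (m * ex u v j)) := by
  funext k
  by_cases hk : k = j
  · subst hk
    rw [Pi.mulSingle_eq_same, Pi.pow_apply]
  · rw [Pi.mulSingle_eq_of_ne hk, Pi.pow_apply]
    obtain ⟨d, hd⟩ := ex_dvd u v j k hk
    rw [hd, mul_comm m, mul_assoc, pow_mul, coord_pow hg, one_pow]

theorem mem_Om_u {s : ℕ} (u v : Fin s → ℕ) (j : Fin s) : u j ∈ Om u v := by
  refine ⟨fun k => if k = j then u j else 1, ?_, ?_⟩
  · intro k
    by_cases hk : k = j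
    · subst hk; right; left; simp
    · left; simp [hk]
  · rw [Fintype.prod_eq_single j (fun k hk => by simp [hk])]
    simp

theorem mem_Om_v {s : ℕ} (u v : Fin s → ℕ) (j : Fin s) : v j ∈ Om u v := by
  refine ⟨fun k => if k = j then v j else 1, ?_, ?_⟩
  · intro k
    by_cases hk : k = j
    · subst hk; right; right; simp
    · left; simp [hk]
  · rw [Fintype.prod_eq_single j (fun k hk => by simp [hk])]
    simp

theorem crit_u0 {s : ℕ} {u v : Fin s → ℕ} (hg : Good u v) (H : Subgroup (P u v))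
    (N : Subgroup ↥H) [N.Normal]
    (hΩ : Set.range (orderOf : (↥H ⧸ N) → ℕ) = Om u v) (j : Fin s) :
    ∃ t : F (u j) (v j), t.1.i = 0 ∧
      ∃ h : (Pi.mulSingle j t : P u v) ∈ H, (⟨_, h⟩ : ↥H) ∉ N := by
  have hmem : u j ∈ Set.range (orderOf : (↥H ⧸ N) → ℕ) := by
    rw [hΩ]; exact mem_Om_u u v j
  obtain ⟨xb, hxb⟩ := hmem
  obtain ⟨x, rfl⟩ := QuotientGroup.mk_surjective xb
  have hiso := isolate hg x.1 j (v j)
  have hH : Pi.mulSingle j ((x.1 j) ^ (v j * ex u v j)) ∈ H := by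
    rw [← hiso]; exact H.pow_mem x.2 _
  refine ⟨(x.1 j) ^ (v j * ex u v j), ?_, hH, ?_⟩
  · change (((x.1 j).1) ^ (v j * ex u v j)).i = 0
    rw [Aff.pow_i]
    simp [mul_smul]
  · intro hN
    have hx : (⟨_, hH⟩ : ↥H) = x ^ (v j * ex u v j) := Subtype.ext hiso.symm
    rw [hx] at hN
    have h1 : ((x ^ (v j * ex u v j) : ↥H) : ↥H ⧸ N) = 1 := (QuotientGroup.eq_one_iff _).mpr hN
    rw [QuotientGroup.mk_pow] at h1
    have h2 := orderOf_dvd_of_pow_eq_one h1
    rw [hxb] at h2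
    rcases (Nat.Prime.dvd_mul (hg.hu j)).mp h2 with h3 | h3
    · exact hg.huv j j ((Nat.prime_dvd_prime_iff_eq (hg.hu j) (hg.hv j)).mp h3)
    · exact not_dvd_ex hg j (u j) (hg.hu j) (fun k hk h => hk (hg.huu j k h).symm)
        (fun k _ h => hg.huv j k h) h3

theorem crit_u {s : ℕ} {u v : Fin s → ℕ} (hg : Good u v) (H : Subgroup (P u v))
    (N : Subgroup ↥H) [N.Normal]
    (hΩ : Set.range (orderOf : (↥H ⧸ N) → ℕ) = Om u v) (j : Fin s) :
    ∃ t : F (u j) (v j), t.1.i = 0 ∧ t.1.c ≠ 0 ∧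
      ∃ h : (Pi.mulSingle j t : P u v) ∈ H, (⟨_, h⟩ : ↥H) ∉ N := by
  obtain ⟨t, hti, htH, htN⟩ := crit_u0 hg H N hΩ j
  refine ⟨t, hti, ?_, htH, htN⟩
  intro hc
  apply htN
  have ht1 : t = 1 := Subtype.ext (Aff.ext' hc hti)
  have : (⟨_, htH⟩ : ↥H) = 1 := by
    apply Subtype.ext
    change (Pi.mulSingle j t : P u v) = 1
    rw [ht1, Pi.mulSingle_one]
  rw [this]; exact N.one_mem

theorem crit_v {s : ℕ} {u v : Fin s → ℕ} (hg : Good u v) (H : Subgroup (P u v))
    (N : Subgroup ↥H) [N.Normal]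
    (hΩ : Set.range (orderOf : (↥H ⧸ N) → ℕ) = Om u v) (j : Fin s) :
    ∃ t : F (u j) (v j), t.1.i ≠ 0 ∧ (Pi.mulSingle j t : P u v) ∈ H := by
  have hmem : v j ∈ Set.range (orderOf : (↥H ⧸ N) → ℕ) := by
    rw [hΩ]; exact mem_Om_v u v j
  obtain ⟨xb, hxb⟩ := hmem
  obtain ⟨x, rfl⟩ := QuotientGroup.mk_surjective xb
  have hiso := isolate hg x.1 j (u j)
  refine ⟨(x.1 j) ^ (u j * ex u v j), ?_, ?_⟩
  · intro hi
    have ht := F_pow_eq_one_of_i_eq_zero _ hi
    have h0 : x.1 ^ (u j * ex u v j * u j) = 1 := by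
      rw [pow_mul, hiso, ← Pi.mulSingle_pow, ht, Pi.mulSingle_one]
    have h1 : x ^ (u j * ex u v j * u j) = 1 := Subtype.ext (by simpa using h0)
    have h2 : (x : ↥H ⧸ N) ^ (u j * ex u v j * u j) = 1 := by
      rw [← QuotientGroup.mk_pow, h1]; rfl
    have h3 := orderOf_dvd_of_pow_eq_one h2
    rw [hxb] at h3
    rcases (Nat.Prime.dvd_mul (hg.hv j)).mp h3 with h4 | h4
    · rcases (Nat.Prime.dvd_mul (hg.hv j)).mp h4 with h5 | h5
      · exact hg.huv j j ((Nat.prime_dvd_prime_iff_eq (hg.hv j) (hg.hu j)).mp h5).symm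
      · exact not_dvd_ex hg j (v j) (hg.hv j) (fun k _ h => hg.huv k j h.symm)
          (fun k hk h => hk (hg.hvv j k h).symm) h5
    · exact hg.huv j j ((Nat.prime_dvd_prime_iff_eq (hg.hv j) (hg.hu j)).mp h4).symm
  · rw [← hiso]; exact H.pow_mem x.2 _

theorem crit {s : ℕ} {u v : Fin s → ℕ} (hg : Good u v) (H : Subgroup (P u v))
    (N : Subgroup ↥H) [hN : N.Normal]
    (hΩ : Set.range (orderOf : (↥H ⧸ N) → ℕ) = Om u v) : H = ⊤ ∧ N = ⊥ := by
  have : ∀ j, Fact (u j).Prime := fun j => ⟨hg.hu j⟩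
  have : ∀ j, Fact (v j).Prime := fun j => ⟨hg.hv j⟩
  have hsingle : ∀ j (f : F (u j) (v j)), (Pi.mulSingle j f : P u v) ∈ H := by
    intro j
    obtain ⟨t, hti, htc, htH, -⟩ := crit_u hg H N hΩ j
    obtain ⟨t', ht'i, ht'H⟩ := crit_v hg H N hΩ j
    have htop := eq_top_of_mem (H.comap (MonoidHom.mulSingle (fun j => ↥(F (u j) (v j))) j)) t htH hti htc t' ht'H ht'i
    intro f
    have hf : f ∈ H.comap (MonoidHom.mulSingle (fun j => ↥(F (u j) (v j))) j) := by rw [htop]; trivial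
    exact hf
  have hH : H = ⊤ := by
    rw [eq_top_iff, ← Subgroup.pi_top (Set.univ), Subgroup.pi_le_iff]
    intro j
    rintro _ ⟨f, -, rfl⟩
    exact hsingle j f
  refine ⟨hH, ?_⟩
  rw [Subgroup.eq_bot_iff_forall]
  intro n hn
  by_contra hne
  have hne' : n.1 ≠ 1 := fun h => hne (Subtype.ext h)
  obtain ⟨k, hk⟩ : ∃ k, n.1 k ≠ 1 := by
    by_contra hall
    push Not at hall
    exact hne' (funext hall)
  let N' : Subgroup (P u v) := N.map H.subtype
  have hN' : N'.Normal := hN.map H.subtype (by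
    intro g
    exact ⟨⟨g, by rw [hH]; trivial⟩, rfl⟩)
  let T : Subgroup (F (u k) (v k)) := N'.comap (MonoidHom.mulSingle (fun j => ↥(F (u j) (v j))) k)
  have hT : T.Normal := hN'.comap _
  obtain ⟨f, hfi, hfc⟩ := exists_comm (hg.huv k k) (n.1 k) hk
  have hzT : n.1 k * f * (n.1 k)⁻¹ * f⁻¹ ∈ T := by
    change Pi.mulSingle k (n.1 k * f * (n.1 k)⁻¹ * f⁻¹) ∈ N'
    have e : Pi.mulSingle k (n.1 k * f * (n.1 k)⁻¹ * f⁻¹)
        = n.1 * (Pi.mulSingle k f * n.1⁻¹ * (Pi.mulSingle k f)⁻¹) := by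
      funext k'
      by_cases hk' : k' = k
      · subst hk'
        simp [mul_assoc]
      · simp [Pi.mulSingle_eq_of_ne hk']
    rw [e]
    have hn' : n.1 ∈ N' := ⟨n, hn, rfl⟩
    exact N'.mul_mem hn' (hN'.conj_mem _ (N'.inv_mem hn') _)
  have hall := coreB T _ hzT hfi hfc ⟨⟨0, 1⟩, (V _ _).zero_mem⟩ (by
    change (1 : ZMod (v k)) ≠ 0
    exact one_ne_zero) (fun t ht => hT.conj_mem t ht _)
  obtain ⟨t, hti, -, htH, htN⟩ := crit_u hg H N hΩ k
  apply htN
  have h1 : t ∈ T := by rw [eq_tr t hti]; exact hall _ _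
  obtain ⟨n', hn', hn'e⟩ := h1
  have : n' = ⟨_, htH⟩ := Subtype.ext hn'e
  rw [← this]; exact hn'

/-- the `a`-th choice of which prime of each pair is the kernel prime -/
def eps (s : ℕ) (a : Fin (2 ^ s)) : Fin s → Fin 2 := finFunctionFinEquiv.symm a

/-- kernel primes -/
def Uf {s : ℕ} (p : Fin s → Fin 2 → ℕ) (a : Fin (2 ^ s)) (j : Fin s) : ℕ := p j (eps s a j)

/-- complement primes -/
def Wf {s : ℕ} (p : Fin s → Fin 2 → ℕ) (a : Fin (2 ^ s)) (j : Fin s) : ℕ := p j (eps s a j + 1)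

theorem fin2_or (x : Fin 2 → ℕ) (c : ℕ) (e : Fin 2) :
    (c = 1 ∨ c = x 0 ∨ c = x 1) ↔ (c = 1 ∨ c = x e ∨ c = x (e + 1)) := by
  fin_cases e
  · simp
  · simp only [Fin.mk_one, Fin.isValue]
    have : (1 : Fin 2) + 1 = 0 := rfl
    rw [this]
    tauto

theorem fin2_ne (x y : Fin 2) (h : x ≠ y) : x = y + 1 := by
  revert x y; decide

theorem fin2_ne_succ (x : Fin 2) : x ≠ x + 1 := by
  revert x; decide

theorem good_Uf_Wf {s : ℕ} (p : Fin s → Fin 2 → ℕ)
    (hp : ∀ j i, (p j i).Prime) (hinj : ∀ j i j' i', p j i = p j' i' → j = j' ∧ i = i')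
    (a : Fin (2 ^ s)) : Good (Uf p a) (Wf p a) where
  hu := fun j => hp _ _
  hv := fun j => hp _ _
  huv := by
    intro j k h
    obtain ⟨h1, h2⟩ := hinj _ _ _ _ h
    subst h1
    exact fin2_ne_succ _ h2
  huu := fun j k h => (hinj _ _ _ _ h).1
  hvv := fun j k h => (hinj _ _ _ _ h).1

theorem Om_eq {s : ℕ} (p : Fin s → Fin 2 → ℕ) (a : Fin (2 ^ s)) :
    {m : ℕ | ∃ c : Fin s → ℕ, (∀ j, c j = 1 ∨ c j = p j 0 ∨ c j = p j 1) ∧ m = ∏ j, c j}
      = Om (Uf p a) (Wf p a) := by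
  ext m
  constructor
  · rintro ⟨c, hc, rfl⟩
    exact ⟨c, fun j => (fin2_or (p j) (c j) (eps s a j)).mp (hc j), rfl⟩
  · rintro ⟨c, hc, rfl⟩
    exact ⟨c, fun j => (fin2_or (p j) (c j) (eps s a j)).mpr (hc j), rfl⟩

theorem finite_P {s : ℕ} {u v : Fin s → ℕ} (hg : Good u v) : Finite (P u v) := by
  have : ∀ j, NeZero (u j) := fun j => ⟨(hg.hu j).ne_zero⟩
  have : ∀ j, NeZero (v j) := fun j => ⟨(hg.hv j).ne_zero⟩
  infer_instance

/-- A finite group is critical with respect to a set Ω of natural numbers when its set of element orders is Ω while no proper section H/N (H a subgroup, N normal in H, (H, N) ≠ (whole group, 1)) has Ω as its set of element orders. Let s ≥ 1 and let p(j,0), p(j,1) (j < s) be 2s pairwise distinct primes, and let Ω be the set of all products c(0)·…·c(s−1) with each c(j) ∈ {1, p(j,0), p(j,1)}. Then there are 2^s pairwise non-isomorphic finite groups critical with respect to Ω. -/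
theorem result (s : ℕ) (hs : 1 ≤ s) (p : Fin s → Fin 2 → ℕ)
    (hp : ∀ j i, (p j i).Prime) (hinj : ∀ j i j' i', p j i = p j' i' → j = j' ∧ i = i') :
    ∃ (G : Fin (2 ^ s) → Type) (_ : ∀ a, Group (G a)) (_ : ∀ a, Fintype (G a)),
      (∀ a b, a ≠ b → ¬ Nonempty (G a ≃* G b)) ∧
      ∀ a, Set.range (orderOf : (G a) → ℕ) = {m : ℕ | ∃ c : Fin s → ℕ, (∀ j, c j = 1 ∨ c j = p j 0 ∨ c j = p j 1) ∧ m = ∏ j, c j} ∧
      ∀ (H : Subgroup (G a)) (N : Subgroup ↥H) [N.Normal], (H ≠ ⊤ ∨ N ≠ ⊥) → Set.range (orderOf : (↥H ⧸ N) → ℕ) ≠ {m : ℕ | ∃ c : Fin s → ℕ, (∀ j, c j = 1 ∨ c j = p j 0 ∨ c j = p j 1) ∧ m = ∏ j, c j} := by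
  have hgood := good_Uf_Wf p hp hinj
  refine ⟨fun a => P (Uf p a) (Wf p a), fun a => inferInstance,
    fun a => @Fintype.ofFinite _ (finite_P (hgood a)), ?_, ?_⟩
  · rintro a b hab ⟨e⟩
    have hne : eps s a ≠ eps s b := fun h => hab (finFunctionFinEquiv.symm.injective h)
    obtain ⟨j, hj⟩ : ∃ j, eps s a j ≠ eps s b j := by
      by_contra hall
      push Not at hall
      exact hne (funext hall)
    have h1 : Q (P (Uf p a) (Wf p a)) (Uf p a j) := Q_u (hgood a) j
    have h2 : ¬ Q (P (Uf p b) (Wf p b)) (Wf p b j) := not_Q_v (hgood b) j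
    have h3 : Uf p a j = Wf p b j := by
      change p j (eps s a j) = p j (eps s b j + 1)
      rw [fin2_ne _ _ hj]
    rw [← h3] at h2
    exact h2 (Q_of_equiv e _ h1)
  · intro a
    rw [Om_eq p a]
    refine ⟨spectrum (hgood a), ?_⟩
    intro H N _ hHN hΩ
    obtain ⟨h1, h2⟩ := crit (hgood a) H N hΩ
    rcases hHN with h | h
    · exact h h1
    · exact h h2

end Cfsg.Agent.S3599
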