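import Cfsg.Statements.S3627
import Cfsg.Agent.S3599
import Cfsg.Agent.Lib.Helper60.J1Spec

set_option autoImplicit false
open Cfsg

namespace Cfsg.Agent.S3627

open Cfsg.Agent.S3599 Cfsg.Agent.Lib.Helper60.J1

/-- tuples in `(F u v)^k` all of whose shift components are equal -/
def Dk (k u v : ℕ) : Subgroup (Fin k → ↥(F u v)) where
  carrier := {x | ∀ j j', (x j).1.i = (x j').1.i}
  mul_mem' := by
    intro a b ha hb j j'
    show ((a j).1 * (b j).1).i = ((a j').1 * (b j').1).i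
    rw [Aff.mul_i, Aff.mul_i, ha j j', hb j j']
  one_mem' := fun j j' => rfl
  inv_mem' := by
    intro a ha j j'
    show ((a j).1⁻¹).i = ((a j').1⁻¹).i
    rw [Aff.inv_i, Aff.inv_i, ha j j']

theorem Dk_pow_eq_one {k u v : ℕ} (x : Dk k u v) (n : ℕ) (h : ∀ j, (x.1 j) ^ n = 1) : x ^ n = 1 := by
  apply Subtype.ext
  rw [Subgroup.coe_pow, Subgroup.coe_one, pi_pow_eq_one_iff]
  exact h

theorem Dk_order_cases {k u v : ℕ} [Fact u.Prime] [Fact v.Prime] (huv : u ≠ v) (x : Dk k u v) :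
    orderOf x = 1 ∨ orderOf x = u ∨ orderOf x = v := by
  by_cases h : ∃ j, (x.1 j).1.i ≠ 0
  · obtain ⟨j0, hj0⟩ := h
    right; right
    apply orderOf_eq_prime
    · apply Dk_pow_eq_one
      intro j
      have hj : (x.1 j).1.i ≠ 0 := by rw [x.2 j j0]; exact hj0
      have h5 := pow_orderOf_eq_one (x.1 j)
      rwa [F_orderOf_of_i_ne_zero huv (x.1 j) hj] at h5
    · intro h1
      apply hj0
      rw [h1]; rfl
  · push Not at h
    have hxu : x ^ u = 1 := Dk_pow_eq_one x u (fun j => F_pow_eq_one_of_i_eq_zero (x.1 j) (h j))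
    have hd := orderOf_dvd_of_pow_eq_one hxu
    rcases (Nat.dvd_prime (Fact.out : u.Prime)).1 hd with h1 | h1
    · left; exact h1
    · right; left; exact h1

theorem Dk_exists_u (k u v : ℕ) [Fact u.Prime] [Fact v.Prime] :
    ∃ x : Dk (k + 1) u v, orderOf x = u := by
  obtain ⟨c, hc, hc0⟩ := exists_V_ne_zero u v
  refine ⟨⟨fun _ => tr c hc, fun j j' => rfl⟩, ?_⟩
  apply orderOf_eq_prime
  · apply Dk_pow_eq_one
    intro j
    exact F_pow_eq_one_of_i_eq_zero _ rfl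
  · intro h1
    apply hc0
    have h2 := congrArg (fun y : Dk (k + 1) u v => (y.1 0).1.c) h1
    exact h2

theorem Dk_exists_v (k u v : ℕ) [Fact u.Prime] [Fact v.Prime] (huv : u ≠ v) :
    ∃ x : Dk (k + 1) u v, orderOf x = v := by
  have hv1 : Fact (1 < v) := ⟨(Fact.out : v.Prime).one_lt⟩
  let e : F u v := ⟨⟨0, 1⟩, (V u v).zero_mem⟩
  have hi : e.1.i ≠ 0 := one_ne_zero
  refine ⟨⟨fun _ => e, fun j j' => rfl⟩, ?_⟩
  apply orderOf_eq_prime
  · apply Dk_pow_eq_one
    intro j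
    show e ^ v = 1
    have h5 := pow_orderOf_eq_one e
    rwa [F_orderOf_of_i_ne_zero huv e hi] at h5
  · intro h1
    apply hi
    have h2 := congrArg (fun y : Dk (k + 1) u v => (y.1 0).1.i) h1
    exact h2

theorem Dk_range (k u v : ℕ) [Fact u.Prime] [Fact v.Prime] (huv : u ≠ v) :
    Set.range (orderOf : Dk (k + 1) u v → ℕ) = ↑({1, u, v} : Finset ℕ) := by
  ext n
  simp only [Set.mem_range, Finset.coe_insert, Finset.coe_singleton, Set.mem_insert_iff,
    Set.mem_singleton_iff]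
  constructor
  · rintro ⟨x, rfl⟩
    exact Dk_order_cases huv x
  · rintro (rfl | rfl | rfl)
    · exact ⟨1, orderOf_one⟩
    · exact Dk_exists_u k n v
    · exact Dk_exists_v k u n huv

instance finite_Dk (k u v : ℕ) [Fact u.Prime] [Fact v.Prime] : Finite (Dk k u v) := by
  have : NeZero u := ⟨(Fact.out : u.Prime).ne_zero⟩
  have : NeZero v := ⟨(Fact.out : v.Prime).ne_zero⟩
  infer_instance

theorem Dk_card (k u v : ℕ) [Fact u.Prime] [Fact v.Prime] : 2 ^ k ≤ Nat.card (Dk k u v) := by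
  obtain ⟨c, hc, hc0⟩ := exists_V_ne_zero u v
  have hne : tr c hc ≠ (1 : F u v) := by
    intro h
    apply hc0
    have h2 := congrArg (fun y : F u v => y.1.c) h
    exact h2
  let f : (Fin k → Bool) → Dk k u v := fun b =>
    ⟨fun j => if b j then tr c hc else 1, by
      intro j j'
      show (((if b j then tr c hc else 1 : F u v)).1).i = (((if b j' then tr c hc else 1 : F u v)).1).i
      have h0 : ∀ t : Bool, (((if t then tr c hc else 1 : F u v)).1).i = 0 := by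
        intro t; cases t <;> rfl
      rw [h0, h0]⟩
  have hf : Function.Injective f := by
    intro b b' h
    funext j
    have h2 := congrFun (congrArg Subtype.val h) j
    simp only [f] at h2
    cases hb : b j <;> cases hb' : b' j <;> simp_all
  have h3 := Nat.card_le_card_of_injective f hf
  simpa using h3

theorem range_orderOf_prod {G H : Type*} [Group G] [Group H] (S T : Finset ℕ)
    (hG : Set.range (orderOf : G → ℕ) = ↑S) (hH : Set.range (orderOf : H → ℕ) = ↑T) :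
    Set.range (orderOf : G × H → ℕ) = ↑(Finset.image₂ Nat.lcm S T) := by
  ext n
  simp only [Set.mem_range, Finset.coe_image₂, Set.mem_image2, Finset.mem_coe]
  constructor
  · rintro ⟨⟨a, b⟩, rfl⟩
    have ha : orderOf a ∈ (↑S : Set ℕ) := hG ▸ Set.mem_range_self a
    have hb : orderOf b ∈ (↑T : Set ℕ) := hH ▸ Set.mem_range_self b
    exact ⟨orderOf a, ha, orderOf b, hb, (Prod.orderOf (a, b)).symm⟩
  · rintro ⟨x, hx, y, hy, rfl⟩
    have hx' : x ∈ Set.range (orderOf : G → ℕ) := by rw [hG]; exact hx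
    have hy' : y ∈ Set.range (orderOf : H → ℕ) := by rw [hH]; exact hy
    obtain ⟨a, rfl⟩ := hx'
    obtain ⟨b, rfl⟩ := hy'
    exact ⟨(a, b), Prod.orderOf (a, b)⟩

theorem spec_J1' : Set.range (orderOf : ↥Cfsg.Spor.J1 → ℕ) =
    ↑({1, 2, 3, 5, 6, 7, 10, 11, 15, 19} : Finset ℕ) := by
  rw [spec_J1]
  simp

instance fact5 : Fact (Nat.Prime 5) := ⟨Nat.prime_five⟩
instance fact7 : Fact (Nat.Prime 7) := ⟨by norm_num⟩
instance fact11 : Fact (Nat.Prime 11) := ⟨by norm_num⟩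
instance fact19 : Fact (Nat.Prime 19) := ⟨by norm_num⟩

/-- the groups with the spectrum of `J1⁴` -/
abbrev HN (N : ℕ) : Type :=
  ↥(Dk (N + 1) 2 3) × ↥(Dk 1 2 5) × ↥(Dk 1 2 7) × ↥(Dk 1 2 11) × ↥(Dk 1 2 19)

instance finite_HN (N : ℕ) : Finite (HN N) := by
  unfold HN; infer_instance

theorem card_HN (N : ℕ) : N < Nat.card (HN N) := by
  have h1 : N < 2 ^ (N + 1) :=
    lt_trans N.lt_two_pow_self (Nat.pow_lt_pow_right (by norm_num) (Nat.lt_succ_self N))
  have h2 := Dk_card (N + 1) 2 3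
  let f : ↥(Dk (N + 1) 2 3) → HN N := fun x => (x, 1, 1, 1, 1)
  have hf : Function.Injective f := fun a b h => (Prod.mk.inj h).1
  have h3 := Nat.card_le_card_of_injective f hf
  omega

theorem range_HN (N : ℕ) : Set.range (orderOf : HN N → ℕ) =
    ↑(Finset.image₂ Nat.lcm ({1, 2, 3} : Finset ℕ) (Finset.image₂ Nat.lcm ({1, 2, 5} : Finset ℕ)
      (Finset.image₂ Nat.lcm ({1, 2, 7} : Finset ℕ) (Finset.image₂ Nat.lcm ({1, 2, 11} : Finset ℕ)
        ({1, 2, 19} : Finset ℕ))))) :=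
  range_orderOf_prod _ _ (Dk_range N 2 3 (by norm_num))
    (range_orderOf_prod _ _ (Dk_range 0 2 5 (by norm_num))
      (range_orderOf_prod _ _ (Dk_range 0 2 7 (by norm_num))
        (range_orderOf_prod _ _ (Dk_range 0 2 11 (by norm_num)) (Dk_range 0 2 19 (by norm_num)))))

theorem range_J4 : Set.range (orderOf : ↥Cfsg.Spor.J1 × ↥Cfsg.Spor.J1 × ↥Cfsg.Spor.J1 × ↥Cfsg.Spor.J1 → ℕ) =
    ↑(Finset.image₂ Nat.lcm ({1, 2, 3, 5, 6, 7, 10, 11, 15, 19} : Finset ℕ)
      (Finset.image₂ Nat.lcm ({1, 2, 3, 5, 6, 7, 10, 11, 15, 19} : Finset ℕ)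
        (Finset.image₂ Nat.lcm ({1, 2, 3, 5, 6, 7, 10, 11, 15, 19} : Finset ℕ)
          ({1, 2, 3, 5, 6, 7, 10, 11, 15, 19} : Finset ℕ)))) :=
  range_orderOf_prod _ _ spec_J1'
    (range_orderOf_prod _ _ spec_J1' (range_orderOf_prod _ _ spec_J1' spec_J1'))

theorem finset_eq : Finset.image₂ Nat.lcm ({1, 2, 3} : Finset ℕ) (Finset.image₂ Nat.lcm ({1, 2, 5} : Finset ℕ)
      (Finset.image₂ Nat.lcm ({1, 2, 7} : Finset ℕ) (Finset.image₂ Nat.lcm ({1, 2, 11} : Finset ℕ)
        ({1, 2, 19} : Finset ℕ)))) =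
    Finset.image₂ Nat.lcm ({1, 2, 3, 5, 6, 7, 10, 11, 15, 19} : Finset ℕ)
      (Finset.image₂ Nat.lcm ({1, 2, 3, 5, 6, 7, 10, 11, 15, 19} : Finset ℕ)
        (Finset.image₂ Nat.lcm ({1, 2, 3, 5, 6, 7, 10, 11, 15, 19} : Finset ℕ)
          ({1, 2, 3, 5, 6, 7, 10, 11, 15, 19} : Finset ℕ))) := by
  decide +kernel

/-- Let J be the first Janko group. Then there are finite groups of arbitrarily large order with exactly the same set of element orders as J × J × J × J. -/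
theorem result (N : ℕ) : ∃ (H : Type) (_ : Group H) (_ : Fintype H), N < Fintype.card H ∧
      Set.range (orderOf : H → ℕ) = Set.range (orderOf : ↥Cfsg.Spor.J1 × ↥Cfsg.Spor.J1 × ↥Cfsg.Spor.J1 × ↥Cfsg.Spor.J1 → ℕ) := by
  refine ⟨HN N, inferInstance, Fintype.ofFinite _, ?_, ?_⟩
  · rw [Fintype.card_eq_nat_card]
    exact card_HN N
  · rw [range_HN, range_J4, finset_eq]

end Cfsg.Agent.S3627
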