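-- Statement S3634: three primes in a normal series are not pairwise non-adjacent.
import Mathlib
import Cfsg.Statements.S3634

set_option autoImplicit false
open Cfsg

namespace Cfsg.Agent.S3634

open Finset

/-- shift invariance of a product over a full period -/
theorem prod_range_shift {A : Type*} [CommGroup A] (f : ℕ → A) (r : ℕ) (h : f r = f 0) :
    ∏ i ∈ range r, f (i + 1) = ∏ i ∈ range r, f i := by
  have h1 := Finset.prod_range_succ f r
  have h2 := Finset.prod_range_succ' f r
  rw [h1, h] at h2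
  exact (mul_right_cancel h2).symm

/-- Abstract core: a `q`-group `Q` normalised by `x` of prime order `r` with `C_Q(x) = 1`, acting
on an abelian group `A` of order prime to `#Q` with `C_A(Q) = 1` and `C_A(x) = 1`, forces `A = 1`. -/
theorem core {L A : Type*} [Group L] [CommGroup A] (ρ : L →* MulAut A)
    (Q : Subgroup L) [Finite Q] (x : L) (r : ℕ) (hr : r.Prime) (hxr : x ^ r = 1)
    (hxQ : x ∈ Subgroup.normalizer (Q : Set L))
    (h1 : ∀ u ∈ Q, x * u = u * x → u = 1)
    (h2 : ∀ a : A, (∀ u ∈ Q, ρ u a = a) → a = 1)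
    (h3 : ∀ a : A, ρ x a = a → a = 1)
    (h4 : ∀ a : A, a ^ Nat.card Q = 1 → a = 1) :
    ∀ a : A, a = 1 := by
  classical
  have := Fintype.ofFinite Q
  intro a
  apply h4
  -- norm of x kills everything
  have hN : ∀ b : A, ∏ i ∈ range r, ρ (x ^ i) b = 1 := by
    intro b
    apply h3
    rw [map_prod]
    have : ∀ i, ρ x (ρ (x ^ i) b) = ρ (x ^ (i + 1)) b := by
      intro i
      rw [pow_succ', map_mul]
      rfl
    simp_rw [this]
    apply prod_range_shift (fun i => ρ (x ^ i) b)
    simp [hxr]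
  -- trace of Q kills everything
  have hT : ∀ b : A, ∏ w : Q, ρ (w : L) b = 1 := by
    intro b
    apply h2
    intro u hu
    rw [map_prod]
    have : ∀ w : Q, ρ u (ρ (w : L) b) = ρ (((⟨u, hu⟩ : Q) * w : Q) : L) b := by
      intro w
      rw [Subgroup.coe_mul, map_mul]
      rfl
    simp_rw [this]
    exact Fintype.prod_bijective (fun w : Q => (⟨u, hu⟩ : Q) * w)
      (Group.mulLeft_bijective _) _ _ (fun _ => rfl)
  -- the double product, computed in two ways
  have hS1 : ∏ u : Q, ∏ i ∈ range r, ρ ((u : L) * x ^ i * (u : L)⁻¹) a = 1 := by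
    apply Finset.prod_eq_one
    intro u _
    have : ∀ i, ρ ((u : L) * x ^ i * (u : L)⁻¹) a = ρ (u : L) (ρ (x ^ i) (ρ ((u : L)⁻¹) a)) := by
      intro i
      rw [map_mul, map_mul]
      rfl
    simp_rw [this]
    rw [← map_prod, hN, map_one]
  rw [Finset.prod_comm] at hS1
  obtain ⟨r', rfl⟩ : ∃ r', r = r' + 1 := ⟨r - 1, by have := hr.pos; omega⟩
  rw [Finset.prod_range_succ'] at hS1
  have hzero : ∏ u : Q, ρ ((u : L) * x ^ 0 * (u : L)⁻¹) a = a ^ Nat.card Q := by
    simp [Nat.card_eq_fintype_card]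
  have hpos : ∀ i ∈ range r', ∏ u : Q, ρ ((u : L) * x ^ (i + 1) * (u : L)⁻¹) a = 1 := by
    intro i hi
    rw [Finset.mem_range] at hi
    set g := x ^ (i + 1) with hg
    have hgQ : g ∈ Subgroup.normalizer (Q : Set L) := Subgroup.pow_mem _ hxQ _
    -- x is a power of g
    have hcop : Nat.Coprime (i + 1) (r' + 1) := by
      apply Nat.Coprime.symm
      rw [hr.coprime_iff_not_dvd]
      intro hdvd
      have := Nat.le_of_dvd (by omega) hdvd
      omega
    obtain ⟨m, -, hm⟩ := Nat.exists_mul_mod_eq_one_of_coprime hcop (by have := hr.one_lt; omega)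
    have hxg : g ^ m = x := by
      rw [hg, ← pow_mul, pow_eq_pow_mod _ hxr, hm, pow_one]
    have hcent : ∀ c ∈ Q, g * c = c * g → c = 1 := by
      intro c hc hcomm
      apply h1 c hc
      have : Commute g c := hcomm
      have := this.pow_left m
      rw [hxg] at this
      exact this
    let ψ : Q → Q := fun u => ⟨(u : L) * (g * (u : L)⁻¹ * g⁻¹), by
      apply Q.mul_mem u.2
      exact (Subgroup.mem_normalizer_iff.mp hgQ _).mp (Q.inv_mem u.2)⟩
    have hψinj : Function.Injective ψ := by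
      intro u w huw
      have huw' : (u : L) * (g * (u : L)⁻¹ * g⁻¹) = (w : L) * (g * (w : L)⁻¹ * g⁻¹) :=
        congrArg Subtype.val huw
      have hc : g * ((w : L)⁻¹ * (u : L)) = ((w : L)⁻¹ * (u : L)) * g := by
        have e1 : (u : L) * g * (u : L)⁻¹ = (w : L) * g * (w : L)⁻¹ := by
          have := congrArg (· * g) huw'
          simpa [mul_assoc] using this
        calc g * ((w : L)⁻¹ * (u : L)) = (w : L)⁻¹ * ((w : L) * g * (w : L)⁻¹) * (u : L) := by group
          _ = (w : L)⁻¹ * ((u : L) * g * (u : L)⁻¹) * (u : L) := by rw [e1]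
          _ = ((w : L)⁻¹ * (u : L)) * g := by group
      have := hcent _ (Q.mul_mem (Q.inv_mem w.2) u.2) hc
      apply Subtype.ext
      exact (inv_mul_eq_one.mp this).symm
    have hψbij : Function.Bijective ψ := Finite.injective_iff_bijective.mp hψinj
    have : ∀ u : Q, ρ ((u : L) * g * (u : L)⁻¹) a = ρ ((ψ u : Q) : L) (ρ g a) := by
      intro u
      have : (u : L) * g * (u : L)⁻¹ = ((ψ u : Q) : L) * g := by
        change _ = (u : L) * (g * (u : L)⁻¹ * g⁻¹) * g
        group
      rw [this, map_mul]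
      rfl
    simp_rw [this]
    rw [Fintype.prod_bijective ψ hψbij (fun u => ρ ((ψ u : Q) : L) (ρ g a))
      (fun w => ρ (w : L) (ρ g a)) (fun _ => rfl)]
    exact hT _
  rw [Finset.prod_eq_one hpos, one_mul, hzero] at hS1
  exact hS1

/-- Concrete core: a normal abelian subgroup `V`, a subgroup `Q` of coprime order, and an element
`x` of prime order normalising `Q`: one of three commuting pairs exists. -/
theorem core' {G : Type*} [Group G] (V : Subgroup G) [V.Normal] [Finite V]
    (hVcomm : ∀ a ∈ V, ∀ b ∈ V, a * b = b * a) (hV : V ≠ ⊥)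
    (Q : Subgroup G) [Finite Q] (hcop : (Nat.card Q).Coprime (Nat.card V))
    (x : G) (r : ℕ) (hr : r.Prime) (hxr : x ^ r = 1)
    (hxQ : x ∈ Subgroup.normalizer (Q : Set G)) :
    (∃ u ∈ Q, u ≠ 1 ∧ Commute x u) ∨ (∃ v ∈ V, v ≠ 1 ∧ ∀ u ∈ Q, Commute u v) ∨
      (∃ v ∈ V, v ≠ 1 ∧ Commute x v) := by
  by_contra hcon
  push Not at hcon
  obtain ⟨n1, n2, n3⟩ := hcon
  let _ : CommGroup V :=
    { (inferInstance : Group V) with
      mul_comm := fun a b => Subtype.ext (hVcomm a a.2 b b.2) }
  have key := core (MulAut.conjNormal : G →* MulAut V) Q x r hr hxr hxQ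
    (fun u hu hcomm => by
      by_contra hne
      exact n1 u hu hne hcomm)
    (fun a ha => by
      by_contra hne
      have hne' : (a : G) ≠ 1 := fun h => hne (Subtype.ext h)
      obtain ⟨u, hu, hnc⟩ := n2 a a.2 hne'
      apply hnc
      have := congrArg Subtype.val (ha u hu)
      rw [MulAut.conjNormal_apply] at this
      exact mul_inv_eq_iff_eq_mul.mp this)
    (fun a ha => by
      by_contra hne
      have hne' : (a : G) ≠ 1 := fun h => hne (Subtype.ext h)
      apply n3 a a.2 hne'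
      have := congrArg Subtype.val ha
      rw [MulAut.conjNormal_apply] at this
      exact mul_inv_eq_iff_eq_mul.mp this)
    (fun a ha => by
      have h1 : orderOf a ∣ Nat.card Q := orderOf_dvd_of_pow_eq_one ha
      have h2 : orderOf a ∣ Nat.card V := orderOf_dvd_natCard a
      have h3 : orderOf a = 1 := Nat.Coprime.eq_one_of_dvd (Nat.Coprime.coprime_dvd_left h1 hcop) h2
      exact orderOf_eq_one_iff.mp h3)
  apply hV
  rw [Subgroup.eq_bot_iff_forall]
  intro v hv
  exact congrArg Subtype.val (key ⟨v, hv⟩)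

/-- from commuting non-trivial elements of prime-power orders for distinct primes, an element
whose order is the product of the two primes -/
theorem exists_orderOf_eq_mul {G : Type*} [Group G] {p q : ℕ} (hp : p.Prime) (hq : q.Prime)
    (hpq : p ≠ q) {a b : G} (hab : Commute a b) (ha : a ≠ 1) (hb : b ≠ 1)
    (ha' : ∃ i, orderOf a = p ^ i) (hb' : ∃ j, orderOf b = q ^ j) :
    ∃ c : G, orderOf c = p * q := by
  obtain ⟨i, hi⟩ := ha'
  obtain ⟨j, hj⟩ := hb'
  have hi0 : i ≠ 0 := by
    rintro rfl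
    rw [pow_zero, orderOf_eq_one_iff] at hi
    exact ha hi
  have hj0 : j ≠ 0 := by
    rintro rfl
    rw [pow_zero, orderOf_eq_one_iff] at hj
    exact hb hj
  obtain ⟨i', rfl⟩ : ∃ i', i = i' + 1 := ⟨i - 1, by omega⟩
  obtain ⟨j', rfl⟩ : ∃ j', j = j' + 1 := ⟨j - 1, by omega⟩
  have h1 : orderOf (a ^ (p ^ i')) = p := by
    rw [orderOf_pow_of_dvd (pow_ne_zero _ hp.ne_zero) (by rw [hi]; exact pow_dvd_pow p (Nat.le_succ i')),
      hi, pow_succ, Nat.mul_div_cancel_left _ (pow_pos hp.pos _)]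
  have h2 : orderOf (b ^ (q ^ j')) = q := by
    rw [orderOf_pow_of_dvd (pow_ne_zero _ hq.ne_zero) (by rw [hj]; exact pow_dvd_pow q (Nat.le_succ j')),
      hj, pow_succ, Nat.mul_div_cancel_left _ (pow_pos hq.pos _)]
  refine ⟨a ^ (p ^ i') * b ^ (q ^ j'), ?_⟩
  rw [(hab.pow_pow _ _).orderOf_mul_eq_mul_orderOf_of_coprime (by
    rw [h1, h2]; exact (Nat.coprime_primes hp hq).mpr hpq), h1, h2]

/-- the order of an element of a subgroup of prime-power order -/
theorem orderOf_eq_pow_of_mem {G : Type*} [Group G] {q : ℕ} (hq : q.Prime) (Q : Subgroup G)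
    {n : ℕ} (hQ : Nat.card Q = q ^ n) {u : G} (hu : u ∈ Q) : ∃ k, orderOf u = q ^ k := by
  have h1 : orderOf (⟨u, hu⟩ : Q) ∣ Nat.card Q := orderOf_dvd_natCard _
  rw [hQ, Nat.dvd_prime_pow hq] at h1
  obtain ⟨k, -, hk⟩ := h1
  exact ⟨k, by rw [← hk, ← Subgroup.orderOf_coe]⟩

/-- Second stage: a normal non-trivial `p`-subgroup `P`, a normal subgroup `M` with `q ∣ #M`
and `r ∣ [G : M]`. -/
theorem stage2 {G : Type*} [Group G] [Finite G] (P M : Subgroup G) [P.Normal] [M.Normal]
    (p q r : ℕ) (hp : p.Prime) (hq : q.Prime) (hr : r.Prime) (hpq : p ≠ q) (hpr : p ≠ r)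
    (hqr : q ≠ r) (hP : IsPGroup p P) (hP1 : P ≠ ⊥) (hqM : q ∣ Nat.card M) (hrM : r ∣ M.index) :
    (∃ x : G, orderOf x = p * q) ∨ (∃ x : G, orderOf x = p * r) ∨ (∃ x : G, orderOf x = q * r) := by
  have := Fact.mk hp
  have := Fact.mk hq
  have := Fact.mk hr
  -- V = Z(P)
  let V : Subgroup G := P ⊓ Subgroup.centralizer (P : Set G)
  have hVn : V.Normal := inferInstance
  have hVcomm : ∀ a ∈ V, ∀ b ∈ V, a * b = b * a := by
    intro a ha b hb
    exact (Subgroup.mem_centralizer_iff.mp hb.2 a ha.1)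
  have hVne : V ≠ ⊥ := by
    have : Nontrivial P := (Subgroup.nontrivial_iff_ne_bot P).mpr hP1
    obtain ⟨z, hz⟩ := (Subgroup.ne_bot_iff_exists_ne_one).mp (hP.bot_lt_center).ne'
    intro hbot
    have hzV : ((z : P) : G) ∈ V := by
      refine ⟨(z : P).2, ?_⟩
      change ((z : P) : G) ∈ Subgroup.centralizer (P : Set G)
      rw [Subgroup.mem_centralizer_iff]
      intro h hh
      have := Subgroup.mem_center_iff.mp z.2 ⟨h, hh⟩
      exact congrArg Subtype.val this
    rw [hbot, Subgroup.mem_bot] at hzV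
    apply hz
    apply Subtype.ext
    apply Subtype.ext
    exact hzV
  obtain ⟨nP, hnP⟩ := (IsPGroup.iff_card).mp hP
  have hVcard : ∃ nV, Nat.card V = p ^ nV := by
    have : Nat.card V ∣ Nat.card P := Subgroup.card_dvd_of_le inf_le_left
    rw [hnP, Nat.dvd_prime_pow hp] at this
    obtain ⟨k, -, hk⟩ := this
    exact ⟨k, hk⟩
  obtain ⟨nV, hnV⟩ := hVcard
  -- Sylow q-subgroup of M
  let Q1 : Sylow q M := default
  let Q : Subgroup G := (Q1 : Subgroup M).map M.subtype
  have hQcard : Nat.card Q = q ^ (Nat.card M).factorization q := by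
    rw [Subgroup.card_subtype]
    exact Q1.card_eq_multiplicity
  have hQne : Q ≠ ⊥ := by
    intro hbot
    have h1 : Nat.card Q = 1 := by rw [hbot]; exact Subgroup.card_bot
    have h2 : Nat.card (Q1 : Subgroup M) = 1 := by rw [← Subgroup.card_subtype M]; exact h1
    have h3 : q ∣ Nat.card (Q1 : Subgroup M) := Q1.dvd_card_of_dvd_card hqM
    rw [h2] at h3
    exact hq.one_lt.ne' (Nat.dvd_one.mp h3)
  -- Frattini
  have hF : Subgroup.normalizer (Q : Set G) ⊔ M = ⊤ := Sylow.normalizer_sup_eq_top Q1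
  have hrN : r ∣ Nat.card (Subgroup.normalizer (Q : Set G)) := by
    have h1 : M.index = M.relIndex (Subgroup.normalizer (Q : Set G)) := by
      rw [← Subgroup.relIndex_top_right, ← hF, Subgroup.relIndex_sup_right]
    rw [h1] at hrM
    exact hrM.trans (Subgroup.relIndex_dvd_card _ _)
  obtain ⟨x, hx⟩ := exists_prime_orderOf_dvd_card' r hrN
  have hx' : orderOf (x : G) = r := by rw [Subgroup.orderOf_coe]; exact hx
  have hxne : (x : G) ≠ 1 := by
    intro h
    rw [h, orderOf_one] at hx'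
    exact hr.one_lt.ne hx'
  have hcop : (Nat.card Q).Coprime (Nat.card V) := by
    rw [hQcard, hnV]
    exact Nat.Coprime.pow _ _ ((Nat.coprime_primes hq hp).mpr hpq.symm)
  rcases core' V hVcomm hVne Q hcop (x : G) r hr (by rw [← hx']; exact pow_orderOf_eq_one _) x.2
    with ⟨u, hu, hu1, hcomm⟩ | ⟨v, hv, hv1, hcomm⟩ | ⟨v, hv, hv1, hcomm⟩
  · right; right
    obtain ⟨c, hc⟩ := exists_orderOf_eq_mul hr hq hqr.symm hcomm hxne hu1 ⟨1, by rw [hx', pow_one]⟩
      (orderOf_eq_pow_of_mem hq Q hQcard hu)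
    exact ⟨c, by rw [hc, mul_comm]⟩
  · left
    obtain ⟨u, hu⟩ := (Subgroup.ne_bot_iff_exists_ne_one).mp hQne
    have hu1 : (u : G) ≠ 1 := fun h => hu (Subtype.ext h)
    exact exists_orderOf_eq_mul hp hq hpq (hcomm u u.2).symm hv1 hu1
      (orderOf_eq_pow_of_mem hp V hnV hv) (orderOf_eq_pow_of_mem hq Q hQcard u.2)
  · right; left
    obtain ⟨c, hc⟩ := exists_orderOf_eq_mul hr hp hpr.symm hcomm hxne hv1 ⟨1, by rw [hx', pow_one]⟩
      (orderOf_eq_pow_of_mem hp V hnV hv)
    exact ⟨c, by rw [hc, mul_comm]⟩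

/-- Let G be a finite group with normal subgroups K ≤ M, and let p, q, r be distinct primes with p dividing the order of K, q dividing the order of M/K and r dividing the order of G/M. Then p, q, r are not pairwise non-adjacent in the prime graph of G: G has an element of order pq, pr or qr. -/
theorem result {G : Type*} [Group G] [Finite G] (K M : Subgroup G) [K.Normal] [M.Normal] (hKM : K ≤ M)
    (p q r : ℕ) (hp : p.Prime) (hq : q.Prime) (hr : r.Prime) (hpq : p ≠ q) (hpr : p ≠ r) (hqr : q ≠ r)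
    (hpK : p ∣ Nat.card ↥K) (hqM : q ∣ Nat.card ↥M / Nat.card ↥K) (hrG : r ∣ Nat.card G / Nat.card ↥M) :
    (∃ x : G, orderOf x = p * q) ∨ (∃ x : G, orderOf x = p * r) ∨ (∃ x : G, orderOf x = q * r) := by
  have := Fact.mk hp
  let P : Sylow p K := default
  let P0 : Subgroup G := (P : Subgroup K).map K.subtype
  let N1 : Subgroup G := Subgroup.normalizer (P0 : Set G)
  have hF : N1 ⊔ K = ⊤ := Sylow.normalizer_sup_eq_top P
  -- indices
  have hq' : q ∣ K.relIndex M := by
    have h1 : Nat.card (K.subgroupOf M) * (K.subgroupOf M).index = Nat.card M :=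
      Subgroup.card_mul_index _
    have h2 : Nat.card (K.subgroupOf M) = Nat.card K :=
      Nat.card_congr (Subgroup.subgroupOfEquivOfLe hKM).toEquiv
    have h3 : Nat.card M / Nat.card K = K.relIndex M := by
      rw [← h1, h2]
      exact Nat.mul_div_cancel_left _ Nat.card_pos
    rwa [h3] at hqM
  have hr' : r ∣ M.index := by
    have h1 : Nat.card M * M.index = Nat.card G := Subgroup.card_mul_index M
    have h3 : Nat.card G / Nat.card M = M.index := by
      rw [← h1]
      exact Nat.mul_div_cancel_left _ Nat.card_pos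
    rwa [h3] at hrG
  -- M = K (M ∩ N1)
  have hM : M = K ⊔ (M ⊓ N1) := by
    apply le_antisymm
    · intro m hm
      have hm' : m ∈ (↑(N1 ⊔ K) : Set G) := by
        rw [hF]
        trivial
      rw [Subgroup.mul_normal] at hm'
      obtain ⟨n, hn, k, hk, rfl⟩ := Set.mem_mul.mp hm'
      have hnM : n ∈ M := by
        have := M.mul_mem hm (M.inv_mem (hKM hk))
        simpa using this
      exact Subgroup.mul_mem _ (Subgroup.mem_sup_right ⟨hnM, hn⟩) (Subgroup.mem_sup_left hk)
    · exact sup_le hKM inf_le_left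
  have hqMN : q ∣ Nat.card (M.subgroupOf N1) := by
    have h1 : K.relIndex M = K.relIndex (M ⊓ N1) := by
      conv_lhs => rw [hM]
      exact Subgroup.relIndex_sup_left (K := K) (H := M ⊓ N1)
    have h2 : Nat.card (M.subgroupOf N1) = Nat.card (M ⊓ N1 : Subgroup G) := by
      rw [← Subgroup.inf_subgroupOf_right]
      exact Nat.card_congr (Subgroup.subgroupOfEquivOfLe inf_le_right).toEquiv
    rw [h2]
    rw [h1] at hq'
    exact hq'.trans (Subgroup.relIndex_dvd_card _ _)
  have hrMN : r ∣ (M.subgroupOf N1).index := by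
    have h1 : M.index = M.relIndex N1 := by
      have : N1 ⊔ M = ⊤ := by
        rw [eq_top_iff, ← hF]
        exact sup_le_sup_left hKM _
      rw [← Subgroup.relIndex_top_right, ← this, Subgroup.relIndex_sup_right]
    rw [h1] at hr'
    exact hr'
  -- the Sylow subgroup inside its normalizer
  have hP1n : (P0.subgroupOf N1).Normal := Subgroup.normal_in_normalizer
  have hP0p : IsPGroup p P0 := P.isPGroup'.map K.subtype
  have hP1p : IsPGroup p (P0.subgroupOf N1) := by
    rw [← Subgroup.comap_subtype]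
    exact hP0p.comap_subtype
  have hP1ne : P0.subgroupOf N1 ≠ ⊥ := by
    intro hbot
    have hle : P0 ≤ N1 := Subgroup.le_normalizer
    rw [Subgroup.subgroupOf_eq_bot, disjoint_iff, inf_of_le_left hle] at hbot
    have hPbot : (P : Subgroup K) = ⊥ := by
      rw [← Subgroup.map_eq_bot_iff_of_injective _ K.subtype_injective]
      exact hbot
    exact P.ne_bot_of_dvd_card hpK hPbot
  rcases stage2 (P0.subgroupOf N1) (M.subgroupOf N1) p q r hp hq hr hpq hpr hqr hP1p hP1ne hqMN hrMN
    with ⟨x, hx⟩ | ⟨x, hx⟩ | ⟨x, hx⟩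
  · exact Or.inl ⟨x, by rw [Subgroup.orderOf_coe]; exact hx⟩
  · exact Or.inr (Or.inl ⟨x, by rw [Subgroup.orderOf_coe]; exact hx⟩)
  · exact Or.inr (Or.inr ⟨x, by rw [Subgroup.orderOf_coe]; exact hx⟩)

end Cfsg.Agent.S3634
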