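-- Statement S3633: a coclique of three primes meets a solvable normal subgroup in at most one prime.
import Mathlib
import Cfsg.Statements.S3633
import Cfsg.Agent.S3634

set_option autoImplicit false
open Cfsg

namespace Cfsg.Agent.S3633

/-- derived series of a subgroup, computed inside the ambient group -/
def dser {G : Type*} [Group G] (K : Subgroup G) : ℕ → Subgroup G
  | 0 => K
  | n + 1 => ⁅dser K n, dser K n⁆

theorem dser_normal {G : Type*} [Group G] (K : Subgroup G) [K.Normal] (n : ℕ) :
    (dser K n).Normal := by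
  induction n with
  | zero => exact ‹K.Normal›
  | succ n ih =>
    have := ih
    exact Subgroup.commutator_normal _ _

theorem dser_succ_le {G : Type*} [Group G] (K : Subgroup G) [K.Normal] (n : ℕ) :
    dser K (n + 1) ≤ dser K n := by
  have := dser_normal K n
  exact Subgroup.commutator_le_left _ _

theorem dser_antitone {G : Type*} [Group G] (K : Subgroup G) [K.Normal] {i j : ℕ} (h : i ≤ j) :
    dser K j ≤ dser K i := by
  induction h with
  | refl => exact le_rfl
  | step _ ih => exact (dser_succ_le K _).trans ih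

theorem dser_map {G : Type*} [Group G] (K : Subgroup G) (n : ℕ) :
    (derivedSeries K n).map K.subtype = dser K n := by
  induction n with
  | zero =>
    rw [derivedSeries_zero]
    change _ = K
    rw [← MonoidHom.range_eq_map, Subgroup.range_subtype]
  | succ n ih =>
    rw [derivedSeries_succ, Subgroup.map_commutator, ih]
    rfl

theorem dser_eq_bot {G : Type*} [Group G] (K : Subgroup G) (hK : Group.IsSolvable K) :
    ∃ n, dser K n = ⊥ := by
  obtain ⟨n, hn⟩ := (Group.isSolvable_def K).mp hK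
  exact ⟨n, by rw [← dser_map, hn, Subgroup.map_bot]⟩

/-- the level of a prime in the derived series -/
theorem exists_level {G : Type*} [Group G] [Finite G] (K : Subgroup G) [K.Normal]
    (hK : Group.IsSolvable K) (l : ℕ) (hl : l.Prime) :
    ∃ j, (∀ i < j, l ∣ Nat.card (dser K i)) ∧ (∀ i, j ≤ i → ¬ l ∣ Nat.card (dser K i)) := by
  classical
  obtain ⟨n, hn⟩ := dser_eq_bot K hK
  have hex : ∃ j, ¬ l ∣ Nat.card (dser K j) := by
    refine ⟨n, ?_⟩
    rw [hn, Subgroup.card_bot]
    exact hl.one_lt.ne' ∘ Nat.dvd_one.mp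
  refine ⟨Nat.find hex, fun i hi => ?_, fun i hi hdvd => ?_⟩
  · have := Nat.find_min hex hi
    exact not_not.mp this
  · apply Nat.find_spec hex
    exact hdvd.trans (Subgroup.card_dvd_of_le (dser_antitone K hi))

theorem adj_comm {G : Type*} [Group G] {a b : ℕ} (h : ∃ x : G, orderOf x = a * b) :
    ∃ x : G, orderOf x = b * a := by
  obtain ⟨x, hx⟩ := h
  exact ⟨x, by rw [hx, mul_comm]⟩

/-- two primes dividing the order of `A` but not of `B ⊇ [A, A]` are adjacent -/
theorem abelian_factor {G : Type*} [Group G] [Finite G] (A B : Subgroup G) [B.Normal]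
    (hAB : ⁅A, A⁆ ≤ B) (a b : ℕ) (ha : a.Prime) (hb : b.Prime) (hab : a ≠ b)
    (haA : a ∣ Nat.card A) (hbA : b ∣ Nat.card A) (haB : ¬ a ∣ Nat.card B)
    (hbB : ¬ b ∣ Nat.card B) : ∃ x : G, orderOf x = a * b := by
  have := Fact.mk ha
  have := Fact.mk hb
  obtain ⟨x, hx⟩ := exists_prime_orderOf_dvd_card' a haA
  obtain ⟨y, hy⟩ := exists_prime_orderOf_dvd_card' b hbA
  have hx' : orderOf (x : G) = a := by rw [Subgroup.orderOf_coe]; exact hx
  have hy' : orderOf (y : G) = b := by rw [Subgroup.orderOf_coe]; exact hy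
  let π := QuotientGroup.mk' B
  have hπx : orderOf (π x) = a := by
    apply orderOf_eq_prime
    · rw [← map_pow, ← hx', pow_orderOf_eq_one, map_one]
    · intro h
      have hxB : (x : G) ∈ B := (QuotientGroup.eq_one_iff _).mp h
      apply haB
      have := orderOf_dvd_natCard (⟨(x : G), hxB⟩ : B)
      rwa [← Subgroup.orderOf_coe, hx'] at this
  have hπy : orderOf (π y) = b := by
    apply orderOf_eq_prime
    · rw [← map_pow, ← hy', pow_orderOf_eq_one, map_one]
    · intro h
      have hyB : (y : G) ∈ B := (QuotientGroup.eq_one_iff _).mp h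
      apply hbB
      have := orderOf_dvd_natCard (⟨(y : G), hyB⟩ : B)
      rwa [← Subgroup.orderOf_coe, hy'] at this
  have hcomm : Commute (π x) (π y) := by
    rw [← commutatorElement_eq_one_iff_commute, ← map_commutatorElement]
    exact (QuotientGroup.eq_one_iff _).mpr (hAB (Subgroup.commutator_mem_commutator x.2 y.2))
  have hord : orderOf (π ((x : G) * y)) = a * b := by
    rw [map_mul, hcomm.orderOf_mul_eq_mul_orderOf_of_coprime (by
      rw [hπx, hπy]; exact (Nat.coprime_primes ha hb).mpr hab), hπx, hπy]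
  have hdvd : a * b ∣ orderOf ((x : G) * y) := by
    rw [← hord]
    exact orderOf_map_dvd π _
  have hpos : orderOf ((x : G) * y) ≠ 0 := (orderOf_pos _).ne'
  refine ⟨((x : G) * y) ^ (orderOf ((x : G) * y) / (a * b)), ?_⟩
  rw [orderOf_pow_of_dvd, Nat.div_div_self hdvd hpos]
  · intro h
    have h0 := Nat.eq_mul_of_div_eq_right hdvd h
    rw [mul_zero] at h0
    exact hpos h0
  · exact Nat.div_dvd_of_dvd hdvd

theorem dvd_div_of {l m n : ℕ} (hl : l.Prime) (hmn : m ∣ n) (hm : 0 < m) (h1 : l ∣ n)
    (h2 : ¬ l ∣ m) : l ∣ n / m := by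
  obtain ⟨k, rfl⟩ := hmn
  rw [Nat.mul_div_cancel_left _ hm]
  exact (hl.dvd_mul.mp h1).resolve_left h2

/-- three primes with strictly decreasing levels -/
theorem ordered {G : Type*} [Group G] [Finite G] (K : Subgroup G) [K.Normal]
    (a b c : ℕ) (ha : a.Prime) (hb : b.Prime) (hc : c.Prime) (hab : a ≠ b) (hac : a ≠ c)
    (hbc : b ≠ c) (hcG : c ∣ Nat.card G) (ja jb jc : ℕ)
    (hja : (∀ i < ja, a ∣ Nat.card (dser K i)) ∧ (∀ i, ja ≤ i → ¬ a ∣ Nat.card (dser K i)))
    (hjb : (∀ i < jb, b ∣ Nat.card (dser K i)) ∧ (∀ i, jb ≤ i → ¬ b ∣ Nat.card (dser K i)))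
    (hjc : (∀ i < jc, c ∣ Nat.card (dser K i)) ∧ (∀ i, jc ≤ i → ¬ c ∣ Nat.card (dser K i)))
    (h1 : jb < ja) (h2 : jc < jb) :
    (∃ x : G, orderOf x = a * b) ∨ (∃ x : G, orderOf x = a * c) ∨ (∃ x : G, orderOf x = b * c) := by
  have := dser_normal K (ja - 1)
  have := dser_normal K (jb - 1)
  have hle : dser K (ja - 1) ≤ dser K (jb - 1) := dser_antitone K (by omega)
  apply Cfsg.Agent.S3634.result (dser K (ja - 1)) (dser K (jb - 1)) hle a b c ha hb hc hab hac hbc
  · exact hja.1 _ (by omega)
  · exact dvd_div_of hb (Subgroup.card_dvd_of_le hle) Nat.card_pos (hjb.1 _ (by omega))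
      (hjb.2 _ (by omega))
  · exact dvd_div_of hc (Subgroup.card_subgroup_dvd_card _) Nat.card_pos hcG (hjc.2 _ (by omega))

/-- Main lemma: a solvable normal subgroup whose order is divisible by two primes, and a third
prime dividing the group order: two of the three are adjacent. -/
theorem three_primes {G : Type*} [Group G] [Finite G] (K : Subgroup G) [K.Normal]
    (hK : Group.IsSolvable K) (a b c : ℕ) (ha : a.Prime) (hb : b.Prime) (hc : c.Prime)
    (hab : a ≠ b) (hac : a ≠ c) (hbc : b ≠ c)
    (haK : a ∣ Nat.card K) (hbK : b ∣ Nat.card K) (hcG : c ∣ Nat.card G) :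
    (∃ x : G, orderOf x = a * b) ∨ (∃ x : G, orderOf x = a * c) ∨ (∃ x : G, orderOf x = b * c) := by
  obtain ⟨ja, hja⟩ := exists_level K hK a ha
  obtain ⟨jb, hjb⟩ := exists_level K hK b hb
  obtain ⟨jc, hjc⟩ := exists_level K hK c hc
  have hja1 : 1 ≤ ja := by
    by_contra h
    exact hja.2 0 (by omega) haK
  have hjb1 : 1 ≤ jb := by
    by_contra h
    exact hjb.2 0 (by omega) hbK
  -- equal levels give an abelian factor
  have same : ∀ (u v : ℕ) (hu : u.Prime) (hv : v.Prime) (huv : u ≠ v) (j : ℕ) (hj : 1 ≤ j)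
      (hju : (∀ i < j, u ∣ Nat.card (dser K i)) ∧ (∀ i, j ≤ i → ¬ u ∣ Nat.card (dser K i)))
      (hjv : (∀ i < j, v ∣ Nat.card (dser K i)) ∧ (∀ i, j ≤ i → ¬ v ∣ Nat.card (dser K i))),
      ∃ x : G, orderOf x = u * v := by
    intro u v hu hv huv j hj hju hjv
    have := dser_normal K j
    obtain ⟨j', rfl⟩ : ∃ j', j = j' + 1 := ⟨j - 1, by omega⟩
    exact abelian_factor (dser K j') (dser K (j' + 1)) le_rfl u v hu hv huv
      (hju.1 _ (by omega)) (hjv.1 _ (by omega)) (hju.2 _ le_rfl) (hjv.2 _ le_rfl)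
  by_cases e1 : ja = jb
  · subst e1
    exact Or.inl (same a b ha hb hab ja hja1 hja hjb)
  by_cases e2 : ja = jc
  · subst e2
    exact Or.inr (Or.inl (same a c ha hc hac ja hja1 hja hjc))
  by_cases e3 : jb = jc
  · subst e3
    exact Or.inr (Or.inr (same b c hb hc hbc jb hjb1 hjb hjc))
  have haG : a ∣ Nat.card G := haK.trans (Subgroup.card_subgroup_dvd_card K)
  have hbG : b ∣ Nat.card G := hbK.trans (Subgroup.card_subgroup_dvd_card K)
  rcases lt_or_gt_of_ne e1 with h1 | h1
  · rcases lt_or_gt_of_ne e2 with h2 | h2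
    · rcases lt_or_gt_of_ne e3 with h3 | h3
      · -- ja < jb < jc
        rcases ordered K c b a hc hb ha hbc.symm hac.symm hab.symm haG
          jc jb ja hjc hjb hja h3 h1 with h | h | h
        · exact Or.inr (Or.inr (adj_comm h))
        · exact Or.inr (Or.inl (adj_comm h))
        · exact Or.inl (adj_comm h)
      · -- ja < jc < jb
        rcases ordered K b c a hb hc ha hbc hab.symm hac.symm haG
          jb jc ja hjb hjc hja h3 h2 with h | h | h
        · exact Or.inr (Or.inr h)
        · exact Or.inl (adj_comm h)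
        · exact Or.inr (Or.inl (adj_comm h))
    · -- jc < ja < jb
      rcases ordered K b a c hb ha hc hab.symm hbc hac hcG jb ja jc hjb hja hjc h1 h2 with h | h | h
      · exact Or.inl (adj_comm h)
      · exact Or.inr (Or.inr h)
      · exact Or.inr (Or.inl h)
  · rcases lt_or_gt_of_ne e2 with h2 | h2
    · -- jb < ja < jc
      rcases ordered K c a b hc ha hb hac.symm hbc.symm hab hbG
        jc ja jb hjc hja hjb h2 h1 with h | h | h
      · exact Or.inr (Or.inl (adj_comm h))
      · exact Or.inr (Or.inr (adj_comm h))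
      · exact Or.inl h
    · rcases lt_or_gt_of_ne e3 with h3 | h3
      · -- jb < jc < ja
        rcases ordered K a c b ha hc hb hac hab hbc.symm hbG
          ja jc jb hja hjc hjb h2 h3 with h | h | h
        · exact Or.inr (Or.inl h)
        · exact Or.inl h
        · exact Or.inr (Or.inr (adj_comm h))
      · -- jc < jb < ja
        exact ordered K a b c ha hb hc hab hac hbc hcG ja jb jc hja hjb hjc h1 h3

/-- Let G be a finite group and ρ a set of at least three prime divisors of the order of G that are pairwise non-adjacent in the prime graph (no element of order rs for distinct r, s ∈ ρ). Then at most one prime of ρ divides the order of any given solvable normal subgroup of G; in particular G is not solvable. -/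
theorem result {G : Type*} [Group G] [Finite G] (ρ : Finset ℕ) (hρ : 3 ≤ ρ.card) (hc : ((∀ r ∈ ρ, r.Prime ∧ r ∣ Nat.card G) ∧ (∀ r ∈ ρ, ∀ s ∈ ρ, r ≠ s → ¬ ∃ x : G, orderOf x = r * s)))
    (K : Subgroup G) [K.Normal] (hK : Group.IsSolvable ↥K) :
    (∀ r ∈ ρ, ∀ s ∈ ρ, r ∣ Nat.card ↥K → s ∣ Nat.card ↥K → r = s) ∧ ¬ Group.IsSolvable G := by
  obtain ⟨hc1, hc2⟩ := hc
  constructor
  · intro r hr s hs hrK hsK
    by_contra hrs
    -- a third prime
    obtain ⟨t, ht, htr, hts⟩ : ∃ t ∈ ρ, t ≠ r ∧ t ≠ s := by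
      have : ((ρ.erase r).erase s).Nonempty := by
        rw [← Finset.card_pos]
        have h1 : (ρ.erase r).card = ρ.card - 1 := Finset.card_erase_of_mem hr
        have h2 : ((ρ.erase r).erase s).card = (ρ.erase r).card - 1 :=
          Finset.card_erase_of_mem (Finset.mem_erase.mpr ⟨Ne.symm hrs, hs⟩)
        omega
      obtain ⟨t, ht⟩ := this
      rw [Finset.mem_erase, Finset.mem_erase] at ht
      exact ⟨t, ht.2.2, ht.2.1, ht.1⟩
    rcases three_primes K hK r s t (hc1 r hr).1 (hc1 s hs).1 (hc1 t ht).1 hrs (Ne.symm htr)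
      (Ne.symm hts) hrK hsK (hc1 t ht).2 with h | h | h
    · exact hc2 r hr s hs hrs h
    · exact hc2 r hr t ht (Ne.symm htr) h
    · exact hc2 s hs t ht (Ne.symm hts) h
  · intro hG
    obtain ⟨r, hr, s, hs, t, ht, hrs, hrt, hst⟩ := Finset.two_lt_card.mp hρ
    have hTop : Group.IsSolvable (⊤ : Subgroup G) := inferInstance
    have hcard : ∀ l, l ∣ Nat.card G → l ∣ Nat.card (⊤ : Subgroup G) := by
      intro l hl
      rwa [Subgroup.card_top]
    rcases three_primes (⊤ : Subgroup G) hTop r s t (hc1 r hr).1 (hc1 s hs).1 (hc1 t ht).1 hrs hrt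
      hst (hcard _ (hc1 r hr).2) (hcard _ (hc1 s hs).2) (hc1 t ht).2 with h | h | h
    · exact hc2 r hr s hs hrs h
    · exact hc2 r hr t ht hrt h
    · exact hc2 s hs t ht hst h

end Cfsg.Agent.S3633
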