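import Cfsg.Statements.S3664
import Cfsg.Agent.Lib.Helper61.PrimeGraph2
import Cfsg.Agent.Lib.Helper61.Sp63
import Cfsg.Agent.Lib.Helper61.Sz8Grp

set_option autoImplicit false
open Cfsg

namespace Cfsg.Agent.S3664

open Cfsg.Agent.Lib.Helper61.PrimeGraph Cfsg.Agent.Lib.Helper61.PrimeGraph2
open Cfsg.Agent.Lib.Helper61.Sp63 Cfsg.Agent.Lib.Helper61.Sz8Grp

theorem prime_dvd_card_iff {X : Type*} [Group X] [Finite X] (r : ℕ) (hr : r.Prime) :
    r ∣ Nat.card X ↔ ∃ x : X, orderOf x = r := by
  constructor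
  · intro h
    haveI : Fact r.Prime := ⟨hr⟩
    exact exists_prime_orderOf_dvd_card' r h
  · rintro ⟨x, hx⟩
    rw [← hx]
    exact orderOf_dvd_natCard x

theorem exists_orderOf_of_dvd {X : Type*} [Group X] {n d : ℕ} (hn : 0 < n)
    (h : ∃ x : X, orderOf x = n) (hd : d ∣ n) : ∃ y : X, orderOf y = d := by
  obtain ⟨x, hx⟩ := h
  obtain ⟨k, hk⟩ := hd
  have hk0 : k ≠ 0 := by
    rintro rfl
    omega
  refine ⟨x ^ k, ?_⟩
  rw [orderOf_pow_of_dvd hk0 (by rw [hx, hk]; exact dvd_mul_left k d), hx, hk,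
    Nat.mul_div_cancel _ (Nat.pos_of_ne_zero hk0)]

theorem prime_cases (r : ℕ) (hr : r.Prime) (h : r ∣ 2 ^ 3 * 3 ^ 2 * 5 * 7 * 13) :
    r = 2 ∨ r = 3 ∨ r = 5 ∨ r = 7 ∨ r = 13 := by
  rcases (Nat.Prime.dvd_mul hr).1 h with h | h
  · rcases (Nat.Prime.dvd_mul hr).1 h with h | h
    · rcases (Nat.Prime.dvd_mul hr).1 h with h | h
      · rcases (Nat.Prime.dvd_mul hr).1 h with h | h
        · exact Or.inl ((Nat.prime_dvd_prime_iff_eq hr Nat.prime_two).1 (hr.dvd_of_dvd_pow h))
        · exact Or.inr (Or.inl ((Nat.prime_dvd_prime_iff_eq hr Nat.prime_three).1 (hr.dvd_of_dvd_pow h)))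
      · exact Or.inr (Or.inr (Or.inl ((Nat.prime_dvd_prime_iff_eq hr (by norm_num)).1 h)))
    · exact Or.inr (Or.inr (Or.inr (Or.inl ((Nat.prime_dvd_prime_iff_eq hr (by norm_num)).1 h))))
  · exact Or.inr (Or.inr (Or.inr (Or.inr ((Nat.prime_dvd_prime_iff_eq hr (by norm_num)).1 h))))

/-- The exponents bounding element orders in `PSp(6,3)` and in `Sz(8):3`. -/
def expL : List ℕ := [24, 36, 30, 20, 14, 13]

/-- The exponents bounding element orders in `Sz(8):3`. -/
def expS : List ℕ := [4, 5, 7, 13, 12, 15]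

theorem prime_of_dvd_exp (r : ℕ) (hr : r.Prime) (m : ℕ) (hm : m ∈ expL ∨ m ∈ expS) (h : r ∣ m) :
    r = 2 ∨ r = 3 ∨ r = 5 ∨ r = 7 ∨ r = 13 := by
  apply prime_cases r hr
  refine Dvd.dvd.trans h ?_
  simp only [expL, expS, List.mem_cons, List.mem_nil_iff, or_false] at hm
  rcases hm with (rfl | rfl | rfl | rfl | rfl | rfl) | (rfl | rfl | rfl | rfl | rfl | rfl) <;> decide

theorem edge_L (r s : ℕ) (hr : r.Prime) (hs : s.Prime) (hrs : r ≠ s) (m : ℕ) (hm : m ∈ expL)
    (h : r * s ∣ m) : r * s = 6 ∨ r * s = 10 ∨ r * s = 15 ∨ r * s = 14 := by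
  have h1 := prime_of_dvd_exp r hr m (Or.inl hm) (Dvd.dvd.trans (Dvd.intro _ rfl) h)
  have h2 := prime_of_dvd_exp s hs m (Or.inl hm) (Dvd.dvd.trans (Dvd.intro_left _ rfl) h)
  simp only [expL, List.mem_cons, List.mem_nil_iff, or_false] at hm
  rcases h1 with rfl | rfl | rfl | rfl | rfl <;> rcases h2 with rfl | rfl | rfl | rfl | rfl <;>
    rcases hm with rfl | rfl | rfl | rfl | rfl | rfl <;> omega

theorem edge_S (r s : ℕ) (hr : r.Prime) (hs : s.Prime) (hrs : r ≠ s) (m : ℕ) (hm : m ∈ expS)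
    (h : r * s ∣ m) : r * s = 6 ∨ r * s = 15 := by
  have h1 := prime_of_dvd_exp r hr m (Or.inr hm) (Dvd.dvd.trans (Dvd.intro _ rfl) h)
  have h2 := prime_of_dvd_exp s hs m (Or.inr hm) (Dvd.dvd.trans (Dvd.intro_left _ rfl) h)
  simp only [expS, List.mem_cons, List.mem_nil_iff, or_false] at hm
  rcases h1 with rfl | rfl | rfl | rfl | rfl <;> rcases h2 with rfl | rfl | rfl | rfl | rfl <;>
    rcases hm with rfl | rfl | rfl | rfl | rfl | rfl <;> omega

theorem dvd_exp_of_pow {X : Type*} [Group X] (x : X) (l : List ℕ) (h : ∃ m ∈ l, x ^ m = 1) :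
    ∃ m ∈ l, orderOf x ∣ m := by
  obtain ⟨m, hm, hx⟩ := h
  exact ⟨m, hm, orderOf_dvd_of_pow_eq_one hx⟩

theorem expL_of {F : Type*} [Field F] [Fintype F] (hF : Fintype.card F = 3) (x : Cfsg.PSp 3 F) :
    ∃ m ∈ expL, orderOf x ∣ m := by
  apply dvd_exp_of_pow
  rcases psp_pow hF x with h | h | h | h | h | h
  · exact ⟨24, by simp [expL], h⟩
  · exact ⟨36, by simp [expL], h⟩
  · exact ⟨30, by simp [expL], h⟩
  · exact ⟨20, by simp [expL], h⟩
  · exact ⟨14, by simp [expL], h⟩
  · exact ⟨13, by simp [expL], h⟩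

theorem expS_of {K : Type*} [Field K] [CharP K 2] [Fintype K] (hK : Fintype.card K = 8)
    (x : SS K) : ∃ m ∈ expS, orderOf x ∣ m := by
  apply dvd_exp_of_pow
  rcases ss_pow K hK x with h | h | h | h | h | h
  · exact ⟨4, by simp [expS], h⟩
  · exact ⟨5, by simp [expS], h⟩
  · exact ⟨7, by simp [expS], h⟩
  · exact ⟨13, by simp [expS], h⟩
  · exact ⟨12, by simp [expS], h⟩
  · exact ⟨15, by simp [expS], h⟩

/-- Prime divisors of `|PSp(6,3)|`. -/
theorem L_prime {F : Type*} [Field F] [Fintype F] (hF : Fintype.card F = 3) (r : ℕ) (hr : r.Prime) :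
    r ∣ Nat.card (Cfsg.PSp 3 F) ↔ (r = 2 ∨ r = 3 ∨ r = 5 ∨ r = 7 ∨ r = 13) := by
  rw [prime_dvd_card_iff r hr]
  constructor
  · rintro ⟨x, hx⟩
    obtain ⟨m, hm, hdvd⟩ := expL_of hF x
    rw [hx] at hdvd
    exact prime_of_dvd_exp r hr m (Or.inl hm) hdvd
  · rintro (rfl | rfl | rfl | rfl | rfl)
    · exact exists_orderOf_of_dvd (by norm_num) (exists_orderOf_30 hF) (by norm_num)
    · exact exists_orderOf_of_dvd (by norm_num) (exists_orderOf_30 hF) (by norm_num)
    · exact exists_orderOf_of_dvd (by norm_num) (exists_orderOf_30 hF) (by norm_num)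
    · exact exists_orderOf_of_dvd (by norm_num) (exists_orderOf_14 hF) (by norm_num)
    · exact exists_orderOf_13 hF

/-- Edges of the prime graph of `PSp(6,3)`. -/
theorem L_edge {F : Type*} [Field F] [Fintype F] (hF : Fintype.card F = 3) (r s : ℕ) (hr : r.Prime)
    (hs : s.Prime) (hrs : r ≠ s) :
    (∃ x : Cfsg.PSp 3 F, orderOf x = r * s) ↔ (r * s = 6 ∨ r * s = 10 ∨ r * s = 15 ∨ r * s = 14) := by
  constructor
  · rintro ⟨x, hx⟩
    obtain ⟨m, hm, hdvd⟩ := expL_of hF x
    rw [hx] at hdvd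
    exact edge_L r s hr hs hrs m hm hdvd
  · rintro (h | h | h | h)
    · rw [h]
      exact exists_orderOf_of_dvd (by norm_num) (exists_orderOf_30 hF) (by norm_num)
    · rw [h]
      exact exists_orderOf_of_dvd (by norm_num) (exists_orderOf_30 hF) (by norm_num)
    · rw [h]
      exact exists_orderOf_of_dvd (by norm_num) (exists_orderOf_30 hF) (by norm_num)
    · rw [h]
      exact exists_orderOf_14 hF

theorem exists_order7 {K : Type*} [Field K] [CharP K 2] [Fintype K] (hK : Fintype.card K = 8) :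
    ∃ x : SS K, orderOf x = 7 := by
  obtain ⟨x, _, _, hx, _⟩ := exists_order7_fix K hK
  exact ⟨x, hx⟩

/-- Prime divisors of `|Sz(8):3|`. -/
theorem S_prime {K : Type*} [Field K] [CharP K 2] [Fintype K] (hK : Fintype.card K = 8) (r : ℕ)
    (hr : r.Prime) : r ∣ Nat.card (SS K) ↔ (r = 2 ∨ r = 3 ∨ r = 5 ∨ r = 7 ∨ r = 13) := by
  rw [prime_dvd_card_iff r hr]
  constructor
  · rintro ⟨x, hx⟩
    obtain ⟨m, hm, hdvd⟩ := expS_of hK x
    rw [hx] at hdvd
    exact prime_of_dvd_exp r hr m (Or.inr hm) hdvd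
  · rintro (rfl | rfl | rfl | rfl | rfl)
    · exact exists_orderOf_of_dvd (by norm_num) (exists_order6 K hK) (by norm_num)
    · exact exists_orderOf_of_dvd (by norm_num) (exists_order6 K hK) (by norm_num)
    · exact exists_orderOf_of_dvd (by norm_num) (exists_order15 K hK) (by norm_num)
    · exact exists_order7 hK
    · exact exists_order13 K hK

/-- Edges of the prime graph of `Sz(8):3`. -/
theorem S_edge {K : Type*} [Field K] [CharP K 2] [Fintype K] (hK : Fintype.card K = 8) (r s : ℕ)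
    (hr : r.Prime) (hs : s.Prime) (hrs : r ≠ s) :
    (∃ x : SS K, orderOf x = r * s) ↔ (r * s = 6 ∨ r * s = 15) := by
  constructor
  · rintro ⟨x, hx⟩
    obtain ⟨m, hm, hdvd⟩ := expS_of hK x
    rw [hx] at hdvd
    exact edge_S r s hr hs hrs m hm hdvd
  · rintro (h | h)
    · rw [h]
      exact exists_order6 K hK
    · rw [h]
      exact exists_order15 K hK

theorem odd_primes_mul (r s : ℕ) (hr : r.Prime) (hs : s.Prime) (hrs : r ≠ s) (hr2 : r ≠ 2)
    (hs2 : s ≠ 2) : (r * s = 6 ∨ r * s = 10 ∨ r * s = 15 ∨ r * s = 14) ↔ (r * s = 6 ∨ r * s = 15) := by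
  have hr3 : 3 ≤ r := by
    have := hr.two_le
    omega
  have hs3 : 3 ≤ s := by
    have := hs.two_le
    omega
  constructor
  · rintro (h | h | h | h)
    · exact Or.inl h
    · exfalso
      have h1 : r ≤ 4 := by nlinarith
      have h2 : s ≤ 4 := by nlinarith
      interval_cases r <;> interval_cases s <;> omega
    · exact Or.inr h
    · exfalso
      have h1 : r ≤ 4 := by nlinarith
      have h2 : s ≤ 4 := by nlinarith
      interval_cases r <;> interval_cases s <;> omega
  · rintro (h | h)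
    · exact Or.inl h
    · exact Or.inr (Or.inr (Or.inl h))

theorem two_mul_cases (r : ℕ) (hr : r.Prime) (hr2 : r ≠ 2)
    (h : 2 * r = 6 ∨ 2 * r = 10 ∨ 2 * r = 15 ∨ 2 * r = 14) : r = 3 ∨ r = 5 ∨ r = 7 := by
  omega

/-- The prime graph of a finite group has the prime divisors of its order as vertices, two distinct primes p, q being joined when the group has an element of order pq; two groups have the same prime graph when they have the same prime divisors and the same joined pairs. Let F be the field with 3 elements and L = PSp(6,F). There are finite groups of arbitrarily large order with the same prime graph as L (a prime graph shared by the orthogonal groups Ω₇(3) and PΩ⁺₈(3)). -/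
theorem result {F : Type*} [Field F] [Fintype F] (hF : Fintype.card F = 3) (N : ℕ) :
    ∃ (H : Type) (_ : Group H) (_ : Finite H), N < Nat.card H ∧
      ((∀ p : ℕ, p.Prime → (p ∣ Nat.card (Cfsg.PSp 3 F) ↔ p ∣ Nat.card H)) ∧
      (∀ p q : ℕ, p.Prime → q.Prime → p ≠ q → ((∃ g : (Cfsg.PSp 3 F), orderOf g = p * q) ↔ (∃ g : H, orderOf g = p * q)))) := by
  letI : Fintype (GaloisField 2 3) := Fintype.ofFinite _
  have hK : Fintype.card (GaloisField 2 3) = 8 := by
    have := GaloisField.card 2 3 (by norm_num)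
    rw [Nat.card_eq_fintype_card] at this
    simpa using this
  have h2K : (2 : GaloisField 2 3) = 0 := two_zero (GaloisField 2 3)
  obtain ⟨H, hG, hFin, hN, hS⟩ := exists_large_of_data (L := Cfsg.PSp 3 F)
    (actHom (GaloisField 2 3)) 2 Nat.prime_two
    (by
      intro n
      apply Multiplicative.toAdd.injective
      rw [toAdd_pow, toAdd_one, two_nsmul]
      ext i j
      simp only [Matrix.add_apply, Matrix.zero_apply]
      linear_combination (Multiplicative.toAdd n i j) * h2K)
    ((S_prime hK 2 Nat.prime_two).2 (Or.inl rfl))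
    (fun r hr => (L_prime hF r hr).trans (S_prime hK r hr).symm)
    (fun r s hr hs hrs hr2 hs2 => by
      rw [L_edge hF r s hr hs hrs, S_edge hK r s hr hs hrs]
      exact odd_primes_mul r s hr hs hrs hr2 hs2)
    (by
      intro r hr hr2
      rw [L_edge hF 2 r Nat.prime_two hr (Ne.symm hr2), S_edge hK 2 r Nat.prime_two hr (Ne.symm hr2)]
      constructor
      · intro h
        rcases two_mul_cases r hr hr2 h with rfl | rfl | rfl
        · exact Or.inl (Or.inl rfl)
        · obtain ⟨x, Y, hY, hx, hfix⟩ := exists_order5_fix (GaloisField 2 3) hK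
          refine Or.inr ⟨x, Multiplicative.ofAdd Y, ?_, hx, ?_⟩
          · intro h1
            exact hY (congrArg Multiplicative.toAdd h1)
          · rw [actHom_apply, toAdd_ofAdd, hfix]
        · obtain ⟨x, Y, hY, hx, hfix⟩ := exists_order7_fix (GaloisField 2 3) hK
          refine Or.inr ⟨x, Multiplicative.ofAdd Y, ?_, hx, ?_⟩
          · intro h1
            exact hY (congrArg Multiplicative.toAdd h1)
          · rw [actHom_apply, toAdd_ofAdd, hfix]
      · rintro (h | ⟨g, n, hn, hg, hfix⟩)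
        · rcases h with h | h
          · exact Or.inl h
          · exact Or.inr (Or.inr (Or.inl h))
        · obtain ⟨m, hm, hdvd⟩ := expS_of hK g
          rw [hg] at hdvd
          rcases prime_of_dvd_exp r hr m (Or.inr hm) hdvd with rfl | rfl | rfl | rfl | rfl
          · exact absurd rfl hr2
          · exact Or.inl rfl
          · exact Or.inr (Or.inl rfl)
          · exact Or.inr (Or.inr (Or.inr rfl))
          · exfalso
            apply hn
            have h1 := congrArg Multiplicative.toAdd hfix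
            rw [actHom_apply, toAdd_ofAdd] at h1
            have h0 := fpf13 (GaloisField 2 3) hK g hg _ h1
            apply Multiplicative.toAdd.injective
            rw [h0, toAdd_one]) N
  exact ⟨H, hG, hFin, hN, hS⟩

end Cfsg.Agent.S3664
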