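import Cfsg.Statements.S4493
import Cfsg.Agent.Lib.Helper80.ItoConv
import Cfsg.Agent.S0169

set_option autoImplicit false
open Cfsg

namespace Cfsg.Agent.S4493

/-- Let G be a finite solvable group and p a prime. Then G has a normal abelian Sylow p-subgroup if and only if no irreducible character degree of G is divisible by p. -/
theorem result {G : Type*} [Group G] [Finite G] (hsolv : Group.IsSolvable G) (p : ℕ) (hp : p.Prime) : (∃ P : Subgroup G, P.Normal ∧ (∀ x ∈ P, ∀ y ∈ P, x * y = y * x) ∧ IsPGroup p P ∧ ¬ p ∣ P.index) ↔ ∀ χ : Cfsg.IrrCharacter G, ¬ p ∣ Cfsg.charDegree (χ : G → ℂ) := by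
  have := Fact.mk hp
  constructor
  · rintro ⟨P, hPn, hPc, -, hPi⟩ χ hd
    obtain ⟨n, ρ, hρ, hχ⟩ := χ.2
    have := hPn
    have := hρ
    have h1 := Cfsg.Agent.S0169.result ρ P hPc
    have h2 : Cfsg.charDegree (χ : G → ℂ) = Module.finrank ℂ (Fin n → ℂ) := by
      rw [← hχ]
      exact Cfsg.Agent.Lib.Helper80.Integrality.charDegree_eq_finrank ρ
    rw [h2] at hd
    exact hPi (hd.trans h1)
  · intro h
    obtain ⟨P, hPn, hPc⟩ := Cfsg.Agent.Lib.Helper80.ItoConv.ito_conv_solvable hsolv p h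
    exact ⟨P, hPn, hPc, P.isPGroup', P.not_dvd_index⟩

end Cfsg.Agent.S4493
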