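import Cfsg.Statements.S3669
import Cfsg.Agent.S0157
import Cfsg.Agent.S4493
import Cfsg.Agent.S0494
import Cfsg.Agent.Lib.Helper91.Hall
import Cfsg.Agent.Lib.Helper56.SmallSolvable
import Cfsg.Agent.Lib.Helper99.SylAct
-- import your own Cfsg.Agent.* helpers here

set_option autoImplicit false
open Cfsg

namespace Cfsg.Agent.S3669

open Subgroup MulAction Cfsg.Agent.Lib.Helper99.SylAct

/-- Sylow `p`-subgroups of order `p`, `p + 1` of them: the action on them is `2`-transitive. -/
theorem two_trans_sylow {G : Type*} [Group G] [Finite G] (p : ℕ) [Fact p.Prime]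
    (hp : ∀ P : Sylow p G, Nat.card P = p) (hn : Nat.card (Sylow p G) = p + 1) :
    IsMultiplyPretransitive G (Sylow p G) 2 := by
  have hpr : p.Prime := Fact.out
  have key : ∀ P Q R : Sylow p G, Q ≠ P → R ≠ P → ∃ g : G, g ∈ (P : Subgroup G) ∧ g • Q = R := by
    intro P Q R hQ hR
    have h1 : (orbit (P : Subgroup G) Q).ncard = p := by
      rw [ncard_orbit_subgroup]
      have hd : (normalizer (Q : Set G)).relIndex (P : Subgroup G) ∣ p := by
        have := Subgroup.relIndex_dvd_card (normalizer (Q : Set G)) (P : Subgroup G)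
        rwa [hp P] at this
      rcases (Nat.dvd_prime hpr).mp hd with h | h
      · exfalso
        have hle : (P : Subgroup G) ≤ normalizer (Q : Set G) := Subgroup.relIndex_eq_one.mp h
        have hle2 := le_sylow_of_le_normalizer P.isPGroup' Q hle
        have := P.is_maximal' Q.isPGroup' hle2
        exact hQ (Sylow.ext this)
      · exact h
    have h2 : orbit (P : Subgroup G) Q ⊆ ({P} : Set (Sylow p G))ᶜ := by
      rintro _ ⟨⟨g, hg⟩, rfl⟩ hmem
      have hmem' : g • Q = P := hmem
      have hgP : g • P = P := Sylow.smul_eq_iff_mem_normalizer.mpr (le_normalizer hg)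
      rw [← hgP] at hmem'
      exact hQ (smul_left_cancel g hmem')
    have h3 : ({P} : Set (Sylow p G))ᶜ.ncard = p := by
      rw [Set.ncard_compl, Set.ncard_singleton, hn]
      omega
    have h4 : orbit (P : Subgroup G) Q = ({P} : Set (Sylow p G))ᶜ :=
      Set.eq_of_subset_of_ncard_le h2 (by rw [h1, h3]) (Set.toFinite _)
    have hRm : R ∈ orbit (P : Subgroup G) Q := by
      rw [h4]
      exact hR
    obtain ⟨⟨g, hg⟩, hgR⟩ := hRm
    exact ⟨g, hg, hgR⟩
  rw [is_two_pretransitive_iff]
  intro a b c d hab hcd
  obtain ⟨g, hg⟩ := exists_smul_eq G a c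
  have hne : g • b ≠ c := by
    rw [← hg]
    intro h
    exact hab (smul_left_cancel g h).symm
  obtain ⟨h, hh, hhd⟩ := key c (g • b) d hne (Ne.symm hcd)
  refine ⟨h * g, ?_, ?_⟩
  · rw [mul_smul, hg]
    exact Sylow.smul_eq_iff_mem_normalizer.mpr (le_normalizer hh)
  · rw [mul_smul, hhd]

/-- `A₅` has an irreducible character of degree `5`. -/
theorem five_mem_degreePrimes_alt :
    (5 : ℕ) ∈ Cfsg.degreePrimes (alternatingGroup (Fin 5)) := by
  have : Fact (Nat.Prime 5) := ⟨by norm_num⟩
  have hcard : Nat.card (alternatingGroup (Fin 5)) = 60 := by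
    have h := two_mul_card_alternatingGroup (α := Fin 5)
    rw [Nat.card_eq_fintype_card]
    simp only [Fintype.card_perm, Fintype.card_fin] at h
    have : Nat.factorial 5 = 120 := by decide
    omega
  have hfac : (60 : ℕ).factorization 5 = 1 := by
    have : (60 : ℕ) = 5 ^ 1 * 12 := by norm_num
    rw [this, Nat.factorization_mul (by norm_num) (by norm_num), Nat.Prime.factorization_pow (by norm_num)]
    simp
    exact Nat.factorization_eq_zero_of_not_dvd (by norm_num)
  have hp : ∀ P : Sylow 5 (alternatingGroup (Fin 5)), Nat.card P = 5 := by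
    intro P
    rw [Sylow.card_eq_multiplicity, hcard, hfac, pow_one]
  have hsimple : IsSimpleGroup (alternatingGroup (Fin 5)) := alternatingGroup.isSimpleGroup (by simp)
  have hn : Nat.card (Sylow 5 (alternatingGroup (Fin 5))) = 5 + 1 := by
    obtain ⟨P⟩ : Nonempty (Sylow 5 (alternatingGroup (Fin 5))) := inferInstance
    have h1 := card_sylow_modEq_one 5 (alternatingGroup (Fin 5))
    have h2 := Sylow.card_dvd_index P
    have h3 : (P : Subgroup (alternatingGroup (Fin 5))).index = 12 := by
      have := Subgroup.card_mul_index (P : Subgroup (alternatingGroup (Fin 5)))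
      rw [hcard, hp P] at this
      omega
    rw [h3] at h2
    have h4 : Nat.card (Sylow 5 (alternatingGroup (Fin 5))) ≤ 12 := Nat.le_of_dvd (by norm_num) h2
    have h5 : Nat.card (Sylow 5 (alternatingGroup (Fin 5))) ≠ 1 := by
      intro h
      have hN : (normalizer ((P : Subgroup (alternatingGroup (Fin 5))) : Set (alternatingGroup (Fin 5)))).index = 1 := by
        have hc := Sylow.card_eq_index_normalizer P
        rw [h] at hc
        exact hc.symm
      have hN2 := Subgroup.index_eq_one.mp hN
      have hnorm : (P : Subgroup (alternatingGroup (Fin 5))).Normal := Subgroup.normalizer_eq_top_iff.mp hN2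
      rcases hnorm.eq_bot_or_eq_top with hb | ht
      · have := hp P
        rw [show Nat.card P = Nat.card (P : Subgroup (alternatingGroup (Fin 5))) from rfl, hb,
          Subgroup.card_bot] at this
        omega
      · have := hp P
        rw [show Nat.card P = Nat.card (P : Subgroup (alternatingGroup (Fin 5))) from rfl, ht,
          Subgroup.card_top, hcard] at this
        omega
    have h6 := h1
    unfold Nat.ModEq at h6
    generalize Nat.card (Sylow 5 (alternatingGroup (Fin 5))) = n at *
    interval_cases n <;> simp_all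
  have h2t := two_trans_sylow (G := alternatingGroup (Fin 5)) 5 hp hn
  have hirr := (Cfsg.Agent.S0157.result (G := alternatingGroup (Fin 5))
    (Sylow 5 (alternatingGroup (Fin 5))) (by rw [hn]; norm_num)).mpr h2t
  refine ⟨by norm_num, 5, ⟨⟨_, hirr⟩, ?_⟩, dvd_rfl⟩
  show ⌊((Nat.card (fixedBy (Sylow 5 (alternatingGroup (Fin 5))) (1 : alternatingGroup (Fin 5))) : ℂ) - 1).re⌋₊ = 5
  have : fixedBy (Sylow 5 (alternatingGroup (Fin 5))) (1 : alternatingGroup (Fin 5)) = Set.univ := by
    ext Q
    simp
  rw [this, Nat.card_coe_set_eq, Set.ncard_univ, hn]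
  norm_num

/-- A solvable group of order `60` has a normal abelian Sylow `5`-subgroup. -/
theorem solvable_sixty {G : Type*} [Group G] [Finite G] (hcard : Nat.card G = 60)
    (hs : Group.IsSolvable G) :
    ∃ P : Subgroup G, P.Normal ∧ (∀ x ∈ P, ∀ y ∈ P, x * y = y * x) ∧ IsPGroup 5 P ∧ ¬ 5 ∣ P.index := by
  have : Fact (Nat.Prime 5) := ⟨by norm_num⟩
  have hfac : (60 : ℕ).factorization 5 = 1 := by
    have : (60 : ℕ) = 5 ^ 1 * 12 := by norm_num
    rw [this, Nat.factorization_mul (by norm_num) (by norm_num), Nat.Prime.factorization_pow (by norm_num)]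
    simp
    exact Nat.factorization_eq_zero_of_not_dvd (by norm_num)
  have hp : ∀ P : Sylow 5 G, Nat.card P = 5 := by
    intro P
    rw [Sylow.card_eq_multiplicity, hcard, hfac, pow_one]
  obtain ⟨H, hH⟩ := Cfsg.Agent.Lib.Helper91.Hall.hall_exists (G := G) 15 4 (by rw [hcard]) (by decide)
  -- an element of order 5 in H
  obtain ⟨x, hx⟩ := exists_prime_orderOf_dvd_card' (G := H) 5 (by rw [hH]; norm_num)
  have hx' : orderOf (x : G) = 5 := by
    rw [← hx]
    exact (Subgroup.orderOf_coe x)
  have hZ : IsPGroup 5 (zpowers (x : G)) := by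
    rw [IsPGroup.iff_card]
    exact ⟨1, by rw [Nat.card_zpowers, hx', pow_one]⟩
  obtain ⟨P, hP⟩ := hZ.exists_le_sylow
  have hPeq : zpowers (x : G) = (P : Subgroup G) := by
    apply Subgroup.eq_of_le_of_card_ge hP
    rw [Nat.card_zpowers, hx']
    exact (hp P).le
  have hPH : (P : Subgroup G) ≤ H := by
    rw [← hPeq, zpowers_le]
    exact x.2
  -- the number of Sylow 5-subgroups of H is 1
  have hnH : Nat.card (Sylow 5 H) = 1 := by
    have h1 := card_sylow_modEq_one 5 H
    have h2 := Sylow.card_dvd_index (P.subtype hPH)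
    have h3 : ((P.subtype hPH : Sylow 5 H) : Subgroup H).index = 3 := by
      have := Subgroup.card_mul_index ((P.subtype hPH : Sylow 5 H) : Subgroup H)
      rw [hH] at this
      have h5 : Nat.card ((P.subtype hPH : Sylow 5 H) : Subgroup H) = 5 := by
        have := Sylow.card_eq_multiplicity (P.subtype hPH)
        rw [hH] at this
        have hfac15 : (15 : ℕ).factorization 5 = 1 := by
          have : (15 : ℕ) = 5 ^ 1 * 3 := by norm_num
          rw [this, Nat.factorization_mul (by norm_num) (by norm_num), Nat.Prime.factorization_pow (by norm_num)]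
          simp
          exact Nat.factorization_eq_zero_of_not_dvd (by norm_num)
        rw [hfac15, pow_one] at this
        exact this
      rw [h5] at this
      omega
    rw [h3] at h2
    have h4 : Nat.card (Sylow 5 H) ≤ 3 := Nat.le_of_dvd (by norm_num) h2
    unfold Nat.ModEq at h1
    generalize Nat.card (Sylow 5 H) = n at *
    interval_cases n <;> simp_all
  rw [card_sylow_subgroup H P hPH] at hnH
  have hHN : H ≤ normalizer (P : Set G) := Subgroup.relIndex_eq_one.mp hnH
  have hdvd : 15 ∣ Nat.card (normalizer (P : Set G)) := by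
    rw [← hH]
    exact Subgroup.card_dvd_of_le hHN
  have hidx : (normalizer (P : Set G)).index = 1 := by
    have h1 := card_sylow_modEq_one 5 G
    rw [Sylow.card_eq_index_normalizer P] at h1
    have h2 := Subgroup.card_mul_index (normalizer (P : Set G))
    rw [hcard] at h2
    obtain ⟨k, hk⟩ := hdvd
    rw [hk] at h2
    have h3 : (normalizer (P : Set G)).index ∣ 4 := by
      refine ⟨k, ?_⟩
      nlinarith
    have h4 : (normalizer (P : Set G)).index ≤ 4 := Nat.le_of_dvd (by norm_num) h3
    unfold Nat.ModEq at h1
    generalize (normalizer (P : Set G)).index = n at *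
    interval_cases n <;> simp_all
  have hnormal : (P : Subgroup G).Normal :=
    Subgroup.normalizer_eq_top_iff.mp (Subgroup.index_eq_one.mp hidx)
  refine ⟨P, hnormal, ?_, P.isPGroup', P.not_dvd_index⟩
  intro a ha b hb
  have hcyc : IsCyclic (P : Subgroup G) := isCyclic_of_prime_card (p := 5) (hp P)
  have := (IsCyclic.isMulCommutative (α := (P : Subgroup G))).is_comm.comm ⟨a, ha⟩ ⟨b, hb⟩
  exact congrArg Subtype.val this

/-- The character degree graph of a finite group has as vertices the primes dividing some irreducible complex character degree, two distinct primes being joined when their product divides some irreducible character degree; two groups have the same character degree graph when they have the same vertices and the same joined pairs. A finite group of order 60 with the same character degree graph as the alternating group A₅ (whose character degrees are 1, 3, 4, 5, so the graph has vertices 2, 3, 5 and no edges) is isomorphic to A₅. -/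
theorem result {G : Type*} [Group G] [Finite G] (hcard : Nat.card G = 60)
    (hΓ : Cfsg.degreePrimes G = Cfsg.degreePrimes (alternatingGroup (Fin 5)) ∧ Cfsg.degreeGraph G = Cfsg.degreeGraph (alternatingGroup (Fin 5))) : Nonempty (G ≃* alternatingGroup (Fin 5)) := by
  have h5 : (5 : ℕ) ∈ Cfsg.degreePrimes G := by
    rw [hΓ.1]
    exact five_mem_degreePrimes_alt
  obtain ⟨-, d, ⟨χ, rfl⟩, hd⟩ := h5
  have hns : ¬ Group.IsSolvable G := by
    intro hs
    exact ((Cfsg.Agent.S4493.result hs 5 (by norm_num)).mp (solvable_sixty hcard hs)) χ hd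
  have := Cfsg.Agent.Lib.Helper56.SmallSolvable.isSimpleGroup_of_card_60 hcard hns
  exact Cfsg.Agent.S0494.result hcard

end Cfsg.Agent.S3669
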