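import Cfsg.Statements.S5895
import Cfsg.Agent.Lib.Helper98.Coatom
-- import your own Cfsg.Agent.* helpers here

set_option autoImplicit false
set_option linter.unusedSectionVars false
open Cfsg

namespace Cfsg.Agent.S5895

open Cfsg.Agent.Lib.Helper98.Coatom
open scoped Pointwise

section general

variable {k V : Type} [Field k] [AddCommGroup V] [Module k V] [Finite V]

/-- linearly independent families of the same shape are conjugate under `GL(V)` -/
lemma exists_linearEquiv_apply_eq {ι : Type} {v v' : ι → V} (hv : LinearIndependent k v)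
    (hv' : LinearIndependent k v') : ∃ g : V ≃ₗ[k] V, ∀ i, g (v i) = v' i := by
  let f := hv.linearCombinationEquiv.symm ≪≫ₗ hv'.linearCombinationEquiv
  obtain ⟨g, hg⟩ := Submodule.exists_linearEquiv_restrict_eq f
  refine ⟨g, fun i => ?_⟩
  have h1 : (hv.linearCombinationEquiv (Finsupp.single i 1) : V) = v i := by simp
  have h2 : (hv'.linearCombinationEquiv (Finsupp.single i 1) : V) = v' i := by simp
  rw [← h1, ← hg, ← h2]
  simp [f]

lemma exists_linearEquiv_apply_eq_one {x y : V} (hx : x ≠ 0) (hy : y ≠ 0) :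
    ∃ g : V ≃ₗ[k] V, g x = y := by
  have h1 : LinearIndependent k (fun _ : Unit => x) := by
    rw [linearIndependent_unique_iff]; exact hx
  have h2 : LinearIndependent k (fun _ : Unit => y) := by
    rw [linearIndependent_unique_iff]; exact hy
  obtain ⟨g, hg⟩ := exists_linearEquiv_apply_eq h1 h2
  exact ⟨g, hg ()⟩

lemma exists_linearEquiv_apply_eq_two {w x y : V} (hw : w ≠ 0) (hx : ∀ a : k, a • w ≠ x)
    (hy : ∀ a : k, a • w ≠ y) : ∃ g : V ≃ₗ[k] V, g x = y ∧ g w = w := by
  have h1 : LinearIndependent k ![x, w] := by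
    rw [linearIndependent_fin2]; exact ⟨hw, hx⟩
  have h2 : LinearIndependent k ![y, w] := by
    rw [linearIndependent_fin2]; exact ⟨hw, hy⟩
  obtain ⟨g, hg⟩ := exists_linearEquiv_apply_eq h1 h2
  exact ⟨g, hg 0, hg 1⟩

/-- the stabilizer of the line spanned by `w` -/
def P (w : V) : Subgroup (V ≃ₗ[k] V) :=
  MulAction.stabilizer (V ≃ₗ[k] V) (((k ∙ w) : Submodule k V) : Set V)

lemma mem_P {w : V} {A : V ≃ₗ[k] V} : A ∈ P (k := k) w ↔ ∃ a : k, a • w = A w := by
  constructor
  · intro hA
    have h1 : A • w ∈ A • (((k ∙ w) : Submodule k V) : Set V) :=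
      Set.smul_mem_smul_set (Submodule.mem_span_singleton_self w)
    have hA' : A • (((k ∙ w) : Submodule k V) : Set V) = _ := hA
    rw [hA'] at h1
    exact Submodule.mem_span_singleton.mp h1
  · rintro ⟨a, ha⟩
    apply smul_set_eq_of_forall_mem
    intro x hx
    obtain ⟨c, rfl⟩ := Submodule.mem_span_singleton.mp hx
    rw [LinearEquiv.smul_def, map_smul, ← ha, smul_smul]
    exact Submodule.mem_span_singleton.mpr ⟨_, rfl⟩

lemma P_isCoatom {w u : V} (hw : w ≠ 0) (hu : ∀ a : k, a • w ≠ u) :
    IsCoatom (P (k := k) w) := by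
  constructor
  · intro htop
    have hu0 : u ≠ 0 := by
      intro h0
      apply hu 0
      rw [zero_smul, h0]
    have hu' : ∀ a : k, a • u ≠ w := by
      intro a ha
      have ha0 : a ≠ 0 := by
        rintro rfl
        rw [zero_smul] at ha
        exact hw ha.symm
      apply hu a⁻¹
      rw [← ha, smul_smul, inv_mul_cancel₀ ha0, one_smul]
    have h1 : LinearIndependent k ![u, w] := by
      rw [linearIndependent_fin2]; exact ⟨hw, hu⟩
    have h2 : LinearIndependent k ![w, u] := by
      rw [linearIndependent_fin2]; exact ⟨hu0, hu'⟩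
    obtain ⟨g, hg⟩ := exists_linearEquiv_apply_eq h1 h2
    have hgP : g ∈ P (k := k) w := htop ▸ Subgroup.mem_top g
    obtain ⟨a, ha⟩ := mem_P.mp hgP
    have h3 : g w = u := hg 1
    rw [h3] at ha
    exact hu a ha
  · intro X hX
    obtain ⟨g, hgX, hgP⟩ := SetLike.exists_of_lt hX
    have hg : ∀ a : k, a • w ≠ g w := fun a ha => hgP (mem_P.mpr ⟨a, ha⟩)
    rw [eq_top_iff]
    intro A _
    by_cases hA : A ∈ P (k := k) w
    · exact hX.le hA
    · have hA' : ∀ a : k, a • w ≠ A w := fun a ha => hA (mem_P.mpr ⟨a, ha⟩)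
      obtain ⟨h, h1, h2⟩ := exists_linearEquiv_apply_eq_two hw hg hA'
      have hh : h ∈ P (k := k) w := mem_P.mpr ⟨1, by rw [one_smul, h2]⟩
      have hb : (h * g)⁻¹ * A ∈ P (k := k) w := by
        apply mem_P.mpr
        refine ⟨1, ?_⟩
        rw [one_smul]
        have h3 : A w = (h * g) w := by rw [LinearEquiv.mul_apply, h1]
        have h4 : ((h * g)⁻¹ * A) w = (h * g)⁻¹ (A w) := rfl
        rw [h4, h3]
        exact ((h * g).symm_apply_apply w).symm
      have hA2 : A = h * g * ((h * g)⁻¹ * A) := by group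
      rw [hA2]
      exact X.mul_mem (X.mul_mem (hX.le hh) hgX) (hX.le hb)

/-- linear maps as affine maps -/
def φ : (V ≃ₗ[k] V) →* (V ≃ᵃ[k] V) where
  toFun A := A.toAffineEquiv
  map_one' := by ext x; rfl
  map_mul' A B := by ext x; rfl

@[simp] lemma φ_apply (A : V ≃ₗ[k] V) (x : V) : φ A x = A x := rfl

@[simp] lemma linearHom_φ (A : V ≃ₗ[k] V) : AffineEquiv.linearHom (φ A) = A := rfl

lemma φ_injective : Function.Injective (φ (k := k) (V := V)) := by
  intro A B h
  have h1 : AffineEquiv.linearHom (φ A) = AffineEquiv.linearHom (φ B) := congrArg _ h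
  exact h1

lemma linearHom_surjective :
    Function.Surjective (AffineEquiv.linearHom (k := k) (P₁ := V)) :=
  fun A => ⟨φ A, linearHom_φ A⟩

lemma apply_eq (σ : V ≃ᵃ[k] V) (x : V) : σ x = AffineEquiv.linearHom σ x + σ 0 := by
  have h := σ.map_vadd 0 x
  simpa using h

lemma mem_range_φ {σ : V ≃ᵃ[k] V} : σ ∈ (φ (k := k) (V := V)).range ↔ σ 0 = 0 := by
  constructor
  · rintro ⟨A, rfl⟩
    simp
  · intro h
    refine ⟨AffineEquiv.linearHom σ, ?_⟩
    ext x
    rw [φ_apply, apply_eq σ x, h, add_zero]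

/-- translations -/
def τ (v : V) : V ≃ᵃ[k] V := AffineEquiv.constVAdd k V v

@[simp] lemma τ_apply (v x : V) : τ (k := k) v x = v + x := rfl

@[simp] lemma linearHom_τ (v : V) : AffineEquiv.linearHom (τ (k := k) v) = 1 := rfl

lemma range_φ_isCoatom {w : V} (hw : w ≠ 0) : IsCoatom (φ (k := k) (V := V)).range := by
  constructor
  · intro htop
    have h : τ (k := k) w ∈ (φ (k := k) (V := V)).range := htop ▸ Subgroup.mem_top _
    rw [mem_range_φ, τ_apply, add_zero] at h
    exact hw h
  · intro X hX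
    obtain ⟨g, hgX, hgM⟩ := SetLike.exists_of_lt hX
    have hg0 : g 0 ≠ 0 := fun h => hgM (mem_range_φ.mpr h)
    rw [eq_top_iff]
    intro a _
    by_cases ha : a 0 = 0
    · exact hX.le (mem_range_φ.mpr ha)
    · obtain ⟨A, hA⟩ := exists_linearEquiv_apply_eq_one (k := k) hg0 ha
      have hb : (φ A * g)⁻¹ * a ∈ (φ (k := k) (V := V)).range := by
        rw [mem_range_φ]
        have h1 : (φ A * g) 0 = a 0 := by
          rw [AffineEquiv.coe_mul, Function.comp_apply, φ_apply, hA]
        rw [AffineEquiv.coe_mul, Function.comp_apply, ← h1]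
        exact (φ A * g).symm_apply_apply 0
      have ha2 : a = φ A * g * ((φ A * g)⁻¹ * a) := by group
      rw [ha2]
      exact X.mul_mem (X.mul_mem (hX.le ⟨A, rfl⟩) hgX) (hX.le hb)

/-- the natural action of the affine group -/
@[reducible] def act : MulAction (V ≃ᵃ[k] V) V where
  smul σ x := σ x
  one_smul _ := rfl
  mul_smul _ _ _ := rfl

lemma index_range_φ : (φ (k := k) (V := V)).range.index = Nat.card V := by
  letI := act (k := k) (V := V)
  have hstab : (φ (k := k) (V := V)).range = MulAction.stabilizer (V ≃ᵃ[k] V) (0 : V) := by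
    ext σ
    rw [mem_range_φ, MulAction.mem_stabilizer_iff]
    rfl
  haveI : MulAction.IsPretransitive (V ≃ᵃ[k] V) V :=
    ⟨fun x y => ⟨τ (y - x), by show (y - x) + x = y; abel⟩⟩
  rw [hstab, MulAction.index_stabilizer_of_transitive]

theorem main {w u : V} (hw : w ≠ 0) (hu : ∀ a : k, a • w ≠ u) :
    ∃ (M H K : Subgroup (V ≃ᵃ[k] V)), IsCoatom M ∧ M.index = Nat.card V ∧ H ≤ M ∧
      IsCoatom (H.subgroupOf M) ∧ IsCoatom K ∧ H ≤ K ∧ ¬ IsCoatom (H.subgroupOf K) := by
  refine ⟨φ.range, (P w).map φ, (P w).comap AffineEquiv.linearHom, range_φ_isCoatom hw,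
    index_range_φ, Subgroup.map_le_range _ _,
    isCoatom_map_subgroupOf_range φ φ_injective (P_isCoatom hw hu),
    Subgroup.isCoatom_comap_of_surjective linearHom_surjective (P_isCoatom hw hu), ?_, ?_⟩
  · rintro _ ⟨A, hA, rfl⟩
    exact hA
  · intro hmax
    letI := act (k := k) (V := V)
    let L : Subgroup (V ≃ᵃ[k] V) :=
      MulAction.stabilizer (V ≃ᵃ[k] V) (((k ∙ w) : Submodule k V) : Set V)
    have hHL : (P (k := k) w).map φ ≤ L := by
      rintro _ ⟨A, hA, rfl⟩
      apply smul_set_eq_of_forall_mem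
      intro x hx
      have hA' : A • (((k ∙ w) : Submodule k V) : Set V) = _ := hA
      exact (mem_iff_of_smul_set_eq hA' x).mpr hx
    have hLK : L ≤ (P (k := k) w).comap AffineEquiv.linearHom := by
      intro σ hσ
      have hσ' : σ • (((k ∙ w) : Submodule k V) : Set V) = _ := hσ
      rw [Subgroup.mem_comap, mem_P]
      have h1 : σ w ∈ (k ∙ w : Submodule k V) :=
        (mem_iff_of_smul_set_eq hσ' w).mpr (Submodule.mem_span_singleton_self w)
      have h0 : σ 0 ∈ (k ∙ w : Submodule k V) :=
        (mem_iff_of_smul_set_eq hσ' 0).mpr (zero_mem _)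
      have h2 : AffineEquiv.linearHom σ w = σ w - σ 0 := by rw [apply_eq σ w]; abel
      have h3 : AffineEquiv.linearHom σ w ∈ (k ∙ w : Submodule k V) := by
        rw [h2]; exact sub_mem h1 h0
      exact Submodule.mem_span_singleton.mp h3
    have hLH : ¬ L ≤ (P (k := k) w).map φ := by
      intro hle
      have h1 : τ (k := k) w ∈ L := by
        apply smul_set_eq_of_forall_mem
        intro x hx
        show w + x ∈ (k ∙ w : Submodule k V)
        exact add_mem (Submodule.mem_span_singleton_self w) hx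
      have h2 := Subgroup.map_le_range _ _ (hle h1)
      rw [mem_range_φ, τ_apply, add_zero] at h2
      exact hw h2
    have hKL : ¬ (P (k := k) w).comap AffineEquiv.linearHom ≤ L := by
      intro hle
      have h1 : τ (k := k) u ∈ (P (k := k) w).comap AffineEquiv.linearHom := by
        rw [Subgroup.mem_comap, linearHom_τ]; exact one_mem _
      have h2 : τ (k := k) u • (((k ∙ w) : Submodule k V) : Set V) = _ := hle h1
      have h3 : τ (k := k) u (0 : V) ∈ (k ∙ w : Submodule k V) :=
        (mem_iff_of_smul_set_eq h2 0).mpr (zero_mem _)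
      rw [τ_apply, add_zero] at h3
      obtain ⟨a, ha⟩ := Submodule.mem_span_singleton.mp h3
      exact hu a ha
    exact hKL (le_of_isCoatom_subgroupOf hmax hHL hLK hLH)

end general

/-- For every prime p and every d ≥ 2 there is a finite group G with a maximal subgroup M of index p^d and a maximal subgroup H of M that is not second maximal in G: some maximal subgroup K of G contains H without H being maximal in K. (One may take G the affine group V ⋊ GL(V) of V = 𝔽_p^d, M = GL(V), H the stabiliser in M of a line W of V, and K = V ⋊ H, with H < W ⋊ H < K.) So the prime-index hypothesis in the second-maximality criterion cannot be relaxed to prime-power index. -/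
theorem result (p d : ℕ) (hp : p.Prime)
    (hd : 2 ≤ d) :
    ∃ (G : Type) (_ : Group G) (_ : Finite G) (M H K : Subgroup G), IsCoatom M ∧ M.index = p ^ d ∧ H ≤ M ∧
      IsCoatom (H.subgroupOf M) ∧ IsCoatom K ∧ H ≤ K ∧ ¬ IsCoatom (H.subgroupOf K) := by
  haveI : Fact p.Prime := ⟨hp⟩
  let i0 : Fin d := ⟨0, by omega⟩
  let i1 : Fin d := ⟨1, by omega⟩
  have h01 : i1 ≠ i0 := by simp [i0, i1, Fin.ext_iff]
  have hw : (Pi.single i0 1 : Fin d → ZMod p) ≠ 0 := by
    intro h
    have h1 := congrFun h i0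
    simp at h1
  have hu : ∀ a : ZMod p, a • (Pi.single i0 1 : Fin d → ZMod p) ≠ Pi.single i1 1 := by
    intro a h
    have h1 := congrFun h i1
    simp [h01] at h1
  obtain ⟨M, H, K, h1, h2, h3⟩ := main (k := ZMod p) hw hu
  haveI : Finite ((Fin d → ZMod p) ≃ᵃ[ZMod p] (Fin d → ZMod p)) :=
    Finite.of_injective (fun σ : (Fin d → ZMod p) ≃ᵃ[ZMod p] (Fin d → ZMod p) =>
      (σ : (Fin d → ZMod p) → (Fin d → ZMod p))) DFunLike.coe_injective
  refine ⟨(Fin d → ZMod p) ≃ᵃ[ZMod p] (Fin d → ZMod p), inferInstance, inferInstance, M, H, K,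
    h1, ?_, h3⟩
  rw [h2, Nat.card_fun, Nat.card_zmod, Nat.card_fin]

end Cfsg.Agent.S5895
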