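import Cfsg.Statements.S5913
-- import your own Cfsg.Agent.* helpers here


set_option autoImplicit false
open Cfsg

namespace Cfsg.Agent.S5913

/-- Let S be a non-abelian simple group and n a natural number. Every normal subgroup N of the direct power S^n (functions Fin n → S) is a subproduct: there is a set T of coordinates such that N consists exactly of the elements whose coordinates outside T are trivial. In particular the minimal normal subgroups of S^n are its n factors. -/
theorem result {S : Type*} [Group S] [IsSimpleGroup S] (hS : ¬ IsMulCommutative S) (n : ℕ)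
    (N : Subgroup (Fin n → S)) [N.Normal] :
    ∃ T : Finset (Fin n), ∀ x : Fin n → S, x ∈ N ↔ ∀ i, i ∉ T → x i = 1 := by
  classical
  have hNn : N.Normal := inferInstance
  refine ⟨Finset.univ.filter (fun i => ∃ y ∈ N, y i ≠ 1), fun x => ⟨?_, ?_⟩⟩
  · intro hx i hi
    by_contra h
    exact hi (Finset.mem_filter.mpr ⟨Finset.mem_univ _, x, hx, h⟩)
  · intro hx
    rw [← Finset.noncommProd_mulSingle x]
    apply Subgroup.noncommProd_mem
    intro i _
    by_cases hi : i ∈ Finset.univ.filter (fun i => ∃ y ∈ N, y i ≠ 1)
    · obtain ⟨-, y, hy, hyi⟩ := Finset.mem_filter.mp hi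
      -- the center of S is trivial
      have hZ : Subgroup.center S = ⊥ := by
        rcases IsSimpleGroup.eq_bot_or_eq_top_of_normal (Subgroup.center S) inferInstance with h | h
        · exact h
        · exfalso
          apply hS
          refine ⟨⟨fun a b => ?_⟩⟩
          have ha : a ∈ Subgroup.center S := h ▸ Subgroup.mem_top a
          rw [Subgroup.mem_center_iff] at ha
          exact (ha b).symm
      have hyZ : y i ∉ Subgroup.center S := by
        rw [hZ, Subgroup.mem_bot]; exact hyi
      rw [Subgroup.mem_center_iff] at hyZ
      obtain ⟨s, hs⟩ : ∃ s, ¬ s * y i = y i * s := by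
        by_contra h
        exact hyZ (fun g => not_not.mp (fun hg => h ⟨g, hg⟩))
      have hcomp : (N.comap (MonoidHom.mulSingle (fun _ : Fin n => S) i)) = ⊤ := by
        rcases IsSimpleGroup.eq_bot_or_eq_top_of_normal
          (N.comap (MonoidHom.mulSingle (fun _ : Fin n => S) i)) (hNn.comap _) with h | h
        · exfalso
          have hmem : y i * s * (y i)⁻¹ * s⁻¹ ∈ N.comap (MonoidHom.mulSingle (fun _ : Fin n => S) i) := by
            rw [Subgroup.mem_comap]
            have h1 : y * (Pi.mulSingle i s * y⁻¹ * (Pi.mulSingle i s)⁻¹) ∈ N :=
              N.mul_mem hy (hNn.conj_mem _ (N.inv_mem hy) _)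
            have h2 : MonoidHom.mulSingle (fun _ : Fin n => S) i (y i * s * (y i)⁻¹ * s⁻¹) =
                y * (Pi.mulSingle i s * y⁻¹ * (Pi.mulSingle i s)⁻¹) := by
              funext j
              by_cases hj : j = i
              · subst hj
                simp [mul_assoc]
              · simp [Pi.mulSingle_eq_of_ne hj]
            rw [h2]; exact h1
          rw [h, Subgroup.mem_bot] at hmem
          apply hs
          have : y i * s * (y i)⁻¹ * s⁻¹ * s * y i = s * y i := by rw [hmem, one_mul]
          rw [← this]; group
        · exact h
      have : x i ∈ N.comap (MonoidHom.mulSingle (fun _ : Fin n => S) i) := hcomp ▸ Subgroup.mem_top _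
      exact this
    · rw [hx i hi, Pi.mulSingle_one]
      exact N.one_mem

end Cfsg.Agent.S5913
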