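import Cfsg.Statements.S5914
import Cfsg.Agent.S5913
import Cfsg.Agent.S5895
-- import your own Cfsg.Agent.* helpers here

set_option autoImplicit false
set_option linter.style.haveILetI false
open Cfsg

namespace Cfsg.Agent.S5914

universe u

/-- characteristically simple (without the nontriviality requirement) -/
def CS (G : Type*) [Group G] : Prop := ∀ H : Subgroup G, H.Characteristic → H = ⊥ ∨ H = ⊤

lemma CS_of_mulEquiv {G G' : Type*} [Group G] [Group G'] (e : G ≃* G') (h : CS G') : CS G := by
  intro H hH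
  have hchar : (H.map e.toMonoidHom).Characteristic := by
    rw [Subgroup.characteristic_iff_map_le]
    intro ψ
    rintro _ ⟨_, ⟨x, hx, rfl⟩, rfl⟩
    have h1 := (Subgroup.characteristic_iff_map_le.mp hH) ((e.trans ψ).trans e.symm)
    have h2 : e.symm (ψ (e x)) ∈ H := h1 ⟨x, hx, rfl⟩
    exact ⟨e.symm (ψ (e x)), h2, by simp⟩
  rcases h _ hchar with h1 | h1
  · left
    exact (Subgroup.map_eq_bot_iff_of_injective H e.injective).mp h1
  · right
    rw [eq_top_iff]
    intro x _
    have h2 : e x ∈ H.map e.toMonoidHom := h1 ▸ Subgroup.mem_top _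
    obtain ⟨y, hy, hyx⟩ := h2
    have h3 : y = x := e.injective hyx
    rwa [← h3]

lemma CS_vec (p n : ℕ) [Fact p.Prime] : CS (Multiplicative (Fin n → ZMod p)) := by
  intro H hH
  by_cases hbot : H = ⊥
  · left; exact hbot
  right
  obtain ⟨x, hx1⟩ := (Subgroup.ne_bot_iff_exists_ne_one).mp hbot
  rw [eq_top_iff]
  intro y _
  by_cases hy : y = 1
  · rw [hy]; exact H.one_mem
  have hx0 : Multiplicative.toAdd (x : Multiplicative (Fin n → ZMod p)) ≠ 0 := by
    intro h
    apply hx1
    apply Subtype.ext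
    exact h
  have hy0 : Multiplicative.toAdd y ≠ 0 := fun h => hy h
  obtain ⟨g, hg⟩ := Cfsg.Agent.S5895.exists_linearEquiv_apply_eq_one (k := ZMod p) hx0 hy0
  have h1 := (Subgroup.characteristic_iff_map_le.mp hH) (AddEquiv.toMultiplicative g.toAddEquiv)
  have h2 : (AddEquiv.toMultiplicative g.toAddEquiv) x ∈ H := h1 ⟨x, x.2, rfl⟩
  have h3 : (AddEquiv.toMultiplicative g.toAddEquiv) x = y := hg
  rwa [h3] at h2

lemma CS_pow_nonabelian {S : Type*} [Group S] [IsSimpleGroup S] (hS : ¬ IsMulCommutative S)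
    (n : ℕ) : CS (Fin n → S) := by
  intro H hH
  haveI : H.Normal := Subgroup.normal_of_characteristic H
  obtain ⟨T, hT⟩ := Cfsg.Agent.S5913.result hS n H
  by_cases hTe : T = ∅
  · left
    rw [eq_bot_iff]
    intro x hx
    rw [Subgroup.mem_bot]
    funext i
    exact (hT x).mp hx i (by rw [hTe]; exact Finset.notMem_empty i)
  · right
    obtain ⟨i, hi⟩ := Finset.nonempty_iff_ne_empty.mpr hTe
    obtain ⟨s, hs⟩ := exists_ne (1 : S)
    have hall : ∀ j, j ∈ T := by
      intro j
      by_contra hj
      have h1 : Pi.mulSingle i s ∈ H := by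
        rw [hT]
        intro l hl
        have hli : l ≠ i := fun h => hl (h ▸ hi)
        rw [Pi.mulSingle_apply, if_neg hli]
      let α : (Fin n → S) ≃* (Fin n → S) := MulEquiv.arrowCongr (Equiv.swap i j) (MulEquiv.refl S)
      have h2 := (Subgroup.characteristic_iff_map_le.mp hH) α
      have h3 : α (Pi.mulSingle i s) ∈ H := h2 ⟨_, h1, rfl⟩
      have h4 := (hT _).mp h3 j hj
      have h5 : α (Pi.mulSingle i s) j = s := by
        simp [α, MulEquiv.arrowCongr]
      rw [h5] at h4
      exact hs h4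
    rw [eq_top_iff]
    intro x _
    rw [hT]
    intro l hl
    exact absurd (hall l) hl

lemma CS_pow {S : Type} [Group S] [IsSimpleGroup S] (n : ℕ) : CS (Fin n → S) := by
  by_cases hS : IsMulCommutative S
  · have hp : (Nat.card S).Prime := Group.is_simple_iff_prime_card.mp inferInstance
    haveI : Fact (Nat.card S).Prime := ⟨hp⟩
    have hcyc : IsCyclic S := isCyclic_of_prime_card rfl
    let e1 : S ≃* Multiplicative (ZMod (Nat.card S)) := (zmodCyclicMulEquiv hcyc).symm
    let e2 : (Fin n → S) ≃* (Fin n → Multiplicative (ZMod (Nat.card S))) :=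
      MulEquiv.piCongrRight (fun _ => e1)
    let e3 := e2.trans (MulEquiv.funMultiplicative (Fin n) (ZMod (Nat.card S))).symm
    exact CS_of_mulEquiv e3 (CS_vec _ n)
  · exact CS_pow_nonabelian hS n

/-- minimal normal subgroup -/
def IsMinNormal {G : Type*} [Group G] (N : Subgroup G) : Prop :=
  N.Normal ∧ N ≠ ⊥ ∧ ∀ B : Subgroup G, B.Normal → B ≤ N → B = ⊥ ∨ B = N

lemma exists_isMinNormal (G : Type*) [Group G] [Finite G] [Nontrivial G] :
    ∃ N : Subgroup G, IsMinNormal N := by
  have hne : {N : Subgroup G | N.Normal ∧ N ≠ ⊥}.Nonempty := ⟨⊤, inferInstance, top_ne_bot⟩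
  obtain ⟨N, ⟨hN1, hN2⟩, hmin⟩ := wellFounded_lt.has_min _ hne
  refine ⟨N, hN1, hN2, fun B hB hBN => ?_⟩
  by_cases hb : B = ⊥
  · left; exact hb
  · right
    by_contra hne
    exact hmin B ⟨hB, hb⟩ (lt_of_le_of_ne hBN hne)

lemma IsMinNormal.map {G : Type*} [Group G] {N : Subgroup G} (hN : IsMinNormal N)
    (α : G ≃* G) : IsMinNormal (N.map α.toMonoidHom) := by
  obtain ⟨h1, h2, h3⟩ := hN
  refine ⟨h1.map _ α.surjective, ?_, fun B hB hBN => ?_⟩
  · intro h; exact h2 ((Subgroup.map_eq_bot_iff_of_injective N α.injective).mp h)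
  · have hc : B.comap α.toMonoidHom ≤ N := by
      intro x hx
      obtain ⟨y, hy, hyx⟩ := hBN hx
      have h4 : y = x := α.injective hyx
      rwa [← h4]
    have hB' : B = (B.comap α.toMonoidHom).map α.toMonoidHom :=
      (Subgroup.map_comap_eq_self_of_surjective α.surjective B).symm
    rcases h3 _ (hB.comap _) hc with h | h
    · left; rw [hB', h, Subgroup.map_bot]
    · right; rw [hB', h]

lemma sup_equiv_prod {G : Type*} [Group G] (K B : Subgroup G) (hK : K.Normal) (hB : B.Normal)
    (hd : Disjoint K B) : Nonempty (↥(K ⊔ B) ≃* K × B) := by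
  have comm : ∀ (k : K) (b : B), Commute (K.subtype k) (B.subtype b) :=
    fun k b => Subgroup.commute_of_normal_of_disjoint K B hK hB hd k b k.2 b.2
  let f := MonoidHom.noncommCoprod K.subtype B.subtype comm
  have hinj : Function.Injective f := by
    rw [MonoidHom.noncommCoprod_injective]
    refine ⟨K.subtype_injective, B.subtype_injective, ?_⟩
    rw [Subgroup.range_subtype, Subgroup.range_subtype]; exact hd
  have hrange : f.range = K ⊔ B := by
    rw [MonoidHom.noncommCoprod_range, Subgroup.range_subtype, Subgroup.range_subtype]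
  exact ⟨((MonoidHom.ofInjective hinj).trans (MulEquiv.subgroupCongr hrange)).symm⟩

/-- appending one coordinate -/
def consEquiv (N : Type*) [Group N] (r : ℕ) : ((Fin r → N) × N) ≃* (Fin (r + 1) → N) where
  toFun x := Fin.cons x.2 x.1
  invFun g := (Fin.tail g, g 0)
  left_inv x := by simp
  right_inv g := by simp
  map_mul' x y := by
    funext i
    refine Fin.cases ?_ (fun j => ?_) i
    · simp
    · simp

/-- currying -/
def curryEquiv (S : Type*) [Group S] (r k : ℕ) : (Fin r → Fin k → S) ≃* (Fin (r * k) → S) where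
  toFun f := fun i => f (finProdFinEquiv.symm i).1 (finProdFinEquiv.symm i).2
  invFun g := fun a b => g (finProdFinEquiv (a, b))
  left_inv f := by
    funext a b
    simp
  right_inv g := by
    funext i
    show g (finProdFinEquiv ((finProdFinEquiv.symm i).1, (finProdFinEquiv.symm i).2)) = g i
    rw [Prod.mk.eta, Equiv.apply_symm_apply]
  map_mul' _ _ := rfl

lemma step1 {G : Type u} [Group G] [Finite G] {N : Subgroup G} (hN : IsMinNormal N)
    (hCS : CS G) : ∃ r : ℕ, Nonempty (G ≃* (Fin r → N)) := by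
  let 𝒦 : Set (Subgroup G) := {K | K.Normal ∧ ∃ r : ℕ, Nonempty (K ≃* (Fin r → N))}
  have hne : 𝒦.Nonempty := ⟨⊥, inferInstance, 0, ⟨MulEquiv.ofUnique⟩⟩
  obtain ⟨K, ⟨hKn, r, ⟨e⟩⟩, hmax⟩ := wellFounded_gt.has_min 𝒦 hne
  have hall : ∀ α : G ≃* G, N.map α.toMonoidHom ≤ K := by
    intro α
    by_contra hle
    have hα := hN.map α
    haveI := hKn
    haveI := hα.1
    have hdisj : Disjoint K (N.map α.toMonoidHom) := by
      rw [disjoint_iff]
      rcases hα.2.2 (K ⊓ N.map α.toMonoidHom) inferInstance inf_le_right with h | h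
      · exact h
      · exfalso; apply hle; rw [← h]; exact inf_le_left
    obtain ⟨e1⟩ := sup_equiv_prod K (N.map α.toMonoidHom) hKn hα.1 hdisj
    let e2 : N ≃* N.map α.toMonoidHom := N.equivMapOfInjective α.toMonoidHom α.injective
    have hmem : K ⊔ N.map α.toMonoidHom ∈ 𝒦 :=
      ⟨inferInstance, r + 1, ⟨e1.trans ((MulEquiv.prodCongr e e2.symm).trans (consEquiv N r))⟩⟩
    apply hmax _ hmem
    exact lt_of_le_of_ne le_sup_left (fun h => hle (h ▸ le_sup_right))
  let C : Subgroup G := ⨆ α : G ≃* G, N.map α.toMonoidHom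
  have hC : C.Characteristic := by
    rw [Subgroup.characteristic_iff_map_le]
    intro β
    rw [Subgroup.map_iSup]
    apply iSup_le
    intro α
    rw [Subgroup.map_map]
    exact le_iSup (fun α : G ≃* G => N.map α.toMonoidHom) (α.trans β)
  have hCK : C ≤ K := iSup_le hall
  have hNC : N ≤ C := by
    have h1 := le_iSup (fun α : G ≃* G => N.map α.toMonoidHom) (MulEquiv.refl G)
    have h2 : N.map (MulEquiv.refl G).toMonoidHom = N := Subgroup.map_id N
    rw [h2] at h1
    exact h1
  rcases hCS C hC with h | h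
  · exfalso; apply hN.2.1; rw [eq_bot_iff, ← h]; exact hNC
  · have hK : K = ⊤ := by rw [eq_top_iff, ← h]; exact hCK
    subst hK
    exact ⟨r, ⟨Subgroup.topEquiv.symm.trans e⟩⟩

/-- a carrier type in the lowest universe with `n` elements and no algebraic structure -/
structure Carrier (n : ℕ) : Type where
  /-- the underlying index -/
  val : Fin n

/-- `Carrier n` has `n` elements -/
def carrierEquiv (n : ℕ) : Carrier n ≃ Fin n :=
  ⟨Carrier.val, Carrier.mk, fun _ => rfl, fun _ => rfl⟩

theorem exists_pow_of_CS : ∀ (m : ℕ) (G : Type u) [Group G] [Finite G] [Nontrivial G],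
    Nat.card G = m → CS G →
    ∃ (S : Type) (_ : Group S) (_ : IsSimpleGroup S) (n : ℕ), 1 ≤ n ∧
      Nonempty (G ≃* (Fin n → S)) := by
  intro m
  induction m using Nat.strong_induction_on with
  | _ m ih =>
  intro G _ _ _ hcard hCS
  obtain ⟨N, hN⟩ := exists_isMinNormal G
  obtain ⟨r, ⟨e⟩⟩ := step1 hN hCS
  have hr : 1 ≤ r := by
    by_contra h
    have h0 : r = 0 := by omega
    subst h0
    have hsub : Subsingleton G := e.toEquiv.subsingleton
    exact not_subsingleton G hsub
  by_cases hNtop : N = ⊤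
  · have hsimple : IsSimpleGroup G := ⟨fun B hB => by
      rcases hN.2.2 B hB (hNtop ▸ le_top) with h | h
      · left; exact h
      · right; rw [h, hNtop]⟩
    let e0 : Carrier (Nat.card G) ≃ G := (carrierEquiv _).trans (Finite.equivFin G).symm
    letI : Group (Carrier (Nat.card G)) := e0.group
    let e1 : Carrier (Nat.card G) ≃* G := e0.mulEquiv
    haveI : IsSimpleGroup (Carrier (Nat.card G)) := e1.isSimpleGroup
    exact ⟨Carrier (Nat.card G), inferInstance, inferInstance, 1, le_refl 1,
      ⟨e1.symm.trans (MulEquiv.funUnique (Fin 1) _).symm⟩⟩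
  · haveI : Nontrivial N := (Subgroup.nontrivial_iff_ne_bot N).mpr hN.2.1
    have hlt : Nat.card N < m := by
      rw [← hcard]
      apply lt_of_le_of_ne (Subgroup.card_le_card_group N)
      intro h
      exact hNtop (Subgroup.eq_top_of_card_eq N h)
    have hCSN : CS N := by
      intro A hA
      haveI := hN.1
      haveI := hA
      have hnorm : (A.map N.subtype).Normal := ConjAct.normal_of_characteristic_of_normal
      rcases hN.2.2 _ hnorm (Subgroup.map_subtype_le A) with h | h
      · left; exact (Subgroup.map_eq_bot_iff_of_injective A N.subtype_injective).mp h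
      · right
        rw [eq_top_iff]
        intro x _
        have h1 : (x : G) ∈ A.map N.subtype := by rw [h]; exact x.2
        obtain ⟨y, hy, hyx⟩ := h1
        have h2 : y = x := Subtype.ext hyx
        rwa [← h2]
    obtain ⟨S, hSg, hSs, k, hk, ⟨e2⟩⟩ := ih (Nat.card N) hlt N rfl hCSN
    exact ⟨S, hSg, hSs, r * k, Nat.mul_pos hr hk,
      ⟨e.trans ((MulEquiv.piCongrRight (fun _ => e2)).trans (curryEquiv S r k))⟩⟩

/-- A non-trivial finite group G is characteristically simple (its only characteristic subgroups are 1 and G) if and only if G is isomorphic to a direct power S^n (n ≥ 1) of some simple group S (possibly cyclic of prime order). -/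
theorem result {G : Type*} [Group G] [Finite G] [Nontrivial G] :
    (∀ H : Subgroup G, H.Characteristic → H = ⊥ ∨ H = ⊤) ↔
    ∃ (S : Type) (_ : Group S) (_ : IsSimpleGroup S) (n : ℕ), 1 ≤ n ∧ Nonempty (G ≃* (Fin n → S)) := by
  constructor
  · intro h
    exact exists_pow_of_CS (Nat.card G) G rfl h
  · rintro ⟨S, hSg, hSs, n, -, ⟨e⟩⟩
    exact CS_of_mulEquiv e (CS_pow n)

end Cfsg.Agent.S5914
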