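import Cfsg.Statements.S3680
import Cfsg.Agent.S3497
import Cfsg.Agent.S5914

set_option autoImplicit false
open Cfsg

namespace Cfsg.Agent.S3680

open MulAction

/-- A subgroup centralizing a transitive subgroup of a faithful action is semiregular. -/
theorem semiregular_of_centralizes {G Ω : Type*} [Group G] [MulAction G Ω]
    (hfaith : ∀ g : G, (∀ x : Ω, g • x = x) → g = 1) (A B : Subgroup G)
    (hB : IsPretransitive B Ω) (hAB : ∀ a ∈ A, ∀ b ∈ B, a * b = b * a) :
    ∀ x : Ω, ∀ a ∈ A, a • x = x → a = 1 := by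
  intro x a ha hax
  apply hfaith
  intro y
  obtain ⟨b, hb⟩ := hB.exists_smul_eq x y
  have hb' : (b : G) • x = y := hb
  rw [← hb', ← mul_smul, hAB a ha b b.2, mul_smul, hax]

/-- Two regular subgroups centralizing each other are isomorphic. -/
theorem regular_iso {G Ω : Type*} [Group G] [MulAction G Ω] (V C : Subgroup G)
    (hVt : IsPretransitive V Ω) (hCt : IsPretransitive C Ω)
    (hVs : ∀ x : Ω, ∀ a ∈ V, a • x = x → a = 1) (hCs : ∀ x : Ω, ∀ a ∈ C, a • x = x → a = 1)
    (hVC : ∀ a ∈ V, ∀ b ∈ C, a * b = b * a) (α : Ω) : Nonempty (V ≃* C) := by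
  classical
  have hex : ∀ v : V, ∃ c : C, (c : G) • α = (v : G) • α := by
    intro v
    obtain ⟨c, hc⟩ := hCt.exists_smul_eq α ((v : G) • α)
    exact ⟨c, hc⟩
  have huniq : ∀ c c' : C, (c : G) • α = (c' : G) • α → c = c' := by
    intro c c' h
    have h1 : ((c⁻¹ * c' : C) : G) • α = α := by
      rw [Subgroup.coe_mul, Subgroup.coe_inv, mul_smul, ← h, inv_smul_smul]
    have h2 := hCs α _ (c⁻¹ * c').2 h1
    have h3 : c⁻¹ * c' = 1 := Subtype.ext h2
    exact inv_mul_eq_one.mp h3
  let ψ : V → C := fun v => Classical.choose (hex v)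
  have hψ : ∀ v : V, ((ψ v : C) : G) • α = (v : G) • α := fun v => Classical.choose_spec (hex v)
  have hmul : ∀ v₁ v₂ : V, ψ (v₁ * v₂) = ψ v₂ * ψ v₁ := by
    intro v₁ v₂
    apply huniq
    rw [hψ, Subgroup.coe_mul, Subgroup.coe_mul]
    calc ((v₁ : G) * (v₂ : G)) • α = (v₁ : G) • ((v₂ : G) • α) := mul_smul _ _ _
      _ = (v₁ : G) • (((ψ v₂ : C) : G) • α) := by rw [hψ v₂]
      _ = ((v₁ : G) * ((ψ v₂ : C) : G)) • α := (mul_smul _ _ _).symm
      _ = (((ψ v₂ : C) : G) * (v₁ : G)) • α := by rw [hVC v₁ v₁.2 (ψ v₂) (ψ v₂).2]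
      _ = ((ψ v₂ : C) : G) • ((v₁ : G) • α) := mul_smul _ _ _
      _ = ((ψ v₂ : C) : G) • (((ψ v₁ : C) : G) • α) := by rw [hψ v₁]
      _ = (((ψ v₂ : C) : G) * ((ψ v₁ : C) : G)) • α := (mul_smul _ _ _).symm
  let θ : V →* C := MonoidHom.mk' (fun v => (ψ v)⁻¹) (by
    intro a b
    show (ψ (a * b))⁻¹ = (ψ a)⁻¹ * (ψ b)⁻¹
    rw [hmul, mul_inv_rev])
  have hθ : ∀ v, θ v = (ψ v)⁻¹ := fun v => rfl
  refine ⟨MulEquiv.ofBijective θ ⟨?_, ?_⟩⟩
  · intro v v' h
    rw [hθ, hθ, inv_inj] at h
    have h1 : (v : G) • α = (v' : G) • α := by rw [← hψ v, ← hψ v', h]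
    have h2 : ((v⁻¹ * v' : V) : G) • α = α := by
      rw [Subgroup.coe_mul, Subgroup.coe_inv, mul_smul, ← h1, inv_smul_smul]
    have h3 := hVs α _ (v⁻¹ * v').2 h2
    have h4 : v⁻¹ * v' = 1 := Subtype.ext h3
    exact inv_mul_eq_one.mp h4
  · intro c
    obtain ⟨v, hv⟩ := hVt.exists_smul_eq α ((c⁻¹ : C) • α)
    refine ⟨v, ?_⟩
    rw [hθ]
    have h1 : ψ v = c⁻¹ := by
      apply huniq
      rw [hψ]
      exact hv
    rw [h1, inv_inv]

/-- Pairs as functions on `Fin 2`. -/
def pairEquiv (X : Type*) [Group X] : (X × X) ≃* (Fin 2 → X) where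
  toFun x := ![x.1, x.2]
  invFun g := (g 0, g 1)
  left_inv x := by simp
  right_inv g := by
    funext i
    fin_cases i <;> simp
  map_mul' x y := by
    funext i
    fin_cases i <;> simp


/-- The socle of a finite primitive permutation group. Let a finite group G act faithfully and primitively on a set Ω, and let N be the subgroup generated by the minimal normal subgroups of G. Then either N is an elementary abelian p-group for some prime p and acts regularly on Ω (transitively with trivial point stabilizers), or N is isomorphic to a direct product of m ≥ 1 copies of a non-abelian simple group. -/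
theorem result {G Ω : Type*} [Group G] [Finite G] [MulAction G Ω] [FaithfulSMul G Ω] [Finite Ω]
    (hprim : MulAction.IsPreprimitive G Ω) (N : Subgroup G)
    (hN : N = sSup {V : Subgroup G | V.Normal ∧ V ≠ ⊥ ∧ ∀ M : Subgroup G, M.Normal → M ≤ V → M = ⊥ ∨ M = V}) :
    (∃ p : ℕ, p.Prime ∧ IsMulCommutative N ∧ (∀ x : N, x ^ p = 1) ∧
      MulAction.IsPretransitive N Ω ∧ ∀ ω : Ω, MulAction.stabilizer N ω = ⊥) ∨
    (∃ (T : Type) (_ : Group T) (m : ℕ), 1 ≤ m ∧ IsSimpleGroup T ∧ ¬ IsMulCommutative T ∧ Nonempty (N ≃* (Fin m → T))) := by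
  classical
  have hfaith : ∀ g : G, (∀ x : Ω, g • x = x) → g = 1 := by
    intro g hg
    apply FaithfulSMul.eq_of_smul_eq_smul (α := Ω)
    intro x; rw [hg x, one_smul]
  have hpt : IsPretransitive G Ω := hprim.toIsPretransitive
  by_cases hG : Subsingleton G
  · -- trivial group
    left
    refine ⟨2, Nat.prime_two, ⟨⟨fun a b => Subsingleton.elim _ _⟩⟩, fun x => Subsingleton.elim _ _,
      ⟨fun x y => ?_⟩, fun ω => Subsingleton.elim _ _⟩
    obtain ⟨g, hg⟩ := hpt.exists_smul_eq x y
    refine ⟨1, ?_⟩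
    rw [one_smul, ← hg, Subsingleton.elim g 1, one_smul]
  have hGnt : Nontrivial G := not_subsingleton_iff_nontrivial.mp hG
  have hΩne : Nonempty Ω := by
    by_contra hemp
    rw [not_nonempty_iff] at hemp
    obtain ⟨g, hg⟩ := exists_ne (1 : G)
    exact hg (hfaith g (fun x => (hemp.false x).elim))
  obtain ⟨α⟩ := hΩne
  have hΩne' : Nonempty Ω := ⟨α⟩
  -- a minimal normal subgroup
  obtain ⟨V, hVn, hVne, hVmin⟩ := S5914.exists_isMinNormal G
  have hVmem : V ∈ {V : Subgroup G | V.Normal ∧ V ≠ ⊥ ∧
      ∀ M : Subgroup G, M.Normal → M ≤ V → M = ⊥ ∨ M = V} := ⟨hVn, hVne, hVmin⟩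
  have hVt : IsPretransitive V Ω := S3497.normal_pretransitive hprim hfaith V hVne
  -- another minimal normal subgroup different from V centralizes V
  have hother : ∀ W : Subgroup G, W.Normal → W ≠ ⊥ →
      (∀ M : Subgroup G, M.Normal → M ≤ W → M = ⊥ ∨ M = W) → W ≠ V →
      ∀ w ∈ W, ∀ v ∈ V, w * v = v * w := by
    intro W hWn hWne hWmin hWV w hw v hv
    have hinf : W ⊓ V = ⊥ := by
      have hn : (W ⊓ V).Normal := Subgroup.normal_inf_normal W V
      rcases hWmin (W ⊓ V) hn inf_le_left with h | h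
      · exact h
      · exfalso
        have hle : W ≤ V := by rw [← h]; exact inf_le_right
        rcases hVmin W hWn hle with h1 | h1
        · exact hWne h1
        · exact hWV h1
    exact Subgroup.commute_of_normal_of_disjoint W V hWn hVn (disjoint_iff.mpr hinf) w v hw hv
  by_cases hVc : ∀ a ∈ V, ∀ b ∈ V, a * b = b * a
  · -- abelian case
    left
    obtain ⟨hVsr, hVself⟩ := S3497.abelian_normal hprim hfaith V hVne hVc
    have huniq : ∀ W ∈ {V : Subgroup G | V.Normal ∧ V ≠ ⊥ ∧
        ∀ M : Subgroup G, M.Normal → M ≤ V → M = ⊥ ∨ M = V}, W = V := by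
      rintro W ⟨hWn, hWne, hWmin⟩
      by_contra hWV
      have hcomm := hother W hWn hWne hWmin hWV
      have hle : W ≤ V := fun w hw => hVself w (fun v hv => hcomm w hw v hv)
      rcases hVmin W hWn hle with h1 | h1
      · exact hWne h1
      · exact hWV h1
    have hNV : N = V := by
      rw [hN]
      exact le_antisymm (sSup_le fun W hW => (huniq W hW).le) (le_sSup hVmem)
    subst hNV
    -- a prime
    have hcard1 : Nat.card N ≠ 1 := fun h => hVne (Subgroup.card_eq_one.mp h)
    obtain ⟨p, hp, hpdvd⟩ : ∃ p : ℕ, p.Prime ∧ p ∣ Nat.card N :=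
      ⟨_, Nat.minFac_prime hcard1, Nat.minFac_dvd _⟩
    have : Fact p.Prime := ⟨hp⟩
    obtain ⟨x, hx⟩ := exists_prime_orderOf_dvd_card' (G := N) p hpdvd
    let A : Subgroup G :=
      { carrier := {y | y ∈ N ∧ y ^ p = 1}
        one_mem' := ⟨one_mem _, one_pow _⟩
        mul_mem' := by
          rintro a b ⟨ha, hap⟩ ⟨hb, hbp⟩
          refine ⟨mul_mem ha hb, ?_⟩
          rw [(show Commute a b from hVc a ha b hb).mul_pow, hap, hbp, one_mul]
        inv_mem' := by
          rintro a ⟨ha, hap⟩
          exact ⟨inv_mem ha, by rw [inv_pow, hap, inv_one]⟩ }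
    have hAmem : ∀ y, y ∈ A ↔ y ∈ N ∧ y ^ p = 1 := fun y => Iff.rfl
    have hAn : A.Normal := by
      constructor
      intro n hn g
      rw [hAmem] at hn ⊢
      refine ⟨hVn.conj_mem n hn.1 g, ?_⟩
      rw [conj_pow, hn.2]; simp
    have hAne : A ≠ ⊥ := by
      intro h
      have hxA : (x : G) ∈ A := by
        rw [hAmem]
        refine ⟨x.2, ?_⟩
        have h1 := pow_orderOf_eq_one x
        rw [hx] at h1
        exact_mod_cast congrArg Subtype.val h1
      rw [h, Subgroup.mem_bot] at hxA
      have hx1 : x = 1 := Subtype.ext hxA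
      rw [hx1, orderOf_one] at hx
      exact hp.one_lt.ne hx
    have hAN : A = N := by
      rcases hVmin A hAn (fun y hy => hy.1) with h | h
      · exact absurd h hAne
      · exact h
    refine ⟨p, hp, ⟨⟨fun a b => Subtype.ext (hVc a a.2 b b.2)⟩⟩, ?_, hVt, ?_⟩
    · intro y
      have hy : (y : G) ∈ A := by rw [hAN]; exact y.2
      exact Subtype.ext hy.2
    · intro ω
      rw [Subgroup.eq_bot_iff_forall]
      intro n hn
      exact Subtype.ext (hVsr ω n n.2 hn)
  · -- nonabelian case
    right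
    have hVnt : Nontrivial V := (Subgroup.nontrivial_iff_ne_bot V).mpr hVne
    have hCS : ∀ H : Subgroup V, H.Characteristic → H = ⊥ ∨ H = ⊤ := by
      intro H hH
      have hn : (H.map V.subtype).Normal := ConjAct.normal_of_characteristic_of_normal
      have hle : H.map V.subtype ≤ V := by
        rintro _ ⟨y, -, rfl⟩
        exact y.2
      rcases hVmin _ hn hle with h | h
      · left
        exact (Subgroup.map_eq_bot_iff_of_injective _ (Subgroup.subtype_injective _)).mp h
      · right
        rw [eq_top_iff]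
        intro y _
        have hy : (y : G) ∈ H.map V.subtype := by rw [h]; exact y.2
        obtain ⟨z, hz, hzy⟩ := hy
        have : z = y := Subtype.ext hzy
        rw [← this]; exact hz
    obtain ⟨S, hSg, hSs, n, hn, ⟨e⟩⟩ := S5914.result.mp hCS
    have hSnc : ¬ IsMulCommutative S := by
      intro hc
      apply hVc
      intro a ha b hb
      have h1 : e ⟨a, ha⟩ * e ⟨b, hb⟩ = e ⟨b, hb⟩ * e ⟨a, ha⟩ := by
        funext i
        exact hc.is_comm.comm _ _
      rw [← map_mul, ← map_mul] at h1
      exact congrArg Subtype.val (e.injective h1)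
    -- the centralizer
    have hCn : (Subgroup.centralizer (V : Set G)).Normal := inferInstance
    have hCmem : ∀ c, c ∈ Subgroup.centralizer (V : Set G) ↔ ∀ v ∈ V, v * c = c * v :=
      fun c => Subgroup.mem_centralizer_iff
    have hVC : V ⊓ Subgroup.centralizer (V : Set G) = ⊥ := by
      have hn : (V ⊓ Subgroup.centralizer (V : Set G)).Normal := Subgroup.normal_inf_normal _ _
      rcases hVmin _ hn inf_le_left with h | h
      · exact h
      · exfalso
        apply hVc
        intro a ha b hb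
        have hb' : b ∈ V ⊓ Subgroup.centralizer (V : Set G) := by rw [h]; exact hb
        exact (hCmem b).mp hb'.2 a ha
    have hWC : ∀ W ∈ {V : Subgroup G | V.Normal ∧ V ≠ ⊥ ∧
        ∀ M : Subgroup G, M.Normal → M ≤ V → M = ⊥ ∨ M = V}, W ≠ V →
        W ≤ Subgroup.centralizer (V : Set G) := by
      rintro W ⟨hWn, hWne, hWmin⟩ hWV w hw
      rw [hCmem]
      intro v hv
      exact (hother W hWn hWne hWmin hWV w hw v hv).symm
    by_cases hC : Subgroup.centralizer (V : Set G) = ⊥
    · -- unique minimal normal subgroup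
      have huniq : ∀ W ∈ {V : Subgroup G | V.Normal ∧ V ≠ ⊥ ∧
          ∀ M : Subgroup G, M.Normal → M ≤ V → M = ⊥ ∨ M = V}, W = V := by
        intro W hW
        by_contra hWV
        have := hWC W hW hWV
        rw [hC] at this
        exact hW.2.1 (le_bot_iff.mp this)
      have hNV : N = V := by
        rw [hN]
        exact le_antisymm (sSup_le fun W hW => (huniq W hW).le) (le_sSup hVmem)
      subst hNV
      exact ⟨S, hSg, n, hn, hSs, hSnc, ⟨e⟩⟩
    · -- two minimal normal subgroups
      have hCt : IsPretransitive (Subgroup.centralizer (V : Set G)) Ω :=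
        S3497.normal_pretransitive hprim hfaith _ hC
      have hcomm1 : ∀ a ∈ V, ∀ b ∈ Subgroup.centralizer (V : Set G), a * b = b * a :=
        fun a ha b hb => (hCmem b).mp hb a ha
      have hVs := semiregular_of_centralizes hfaith V (Subgroup.centralizer (V : Set G)) hCt hcomm1
      have hCs := semiregular_of_centralizes hfaith (Subgroup.centralizer (V : Set G)) V hVt
        (fun a ha b hb => (hcomm1 b hb a ha).symm)
      have hCmin : ∀ M : Subgroup G, M.Normal → M ≤ Subgroup.centralizer (V : Set G) →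
          M = ⊥ ∨ M = Subgroup.centralizer (V : Set G) := by
        intro M hMn hMle
        by_cases hM : M = ⊥
        · exact Or.inl hM
        · right
          have hMt : IsPretransitive M Ω := S3497.normal_pretransitive hprim hfaith M hM
          apply le_antisymm hMle
          intro c hc
          obtain ⟨m, hm⟩ := hMt.exists_smul_eq α (c • α)
          have hm' : (m : G) • α = c • α := hm
          have h1 : ((m : G)⁻¹ * c) • α = α := by
            rw [mul_smul, ← hm', inv_smul_smul]
          have h2 := hCs α _ (mul_mem (inv_mem (hMle m.2)) hc) h1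
          have h3 : c = m := by
            have := inv_mul_eq_one.mp h2
            exact this.symm
          rw [h3]; exact m.2
      have hCmem' : Subgroup.centralizer (V : Set G) ∈ {V : Subgroup G | V.Normal ∧ V ≠ ⊥ ∧
          ∀ M : Subgroup G, M.Normal → M ≤ V → M = ⊥ ∨ M = V} := ⟨hCn, hC, hCmin⟩
      have hNVC : N = V ⊔ Subgroup.centralizer (V : Set G) := by
        rw [hN]
        apply le_antisymm
        · apply sSup_le
          intro W hW
          by_cases hWV : W = V
          · rw [hWV]; exact le_sup_left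
          · exact (hWC W hW hWV).trans le_sup_right
        · exact sup_le (le_sSup hVmem) (le_sSup hCmem')
      subst hNVC
      obtain ⟨e1⟩ := S5914.sup_equiv_prod V (Subgroup.centralizer (V : Set G)) hVn hCn
        (disjoint_iff.mpr hVC)
      obtain ⟨e2⟩ := regular_iso V (Subgroup.centralizer (V : Set G)) hVt hCt hVs hCs hcomm1 α
      refine ⟨S, hSg, 2 * n, by omega, hSs, hSnc, ⟨?_⟩⟩
      exact (((e1.trans (MulEquiv.prodCongr e (e2.symm.trans e))).trans
        (pairEquiv (Fin n → S))).trans (S5914.curryEquiv S 2 n))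

end Cfsg.Agent.S3680
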