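import Mathlib
import Cfsg.Statements.S3684
import Cfsg.Agent.S3497
import Cfsg.Agent.S0206

set_option autoImplicit false
open Cfsg

namespace Cfsg.Agent.S3684

open MulAction

/-- A normal subgroup fixing one point of a transitive faithful action is trivial. -/
theorem normal_fix_bot {G Ω : Type*} [Group G] [MulAction G Ω] [IsPretransitive G Ω]
    (hfaith : ∀ g : G, (∀ x : Ω, g • x = x) → g = 1)
    (K : Subgroup G) (hK : ∀ g : G, ∀ k ∈ K, g⁻¹ * k * g ∈ K) (a : Ω)
    (hKa : ∀ k ∈ K, k • a = a) : K = ⊥ := by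
  rw [Subgroup.eq_bot_iff_forall]
  intro k hk
  apply hfaith
  intro x
  obtain ⟨g, rfl⟩ := exists_smul_eq G a x
  have h1 := hKa _ (hK g k hk)
  rw [mul_smul, mul_smul] at h1
  have h2 := congrArg (fun t => g • t) h1
  simpa using h2

theorem result {G Ω : Type*} [Group G] [Finite G] [MulAction G Ω] [FaithfulSMul G Ω] [Finite Ω]
    (hprim : MulAction.IsPreprimitive G Ω) (a b : Ω) (h2 : Nat.card (MulAction.orbit (MulAction.stabilizer G a) b) = 2) :
    Nat.card (MulAction.stabilizer G a) = 2 ∧ ∃ p : ℕ, p.Prime ∧ Nonempty (G ≃* DihedralGroup p) := by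
  classical
  have htr : IsPretransitive G Ω := hprim.toIsPretransitive
  have hfaith : ∀ g : G, (∀ x : Ω, g • x = x) → g = 1 := by
    intro g hg
    apply FaithfulSMul.eq_of_smul_eq_smul (α := Ω)
    intro x; rw [hg x, one_smul]
  have hab : b ≠ a := by
    rintro rfl
    have : orbit (stabilizer G b) b = {b} := by
      ext x; constructor
      · rintro ⟨h, rfl⟩; exact h.2
      · rintro rfl; exact mem_orbit_self _
    rw [this] at h2; simp at h2
  have : Nontrivial Ω := ⟨⟨b, a, hab⟩⟩
  have hco : IsCoatom (stabilizer G a) :=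
    IsPreprimitive.isCoatom_stabilizer_of_isPreprimitive G a
  -- the relative index
  have hrel : (stabilizer G b).relIndex (stabilizer G a) = 2 := by
    have h3 := MulAction.index_stabilizer (stabilizer G a) b
    rw [← Nat.card_coe_set_eq, h2] at h3
    rw [← h3]
    rfl
  -- equal cardinalities of stabilizers
  have hcard : Nat.card (stabilizer G a) = Nat.card (stabilizer G b) := by
    obtain ⟨g, hg⟩ := exists_smul_eq G a b
    exact Nat.card_congr (stabilizerEquivStabilizer hg.symm).toEquiv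
  obtain ⟨K, hKdef⟩ : ∃ K : Subgroup G, K = stabilizer G b ⊓ stabilizer G a := ⟨_, rfl⟩
  have hK1 : Nat.card K * 2 = Nat.card (stabilizer G a) := by
    have h4 := Subgroup.card_mul_index ((stabilizer G b).subgroupOf (stabilizer G a))
    have h5 : (stabilizer G b).relIndex (stabilizer G a)
      = ((stabilizer G b).subgroupOf (stabilizer G a)).index := rfl
    rw [← h5, hrel] at h4
    rw [← h4]
    congr 1
    rw [← Subgroup.inf_subgroupOf_right, hKdef]
    exact (Nat.card_congr (Subgroup.subgroupOfEquivOfLe inf_le_right).toEquiv).symm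
  have hrel' : (stabilizer G a).relIndex (stabilizer G b) = 2 := by
    have h4 := Subgroup.card_mul_index ((stabilizer G a).subgroupOf (stabilizer G b))
    have h5 : (stabilizer G a).relIndex (stabilizer G b)
      = ((stabilizer G a).subgroupOf (stabilizer G b)).index := rfl
    rw [← h5] at h4
    have h6 : Nat.card ((stabilizer G a).subgroupOf (stabilizer G b)) = Nat.card K := by
      have hKe : K = stabilizer G a ⊓ stabilizer G b := by rw [hKdef, inf_comm]
      rw [← Subgroup.inf_subgroupOf_right, hKe]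
      exact Nat.card_congr (Subgroup.subgroupOfEquivOfLe inf_le_right).toEquiv
    rw [h6, ← hcard, ← hK1] at h4
    have hKpos : 0 < Nat.card K := Nat.card_pos
    exact Nat.eq_of_mul_eq_mul_left hKpos h4
  have hn1 : stabilizer G a ≤ Subgroup.normalizer (K : Set G) := by
    have : ((stabilizer G b).subgroupOf (stabilizer G a)).Normal :=
      Subgroup.normal_of_index_eq_two hrel
    rw [hKdef]
    exact Subgroup.normal_subgroupOf_iff_le_normalizer_inf.mp this
  have hn2 : stabilizer G b ≤ Subgroup.normalizer (K : Set G) := by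
    have : ((stabilizer G a).subgroupOf (stabilizer G b)).Normal :=
      Subgroup.normal_of_index_eq_two hrel'
    have h7 := Subgroup.normal_subgroupOf_iff_le_normalizer_inf.mp this
    rw [inf_comm] at h7
    rw [hKdef]
    exact h7
  have hnle : ¬ stabilizer G b ≤ stabilizer G a := by
    intro hle
    have : (stabilizer G b).subgroupOf (stabilizer G a) = ⊤ := by
      have h8 : stabilizer G b = stabilizer G a :=
        Subgroup.eq_of_le_of_card_ge hle hcard.le
      rw [h8]; exact Subgroup.subgroupOf_self _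
    have h5 : (stabilizer G b).relIndex (stabilizer G a)
      = ((stabilizer G b).subgroupOf (stabilizer G a)).index := rfl
    rw [h5, this, Subgroup.index_top] at hrel
    omega
  have hNtop : Subgroup.normalizer (K : Set G) = ⊤ := by
    apply hco.2
    refine lt_of_le_of_ne hn1 ?_
    intro he
    exact hnle (he ▸ hn2)
  have hKbot : K = ⊥ := by
    apply normal_fix_bot hfaith K _ a
    · intro k hk; rw [hKdef] at hk; exact hk.2
    · intro g k hk
      have hg : g⁻¹ ∈ Subgroup.normalizer (K : Set G) := by rw [hNtop]; trivial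
      have := (Subgroup.mem_normalizer_iff.mp hg k).mp hk
      simpa using this
  have hcard2 : Nat.card (stabilizer G a) = 2 := by
    rw [← hK1, hKbot]; simp
  refine ⟨hcard2, ?_⟩
  -- an involution generating the stabilizer
  obtain ⟨τ, hτ1⟩ : ∃ τ : stabilizer G a, τ ≠ 1 := by
    have : Nontrivial (stabilizer G a) := by
      rw [← Finite.one_lt_card_iff_nontrivial, hcard2]; norm_num
    exact exists_ne 1
  have hτa : (τ : G) • a = a := τ.2
  have hτne : (τ : G) ≠ 1 := fun h => hτ1 (Subtype.ext h)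
  have hτ2 : (τ : G) ^ 2 = 1 := by
    have h9 : τ ^ 2 = 1 := by
      rw [← hcard2]; exact pow_card_eq_one'
    have := congrArg (Subtype.val) h9
    simpa using this
  have hord : orderOf (τ : G) = 2 := orderOf_eq_prime hτ2 hτne
  obtain ⟨x, hx⟩ : ∃ x : Ω, (τ : G) • x ≠ x := by
    by_contra hcon
    push Not at hcon
    exact hτne (hfaith _ hcon)
  obtain ⟨g, rfl⟩ := exists_smul_eq G a x
  obtain ⟨τ', hτ'def⟩ : ∃ t : G, t = g⁻¹ * τ * g := ⟨_, rfl⟩
  have hτ'a : τ' • a ≠ a := by
    intro h
    apply hx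
    rw [hτ'def, mul_smul, mul_smul] at h
    have := congrArg (fun t => g • t) h
    simpa using this
  have hτ'2 : τ' ^ 2 = 1 := by
    rw [hτ'def, sq]
    have : (τ : G) * τ = 1 := by rw [← sq]; exact hτ2
    calc g⁻¹ * τ * g * (g⁻¹ * τ * g) = g⁻¹ * ((τ : G) * τ) * g := by group
      _ = 1 := by rw [this]; group
  have hτ'ne : τ' ≠ 1 := by
    intro h; apply hτ'a; rw [h, one_smul]
  have hord' : orderOf τ' = 2 := orderOf_eq_prime hτ'2 hτ'ne
  have hne : (τ : G) ≠ τ' := by
    intro h; apply hτ'a; rw [← h]; exact hτa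
  have hcl : Subgroup.closure ({(τ : G), τ'} : Set G) = ⊤ := by
    apply hco.2
    have hle : stabilizer G a ≤ Subgroup.closure ({(τ : G), τ'} : Set G) := by
      have hz : Subgroup.zpowers (τ : G) = stabilizer G a := by
        apply Subgroup.eq_of_le_of_card_ge
        · rw [Subgroup.zpowers_le]; exact τ.2
        · rw [Nat.card_zpowers, hord, hcard2]
      exact hz.symm.le.trans ((Subgroup.zpowers_le).mpr (Subgroup.subset_closure (by simp)))
    refine lt_of_le_of_ne hle ?_
    intro he
    have : τ' ∈ stabilizer G a := by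
      rw [he]; exact Subgroup.subset_closure (by simp)
    exact hτ'a this
  obtain ⟨e⟩ := Cfsg.Agent.S0206.result (τ : G) τ' hord hord' hne
  obtain ⟨c, hc⟩ : ∃ c : G, c = (τ : G) * τ' := ⟨_, rfl⟩
  rw [← hc] at e
  obtain ⟨n, hn⟩ : ∃ n : ℕ, n = orderOf c := ⟨_, rfl⟩
  rw [← hn] at e
  have hiso : Nonempty (G ≃* DihedralGroup n) := by
    have e1 : (⊤ : Subgroup G) ≃* ↥(Subgroup.closure ({(τ : G), τ'} : Set G)) :=
      MulEquiv.subgroupCongr hcl.symm
    exact ⟨(Subgroup.topEquiv.symm.trans e1).trans e⟩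
  refine ⟨n, ?_, hiso⟩
  -- primality of n
  have hτinv : (τ : G)⁻¹ = τ := by
    apply inv_eq_of_mul_eq_one_left; rw [← sq]; exact hτ2
  have hτ'inv : τ'⁻¹ = τ' := by
    apply inv_eq_of_mul_eq_one_left; rw [← sq]; exact hτ'2
  have hc1 : c ≠ 1 := by
    intro h
    apply hne
    have : (τ : G) = τ'⁻¹ := eq_inv_of_mul_eq_one_left (hc ▸ h)
    rw [this, hτ'inv]
  have hcτ : (τ : G) * c * (τ : G)⁻¹ = c⁻¹ := by
    rw [hc, mul_inv_rev, hτ'inv, hτinv]
    have : (τ : G) * τ = 1 := by rw [← sq]; exact hτ2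
    calc (τ : G) * (τ * τ') * τ = ((τ : G) * τ) * τ' * τ := by group
      _ = τ' * τ := by rw [this, one_mul]
  have hcτ' : τ' * c * τ'⁻¹ = c⁻¹ := by
    rw [hc, mul_inv_rev, hτ'inv, hτinv]
    have : τ' * τ' = 1 := by rw [← sq]; exact hτ'2
    calc τ' * (τ * τ') * τ' = τ' * τ * (τ' * τ') := by group
      _ = τ' * τ := by rw [this, mul_one]
  have hinvτ : ∀ y ∈ Subgroup.zpowers c, (τ : G) * y * (τ : G)⁻¹ = y⁻¹ := by
    rintro y ⟨k, rfl⟩
    show (τ : G) * c ^ k * (τ : G)⁻¹ = (c ^ k)⁻¹
    rw [← conj_zpow, hcτ, inv_zpow]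
  have hinvτ' : ∀ y ∈ Subgroup.zpowers c, τ' * y * τ'⁻¹ = y⁻¹ := by
    rintro y ⟨k, rfl⟩
    show τ' * c ^ k * τ'⁻¹ = (c ^ k)⁻¹
    rw [← conj_zpow, hcτ', inv_zpow]
  have hnormal : ∀ B : Subgroup G, B ≤ Subgroup.zpowers c → B.Normal := by
    intro B hB
    have key : ∀ t : G, t * t = 1 → (∀ y ∈ Subgroup.zpowers c, t * y * t⁻¹ = y⁻¹) →
        t ∈ Subgroup.normalizer (B : Set G) := by
      intro t ht hinv
      rw [Subgroup.mem_normalizer_iff]
      intro h
      constructor
      · intro hh
        rw [hinv h (hB hh)]; exact B.inv_mem hh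
      · intro hh
        have h10 := hinv _ (hB hh)
        have h11 : t * (t * h * t⁻¹) * t⁻¹ = h := by
          calc t * (t * h * t⁻¹) * t⁻¹ = (t * t) * h * (t * t)⁻¹ := by group
            _ = h := by rw [ht]; group
        rw [h11] at h10
        rw [h10]; exact B.inv_mem hh
    have hle : Subgroup.closure ({(τ : G), τ'} : Set G) ≤ Subgroup.normalizer (B : Set G) := by
      rw [Subgroup.closure_le]
      intro t ht
      rcases ht with rfl | rfl
      · exact key _ (by rw [← sq]; exact hτ2) hinvτ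
      · exact key _ (by rw [← sq]; exact hτ'2) hinvτ'
    rw [hcl] at hle
    exact Subgroup.normalizer_eq_top_iff.mp (top_le_iff.mp hle)
  have hAnormal : (Subgroup.zpowers c).Normal := hnormal _ le_rfl
  have hAne : Subgroup.zpowers c ≠ ⊥ := by
    rw [Ne, Subgroup.zpowers_eq_bot]; exact hc1
  have hAc : ∀ x ∈ Subgroup.zpowers c, ∀ y ∈ Subgroup.zpowers c, x * y = y * x := by
    rintro x ⟨i, rfl⟩ y ⟨j, rfl⟩
    exact ((Commute.refl c).zpow_zpow i j)
  have : Nonempty Ω := ⟨a⟩
  have hsemi := (Cfsg.Agent.S3497.abelian_normal hprim hfaith (Subgroup.zpowers c) hAne hAc).1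
  have hnpos : 0 < n := hn ▸ orderOf_pos c
  have hn1 : n ≠ 1 := by
    intro h; exact hc1 (orderOf_eq_one_iff.mp (hn ▸ h))
  obtain ⟨p, hp, hpn⟩ := Nat.exists_prime_and_dvd hn1
  have hordp : orderOf (c ^ (n / p)) = p := by
    rw [hn]; rw [hn] at hpn hnpos
    exact orderOf_pow_orderOf_div hnpos.ne' hpn
  obtain ⟨B, hB⟩ : ∃ B : Subgroup G, B = Subgroup.zpowers (c ^ (n / p)) := ⟨_, rfl⟩
  have hBle : B ≤ Subgroup.zpowers c := by
    rw [hB, Subgroup.zpowers_le]
    exact Subgroup.pow_mem _ (Subgroup.mem_zpowers c) _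
  have hBnormal : B.Normal := hnormal B hBle
  have hBne : B ≠ ⊥ := by
    rw [hB, Ne, Subgroup.zpowers_eq_bot]
    intro h
    rw [h, orderOf_one] at hordp
    exact hp.one_lt.ne hordp
  have hBtr := Cfsg.Agent.S3497.normal_pretransitive hprim hfaith B hBne
  have hAB : Subgroup.zpowers c ≤ B := by
    intro y hy
    obtain ⟨β, hβ⟩ := hBtr.exists_smul_eq a (y • a)
    have hβ' : (β : G) • a = y • a := hβ
    have h12 : ((β : G)⁻¹ * y) • a = a := by
      rw [mul_smul, ← hβ', inv_smul_smul]
    have h13 := hsemi a _ (Subgroup.mul_mem _ (Subgroup.inv_mem _ (hBle β.2)) hy) h12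
    have : y = β := by
      have := congrArg (fun t => (β : G) * t) h13
      simpa using this
    rw [this]; exact β.2
  have hBA : B = Subgroup.zpowers c := le_antisymm hBle hAB
  have : p = n := by
    have h14 : Nat.card B = Nat.card (Subgroup.zpowers c) := by rw [hBA]
    rw [hB, Nat.card_zpowers, Nat.card_zpowers, hordp] at h14
    rw [hn]; exact h14
  rw [← this]; exact hp

end Cfsg.Agent.S3684
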