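import Cfsg.Statements.S3787
import Cfsg.Agent.S4227
import Cfsg.Agent.S5299
import Cfsg.Agent.Lib.Helper47.WrSec
import Cfsg.Agent.Lib.Helper47.HHBridge
import Cfsg.Agent.Lib.Helper11.QuadStable
import Cfsg.Agent.Lib.Helper76.PSolv

set_option autoImplicit false
open Cfsg

namespace Cfsg.Agent.S3787

/-- Let G be a finite p-soluble group, p an odd prime not of the form 2^k + 1, and suppose the wreath product C_p ≀ C_p (of order p^(p+1)) is not involved in a Sylow p-subgroup of G: no section of a Sylow p-subgroup is isomorphic to it. Then G has p-length at most 1. -/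
theorem result {G : Type*} [Group G] [Finite G] {p : ℕ} [Fact p.Prime] (hp2 : p ≠ 2) (hnf : (¬ ∃ k : ℕ, p = 2 ^ k + 1)) (hG : Cfsg.IsPSolvable p G) (P : Sylow p G) (hwr : ∀ (W : Type) [Group W] [Finite W], (∃ (B : Subgroup W) (t : W), B.Normal ∧ IsMulCommutative B ∧ (∀ b ∈ B, b ^ p = 1) ∧ Nat.card B = p ^ p ∧ orderOf t = p ∧ t ∉ B ∧ Nat.card W = p ^ (p + 1) ∧ Nat.card ↥(B ⊓ Subgroup.centralizer ({t} : Set W)) = p) → ¬ Cfsg.Involves W ↥(P : Subgroup G)) : Cfsg.PLengthLE p 1 G := by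
  classical
  have hp : p.Prime := Fact.out
  apply Cfsg.Agent.S4227.pLength_of_index p
  by_contra hcop
  have hcoreQ : pPrimeCore p (G ⧸ pPrimeCore p G) = ⊥ :=
    Cfsg.Agent.Lib.Helper76.PSolv.pPrimeCore_quotient p
  have hGq : IsPSolvable p (G ⧸ pPrimeCore p G) :=
    Cfsg.Agent.Lib.Helper76.PSolv.isPSolvable_quotient p _ hG
  have hdvd : p ∣ (pCore p (G ⧸ pPrimeCore p G)).index := by
    by_contra h
    exact hcop ((Nat.Prime.coprime_iff_not_dvd hp).2 h).symm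
  rw [Subgroup.index_eq_card] at hdvd
  obtain ⟨y, hy⟩ := exists_prime_orderOf_dvd_card' p hdvd
  obtain ⟨x, rfl⟩ := QuotientGroup.mk_surjective y
  have hxQ : x ∉ pCore p (G ⧸ pPrimeCore p G) := by
    intro h
    have h1 : (QuotientGroup.mk x : (G ⧸ pPrimeCore p G) ⧸ pCore p (G ⧸ pPrimeCore p G)) = 1 :=
      (QuotientGroup.eq_one_iff x).2 h
    rw [h1, orderOf_one] at hy
    exact hp.one_lt.ne hy
  have hxp : x ^ p ∈ pCore p (G ⧸ pPrimeCore p G) := by
    rw [← QuotientGroup.eq_one_iff, QuotientGroup.mk_pow]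
    have h1 := pow_orderOf_eq_one
      (QuotientGroup.mk x : (G ⧸ pPrimeCore p G) ⧸ pCore p (G ⧸ pPrimeCore p G))
    rwa [hy] at h1
  obtain ⟨V, iV, iM, ψ, A, hψ, hψs, hA, hAp, hAlt⟩ :=
    Cfsg.Agent.Lib.Helper47.HHBridge.exists_action hGq hcoreQ x hxQ hxp
  have hAne : (A - 1) ^ (p - 1) ≠ 0 := by
    rcases hAlt with h | ⟨q, m, hq, hm, hpq⟩
    · exact h
    · exfalso
      have hodd : Odd p := hp.odd_of_ne_two hp2
      have h2 : 2 ∣ q ^ m := by
        rw [← hpq]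
        obtain ⟨k, hk⟩ := hodd
        omega
      have hq2 : q = 2 :=
        ((Nat.prime_dvd_prime_iff_eq Nat.prime_two hq).1
          (Nat.Prime.dvd_of_dvd_pow Nat.prime_two h2)).symm
      apply hnf
      refine ⟨m, ?_⟩
      rw [← hq2, ← hpq]
      have := hp.pos
      omega
  obtain ⟨v, hv⟩ : ∃ v, ((A - 1) ^ (p - 1)) v ≠ 0 := by
    by_contra h
    push Not at h
    exact hAne (LinearMap.ext h)
  obtain ⟨W, iG, iF, hW, hInv⟩ := Cfsg.Agent.Lib.Helper47.WrSec.wr_general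
    (pCore p (G ⧸ pPrimeCore p G)) x hxp ψ hψ hψs A hA v hAp hv
  have h1 : Involves W G :=
    Cfsg.Agent.Lib.Helper11.QuadStable.involves_quotient (pPrimeCore p G) hInv
  have hWp : IsPGroup p ↥(⊤ : Subgroup W) := by
    obtain ⟨B, t, -, -, -, -, -, -, hcard, -⟩ := hW
    exact IsPGroup.of_card (n := p + 1) (by rw [Subgroup.card_top]; exact hcard)
  have h2 : Involves ↥(⊤ : Subgroup W) ↥(P : Subgroup G) :=
    Cfsg.Agent.S5299.involves_of_sylow p (P : Subgroup G).subtype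
      (Subgroup.subtype_injective _) P (Subgroup.range_subtype _).symm
      (MonoidHom.id ↥(P : Subgroup G)) (fun _ _ h => h) (⊤ : Subgroup W) hWp h1
  obtain ⟨K, R, hn, ⟨e⟩⟩ := h2
  exact hwr W hW ⟨K, R, hn, ⟨e.trans Subgroup.topEquiv⟩⟩

end Cfsg.Agent.S3787
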