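import Cfsg.Statements.S3807
import Cfsg.Agent.S3810

set_option autoImplicit false
open Cfsg

namespace Cfsg.Agent.S3807

open scoped commutatorElement

variable {G : Type*} [Group G]

lemma card_eq_mul_of_fiber {α β : Type*} [Finite α] [Finite β] (f : α → β) (k : ℕ)
    (h : ∀ b, Nat.card {a // f a = b} = k) : Nat.card α = Nat.card β * k := by
  classical
  have := Fintype.ofFinite β
  rw [Nat.card_congr (Equiv.sigmaFiberEquiv f).symm, Nat.card_sigma]
  simp [h, Nat.card_eq_fintype_card]

/-- If `G = A⟨g⟩`, then an element `h` commuting with the images of `A` and of `g` commutes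
with the whole image. -/
lemma comm_all {H : Type*} [Group H] (f : G →* H) (A : Subgroup G) (g : G)
    (hsup : A ⊔ Subgroup.zpowers g = ⊤) (h : H)
    (hA : ∀ a ∈ A, f a * h = h * f a) (hg : f g * h = h * f g) : ∀ x, f x * h = h * f x := by
  intro x
  have h1 : A ⊔ Subgroup.zpowers g ≤ (Subgroup.centralizer {h}).comap f := by
    refine sup_le ?_ ?_
    · intro a ha
      rw [Subgroup.mem_comap, Subgroup.mem_centralizer_iff]
      intro k hk
      rw [Set.mem_singleton_iff] at hk
      subst hk
      exact (hA a ha).symm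
    · rw [Subgroup.zpowers_le, Subgroup.mem_comap, Subgroup.mem_centralizer_iff]
      intro k hk
      rw [Set.mem_singleton_iff] at hk
      subst hk
      exact hg.symm
  have hx : x ∈ (Subgroup.centralizer {h}).comap f := h1 (hsup ▸ Subgroup.mem_top x)
  rw [Subgroup.mem_comap, Subgroup.mem_centralizer_iff] at hx
  exact (hx h rfl).symm

lemma comm_of_sup {H : Type*} [Group H] (f : G →* H) (A : Subgroup G) (g : G)
    (hsup : A ⊔ Subgroup.zpowers g = ⊤)
    (hA : ∀ a ∈ A, ∀ b ∈ A, f a * f b = f b * f a)
    (hg : ∀ a ∈ A, f a * f g = f g * f a) :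
    ∀ x y : G, f x * f y = f y * f x := by
  have h1 : ∀ x, f x * f g = f g * f x := comm_all f A g hsup (f g) hg rfl
  have h2 : ∀ a ∈ A, ∀ x, f x * f a = f a * f x := fun a ha =>
    comm_all f A g hsup (f a) (fun b hb => hA b hb a ha) (h1 a).symm
  intro x y
  exact comm_all f A g hsup (f y) (fun a ha => (h2 a ha y).symm) (h1 y).symm x

/-- The commutator map `a ↦ [a, g]` on an abelian normal subgroup. -/
def phi (A : Subgroup G) (hAn : A.Normal) (hA : ∀ a ∈ A, ∀ b ∈ A, a * b = b * a) (g : G) :
    A →* A where
  toFun a := ⟨⁅(a : G), g⁆, by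
    have h : ⁅(a : G), g⁆ = (a : G) * (g * (a : G)⁻¹ * g⁻¹) := by
      rw [commutatorElement_def]; group
    rw [h]
    exact A.mul_mem a.2 (hAn.conj_mem _ (A.inv_mem a.2) g)⟩
  map_one' := by
    apply Subtype.ext
    simp
  map_mul' a b := by
    apply Subtype.ext
    show ⁅(a : G) * (b : G), g⁆ = ⁅(a : G), g⁆ * ⁅(b : G), g⁆
    have h1 : g * (a : G)⁻¹ * g⁻¹ ∈ A := hAn.conj_mem _ (A.inv_mem a.2) g
    have h2 : (b : G) * g * (b : G)⁻¹ * g⁻¹ ∈ A := by
      have h : (b : G) * g * (b : G)⁻¹ * g⁻¹ = (b : G) * (g * (b : G)⁻¹ * g⁻¹) := by group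
      rw [h]
      exact A.mul_mem b.2 (hAn.conj_mem _ (A.inv_mem b.2) g)
    have h3 := hA _ h2 _ h1
    simp only [commutatorElement_def]
    calc (a : G) * b * g * ((a : G) * b)⁻¹ * g⁻¹
        = a * (((b : G) * g * (b : G)⁻¹ * g⁻¹) * (g * (a : G)⁻¹ * g⁻¹)) := by group
      _ = a * ((g * (a : G)⁻¹ * g⁻¹) * ((b : G) * g * (b : G)⁻¹ * g⁻¹)) := by rw [h3]
      _ = _ := by group

lemma eq_of_le_of_index_eq [Finite G] {H K : Subgroup G} (h : H ≤ K) (hi : H.index = K.index) :
    H = K := by
  have h1 := Subgroup.relIndex_mul_index h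
  have h0 : K.index ≠ 0 := Subgroup.index_ne_zero_of_finite
  have h2 : H.relIndex K = 1 := by
    have : H.relIndex K * K.index = 1 * K.index := by rw [h1, hi, one_mul]
    exact Nat.eq_of_mul_eq_mul_right (Nat.pos_of_ne_zero h0) this
  exact le_antisymm h (Subgroup.relIndex_eq_one.1 h2)

/-- Let S be a non-abelian finite p-group with an abelian subgroup A of index p. Then [S : Z(S)] = p·#[S,S], and either [S,S] has order p, S/Z(S) is elementary abelian of order p², and S has exactly p + 1 abelian subgroups of index p; or [S,S] has order at least p² and A is the only abelian subgroup of index p in S. -/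
theorem result {S : Type*} [Group S] [Finite S] (p : ℕ) [Fact p.Prime] (hS : IsPGroup p S) (hna : ¬ IsMulCommutative S)
    (A : Subgroup S) (hA : IsMulCommutative ↥A) (hAi : A.index = p) :
    (Subgroup.center S).index = p * Nat.card (commutator S) ∧
      ((Nat.card (commutator S) = p ∧ Cfsg.IsElementaryAbelian p (⊤ : Subgroup (S ⧸ Subgroup.center S)) ∧
          Nat.card (S ⧸ Subgroup.center S) = p ^ 2 ∧
          Nat.card {B : Subgroup S // IsMulCommutative ↥B ∧ B.index = p} = p + 1) ∨
        (p ^ 2 ≤ Nat.card (commutator S) ∧ ∀ B : Subgroup S, IsMulCommutative ↥B → B.index = p → B = A)) := by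
  classical
  have hp : p.Prime := Fact.out
  have hAn : A.Normal := Cfsg.Agent.S3810.normal_of_index_p hS A hAi
  have hAc : ∀ a ∈ A, ∀ b ∈ A, a * b = b * a := fun a ha b hb =>
    congrArg Subtype.val (hA.is_comm.comm ⟨a, ha⟩ ⟨b, hb⟩)
  -- abelian subgroups of index `p` contain the centre
  have key : ∀ B : Subgroup S, (∀ a ∈ B, ∀ b ∈ B, a * b = b * a) → B.index = p →
      Subgroup.center S ≤ B := by
    intro B hB hBi
    by_contra hcon
    obtain ⟨z, hz, hzB⟩ := SetLike.not_le_iff_exists.1 hcon
    have hsup : B ⊔ Subgroup.zpowers z = ⊤ :=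
      Cfsg.Agent.S3810.sup_eq_top_of_index_prime hp B _ hBi
        (fun h => hzB (h (Subgroup.mem_zpowers z)))
    apply hna
    refine ⟨⟨fun x y => ?_⟩⟩
    have hz' := Subgroup.mem_center_iff.1 hz
    exact comm_of_sup (MonoidHom.id S) B z hsup hB (fun a _ => hz' a) x y
  have hAtop : A ≠ ⊤ := by
    intro h
    rw [h, Subgroup.index_top] at hAi
    exact hp.one_lt.ne hAi
  obtain ⟨g, hg⟩ : ∃ g, g ∉ A := by
    by_contra hcon
    push Not at hcon
    exact hAtop ((Subgroup.eq_top_iff' A).2 hcon)
  have hsup : A ⊔ Subgroup.zpowers g = ⊤ :=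
    Cfsg.Agent.S3810.sup_eq_top_of_index_prime hp A _ hAi
      (fun h => hg (h (Subgroup.mem_zpowers g)))
  have hZA := key A hAc hAi
  set φ := phi A hAn hAc g with hφ
  have hker : φ.ker = (Subgroup.center S).subgroupOf A := by
    ext a
    rw [MonoidHom.mem_ker, Subgroup.mem_subgroupOf, Subgroup.mem_center_iff]
    constructor
    · intro h
      have h1 : ⁅(a : S), g⁆ = 1 := congrArg Subtype.val h
      rw [commutatorElement_eq_one_iff_mul_comm] at h1
      intro x
      exact comm_all (MonoidHom.id S) A g hsup (a : S) (fun b hb => hAc b hb a a.2) h1.symm x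
    · intro h
      apply Subtype.ext
      show ⁅(a : S), g⁆ = 1
      rw [commutatorElement_eq_one_iff_mul_comm]
      exact (h g).symm
  set N : Subgroup S := φ.range.map A.subtype with hN
  have hNmem : ∀ a ∈ A, ⁅a, g⁆ ∈ N := by
    intro a ha
    exact ⟨φ ⟨a, ha⟩, ⟨⟨a, ha⟩, rfl⟩, rfl⟩
  have hNA : N ≤ A := by
    rintro _ ⟨x, -, rfl⟩
    exact x.2
  have hNle : N ≤ commutator S := by
    rintro _ ⟨_, ⟨a, rfl⟩, rfl⟩
    rw [commutator_def]
    exact Subgroup.commutator_mem_commutator (Subgroup.mem_top _) (Subgroup.mem_top _)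
  have hNn : N.Normal := by
    apply Subgroup.normalizer_eq_top_iff.1
    rw [← top_le_iff, ← hsup]
    refine sup_le ?_ ?_
    · intro a ha
      apply Subgroup.mem_normalizer_fintype
      intro n hn
      have h1 : a * n * a⁻¹ = n := by
        rw [hAc a ha n (hNA hn)]; group
      rw [h1]; exact hn
    · rw [Subgroup.zpowers_le]
      apply Subgroup.mem_normalizer_fintype
      rintro _ ⟨_, ⟨a, rfl⟩, rfl⟩
      have h1 : g * (A.subtype (φ a)) * g⁻¹ = ⁅g * (a : S) * g⁻¹, g⁆ := by
        show g * ⁅(a : S), g⁆ * g⁻¹ = _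
        simp only [commutatorElement_def]; group
      rw [h1]
      exact hNmem _ (hAn.conj_mem _ a.2 g)
  have hcomm : commutator S ≤ N := by
    have := hNn
    apply Subgroup.Normal.quotient_commutative_iff_commutator_le.1
    refine ⟨⟨fun x y => ?_⟩⟩
    obtain ⟨x, rfl⟩ := QuotientGroup.mk'_surjective N x
    obtain ⟨y, rfl⟩ := QuotientGroup.mk'_surjective N y
    refine comm_of_sup (QuotientGroup.mk' N) A g hsup ?_ ?_ x y
    · intro a ha b hb
      rw [← map_mul, ← map_mul, hAc a ha b hb]
    · intro a ha
      rw [← commutatorElement_eq_one_iff_mul_comm, ← map_commutatorElement,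
        QuotientGroup.mk'_apply, QuotientGroup.eq_one_iff]
      exact hNmem a ha
  have hNeq : N = commutator S := le_antisymm hNle hcomm
  have hcardA : Nat.card A = Nat.card (Subgroup.center S) * Nat.card (commutator S) := by
    have h1 := Subgroup.card_mul_index φ.ker
    rw [Subgroup.index_ker, hker] at h1
    rw [← h1, ← hNeq, hN]
    congr 1
    · exact Nat.card_congr (Subgroup.subgroupOfEquivOfLe hZA).toEquiv
    · exact (Subgroup.card_map_of_injective A.subtype_injective).symm
  have hcardS : Nat.card S = Nat.card A * p := by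
    rw [← hAi]; exact (Subgroup.card_mul_index A).symm
  have hZpos : 0 < Nat.card (Subgroup.center S) := Nat.card_pos
  have hidx : (Subgroup.center S).index = p * Nat.card (commutator S) := by
    have h1 := Subgroup.card_mul_index (Subgroup.center S)
    rw [hcardS, hcardA] at h1
    have : Nat.card (Subgroup.center S) * (Subgroup.center S).index =
        Nat.card (Subgroup.center S) * (p * Nat.card (commutator S)) := by rw [h1]; ring
    exact Nat.eq_of_mul_eq_mul_left hZpos this
  refine ⟨hidx, ?_⟩
  have hS'1 : Nat.card (commutator S) ≠ 1 := by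
    intro h1
    apply hna
    have h2 : commutator S = ⊥ := Subgroup.card_eq_one.1 h1
    rw [commutator_eq_bot_iff_center_eq_top] at h2
    refine ⟨⟨fun x y => ?_⟩⟩
    have hy : y ∈ Subgroup.center S := h2 ▸ Subgroup.mem_top y
    exact (Subgroup.mem_center_iff.1 hy x)
  obtain ⟨k, hk⟩ := IsPGroup.iff_card.1 (hS.to_subgroup (commutator S))
  by_cases hc : Nat.card (commutator S) = p
  · left
    have hidx2 : (Subgroup.center S).index = p ^ 2 := by rw [hidx, hc]; ring
    have hQcard : Nat.card (S ⧸ Subgroup.center S) = p ^ 2 := hidx2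
    have hQc : IsMulCommutative (S ⧸ Subgroup.center S) :=
      IsPGroup.isMulCommutative_of_card_eq_prime_sq hQcard
    have hnotcyc : ¬ IsCyclic (S ⧸ Subgroup.center S) := by
      intro hcyc
      apply hna
      exact (QuotientGroup.mk' (Subgroup.center S)).isMulCommutative_of_isCyclic_of_ker_le_center
        (by rw [QuotientGroup.ker_mk'])
    have hexp : ∀ a : S ⧸ Subgroup.center S, a ^ p = 1 := by
      intro a
      by_contra hne
      have h1 : orderOf a ∣ p ^ 2 := by rw [← hQcard]; exact orderOf_dvd_natCard a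
      obtain ⟨j, hj, hj2⟩ := (Nat.dvd_prime_pow hp).1 h1
      have hj3 : j = 2 := by
        by_contra hj3
        have hj1 : j ≤ 1 := by omega
        apply hne
        apply orderOf_dvd_iff_pow_eq_one.1
        rw [hj2]
        exact (pow_dvd_pow p hj1).trans (by simp)
      exact hnotcyc (isCyclic_of_orderOf_eq_card a (by rw [hj2, hj3, hQcard]))
    refine ⟨hc, ⟨?_, fun a _ => hexp a⟩, hQcard, ?_⟩
    · exact ⟨⟨fun a b => Subtype.ext (hQc.is_comm.comm a.1 b.1)⟩⟩
    · -- count
      set Z := Subgroup.center S with hZ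
      -- centralizers of noncentral elements
      have hcent : ∀ x : S, x ∉ Z →
          IsMulCommutative ↥(Subgroup.centralizer {x}) ∧ (Subgroup.centralizer {x}).index = p := by
        intro x hx
        set C := Subgroup.centralizer {x} with hC
        have hZC : Z ≤ C := Subgroup.center_le_centralizer _
        have hxC : x ∈ C := Subgroup.mem_centralizer_singleton_iff.2 rfl
        have h1 := Subgroup.relIndex_mul_index hZC
        rw [hidx2] at h1
        have hr1 : Z.relIndex C ≠ 1 := by
          intro h
          exact hx (Subgroup.relIndex_eq_one.1 h hxC)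
        have hi1 : C.index ≠ 1 := by
          intro h
          rw [Subgroup.index_eq_one, Subgroup.centralizer_eq_top_iff_subset] at h
          exact hx (h rfl)
        obtain ⟨i, hi, hi2⟩ := (Nat.dvd_prime_pow hp).1 (Dvd.intro _ h1)
        obtain ⟨j, hj, hj2⟩ := (Nat.dvd_prime_pow hp).1 (Dvd.intro_left _ h1)
        rw [hi2, hj2, ← pow_add] at h1
        have hij : i + j = 2 := Nat.pow_right_injective hp.two_le h1
        have hi0 : i ≠ 0 := by rintro rfl; exact hr1 (by rw [hi2, pow_zero])
        have hj0 : j ≠ 0 := by rintro rfl; exact hi1 (by rw [hj2, pow_zero])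
        have hi1' : i = 1 := by omega
        have hj1' : j = 1 := by omega
        rw [hi1', pow_one] at hi2
        rw [hj1', pow_one] at hj2
        refine ⟨?_, hj2⟩
        have hcyc : IsCyclic (↥C ⧸ Z.subgroupOf C) := by
          apply isCyclic_of_prime_card (p := p)
          exact hi2
        exact (QuotientGroup.mk' (Z.subgroupOf C)).isMulCommutative_of_isCyclic_of_ker_le_center
          (by
            rw [QuotientGroup.ker_mk']
            intro c hc
            rw [Subgroup.mem_subgroupOf] at hc
            rw [Subgroup.mem_center_iff]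
            intro d
            exact Subtype.ext (Subgroup.mem_center_iff.1 hc d))
      have huniq : ∀ B : Subgroup S, IsMulCommutative ↥B → B.index = p → ∀ x ∈ B, x ∉ Z →
          Subgroup.centralizer {x} = B := by
        intro B hB hBi x hxB hxZ
        symm
        apply eq_of_le_of_index_eq
        · intro b hb
          rw [Subgroup.mem_centralizer_singleton_iff]
          exact congrArg Subtype.val (hB.is_comm.comm ⟨b, hb⟩ ⟨x, hxB⟩)
        · rw [hBi, (hcent x hxZ).2]
      let T := {B : Subgroup S // IsMulCommutative ↥B ∧ B.index = p}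
      let F : {x : S // x ∉ Z} → T := fun x => ⟨Subgroup.centralizer {x.1}, hcent x.1 x.2⟩
      obtain ⟨q, hq⟩ : ∃ q, q + 1 = p := ⟨p - 1, by have := hp.pos; omega⟩
      set z := Nat.card Z with hz
      have hSz : Nat.card S = z * p ^ 2 := by
        rw [← hidx2]; exact (Subgroup.card_mul_index Z).symm
      have hfib : ∀ B : T, Nat.card {a : {x : S // x ∉ Z} // F a = B} = q * z := by
        intro B
        have hZB : Z ≤ B.1 := key B.1 (fun a ha b hb =>
          congrArg Subtype.val (B.2.1.is_comm.comm ⟨a, ha⟩ ⟨b, hb⟩)) B.2.2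
        have h1 : Nat.card {a : {x : S // x ∉ Z} // F a = B} =
            Nat.card ↥((B.1 : Set S) \ (Z : Set S)) := by
          apply Nat.card_congr
          exact {
            toFun := fun a => ⟨a.1.1, ⟨by
              have := a.2
              have h2 : Subgroup.centralizer {a.1.1} = B.1 := congrArg Subtype.val this
              rw [SetLike.mem_coe, ← h2]
              exact Subgroup.mem_centralizer_singleton_iff.2 rfl, a.1.2⟩⟩
            invFun := fun x => ⟨⟨x.1, x.2.2⟩,
              Subtype.ext (huniq B.1 B.2.1 B.2.2 x.1 x.2.1 x.2.2)⟩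
            left_inv := fun a => rfl
            right_inv := fun x => rfl }
        rw [h1, Nat.card_coe_set_eq]
        have h2 := Set.ncard_sdiff_add_ncard_of_subset (s := (Z : Set S)) (t := (B.1 : Set S)) hZB
        have h3 : ((B.1 : Set S)).ncard = Nat.card B.1 := (Nat.card_coe_set_eq _).symm
        have h4 : ((Z : Set S)).ncard = z := (Nat.card_coe_set_eq _).symm
        rw [h3, h4] at h2
        have h5 : Nat.card B.1 * p = Nat.card S := by
          have h := Subgroup.card_mul_index B.1
          rwa [B.2.2] at h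
        rw [hSz] at h5
        have h6 : Nat.card B.1 = z * p := by
          have : Nat.card B.1 * p = (z * p) * p := by rw [h5]; ring
          exact Nat.eq_of_mul_eq_mul_right hp.pos this
        have h7 : z * p = q * z + z := by rw [← hq]; ring
        have : (↑B.1 \ (Z : Set S)).ncard + z = q * z + z := by rw [h2, h6, h7]
        exact Nat.add_right_cancel this
      have htot := card_eq_mul_of_fiber F (q * z) hfib
      have hcompl : Nat.card {x : S // x ∈ Z} + Nat.card {x : S // x ∉ Z} = Nat.card S := by
        rw [← Nat.card_sum]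
        exact Nat.card_congr (Equiv.sumCompl (· ∈ Z))
      have hz' : Nat.card {x : S // x ∈ Z} = z := rfl
      rw [hz', htot, hSz, ← hq] at hcompl
      have hq0 : 0 < q := by
        have := hp.two_le; omega
      have hfin : Nat.card T * (q * z) = (q + 2) * (q * z) := by
        have : z + Nat.card T * (q * z) = z + (q + 2) * (q * z) := by rw [hcompl]; ring
        exact Nat.add_left_cancel this
      have := Nat.eq_of_mul_eq_mul_right (Nat.mul_pos hq0 hZpos) hfin
      show Nat.card T = p + 1
      rw [this, ← hq]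
  · right
    have hk2 : 2 ≤ k := by
      rcases k with _ | _ | k
      · exact absurd (by simpa using hk) hS'1
      · exact absurd (by simpa using hk) hc
      · omega
    have hge : p ^ 2 ≤ Nat.card (commutator S) := by
      rw [hk]; exact Nat.pow_le_pow_right hp.pos hk2
    refine ⟨hge, ?_⟩
    intro B hB hBi
    by_contra hne
    have hBc : ∀ a ∈ B, ∀ b ∈ B, a * b = b * a := fun a ha b hb =>
      congrArg Subtype.val (hB.is_comm.comm ⟨a, ha⟩ ⟨b, hb⟩)
    have hBA : ¬ B ≤ A := by
      intro hle
      exact hne (eq_of_le_of_index_eq hle (by rw [hBi, hAi]))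
    obtain ⟨b, hb, hbA⟩ := SetLike.not_le_iff_exists.1 hBA
    have hsupb : A ⊔ Subgroup.zpowers b = ⊤ :=
      Cfsg.Agent.S3810.sup_eq_top_of_index_prime hp A _ hAi
        (fun h => hbA (h (Subgroup.mem_zpowers b)))
    have hint : A ⊓ B ≤ Subgroup.center S := by
      intro x hx
      rw [Subgroup.mem_center_iff]
      exact comm_all (MonoidHom.id S) A b hsupb x (fun a ha => hAc a ha x hx.1) (hBc b hb x hx.2)
    have h1 : (Subgroup.center S).index ≤ p * p := by
      calc (Subgroup.center S).index ≤ (A ⊓ B).index :=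
            Nat.le_of_dvd (Nat.pos_of_ne_zero Subgroup.index_ne_zero_of_finite)
              (Subgroup.index_dvd_of_le hint)
        _ ≤ A.index * B.index := Subgroup.index_inf_le
        _ = p * p := by rw [hAi, hBi]
    rw [hidx] at h1
    have h2 : Nat.card (commutator S) ≤ p := Nat.le_of_mul_le_mul_left h1 hp.pos
    have h3 := hp.two_le
    nlinarith

end Cfsg.Agent.S3807
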