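import Cfsg.Statements.S3808
import Cfsg.Agent.Lib.Helper63.PFrattini
import Cfsg.Agent.Lib.Helper76.SylowTools

set_option autoImplicit false
open Cfsg

namespace Cfsg.Agent.S3808

open Cfsg.Agent.Lib.Helper76.SylowTools

/-- Let S be a finite p-group with an extraspecial subgroup Q of index p. Then either Z(S) = Z(Q), or S = Q·Z(S) and Z(S) has order p². -/
theorem result {S : Type*} [Group S] [Finite S] (p : ℕ) [Fact p.Prime] (hS : IsPGroup p S) (Q : Subgroup S) (hQ : Cfsg.IsExtraspecial p ↥Q) (hQi : Q.index = p) :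
    Subgroup.center S = (Subgroup.center ↥Q).map Q.subtype ∨
      (Q ⊔ Subgroup.center S = ⊤ ∧ Nat.card (Subgroup.center S) = p ^ 2) := by
  have hp : p.Prime := Fact.out
  obtain ⟨-, hZQ⟩ := hQ
  have hQn : Q.Normal := by
    apply Subgroup.normal_of_index_eq_minFac_card
    obtain ⟨n, hn⟩ := IsPGroup.iff_card.1 hS
    rw [hQi, hn]
    have hn0 : n ≠ 0 := by
      rintro rfl
      have h1 : Q.index ∣ Nat.card S := Subgroup.index_dvd_card Q
      rw [hn, hQi, pow_zero, Nat.dvd_one] at h1
      exact hp.one_lt.ne' h1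
    rw [Nat.pow_minFac hn0, Nat.Prime.minFac_eq hp]
  have hZ₀n : ((Subgroup.center ↥Q).map Q.subtype).Normal := inferInstance
  have hZ₀card : Nat.card ((Subgroup.center ↥Q).map Q.subtype) = p := by
    rw [Subgroup.card_map_of_injective Q.subtype_injective]; exact hZQ
  have hZ₀le : (Subgroup.center ↥Q).map Q.subtype ≤ Subgroup.center S :=
    Cfsg.Agent.Lib.Helper63.PFrattini.normal_card_prime_le_center hS _ hZ₀card
  have hinf : Q ⊓ Subgroup.center S = (Subgroup.center ↥Q).map Q.subtype := by
    apply le_antisymm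
    · rintro z ⟨hzQ, hz⟩
      refine ⟨⟨z, hzQ⟩, ?_, rfl⟩
      rw [SetLike.mem_coe, Subgroup.mem_center_iff]
      intro q
      apply Subtype.ext
      exact (Subgroup.mem_center_iff.1 hz) q
    · exact le_inf (Subgroup.map_subtype_le _) hZ₀le
  by_cases hle : Subgroup.center S ≤ Q
  · left
    rw [← hinf]; exact (inf_eq_right.2 hle).symm
  · right
    have htop : Q ⊔ Subgroup.center S = ⊤ := by
      have h1 := Subgroup.relIndex_mul_index (le_sup_left : Q ≤ Q ⊔ Subgroup.center S)
      rw [hQi] at h1
      rcases (Nat.dvd_prime hp).1 (Dvd.intro _ h1) with h2 | h2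
      · exfalso
        apply hle
        rw [Subgroup.relIndex_eq_one] at h2
        exact le_sup_right.trans h2
      · rw [h2] at h1
        have h3 : (Q ⊔ Subgroup.center S).index = 1 := by
          have : p * (Q ⊔ Subgroup.center S).index = p * 1 := by rw [h1, mul_one]
          exact Nat.eq_of_mul_eq_mul_left hp.pos this
        exact Subgroup.index_eq_one.1 h3
    refine ⟨htop, ?_⟩
    have h1 : Q.relIndex (Subgroup.center S) = p := by
      rw [← relIndex_sup_of_normal, htop, Subgroup.relIndex_top_right]; exact hQi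
    have h2 := Subgroup.relIndex_mul_relIndex (⊥ : Subgroup S) (Q ⊓ Subgroup.center S)
      (Subgroup.center S) bot_le inf_le_right
    rw [Subgroup.relIndex_bot_left, Subgroup.relIndex_bot_left, Subgroup.inf_relIndex_right, h1,
      hinf, hZ₀card] at h2
    rw [← h2, sq]
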