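import Cfsg.Statements.S3809
import Cfsg.Agent.S0095
import Cfsg.Agent.Lib.Helper63.PFrattini

set_option autoImplicit false
open Cfsg

namespace Cfsg.Agent.S3809

/-- Let S be a finite p-group with an extraspecial subgroup of index p. Then S has order p^(2+2n) for some n ≥ 1, derived length at most 3, and exponent dividing p³. -/
theorem result {S : Type*} [Group S] [Finite S] (p : ℕ) [Fact p.Prime] (hS : IsPGroup p S) (Q : Subgroup S) (hQ : Cfsg.IsExtraspecial p ↥Q) (hQi : Q.index = p) :
    (∃ n : ℕ, 1 ≤ n ∧ Nat.card S = p ^ (2 + 2 * n)) ∧ derivedSeries S 3 = ⊥ ∧ ∀ x : S, x ^ (p ^ 3) = 1 := by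
  have hp : p.Prime := Fact.out
  obtain ⟨n, hn, hcard⟩ := Cfsg.Agent.S0095.result hQ
  obtain ⟨⟨hQp, hfr, hcomm⟩, hZQ⟩ := hQ
  -- Q is normal
  have hQn : Q.Normal := by
    apply Subgroup.normal_of_index_eq_minFac_card
    rw [hQi]
    obtain ⟨k, hk⟩ := IsPGroup.iff_card.1 hS
    have hk0 : k ≠ 0 := by
      rintro rfl
      have h1 := Subgroup.card_mul_index Q
      rw [hk, hQi] at h1
      have : p ∣ 1 := by simpa using Dvd.intro_left _ h1
      exact hp.one_lt.ne' (Nat.dvd_one.1 this)
    rw [hk, Nat.pow_minFac hk0, hp.minFac_eq]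
  refine ⟨⟨n, hn, ?_⟩, ?_, ?_⟩
  · rw [← Subgroup.card_mul_index Q, hQi, hcard]
    ring
  · -- derived series
    have h1 : derivedSeries S 1 ≤ Q := by
      rw [derivedSeries_one]
      have hc : IsCyclic (S ⧸ Q) := by
        apply isCyclic_of_prime_card (p := p)
        rw [← hQi]; rfl
      have hmc : IsMulCommutative (S ⧸ Q) := IsCyclic.isMulCommutative
      have h0 := Subgroup.Normal.quotient_commutative_iff_commutator_le.1 hmc
      rwa [commutator_def] at h0
    have h2 : derivedSeries S 2 ≤ (Subgroup.center Q).map Q.subtype := by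
      rw [← hcomm]
      show ⁅derivedSeries S 1, derivedSeries S 1⁆ ≤ _
      refine (Subgroup.commutator_mono h1 h1).trans ?_
      rw [commutator_def, Subgroup.map_commutator]
      have : (⊤ : Subgroup Q).map Q.subtype = Q := by
        rw [← MonoidHom.range_eq_map, Subgroup.range_subtype]
      rw [this]
    have h3 : derivedSeries S 3 ≤ ⊥ := by
      show ⁅derivedSeries S 2, derivedSeries S 2⁆ ≤ _
      refine (Subgroup.commutator_mono h2 h2).trans ?_
      rw [Subgroup.commutator_le]
      rintro _ ⟨a, ha, rfl⟩ _ ⟨b, hb, rfl⟩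
      rw [Subgroup.mem_bot, commutatorElement_eq_one_iff_mul_comm]
      have := (Subgroup.mem_center_iff.1 ha) b
      have h4 := congrArg Q.subtype this
      simpa using h4.symm
    exact le_bot_iff.1 h3
  · intro x
    have hx : x ^ p ∈ Q := by
      have h1 : ((x : S ⧸ Q)) ^ p = 1 := by
        have : Nat.card (S ⧸ Q) = p := hQi
        rw [← this]
        exact pow_card_eq_one'
      rw [← QuotientGroup.mk_pow] at h1
      exact (QuotientGroup.eq_one_iff _).1 h1
    have h2 : (⟨x ^ p, hx⟩ : Q) ^ p ∈ Subgroup.center Q := by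
      rw [← hfr]
      exact Cfsg.Agent.Lib.Helper63.PFrattini.pow_mem_frattini hQp _
    have h3 : ((⟨x ^ p, hx⟩ : Q) ^ p) ^ p = 1 := by
      have h4 : ∀ z : Subgroup.center Q, z ^ p = 1 := by
        intro z
        have h5 : z ^ Nat.card (Subgroup.center Q) = 1 := pow_card_eq_one'
        rwa [hZQ] at h5
      exact congrArg Subtype.val (h4 ⟨_, h2⟩)
    have h5 := congrArg Subtype.val h3
    simp only [Subgroup.coe_pow, Subgroup.coe_one] at h5
    rw [show p ^ 3 = p * p * p by ring, pow_mul, pow_mul]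
    exact h5

end Cfsg.Agent.S3809
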