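import Cfsg.Statements.S3811
import Cfsg.Agent.Lib.Helper23.Soft
-- import your own Cfsg.Agent.* helpers here

set_option autoImplicit false
open Cfsg

namespace Cfsg.Agent.S3811

/-- Let P be a finite p-group and E an abelian subgroup of P that contains its centralizer, has index p in its normalizer, and has index at least p² in P. Then the subgroups of P containing E are totally ordered by inclusion, each proper one has index p in its normalizer (so they form the normalizer tower of E, with all steps of index p), and the i-th member of the tower above E has nilpotency class i + 1 whenever it is a proper subgroup of P. -/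
theorem result {P : Type*} [Group P] [Finite P] (p : ℕ) [Fact p.Prime] (hP : IsPGroup p P)
    (E : Subgroup P) (hEab : IsMulCommutative ↥E) (hC : Subgroup.centralizer (E : Set P) ≤ E)
    (hN : (E.subgroupOf (Subgroup.normalizer (E : Set P))).index = p) (hidx : p ^ 2 ≤ E.index) :
    (∀ K L : Subgroup P, E ≤ K → E ≤ L → K ≤ L ∨ L ≤ K) ∧
      (∀ K : Subgroup P, E ≤ K → K ≠ ⊤ → (K.subgroupOf (Subgroup.normalizer (K : Set P))).index = p) ∧
      ∀ (i : ℕ) (K : Subgroup P) [Group.IsNilpotent ↥K], E ≤ K → K ≠ ⊤ → K.index * p ^ i = E.index →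
        Group.nilpotencyClass ↥K = i + 1 := by
  have hp : p.Prime := Fact.out
  have hEab' : ∀ x ∈ E, ∀ y ∈ E, x * y = y * x := by
    intro x hx y hy
    have := hEab.is_comm.comm ⟨x, hx⟩ ⟨y, hy⟩
    exact congrArg Subtype.val this
  have hcardsub : ∀ A B : Subgroup P, A ≤ B →
      Nat.card A * (A.subgroupOf B).index = Nat.card B := by
    intro A B hAB
    have h1 := Subgroup.card_mul_index (A.subgroupOf B)
    rw [Nat.card_congr (Subgroup.subgroupOfEquivOfLe hAB).toEquiv] at h1
    exact h1
  have hN' : Nat.card (Subgroup.normalizer (E : Set P)) = p * Nat.card E := by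
    have h1 := hcardsub E _ Subgroup.le_normalizer
    rw [hN] at h1
    rw [← h1, mul_comm]
  refine ⟨?_, ?_, ?_⟩
  · intro K L hK hL
    exact Cfsg.Agent.Lib.Helper23.Soft.chain hP E hEab' hC hN' K L hK hL
  · intro K hK hKtop
    have h1 := Cfsg.Agent.Lib.Helper23.Soft.card_normalizer hP E hEab' hC hN' K hK hKtop
    have h2 := hcardsub K _ Subgroup.le_normalizer
    rw [h1] at h2
    have hpos : 0 < Nat.card K := Nat.card_pos
    have h3 : Nat.card K * (K.subgroupOf (Subgroup.normalizer (K : Set P))).index =
        Nat.card K * p := by rw [h2, mul_comm]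
    exact Nat.eq_of_mul_eq_mul_left hpos h3
  · intro i K _ hEK hKtop hidxK
    have hcard : Nat.card K = p ^ i * Nat.card E := by
      have h1 := Subgroup.card_mul_index K
      have h2 := Subgroup.card_mul_index E
      have hKpos : 0 < K.index := Nat.pos_of_ne_zero Subgroup.index_ne_zero_of_finite
      have h3 : Nat.card K * K.index = (p ^ i * Nat.card E) * K.index := by
        rw [h1, ← h2, ← hidxK]; ring
      exact Nat.eq_of_mul_eq_mul_right hKpos h3
    have hKeq := Cfsg.Agent.Lib.Helper23.Soft.eq_tower hP E hEab' hC hN' K hEK i hcard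
    subst hKeq
    exact Cfsg.Agent.Lib.Helper23.Soft.class_tower hP E hEab' hC hN' i hKtop

end Cfsg.Agent.S3811
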