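import Mathlib
import Cfsg.Statements.S3819
import Cfsg.Agent.S0661
import Cfsg.Agent.Lib.Helper70.HallHigman
import Cfsg.Agent.Lib.Helper76.PSolv
import Cfsg.Agent.Lib.Helper21.Balance

set_option autoImplicit false
open Cfsg

namespace Cfsg.Agent.S3819

open Subgroup
open scoped commutatorElement

/-- A relative elementwise `q`-chain reaching the normal subgroup `N`. -/
def RC (q : ℕ) {Γ : Type*} [Group Γ] (N : Subgroup Γ) : Prop :=
  ∃ (n : ℕ) (K : ℕ → Subgroup Γ), K 0 = ⊥ ∧ K n = N ∧ (∀ i, (K i).Normal) ∧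
    ∀ i, ∃ r : ℕ, ((∃ m, r = q ^ m) ∨ r.Coprime q) ∧ ∀ x ∈ K (i + 1), x ^ r ∈ K i

theorem rc_bot (q : ℕ) {Γ : Type*} [Group Γ] : RC q (⊥ : Subgroup Γ) := by
  refine ⟨0, fun _ => ⊥, rfl, rfl, fun _ => inferInstance, fun i => ⟨1, Or.inl ⟨0, by simp⟩, ?_⟩⟩
  intro x hx
  simpa using hx

theorem rc_step {q : ℕ} {Γ : Type*} [Group Γ] {N : Subgroup Γ} (h : RC q N) (M : Subgroup Γ)
    (hM : M.Normal) (r : ℕ) (hr : (∃ m, r = q ^ m) ∨ r.Coprime q)
    (hpow : ∀ x ∈ M, x ^ r ∈ N) : RC q M := by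
  obtain ⟨n, K, h0, hn, hnorm, hstep⟩ := h
  refine ⟨n + 1, fun i => if i ≤ n then K i else M, ?_, ?_, ?_, ?_⟩
  · simp [h0]
  · simp
  · intro i
    by_cases hi : i ≤ n
    · simp only [hi, if_true]; exact hnorm i
    · simp only [hi, if_false]; exact hM
  · intro i
    rcases lt_trichotomy i n with hi | hi | hi
    · obtain ⟨r', hr', hp'⟩ := hstep i
      refine ⟨r', hr', ?_⟩
      have h1 : i + 1 ≤ n := hi
      have h2 : i ≤ n := hi.le
      simp only [h1, h2, if_true]
      exact hp'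
    · subst hi
      refine ⟨r, hr, ?_⟩
      have h1 : ¬ (i + 1 ≤ i) := by omega
      simp only [h1, le_refl, if_true, if_false]
      rw [hn]
      exact hpow
    · refine ⟨1, Or.inl ⟨0, by simp⟩, ?_⟩
      have h1 : ¬ (i + 1 ≤ n) := by omega
      have h2 : ¬ (i ≤ n) := by omega
      simp only [h1, h2, if_false]
      intro x hx
      simpa using hx

theorem pow_relIndex_mem' {G : Type*} [Group G] (A B : Subgroup G) [hA : A.Normal] (x : G)
    (hx : x ∈ B) : x ^ A.relIndex B ∈ A := by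
  have hn : (A.subgroupOf B).Normal := hA.subgroupOf B
  have := (A.subgroupOf B).pow_index_mem (⟨x, hx⟩ : B)
  rw [Subgroup.mem_subgroupOf] at this
  rw [Subgroup.relIndex]
  simpa using this

/-- A solvable normal subgroup is reached by a relative `q`-chain. -/
theorem rc_of_solvable {Γ : Type*} [Group Γ] [Finite Γ] (q : ℕ) [hq : Fact q.Prime] :
    ∀ (k : ℕ) (N : Subgroup Γ), Nat.card N = k → N.Normal → Group.IsSolvable N → RC q N := by
  intro k
  induction k using Nat.strong_induction_on with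
  | _ k ih =>
    intro N hk hN hsol
    haveI := hsol
    by_cases hbot : N = ⊥
    · subst hbot; exact rc_bot q
    · have hDn : (⁅N, N⁆ : Subgroup Γ).Normal := Subgroup.commutator_normal N N
      have hDN : (⁅N, N⁆ : Subgroup Γ) ≤ N := Subgroup.commutator_le_left N N
      have hmap : (commutator N).map N.subtype = ⁅N, N⁆ := Subgroup.map_subtype_commutator N
      have hnt : Nontrivial N := (Subgroup.nontrivial_iff_ne_bot N).2 hbot
      have hlt : commutator N < ⊤ := Group.IsSolvable.commutator_lt_top_of_nontrivial N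
      have hDlt : (⁅N, N⁆ : Subgroup Γ) < N := by
        refine lt_of_le_of_ne hDN ?_
        intro heq
        apply hlt.ne
        rw [← hmap] at heq
        apply Subgroup.map_injective N.subtype_injective
        rw [heq, ← MonoidHom.range_eq_map, Subgroup.range_subtype]
      have hcard : Nat.card (⁅N, N⁆ : Subgroup Γ) < Nat.card N := by
        rw [← hk] at *
        exact Set.ncard_lt_ncard hDlt (Set.toFinite _)
      have hDsol : Group.IsSolvable (⁅N, N⁆ : Subgroup Γ) :=
        Group.isSolvable_of_isSolvable_injective (Subgroup.inclusion_injective hDN)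
      have hD : RC q (⁅N, N⁆ : Subgroup Γ) := ih _ (hk ▸ hcard) _ rfl hDn hDsol
      have hidx : (⁅N, N⁆ : Subgroup Γ).relIndex N ≠ 0 := by
        unfold Subgroup.relIndex
        exact Subgroup.index_ne_zero_of_finite
      obtain ⟨a, m, hm, hidx'⟩ := Nat.exists_eq_pow_mul_and_not_dvd hidx q hq.out.ne_one
      set E : Subgroup Γ :=
        (((powMonoidHom m : Abelianization N →* Abelianization N).comp Abelianization.of).ker).map
          N.subtype with hE
      have hEmem : ∀ x, x ∈ E ↔ x ∈ N ∧ x ^ m ∈ (⁅N, N⁆ : Subgroup Γ) := by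
        intro x
        constructor
        · rintro ⟨y, hy, rfl⟩
          refine ⟨y.2, ?_⟩
          have h1 : (Abelianization.of y) ^ m = 1 := hy
          rw [← map_pow] at h1
          have h2 : y ^ m ∈ commutator N := by
            rw [← Abelianization.ker_of]; exact h1
          rw [← hmap]
          exact ⟨y ^ m, h2, by simp⟩
        · rintro ⟨hx, hxm⟩
          rw [← hmap] at hxm
          obtain ⟨w, hw, hwx⟩ := hxm
          refine ⟨⟨x, hx⟩, ?_, rfl⟩
          have h2 : (⟨x, hx⟩ : N) ^ m = w :=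
            Subtype.ext (by simpa using hwx.symm)
          show (Abelianization.of (⟨x, hx⟩ : N)) ^ m = 1
          rw [← map_pow, h2]
          have : w ∈ (Abelianization.of : N →* Abelianization N).ker := by
            rw [Abelianization.ker_of]; exact hw
          exact this
      have hEn : E.Normal := by
        refine ⟨fun x hx g => ?_⟩
        rw [hEmem] at hx ⊢
        refine ⟨hN.conj_mem x hx.1 g, ?_⟩
        rw [conj_pow]
        exact hDn.conj_mem _ hx.2 g
      have hcop : m.Coprime q := ((Nat.Prime.coprime_iff_not_dvd hq.out).2 hm).symm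
      have h1 : RC q E := rc_step hD E hEn m (Or.inr hcop) (fun x hx => ((hEmem x).1 hx).2)
      refine rc_step h1 N hN (q ^ a) (Or.inl ⟨a, rfl⟩) ?_
      intro x hx
      rw [hEmem]
      refine ⟨N.pow_mem hx _, ?_⟩
      rw [← pow_mul, ← hidx']
      exact pow_relIndex_mem' _ _ x hx

/-- If `A` is normal then `x ^ |B| ∈ A` for `x ∈ A ⊔ B`. -/
theorem pow_card_mem_of_mem_sup {Γ : Type*} [Group Γ] [Finite Γ] (A B : Subgroup Γ) [A.Normal]
    (x : Γ) (hx : x ∈ A ⊔ B) : x ^ Nat.card B ∈ A := by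
  have h1 : QuotientGroup.mk' A x ∈ (A ⊔ B).map (QuotientGroup.mk' A) := ⟨x, hx, rfl⟩
  rw [Subgroup.map_sup] at h1
  have h2 : A.map (QuotientGroup.mk' A) = ⊥ := by
    rw [Subgroup.map_eq_bot_iff, QuotientGroup.ker_mk']
  rw [h2, bot_sup_eq] at h1
  obtain ⟨b, hb, hbx⟩ := h1
  have h3 : b ^ Nat.card B = 1 := by
    have := pow_card_eq_one' (G := B) (x := ⟨b, hb⟩)
    exact congrArg Subtype.val this
  have h4 : QuotientGroup.mk' A (x ^ Nat.card B) = 1 := by
    rw [map_pow, ← hbx, ← map_pow, h3, map_one]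
  exact (QuotientGroup.eq_one_iff _).1 h4

theorem commutator_conj_left {G : Type*} [Group G] (A B : Subgroup G) :
    ∀ a ∈ A, ∀ k ∈ (⁅A, B⁆ : Subgroup G), a * k * a⁻¹ ∈ (⁅A, B⁆ : Subgroup G) := by
  intro a ha k hk
  have h : (⁅A, B⁆ : Subgroup G) ≤ (⁅A, B⁆ : Subgroup G).comap (MulAut.conj a).toMonoidHom := by
    rw [Subgroup.commutator_le]
    intro g hg b hb
    show a * ⁅g, b⁆ * a⁻¹ ∈ (⁅A, B⁆ : Subgroup G)
    have h1 : a * ⁅g, b⁆ * a⁻¹ = ⁅a * g, b⁆ * ⁅a, b⁆⁻¹ := by
      simp only [commutatorElement_def]; group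
    rw [h1]
    exact mul_mem (Subgroup.commutator_mem_commutator (mul_mem ha hg) hb)
      (inv_mem (Subgroup.commutator_mem_commutator ha hb))
  exact h hk

theorem commutator_conj_right {G : Type*} [Group G] (A B : Subgroup G) :
    ∀ b' ∈ B, ∀ k ∈ (⁅A, B⁆ : Subgroup G), b' * k * b'⁻¹ ∈ (⁅A, B⁆ : Subgroup G) := by
  intro b' hb' k hk
  have h : (⁅A, B⁆ : Subgroup G) ≤ (⁅A, B⁆ : Subgroup G).comap (MulAut.conj b').toMonoidHom := by
    rw [Subgroup.commutator_le]
    intro g hg b hb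
    show b' * ⁅g, b⁆ * b'⁻¹ ∈ (⁅A, B⁆ : Subgroup G)
    have h1 : b' * ⁅g, b⁆ * b'⁻¹ = ⁅g, b'⁆⁻¹ * ⁅g, b' * b⁆ := by
      simp only [commutatorElement_def]; group
    rw [h1]
    exact mul_mem (inv_mem (Subgroup.commutator_mem_commutator hg hb'))
      (Subgroup.commutator_mem_commutator hg (mul_mem hb' hb))
  exact h hk

theorem mem_normalizer_of_conj {G : Type*} [Group G] {S : Subgroup G} {g : G}
    (h1 : ∀ s ∈ S, g * s * g⁻¹ ∈ S) (h2 : ∀ s ∈ S, g⁻¹ * s * g⁻¹⁻¹ ∈ S) :
    g ∈ normalizer (S : Set G) := by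
  rw [mem_normalizer_iff]
  intro s
  refine ⟨h1 s, fun hs => ?_⟩
  have := h2 _ hs
  have e : g⁻¹ * (g * s * g⁻¹) * g⁻¹⁻¹ = s := by group
  rwa [e] at this

/-- A `p`-group acting by conjugation on a coset `h N` with `p ∤ |N|` fixes a point of it. -/
theorem exists_fixed_in_coset {G : Type*} [Group G] [Finite G] {p : ℕ} [Fact p.Prime]
    (P : Subgroup G) (hP : IsPGroup p P) (N : Subgroup G) (hN : ¬ p ∣ Nat.card N)
    (hPN : ∀ x ∈ P, ∀ n ∈ N, x * n * x⁻¹ ∈ N) (h : G)
    (hh : ∀ x ∈ P, h⁻¹ * (x * h * x⁻¹) ∈ N) :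
    ∃ n ∈ N, ∀ x ∈ P, x * (h * n) * x⁻¹ = h * n := by
  letI : MulAction P N :=
    { smul := fun x n => ⟨h⁻¹ * ((x : G) * (h * n) * (x : G)⁻¹), by
        have e : h⁻¹ * ((x : G) * (h * n) * (x : G)⁻¹) =
            (h⁻¹ * ((x : G) * h * (x : G)⁻¹)) * ((x : G) * n * (x : G)⁻¹) := by group
        rw [e]; exact N.mul_mem (hh x x.2) (hPN x x.2 n n.2)⟩
      one_smul := fun n => by
        apply Subtype.ext
        show h⁻¹ * (((1 : P) : G) * (h * n) * ((1 : P) : G)⁻¹) = n
        simp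
      mul_smul := fun x y n => by
        apply Subtype.ext
        show h⁻¹ * (((x * y : P) : G) * (h * n) * ((x * y : P) : G)⁻¹) =
          h⁻¹ * ((x : G) * (h * (h⁻¹ * ((y : G) * (h * n) * (y : G)⁻¹))) * (x : G)⁻¹)
        simp only [Subgroup.coe_mul]
        group }
  obtain ⟨n, hn⟩ := hP.nonempty_fixed_point_of_prime_not_dvd_card N hN
  refine ⟨n, n.2, fun x hx => ?_⟩
  have h1 : (⟨x, hx⟩ : P) • n = n := hn ⟨x, hx⟩
  have h2 : h⁻¹ * (x * (h * n) * x⁻¹) = n := congrArg Subtype.val h1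
  calc x * (h * n) * x⁻¹ = h * (h⁻¹ * (x * (h * n) * x⁻¹)) := by group
    _ = h * n := by rw [h2]

open Cfsg.Agent.Lib.Helper33.Conj in
theorem mem_normalizer_sup {G : Type*} [Group G] {A B : Subgroup G} {g : G}
    (hA : g ∈ normalizer (A : Set G)) (hB : g ∈ normalizer (B : Set G)) :
    g ∈ normalizer ((A ⊔ B : Subgroup G) : Set G) := by
  rw [mem_normalizer_iff_cj_eq] at hA hB ⊢
  rw [Subgroup.map_sup, hA, hB]

open Cfsg.Agent.Lib.Helper33.Conj in
theorem mem_normalizer_inf {G : Type*} [Group G] {A B : Subgroup G} {g : G}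
    (hA : g ∈ normalizer (A : Set G)) (hB : g ∈ normalizer (B : Set G)) :
    g ∈ normalizer ((A ⊓ B : Subgroup G) : Set G) := by
  rw [mem_normalizer_iff_cj_eq] at hA hB ⊢
  rw [cj_inf, hA, hB]

open Cfsg.Agent.Lib.Helper76 Cfsg.Agent.Lib.Helper21 Cfsg.Agent.Lib.Helper70 in
/-- Let G be a finite group with Sylow p-subgroup P and H = O_{p'}(G), and suppose G = PH and the commutator subgroup [H, P] is solvable. Let q be a prime and z an element of q-power order of C_H(P). Then (O_{q'}(C_H(z)) ∩ O_{q'}(C_H(P))) · [O_{q'}(C_H(z)), P] ≤ O_{q'}(H). -/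
theorem result {G : Type*} [Group G] [Finite G] {p : ℕ} [Fact p.Prime]
    (P : Sylow p G) (hPH : Cfsg.pPrimeCore p G ⊔ (P : Subgroup G) = ⊤)
    (hsol : Group.IsSolvable ↥⁅Cfsg.pPrimeCore p G, (P : Subgroup G)⁆)
    {q : ℕ} [Fact q.Prime] (z : G) (hzH : z ∈ Cfsg.pPrimeCore p G) (hzP : z ∈ Subgroup.centralizer ((P : Subgroup G) : Set G))
    (hz : ∃ k : ℕ, orderOf z = q ^ k) :
    ((Cfsg.pPrimeCore q ↥(Cfsg.pPrimeCore p G ⊓ Subgroup.centralizer ({z} : Set G))).map
        (Cfsg.pPrimeCore p G ⊓ Subgroup.centralizer ({z} : Set G)).subtype ⊓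
      (Cfsg.pPrimeCore q ↥(Cfsg.pPrimeCore p G ⊓ Subgroup.centralizer ((P : Subgroup G) : Set G))).map
        (Cfsg.pPrimeCore p G ⊓ Subgroup.centralizer ((P : Subgroup G) : Set G)).subtype) ⊔
    ⁅(Cfsg.pPrimeCore q ↥(Cfsg.pPrimeCore p G ⊓ Subgroup.centralizer ({z} : Set G))).map
        (Cfsg.pPrimeCore p G ⊓ Subgroup.centralizer ({z} : Set G)).subtype, (P : Subgroup G)⁆ ≤
    (Cfsg.pPrimeCore q ↥(Cfsg.pPrimeCore p G)).map (Cfsg.pPrimeCore p G).subtype := by
  classical
  have hp : p.Prime := Fact.out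
  have hq : q.Prime := Fact.out
  obtain ⟨H, hH⟩ : ∃ H : Subgroup G, H = Cfsg.pPrimeCore p G := ⟨_, rfl⟩
  obtain ⟨Pg, hPg⟩ : ∃ Pg : Subgroup G, Pg = (P : Subgroup G) := ⟨_, rfl⟩
  rw [← hH] at hsol hzH ⊢
  rw [← hPg] at hsol hzP ⊢
  have hHn : H.Normal := by rw [hH]; infer_instance
  have hHc : (Nat.card H).Coprime p := by rw [hH]; exact PSolv.pPrimeCore_coprime p
  have hPp : IsPGroup p Pg := by rw [hPg]; exact P.isPGroup'
  obtain ⟨K, hK⟩ : ∃ K : Subgroup G, K = ⁅H, Pg⁆ := ⟨_, rfl⟩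
  rw [← hK] at hsol
  have hKH : K ≤ H := by rw [hK]; exact Subgroup.commutator_le_left H Pg
  have hKconjH : ∀ a ∈ H, ∀ k ∈ K, a * k * a⁻¹ ∈ K := by
    rw [hK]; exact commutator_conj_left H Pg
  have hKconjP : ∀ a ∈ Pg, ∀ k ∈ K, a * k * a⁻¹ ∈ K := by
    rw [hK]; exact commutator_conj_right H Pg
  have hKnH : H ≤ normalizer (K : Set G) := fun a ha =>
    mem_normalizer_of_conj (hKconjH a ha) (hKconjH a⁻¹ (H.inv_mem ha))
  obtain ⟨Cz, hCz⟩ : ∃ Cz : Subgroup G, Cz = H ⊓ centralizer ({z} : Set G) := ⟨_, rfl⟩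
  obtain ⟨CP, hCP⟩ : ∃ CP : Subgroup G, CP = H ⊓ centralizer (Pg : Set G) := ⟨_, rfl⟩
  rw [← hCz, ← hCP]
  obtain ⟨X, hX⟩ : ∃ X : Subgroup G, X = (Cfsg.pPrimeCore q ↥Cz).map Cz.subtype := ⟨_, rfl⟩
  obtain ⟨O, hO⟩ : ∃ O : Subgroup G, O = (Cfsg.pPrimeCore q ↥CP).map CP.subtype := ⟨_, rfl⟩
  rw [← hX, ← hO]
  have hXCz : X ≤ Cz := by rw [hX]; exact map_subtype_le _
  have hOCP : O ≤ CP := by rw [hO]; exact map_subtype_le _
  have hXc : (Nat.card X).Coprime q := by
    rw [hX, card_map_of_injective (subtype_injective _)]; exact PSolv.pPrimeCore_coprime q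
  have hOc : (Nat.card O).Coprime q := by
    rw [hO, card_map_of_injective (subtype_injective _)]; exact PSolv.pPrimeCore_coprime q
  have hCzX : Cz ≤ normalizer (X : Set G) := by
    rw [hX]; exact LBal.le_normalizer_map_subtype _ _
  have hCPO : CP ≤ normalizer (O : Set G) := by
    rw [hO]; exact LBal.le_normalizer_map_subtype _ _
  -- coprime factorization `H = C_H(P) K`
  have hKp : ¬ p ∣ Nat.card K := by
    intro hd
    have h1 : Nat.card K ∣ Nat.card H := Subgroup.card_dvd_of_le hKH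
    have h2 : p ∣ Nat.gcd (Nat.card H) p := Nat.dvd_gcd (hd.trans h1) dvd_rfl
    rw [hHc] at h2
    exact hp.one_lt.ne' (Nat.dvd_one.1 h2)
  have hfact : ∀ h ∈ H, ∃ c ∈ CP, ∃ k ∈ K, h = c * k := by
    intro h hh
    obtain ⟨n, hn, hfix⟩ := exists_fixed_in_coset Pg hPp K hKp hKconjP h (by
      intro x hx
      have e : h⁻¹ * (x * h * x⁻¹) = ⁅h⁻¹, x⁆ := by
        simp only [commutatorElement_def]; group
      rw [e, hK]
      exact Subgroup.commutator_mem_commutator (H.inv_mem hh) hx)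
    refine ⟨h * n, ?_, n⁻¹, K.inv_mem hn, by group⟩
    rw [hCP]
    refine ⟨H.mul_mem hh (hKH hn), ?_⟩
    show h * n ∈ centralizer (Pg : Set G)
    rw [Subgroup.mem_centralizer_iff]
    intro x hx
    have h1 := hfix x hx
    calc x * (h * n) = (x * (h * n) * x⁻¹) * x := by group
      _ = h * n * x := by rw [h1]
  obtain ⟨M, hM⟩ : ∃ M : Subgroup G, M = K ⊔ O := ⟨_, rfl⟩
  have hKM : K ≤ M := by rw [hM]; exact le_sup_left
  have hOM' : O ≤ M := by rw [hM]; exact le_sup_right
  have hCPH : CP ≤ H := by rw [hCP]; exact inf_le_left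
  have hCzH : Cz ≤ H := by rw [hCz]; exact inf_le_left
  have hMH : M ≤ H := by rw [hM]; exact sup_le hKH (hOCP.trans hCPH)
  have hMn : H ≤ normalizer (M : Set G) := by
    intro h hh
    obtain ⟨c, hc, k, hk, rfl⟩ := hfact h hh
    refine (normalizer (M : Set G)).mul_mem ?_ (le_normalizer (hKM hk))
    rw [hM]
    exact mem_normalizer_sup (hKnH (hCPH hc)) (hCPO hc)
  -- the `q`-solvable group `G' = M⟨z⟩`
  obtain ⟨G', hG'⟩ : ∃ G' : Subgroup G, G' = M ⊔ zpowers z := ⟨_, rfl⟩
  have hMG' : M ≤ G' := by rw [hG']; exact le_sup_left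
  have hzG' : z ∈ G' := by rw [hG']; exact mem_sup_right (mem_zpowers z)
  have hG'H : G' ≤ H := by
    rw [hG']; exact sup_le hMH (by rw [zpowers_le]; exact hzH)
  have hK'n : (K.subgroupOf G').Normal :=
    (normal_subgroupOf_iff_le_normalizer (hKM.trans hMG')).2 (hG'H.trans hKnH)
  have hM'eq : M.subgroupOf G' = K.subgroupOf G' ⊔ O.subgroupOf G' := by
    rw [hM]; exact subgroupOf_sup (hKM.trans hMG') (hOM'.trans hMG')
  have hM'n : (K.subgroupOf G' ⊔ O.subgroupOf G').Normal := by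
    rw [← hM'eq]
    exact (normal_subgroupOf_iff_le_normalizer hMG').2 (hG'H.trans hMn)
  have hK'sol : Group.IsSolvable (K.subgroupOf G') :=
    Group.isSolvable_of_isSolvable_injective
      (f := (subgroupOfEquivOfLe (hKM.trans hMG')).toMonoidHom)
      (subgroupOfEquivOfLe (hKM.trans hMG')).injective
  have hRC1 : RC q (K.subgroupOf G') := rc_of_solvable q _ _ rfl hK'n hK'sol
  have hO'c : (Nat.card (O.subgroupOf G')).Coprime q := by
    rw [Nat.card_congr (subgroupOfEquivOfLe (hOM'.trans hMG')).toEquiv]; exact hOc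
  have hRC2 : RC q (K.subgroupOf G' ⊔ O.subgroupOf G') :=
    rc_step hRC1 _ hM'n (Nat.card (O.subgroupOf G')) (Or.inr hO'c)
      (fun x hx => pow_card_mem_of_mem_sup _ _ x hx)
  have htop : (K.subgroupOf G' ⊔ O.subgroupOf G') ⊔ (zpowers z).subgroupOf G' = ⊤ := by
    rw [← hM'eq, ← subgroupOf_sup hMG' (by rw [zpowers_le]; exact hzG'), ← hG']
    exact subgroupOf_self G'
  obtain ⟨kz, hkz⟩ := hz
  have hZ'c : Nat.card ((zpowers z).subgroupOf G') = q ^ kz := by
    rw [Nat.card_congr (subgroupOfEquivOfLe (by rw [zpowers_le]; exact hzG')).toEquiv,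
      Nat.card_zpowers, hkz]
  have hRC3 : RC q (⊤ : Subgroup G') :=
    rc_step hRC2 ⊤ inferInstance (Nat.card ((zpowers z).subgroupOf G')) (Or.inl ⟨kz, hZ'c⟩)
      (fun x _ => pow_card_mem_of_mem_sup _ _ x (htop ▸ mem_top x))
  have hch : HallHigman.PChain q G' := hRC3
  have hcent : Subgroup.centralizer ((pCore q (G' ⧸ pPrimeCore q G') :
      Subgroup (G' ⧸ pPrimeCore q G')) : Set (G' ⧸ pPrimeCore q G')) ≤
      pCore q (G' ⧸ pPrimeCore q G') := by
    refine HallHigman.centralizer_pCore_le q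
      (hch.of_surjective (QuotientGroup.mk' _) (QuotientGroup.mk'_surjective _)) ?_
    intro N hN hc
    have h1 := PSolv.le_pPrimeCore hN hc
    rw [PSolv.pPrimeCore_quotient] at h1
    exact le_bot_iff.1 h1
  -- the balance lemma in `G'`
  obtain ⟨E, hE⟩ : ∃ E : Subgroup G, E = X ⊓ M := ⟨_, rfl⟩
  have hEX : E ≤ X := by rw [hE]; exact inf_le_left
  have hEM : E ≤ M := by rw [hE]; exact inf_le_right
  have hcz : ∀ x ∈ Cz, x * z = z * x := by
    intro x hx
    rw [hCz] at hx
    exact Subgroup.mem_centralizer_singleton_iff.1 hx.2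
  have hE' : E.subgroupOf G' ≤ pPrimeCore q G' := by
    apply S0661.le_pPrimeCore_of_constrained q hcent (zpowers (⟨z, hzG'⟩ : G')) ?_
      (E.subgroupOf G') ?_ ?_ ?_
    · apply IsPGroup.of_card (n := kz)
      rw [Nat.card_zpowers, Subgroup.orderOf_mk, hkz]
    · rw [Nat.card_congr (subgroupOfEquivOfLe (hEM.trans hMG')).toEquiv]
      exact Nat.Coprime.coprime_dvd_left (Subgroup.card_dvd_of_le hEX) hXc
    · intro e he b hb
      obtain ⟨i, rfl⟩ := mem_zpowers_iff.1 hb
      have h1 : (e : G) * z = z * e := hcz _ (hXCz (hEX (mem_subgroupOf.1 he)))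
      have h2 : Commute e (⟨z, hzG'⟩ : G') := Subtype.ext h1
      exact (h2.zpow_right i).eq
    · intro y hy e he
      have hyz : (y : G) * z = z * y :=
        congrArg Subtype.val (hy (⟨z, hzG'⟩ : G') (mem_zpowers _))
      have hyCz : (y : G) ∈ Cz := by
        rw [hCz]
        exact ⟨hG'H y.2, Subgroup.mem_centralizer_singleton_iff.2 hyz⟩
      rw [mem_subgroupOf] at he ⊢
      rw [hE] at he ⊢
      refine ⟨?_, ?_⟩
      · exact (mem_normalizer_iff.1 (hCzX hyCz) e).1 he.1
      · exact (mem_normalizer_iff.1 (hMn (hG'H y.2)) e).1 he.2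
  -- conclusion
  obtain ⟨R, hR⟩ : ∃ R : Subgroup G, R = (pPrimeCore q G').map G'.subtype := ⟨_, rfl⟩
  have hER : E ≤ R := by
    intro e he
    rw [hR]
    exact ⟨⟨e, hMG' (hEM he)⟩, hE' (mem_subgroupOf.2 he), rfl⟩
  have hRc : (Nat.card R).Coprime q := by
    rw [hR, card_map_of_injective (subtype_injective _)]; exact PSolv.pPrimeCore_coprime q
  have hG'R : G' ≤ normalizer (R : Set G) := by
    rw [hR]; exact LBal.le_normalizer_map_subtype _ _
  have hT : R ⊓ M ≤ (pPrimeCore q M).map M.subtype := by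
    refine Balance.le_pPrimeCoreOf inf_le_right ?_ ?_
    · exact Nat.Coprime.coprime_dvd_left (Subgroup.card_dvd_of_le inf_le_left) hRc
    · intro m hm
      exact mem_normalizer_inf (hG'R (hMG' hm)) (le_normalizer hm)
  have hOMc : (Nat.card ((pPrimeCore q M).map M.subtype)).Coprime q := by
    rw [card_map_of_injective (subtype_injective _)]; exact PSolv.pPrimeCore_coprime q
  have hOM : (pPrimeCore q M).map M.subtype ≤ (pPrimeCore q H).map H.subtype :=
    Balance.le_pPrimeCoreOf ((map_subtype_le _).trans hMH) hOMc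
      (hMn.trans (Balance.normalizer_le_normalizer_pPrimeCoreOf q M))
  have hEfin : E ≤ (pPrimeCore q H).map H.subtype := fun e he => hOM (hT ⟨hER he, hEM he⟩)
  refine sup_le ?_ ?_
  · refine le_trans ?_ hEfin
    rw [hE]
    exact inf_le_inf_left X hOM'
  · refine le_trans (le_inf ?_ ?_) (hE ▸ hEfin)
    · rw [Subgroup.commutator_le]
      intro x hx g hg
      have hgCz : g ∈ normalizer (Cz : Set G) := by
        rw [hCz]
        refine mem_normalizer_inf ?_ ?_
        · rw [Subgroup.normalizer_eq_top]; exact mem_top g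
        · have hgz : g * z = z * g := (Subgroup.mem_centralizer_iff.1 hzP g hg)
          rw [mem_normalizer_iff]
          intro h
          rw [Subgroup.mem_centralizer_singleton_iff, Subgroup.mem_centralizer_singleton_iff]
          constructor
          · intro hh
            calc g * h * g⁻¹ * z = g * h * (z * g⁻¹) := by
                  have : g⁻¹ * z = z * g⁻¹ := by
                    calc g⁻¹ * z = g⁻¹ * (z * g) * g⁻¹ := by group
                      _ = g⁻¹ * (g * z) * g⁻¹ := by rw [hgz]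
                      _ = z * g⁻¹ := by group
                  rw [mul_assoc, this]
              _ = g * (h * z) * g⁻¹ := by group
              _ = g * (z * h) * g⁻¹ := by rw [hh]
              _ = (g * z) * h * g⁻¹ := by group
              _ = z * (g * h * g⁻¹) := by rw [hgz]; group
          · intro hh
            calc h * z = g⁻¹ * ((g * h * g⁻¹) * (g * z)) := by group
              _ = g⁻¹ * ((g * h * g⁻¹) * (z * g)) := by rw [hgz]
              _ = g⁻¹ * ((g * h * g⁻¹ * z) * g) := by group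
              _ = g⁻¹ * ((z * (g * h * g⁻¹)) * g) := by rw [hh]
              _ = (g⁻¹ * z * g) * h := by group
              _ = z * h := by
                  have : g⁻¹ * z * g = z := by
                    calc g⁻¹ * z * g = g⁻¹ * (z * g) := by group
                      _ = g⁻¹ * (g * z) := by rw [hgz]
                      _ = z := by group
                  rw [this]
      have hgN : g ∈ normalizer (X : Set G) := by
        rw [hX]
        exact Balance.normalizer_le_normalizer_pPrimeCoreOf q Cz hgCz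
      have e : ⁅x, g⁆ = x * (g * x⁻¹ * g⁻¹) := by
        simp only [commutatorElement_def]; group
      rw [e]
      exact X.mul_mem hx ((mem_normalizer_iff.1 hgN x⁻¹).1 (X.inv_mem hx))
    · rw [hM]
      refine le_trans ?_ le_sup_left
      rw [hK]
      exact Subgroup.commutator_mono (hXCz.trans hCzH) le_rfl

end Cfsg.Agent.S3819
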