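import Cfsg.Statements.S3824
import Cfsg.Agent.S0143
import Cfsg.Agent.S0144
import Cfsg.Agent.Lib.Helper71.Fitting

set_option autoImplicit false
open Cfsg

namespace Cfsg.Agent.S3824

universe u

theorem main : ∀ (n : ℕ) (G : Type u) [Group G] [Finite G], Nat.card G = n →
    (∃ A : Subgroup G, IsMulCommutative A ∧ ∃ k : ℕ, A.index = 2 ^ k) → Group.IsSolvable G := by
  intro n
  induction n using Nat.strong_induction_on with
  | _ n ih =>
    intro G _ _ hn hA
    obtain ⟨A, hAc, k, hk⟩ := hA
    by_cases hsimple : IsSimpleGroup G
    · rcases A.bot_or_exists_ne_one with hAbot | ⟨a, haA, ha1⟩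
      · rw [hAbot, Subgroup.index_bot] at hk
        exact Cfsg.Agent.S0144.result 2 2 k 0 Nat.prime_two Nat.prime_two (by rw [hk]; simp)
      · have hle : A ≤ Subgroup.centralizer ({a} : Set G) := by
          intro x hx
          rw [Subgroup.mem_centralizer_iff]
          intro y hy
          rw [Set.mem_singleton_iff] at hy
          subst hy
          have := hAc.is_comm.comm (⟨y, haA⟩ : A) ⟨x, hx⟩
          exact congrArg Subtype.val this
        have hdvd : (Subgroup.centralizer ({a} : Set G)).index ∣ 2 ^ k :=
          hk ▸ Subgroup.index_dvd_of_le hle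
        obtain ⟨j, -, hj⟩ := (Nat.dvd_prime_pow Nat.prime_two).1 hdvd
        have hprime : (Nat.card G).Prime :=
          Cfsg.Agent.S0143.result 2 j Nat.prime_two a ha1 hj
        have : Fact (Nat.card G).Prime := ⟨hprime⟩
        have : IsCyclic G := isCyclic_of_prime_card rfl
        exact Group.isSolvable_of_comm (fun a b => (IsCyclic.commGroup (α := G)).mul_comm a b)
    · by_cases htriv : Subsingleton G
      · infer_instance
      · have : Nontrivial G := not_subsingleton_iff_nontrivial.1 htriv
        have hex : ∃ N : Subgroup G, N.Normal ∧ N ≠ ⊥ ∧ N ≠ ⊤ := by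
          by_contra hcon
          push Not at hcon
          exact hsimple ⟨fun N hN => by
            by_cases h : N = ⊥
            · exact Or.inl h
            · exact Or.inr (hcon N hN h)⟩
        obtain ⟨N, hN, hbot, htop⟩ := hex
        have hmul : Nat.card N * N.index = n := by rw [Subgroup.card_mul_index, hn]
        have hN1 : 1 < Nat.card N := (Subgroup.one_lt_card_iff_ne_bot N).2 hbot
        have hi1 : N.index ≠ 1 := fun h => htop (Subgroup.index_eq_one.1 h)
        have hi0 : N.index ≠ 0 := Subgroup.index_ne_zero_of_finite
        have hNlt : Nat.card N < n := by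
          rw [← hmul]
          have : 2 ≤ N.index := by omega
          nlinarith
        have hilt : N.index < n := by
          rw [← hmul]
          nlinarith
        have hsN : Group.IsSolvable N := by
          have hd : A.relIndex N ∣ 2 ^ k :=
            hk ▸ Cfsg.Agent.Lib.Helper71.Fitting.relIndex_dvd_index_of_normal_right A N
          obtain ⟨j, -, hj⟩ := (Nat.dvd_prime_pow Nat.prime_two).1 hd
          exact ih (Nat.card N) hNlt N rfl ⟨A.subgroupOf N, inferInstance, j, hj⟩
        have hsQ : Group.IsSolvable (G ⧸ N) := by
          have hd : (A.map (QuotientGroup.mk' N)).index ∣ 2 ^ k :=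
            hk ▸ Subgroup.index_map_dvd A (QuotientGroup.mk'_surjective N)
          obtain ⟨j, -, hj⟩ := (Nat.dvd_prime_pow Nat.prime_two).1 hd
          exact ih N.index hilt (G ⧸ N) (Subgroup.index_eq_card N).symm
            ⟨A.map (QuotientGroup.mk' N), inferInstance, j, hj⟩
        exact (Group.isSolvable_iff_subgroup_quotient N).2 ⟨hsN, hsQ⟩

/-- Every finite group having an abelian subgroup whose index is a power of 2 is solvable. -/
theorem result {G : Type*} [Group G] [Finite G]
    (A : Subgroup G) (hA : IsMulCommutative A) (hidx : ∃ k : ℕ, A.index = 2 ^ k) : Group.IsSolvable G := by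
  exact main (Nat.card G) G rfl ⟨A, hA, hidx⟩

end Cfsg.Agent.S3824
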