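import Cfsg.Statements.S3868
import Cfsg.Agent.Lib.Helper64.MinNonClosed
-- import your own Cfsg.Agent.* helpers here

set_option autoImplicit false
open Cfsg

namespace Cfsg.Agent.S3868

open Cfsg.Agent.Lib.Helper64.IrredPrime Cfsg.Agent.Lib.Helper64.MinNonClosed

/-- A normal Sylow subgroup of a normal subgroup is normal in the whole group. -/
theorem normal_of_sylow_normal {G : Type*} [Group G] [Finite G] {p : ℕ} [Fact p.Prime]
    (N : Subgroup G) [hN : N.Normal] (S : Sylow p N) (hS : (S : Subgroup N).Normal) :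
    ((S : Subgroup N).map N.subtype).Normal := by
  have hchar := Sylow.characteristic_of_normal S hS
  exact ConjAct.normal_of_characteristic_of_normal

/-- Structure of the non-simple minimal non-p-closed groups. Call a finite group p-closed when its Sylow p-subgroups are normal, and minimal non-p-closed when it is not p-closed but every proper subgroup and every proper quotient is. If such a group G is not simple, then there is a prime q ≠ p such that G has order p · q^e, where e is the multiplicative order of q modulo p, and G has a normal subgroup A of order q^e that is elementary abelian and is a minimal normal subgroup of G (so G is the semidirect product of A by a group of order p acting irreducibly). -/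
theorem result {G : Type*} [Group G] [Finite G] {p : ℕ} [Fact p.Prime]
    (hnc : ¬ Cfsg.IsPClosed p G) (hsub : ∀ H : Subgroup G, H ≠ ⊤ → Cfsg.IsPClosed p ↥H)
    (hquo : ∀ (N : Subgroup G) [N.Normal], N ≠ ⊥ → Cfsg.IsPClosed p (G ⧸ N)) (hns : ¬ IsSimpleGroup G) :
    ∃ q : ℕ, q.Prime ∧ q ≠ p ∧ Nat.card G = p * q ^ orderOf (q : ZMod p) ∧
      ∃ A : Subgroup G, A.Normal ∧ Nat.card ↥A = q ^ orderOf (q : ZMod p) ∧ Cfsg.IsElementaryAbelian q A ∧
        ∀ B : Subgroup G, B.Normal → B ≤ A → B = ⊥ ∨ B = A := by
  classical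
  have hp : p.Prime := Fact.out
  -- a non-normal Sylow
  obtain ⟨P, hP⟩ : ∃ P : Sylow p G, ¬ (P : Subgroup G).Normal := by
    by_contra h
    push Not at h
    exact hnc h
  -- for a nontrivial normal subgroup K, P K is normal
  have hPK : ∀ K : Subgroup G, K.Normal → K ≠ ⊥ → ((P : Subgroup G) ⊔ K).Normal := by
    intro K hKn hK
    have hcl := @hquo K hKn hK
    have hbar : ((P.mapSurjective (QuotientGroup.mk'_surjective K) : Sylow p (G ⧸ K)) :
        Subgroup (G ⧸ K)).Normal := hcl _
    rw [Sylow.coe_mapSurjective] at hbar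
    have h1 : ((P : Subgroup G).map (QuotientGroup.mk' K)).comap (QuotientGroup.mk' K) =
        (P : Subgroup G) ⊔ K := by
      rw [Subgroup.comap_map_eq, QuotientGroup.ker_mk']
    rw [← h1]
    exact hbar.comap _
  -- no nontrivial normal p-subgroup
  have hL1 : ∀ K : Subgroup G, K.Normal → IsPGroup p K → K = ⊥ := by
    intro K hKn hKp
    by_contra hK
    apply hP
    have h2 := hPK K hKn hK
    have h3 : IsPGroup p ((P : Subgroup G) ⊔ K : Subgroup G) :=
      IsPGroup.to_sup_of_normal_right P.2 hKp
    have h4 : (P : Subgroup G) ⊔ K = P := P.3 h3 le_sup_left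
    rw [← h4]; exact h2
  have hGnt : Nontrivial G := by
    by_contra h
    rw [not_nontrivial_iff_subsingleton] at h
    apply hP
    exact ⟨fun n hn g => by rw [Subsingleton.elim (g * n * g⁻¹) 1]; exact Subgroup.one_mem _⟩
  obtain ⟨K, hKn, hKbot, hKtop⟩ : ∃ K : Subgroup G, K.Normal ∧ K ≠ ⊥ ∧ K ≠ ⊤ := by
    by_contra h
    push Not at h
    apply hns
    exact { exists_pair_ne := hGnt.exists_pair_ne
            eq_bot_or_eq_top_of_normal := fun H hH => by
              by_cases hb : H = ⊥
              · exact Or.inl hb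
              · exact Or.inr (h H hH hb) }
  obtain ⟨N, hNn, hNbot, hNK, hmin⟩ := exists_minimal_normal_le K hKn hKbot
  have hNtop : N ≠ ⊤ := fun h => hKtop (eq_top_iff.2 (h ▸ hNK))
  -- P N = G
  have hPN : (P : Subgroup G) ⊔ N = ⊤ := by
    by_contra hM
    apply hP
    have h2 := hPK N hNn hNbot
    have hclM := hsub _ hM
    have hle : (P : Subgroup G) ≤ (P : Subgroup G) ⊔ N := le_sup_left
    have hS : ((P.subtype hle : Sylow p ((P : Subgroup G) ⊔ N : Subgroup G)) :
        Subgroup ((P : Subgroup G) ⊔ N : Subgroup G)).Normal := hclM (P.subtype hle)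
    have h3 := normal_of_sylow_normal _ (P.subtype hle) hS
    rw [Sylow.coe_subtype, Subgroup.map_subgroupOf_eq_of_le hle] at h3
    exact h3
  -- N is a p'-group
  have hpN : ¬ p ∣ Nat.card N := by
    intro hdvd
    have hclN := hsub N hNtop
    let S : Sylow p N := default
    have hS : (S : Subgroup N).Normal := hclN S
    have h3 := normal_of_sylow_normal N S hS
    have h4 := hL1 _ h3 (S.2.map _)
    have h5 : (S : Subgroup N) = ⊥ :=
      (Subgroup.map_eq_bot_iff_of_injective _ N.subtype_injective).1 h4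
    exact S.ne_bot_of_dvd_card hdvd h5
  -- a central element of order p in P
  have hPbot : (P : Subgroup G) ≠ ⊥ := by
    intro h
    apply hP
    rw [h]
    infer_instance
  have hPnt : Nontrivial (P : Subgroup G) := (Subgroup.nontrivial_iff_ne_bot _).2 hPbot
  have hZnt : Nontrivial (Subgroup.center (P : Subgroup G)) := P.2.center_nontrivial
  have hZp : IsPGroup p (Subgroup.center (P : Subgroup G)) := P.2.to_subgroup _
  obtain ⟨z, hz⟩ : ∃ z : Subgroup.center (P : Subgroup G), orderOf z = p := by
    apply exists_prime_orderOf_dvd_card' p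
    obtain ⟨n, hn, hcard⟩ := hZp.nontrivial_iff_card.1 hZnt
    rw [hcard]
    exact dvd_pow_self p hn.ne'
  obtain ⟨x, hxdef⟩ : ∃ x : G, x = ((z : (P : Subgroup G)) : G) := ⟨_, rfl⟩
  have hx : orderOf x = p := by
    rw [hxdef, Subgroup.orderOf_coe, Subgroup.orderOf_coe, hz]
  have hxP : ∀ u ∈ (P : Subgroup G), u * x = x * u := by
    intro u hu
    have := Subgroup.mem_center_iff.1 z.2 ⟨u, hu⟩
    rw [hxdef]
    exact congrArg Subtype.val this
  have hcardx : Nat.card (Subgroup.zpowers x) = p := by rw [Nat.card_zpowers, hx]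
  have hxp : IsPGroup p (Subgroup.zpowers x) := IsPGroup.of_card (n := 1) (by rw [hcardx, pow_one])
  -- hypothesis (c)
  have hc : ∀ R : Subgroup G, R ≤ N → Subgroup.zpowers x ⊔ R ≠ ⊤ → ∀ r ∈ R, r * x = x * r := by
    intro R hRN hM r hr
    have hclM := hsub _ hM
    have hxM : x ∈ Subgroup.zpowers x ⊔ R :=
      (le_sup_left : Subgroup.zpowers x ≤ Subgroup.zpowers x ⊔ R) (Subgroup.mem_zpowers x)
    have hrM : r ∈ Subgroup.zpowers x ⊔ R :=
      (le_sup_right : R ≤ Subgroup.zpowers x ⊔ R) hr
    have hxp' : IsPGroup p ((Subgroup.zpowers x).subgroupOf (Subgroup.zpowers x ⊔ R)) :=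
      hxp.comap_subtype
    obtain ⟨S, hS⟩ := hxp'.exists_le_sylow
    have hSn : (S : Subgroup (Subgroup.zpowers x ⊔ R : Subgroup G)).Normal := hclM S
    have hxS : (⟨x, hxM⟩ : (Subgroup.zpowers x ⊔ R : Subgroup G)) ∈ S :=
      hS (by rw [Subgroup.mem_subgroupOf]; exact Subgroup.mem_zpowers x)
    have h1 : (⟨r, hrM⟩ : (Subgroup.zpowers x ⊔ R : Subgroup G)) * (⟨x, hxM⟩)⁻¹ * (⟨r, hrM⟩)⁻¹ ∈ S :=
      hSn.conj_mem _ (inv_mem hxS) _
    have h2 : (⟨x, hxM⟩ : (Subgroup.zpowers x ⊔ R : Subgroup G)) *
        (⟨r, hrM⟩ * (⟨x, hxM⟩)⁻¹ * (⟨r, hrM⟩)⁻¹) ∈ S := mul_mem hxS h1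
    obtain ⟨k, hk⟩ := S.2 ⟨_, h2⟩
    have hk' : (x * (r * x⁻¹ * r⁻¹)) ^ (p ^ k) = 1 := by
      have := congrArg (fun y : (S : Subgroup (Subgroup.zpowers x ⊔ R : Subgroup G)) =>
        (((y : (Subgroup.zpowers x ⊔ R : Subgroup G))) : G)) hk
      simpa using this
    exact commute_of_pow_eq_one N hpN x r (hRN hr) k hk'
  -- hypothesis (d)
  have hd : ¬ ∀ n ∈ N, n * x = x * n := by
    intro hcen
    have h1 : ∀ g : G, g * x = x * g := by
      intro g
      have hg : g ∈ Subgroup.centralizer ({x} : Set G) := by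
        have : (P : Subgroup G) ⊔ N ≤ Subgroup.centralizer ({x} : Set G) := by
          apply sup_le
          · intro u hu
            rw [Subgroup.mem_centralizer_iff]
            intro y hy
            rw [Set.mem_singleton_iff] at hy
            subst hy
            exact (hxP u hu).symm
          · intro u hu
            rw [Subgroup.mem_centralizer_iff]
            intro y hy
            rw [Set.mem_singleton_iff] at hy
            subst hy
            exact (hcen u hu).symm
        rw [hPN] at this
        exact this trivial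
      rw [Subgroup.mem_centralizer_iff] at hg
      exact (hg x rfl).symm
    have h2 : (Subgroup.zpowers x).Normal := by
      refine ⟨fun a ha g => ?_⟩
      have hcomm : g * a = a * g := by
        obtain ⟨k, rfl⟩ := Subgroup.mem_zpowers_iff.1 ha
        exact ((Commute.zpow_right (h1 g) k))
      have : g * a * g⁻¹ = a := by rw [hcomm]; group
      rw [this]; exact ha
    have h3 := hL1 _ h2 hxp
    rw [Subgroup.zpowers_eq_bot] at h3
    rw [h3, orderOf_one] at hx
    exact hp.one_lt.ne hx
  obtain ⟨q, hq, hqp, hcardG, hcardN, hcommN, hexpN⟩ :=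
    structure_of_minimal x hx N hpN hmin hc hd
  exact ⟨q, hq, hqp, hcardG, N, hNn, hcardN, ⟨hcommN, hexpN⟩, hmin⟩

end Cfsg.Agent.S3868
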