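import Cfsg.Statements.S3869
import Cfsg.Agent.Lib.Helper64.IrredPrime
-- import your own Cfsg.Agent.* helpers here

set_option autoImplicit false
open Cfsg

namespace Cfsg.Agent.S3869

open Cfsg.Agent.Lib.Helper64.IrredPrime

/-- A subgroup `H` meeting the abelian normal subgroup `A` of prime index `p` trivially has order
dividing `p`. -/
theorem card_dvd_of_inf_eq_bot {G : Type*} [Group G] [Finite G] {p : ℕ} (A : Subgroup G) [A.Normal]
    (hidx : A.index = p) (H : Subgroup G) (h : H ⊓ A = ⊥) : Nat.card H ∣ p := by
  have h1 : A.relIndex H ∣ A.index := Subgroup.relIndex_dvd_index_of_normal A H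
  have h2 : A.relIndex H = Nat.card H := by
    rw [← Subgroup.inf_relIndex_right, inf_comm, h, Subgroup.relIndex_bot_left]
  rwa [h2, hidx] at h1

/-- Let p and q be distinct primes and G a finite non-abelian group with a normal elementary abelian q-subgroup A that is a minimal normal subgroup of G and has index p. Then A has order q^e with e the multiplicative order of q modulo p, and G is minimal non-p-closed: its Sylow p-subgroups are not normal, while in every proper subgroup and in every proper quotient of G the Sylow p-subgroups are normal. -/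
theorem result {G : Type*} [Group G] [Finite G] {p q : ℕ} [Fact p.Prime] (hq : q.Prime) (hpq : q ≠ p)
    (hna : ¬ IsMulCommutative G) (A : Subgroup G) [A.Normal] (hA : Cfsg.IsElementaryAbelian q A) (hidx : A.index = p)
    (hmin : ∀ B : Subgroup G, B.Normal → B ≤ A → B = ⊥ ∨ B = A) :
    Nat.card ↥A = q ^ orderOf (q : ZMod p) ∧ ¬ Cfsg.IsPClosed p G ∧ (∀ H : Subgroup G, H ≠ ⊤ → Cfsg.IsPClosed p ↥H) ∧
      ∀ (N : Subgroup G) [N.Normal], N ≠ ⊥ → Cfsg.IsPClosed p (G ⧸ N) := by
  have hp : p.Prime := Fact.out
  have hqf : Fact q.Prime := ⟨hq⟩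
  have hcard := card_minimal_normal_of_index_prime hq hpq A hA.1 hA.2 hidx hmin hna
  have hAcomm : ∀ a ∈ A, ∀ b ∈ A, a * b = b * a := by
    intro a ha b hb
    have := hA.1.is_comm.comm ⟨a, ha⟩ ⟨b, hb⟩
    exact congrArg Subtype.val this
  have hAq : IsPGroup q A := IsPGroup.of_card hcard
  have hpA : ¬ p ∣ Nat.card A := by
    rw [hcard]
    intro h
    have := (Nat.prime_dvd_prime_iff_eq hp hq).1 (hp.dvd_of_dvd_pow h)
    exact hpq this.symm
  have hcardG : Nat.card G = Nat.card A * p := by
    rw [← hidx]; exact (Subgroup.card_mul_index A).symm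
  -- an element of a p-subgroup meeting A trivially, outside A, cannot commute with A
  have hnocomm : ∀ y : G, y ∉ A → ¬ (∀ a ∈ A, a * y = y * a) := by
    intro y hy hc
    exact hna (isMulCommutative_of_index_prime hp A hidx hAcomm hy hc)
  -- a normal subgroup meeting A trivially is trivial
  have hnormal_disj : ∀ N : Subgroup G, N.Normal → N ⊓ A = ⊥ → N = ⊥ := by
    intro N hN hNA
    rcases Subgroup.bot_or_exists_ne_one N with h | ⟨y, hyN, hy1⟩
    · exact h
    · exfalso
      have hyA : y ∉ A := by
        intro hyA
        have : y ∈ N ⊓ A := ⟨hyN, hyA⟩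
        rw [hNA, Subgroup.mem_bot] at this
        exact hy1 this
      refine hnocomm y hyA ?_
      intro a ha
      exact (Subgroup.commute_of_normal_of_disjoint A N inferInstance hN
        (disjoint_iff.2 (by rw [inf_comm]; exact hNA)) a y ha hyN)
  have hpgrp : ∀ {H : Type _} [Group H], Nat.card H ∣ p → IsPGroup p H := by
    intro H _ h
    rcases (Nat.dvd_prime hp).1 h with h1 | h1
    · exact IsPGroup.of_card (n := 0) (by simpa using h1)
    · exact IsPGroup.of_card (n := 1) (by simpa using h1)
  refine ⟨hcard, ?_, ?_, ?_⟩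
  · intro hcl
    let P : Sylow p G := default
    have hPn : (P : Subgroup G).Normal := hcl P
    have hdisj : (P : Subgroup G) ⊓ A = ⊥ :=
      disjoint_iff.1 (IsPGroup.disjoint_of_ne p q hpq.symm _ _ P.2 hAq)
    have hPbot := hnormal_disj _ hPn hdisj
    exact P.ne_bot_of_dvd_card (by rw [hcardG]; exact dvd_mul_left p _) hPbot
  · intro H hH S
    by_cases hHA : H ≤ A
    · apply sylow_normal_of_not_dvd
      intro h
      exact hpA (h.trans (Subgroup.card_dvd_of_le hHA))
    · obtain ⟨y, hyH, hyA⟩ := SetLike.not_le_iff_exists.1 hHA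
      have hBn : (H ⊓ A).Normal := by
        apply normal_of_conjStab_eq_top
        apply eq_top_of_index_prime hp A hidx (conjStab (H ⊓ A)) ?_ ?_ hyA
        · intro a ha
          rw [mem_conjStab]
          intro b hb
          have : a * b * a⁻¹ = b := by
            rw [hAcomm a ha b hb.2]; group
          rw [this]; exact hb
        · rw [mem_conjStab]
          intro b hb
          exact ⟨H.mul_mem (H.mul_mem hyH hb.1) (H.inv_mem hyH),
            (inferInstance : A.Normal).conj_mem b hb.2 y⟩
      rcases hmin _ hBn inf_le_right with h | h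
      · exact sylow_normal_of_isPGroup (hpgrp (card_dvd_of_inf_eq_bot A hidx H h)) S
      · exfalso
        apply hH
        exact eq_top_of_index_prime hp A hidx H (inf_eq_right.1 h) hyH hyA
  · intro N hN hNbot S
    have hAN : A ≤ N := by
      rcases hmin (N ⊓ A) inferInstance inf_le_right with h | h
      · exact absurd (hnormal_disj N hN h) hNbot
      · exact inf_eq_right.1 h
    have h1 : N.index ∣ p := by
      rw [← hidx]; exact Subgroup.index_dvd_of_le hAN
    rw [Subgroup.index_eq_card] at h1
    exact sylow_normal_of_isPGroup (hpgrp h1) S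

end Cfsg.Agent.S3869
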