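import Cfsg.Statements.S3870
import Mathlib
import Cfsg.Agent.Lib.Helper64.Sylow

set_option autoImplicit false
open Cfsg

namespace Cfsg.Agent.S3870

open Cfsg.Agent.Lib.Helper64.Sylow

/-- In a `p`-closed subgroup `N` there is a largest `p`-subgroup. -/
theorem exists_largest_pSubgroup {G : Type*} [Group G] [Finite G] {p : ℕ} [Fact p.Prime]
    (N : Subgroup G) (hN : Cfsg.IsPClosed p ↥N) :
    ∃ U : Subgroup G, IsPGroup p U ∧ ∀ K : Subgroup G, K ≤ N → IsPGroup p K → K ≤ U := by
  obtain ⟨S⟩ : Nonempty (Sylow p N) := inferInstance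
  have hSn : (S : Subgroup N).Normal := hN S
  refine ⟨(S : Subgroup N).map N.subtype, S.2.map N.subtype, ?_⟩
  intro K hKN hK
  have h1 : IsPGroup p (K.subgroupOf N) := hK.comap_of_injective N.subtype N.subtype_injective
  obtain ⟨S', hS'⟩ := h1.exists_le_sylow
  have : S' = S := by
    have := Sylow.unique_of_normal S hSn
    exact Subsingleton.elim _ _
  rw [this] at hS'
  rw [← Subgroup.map_subgroupOf_eq_of_le hKN]
  exact Subgroup.map_mono hS'

/-- In a `p`-group, a proper subgroup is properly contained in its normalizer. -/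
theorem exists_mem_normalizer_not_mem {G : Type*} [Group G] [Finite G] {p : ℕ} [Fact p.Prime]
    (P D : Subgroup G) (hP : IsPGroup p P) (hDP : D ≤ P) (hne : D ≠ P) :
    ∃ x ∈ P, x ∈ Subgroup.normalizer (D : Set G) ∧ x ∉ D := by
  have : Group.IsNilpotent P := hP.isNilpotent
  have hnc : NormalizerCondition P := Group.normalizerCondition_of_isNilpotent
  have hlt : D.subgroupOf P < ⊤ := by
    rw [lt_top_iff_ne_top, Ne, Subgroup.subgroupOf_eq_top]
    intro h
    exact hne (le_antisymm hDP h)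
  have h2 := hnc _ hlt
  rw [← Subgroup.subgroupOf_normalizer_eq hDP] at h2
  obtain ⟨x, hx, hxD⟩ := SetLike.exists_of_lt h2
  exact ⟨x, x.2, hx, hxD⟩

/-- Let G be a finite simple group whose Sylow p-subgroups are not normal but such that every proper subgroup of G has a normal Sylow p-subgroup. Then any two distinct Sylow p-subgroups of G intersect trivially, and for every Sylow p-subgroup P the normalizer of every non-identity subgroup of P lies in the normalizer of P. -/
theorem result {G : Type*} [Group G] [Finite G] [IsSimpleGroup G] {p : ℕ} [Fact p.Prime]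
    (hnc : ¬ Cfsg.IsPClosed p G) (hsub : ∀ H : Subgroup G, H ≠ ⊤ → Cfsg.IsPClosed p ↥H) :
    (∀ P Q : Sylow p G, P ≠ Q → (P : Subgroup G) ⊓ (Q : Subgroup G) = ⊥) ∧
      ∀ (P : Sylow p G) (R : Subgroup G), R ≤ P → R ≠ ⊥ →
        Subgroup.normalizer (R : Set G) ≤ Subgroup.normalizer ((P : Subgroup G) : Set G) := by
  have TI : ∀ P Q : Sylow p G, P ≠ Q → (P : Subgroup G) ⊓ (Q : Subgroup G) = ⊥ := by
    by_contra hcon
    push Not at hcon
    let S : Set (Sylow p G × Sylow p G) :=
      {PQ | PQ.1 ≠ PQ.2 ∧ (PQ.1 : Subgroup G) ⊓ (PQ.2 : Subgroup G) ≠ ⊥}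
    have hSne : S.Nonempty := by
      obtain ⟨P, Q, h1, h2⟩ := hcon
      exact ⟨(P, Q), h1, h2⟩
    obtain ⟨⟨P, Q⟩, ⟨hPQ, hD⟩, hmax⟩ := Set.exists_max_image S
      (fun PQ => Nat.card ↥((PQ.1 : Subgroup G) ⊓ (PQ.2 : Subgroup G))) (Set.toFinite S) hSne
    simp only at hPQ hD hmax
    set D : Subgroup G := (P : Subgroup G) ⊓ (Q : Subgroup G) with hDdef
    have hDp : IsPGroup p D := P.2.to_le inf_le_left
    -- the normalizer of D is proper
    have hNne : Subgroup.normalizer (D : Set G) ≠ ⊤ := by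
      intro h
      have hn : D.Normal := Subgroup.normalizer_eq_top_iff.1 h
      rcases hn.eq_bot_or_eq_top with h0 | h1
      · exact hD h0
      · have hP : (P : Subgroup G) = ⊤ := top_le_iff.1 (h1 ▸ inf_le_left)
        have hQ : (Q : Subgroup G) = ⊤ := top_le_iff.1 (h1 ▸ inf_le_right)
        exact hPQ (Sylow.ext (hP.trans hQ.symm))
    obtain ⟨U, hUp, hU⟩ := exists_largest_pSubgroup _ (hsub _ hNne)
    obtain ⟨P₁, hP₁⟩ := hUp.exists_le_sylow
    have aux : ∀ P' : Sylow p G, D ≤ P' → D ≠ P' → P' = P₁ := by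
      intro P' hDP' hne
      by_contra hne'
      obtain ⟨x, hxP', hxN, hxD⟩ := exists_mem_normalizer_not_mem (P' : Subgroup G) D P'.2 hDP' hne
      have hDU : D ≤ U := hU D Subgroup.le_normalizer hDp
      have hxU : x ∈ U := by
        have h1 : (P' : Subgroup G) ⊓ Subgroup.normalizer (D : Set G) ≤ U :=
          hU _ inf_le_right (P'.2.to_le inf_le_left)
        exact h1 ⟨hxP', hxN⟩
      have hle : D ≤ (P' : Subgroup G) ⊓ (P₁ : Subgroup G) := le_inf hDP' (hDU.trans hP₁)
      have hmem : (P', P₁) ∈ S := by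
        refine ⟨hne', ?_⟩
        intro h0
        apply hD
        rw [eq_bot_iff]
        exact h0 ▸ hle
      have hcard := hmax (P', P₁) hmem
      simp only at hcard
      have heq := Subgroup.eq_of_le_of_card_ge hle hcard
      apply hxD
      rw [heq]
      exact ⟨hxP', hP₁ hxU⟩
    have hDP : D ≠ (P : Subgroup G) := by
      intro h
      have hle : (P : Subgroup G) ≤ Q := h ▸ inf_le_right
      exact hPQ (Sylow.ext (P.3 Q.2 hle)).symm
    have hDQ : D ≠ (Q : Subgroup G) := by
      intro h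
      have hle : (Q : Subgroup G) ≤ P := h ▸ inf_le_left
      exact hPQ (Sylow.ext (Q.3 P.2 hle))
    exact hPQ ((aux P inf_le_left hDP).trans (aux Q inf_le_right hDQ).symm)
  refine ⟨TI, ?_⟩
  intro P R hRP hR g hg
  refine Sylow.smul_eq_iff_mem_normalizer.1 ?_
  by_contra hne
  have h0 := TI P (g • P) (fun h => hne h.symm)
  apply hR
  rw [eq_bot_iff, ← h0]
  refine le_inf hRP ?_
  intro x hx
  rw [sylow_smul_coe, mem_map_conj]
  apply hRP
  have hg' : g⁻¹ ∈ Subgroup.normalizer (R : Set G) := Subgroup.inv_mem _ hg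
  have := (Subgroup.mem_normalizer_iff.1 hg' x).1 hx
  simpa using this

end Cfsg.Agent.S3870
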