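import Cfsg.Statements.S3872
import Cfsg.Agent.S4209
import Cfsg.Agent.S4225
import Cfsg.Agent.Lib.Helper54.UniqueSubgroup

set_option autoImplicit false
open Cfsg

namespace Cfsg.Agent.S3872

universe u

/-- A finite `p`-group whose `n`-th lower central term (`n ≥ 1`) is nontrivial has order at
least `p^(n+2)`. -/
theorem card_ge_of_lowerCentralSeries_ne_bot {p : ℕ} [Fact p.Prime] :
    ∀ (n : ℕ) (G : Type u) [Group G] [Finite G], IsPGroup p G →
      (⊤ : Subgroup G).lowerCentralSeries (n + 1) ≠ ⊥ → p ^ (n + 3) ≤ Nat.card G := by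
  intro n
  induction n with
  | zero =>
    intro G _ _ hG hL
    obtain ⟨k, hk⟩ := IsPGroup.iff_card.mp hG
    have hp : p.Prime := Fact.out
    have hk3 : 3 ≤ k := by
      by_contra hlt
      apply hL
      have hcomm : ∀ a b : G, a * b = b * a := by
        have hk' : k = 0 ∨ k = 1 ∨ k = 2 := by omega
        rcases hk' with rfl | rfl | rfl
        · rw [pow_zero] at hk
          have : Subsingleton G := (Nat.card_eq_one_iff_unique.mp hk).1
          intro a b
          exact Subsingleton.elim _ _
        · rw [pow_one] at hk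
          have : IsCyclic G := isCyclic_of_prime_card hk
          intro a b
          exact IsCyclic.commGroup.mul_comm a b
        · exact IsPGroup.commutative_of_card_eq_prime_sq hk
      rw [Subgroup.lowerCentralSeries_succ, Subgroup.lowerCentralSeries_zero,
        Subgroup.commutator_eq_bot_iff_le_centralizer]
      intro a _
      rw [Subgroup.mem_centralizer_iff]
      intro b _
      exact hcomm b a
    rw [hk]
    exact Nat.pow_le_pow_right hp.pos hk3
  | succ n ih =>
    intro G _ _ hG hL
    have hp : p.Prime := Fact.out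
    have hLQ : (⊤ : Subgroup (G ⧸ Subgroup.center G)).lowerCentralSeries (n + 1) ≠ ⊥ := by
      intro h
      apply hL
      have h1 := Subgroup.map_lowerCentralSeries (⊤ : Subgroup G)
        (QuotientGroup.mk' (Subgroup.center G)) (n + 1)
      rw [Subgroup.map_top_of_surjective _ (QuotientGroup.mk'_surjective _), h] at h1
      have h2 : (⊤ : Subgroup G).lowerCentralSeries (n + 1) ≤ Subgroup.center G := by
        intro g hg
        have : (QuotientGroup.mk' (Subgroup.center G)) g ∈
            ((⊤ : Subgroup G).lowerCentralSeries (n + 1)).map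
              (QuotientGroup.mk' (Subgroup.center G)) := Subgroup.mem_map_of_mem _ hg
        rw [h1, Subgroup.mem_bot] at this
        exact (QuotientGroup.eq_one_iff g).mp this
      rw [Subgroup.lowerCentralSeries_succ, Subgroup.commutator_eq_bot_iff_le_centralizer]
      intro a ha
      rw [Subgroup.mem_centralizer_iff]
      intro b _
      exact (Subgroup.mem_center_iff.mp (h2 ha) b)
    have hQ := ih (G ⧸ Subgroup.center G) (hG.to_quotient _) hLQ
    have hnt : Nontrivial G := by
      by_contra hnt
      rw [not_nontrivial_iff_subsingleton] at hnt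
      apply hL
      exact Subsingleton.elim _ _
    have hZ : p ≤ Nat.card (Subgroup.center G) := by
      have := hG.center_nontrivial
      obtain ⟨k, hk⟩ := IsPGroup.iff_card.mp (hG.to_subgroup (Subgroup.center G))
      have hk1 : k ≠ 0 := by
        rintro rfl
        rw [pow_zero] at hk
        have := (Nat.card_eq_one_iff_unique.mp hk).1
        exact not_subsingleton _ this
      rw [hk]
      calc p = p ^ 1 := (pow_one p).symm
        _ ≤ p ^ k := Nat.pow_le_pow_right hp.pos (by omega)
    rw [Subgroup.card_eq_card_quotient_mul_card_subgroup (Subgroup.center G)]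
    calc p ^ (n + 1 + 3) = p ^ (n + 3) * p := by ring
      _ ≤ Nat.card (G ⧸ Subgroup.center G) * Nat.card (Subgroup.center G) :=
        Nat.mul_le_mul hQ hZ


/-- Say that a finite group is p-exponent closed when its elements of order dividing p form a subgroup. Let G be a finite p-group that is not p-exponent closed, but all of whose proper subgroups and proper quotients are. Then G is generated by two elements, has nilpotency class at least p, has exponent p², has cyclic center, and has order at least p^(p+1). -/
theorem result {G : Type*} [Group G] [Finite G] {p : ℕ} [Fact p.Prime] (hG : IsPGroup p G)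
    (hnc : ¬ (∃ H : Subgroup G, (H : Set G) = {g : G | g ^ p = 1})) (hsub : ∀ K : Subgroup G, K ≠ ⊤ → (∃ H : Subgroup ↥K, (H : Set ↥K) = {g : ↥K | g ^ p = 1}))
    (hquo : ∀ (N : Subgroup G) [N.Normal], N ≠ ⊥ → (∃ H : Subgroup (G ⧸ N), (H : Set (G ⧸ N)) = {g : (G ⧸ N) | g ^ p = 1})) :
    (∃ x y : G, Subgroup.closure ({x, y} : Set G) = ⊤) ∧ (⊤ : Subgroup G).lowerCentralSeries (p - 1) ≠ ⊥ ∧
      Monoid.exponent G = p ^ 2 ∧ IsCyclic ↥(Subgroup.center G) ∧ p ^ (p + 1) ≤ Nat.card G := by
  classical
  have hp : p.Prime := Fact.out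
  -- two elements of order dividing p whose product is not
  obtain ⟨x, y, hx, hy, hxy⟩ : ∃ x y : G, x ^ p = 1 ∧ y ^ p = 1 ∧ (x * y) ^ p ≠ 1 := by
    by_contra hcon
    push Not at hcon
    apply hnc
    exact ⟨{ carrier := {g : G | g ^ p = 1}
             mul_mem' := fun {a b} ha hb => hcon a b ha hb
             one_mem' := one_pow p
             inv_mem' := fun {a} ha => by
               show (a⁻¹) ^ p = 1
               rw [inv_pow, show a ^ p = 1 from ha, inv_one] }, rfl⟩
  -- G is generated by x and y
  have hgen : Subgroup.closure ({x, y} : Set G) = ⊤ := by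
    by_contra hK
    obtain ⟨H, hH⟩ := hsub _ hK
    have hxK : x ∈ Subgroup.closure ({x, y} : Set G) := Subgroup.subset_closure (by simp)
    have hyK : y ∈ Subgroup.closure ({x, y} : Set G) := Subgroup.subset_closure (by simp)
    have hx' : (⟨x, hxK⟩ : Subgroup.closure ({x, y} : Set G)) ∈ H := by
      have : (⟨x, hxK⟩ : Subgroup.closure ({x, y} : Set G)) ∈ (H : Set _) := by
        rw [hH]
        exact Subtype.ext (by simpa using hx)
      exact this
    have hy' : (⟨y, hyK⟩ : Subgroup.closure ({x, y} : Set G)) ∈ H := by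
      have : (⟨y, hyK⟩ : Subgroup.closure ({x, y} : Set G)) ∈ (H : Set _) := by
        rw [hH]
        exact Subtype.ext (by simpa using hy)
      exact this
    have hm : (⟨x, hxK⟩ * ⟨y, hyK⟩ : Subgroup.closure ({x, y} : Set G)) ∈ (H : Set _) :=
      H.mul_mem hx' hy'
    rw [hH] at hm
    have := congrArg Subtype.val (show (⟨x, hxK⟩ * ⟨y, hyK⟩ :
      Subgroup.closure ({x, y} : Set G)) ^ p = 1 from hm)
    apply hxy
    simpa using this
  -- class at least p
  have hclass : (⊤ : Subgroup G).lowerCentralSeries (p - 1) ≠ ⊥ := by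
    intro h
    have hreg := Cfsg.Agent.S4209.result hG h
    obtain ⟨H, -, hH⟩ := Cfsg.Agent.S4225.result hreg 1
    apply hnc
    refine ⟨H, ?_⟩
    rw [hH]
    simp
  -- p-th powers lie in every nontrivial normal subgroup
  have key : ∀ (N : Subgroup G) [N.Normal], N ≠ ⊥ → ∀ g : G, g ^ p ∈ N := by
    intro N _ hN g
    obtain ⟨H, hH⟩ := hquo N hN
    have hxH : (QuotientGroup.mk' N) x ∈ H := by
      have : (QuotientGroup.mk' N) x ∈ (H : Set (G ⧸ N)) := by
        rw [hH]
        show ((QuotientGroup.mk' N) x) ^ p = 1
        rw [← map_pow, hx, map_one]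
      exact this
    have hyH : (QuotientGroup.mk' N) y ∈ H := by
      have : (QuotientGroup.mk' N) y ∈ (H : Set (G ⧸ N)) := by
        rw [hH]
        show ((QuotientGroup.mk' N) y) ^ p = 1
        rw [← map_pow, hy, map_one]
      exact this
    have hle : Subgroup.closure ({x, y} : Set G) ≤ H.comap (QuotientGroup.mk' N) := by
      rw [Subgroup.closure_le]
      rintro w (rfl | rfl)
      · exact hxH
      · exact hyH
    rw [hgen] at hle
    have hg : (QuotientGroup.mk' N) g ∈ (H : Set (G ⧸ N)) := hle (Subgroup.mem_top g)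
    rw [hH] at hg
    have hg' : ((QuotientGroup.mk' N) g) ^ p = 1 := hg
    rw [← map_pow] at hg'
    exact (QuotientGroup.eq_one_iff _).mp hg'
  have hnt : Nontrivial G := by
    by_contra hnt
    rw [not_nontrivial_iff_subsingleton] at hnt
    exact hxy (Subsingleton.elim _ _)
  -- central subgroups generated by a central element are normal
  have hnormal : ∀ z : G, z ∈ Subgroup.center G → (Subgroup.zpowers z).Normal := by
    intro z hz
    constructor
    intro n hn g
    obtain ⟨k, rfl⟩ := Subgroup.mem_zpowers_iff.mp hn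
    have hc : z ^ k ∈ Subgroup.center G := (Subgroup.center G).zpow_mem hz k
    have : g * z ^ k * g⁻¹ = z ^ k := by
      rw [Subgroup.mem_center_iff.mp hc g]
      group
    rw [this]
    exact Subgroup.zpow_mem_zpowers z k
  -- the exponent
  have hexp : Monoid.exponent G = p ^ 2 := by
    have := hG.center_nontrivial
    obtain ⟨k, hk⟩ := IsPGroup.iff_card.mp (hG.to_subgroup (Subgroup.center G))
    have hk1 : k ≠ 0 := by
      rintro rfl
      rw [pow_zero] at hk
      have := (Nat.card_eq_one_iff_unique.mp hk).1
      exact not_subsingleton _ this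
    have hdvd : p ∣ Nat.card (Subgroup.center G) := by
      rw [hk]
      exact dvd_pow_self p hk1
    obtain ⟨z, hz⟩ := exists_prime_orderOf_dvd_card' p hdvd
    have hzG : orderOf (z : G) = p := by rw [Subgroup.orderOf_coe, hz]
    have hz1 : (z : G) ≠ 1 := by
      intro h
      rw [h, orderOf_one] at hzG
      exact hp.one_lt.ne hzG
    have hN := hnormal (z : G) z.2
    have hNbot : Subgroup.zpowers (z : G) ≠ ⊥ := by
      intro h
      exact hz1 (Subgroup.zpowers_eq_bot.mp h)
    have hall : ∀ g : G, g ^ (p ^ 2) = 1 := by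
      intro g
      obtain ⟨j, hj⟩ := Subgroup.mem_zpowers_iff.mp (key _ hNbot g)
      rw [pow_two, pow_mul, ← hj, ← zpow_natCast, ← zpow_mul, mul_comm, zpow_mul, zpow_natCast,
        ← hzG, pow_orderOf_eq_one, one_zpow]
    have h1 : Monoid.exponent G ∣ p ^ 2 := Monoid.exponent_dvd_of_forall_pow_eq_one hall
    obtain ⟨j, hj, hje⟩ := (Nat.dvd_prime_pow hp).mp h1
    have hj2 : j = 2 := by
      by_contra hne
      have hj1 : j ≤ 1 := by omega
      apply hxy
      have hdp : Monoid.exponent G ∣ p := by
        rw [hje]
        calc p ^ j ∣ p ^ 1 := pow_dvd_pow p hj1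
          _ = p := pow_one p
      obtain ⟨m, hm⟩ := hdp
      rw [hm, pow_mul, Monoid.pow_exponent_eq_one, one_pow]
    rw [hje, hj2]
  -- the centre is cyclic
  have hcyc : IsCyclic ↥(Subgroup.center G) := by
    apply Cfsg.Agent.Lib.Helper54.UniqueSubgroup.isCyclic_of_comm (p := p)
      (hG.to_subgroup (Subgroup.center G))
    · intro g h hg hh hg1
      have hgG : (g : G) ^ p = 1 := by
        have := congrArg Subtype.val hg
        simpa using this
      have hhG : (h : G) ^ p = 1 := by
        have := congrArg Subtype.val hh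
        simpa using this
      have hg1G : (g : G) ≠ 1 := by
        intro h1
        exact hg1 (Subtype.ext h1)
      by_cases hh1 : (h : G) = 1
      · have : h = 1 := Subtype.ext hh1
        rw [this]
        exact Subgroup.one_mem _
      have hNg := hnormal (g : G) g.2
      have hNh := hnormal (h : G) h.2
      have hbg : Subgroup.zpowers (g : G) ≠ ⊥ := fun hb => hg1G (Subgroup.zpowers_eq_bot.mp hb)
      have hbh : Subgroup.zpowers (h : G) ≠ ⊥ := fun hb => hh1 (Subgroup.zpowers_eq_bot.mp hb)
      have hwg := key _ hbg (x * y)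
      have hwh := key _ hbh (x * y)
      have hog : orderOf (g : G) = p := orderOf_eq_prime hgG hg1G
      have hoh : orderOf (h : G) = p := orderOf_eq_prime hhG hh1
      have hwp : ((x * y) ^ p) ^ p = 1 := by
        obtain ⟨j, hj⟩ := Subgroup.mem_zpowers_iff.mp hwg
        rw [← hj, ← zpow_natCast, ← zpow_mul, mul_comm, zpow_mul, zpow_natCast, hgG, one_zpow]
      have how : orderOf ((x * y) ^ p) = p := orderOf_eq_prime hwp hxy
      have e1 : Subgroup.zpowers ((x * y) ^ p) = Subgroup.zpowers (g : G) := by
        apply Subgroup.eq_of_le_of_card_ge (Subgroup.zpowers_le.mpr hwg)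
        rw [Nat.card_zpowers, Nat.card_zpowers, how, hog]
      have e2 : Subgroup.zpowers ((x * y) ^ p) = Subgroup.zpowers (h : G) := by
        apply Subgroup.eq_of_le_of_card_ge (Subgroup.zpowers_le.mpr hwh)
        rw [Nat.card_zpowers, Nat.card_zpowers, how, hoh]
      have hmem : (h : G) ∈ Subgroup.zpowers (g : G) := by
        rw [← e1, e2]
        exact Subgroup.mem_zpowers _
      obtain ⟨j, hj⟩ := Subgroup.mem_zpowers_iff.mp hmem
      rw [Subgroup.mem_zpowers_iff]
      exact ⟨j, Subtype.ext (by simpa using hj)⟩
    · intro a b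
      exact Subtype.ext (Subgroup.mem_center_iff.mp b.2 a)
  -- the order
  have hcard : p ^ (p + 1) ≤ Nat.card G := by
    obtain ⟨m, hm⟩ : ∃ m, p = m + 2 := ⟨p - 2, by have := hp.two_le; omega⟩
    have h1 : p - 1 = m + 1 := by omega
    rw [h1] at hclass
    have := card_ge_of_lowerCentralSeries_ne_bot (p := p) m G hG hclass
    have h2 : p + 1 = m + 3 := by omega
    rw [h2]
    exact this
  exact ⟨⟨x, y, hgen⟩, hclass, hexp, hcyc, hcard⟩

end Cfsg.Agent.S3872
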