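import Cfsg.Statements.S3873
import Cfsg.Agent.Lib.Helper64.MinNonClosed
-- import your own Cfsg.Agent.* helpers here

set_option autoImplicit false
open Cfsg

namespace Cfsg.Agent.S3873

open Cfsg.Agent.Lib.Helper64.IrredPrime Cfsg.Agent.Lib.Helper64.MinNonClosed

/-- Say that a finite group is p-exponent closed when its elements of order dividing p form a subgroup. Let G be a finite group that is not p-exponent closed, but all of whose proper subgroups and proper quotients are, and suppose G is neither simple nor a p-group. Then there is a prime q ≠ p such that G has order p · q^e, where e is the multiplicative order of q modulo p, and G has a normal elementary abelian subgroup of order q^e that is a minimal normal subgroup of G. -/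
theorem result {G : Type*} [Group G] [Finite G] {p : ℕ} [Fact p.Prime]
    (hnc : ¬ (∃ H : Subgroup G, (H : Set G) = {g : G | g ^ p = 1})) (hsub : ∀ K : Subgroup G, K ≠ ⊤ → (∃ H : Subgroup ↥K, (H : Set ↥K) = {g : ↥K | g ^ p = 1}))
    (hquo : ∀ (N : Subgroup G) [N.Normal], N ≠ ⊥ → (∃ H : Subgroup (G ⧸ N), (H : Set (G ⧸ N)) = {g : (G ⧸ N) | g ^ p = 1}))
    (hns : ¬ IsSimpleGroup G) (hnp : ¬ IsPGroup p G) :
    ∃ q : ℕ, q.Prime ∧ q ≠ p ∧ Nat.card G = p * q ^ orderOf (q : ZMod p) ∧
      ∃ A : Subgroup G, A.Normal ∧ Nat.card ↥A = q ^ orderOf (q : ZMod p) ∧ Cfsg.IsElementaryAbelian q A ∧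
        ∀ B : Subgroup G, B.Normal → B ≤ A → B = ⊥ ∨ B = A := by
  classical
  have hp : p.Prime := Fact.out
  -- 1. two elements of order dividing p whose product is not
  obtain ⟨a, b, ha, hb, hab⟩ : ∃ a b : G, a ^ p = 1 ∧ b ^ p = 1 ∧ (a * b) ^ p ≠ 1 := by
    by_contra hcon
    push Not at hcon
    apply hnc
    exact ⟨{ carrier := {g : G | g ^ p = 1}
             mul_mem' := fun {u v} hu hv => hcon u v hu hv
             one_mem' := one_pow _
             inv_mem' := fun {u} hu => by
               change u⁻¹ ^ p = 1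
               have hu' : u ^ p = 1 := hu
               rw [inv_pow, hu', inv_one] }, rfl⟩
  -- 2. element form of hsub
  have hsub' : ∀ K : Subgroup G, K ≠ ⊤ → ∀ u ∈ K, ∀ v ∈ K, u ^ p = 1 → v ^ p = 1 →
      (u * v) ^ p = 1 := by
    intro K hK u hu v hv hup hvp
    obtain ⟨H, hH⟩ := hsub K hK
    have h1 : (⟨u, hu⟩ : K) ∈ H := by
      have : (⟨u, hu⟩ : K) ∈ (H : Set K) := by
        rw [hH]; exact Subtype.ext (by simpa using hup)
      exact this
    have h2 : (⟨v, hv⟩ : K) ∈ H := by
      have : (⟨v, hv⟩ : K) ∈ (H : Set K) := by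
        rw [hH]; exact Subtype.ext (by simpa using hvp)
      exact this
    have h3 : (⟨u, hu⟩ * ⟨v, hv⟩ : K) ∈ (H : Set K) := H.mul_mem h1 h2
    rw [hH] at h3
    have h4 : ((⟨u, hu⟩ * ⟨v, hv⟩ : K)) ^ p = 1 := h3
    have := congrArg Subtype.val h4
    simpa using this
  -- 3. a, b generate G
  have hgen : Subgroup.closure ({a, b} : Set G) = ⊤ := by
    by_contra h
    exact hab (hsub' _ h a (Subgroup.subset_closure (by simp)) b
      (Subgroup.subset_closure (by simp)) ha hb)
  -- 4. proper quotients have exponent p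
  have hquo' : ∀ N : Subgroup G, N.Normal → N ≠ ⊥ → ∀ g : G, g ^ p ∈ N := by
    intro N hN hNbot g
    obtain ⟨E, hE⟩ := @hquo N hN hNbot
    have hmem : ∀ u : G, u ^ p = 1 → (QuotientGroup.mk' N u) ∈ E := by
      intro u hu
      have : (QuotientGroup.mk' N u) ∈ (E : Set (G ⧸ N)) := by
        rw [hE]
        change (QuotientGroup.mk' N u) ^ p = 1
        rw [← map_pow, hu, map_one]
      exact this
    have h1 : Subgroup.closure ({a, b} : Set G) ≤ E.comap (QuotientGroup.mk' N) := by
      rw [Subgroup.closure_le]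
      intro u hu
      rcases hu with rfl | rfl
      · exact hmem _ ha
      · exact hmem _ hb
    rw [hgen] at h1
    have h2 : (QuotientGroup.mk' N g) ∈ (E : Set (G ⧸ N)) := h1 trivial
    rw [hE] at h2
    have h3 : (QuotientGroup.mk' N g) ^ p = 1 := h2
    rw [← map_pow] at h3
    exact (QuotientGroup.eq_one_iff _).1 h3
  -- 5./6. a minimal normal subgroup
  have hGnt : Nontrivial G := by
    by_contra h
    rw [not_nontrivial_iff_subsingleton] at h
    apply hnp
    intro g
    exact ⟨0, Subsingleton.elim _ _⟩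
  obtain ⟨K, hKn, hKbot, hKtop⟩ : ∃ K : Subgroup G, K.Normal ∧ K ≠ ⊥ ∧ K ≠ ⊤ := by
    by_contra h
    push Not at h
    apply hns
    exact { exists_pair_ne := hGnt.exists_pair_ne
            eq_bot_or_eq_top_of_normal := fun H hH => by
              by_cases hb : H = ⊥
              · exact Or.inl hb
              · exact Or.inr (h H hH hb) }
  obtain ⟨N, hNn, hNbot, hNK, hmin⟩ := exists_minimal_normal_le K hKn hKbot
  have hNtop : N ≠ ⊤ := fun h => hKtop (eq_top_iff.2 (h ▸ hNK))
  -- 7. N is a p'-group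
  have hpN : ¬ p ∣ Nat.card N := by
    intro hdvd
    let B : Subgroup G :=
      { carrier := {u | u ∈ N ∧ u ^ p = 1}
        mul_mem' := by
          rintro u v ⟨hu, hu'⟩ ⟨hv, hv'⟩
          exact ⟨N.mul_mem hu hv, hsub' N hNtop u hu v hv hu' hv'⟩
        one_mem' := ⟨N.one_mem, one_pow _⟩
        inv_mem' := by
          rintro u ⟨hu, hu'⟩
          exact ⟨N.inv_mem hu, by rw [inv_pow, hu', inv_one]⟩ }
    have hBmem : ∀ u, u ∈ B ↔ u ∈ N ∧ u ^ p = 1 := fun u => Iff.rfl
    have hBn : B.Normal := by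
      refine ⟨fun u hu g => ?_⟩
      rw [hBmem] at hu ⊢
      refine ⟨hNn.conj_mem u hu.1 g, ?_⟩
      rw [conj_pow, hu.2]; group
    have hBN : B ≤ N := fun u hu => ((hBmem u).1 hu).1
    rcases hmin B hBn hBN with h | h
    · obtain ⟨y, hy⟩ := exists_prime_orderOf_dvd_card' (G := N) p hdvd
      have h1 : (y : G) ∈ B := by
        rw [hBmem]
        refine ⟨y.2, ?_⟩
        have : y ^ p = 1 := by rw [← hy]; exact pow_orderOf_eq_one y
        have := congrArg Subtype.val this
        simpa using this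
      rw [h, Subgroup.mem_bot] at h1
      have h2 : y = 1 := Subtype.ext h1
      rw [h2, orderOf_one] at hy
      exact hp.one_lt.ne hy
    · apply hnp
      intro g
      refine ⟨2, ?_⟩
      have h1 : g ^ p ∈ B := by rw [h]; exact hquo' N hNn hNbot g
      have h2 := ((hBmem _).1 h1).2
      rw [pow_two, pow_mul]
      exact h2
  have hcopN : (p).Coprime (Nat.card N) := (Nat.Prime.coprime_iff_not_dvd hp).2 hpN
  -- 8. P N = G for a Sylow p-subgroup P
  let P : Sylow p G := default
  have hPN : (P : Subgroup G) ⊔ N = ⊤ := by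
    have hQ : IsPGroup p (G ⧸ N) := by
      intro g
      obtain ⟨g, rfl⟩ := QuotientGroup.mk'_surjective N g
      refine ⟨1, ?_⟩
      rw [pow_one, ← map_pow]
      exact (QuotientGroup.eq_one_iff _).2 (hquo' N hNn hNbot g)
    obtain ⟨k, hk⟩ := IsPGroup.iff_card.1 hQ
    have h1 : ((P : Subgroup G) ⊔ N).index ∣ p ^ k := by
      rw [← hk, ← Subgroup.index_eq_card]
      exact Subgroup.index_dvd_of_le le_sup_right
    have h2 : ((P : Subgroup G) ⊔ N).index ∣ (P : Subgroup G).index :=
      Subgroup.index_dvd_of_le le_sup_left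
    obtain ⟨j, -, hj⟩ := (Nat.dvd_prime_pow hp).1 h1
    rw [← Subgroup.index_eq_one, hj]
    by_contra hne
    have hj0 : j ≠ 0 := by
      rintro rfl
      exact hne (pow_zero p)
    apply P.not_dvd_index
    rw [hj] at h2
    exact (dvd_pow_self p hj0).trans h2
  -- 9. P has exponent p
  have hPexp : ∀ u ∈ (P : Subgroup G), u ^ p = 1 := by
    intro u hu
    have h1 : u ^ p ∈ N := hquo' N hNn hNbot u
    have h2 : u ^ p ∈ (P : Subgroup G) := pow_mem hu p
    obtain ⟨k, hk⟩ := P.2 ⟨u ^ p, h2⟩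
    have hk' : (u ^ p) ^ (p ^ k) = 1 := by
      have := congrArg Subtype.val hk
      simpa using this
    have h3 : orderOf (u ^ p) ∣ p ^ k := orderOf_dvd_of_pow_eq_one hk'
    have h4 : orderOf (u ^ p) ∣ Nat.card N := Subgroup.orderOf_dvd_natCard N h1
    have h5 : orderOf (u ^ p) = 1 :=
      Nat.eq_one_of_dvd_coprimes (Nat.Coprime.pow_left k hcopN) h3 h4
    exact orderOf_eq_one_iff.1 h5
  -- 10. some element of P does not centralize N
  obtain ⟨x, hxP, hd⟩ : ∃ x ∈ (P : Subgroup G), ¬ ∀ n ∈ N, n * x = x * n := by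
    by_contra hcon
    push Not at hcon
    apply hnc
    refine ⟨(P : Subgroup G), ?_⟩
    ext g
    constructor
    · intro hg
      exact hPexp g hg
    · intro hg
      have hg' : g ^ p = 1 := hg
      have hgtop : g ∈ (P : Subgroup G) ⊔ N := by rw [hPN]; trivial
      rw [← SetLike.mem_coe, Subgroup.mul_normal] at hgtop
      obtain ⟨u, hu, n, hn, rfl⟩ := Set.mem_mul.1 hgtop
      have hcomm : Commute u n := (hcon u hu n hn).symm
      rw [hcomm.mul_pow, hPexp u hu, one_mul] at hg'
      have h3 : orderOf n ∣ p := orderOf_dvd_of_pow_eq_one hg'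
      have h4 : orderOf n ∣ Nat.card N := Subgroup.orderOf_dvd_natCard N hn
      have h5 : orderOf n = 1 := Nat.eq_one_of_dvd_coprimes hcopN h3 h4
      rw [orderOf_eq_one_iff.1 h5, mul_one]
      exact hu
  have hx1 : x ≠ 1 := by
    rintro rfl
    apply hd
    intro n _
    simp
  have hx : orderOf x = p := orderOf_eq_prime (hPexp x hxP) hx1
  -- 12. hypothesis (c)
  have hc : ∀ R : Subgroup G, R ≤ N → Subgroup.zpowers x ⊔ R ≠ ⊤ → ∀ r ∈ R, r * x = x * r := by
    intro R hRN hM r hr
    have hxM : x ∈ Subgroup.zpowers x ⊔ R :=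
      (le_sup_left : Subgroup.zpowers x ≤ Subgroup.zpowers x ⊔ R) (Subgroup.mem_zpowers x)
    have hrM : r ∈ Subgroup.zpowers x ⊔ R :=
      (le_sup_right : R ≤ Subgroup.zpowers x ⊔ R) hr
    have h1 : (r * x⁻¹ * r⁻¹) ^ p = 1 := by
      rw [conj_pow, inv_pow, hPexp x hxP]; group
    have h2 := hsub' _ hM x hxM (r * x⁻¹ * r⁻¹)
      (mul_mem (mul_mem hrM (inv_mem hxM)) (inv_mem hrM)) (hPexp x hxP) h1
    exact commute_of_pow_eq_one N hpN x r (hRN hr) 1 (by rw [pow_one]; exact h2)
  obtain ⟨q, hq, hqp, hcardG, hcardN, hcommN, hexpN⟩ :=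
    structure_of_minimal x hx N hpN hmin hc hd
  exact ⟨q, hq, hqp, hcardG, N, hNn, hcardN, ⟨hcommN, hexpN⟩, hmin⟩

end Cfsg.Agent.S3873
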