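import Cfsg.Statements.S3881
import Cfsg.Agent.Lib.Helper64.MetaD

set_option autoImplicit false
open Cfsg

namespace Cfsg.Agent.S3881

open Cfsg.Agent.Lib.Helper64.MetaC Cfsg.Agent.Lib.Helper64.MetaD

/-- the order of `{x | x ^ p ^ k ∈ Z(G)}` -/
theorem card_powCenter {G : Type*} [Group G] [Finite G] {p : ℕ} [Fact p.Prime] (hp : p ≠ 2)
    (hG : IsPGroup p G) (hmc : Cfsg.IsMetacyclic G) (n : ℕ)
    (hGn : Nat.card ↥(commutator G) = p ^ n) (k : ℕ) (hk : k ≤ n) (T : Subgroup G)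
    (hTi : T.index = p ^ (2 * (n - k))) :
    Nat.card ↥T = Nat.card ↥(Subgroup.center G) * p ^ (2 * k) := by
  have hpp : p.Prime := Fact.out
  have h1 := Subgroup.card_mul_index T
  have h2 := Subgroup.card_mul_index (Subgroup.center G)
  rw [Cfsg.Agent.S3879.result hp hG hmc, hGn] at h2
  rw [hTi, ← h2] at h1
  have h3 : Nat.card ↥T * p ^ (2 * (n - k)) =
      Nat.card ↥(Subgroup.center G) * p ^ (2 * k) * p ^ (2 * (n - k)) := by
    rw [h1, mul_assoc, ← pow_add, ← pow_mul]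
    congr 2; omega
  exact Nat.eq_of_mul_eq_mul_right (pow_pos hpp.pos _) h3

/-- Let p be an odd prime and G a finite metacyclic p-group (G has a cyclic normal subgroup with cyclic quotient). Suppose G is non-abelian with |G'| = p^n. Then for 1 ≤ i ≤ n the number of elements of G whose conjugacy class has exactly p^i elements is |Z(G)| · (p^(2i) − p^(2i−2)). -/
theorem result {G : Type*} [Group G] [Finite G] {p : ℕ} [Fact p.Prime] (hp : p ≠ 2) (hG : IsPGroup p G) (hmc : Cfsg.IsMetacyclic G) (n : ℕ) (hn : n ≠ 0) (hGn : Nat.card ↥(commutator G) = p ^ n) (i : ℕ) (hi : 1 ≤ i) (hin : i ≤ n) :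
    Nat.card {g : G // (Subgroup.centralizer ({g} : Set G)).index = p ^ i} =
      Nat.card ↥(Subgroup.center G) * (p ^ (2 * i) - p ^ (2 * i - 2)) := by
  have hpp : p.Prime := Fact.out
  obtain ⟨T₁, hT₁, hT₁i⟩ := exists_powCenter hp hG hmc n hGn i hin
  obtain ⟨T₀, hT₀, hT₀i⟩ := exists_powCenter hp hG hmc n hGn (i - 1) (by omega)
  have hc₁ := card_powCenter hp hG hmc n hGn i hin T₁ hT₁i
  have hc₀ := card_powCenter hp hG hmc n hGn (i - 1) (by omega) T₀ hT₀i
  have hT₀T₁ : (T₀ : Set G) ⊆ (T₁ : Set G) := by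
    intro x hx
    have h1 : x ^ p ^ (i - 1) ∈ Subgroup.center G := (hT₀ x).1 hx
    have h2 : x ^ p ^ i = (x ^ p ^ (i - 1)) ^ p := by
      rw [← pow_mul, ← pow_succ]; congr 2; omega
    refine (hT₁ x).2 ?_
    rw [h2]
    exact Subgroup.pow_mem _ h1 _
  have hset : {g : G | (Subgroup.centralizer ({g} : Set G)).index = p ^ i} =
      (T₁ : Set G) \ (T₀ : Set G) := by
    ext g
    obtain ⟨m, hm⟩ := IsPGroup.iff_card.1 hG
    have hdvd : (Subgroup.centralizer ({g} : Set G)).index ∣ p ^ m := by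
      rw [← hm]; exact Subgroup.index_dvd_card _
    obtain ⟨j, -, hj⟩ := (Nat.dvd_prime_pow hpp).1 hdvd
    simp only [Set.mem_ofPred_eq, Set.mem_sdiff, SetLike.mem_coe]
    rw [hT₁, hT₀, ← index_centralizer_le_iff hp hG hmc, ← index_centralizer_le_iff hp hG hmc, hj,
      Nat.pow_le_pow_iff_right hpp.one_lt, Nat.pow_le_pow_iff_right hpp.one_lt]
    constructor
    · intro h
      have := Nat.pow_right_injective hpp.two_le h
      omega
    · rintro ⟨h1, h2⟩
      congr 1; omega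
  show Nat.card ↥{g : G | (Subgroup.centralizer ({g} : Set G)).index = p ^ i} = _
  rw [Nat.card_coe_set_eq, hset, Set.ncard_sdiff hT₀T₁ (Set.toFinite _),
    ← Nat.card_coe_set_eq, ← Nat.card_coe_set_eq]
  show Nat.card ↥T₁ - Nat.card ↥T₀ = _
  have e : 2 * (i - 1) = 2 * i - 2 := by omega
  rw [hc₁, hc₀, e, ← Nat.mul_sub]

end Cfsg.Agent.S3881
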