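import Cfsg.Statements.S3883
import Cfsg.Agent.Lib.Helper64.MetaD
import Cfsg.Agent.Lib.Helper47.Frat
import Cfsg.Agent.Lib.Helper63.PFrattini
import Cfsg.Agent.S3880

set_option autoImplicit false
open Cfsg

namespace Cfsg.Agent.S3883

open scoped commutatorElement
open Cfsg.Agent.Lib.Helper64.MetaC Cfsg.Agent.Lib.Helper64.MetaD

/-- In a finite metacyclic `p`-group the Frattini subgroup is generated by the `p`-th powers. -/
theorem frattini_eq_closure_pow {G : Type*} [Group G] [Finite G] {p : ℕ} [Fact p.Prime]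
    (hG : IsPGroup p G) (hmc : Cfsg.IsMetacyclic G) :
    frattini G = Subgroup.closure {x : G | ∃ y : G, y ^ p ^ 1 = x} := by
  apply le_antisymm
  · apply Cfsg.Agent.Lib.Helper47.Frat.frattini_le_of_pow_comm (p := p)
    · intro x
      exact Subgroup.subset_closure ⟨x, by rw [pow_one]⟩
    · obtain ⟨N, a, b, s, hNn, hNc, hact, hcomm, haN, hgen, hs1, hs, hG'⟩ := exists_setup hG hmc
      rw [hG', Subgroup.zpowers_le]
      have h1 : ⁅b, a⁆ = (a ^ (s / p)) ^ p ^ 1 := by
        rw [commutatorElement_def, hs a haN, pow_one, ← pow_mul, eq_comm]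
        have h2 : a ^ s = a ^ (s / p * p) * a := by
          conv_lhs => rw [← Nat.div_add_mod s p, hs1, pow_add, pow_one, mul_comm p]
        rw [h2, mul_inv_cancel_right]
      rw [h1]
      exact Subgroup.subset_closure ⟨_, rfl⟩
  · rw [Subgroup.closure_le]
    rintro x ⟨y, rfl⟩
    rw [pow_one]
    exact Cfsg.Agent.Lib.Helper63.PFrattini.pow_mem_frattini hG y

/-- Let p be an odd prime and G a finite metacyclic p-group (G has a cyclic normal subgroup with cyclic quotient). Suppose G is non-abelian. Then an element g of G lies outside the Frattini subgroup if and only if its centralizer C_G(g) is abelian. -/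
theorem result {G : Type*} [Group G] [Finite G] {p : ℕ} [Fact p.Prime] (hp : p ≠ 2) (hG : IsPGroup p G) (hmc : Cfsg.IsMetacyclic G) (hna : ¬ IsMulCommutative G) (g : G) :
    g ∉ frattini G ↔ IsMulCommutative ↥(Subgroup.centralizer ({g} : Set G)) := by
  have hpp : p.Prime := Fact.out
  obtain ⟨m, n, k, hm, hn, hk, hnm, hkm, hL, hC⟩ :=
    Cfsg.Agent.S3880.exists_data hG (Subgroup.centralizer ({g} : Set G))
  have hn0 : 1 ≤ n := by
    by_contra h0
    have h1 : n = 0 := by omega
    rw [h1, pow_zero, Subgroup.card_eq_one] at hn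
    apply hna
    refine ⟨⟨fun x y => ?_⟩⟩
    have h2 : ⁅x, y⁆ ∈ commutator G := by
      rw [commutator_def]
      exact Subgroup.commutator_mem_commutator (Subgroup.mem_top x) (Subgroup.mem_top y)
    rw [hn, Subgroup.mem_bot, commutatorElement_eq_one_iff_mul_comm] at h2
    exact h2
  rw [frattini_eq_closure_pow hG hmc, mem_closure_pow_iff hp hG hmc n hn 1 hn0,
    ← index_centralizer_le_iff hp hG hmc, Cfsg.Agent.S3880.abelian_iff hp hG hmc, hk, hL, hC,
    Nat.pow_le_pow_iff_right hpp.one_lt, Nat.pow_le_pow_iff_right hpp.one_lt]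
  omega

end Cfsg.Agent.S3883
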