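import Cfsg.Statements.S3886
import Cfsg.Agent.Lib.Helper64.MetaC
import Cfsg.Agent.S3880

set_option autoImplicit false
open Cfsg

namespace Cfsg.Agent.S3886

open Cfsg.Agent.Lib.Helper64.MetaC

/-- the value of `|R| |Z(R)|` for a subgroup of index `p ^ k` -/
theorem central_product_value {G : Type*} [Group G] [Finite G] {p : ℕ} [Fact p.Prime]
    (hp : p ≠ 2) (hG : IsPGroup p G) (hmc : Cfsg.IsMetacyclic G) (m n : ℕ)
    (hm : Nat.card G = p ^ m) (hn : Nat.card ↥(commutator G) = p ^ n) (hnm : n ≤ m)
    (R : Subgroup G) (k : ℕ) (hkm : k ≤ m) (hk : R.index = p ^ k)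
    (hR : Nat.card ↥R = p ^ (m - k)) :
    Nat.card ↥R * Nat.card ↥(Subgroup.center ↥R) ≤ p ^ (2 * (m - n)) ∧
      (Nat.card ↥R * Nat.card ↥(Subgroup.center ↥R) = p ^ (2 * (m - n)) ↔ k ≤ n) := by
  have hpp : p.Prime := Fact.out
  have h1 := card_mul_card_center hp hG hmc m n k hn R hk hR
  rcases le_or_gt k n with hkn | hkn
  · have h2 : Nat.card ↥R * Nat.card ↥(Subgroup.center ↥R) = p ^ (2 * (m - n)) := by
      have h3 : Nat.card ↥R * Nat.card ↥(Subgroup.center ↥R) * p ^ (2 * (n - k)) =
          p ^ (2 * (m - n)) * p ^ (2 * (n - k)) := by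
        rw [h1, ← pow_add]; congr 1; omega
      exact Nat.eq_of_mul_eq_mul_right (pow_pos hpp.pos _) h3
    exact ⟨h2.le, ⟨fun _ => hkn, fun _ => h2⟩⟩
  · have h0 : n - k = 0 := by omega
    rw [h0, mul_zero, pow_zero, mul_one] at h1
    rw [h1]
    refine ⟨Nat.pow_le_pow_right hpp.pos (by omega), ?_⟩
    constructor
    · intro h
      have := Nat.pow_right_injective hpp.two_le h
      omega
    · intro h; omega

/-- Let p be an odd prime and G a finite metacyclic p-group (G has a cyclic normal subgroup with cyclic quotient). Then the largest value of |R| · |Z(R)| over subgroups R of G is |G : G'|², and the subgroups attaining it (the centrally large subgroups) are exactly the non-abelian subgroups together with the maximal abelian subgroups of G. -/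
theorem result {G : Type*} [Group G] [Finite G] {p : ℕ} [Fact p.Prime] (hp : p ≠ 2) (hG : IsPGroup p G) (hmc : Cfsg.IsMetacyclic G) : Cfsg.maxCentralProduct G = (commutator G).index ^ 2 ∧
    ∀ R : Subgroup G, Cfsg.IsCentrallyLarge R ↔ (¬ IsMulCommutative ↥R ∨ Maximal (fun K : Subgroup G => IsMulCommutative ↥K) R) := by
  have hpp : p.Prime := Fact.out
  obtain ⟨m, n, hm, hn, hnm⟩ := exists_data hG
  have hCi : (commutator G).index = p ^ (m - n) := by
    have h2 := Subgroup.card_mul_index (commutator G)
    rw [hn, hm] at h2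
    have : p ^ n * (commutator G).index = p ^ n * p ^ (m - n) := by
      rw [h2, ← pow_add]; congr 1; omega
    exact Nat.eq_of_mul_eq_mul_left (pow_pos hpp.pos n) this
  have hmax : Cfsg.maxCentralProduct G = p ^ (2 * (m - n)) := by
    unfold Cfsg.maxCentralProduct
    apply IsGreatest.csSup_eq
    constructor
    · obtain ⟨k, hkm, hk, hR⟩ := exists_index hG m hm (⊤ : Subgroup G)
      have hk0 : k = 0 := by
        rw [Subgroup.index_top] at hk
        by_contra h0
        have := Nat.one_lt_pow h0 hpp.one_lt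
        omega
      exact ⟨⊤, ((central_product_value hp hG hmc m n hm hn hnm ⊤ k hkm hk hR).2).2 (by omega)⟩
    · rintro x ⟨R, rfl⟩
      obtain ⟨k, hkm, hk, hR⟩ := exists_index hG m hm R
      exact (central_product_value hp hG hmc m n hm hn hnm R k hkm hk hR).1
  refine ⟨?_, ?_⟩
  · rw [hmax, hCi, ← pow_mul, mul_comm]
  · intro R
    obtain ⟨k, hkm, hk, hR⟩ := exists_index hG m hm R
    unfold Cfsg.IsCentrallyLarge
    rw [hmax, (central_product_value hp hG hmc m n hm hn hnm R k hkm hk hR).2,
      Cfsg.Agent.S3880.abelian_iff hp hG hmc R, (Cfsg.Agent.S3880.result hp hG hmc R).2, hR, hCi,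
      Nat.pow_le_pow_iff_right hpp.one_lt]
    constructor
    · intro h
      rcases Nat.lt_or_ge k n with h1 | h1
      · left; omega
      · right
        congr 1; omega
    · rintro (h | h)
      · omega
      · have := Nat.pow_right_injective hpp.two_le h
        omega

end Cfsg.Agent.S3886
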