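import Cfsg.Statements.S3887
import Cfsg.Agent.Lib.Helper64.MetaC

set_option autoImplicit false
open Cfsg

namespace Cfsg.Agent.S3887

open Cfsg.Agent.Lib.Helper64.MetaC

theorem maxCentralizerProduct_eq {G : Type*} [Group G] [Finite G] {p : ℕ} [Fact p.Prime]
    (hp : p ≠ 2) (hG : IsPGroup p G) (hmc : Cfsg.IsMetacyclic G) :
    Cfsg.maxCentralizerProduct G = Nat.card G * Nat.card ↥(Subgroup.center G) := by
  unfold Cfsg.maxCentralizerProduct
  apply IsGreatest.csSup_eq
  constructor
  · refine ⟨⊤, ?_⟩
    rw [Subgroup.card_top, Subgroup.coe_top, Subgroup.centralizer_univ]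
  · rintro k ⟨R, rfl⟩
    exact card_mul_centralizer_le hp hG hmc R

/-- Let p be an odd prime and G a finite metacyclic p-group (G has a cyclic normal subgroup with cyclic quotient). Then a subgroup R of G maximizes |R| · |C_G(R)| over all subgroups of G if and only if R contains the center of G. -/
theorem result {G : Type*} [Group G] [Finite G] {p : ℕ} [Fact p.Prime] (hp : p ≠ 2) (hG : IsPGroup p G) (hmc : Cfsg.IsMetacyclic G) (R : Subgroup G) : Cfsg.IsCentralizerLarge R ↔ Subgroup.center G ≤ R := by
  unfold Cfsg.IsCentralizerLarge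
  rw [maxCentralizerProduct_eq hp hG hmc]
  constructor
  · intro h
    by_contra hZ
    have hcent : Subgroup.centralizer ((R ⊔ Subgroup.center G : Subgroup G) : Set G) =
        Subgroup.centralizer (R : Set G) := by
      apply le_antisymm
      · exact Subgroup.centralizer_le (show (R : Set G) ⊆ _ from fun x hx =>
          (le_sup_left : R ≤ R ⊔ Subgroup.center G) hx)
      · intro c hc
        have hle : R ⊔ Subgroup.center G ≤ Subgroup.centralizer ({c} : Set G) := by
          rw [sup_le_iff]
          refine ⟨?_, Subgroup.center_le_centralizer _⟩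
          intro r hr
          rw [Subgroup.mem_centralizer_iff]
          intro z hz
          rw [Set.mem_singleton_iff] at hz
          subst hz
          exact ((Subgroup.mem_centralizer_iff.1 hc) r hr).symm
        rw [Subgroup.mem_centralizer_iff]
        intro x hx
        exact ((Subgroup.mem_centralizer_iff.1 (hle hx)) c rfl).symm
    have h1 := card_mul_centralizer_le hp hG hmc (R ⊔ Subgroup.center G)
    rw [hcent, ← h] at h1
    have h2 : Nat.card ↥(R ⊔ Subgroup.center G) ≤ Nat.card ↥R :=
      Nat.le_of_mul_le_mul_right h1 Nat.card_pos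
    have h3 : R = R ⊔ Subgroup.center G := Subgroup.eq_of_le_of_card_ge le_sup_left h2
    apply hZ
    rw [h3]
    exact le_sup_right
  · intro hZ
    exact card_mul_centralizer_eq hp hG hmc R hZ

end Cfsg.Agent.S3887
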