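import Cfsg.Statements.S3889
import Mathlib

set_option autoImplicit false
open Cfsg

namespace Cfsg.Agent.S3889

/-- A finite abelian group that is the union of a family of proper subgroups any two of which intersect trivially is elementary abelian: its exponent is a prime. -/
theorem result {G : Type*} [CommGroup G] [Finite G] (𝓑 : Set (Subgroup G)) (hprop : ∀ B ∈ 𝓑, B ≠ ⊤)
    (hcov : ∀ g : G, ∃ B ∈ 𝓑, g ∈ B) (hdisj : ∀ B ∈ 𝓑, ∀ C ∈ 𝓑, B ≠ C → B ⊓ C = ⊥) :
    (Monoid.exponent G).Prime := by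
  have key : ∀ B ∈ 𝓑, ∀ x ∈ B, ∀ y, y ∉ B → orderOf x ∣ orderOf y := by
    intro B hB x hx y hy
    obtain ⟨C, hC, hxy⟩ := hcov (x * y)
    have hne : B ≠ C := by
      rintro rfl
      exact hy (by simpa using B.mul_mem (B.inv_mem hx) hxy)
    have h1 : x ^ orderOf y ∈ B ⊓ C := by
      refine ⟨B.pow_mem hx _, ?_⟩
      have : (x * y) ^ orderOf y = x ^ orderOf y := by
        rw [mul_pow, pow_orderOf_eq_one, mul_one]
      rw [← this]; exact C.pow_mem hxy _
    rw [hdisj B hB C hC hne, Subgroup.mem_bot] at h1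
    exact orderOf_dvd_of_pow_eq_one h1
  have exists_notMem : ∀ B ∈ 𝓑, ∃ z, z ∉ B := by
    intro B hB
    by_contra h
    push Not at h
    exact hprop B hB (by rw [eq_top_iff]; intro g _; exact h g)
  have step : ∀ B ∈ 𝓑, ∀ x ∈ B, ∀ y, y ∉ B → x ≠ 1 → orderOf x = orderOf y := by
    intro B hB x hx y hy hx1
    apply Nat.dvd_antisymm (key B hB x hx y hy)
    obtain ⟨C, hC, hyC⟩ := hcov y
    have hne : B ≠ C := by rintro rfl; exact hy hyC
    have hxC : x ∉ C := by
      intro hxC
      have : x ∈ B ⊓ C := ⟨hx, hxC⟩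
      rw [hdisj B hB C hC hne, Subgroup.mem_bot] at this
      exact hx1 this
    exact key C hC y hyC x hxC
  have key2 : ∀ x y : G, x ≠ 1 → y ≠ 1 → orderOf x = orderOf y := by
    intro x y hx1 hy1
    obtain ⟨B, hB, hxB⟩ := hcov x
    by_cases hyB : y ∈ B
    · obtain ⟨z, hz⟩ := exists_notMem B hB
      rw [step B hB x hxB z hz hx1, step B hB y hyB z hz hy1]
    · exact step B hB x hxB y hyB hx1
  obtain ⟨B, hB, h1B⟩ := hcov 1
  obtain ⟨z, hz⟩ := exists_notMem B hB
  have hz1 : z ≠ 1 := by rintro rfl; exact hz h1B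
  have : Nontrivial G := ⟨⟨z, 1, hz1⟩⟩
  set m := orderOf z with hm
  have hmpos : 0 < m := orderOf_pos z
  have hm1 : m ≠ 1 := by
    intro h
    exact hz1 (orderOf_eq_one_iff.mp h)
  have hp : (m.minFac).Prime := Nat.minFac_prime hm1
  have hdvd : m.minFac ∣ m := Nat.minFac_dvd m
  have hw : orderOf (z ^ (m / m.minFac)) = m.minFac := by
    rw [orderOf_pow' z (by
      intro h
      have := Nat.div_eq_zero_iff.mp h
      rcases this with h0 | hlt
      · exact hp.ne_zero h0
      · exact absurd (Nat.le_of_dvd hmpos hdvd) (not_le.mpr hlt))]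
    rw [← hm, Nat.gcd_eq_right (Nat.div_dvd_of_dvd hdvd)]
    exact Nat.div_div_self hdvd hmpos.ne'
  have hw1 : z ^ (m / m.minFac) ≠ 1 := by
    intro h
    rw [h, orderOf_one] at hw
    exact hp.ne_one hw.symm
  have hmp : m = m.minFac := by
    rw [← hw]; exact key2 _ _ hz1 hw1
  have hmprime : m.Prime := hmp ▸ hp
  have : Monoid.exponent G = m := by
    rw [Monoid.exponent_eq_prime_iff hmprime]
    intro g hg
    exact key2 g z hg hz1
  rw [this]; exact hmprime

end Cfsg.Agent.S3889
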