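import Cfsg.Statements.S3890
import Cfsg.Agent.Lib.Helper65.NilCover
import Cfsg.Agent.Lib.Helper65.NilCoprime
import Mathlib

set_option autoImplicit false
open Cfsg

namespace Cfsg.Agent.S3890

open Cfsg.Agent.Lib.Helper65

/-- `x` has `p`-power order -/
def Pel (p : ℕ) {G : Type*} [Group G] (x : G) : Prop := ∃ k : ℕ, x ^ p ^ k = 1

section basic

variable {G : Type*} [Group G] {p : ℕ}

theorem Pel.conj {x : G} (h : Pel p x) (g : G) : Pel p (g * x * g⁻¹) := by
  obtain ⟨k, hk⟩ := h
  exact ⟨k, by rw [conj_pow, hk, mul_one, mul_inv_cancel]⟩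

theorem Pel.pow {x : G} (h : Pel p x) (m : ℕ) : Pel p (x ^ m) := by
  obtain ⟨k, hk⟩ := h
  exact ⟨k, by rw [← pow_mul, mul_comm, pow_mul, hk, one_pow]⟩

theorem Pel.orderOf [Fact p.Prime] {x : G} (h : Pel p x) : ∃ j, orderOf x = p ^ j := by
  obtain ⟨k, hk⟩ := h
  obtain ⟨j, -, hj⟩ := (Nat.dvd_prime_pow Fact.out).1 (orderOf_dvd_of_pow_eq_one hk)
  exact ⟨j, hj⟩

theorem Pel.isPGroup_zpowers {x : G} (h : Pel p x) : IsPGroup p (Subgroup.zpowers x) := by
  obtain ⟨k, hk⟩ := h
  rintro ⟨y, hy⟩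
  obtain ⟨i, rfl⟩ := Subgroup.mem_zpowers_iff.mp hy
  refine ⟨k, Subtype.ext ?_⟩
  show (x ^ i) ^ p ^ k = 1
  rw [← zpow_natCast, ← zpow_mul, mul_comm, zpow_mul, zpow_natCast, hk, one_zpow]

theorem pel_of_isPGroup (S : Subgroup G) (hS : IsPGroup p S) {x : G} (hx : x ∈ S) : Pel p x := by
  obtain ⟨k, hk⟩ := hS ⟨x, hx⟩
  exact ⟨k, by simpa using congrArg Subtype.val hk⟩

end basic

section main

variable {G : Type*} [Group G] [Finite G] {p : ℕ} [Fact p.Prime] (P : Sylow p G)

/-- every `p`-subgroup is abelian when a Sylow `p`-subgroup is -/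
theorem comm_of_pgroup (hab : IsMulCommutative ↥(P : Subgroup G)) (S : Subgroup G)
    (hS : IsPGroup p S) (x y : G) (hx : x ∈ S) (hy : y ∈ S) : x * y = y * x := by
  obtain ⟨Q, hQ⟩ := hS.exists_le_sylow
  obtain ⟨g, hg⟩ := MulAction.exists_smul_eq G P Q
  have hmem : ∀ z ∈ S, g⁻¹ * z * g ∈ (P : Subgroup G) := by
    intro z hz
    have h1 : z ∈ ((g • P : Sylow p G) : Subgroup G) := by rw [hg]; exact hQ hz
    rw [Sylow.coe_subgroup_smul, Subgroup.mem_pointwise_smul_iff_inv_smul_mem] at h1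
    simpa [MulAut.smul_def] using h1
  have h1 := (isMulCommutative_iff.mp hab) ⟨_, hmem x hx⟩ ⟨_, hmem y hy⟩
  have h2 : (g⁻¹ * x * g) * (g⁻¹ * y * g) = (g⁻¹ * y * g) * (g⁻¹ * x * g) := congrArg Subtype.val h1
  calc x * y = g * ((g⁻¹ * x * g) * (g⁻¹ * y * g)) * g⁻¹ := by group
    _ = g * ((g⁻¹ * y * g) * (g⁻¹ * x * g)) * g⁻¹ := by rw [h2]
    _ = y * x := by group

/-- `p`-elements of a nilpotent subgroup are central in it -/
theorem central_of_pel (hab : IsMulCommutative ↥(P : Subgroup G)) (A : Subgroup G)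
    (hA : Group.IsNilpotent A) (x : G) (hx : x ∈ A) (hp : Pel p x) (a : G) (ha : a ∈ A) :
    a * x = x * a := by
  have hC : Subgroup.centralizer ({⟨x, hx⟩} : Set A) = ⊤ := by
    rw [← Subgroup.index_eq_one]
    by_contra hne
    obtain ⟨r, hr, hrd⟩ := Nat.exists_prime_and_dvd hne
    have : Fact r.Prime := ⟨hr⟩
    by_cases hrp : r = p
    · subst hrp
      have hz : IsPGroup r (Subgroup.zpowers (⟨x, hx⟩ : A)) := by
        apply Pel.isPGroup_zpowers
        obtain ⟨k, hk⟩ := hp
        exact ⟨k, Subtype.ext (by simpa using hk)⟩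
      obtain ⟨S, hS⟩ := hz.exists_le_sylow
      have hle : (S : Subgroup A) ≤ Subgroup.centralizer ({⟨x, hx⟩} : Set A) := by
        intro s hs
        rw [Subgroup.mem_centralizer_iff]
        intro w hw
        rw [Set.mem_singleton_iff] at hw
        subst hw
        apply Subtype.ext
        have h1 := comm_of_pgroup P hab ((S : Subgroup A).map A.subtype) (S.2.map _) x s.1
          ⟨⟨x, hx⟩, hS (Subgroup.mem_zpowers _), rfl⟩ ⟨s, hs, rfl⟩
        simpa using h1
      exact S.not_dvd_index (dvd_trans hrd (Subgroup.index_dvd_of_le hle))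
    · obtain ⟨R⟩ : Nonempty (Sylow r A) := inferInstance
      have hle : (R : Subgroup A) ≤ Subgroup.centralizer ({⟨x, hx⟩} : Set A) := by
        intro q hq
        rw [Subgroup.mem_centralizer_iff]
        intro w hw
        rw [Set.mem_singleton_iff] at hw
        subst hw
        obtain ⟨j, hj⟩ := (IsPGroup.iff_orderOf.mp R.isPGroup') ⟨q, hq⟩
        have hj' : orderOf q = r ^ j := by
          rw [← hj]
          exact (Subgroup.orderOf_mk q hq).symm
        obtain ⟨i, hi⟩ := Pel.orderOf hp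
        have hi' : orderOf (⟨x, hx⟩ : A) = p ^ i := by rw [Subgroup.orderOf_mk, hi]
        exact NilCoprime.commute_of_coprime A ⟨x, hx⟩ q (isOfFinOrder_of_finite _)
          (isOfFinOrder_of_finite _) (by
            rw [hi', hj']
            exact Nat.Coprime.pow _ _ ((Nat.coprime_primes Fact.out hr).mpr (Ne.symm hrp)))
      exact R.not_dvd_index (dvd_trans hrd (Subgroup.index_dvd_of_le hle))
  have h1 : (⟨a, ha⟩ : A) ∈ Subgroup.centralizer ({⟨x, hx⟩} : Set A) := by rw [hC]; trivial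
  have h2 := Subgroup.mem_centralizer_iff.mp h1 ⟨x, hx⟩ rfl
  exact (congrArg Subtype.val h2).symm

variable (hZ : Subgroup.center G = ⊥) (𝓐 : Finset (Subgroup G))
  (h𝓐 : ((∀ A ∈ 𝓐, A ≠ ⊤) ∧ (∀ g : G, ∃ A ∈ 𝓐, g ∈ A)) ∧ (∀ 𝓑 : Finset (Subgroup G), (∀ A ∈ 𝓑, A ≠ ⊤) ∧ (∀ g : G, ∃ A ∈ 𝓑, g ∈ A) → 𝓐.card ≤ 𝓑.card) ∧ (∀ A ∈ 𝓐, Group.IsNilpotent ↥A))

include hZ h𝓐 in
/-- a nontrivial `p`-element lies in exactly one member of the cover -/
theorem unique_member (hab : IsMulCommutative ↥(P : Subgroup G)) (x : G) (hx1 : x ≠ 1)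
    (hp : Pel p x) (A B : Subgroup G) (hA : A ∈ 𝓐) (hB : B ∈ 𝓐) (hxA : x ∈ A) (hxB : x ∈ B) :
    A = B := by
  have hH : Subgroup.centralizer ({x} : Set G) ≠ ⊤ := by
    intro htop
    apply hx1
    have h1 : x ∈ Subgroup.center G := by
      rw [Subgroup.mem_center_iff]
      intro g
      have hg : g ∈ Subgroup.centralizer ({x} : Set G) := by rw [htop]; trivial
      exact (Subgroup.mem_centralizer_iff.mp hg x rfl).symm
    rw [hZ] at h1
    exact Subgroup.mem_bot.mp h1
  apply NilCover.at_most_one_le 𝓐 h𝓐.1 h𝓐.2.1 _ hH A B hA hB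
  · intro a ha
    rw [Subgroup.mem_centralizer_iff]
    intro w hw
    rw [Set.mem_singleton_iff] at hw
    subst hw
    exact (central_of_pel P hab A (h𝓐.2.2 A hA) w hxA hp a ha).symm
  · intro a ha
    rw [Subgroup.mem_centralizer_iff]
    intro w hw
    rw [Set.mem_singleton_iff] at hw
    subst hw
    exact (central_of_pel P hab B (h𝓐.2.2 B hB) w hxB hp a ha).symm

include hZ h𝓐 in
/-- a `p`-subgroup which has an element of order `p²` or has order `p` lies in a member -/
theorem exists_member_ge (hab : IsMulCommutative ↥(P : Subgroup G)) (S : Subgroup G)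
    (hS : IsPGroup p S) (hcase : (∃ y ∈ S, y ^ p ≠ 1) ∨ Nat.card S = p) :
    ∃ A ∈ 𝓐, S ≤ A := by
  have hpp : p.Prime := Fact.out
  have hpel : ∀ x ∈ S, Pel p x := fun x hx => pel_of_isPGroup S hS hx
  have hcomm : ∀ x ∈ S, ∀ y ∈ S, x * y = y * x :=
    fun x hx y hy => comm_of_pgroup P hab S hS x y hx hy
  rcases hcase with ⟨y, hyS, hyp⟩ | hcard
  · have key : ∀ y ∈ S, y ^ p ≠ 1 → ∀ A ∈ 𝓐, y ∈ A → ∀ u ∈ S, u ^ p = 1 → u ∈ A := by
      intro y hyS hyp A hA hyA u huS hup
      obtain ⟨B, hB, hyuB⟩ := h𝓐.1.2 (y * u)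
      have h1 : (y * u) ^ p = y ^ p := by
        rw [(show Commute y u from hcomm y hyS u huS).mul_pow, hup, mul_one]
      have h2 : y ^ p ∈ B := h1 ▸ B.pow_mem hyuB p
      have hAB : A = B := unique_member P hZ 𝓐 h𝓐 hab (y ^ p) hyp ((hpel y hyS).pow p) A B hA hB
        (A.pow_mem hyA p) h2
      have h3 : y * u ∈ A := hAB ▸ hyuB
      have h4 : y⁻¹ * (y * u) ∈ A := A.mul_mem (A.inv_mem hyA) h3
      simpa using h4
    obtain ⟨A, hA, hyA⟩ := h𝓐.1.2 y
    refine ⟨A, hA, ?_⟩
    intro u huS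
    by_cases hup : u ^ p = 1
    · exact key y hyS hyp A hA hyA u huS hup
    · obtain ⟨B, hB, huB⟩ := h𝓐.1.2 u
      have hy1 : y ≠ 1 := by
        rintro rfl
        exact hyp (one_pow p)
      obtain ⟨j, hj⟩ := (hpel y hyS).orderOf
      have hj0 : j ≠ 0 := by
        rintro rfl
        rw [pow_zero, orderOf_eq_one_iff] at hj
        exact hy1 hj
      have hpd : p ∣ orderOf y := by rw [hj]; exact dvd_pow_self p hj0
      have hto : orderOf (y ^ (orderOf y / p)) = p :=
        orderOf_pow_orderOf_div (orderOf_pos y).ne' hpd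
      have htS : y ^ (orderOf y / p) ∈ S := S.pow_mem hyS _
      have htp : (y ^ (orderOf y / p)) ^ p = 1 := by
        have := pow_orderOf_eq_one (y ^ (orderOf y / p))
        rwa [hto] at this
      have ht1 : y ^ (orderOf y / p) ≠ 1 := by
        intro h
        rw [h, orderOf_one] at hto
        exact hpp.ne_one hto.symm
      have htA := key y hyS hyp A hA hyA _ htS htp
      have htB := key u huS hup B hB huB _ htS htp
      have hAB : A = B := unique_member P hZ 𝓐 h𝓐 hab _ ht1 (hpel _ htS) A B hA hB htA htB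
      rw [hAB]
      exact huB
  · have hnt : ∃ x ∈ S, x ≠ 1 := by
      by_contra hcon
      push Not at hcon
      have h1 : S = ⊥ := (Subgroup.eq_bot_iff_forall S).mpr hcon
      rw [h1, Subgroup.card_bot] at hcard
      exact hpp.ne_one hcard.symm
    obtain ⟨x, hxS, hx1⟩ := hnt
    obtain ⟨A, hA, hxA⟩ := h𝓐.1.2 x
    refine ⟨A, hA, ?_⟩
    have hle : Subgroup.zpowers x ≤ S := Subgroup.zpowers_le.mpr hxS
    have hxo : orderOf x = p := by
      have h1 : orderOf x ∣ p := by
        rw [← hcard, ← Subgroup.orderOf_mk x hxS]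
        exact orderOf_dvd_natCard _
      rcases (Nat.dvd_prime hpp).mp h1 with h | h
      · exact absurd (orderOf_eq_one_iff.mp h) hx1
      · exact h
    have heq : Subgroup.zpowers x = S :=
      Subgroup.eq_of_le_of_card_ge hle (by rw [hcard, Nat.card_zpowers, hxo])
    rw [← heq]
    exact Subgroup.zpowers_le.mpr hxA

omit [Finite G] [Fact (Nat.Prime p)] in
/-- a `p`-element normalizing a Sylow `p`-subgroup lies in it -/
theorem mem_of_pel_normalizer (x : G)
    (hx : x ∈ Subgroup.normalizer ((P : Subgroup G) : Set G)) (hp : Pel p x) :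
    x ∈ (P : Subgroup G) := by
  have h1 := hp.isPGroup_zpowers.inf_normalizer_sylow P
  have h2 : x ∈ Subgroup.zpowers x ⊓ Subgroup.normalizer (P : Set G) :=
    ⟨Subgroup.mem_zpowers x, hx⟩
  rw [h1] at h2
  exact h2.2

omit [Fact (Nat.Prime p)] in
/-- if the conjugate of `P` by `g` centralizes `P` then `g` normalizes `P` -/
theorem mem_normalizer_of_conj (g : G)
    (h : ∀ x ∈ (P : Subgroup G), g * x * g⁻¹ ∈ Subgroup.centralizer ((P : Subgroup G) : Set G)) :
    g ∈ Subgroup.normalizer ((P : Subgroup G) : Set G) := by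
  have h1 : ∀ x ∈ (P : Subgroup G), g * x * g⁻¹ ∈ (P : Subgroup G) := by
    intro x hx
    exact mem_of_pel_normalizer P _ (Subgroup.centralizer_le_normalizer _ (h x hx))
      ((pel_of_isPGroup _ P.2 hx).conj g)
  have h2 : (P : Subgroup G).map (MulAut.conj g).toMonoidHom ≤ (P : Subgroup G) := by
    rintro _ ⟨x, hx, rfl⟩
    exact h1 x hx
  have h3 : (P : Subgroup G).map (MulAut.conj g).toMonoidHom = (P : Subgroup G) :=
    Subgroup.eq_of_le_of_card_ge h2
      (by rw [Subgroup.card_map_of_injective (MulAut.conj g).injective])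
  rw [Subgroup.mem_normalizer_iff]
  intro x
  constructor
  · exact h1 x
  · intro hx
    rw [← h3] at hx
    obtain ⟨x', hx', he⟩ := hx
    have : x' = x := (MulAut.conj g).injective (by simpa using he)
    rw [← this]
    exact hx'

/-- a non-normal Sylow `p`-subgroup contains an element of order `p` -/
theorem exists_order_p (hnn : ¬ (P : Subgroup G).Normal) :
    ∃ x ∈ (P : Subgroup G), orderOf x = p ∧ p ≤ Nat.card ↥(P : Subgroup G) := by
  have hpp : p.Prime := Fact.out
  obtain ⟨k, hk⟩ := IsPGroup.iff_card.mp P.isPGroup'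
  have hk0 : k ≠ 0 := by
    rintro rfl
    rw [pow_zero] at hk
    have h1 : (P : Subgroup G) = ⊥ := Subgroup.eq_bot_of_card_eq _ hk
    apply hnn
    rw [h1]
    infer_instance
  have hdvd : p ∣ Nat.card ↥(P : Subgroup G) := by rw [hk]; exact dvd_pow_self p hk0
  obtain ⟨x, hx⟩ := exists_prime_orderOf_dvd_card' (G := ↥(P : Subgroup G)) p hdvd
  exact ⟨x, x.2, by rw [Subgroup.orderOf_coe]; exact hx, Nat.le_of_dvd Nat.card_pos hdvd⟩

include hZ h𝓐 in
theorem main_struct (hab : IsMulCommutative ↥(P : Subgroup G))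
    (hnn : ¬ (P : Subgroup G).Normal)
    (hcase : (∃ y ∈ (P : Subgroup G), y ^ p ≠ 1) ∨ Nat.card ↥(P : Subgroup G) = p) :
    ∃ A ∈ 𝓐, (P : Subgroup G) ≤ A ∧ Subgroup.centralizer ((P : Subgroup G) : Set G) = A ∧
      (∀ M : Subgroup G, M ≠ ⊤ → A ≤ M →
        M ≤ Subgroup.normalizer ((P : Subgroup G) : Set G)) ∧
      (∀ g : G, g ∉ Subgroup.normalizer ((P : Subgroup G) : Set G) →
        ¬ p ∣ Nat.card ↥(Subgroup.normalizer ((P : Subgroup G) : Set G) ⊓
          (Subgroup.normalizer ((P : Subgroup G) : Set G)).map (MulAut.conj g).toMonoidHom)) := by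
  have hpp : p.Prime := Fact.out
  obtain ⟨A, hA, hPA⟩ := exists_member_ge P hZ 𝓐 h𝓐 hab P P.2 hcase
  have hpelP : ∀ x ∈ (P : Subgroup G), Pel p x := fun x hx => pel_of_isPGroup _ P.2 hx
  obtain ⟨x₀, hx₀P, hx₀o, -⟩ := exists_order_p P hnn
  -- the centralizer of P is A
  have hcent : Subgroup.centralizer ((P : Subgroup G) : Set G) = A := by
    apply le_antisymm
    · intro c hc
      have hc' := Subgroup.mem_centralizer_iff.mp hc
      by_cases hpc : p ∣ orderOf c
      · have hto : orderOf (c ^ (orderOf c / p)) = p :=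
          orderOf_pow_orderOf_div (orderOf_pos c).ne' hpc
        have htpel : Pel p (c ^ (orderOf c / p)) := by
          refine ⟨1, ?_⟩
          rw [pow_one]
          have := pow_orderOf_eq_one (c ^ (orderOf c / p))
          rwa [hto] at this
        have htcent : c ^ (orderOf c / p) ∈ Subgroup.centralizer ((P : Subgroup G) : Set G) :=
          Subgroup.pow_mem _ hc _
        have htP : c ^ (orderOf c / p) ∈ (P : Subgroup G) :=
          mem_of_pel_normalizer P _ (Subgroup.centralizer_le_normalizer _ htcent) htpel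
        have ht1 : c ^ (orderOf c / p) ≠ 1 := by
          intro h
          rw [h, orderOf_one] at hto
          exact hpp.ne_one hto.symm
        obtain ⟨B, hB, hcB⟩ := h𝓐.1.2 c
        have hAB : A = B := unique_member P hZ 𝓐 h𝓐 hab _ ht1 htpel A B hA hB (hPA htP)
          (B.pow_mem hcB _)
        rw [hAB]
        exact hcB
      · obtain ⟨B, hB, hxcB⟩ := h𝓐.1.2 (x₀ * c)
        have hcomm : Commute x₀ c := hc' x₀ hx₀P
        have h1 : (x₀ * c) ^ orderOf c = x₀ ^ orderOf c := by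
          rw [hcomm.mul_pow, pow_orderOf_eq_one, mul_one]
        have h2 : x₀ ^ orderOf c ≠ 1 := by
          intro h
          have h3 := orderOf_dvd_of_pow_eq_one h
          rw [hx₀o] at h3
          exact hpc h3
        have hAB : A = B := unique_member P hZ 𝓐 h𝓐 hab (x₀ ^ orderOf c) h2
          ((hpelP x₀ hx₀P).pow _) A B hA hB (A.pow_mem (hPA hx₀P) _) (h1 ▸ B.pow_mem hxcB _)
        have h3 : x₀ * c ∈ A := hAB ▸ hxcB
        have h4 : x₀⁻¹ * (x₀ * c) ∈ A := A.mul_mem (A.inv_mem (hPA hx₀P)) h3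
        simpa using h4
    · intro a ha
      rw [Subgroup.mem_centralizer_iff]
      intro x hx
      exact (central_of_pel P hab A (h𝓐.2.2 A hA) x (hPA hx) (hpelP x hx) a ha).symm
  -- conjugates of P lie in members
  have hconj : ∀ g : G, ∃ A' ∈ 𝓐, (P : Subgroup G).map (MulAut.conj g).toMonoidHom ≤ A' := by
    intro g
    apply exists_member_ge P hZ 𝓐 h𝓐 hab _ (P.2.map _)
    rcases hcase with ⟨y, hy, hyp⟩ | hc
    · left
      refine ⟨g * y * g⁻¹, ⟨y, hy, by simp⟩, ?_⟩
      rw [conj_pow]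
      intro h
      apply hyp
      have h5 : g⁻¹ * (g * y ^ p * g⁻¹) * g = 1 := by rw [h]; group
      rw [← h5]
      group
    · right
      rw [Subgroup.card_map_of_injective (MulAut.conj g).injective]
      exact hc
  have hkey : ∀ (g : G) (A' : Subgroup G),
      (P : Subgroup G).map (MulAut.conj g).toMonoidHom ≤ A' → A' = A →
      g ∈ Subgroup.normalizer ((P : Subgroup G) : Set G) := by
    intro g A' hle hAA
    apply mem_normalizer_of_conj P g
    intro x hx
    rw [hcent, ← hAA]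
    exact hle ⟨x, hx, by simp⟩
  refine ⟨A, hA, hPA, hcent, ?_, ?_⟩
  · intro M hM hAM g hg
    obtain ⟨A', hA', hle⟩ := hconj g
    apply hkey g A' hle
    apply NilCover.at_most_one_le 𝓐 h𝓐.1 h𝓐.2.1 M hM A' A hA' hA _ hAM
    intro a' ha'
    have h1 : g⁻¹ * a' * g ∈ Subgroup.centralizer ((P : Subgroup G) : Set G) := by
      rw [Subgroup.mem_centralizer_iff]
      intro x hx
      have h2 := central_of_pel P hab A' (h𝓐.2.2 A' hA') (g * x * g⁻¹) (hle ⟨x, hx, by simp⟩)
        ((hpelP x hx).conj g) a' ha'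
      calc x * (g⁻¹ * a' * g) = g⁻¹ * ((g * x * g⁻¹) * a') * g := by group
        _ = g⁻¹ * (a' * (g * x * g⁻¹)) * g := by rw [h2]
        _ = g⁻¹ * a' * g * x := by group
    rw [hcent] at h1
    have h3 : g * (g⁻¹ * a' * g) * g⁻¹ ∈ M := M.mul_mem (M.mul_mem hg (hAM h1)) (M.inv_mem hg)
    have h4 : g * (g⁻¹ * a' * g) * g⁻¹ = a' := by group
    rwa [h4] at h3
  · intro g hg hdvd
    apply hg
    obtain ⟨y, hy⟩ := exists_prime_orderOf_dvd_card' (G := ↥(Subgroup.normalizer
      ((P : Subgroup G) : Set G) ⊓ (Subgroup.normalizer ((P : Subgroup G) : Set G)).map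
      (MulAut.conj g).toMonoidHom)) p hdvd
    have hyo : orderOf (y : G) = p := by rw [Subgroup.orderOf_coe]; exact hy
    have hypel : Pel p (y : G) := by
      refine ⟨1, ?_⟩
      rw [pow_one]
      have h1 := pow_orderOf_eq_one (y : G)
      rwa [hyo] at h1
    have hy1 : (y : G) ≠ 1 := by
      intro h
      rw [h, orderOf_one] at hyo
      exact hpp.ne_one hyo.symm
    have hyN := y.2.1
    obtain ⟨n, hnN, hny⟩ := y.2.2
    have hny' : g * n * g⁻¹ = (y : G) := by simpa using hny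
    have hnpel : Pel p n := by
      have h1 : n = g⁻¹ * (y : G) * g := by rw [← hny']; group
      rw [h1]
      have := hypel.conj g⁻¹
      simpa using this
    have hnP : n ∈ (P : Subgroup G) := mem_of_pel_normalizer P n hnN hnpel
    have hyP : (y : G) ∈ (P : Subgroup G) := mem_of_pel_normalizer P _ hyN hypel
    obtain ⟨A', hA', hle⟩ := hconj g
    apply hkey g A' hle
    exact unique_member P hZ 𝓐 h𝓐 hab (y : G) hy1 hypel A' A hA' hA
      (hle ⟨n, hnP, hny⟩) (hPA hyP)

end main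

/-- A cover of a group is a finite set of proper subgroups whose union is the whole group; it is minimal when no cover has fewer members, and nilpotent when all its members are nilpotent. Let G be a finite group with trivial center admitting a nilpotent minimal cover 𝓐, and let P be an abelian Sylow p-subgroup of G that is not normal. Then either P is elementary abelian of order greater than p, or P is a Sylow p-subgroup of some member A of 𝓐, the normalizer N of P is a maximal subgroup of G, N meets each of its conjugates by elements outside N in a subgroup of order prime to p, and the centralizer of P equals A. -/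
theorem result {G : Type*} [Group G] [Finite G] (hZ : Subgroup.center G = ⊥) (𝓐 : Finset (Subgroup G))
    (h𝓐 : ((∀ A ∈ 𝓐, A ≠ ⊤) ∧ (∀ g : G, ∃ A ∈ 𝓐, g ∈ A)) ∧ (∀ 𝓑 : Finset (Subgroup G), (∀ A ∈ 𝓑, A ≠ ⊤) ∧ (∀ g : G, ∃ A ∈ 𝓑, g ∈ A) → 𝓐.card ≤ 𝓑.card) ∧ (∀ A ∈ 𝓐, Group.IsNilpotent ↥A)) {p : ℕ} [Fact p.Prime] (P : Sylow p G) (hab : IsMulCommutative ↥(P : Subgroup G))
    (hnn : ¬ (P : Subgroup G).Normal) :
    (Cfsg.IsElementaryAbelian p (P : Subgroup G) ∧ p < Nat.card ↥(P : Subgroup G)) ∨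
    (∃ A ∈ 𝓐, (P : Subgroup G) ≤ A ∧ ¬ p ∣ ((P : Subgroup G).subgroupOf A).index ∧
      IsCoatom (Subgroup.normalizer ((P : Subgroup G) : Set G)) ∧
      (∀ g : G, g ∉ Subgroup.normalizer ((P : Subgroup G) : Set G) →
        ¬ p ∣ Nat.card ↥(Subgroup.normalizer ((P : Subgroup G) : Set G) ⊓
          (Subgroup.normalizer ((P : Subgroup G) : Set G)).map (MulAut.conj g).toMonoidHom)) ∧
      Subgroup.centralizer ((P : Subgroup G) : Set G) = A) := by
  by_cases hEA : Cfsg.IsElementaryAbelian p (P : Subgroup G) ∧ p < Nat.card ↥(P : Subgroup G)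
  · exact Or.inl hEA
  right
  have hcase : (∃ y ∈ (P : Subgroup G), y ^ p ≠ 1) ∨ Nat.card ↥(P : Subgroup G) = p := by
    by_cases hex : ∃ y ∈ (P : Subgroup G), y ^ p ≠ 1
    · exact Or.inl hex
    · right
      push Not at hex
      have hle : ¬ p < Nat.card ↥(P : Subgroup G) := fun h => hEA ⟨⟨hab, hex⟩, h⟩
      obtain ⟨-, -, -, hge⟩ := exists_order_p P hnn
      omega
  obtain ⟨A, hA, hPA, hcent, hG, he⟩ := main_struct P hZ 𝓐 h𝓐 hab hnn hcase
  refine ⟨A, hA, hPA, ?_, ?_, he, hcent⟩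
  · intro hd
    apply P.not_dvd_index
    rw [← Subgroup.relIndex_mul_index hPA]
    exact Dvd.dvd.mul_right hd _
  · have hAN : A ≤ Subgroup.normalizer ((P : Subgroup G) : Set G) := by
      rw [← hcent]
      exact Subgroup.centralizer_le_normalizer _
    refine ⟨fun h => hnn (Subgroup.normalizer_eq_top_iff.mp h), fun M hNM => ?_⟩
    by_contra hM
    exact absurd (hG M hM (le_trans hAN hNM.le)) (not_le_of_gt hNM)

end Cfsg.Agent.S3890
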