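import Cfsg.Statements.S3891
import Cfsg.Agent.S3890
import Cfsg.Agent.S3917
import Mathlib

set_option autoImplicit false
open Cfsg

namespace Cfsg.Agent.S3891

/-- A cover of a group is a finite set of proper subgroups whose union is the whole group; it is minimal when no cover has fewer members, and nilpotent when all its members are nilpotent. Let G be a finite group with trivial center admitting a nilpotent minimal cover, and let P be a non-normal Sylow p-subgroup of G that is cyclic, or abelian but not elementary abelian. Then the centralizer of P is nilpotent and the normalizer of P is the unique maximal subgroup of G containing the centralizer of P. -/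
theorem result {G : Type*} [Group G] [Finite G] (hZ : Subgroup.center G = ⊥) (𝓐 : Finset (Subgroup G))
    (h𝓐 : ((∀ A ∈ 𝓐, A ≠ ⊤) ∧ (∀ g : G, ∃ A ∈ 𝓐, g ∈ A)) ∧ (∀ 𝓑 : Finset (Subgroup G), (∀ A ∈ 𝓑, A ≠ ⊤) ∧ (∀ g : G, ∃ A ∈ 𝓑, g ∈ A) → 𝓐.card ≤ 𝓑.card) ∧ (∀ A ∈ 𝓐, Group.IsNilpotent ↥A)) {p : ℕ} [Fact p.Prime] (P : Sylow p G)
    (hP : IsCyclic ↥(P : Subgroup G) ∨ (IsMulCommutative ↥(P : Subgroup G) ∧ ¬ Cfsg.IsElementaryAbelian p (P : Subgroup G)))
    (hnn : ¬ (P : Subgroup G).Normal) :
    Group.IsNilpotent ↥(Subgroup.centralizer ((P : Subgroup G) : Set G)) ∧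
      IsCoatom (Subgroup.normalizer ((P : Subgroup G) : Set G)) ∧
      ∀ M : Subgroup G, IsCoatom M → Subgroup.centralizer ((P : Subgroup G) : Set G) ≤ M →
        M = Subgroup.normalizer ((P : Subgroup G) : Set G) := by
  have hpp : p.Prime := Fact.out
  have hab : IsMulCommutative ↥(P : Subgroup G) := by
    rcases hP with h | h
    · exact IsCyclic.isMulCommutative
    · exact h.1
  have hcase : (∃ y ∈ (P : Subgroup G), y ^ p ≠ 1) ∨ Nat.card ↥(P : Subgroup G) = p := by
    by_cases hex : ∃ y ∈ (P : Subgroup G), y ^ p ≠ 1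
    · exact Or.inl hex
    · right
      push Not at hex
      obtain ⟨-, -, -, hge⟩ := Cfsg.Agent.S3890.exists_order_p P hnn
      rcases hP with h | h
      · have h1 := Cfsg.Agent.S3917.card_le_of_cyclic_of_pow (P : Subgroup G) h p hpp.pos hex
        omega
      · exact absurd ⟨hab, hex⟩ h.2
  obtain ⟨A, hA, hPA, hcent, hG, he⟩ := Cfsg.Agent.S3890.main_struct P hZ 𝓐 h𝓐 hab hnn hcase
  have hAN : A ≤ Subgroup.normalizer ((P : Subgroup G) : Set G) := by
    rw [← hcent]
    exact Subgroup.centralizer_le_normalizer _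
  have hNtop : Subgroup.normalizer ((P : Subgroup G) : Set G) ≠ ⊤ :=
    fun h => hnn (Subgroup.normalizer_eq_top_iff.mp h)
  refine ⟨?_, ?_, ?_⟩
  · rw [hcent]
    exact h𝓐.2.2 A hA
  · refine ⟨hNtop, fun M hNM => ?_⟩
    by_contra hM
    exact absurd (hG M hM (le_trans hAN hNM.le)) (not_le_of_gt hNM)
  · intro M hM hCM
    have hle : M ≤ Subgroup.normalizer ((P : Subgroup G) : Set G) := hG M hM.1 (hcent ▸ hCM)
    by_contra hne
    exact hNtop (hM.2 _ (lt_of_le_of_ne hle hne))

end Cfsg.Agent.S3891
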