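import Cfsg.Statements.S3892
import Cfsg.Agent.Lib.Helper65.NilCover
import Cfsg.Agent.Lib.Helper65.NilCoprime
import Mathlib

set_option autoImplicit false
open Cfsg

namespace Cfsg.Agent.S3892

open Equiv Equiv.Perm

/-- elements commuting with a long odd cycle have odd order -/
theorem odd_of_commute_Sn {n : ℕ} (σ : Perm (Fin n)) (m : ℕ) (hσ : σ.cycleType = {m})
    (hm : Odd m) (hn : n ≤ m + 1) (x : Perm (Fin n)) (hx : x * σ = σ * x) :
    Odd (orderOf x) := by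
  have hcard : Nat.card (Subgroup.centralizer {σ}) = m := by
    rw [Equiv.Perm.nat_card_centralizer, hσ]
    simp only [Fintype.card_fin, Multiset.sum_singleton, Multiset.prod_singleton,
      Multiset.toFinset_singleton, Finset.prod_singleton, Multiset.count_singleton_self,
      Nat.factorial_one, mul_one]
    have h1 : n - m = 0 ∨ n - m = 1 := by omega
    rcases h1 with h1 | h1 <;> simp [h1]
  have hxC : x ∈ Subgroup.centralizer {σ} := by
    rw [Subgroup.mem_centralizer_singleton_iff]; exact hx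
  have hdvd : orderOf x ∣ m := by
    rw [← hcard]
    have := orderOf_dvd_natCard (⟨x, hxC⟩ : Subgroup.centralizer {σ})
    rwa [Subgroup.orderOf_mk] at this
  exact hm.of_dvd_nat hdvd

/-- even elements commuting with an odd cycle missing at most two points have odd order -/
theorem odd_of_commute_An {n : ℕ} (σ : Perm (Fin n)) (m : ℕ) (hσ : σ.cycleType = {m})
    (hm : Odd m)
    (hn : n ≤ m + 1 ∨ (n = m + 2 ∧ ∃ τ : Perm (Fin n), Perm.sign τ = -1 ∧ τ * σ = σ * τ))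
    (x : Perm (Fin n)) (hxs : Perm.sign x = 1) (hx : x * σ = σ * x) : Odd (orderOf x) := by
  rcases hn with hn | ⟨hn, τ, hτs, hτ⟩
  · exact odd_of_commute_Sn σ m hσ hm hn x hx
  · have hcard : Nat.card (Subgroup.centralizer {σ}) = 2 * m := by
      rw [Equiv.Perm.nat_card_centralizer, hσ]
      simp only [Fintype.card_fin, Multiset.sum_singleton, Multiset.prod_singleton,
        Multiset.toFinset_singleton, Finset.prod_singleton, Multiset.count_singleton_self,
        Nat.factorial_one, mul_one]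
      have h1 : n - m = 2 := by omega
      simp [h1]
    set C := Subgroup.centralizer {σ} with hC
    let φ : C →* ℤˣ := Perm.sign.comp C.subtype
    have hτC : τ ∈ C := by
      rw [hC, Subgroup.mem_centralizer_singleton_iff]; exact hτ
    have hxC : x ∈ C := by
      rw [hC, Subgroup.mem_centralizer_singleton_iff]; exact hx
    have hrange : Nat.card φ.range = 2 := by
      have htop : φ.range = ⊤ := by
        rw [eq_top_iff]
        intro u _
        rcases Int.units_eq_one_or u with rfl | rfl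
        · exact φ.range.one_mem
        · exact ⟨⟨τ, hτC⟩, hτs⟩
      rw [htop, Subgroup.card_top, Nat.card_eq_fintype_card, Fintype.card_units_int]
    have hker : Nat.card φ.ker = m := by
      have h1 := Subgroup.card_mul_index φ.ker
      rw [Subgroup.index_ker, hrange, hcard] at h1
      omega
    have hxk : (⟨x, hxC⟩ : C) ∈ φ.ker := by
      rw [MonoidHom.mem_ker]; exact hxs
    have hdvd : orderOf x ∣ m := by
      rw [← hker]
      have := orderOf_dvd_natCard (⟨⟨x, hxC⟩, hxk⟩ : φ.ker)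
      rwa [Subgroup.orderOf_mk, Subgroup.orderOf_mk] at this
    exact hm.of_dvd_nat hdvd

/-- a permutation of odd order preserving a set with at most two elements fixes its points -/
theorem fix_of_odd {α : Type*} [DecidableEq α] (a : Perm α) (ha : Odd (orderOf a))
    (T : Finset α) (hT : T.card ≤ 2) (hpres : ∀ x ∈ T, a x ∈ T) : ∀ x ∈ T, a x = x := by
  intro x hx
  by_contra hne
  have hy := hpres x hx
  have hay : a (a x) = x := by
    have h3 := hpres (a x) hy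
    by_contra h4
    have hsub : ({x, a x, a (a x)} : Finset α) ⊆ T := by
      intro t ht
      simp only [Finset.mem_insert, Finset.mem_singleton] at ht
      rcases ht with rfl | rfl | rfl <;> assumption
    have hc : ({x, a x, a (a x)} : Finset α).card = 3 := by
      rw [Finset.card_eq_three]
      exact ⟨x, a x, a (a x), Ne.symm hne, Ne.symm h4,
        fun h => hne (a.injective h.symm), rfl⟩
    have := Finset.card_le_card hsub
    omega
  obtain ⟨k, hk⟩ := ha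
  have h5 : ∀ j : ℕ, (a ^ (2 * j)) x = x := by
    intro j
    induction j with
    | zero => simp
    | succ j ih =>
      rw [Nat.mul_succ, pow_add, Perm.mul_apply, pow_two, Perm.mul_apply, hay, ih]
  have h6 : (a ^ orderOf a) x = x := by rw [pow_orderOf_eq_one]; rfl
  rw [hk, pow_succ', Perm.mul_apply, h5] at h6
  exact hne h6

theorem sign_eq_one_of_odd {n : ℕ} (x : Perm (Fin n)) (hx : Odd (orderOf x)) :
    Perm.sign x = 1 := by
  have h1 : Perm.sign x ^ orderOf x = 1 := by rw [← map_pow, pow_orderOf_eq_one, map_one]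
  rcases Int.units_eq_one_or (Perm.sign x) with h | h
  · exact h
  · rw [h, hx.neg_one_pow] at h1
    exact absurd h1 (by decide)

/-- general form of the symmetric group case -/
theorem no_cover_Sn {n : ℕ} (σ σ' : Perm (Fin n)) (m : ℕ) (hσ : σ.cycleType = {m})
    (hσ' : σ'.cycleType = {m}) (hm : Odd m) (hn : n ≤ m + 1)
    (w : Perm (Fin n)) (hw : w ∈ Subgroup.closure {σ, σ'}) (hw2 : orderOf w = 2)
    (hswap : ∃ τ : Perm (Fin n), Perm.sign τ = -1) :
    ¬ ∃ 𝓐 : Finset (Subgroup (Equiv.Perm (Fin n))), ((∀ A ∈ 𝓐, A ≠ ⊤) ∧ (∀ g : (Equiv.Perm (Fin n)), ∃ A ∈ 𝓐, g ∈ A)) ∧ (∀ 𝓑 : Finset (Subgroup (Equiv.Perm (Fin n))), (∀ A ∈ 𝓑, A ≠ ⊤) ∧ (∀ g : (Equiv.Perm (Fin n)), ∃ A ∈ 𝓑, g ∈ A) → 𝓐.card ≤ 𝓑.card) ∧ (∀ A ∈ 𝓐, Group.IsNilpotent ↥A) := by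
  have hH : alternatingGroup (Fin n) ≠ ⊤ := by
    obtain ⟨τ, hτ⟩ := hswap
    intro h
    have : τ ∈ alternatingGroup (Fin n) := by rw [h]; exact Subgroup.mem_top _
    rw [Equiv.Perm.mem_alternatingGroup, hτ] at this
    exact absurd this (by decide)
  have key : ∀ ρ : Perm (Fin n), ρ.cycleType = {m} → ∀ A : Subgroup (Perm (Fin n)),
      Group.IsNilpotent A → ρ ∈ A → ∀ x ∈ A, Odd (orderOf x) := by
    intro ρ hρ A hA hρA
    exact Cfsg.Agent.Lib.Helper65.NilCoprime.odd_order_of_nilpotent ρ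
      (fun x hx => odd_of_commute_Sn ρ m hρ hm hn x hx) A hA hρA
  apply Cfsg.Agent.Lib.Helper65.NilCover.no_nilpotent_min_cover (alternatingGroup (Fin n)) hH σ σ'
  · intro A hA hσA x hxA
    rw [Equiv.Perm.mem_alternatingGroup]
    exact sign_eq_one_of_odd x (key σ hσ A hA hσA x hxA)
  · intro A hA hσA x hxA
    rw [Equiv.Perm.mem_alternatingGroup]
    exact sign_eq_one_of_odd x (key σ' hσ' A hA hσA x hxA)
  · intro A hA hσA hσA'
    have hwA : w ∈ A := by
      have hle : Subgroup.closure {σ, σ'} ≤ A := by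
        rw [Subgroup.closure_le]
        intro y hy
        rcases hy with rfl | rfl
        · exact hσA
        · exact hσA'
      exact hle hw
    have := key σ hσ A hA hσA w hwA
    rw [hw2] at this
    exact absurd this (by decide)

/-- nilpotent overgroups of a suitable cycle fix the point `L` -/
theorem fix_point {n : ℕ} (L : Fin n) (σ : alternatingGroup (Fin n))
    (hc : (σ : Perm (Fin n)).IsCycle)
    (hodd : ∀ x : alternatingGroup (Fin n), x * σ = σ * x → Odd (orderOf x))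
    (hL : (σ : Perm (Fin n)) L = L)
    (hfix : (Finset.univ.filter (fun x => (σ : Perm (Fin n)) x = x)).card ≤ 2)
    (A : Subgroup (alternatingGroup (Fin n))) (hA : Group.IsNilpotent A) (hσA : σ ∈ A) :
    ∀ a ∈ A, (a : Perm (Fin n)) L = L := by
  have hoddA := Cfsg.Agent.Lib.Helper65.NilCoprime.odd_order_of_nilpotent σ hodd A hA hσA
  have hσ1 : σ ≠ 1 := by
    intro h
    apply hc.ne_one
    rw [h]; rfl
  obtain ⟨z, hzA, hz1, hzc⟩ := Cfsg.Agent.Lib.Helper65.NilCover.exists_central A hA σ hσA hσ1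
  have hcoe : ∀ x y : alternatingGroup (Fin n), x * y = y * x →
      ∀ t, (x : Perm (Fin n)) ((y : Perm (Fin n)) t) = (y : Perm (Fin n)) ((x : Perm (Fin n)) t) := by
    intro x y h t
    have := congrArg (fun g : alternatingGroup (Fin n) => (g : Perm (Fin n)) t) h
    simpa using this
  have hoddc : ∀ a ∈ A, Odd (orderOf (a : Perm (Fin n))) := by
    intro a ha
    rw [Subgroup.orderOf_coe]; exact hoddA a ha
  have hzσ := hcoe σ z (hzc σ hσA)
  have step1 : ∀ x ∈ Finset.univ.filter (fun x => (σ : Perm (Fin n)) x = x),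
      (z : Perm (Fin n)) x = x := by
    apply fix_of_odd (z : Perm (Fin n)) (hoddc z hzA) _ hfix
    intro x hx
    rw [Finset.mem_filter] at hx ⊢
    refine ⟨Finset.mem_univ _, ?_⟩
    rw [hzσ, hx.2]
  have hpow : ∀ (k : ℕ) (t : Fin n), (z : Perm (Fin n)) (((σ : Perm (Fin n)) ^ k) t) =
      ((σ : Perm (Fin n)) ^ k) ((z : Perm (Fin n)) t) := by
    intro k
    induction k with
    | zero => intro t; simp
    | succ k ih =>
      intro t
      rw [pow_succ', Perm.mul_apply, Perm.mul_apply, ← hzσ, ih]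
  have step2 : ∀ x, (z : Perm (Fin n)) x = x → (σ : Perm (Fin n)) x = x := by
    intro x hzx
    by_contra hσx
    apply hz1
    apply Subtype.ext
    apply Equiv.ext
    intro y
    show (z : Perm (Fin n)) y = y
    by_cases hy : (σ : Perm (Fin n)) y = y
    · exact step1 y (by rw [Finset.mem_filter]; exact ⟨Finset.mem_univ _, hy⟩)
    · obtain ⟨k, hk⟩ := hc.exists_pow_eq hσx hy
      rw [← hk, hpow, hzx]
  intro a ha
  have haz := hcoe a z (hzc a ha)
  have pres : ∀ x ∈ Finset.univ.filter (fun x => (σ : Perm (Fin n)) x = x),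
      (a : Perm (Fin n)) x ∈ Finset.univ.filter (fun x => (σ : Perm (Fin n)) x = x) := by
    intro x hx
    rw [Finset.mem_filter]
    refine ⟨Finset.mem_univ _, step2 _ ?_⟩
    rw [← haz, step1 x hx]
  exact fix_of_odd (a : Perm (Fin n)) (hoddc a ha) _ hfix pres L
    (by rw [Finset.mem_filter]; exact ⟨Finset.mem_univ _, hL⟩)

/-- general form of the alternating group case -/
theorem no_cover_An {n : ℕ} (L : Fin n) (σ σ' : alternatingGroup (Fin n))
    (hc : (σ : Perm (Fin n)).IsCycle) (hc' : (σ' : Perm (Fin n)).IsCycle)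
    (hodd : ∀ x : alternatingGroup (Fin n), x * σ = σ * x → Odd (orderOf x))
    (hodd' : ∀ x : alternatingGroup (Fin n), x * σ' = σ' * x → Odd (orderOf x))
    (hL : (σ : Perm (Fin n)) L = L) (hL' : (σ' : Perm (Fin n)) L = L)
    (hfix : (Finset.univ.filter (fun x => (σ : Perm (Fin n)) x = x)).card ≤ 2)
    (hfix' : (Finset.univ.filter (fun x => (σ' : Perm (Fin n)) x = x)).card ≤ 2)
    (w : alternatingGroup (Fin n)) (hw : w ∈ Subgroup.closure {σ, σ'}) (hw2 : orderOf w = 2)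
    (hmove : ∃ x : alternatingGroup (Fin n), (x : Perm (Fin n)) L ≠ L) :
    ¬ ∃ 𝓐 : Finset (Subgroup ↥(alternatingGroup (Fin n))), ((∀ A ∈ 𝓐, A ≠ ⊤) ∧ (∀ g : ↥(alternatingGroup (Fin n)), ∃ A ∈ 𝓐, g ∈ A)) ∧ (∀ 𝓑 : Finset (Subgroup ↥(alternatingGroup (Fin n))), (∀ A ∈ 𝓑, A ≠ ⊤) ∧ (∀ g : ↥(alternatingGroup (Fin n)), ∃ A ∈ 𝓑, g ∈ A) → 𝓐.card ≤ 𝓑.card) ∧ (∀ A ∈ 𝓐, Group.IsNilpotent ↥A) := by
  have hmem : ∀ x : alternatingGroup (Fin n),
      x ∈ (MulAction.stabilizer (Perm (Fin n)) L).subgroupOf (alternatingGroup (Fin n)) ↔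
        (x : Perm (Fin n)) L = L := by
    intro x
    rw [Subgroup.mem_subgroupOf, MulAction.mem_stabilizer_iff]
    rfl
  have hH : (MulAction.stabilizer (Perm (Fin n)) L).subgroupOf (alternatingGroup (Fin n)) ≠ ⊤ := by
    obtain ⟨x, hx⟩ := hmove
    intro h
    exact hx ((hmem x).mp (by rw [h]; exact Subgroup.mem_top _))
  apply Cfsg.Agent.Lib.Helper65.NilCover.no_nilpotent_min_cover _ hH σ σ'
  · intro A hA hσA a ha
    exact (hmem a).mpr (fix_point L σ hc hodd hL hfix A hA hσA a ha)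
  · intro A hA hσA a ha
    exact (hmem a).mpr (fix_point L σ' hc' hodd' hL' hfix' A hA hσA a ha)
  · intro A hA hσA hσA'
    have hwA : w ∈ A := by
      have hle : Subgroup.closure {σ, σ'} ≤ A := by
        rw [Subgroup.closure_le]
        intro y hy
        rcases hy with rfl | rfl
        · exact hσA
        · exact hσA'
      exact hle hw
    have := Cfsg.Agent.Lib.Helper65.NilCoprime.odd_order_of_nilpotent σ hodd A hA hσA w hwA
    rw [hw2] at this
    exact absurd this (by decide)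

theorem orderOf_two_swaps {α : Type*} [DecidableEq α] [Fintype α] (a b c d : α)
    (h : [a, c, b, d].Nodup) : orderOf (swap a c * swap b d) = 2 := by
  have hd : Equiv.Perm.Disjoint (swap a c) (swap b d) := Equiv.Perm.disjoint_swap_swap h
  simp only [List.nodup_cons, List.mem_cons, List.not_mem_nil, or_false, not_or,
    List.nodup_nil, and_true] at h
  have h1 : orderOf (swap a c) = 2 := Equiv.Perm.IsSwap.orderOf ⟨a, c, h.1.1, rfl⟩
  have h2 : orderOf (swap b d) = 2 := Equiv.Perm.IsSwap.orderOf ⟨b, d, h.2.2.1, rfl⟩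
  rw [hd.orderOf, h1, h2]
  rfl

theorem card_fixed {n : ℕ} (g : Perm (Fin n)) (m : ℕ) (hg : g.cycleType = {m}) (hn : n ≤ m + 2) :
    (Finset.univ.filter (fun x => g x = x)).card ≤ 2 := by
  have h1 := Finset.card_filter_add_card_filter_not (s := (Finset.univ : Finset (Fin n)))
    (fun x => g x = x)
  have h2 : (Finset.univ.filter (fun x => ¬ g x = x)).card = m := by
    have h3 := Equiv.Perm.sum_cycleType g
    rw [hg, Multiset.sum_singleton] at h3
    rw [h3]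
    rfl
  rw [h2, Finset.card_univ, Fintype.card_fin] at h1
  omega

/-- data of the long cycle `g = (0 1 ... m-1)` and its conjugate by `swap 0 2` -/
theorem cycle_data (n m : ℕ) (hm5 : 5 ≤ m) (hmn : m ≤ n) :
    ∃ (g t : Perm (Fin n)) (a b c d : Fin n), g.cycleType = {m} ∧ g.IsCycle ∧
      Perm.sign g = (-1) ^ (m - 1) ∧ t = swap a c ∧ (a : ℕ) = 0 ∧ (b : ℕ) = 1 ∧ (c : ℕ) = 2 ∧
      (d : ℕ) = 3 ∧ t * g * t⁻¹ * g⁻¹ = swap a c * swap b d ∧
      (∀ x : Fin n, m ≤ (x : ℕ) → g x = x) := by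
  have : NeZero n := ⟨by omega⟩
  let i : Fin n := ⟨m - 1, by omega⟩
  have hi0 : i ≠ 0 := by
    intro h
    have := congrArg Fin.val h
    simp only [i, Fin.val_zero] at this
    omega
  let a : Fin n := ⟨0, by omega⟩
  let b : Fin n := ⟨1, by omega⟩
  let c : Fin n := ⟨2, by omega⟩
  let d : Fin n := ⟨3, by omega⟩
  have hga : Fin.cycleRange i a = b := by
    apply Fin.ext
    rw [Fin.coe_cycleRange_of_lt (show a < i from by rw [Fin.lt_def]; simp only [a, i]; omega)]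
  have hgc : Fin.cycleRange i c = d := by
    apply Fin.ext
    rw [Fin.coe_cycleRange_of_lt (show c < i from by rw [Fin.lt_def]; simp only [c, i]; omega)]
  refine ⟨Fin.cycleRange i, swap a c, a, b, c, d, ?_, Fin.isCycle_cycleRange hi0, ?_, rfl, rfl,
    rfl, rfl, rfl, ?_, ?_⟩
  · rw [Fin.cycleType_cycleRange hi0]
    congr 1
    simp only [i]
    omega
  · rw [Fin.sign_cycleRange]
  · rw [swap_inv]
    calc swap a c * Fin.cycleRange i * swap a c * (Fin.cycleRange i)⁻¹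
        = swap a c * (Fin.cycleRange i * swap a c) * (Fin.cycleRange i)⁻¹ := by group
      _ = swap a c * (swap (Fin.cycleRange i a) (Fin.cycleRange i c) * Fin.cycleRange i) *
          (Fin.cycleRange i)⁻¹ := by rw [Equiv.mul_swap_eq_swap_mul]
      _ = swap a c * swap b d := by rw [hga, hgc]; group
  · intro x hx
    apply Fin.cycleRange_of_gt
    rw [Fin.lt_def]
    simp only [i]
    omega

theorem sn_ge5 (n : ℕ) (hn : 5 ≤ n) :
    ¬ ∃ 𝓐 : Finset (Subgroup (Equiv.Perm (Fin n))), ((∀ A ∈ 𝓐, A ≠ ⊤) ∧ (∀ g : (Equiv.Perm (Fin n)), ∃ A ∈ 𝓐, g ∈ A)) ∧ (∀ 𝓑 : Finset (Subgroup (Equiv.Perm (Fin n))), (∀ A ∈ 𝓑, A ≠ ⊤) ∧ (∀ g : (Equiv.Perm (Fin n)), ∃ A ∈ 𝓑, g ∈ A) → 𝓐.card ≤ 𝓑.card) ∧ (∀ A ∈ 𝓐, Group.IsNilpotent ↥A) := by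
  obtain ⟨m, hm, hmn, hnm, hm5⟩ : ∃ m, Odd m ∧ m ≤ n ∧ n ≤ m + 1 ∧ 5 ≤ m := by
    rcases Nat.even_or_odd n with he | ho
    · obtain ⟨k, hk⟩ := he
      exact ⟨n - 1, ⟨k - 1, by omega⟩, by omega, by omega, by omega⟩
    · exact ⟨n, ho, le_rfl, by omega, hn⟩
  obtain ⟨g, t, a, b, c, d, hct, hcyc, hsign, ht, ha, hb, hc, hd, hw, hfixed⟩ :=
    cycle_data n m hm5 hmn
  have hne : ∀ x y : Fin n, (x : ℕ) ≠ (y : ℕ) → x ≠ y := fun x y h e => h (congrArg Fin.val e)
  apply no_cover_Sn g (t * g * t⁻¹) m hct (by rw [Equiv.Perm.cycleType_conj]; exact hct) hm hnm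
    (t * g * t⁻¹ * g⁻¹)
  · exact Subgroup.mul_mem _ (Subgroup.subset_closure (by simp))
      (Subgroup.inv_mem _ (Subgroup.subset_closure (by simp)))
  · rw [hw]
    apply orderOf_two_swaps
    apply List.Nodup.of_map Fin.val
    simp only [List.map, ha, hb, hc, hd]
    decide
  · exact ⟨swap a c, Equiv.Perm.sign_swap (hne _ _ (by omega))⟩

theorem an_ge6 (n : ℕ) (hn : 6 ≤ n) :
    ¬ ∃ 𝓐 : Finset (Subgroup ↥(alternatingGroup (Fin n))), ((∀ A ∈ 𝓐, A ≠ ⊤) ∧ (∀ g : ↥(alternatingGroup (Fin n)), ∃ A ∈ 𝓐, g ∈ A)) ∧ (∀ 𝓑 : Finset (Subgroup ↥(alternatingGroup (Fin n))), (∀ A ∈ 𝓑, A ≠ ⊤) ∧ (∀ g : ↥(alternatingGroup (Fin n)), ∃ A ∈ 𝓑, g ∈ A) → 𝓐.card ≤ 𝓑.card) ∧ (∀ A ∈ 𝓐, Group.IsNilpotent ↥A) := by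
  obtain ⟨m, hm, hm5, hcase⟩ : ∃ m, Odd m ∧ 5 ≤ m ∧ (n = m + 1 ∨ n = m + 2) := by
    rcases Nat.even_or_odd n with he | ho
    · obtain ⟨k, hk⟩ := he
      exact ⟨n - 1, ⟨k - 1, by omega⟩, by omega, Or.inl (by omega)⟩
    · obtain ⟨k, hk⟩ := ho
      exact ⟨n - 2, ⟨k - 1, by omega⟩, by omega, Or.inr (by omega)⟩
  have hmn : m ≤ n := by omega
  obtain ⟨g, t, a, b, c, d, hct, hcyc, hsign, ht, ha, hb, hc, hd, hw, hfixed⟩ :=
    cycle_data n m hm5 hmn
  have hne : ∀ x y : Fin n, (x : ℕ) ≠ (y : ℕ) → x ≠ y := fun x y h e => h (congrArg Fin.val e)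
  have hgs : Perm.sign g = 1 := by
    rw [hsign]
    obtain ⟨k, hk⟩ := hm
    exact Even.neg_one_pow ⟨k, by omega⟩
  obtain ⟨L, hL⟩ : ∃ L : Fin n, (L : ℕ) = n - 1 := ⟨⟨n - 1, by omega⟩, rfl⟩
  obtain ⟨L', hL'⟩ : ∃ L' : Fin n, (L' : ℕ) = n - 2 := ⟨⟨n - 2, by omega⟩, rfl⟩
  have hg's : Perm.sign (t * g * t⁻¹) = 1 := by
    rw [map_mul, map_mul, map_inv, hgs, mul_one, mul_inv_cancel]
  have hct' : (t * g * t⁻¹).cycleType = {m} := by rw [Equiv.Perm.cycleType_conj]; exact hct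
  have htL : ∀ x : Fin n, 4 ≤ (x : ℕ) → t x = x := by
    intro x hx
    rw [ht]
    exact swap_apply_of_ne_of_ne (hne _ _ (by omega)) (hne _ _ (by omega))
  have hg'fix : ∀ x : Fin n, m ≤ (x : ℕ) → (t * g * t⁻¹) x = x := by
    intro x hx
    rw [Perm.mul_apply, Perm.mul_apply]
    have h1 : t⁻¹ x = x := by
      rw [ht, swap_inv, ← ht]
      exact htL x (by omega)
    rw [h1, hfixed x hx, htL x (by omega)]
  have hcases : ∀ ρ : Perm (Fin n), (∀ x : Fin n, m ≤ (x : ℕ) → ρ x = x) →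
      (n ≤ m + 1 ∨ (n = m + 2 ∧ ∃ τ : Perm (Fin n), Perm.sign τ = -1 ∧ τ * ρ = ρ * τ)) := by
    intro ρ hρ
    rcases hcase with h | h
    · left; omega
    · right
      refine ⟨h, swap L' L, Equiv.Perm.sign_swap (hne _ _ (by omega)), ?_⟩
      have h3 := Equiv.mul_swap_eq_swap_mul ρ L' L
      rw [hρ L' (by omega), hρ L (by omega)] at h3
      exact h3.symm
  have hoddgen : ∀ ρ : alternatingGroup (Fin n), (ρ : Perm (Fin n)).cycleType = {m} →
      (∀ x : Fin n, m ≤ (x : ℕ) → (ρ : Perm (Fin n)) x = x) →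
      ∀ x : alternatingGroup (Fin n), x * ρ = ρ * x → Odd (orderOf x) := by
    intro ρ hρct hρfix x hx
    rw [← Subgroup.orderOf_coe]
    apply odd_of_commute_An (ρ : Perm (Fin n)) m hρct hm (hcases _ hρfix) (x : Perm (Fin n))
      (Equiv.Perm.mem_alternatingGroup.mp x.2)
    have h4 := congrArg Subtype.val hx
    simpa using h4
  apply no_cover_An L ⟨g, Equiv.Perm.mem_alternatingGroup.mpr hgs⟩
    ⟨t * g * t⁻¹, Equiv.Perm.mem_alternatingGroup.mpr hg's⟩ hcyc hcyc.conj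
    (hoddgen _ hct hfixed) (hoddgen _ hct' hg'fix)
    (hfixed L (by omega)) (hg'fix L (by omega)) (card_fixed g m hct (by omega))
    (card_fixed _ m hct' (by omega))
    (⟨t * g * t⁻¹, Equiv.Perm.mem_alternatingGroup.mpr hg's⟩ *
      (⟨g, Equiv.Perm.mem_alternatingGroup.mpr hgs⟩ : alternatingGroup (Fin n))⁻¹)
  · exact Subgroup.mul_mem _ (Subgroup.subset_closure (by simp))
      (Subgroup.inv_mem _ (Subgroup.subset_closure (by simp)))
  · rw [← Subgroup.orderOf_coe]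
    simp only [Subgroup.coe_mul, Subgroup.coe_inv]
    rw [hw]
    apply orderOf_two_swaps
    apply List.Nodup.of_map Fin.val
    simp only [List.map, ha, hb, hc, hd]
    decide
  · have haL : a ≠ L := hne _ _ (by omega)
    have hbc : b ≠ c := hne _ _ (by omega)
    have hLb : L ≠ b := hne _ _ (by omega)
    have hLc : L ≠ c := hne _ _ (by omega)
    have hs : Perm.sign (swap a L * swap b c) = 1 := by
      rw [map_mul, Equiv.Perm.sign_swap haL, Equiv.Perm.sign_swap hbc]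
      rfl
    refine ⟨⟨swap a L * swap b c, Equiv.Perm.mem_alternatingGroup.mpr hs⟩, ?_⟩
    show (swap a L * swap b c) L ≠ L
    rw [Perm.mul_apply, swap_apply_of_ne_of_ne hLb hLc, swap_apply_right]
    exact haL

theorem s4 :
    ¬ ∃ 𝓐 : Finset (Subgroup (Equiv.Perm (Fin 4))), ((∀ A ∈ 𝓐, A ≠ ⊤) ∧ (∀ g : (Equiv.Perm (Fin 4)), ∃ A ∈ 𝓐, g ∈ A)) ∧ (∀ 𝓑 : Finset (Subgroup (Equiv.Perm (Fin 4))), (∀ A ∈ 𝓑, A ≠ ⊤) ∧ (∀ g : (Equiv.Perm (Fin 4)), ∃ A ∈ 𝓑, g ∈ A) → 𝓐.card ≤ 𝓑.card) ∧ (∀ A ∈ 𝓐, Group.IsNilpotent ↥A) := by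
  have h1 : (swap (0 : Fin 4) 1 * swap 0 2).cycleType = {3} :=
    Equiv.Perm.isThreeCycle_swap_mul_swap_same (by decide) (by decide) (by decide)
  have h2 : (swap (0 : Fin 4) 1 * swap 0 3).cycleType = {3} :=
    Equiv.Perm.isThreeCycle_swap_mul_swap_same (by decide) (by decide) (by decide)
  apply no_cover_Sn (swap (0 : Fin 4) 1 * swap 0 2) (swap (0 : Fin 4) 1 * swap 0 3) 3 h1 h2
    (by decide) (by norm_num)
    ((swap (0 : Fin 4) 1 * swap 0 2) * (swap (0 : Fin 4) 1 * swap 0 3))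
  · exact Subgroup.mul_mem _ (Subgroup.subset_closure (by simp))
      (Subgroup.subset_closure (by simp))
  · exact orderOf_eq_prime (by decide) (by decide)
  · exact ⟨swap 0 1, Equiv.Perm.sign_swap (by decide)⟩

theorem an5 :
    ¬ ∃ 𝓐 : Finset (Subgroup ↥(alternatingGroup (Fin 5))), ((∀ A ∈ 𝓐, A ≠ ⊤) ∧ (∀ g : ↥(alternatingGroup (Fin 5)), ∃ A ∈ 𝓐, g ∈ A)) ∧ (∀ 𝓑 : Finset (Subgroup ↥(alternatingGroup (Fin 5))), (∀ A ∈ 𝓑, A ≠ ⊤) ∧ (∀ g : ↥(alternatingGroup (Fin 5)), ∃ A ∈ 𝓑, g ∈ A) → 𝓐.card ≤ 𝓑.card) ∧ (∀ A ∈ 𝓐, Group.IsNilpotent ↥A) := by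
  have h1 : (swap (0 : Fin 5) 1 * swap 0 2).IsThreeCycle :=
    Equiv.Perm.isThreeCycle_swap_mul_swap_same (by decide) (by decide) (by decide)
  have h2 : (swap (0 : Fin 5) 1 * swap 0 3).IsThreeCycle :=
    Equiv.Perm.isThreeCycle_swap_mul_swap_same (by decide) (by decide) (by decide)
  have hoddgen : ∀ (ρ : alternatingGroup (Fin 5)) (τ : Perm (Fin 5)),
      (ρ : Perm (Fin 5)).cycleType = {3} → Perm.sign τ = -1 → τ * (ρ : Perm (Fin 5)) = ρ * τ →
      ∀ x : alternatingGroup (Fin 5), x * ρ = ρ * x → Odd (orderOf x) := by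
    intro ρ τ hρct hτs hτ x hx
    rw [← Subgroup.orderOf_coe]
    apply odd_of_commute_An (ρ : Perm (Fin 5)) 3 hρct (by decide) (Or.inr ⟨rfl, τ, hτs, hτ⟩)
      (x : Perm (Fin 5)) (Equiv.Perm.mem_alternatingGroup.mp x.2)
    have h4 := congrArg Subtype.val hx
    simpa using h4
  have e1 : swap (3 : Fin 5) 4 * (swap 0 1 * swap 0 2) = (swap 0 1 * swap 0 2) * swap 3 4 := by
    decide
  have e2 : swap (2 : Fin 5) 4 * (swap 0 1 * swap 0 3) = (swap 0 1 * swap 0 3) * swap 2 4 := by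
    decide
  have f1 : (swap (0 : Fin 5) 1 * swap 0 2 : Perm (Fin 5)) 4 = 4 := by decide
  have f2 : (swap (0 : Fin 5) 1 * swap 0 3 : Perm (Fin 5)) 4 = 4 := by decide
  have f3 : (swap (0 : Fin 5) 4 * swap 1 2 : Perm (Fin 5)) 4 ≠ 4 := by decide
  apply no_cover_An (4 : Fin 5)
    ⟨swap (0 : Fin 5) 1 * swap 0 2, Equiv.Perm.mem_alternatingGroup.mpr h1.sign⟩
    ⟨swap (0 : Fin 5) 1 * swap 0 3, Equiv.Perm.mem_alternatingGroup.mpr h2.sign⟩
    h1.isCycle h2.isCycle
    (hoddgen _ (swap 3 4) h1 (Equiv.Perm.sign_swap (by decide)) e1)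
    (hoddgen _ (swap 2 4) h2 (Equiv.Perm.sign_swap (by decide)) e2)
    f1 f2 (card_fixed _ 3 h1 (by norm_num)) (card_fixed _ 3 h2 (by norm_num))
    (⟨swap (0 : Fin 5) 1 * swap 0 2, Equiv.Perm.mem_alternatingGroup.mpr h1.sign⟩ *
      ⟨swap (0 : Fin 5) 1 * swap 0 3, Equiv.Perm.mem_alternatingGroup.mpr h2.sign⟩)
  · exact Subgroup.mul_mem _ (Subgroup.subset_closure (by simp))
      (Subgroup.subset_closure (by simp))
  · rw [← Subgroup.orderOf_coe]
    simp only [Subgroup.coe_mul]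
    exact orderOf_eq_prime (by decide) (by decide)
  · have hs : Perm.sign (swap (0 : Fin 5) 4 * swap 1 2) = 1 := by
      rw [map_mul, Equiv.Perm.sign_swap (by decide), Equiv.Perm.sign_swap (by decide)]
      rfl
    exact ⟨⟨swap (0 : Fin 5) 4 * swap 1 2, Equiv.Perm.mem_alternatingGroup.mpr hs⟩, f3⟩

/-- A cover of a group is a finite set of proper subgroups whose union is the whole group; it is minimal when no cover has fewer members, and nilpotent when all its members are nilpotent. The alternating groups of degree at least 5 and the symmetric groups of degree at least 4 have no nilpotent minimal cover. -/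
theorem result (n : ℕ) :
    (5 ≤ n → ¬ ∃ 𝓐 : Finset (Subgroup ↥(alternatingGroup (Fin n))), ((∀ A ∈ 𝓐, A ≠ ⊤) ∧ (∀ g : ↥(alternatingGroup (Fin n)), ∃ A ∈ 𝓐, g ∈ A)) ∧ (∀ 𝓑 : Finset (Subgroup ↥(alternatingGroup (Fin n))), (∀ A ∈ 𝓑, A ≠ ⊤) ∧ (∀ g : ↥(alternatingGroup (Fin n)), ∃ A ∈ 𝓑, g ∈ A) → 𝓐.card ≤ 𝓑.card) ∧ (∀ A ∈ 𝓐, Group.IsNilpotent ↥A)) ∧
    (4 ≤ n → ¬ ∃ 𝓐 : Finset (Subgroup (Equiv.Perm (Fin n))), ((∀ A ∈ 𝓐, A ≠ ⊤) ∧ (∀ g : (Equiv.Perm (Fin n)), ∃ A ∈ 𝓐, g ∈ A)) ∧ (∀ 𝓑 : Finset (Subgroup (Equiv.Perm (Fin n))), (∀ A ∈ 𝓑, A ≠ ⊤) ∧ (∀ g : (Equiv.Perm (Fin n)), ∃ A ∈ 𝓑, g ∈ A) → 𝓐.card ≤ 𝓑.card) ∧ (∀ A ∈ 𝓐, Group.IsNilpotent ↥A)) := by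
  refine ⟨fun hn => ?_, fun hn => ?_⟩
  · rcases Nat.lt_or_ge n 6 with h | h
    · obtain rfl : n = 5 := by omega
      exact an5
    · exact an_ge6 n h
  · rcases Nat.lt_or_ge n 5 with h | h
    · obtain rfl : n = 4 := by omega
      exact s4
    · exact sn_ge5 n h

end Cfsg.Agent.S3892
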