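import Cfsg.Statements.S3894
import Cfsg.Agent.Lib.Helper65.PglBig
import Cfsg.Agent.Lib.Helper65.PglTwo
import Cfsg.Agent.Lib.Helper65.PglTwoC

set_option autoImplicit false
open Cfsg

namespace Cfsg.Agent.S3894

/-- A cover of a group is a finite set of proper subgroups whose union is the whole group; it is minimal when no cover has fewer members, and nilpotent when all its members are nilpotent. Let F be a finite field with q elements and n ≥ 3, or n = 2 and q ≥ 4. Then no subgroup of PGL_n(F) = GL_n(F)/Z(GL_n(F)) containing the image of SL_n(F) has a nilpotent minimal cover. -/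
theorem result {F : Type*} [Field F] [Fintype F] (n : ℕ) (hn : 3 ≤ n ∨ (n = 2 ∧ 4 ≤ Fintype.card F))
    (G : Subgroup (GL (Fin n) F ⧸ Subgroup.center (GL (Fin n) F)))
    (hG : ((Matrix.SpecialLinearGroup.toGL : Matrix.SpecialLinearGroup (Fin n) F →* GL (Fin n) F).range).map
      (QuotientGroup.mk' (Subgroup.center (GL (Fin n) F))) ≤ G) :
    ¬ ∃ 𝓐 : Finset (Subgroup ↥G), ((∀ A ∈ 𝓐, A ≠ ⊤) ∧ (∀ g : ↥G, ∃ A ∈ 𝓐, g ∈ A)) ∧ (∀ 𝓑 : Finset (Subgroup ↥G), (∀ A ∈ 𝓑, A ≠ ⊤) ∧ (∀ g : ↥G, ∃ A ∈ 𝓑, g ∈ A) → 𝓐.card ≤ 𝓑.card) ∧ (∀ A ∈ 𝓐, Group.IsNilpotent ↥A) := by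
  rcases hn with hn | ⟨rfl, hq⟩
  · obtain ⟨d, rfl⟩ : ∃ d, n = d + 1 := ⟨n - 1, by omega⟩
    exact Cfsg.Agent.Lib.Helper65.PglBig.big_case d (by omega) G hG
  · rcases Nat.eq_two_pow_or_exists_odd_prime_and_dvd (Fintype.card F - 1) with
      ⟨a, ha⟩ | ⟨p, hp, hdvd, hodd⟩
    · rcases Nat.eq_two_pow_or_exists_odd_prime_and_dvd (Fintype.card F + 1) with
        ⟨b, hb⟩ | ⟨p, hp, hdvd, hodd⟩
      · exfalso
        have e0 : (2 : ℕ) ^ 0 = 1 := by norm_num
        have e01 : (2 : ℕ) ^ (0 + 1) = 2 := by norm_num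
        rcases a with _ | _ | a
        · rw [e0] at ha; omega
        · rw [e01] at ha; omega
        rcases b with _ | _ | b
        · rw [e0] at hb; omega
        · rw [e01] at hb; omega
        have e1 : 2 ^ (a + 1 + 1) = 4 * 2 ^ a := by ring
        have e2 : 2 ^ (b + 1 + 1) = 4 * 2 ^ b := by ring
        rw [e1] at ha
        rw [e2] at hb
        omega
      · have h2 : (2 : F) ≠ 0 := by
          apply Cfsg.Agent.Lib.Helper42.SL2Odd.two_ne_zero_of_odd
          have e0 : (2 : ℕ) ^ 0 = 1 := by norm_num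
          rcases a with _ | a
          · rw [e0] at ha; omega
          · have e1 : 2 ^ (a + 1) = 2 * 2 ^ a := by ring
            rw [e1] at ha
            rintro ⟨k, hk⟩
            omega
        exact Cfsg.Agent.Lib.Helper65.PglTwoC.small_case_two h2 hq p hp hodd hdvd G hG
    · exact Cfsg.Agent.Lib.Helper65.PglTwo.small_case_one p hp hodd hdvd G hG

end Cfsg.Agent.S3894
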