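import Cfsg.Statements.S3911
import Cfsg.Agent.Lib.Helper25.ACStmt
import Cfsg.Agent.Lib.Helper25.ACOddStmt
import Cfsg.Agent.Lib.Helper97.ACTRANSFER
import Cfsg.Agent.Lib.Helper97.ACLIFTCRIT
import Cfsg.Agent.Lib.Helper17.ACSZLIFT
import Cfsg.Agent.Lib.Helper48.ACEXPSYL
import Cfsg.Agent.Lib.Helper61.ACSYLUNIQ
import Cfsg.Agent.Lib.Helper53.ACPAB
import Cfsg.Agent.Lib.Helper70.ACSPLITA
import Cfsg.Agent.Lib.Helper48.ACSPLITB
import Cfsg.Agent.Lib.Helper97.ACPREIM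
import Cfsg.Agent.Lib.Helper62.ACCASEE
import Cfsg.Agent.Lib.Helper62.ACUNIQSUB
import Cfsg.Agent.Lib.Helper70.ACABODD
import Cfsg.Agent.Lib.Helper14.ACABODDSUB
import Cfsg.Agent.Lib.Helper84.ACQUOTODD
import Cfsg.Agent.Lib.Helper88.AOEXPIN
import Cfsg.Agent.Lib.Helper96.AOABCYC
import Cfsg.Agent.Lib.Helper19.AOCYCSTEP
import Cfsg.Agent.Lib.Helper74.AOBURNA
import Cfsg.Agent.Lib.Helper96.AOCYCODD
import Cfsg.Agent.Lib.Helper90.AOBURN
import Cfsg.Agent.Lib.Helper77.AOPCOMPL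
import Cfsg.Agent.Lib.Helper92.AOSYLIN
import Cfsg.Agent.Lib.Helper88.AOMINHALL
import Cfsg.Agent.Lib.Helper36.AOCOPCASE
import Cfsg.Agent.Lib.Helper65.AOPGROUPCASE
import Cfsg.Agent.Lib.Helper47.AOMINCASE
import Cfsg.Agent.Lib.Helper42.AOKEYODD
import Cfsg.Agent.Lib.Helper84.AOINDUCT11

set_option autoImplicit false
open Cfsg

namespace Cfsg.Agent.S3911

open Cfsg.Agent.Lib.Helper25.ACStmt Cfsg.Agent.Lib.Helper25.ACOddStmt in
theorem goalProof.{u} : Goal11.{u} := by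
  have hTransfer : Transfer.{u} := Cfsg.Agent.Lib.Helper97.ACTRANSFER.main
  have hLiftCrit : LiftCrit.{u} := Cfsg.Agent.Lib.Helper97.ACLIFTCRIT.main
  have hSZLift : SZLift.{u} := Cfsg.Agent.Lib.Helper17.ACSZLIFT.main
  have hPreim : Preim.{u} := Cfsg.Agent.Lib.Helper97.ACPREIM.main
  have hExpSyl : ExpSyl.{u} := Cfsg.Agent.Lib.Helper48.ACEXPSYL.main
  have hSylUniq : SylUniq.{u} := Cfsg.Agent.Lib.Helper61.ACSYLUNIQ.main
  have hPAb : PAb.{u} := Cfsg.Agent.Lib.Helper53.ACPAB.main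
  have hSplitA : SplitA.{u} := Cfsg.Agent.Lib.Helper70.ACSPLITA.main
  have hSplitB : SplitB.{u} := Cfsg.Agent.Lib.Helper48.ACSPLITB.main
  have hCaseE : CaseE.{u} := Cfsg.Agent.Lib.Helper62.ACCASEE.main hExpSyl hSZLift hLiftCrit
  have hUniqSub : UniqSub.{u} := Cfsg.Agent.Lib.Helper62.ACUNIQSUB.main hSylUniq
  have hAbOdd : AbOdd.{u} := Cfsg.Agent.Lib.Helper70.ACABODD.main hSplitA hSplitB hPAb
  have hAbOddSub : AbOddSub.{u} := Cfsg.Agent.Lib.Helper14.ACABODDSUB.main hAbOdd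
  have hQuotOdd : QuotOdd.{u} := Cfsg.Agent.Lib.Helper84.ACQUOTODD.main hPreim hSZLift hAbOddSub hLiftCrit
  have hExpIn : ExpIn.{u} := Cfsg.Agent.Lib.Helper88.AOEXPIN.main
  have hAbCyc : AbCyc.{u} := Cfsg.Agent.Lib.Helper96.AOABCYC.main
  have hCycStep : CycStep.{u} := Cfsg.Agent.Lib.Helper19.AOCYCSTEP.main
  have hBurnA : BurnA.{u} := Cfsg.Agent.Lib.Helper74.AOBURNA.main
  have hCycOdd : CycOdd.{u} := Cfsg.Agent.Lib.Helper96.AOCYCODD.main hAbCyc hCycStep hPAb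
  have hBurn : Burn.{u} := Cfsg.Agent.Lib.Helper90.AOBURN.main hBurnA
  have hPCompl : PCompl.{u} := Cfsg.Agent.Lib.Helper77.AOPCOMPL.main hBurn
  have hSylIn : SylIn.{u} := Cfsg.Agent.Lib.Helper92.AOSYLIN.main hExpIn hSylUniq hCycOdd hPCompl
  have hMinHall : MinHall.{u} := Cfsg.Agent.Lib.Helper88.AOMINHALL.main hSylIn
  have hCopCase : CopCase.{u} := Cfsg.Agent.Lib.Helper36.AOCOPCASE.main hSZLift hLiftCrit
  have hPGroupCase : PGroupCase.{u} := Cfsg.Agent.Lib.Helper65.AOPGROUPCASE.main hCaseE hUniqSub hQuotOdd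
  have hMinCase : MinCase.{u} := Cfsg.Agent.Lib.Helper47.AOMINCASE.main hMinHall hPGroupCase hCopCase
  have hKeyOdd : KeyOdd.{u} := Cfsg.Agent.Lib.Helper42.AOKEYODD.main hMinCase
  exact Cfsg.Agent.Lib.Helper84.AOINDUCT11.main hKeyOdd hTransfer

/-- Let G be a finite group in which any two abelian subgroups of the same order are conjugate. If M is a normal subgroup of G of odd order, then any two abelian subgroups of G/M of the same order are conjugate in G/M. -/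
theorem result {G : Type*} [Group G] [Finite G] (hB : ∀ A B : Subgroup G, IsMulCommutative ↥A → IsMulCommutative ↥B → Nat.card ↥A = Nat.card ↥B → ∃ g : G, B = A.map (MulAut.conj g).toMonoidHom) (M : Subgroup G) [M.Normal] (hM : Odd (Nat.card ↥M)) :
    ∀ A B : Subgroup (G ⧸ M), IsMulCommutative ↥A → IsMulCommutative ↥B → Nat.card ↥A = Nat.card ↥B →
      ∃ g : G ⧸ M, B = A.map (MulAut.conj g).toMonoidHom := by
  exact goalProof G hB M hM

end Cfsg.Agent.S3911
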