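import Cfsg.Statements.S3912
import Cfsg.Agent.Lib.Helper25.ACStmt
import Cfsg.Agent.Lib.Helper97.ACTRANSFER
import Cfsg.Agent.Lib.Helper97.ACLIFTCRIT
import Cfsg.Agent.Lib.Helper17.ACSZLIFT
import Cfsg.Agent.Lib.Helper97.ACPREIM
import Cfsg.Agent.Lib.Helper62.ACKZERO
import Cfsg.Agent.Lib.Helper48.ACEXPSYL
import Cfsg.Agent.Lib.Helper61.ACSYLUNIQ
import Cfsg.Agent.Lib.Helper53.ACPAB
import Cfsg.Agent.Lib.Helper70.ACSPLITA
import Cfsg.Agent.Lib.Helper48.ACSPLITB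
import Cfsg.Agent.Lib.Helper65.ACCYCCHAIN
import Cfsg.Agent.Lib.Helper53.ACAB8
import Cfsg.Agent.Lib.Helper33.ACODDCORE
import Cfsg.Agent.Lib.Helper17.ACLIFT2
import Cfsg.Agent.Lib.Helper76.ACEXV
import Cfsg.Agent.Lib.Helper2.ACVALL4
import Cfsg.Agent.Lib.Helper53.ACNOEIGHTHAT
import Cfsg.Agent.Lib.Helper4.ACTYPEII
import Cfsg.Agent.Lib.Helper62.ACCASEE
import Cfsg.Agent.Lib.Helper62.ACUNIQSUB
import Cfsg.Agent.Lib.Helper70.ACABODD
import Cfsg.Agent.Lib.Helper14.ACABODDSUB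
import Cfsg.Agent.Lib.Helper84.ACQUOTODD
import Cfsg.Agent.Lib.Helper79.ACP2CENT
import Cfsg.Agent.Lib.Helper96.ACP2STRUCT
import Cfsg.Agent.Lib.Helper5.ACTWOTYPE
import Cfsg.Agent.Lib.Helper39.ACTWOTYPESUB
import Cfsg.Agent.Lib.Helper31.ACHATB
import Cfsg.Agent.Lib.Helper2.ACVSMALL
import Cfsg.Agent.Lib.Helper20.ACVCORE
import Cfsg.Agent.Lib.Helper2.ACNOEIGHT
import Cfsg.Agent.Lib.Helper34.ACQNORMAL
import Cfsg.Agent.Lib.Helper25.ACQUOTTWO
import Cfsg.Agent.Lib.Helper34.ACKEYSTEP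
import Cfsg.Agent.Lib.Helper84.ACINDUCT

set_option autoImplicit false
open Cfsg

namespace Cfsg.Agent.S3912

open Cfsg.Agent.Lib.Helper25.ACStmt in
theorem goalProof.{u} : Goal.{u} := by
  have hTransfer : Transfer.{u} := Cfsg.Agent.Lib.Helper97.ACTRANSFER.main
  have hLiftCrit : LiftCrit.{u} := Cfsg.Agent.Lib.Helper97.ACLIFTCRIT.main
  have hSZLift : SZLift.{u} := Cfsg.Agent.Lib.Helper17.ACSZLIFT.main
  have hPreim : Preim.{u} := Cfsg.Agent.Lib.Helper97.ACPREIM.main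
  have hKZero : KZero.{u} := Cfsg.Agent.Lib.Helper62.ACKZERO.main
  have hExpSyl : ExpSyl.{u} := Cfsg.Agent.Lib.Helper48.ACEXPSYL.main
  have hSylUniq : SylUniq.{u} := Cfsg.Agent.Lib.Helper61.ACSYLUNIQ.main
  have hPAb : PAb.{u} := Cfsg.Agent.Lib.Helper53.ACPAB.main
  have hSplitA : SplitA.{u} := Cfsg.Agent.Lib.Helper70.ACSPLITA.main
  have hSplitB : SplitB.{u} := Cfsg.Agent.Lib.Helper48.ACSPLITB.main
  have hCycChain : CycChain.{u} := Cfsg.Agent.Lib.Helper65.ACCYCCHAIN.main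
  have hAb8 : Ab8.{u} := Cfsg.Agent.Lib.Helper53.ACAB8.main
  have hOddCore : OddCore.{u} := Cfsg.Agent.Lib.Helper33.ACODDCORE.main
  have hLift2 : Lift2.{u} := Cfsg.Agent.Lib.Helper17.ACLIFT2.main
  have hExV : ExV.{u} := Cfsg.Agent.Lib.Helper76.ACEXV.main
  have hVAll4 : VAll4.{u} := Cfsg.Agent.Lib.Helper2.ACVALL4.main
  have hNoEightHat : NoEightHat.{u} := Cfsg.Agent.Lib.Helper53.ACNOEIGHTHAT.main
  have hTypeII : TypeII.{u} := Cfsg.Agent.Lib.Helper4.ACTYPEII.main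
  have hCaseE : CaseE.{u} := Cfsg.Agent.Lib.Helper62.ACCASEE.main hExpSyl hSZLift hLiftCrit
  have hUniqSub : UniqSub.{u} := Cfsg.Agent.Lib.Helper62.ACUNIQSUB.main hSylUniq
  have hAbOdd : AbOdd.{u} := Cfsg.Agent.Lib.Helper70.ACABODD.main hSplitA hSplitB hPAb
  have hAbOddSub : AbOddSub.{u} := Cfsg.Agent.Lib.Helper14.ACABODDSUB.main hAbOdd
  have hQuotOdd : QuotOdd.{u} := Cfsg.Agent.Lib.Helper84.ACQUOTODD.main hPreim hSZLift hAbOddSub hLiftCrit
  have hP2Cent : P2Cent.{u} := Cfsg.Agent.Lib.Helper79.ACP2CENT.main hCycChain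
  have hP2Struct : P2Struct.{u} := Cfsg.Agent.Lib.Helper96.ACP2STRUCT.main hP2Cent
  have hTwoType : TwoType.{u} := Cfsg.Agent.Lib.Helper5.ACTWOTYPE.main hSplitA hSplitB hP2Struct
  have hTwoTypeSub : TwoTypeSub.{u} := Cfsg.Agent.Lib.Helper39.ACTWOTYPESUB.main hTwoType
  have hHatB : HatB.{u} := Cfsg.Agent.Lib.Helper31.ACHATB.main hLift2
  have hVSmall : VSmall.{u} := Cfsg.Agent.Lib.Helper2.ACVSMALL.main hP2Struct
  have hVCore : VCore.{u} := Cfsg.Agent.Lib.Helper20.ACVCORE.main hOddCore hHatB hExV hVSmall hVAll4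
  have hNoEight : NoEight.{u} := Cfsg.Agent.Lib.Helper2.ACNOEIGHT.main hVCore hNoEightHat
  have hQNormal : QNormal.{u} := Cfsg.Agent.Lib.Helper34.ACQNORMAL.main hVCore
  have hQuotTwo : QuotTwo.{u} := Cfsg.Agent.Lib.Helper25.ACQUOTTWO.main hPreim hSZLift hTwoTypeSub hNoEight hQNormal hTypeII hAb8
  have hKeyStep : KeyStep.{u} := Cfsg.Agent.Lib.Helper34.ACKEYSTEP.main hKZero hCaseE hUniqSub hQuotOdd hQuotTwo
  exact Cfsg.Agent.Lib.Helper84.ACINDUCT.main hKeyStep hTransfer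

/-- Let G be a finite solvable group in which any two abelian subgroups of the same order are conjugate. Then every quotient of G has the same property: any two abelian subgroups of the quotient of the same order are conjugate. -/
theorem result {G : Type*} [Group G] [Finite G] (hB : ∀ A B : Subgroup G, IsMulCommutative ↥A → IsMulCommutative ↥B → Nat.card ↥A = Nat.card ↥B → ∃ g : G, B = A.map (MulAut.conj g).toMonoidHom) (hsol : Group.IsSolvable G) (M : Subgroup G) [M.Normal] :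
    ∀ A B : Subgroup (G ⧸ M), IsMulCommutative ↥A → IsMulCommutative ↥B → Nat.card ↥A = Nat.card ↥B →
      ∃ g : G ⧸ M, B = A.map (MulAut.conj g).toMonoidHom := by
  exact goalProof G hB hsol M

end Cfsg.Agent.S3912
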