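import Cfsg.Statements.S3921
import Cfsg.Agent.Lib.Helper89.NCStmt
import Cfsg.Agent.Lib.Helper89.NCAsm
import Cfsg.Agent.Lib.Helper34.NCEVENB
import Cfsg.Agent.Lib.Helper51.NCHASINV
import Cfsg.Agent.Lib.Helper76.NCINV2
import Cfsg.Agent.Lib.Helper20.NCCITA
import Cfsg.Agent.Lib.Helper89.NCCITB
import Cfsg.Agent.Lib.Helper51.NCSYL
import Cfsg.Agent.Lib.Helper20.NCCASE4
import Cfsg.Agent.Lib.Helper82.NCNOSD
import Cfsg.Agent.Lib.Helper67.NCDIHDATA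
import Cfsg.Agent.Lib.Helper76.NCONECLASS
import Cfsg.Agent.Lib.Helper20.NCZSEMI
import Cfsg.Agent.Lib.Helper67.NCZREG
import Cfsg.Agent.Lib.Helper77.NCZZAS
import Cfsg.Agent.Lib.Helper77.NCZFIN
import Cfsg.Agent.Lib.Helper20.NCQVAL
import Cfsg.Agent.Lib.Helper20.NCARITH
import Cfsg.Agent.Lib.Helper89.NCTRANSP
import Cfsg.Agent.Lib.Helper89.NCQ24
import Cfsg.Agent.Lib.Helper34.NCCSPLIT
import Cfsg.Agent.Lib.Helper82.NCCUNI
import Cfsg.Agent.Lib.Helper20.NCCNS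
import Cfsg.Agent.Lib.Helper2.NCCENTP
import Cfsg.Agent.Lib.Helper2.NCNCODD

set_option autoImplicit false
open Cfsg

namespace Cfsg.Agent.S3921

/-- Say that a group has self-centralizing non-cyclic subgroups when every non-cyclic subgroup H satisfies C_G(H) ≤ H. A non-abelian finite simple group has self-centralizing non-cyclic subgroups if and only if it is isomorphic to PSL₂(q) with q = 4, q = 9, or q a prime of the form 2^k + 1 or 2^k − 1. -/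
theorem result {G : Type*} [Group G] [Finite G] [IsSimpleGroup G] (hna : ¬ IsMulCommutative G) :
    (∀ H : Subgroup G, ¬ IsCyclic ↥H → Subgroup.centralizer (H : Set G) ≤ H) ↔ ∃ (F : Type) (_ : Field F) (_ : Fintype F),
      (Fintype.card F = 4 ∨ Fintype.card F = 9 ∨ ((Fintype.card F).Prime ∧ ∃ k : ℕ, Fintype.card F = 2 ^ k + 1 ∨ Fintype.card F = 2 ^ k - 1)) ∧
      Nonempty (G ≃* Matrix.ProjectiveSpecialLinearGroup (Fin 2) F) :=
  Cfsg.Agent.Lib.Helper89.NCAsm.assemble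
    Cfsg.Agent.Lib.Helper34.NCEVENB.main
    Cfsg.Agent.Lib.Helper51.NCHASINV.main
    Cfsg.Agent.Lib.Helper76.NCINV2.main
    Cfsg.Agent.Lib.Helper20.NCCITA.main
    Cfsg.Agent.Lib.Helper89.NCCITB.main
    Cfsg.Agent.Lib.Helper51.NCSYL.main
    Cfsg.Agent.Lib.Helper20.NCCASE4.main
    Cfsg.Agent.Lib.Helper82.NCNOSD.main
    Cfsg.Agent.Lib.Helper67.NCDIHDATA.main
    Cfsg.Agent.Lib.Helper76.NCONECLASS.main
    Cfsg.Agent.Lib.Helper20.NCZSEMI.main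
    Cfsg.Agent.Lib.Helper67.NCZREG.main
    Cfsg.Agent.Lib.Helper77.NCZZAS.main
    Cfsg.Agent.Lib.Helper77.NCZFIN.main
    Cfsg.Agent.Lib.Helper20.NCQVAL.main
    Cfsg.Agent.Lib.Helper20.NCARITH.main
    Cfsg.Agent.Lib.Helper89.NCTRANSP.main
    Cfsg.Agent.Lib.Helper89.NCQ24.main
    Cfsg.Agent.Lib.Helper34.NCCSPLIT.main
    Cfsg.Agent.Lib.Helper82.NCCUNI.main
    Cfsg.Agent.Lib.Helper20.NCCNS.main
    Cfsg.Agent.Lib.Helper2.NCCENTP.main
    Cfsg.Agent.Lib.Helper2.NCNCODD.main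
    hna

end Cfsg.Agent.S3921
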