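import Cfsg.Statements.S3941
import Cfsg.Agent.S3892
import Mathlib

set_option autoImplicit false
open Cfsg

namespace Cfsg.Agent.S3941

open Equiv Equiv.Perm

/-- in a `p`-closed finite group the product of two `p`-elements is a `p`-element -/
theorem mul_pelem_of_pclosed {K : Type*} [Group K] [Finite K] (p : ℕ) [Fact p.Prime]
    (hK : Cfsg.IsPClosed p K) (x y : K) (a b : ℕ) (hx : orderOf x = p ^ a)
    (hy : orderOf y = p ^ b) : ∃ c, orderOf (x * y) = p ^ c := by
  obtain ⟨P⟩ : Nonempty (Sylow p K) := inferInstance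
  have hu := Sylow.unique_of_normal P (hK P)
  have hmem : ∀ (z : K) (e : ℕ), orderOf z = p ^ e → z ∈ P := by
    intro z e hz
    obtain ⟨Q, hQ⟩ := (IsPGroup.of_card (n := e) (by rw [Nat.card_zpowers, hz]) :
      IsPGroup p (Subgroup.zpowers z)).exists_le_sylow
    have hQP : Q = P := Subsingleton.elim _ _
    rw [← hQP]
    exact hQ (Subgroup.mem_zpowers z)
  have hxy : x * y ∈ P := P.mul_mem (hmem x a hx) (hmem y b hy)
  obtain ⟨c, hc⟩ := (IsPGroup.iff_orderOf.mp P.isPGroup') ⟨x * y, hxy⟩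
  exact ⟨c, by rw [← hc, Subgroup.orderOf_mk]⟩

theorem core (n p : ℕ) [Fact p.Prime] (hp : p ≠ 2)
    (h : ∀ H : Subgroup ↥(alternatingGroup (Fin n)), H ≠ ⊤ → p ∣ Nat.card ↥H →
      Cfsg.IsPClosed p ↥H)
    (L : Fin n) (x y : Perm (Fin n)) (hxs : Perm.sign x = 1) (hys : Perm.sign y = 1)
    (hxL : x L = L) (hyL : y L = L) (hxo : orderOf x = p) (hyo : orderOf y = p)
    (hxy : orderOf (x * y) = 2) (τ : Perm (Fin n)) (hτs : Perm.sign τ = 1) (hτL : τ L ≠ L) :
    False := by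
  let H : Subgroup (alternatingGroup (Fin n)) :=
    (MulAction.stabilizer (Perm (Fin n)) L).subgroupOf (alternatingGroup (Fin n))
  have hmem : ∀ σ : alternatingGroup (Fin n), σ ∈ H ↔ (σ : Perm (Fin n)) L = L := by
    intro σ
    show (σ : Perm (Fin n)) ∈ MulAction.stabilizer (Perm (Fin n)) L ↔ _
    rw [MulAction.mem_stabilizer_iff, Equiv.Perm.smul_def]
  have hHtop : H ≠ ⊤ := by
    intro htop
    have h1 : (⟨τ, Equiv.Perm.mem_alternatingGroup.mpr hτs⟩ : alternatingGroup (Fin n)) ∈ H := by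
      rw [htop]
      trivial
    rw [hmem] at h1
    exact hτL h1
  let x' : H := ⟨⟨x, Equiv.Perm.mem_alternatingGroup.mpr hxs⟩, (hmem _).mpr hxL⟩
  let y' : H := ⟨⟨y, Equiv.Perm.mem_alternatingGroup.mpr hys⟩, (hmem _).mpr hyL⟩
  have hx'o : orderOf x' = p := by
    rw [Subgroup.orderOf_mk, Subgroup.orderOf_mk, hxo]
  have hy'o : orderOf y' = p := by
    rw [Subgroup.orderOf_mk, Subgroup.orderOf_mk, hyo]
  have hdvd : p ∣ Nat.card H := by
    rw [← hx'o]
    exact orderOf_dvd_natCard x'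
  have hcl := h H hHtop hdvd
  obtain ⟨c, hc⟩ := mul_pelem_of_pclosed p hcl x' y' 1 1 (by rw [hx'o, pow_one])
    (by rw [hy'o, pow_one])
  have h2 : orderOf (x' * y') = 2 := by
    rw [← Subgroup.orderOf_coe, ← Subgroup.orderOf_coe]
    exact hxy
  rw [h2] at hc
  have hpp : p.Prime := Fact.out
  have hc0 : c ≠ 0 := by
    intro h0
    rw [h0, pow_zero] at hc
    omega
  have h3 : p ∣ 2 := by
    rw [hc]
    exact dvd_pow_self p hc0
  exact hp ((Nat.prime_dvd_prime_iff_eq hpp Nat.prime_two).mp h3)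

/-- Let n ≥ 5 and p an odd prime with p ≤ n, and suppose that every proper subgroup of the alternating group of degree n whose order is divisible by p has a normal Sylow p-subgroup. Then n = p. -/
theorem result (n p : ℕ) (hn : 5 ≤ n) [Fact p.Prime] (hp : p ≠ 2) (hpn : p ≤ n)
    (h : ∀ H : Subgroup ↥(alternatingGroup (Fin n)), H ≠ ⊤ → p ∣ Nat.card ↥H → Cfsg.IsPClosed p ↥H) : n = p := by
  by_contra hne
  have hlt : p < n := by omega
  have hpp : p.Prime := Fact.out
  have hne' : ∀ x y : Fin n, (x : ℕ) ≠ (y : ℕ) → x ≠ y := fun x y h e => h (congrArg Fin.val e)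
  obtain ⟨L, hL⟩ : ∃ L : Fin n, (L : ℕ) = n - 1 := ⟨⟨n - 1, by omega⟩, rfl⟩
  obtain ⟨a, ha⟩ : ∃ a : Fin n, (a : ℕ) = 0 := ⟨⟨0, by omega⟩, rfl⟩
  obtain ⟨b, hb⟩ : ∃ b : Fin n, (b : ℕ) = 1 := ⟨⟨1, by omega⟩, rfl⟩
  obtain ⟨c, hc⟩ : ∃ c : Fin n, (c : ℕ) = 2 := ⟨⟨2, by omega⟩, rfl⟩
  obtain ⟨d, hd⟩ : ∃ d : Fin n, (d : ℕ) = 3 := ⟨⟨3, by omega⟩, rfl⟩
  have hab : a ≠ b := hne' _ _ (by omega)
  have hac : a ≠ c := hne' _ _ (by omega)
  have had : a ≠ d := hne' _ _ (by omega)
  have hbc : b ≠ c := hne' _ _ (by omega)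
  have hbd : b ≠ d := hne' _ _ (by omega)
  have hcd : c ≠ d := hne' _ _ (by omega)
  have hLa : L ≠ a := hne' _ _ (by omega)
  have hLb : L ≠ b := hne' _ _ (by omega)
  have hLc : L ≠ c := hne' _ _ (by omega)
  have hLd : L ≠ d := hne' _ _ (by omega)
  -- an even permutation moving L
  have hτs : Perm.sign (swap a L * swap b c) = 1 := by
    rw [map_mul, Equiv.Perm.sign_swap hLa.symm, Equiv.Perm.sign_swap hbc]
    rfl
  have hτL : (swap a L * swap b c) L ≠ L := by
    rw [Perm.mul_apply, swap_apply_of_ne_of_ne hLb hLc, swap_apply_right]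
    exact hLa.symm
  have hnodup : [a, b, c, d].Nodup := by
    simp [hab, hac, had, hbc, hbd, hcd]
  by_cases hp3 : p = 3
  · -- p = 3
    have h1 : (swap a b * swap a c).IsThreeCycle :=
      Equiv.Perm.isThreeCycle_swap_mul_swap_same hab hac hbc
    have h2 : (swap c a * swap c d).IsThreeCycle :=
      Equiv.Perm.isThreeCycle_swap_mul_swap_same hac.symm hcd had
    have h3 : (swap a b * swap a c) * (swap c a * swap c d) = swap a b * swap c d := by
      rw [swap_comm c a, mul_assoc, ← mul_assoc (swap a c), swap_mul_self, one_mul]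
    apply core n p hp h L (swap a b * swap a c) (swap c a * swap c d) h1.sign h2.sign
      ?_ ?_ (by rw [h1.orderOf, hp3]) (by rw [h2.orderOf, hp3]) ?_ _ hτs hτL
    · rw [Perm.mul_apply, swap_apply_of_ne_of_ne hLa hLc, swap_apply_of_ne_of_ne hLa hLb]
    · rw [Perm.mul_apply, swap_apply_of_ne_of_ne hLc hLd, swap_apply_of_ne_of_ne hLc hLa]
    · rw [h3]
      exact Cfsg.Agent.S3892.orderOf_two_swaps a c b d hnodup
  · -- p ≥ 5
    have hp5 : 5 ≤ p := by
      have h2 := hpp.two_le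
      by_contra hcon
      have h4 : p = 4 := by omega
      rw [h4] at hpp
      exact absurd hpp (by decide)
    obtain ⟨g, t, a', b', c', d', hct, hcyc, hsign, ht, ha', hb', hc', hd', hw, hfixed⟩ :=
      Cfsg.Agent.S3892.cycle_data n p hp5 hpn
    have haa : a' = a := Fin.ext (by omega)
    have hbb : b' = b := Fin.ext (by omega)
    have hcc : c' = c := Fin.ext (by omega)
    have hdd : d' = d := Fin.ext (by omega)
    subst haa hbb hcc hdd
    have hgs : Perm.sign g = 1 := by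
      rw [hsign]
      obtain ⟨k, hk⟩ := hpp.odd_of_ne_two hp
      exact Even.neg_one_pow ⟨k, by omega⟩
    have hgo : orderOf g = p := by
      rw [← Equiv.Perm.lcm_cycleType, hct]
      simp
    have hgL : g L = L := hfixed L (by omega)
    have htL : t L = L := by
      rw [ht]
      exact swap_apply_of_ne_of_ne hLa hLc
    have ht'L : t⁻¹ L = L := by
      rw [Equiv.Perm.inv_eq_iff_eq, htL]
    apply core n p hp h L (t * g * t⁻¹) g⁻¹ ?_ ?_ ?_ ?_ ?_ ?_ ?_ _ hτs hτL
    · rw [map_mul, map_mul, map_inv, hgs, mul_one, mul_inv_cancel]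
    · rw [map_inv, hgs, inv_one]
    · rw [Perm.mul_apply, Perm.mul_apply, ht'L, hgL, htL]
    · rw [Equiv.Perm.inv_eq_iff_eq, hgL]
    · rw [← Equiv.Perm.lcm_cycleType, Equiv.Perm.cycleType_conj, hct]
      simp
    · rw [orderOf_inv, hgo]
    · rw [hw]
      exact Cfsg.Agent.S3892.orderOf_two_swaps _ _ _ _ (by
        simp [hab, hac, had, hbc.symm, hbd, hcd])

end Cfsg.Agent.S3941
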