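import Cfsg.Statements.S3983
import Mathlib
-- import your own Cfsg.Agent.* helpers here

set_option autoImplicit false
open Cfsg

namespace Cfsg.Agent.S3983

open scoped Pointwise

theorem mem_conj_smul {G : Type*} [Group G] (H : Subgroup G) (g x : G) :
    x ∈ MulAut.conj g • H ↔ g⁻¹ * x * g ∈ H := by
  rw [Subgroup.mem_pointwise_smul_iff_inv_smul_mem]
  simp [MulAut.smul_def]

/-- Let P be a Sylow p-subgroup of the finite group G that meets each conjugate g P g⁻¹ with g outside N_G(P) trivially, and let U be a subgroup of G of order divisible by p. Then a Sylow p-subgroup Q of U has the same property inside U: Q meets each conjugate u Q u⁻¹ with u ∈ U outside N_U(Q) trivially. -/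
theorem result {G : Type*} [Group G] [Finite G] (p : ℕ) [Fact p.Prime] (P : Sylow p G) (hTI : ∀ g : G, g ∉ Subgroup.normalizer ((P : Subgroup G) : Set G) → (P : Subgroup G) ⊓ (MulAut.conj g • (P : Subgroup G)) = ⊥) (U : Subgroup G) (hU : p ∣ Nat.card ↥U) (Q : Sylow p ↥U) : ∀ u : ↥U, u ∉ Subgroup.normalizer ((Q : Subgroup ↥U) : Set ↥U) → (Q : Subgroup ↥U) ⊓ (MulAut.conj u • (Q : Subgroup ↥U)) = ⊥ := by
  intro u hu
  rw [eq_bot_iff]
  intro x hx
  rw [Subgroup.mem_bot]
  by_contra hx1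
  apply hu
  have hxQ : x ∈ (Q : Subgroup U) := hx.1
  have hx2 : u⁻¹ * x * u ∈ (Q : Subgroup U) := (mem_conj_smul _ _ _).mp hx.2
  have hQp : IsPGroup p ((Q : Subgroup U).map U.subtype) := Q.isPGroup'.map _
  obtain ⟨P₁, hP₁⟩ := hQp.exists_le_sylow
  obtain ⟨h, rfl⟩ := MulAction.exists_smul_eq G P P₁
  have hQeq : ∀ y : U, y ∈ (Q : Subgroup U) ↔ h⁻¹ * (y : G) * h ∈ (P : Subgroup G) := by
    have hle : (Q : Subgroup U) ≤ ((h • P : Sylow p G) : Subgroup G).subgroupOf U := by
      intro y hy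
      rw [Subgroup.mem_subgroupOf]
      exact hP₁ ⟨y, hy, rfl⟩
    have hp' : IsPGroup p (((h • P : Sylow p G) : Subgroup G).subgroupOf U) :=
      (h • P).isPGroup'.comap_subtype
    have hmax := Q.is_maximal' hp' hle
    intro y
    have h1 : y ∈ (Q : Subgroup U) ↔ y ∈ ((h • P : Sylow p G) : Subgroup G).subgroupOf U := by
      rw [hmax]
    rw [h1, Subgroup.mem_subgroupOf, Sylow.coe_subgroup_smul, mem_conj_smul]
  have hn : h⁻¹ * (u : G) * h ∈ Subgroup.normalizer ((P : Subgroup G) : Set G) := by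
    by_contra hnot
    have hTI' := hTI _ hnot
    have hmem : h⁻¹ * (x : G) * h ∈
        (P : Subgroup G) ⊓ MulAut.conj (h⁻¹ * (u : G) * h) • (P : Subgroup G) := by
      refine Subgroup.mem_inf.mpr ⟨(hQeq x).mp hxQ, ?_⟩
      rw [mem_conj_smul]
      have h3 := (hQeq _).mp hx2
      have e : (h⁻¹ * (u : G) * h)⁻¹ * (h⁻¹ * (x : G) * h) * (h⁻¹ * (u : G) * h) =
          h⁻¹ * ((u⁻¹ * x * u : U) : G) * h := by
        push_cast
        group
      rw [e]
      exact h3
    rw [hTI', Subgroup.mem_bot] at hmem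
    apply hx1
    have e2 : (x : G) = h * (h⁻¹ * (x : G) * h) * h⁻¹ := by group
    rw [hmem] at e2
    apply Subtype.ext
    rw [e2]
    simp
  rw [Subgroup.mem_normalizer_iff]
  intro y
  rw [hQeq, hQeq]
  have h4 := (Subgroup.mem_normalizer_iff.mp hn) (h⁻¹ * (y : G) * h)
  rw [h4]
  have e : h⁻¹ * (u : G) * h * (h⁻¹ * (y : G) * h) * (h⁻¹ * (u : G) * h)⁻¹ =
      h⁻¹ * ((u * y * u⁻¹ : U) : G) * h := by
    push_cast
    group
  rw [e]

end Cfsg.Agent.S3983
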