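import Cfsg.Statements.S3997

set_option autoImplicit false
open Cfsg

namespace Cfsg.Agent.S3997

/-- In a finite group, an element of `p`-power order lies in any normal Sylow `p`-subgroup. -/
theorem mem_normal_sylow {G : Type*} [Group G] [Finite G] (p : ℕ) [Fact p.Prime]
    (Q : Sylow p G) (hQ : (Q : Subgroup G).Normal) (g : G) (hg : ∃ k, orderOf g = p ^ k) :
    g ∈ (Q : Subgroup G) := by
  have hpg : IsPGroup p (Subgroup.zpowers g) := by
    rw [IsPGroup.iff_card]
    obtain ⟨k, hk⟩ := hg
    exact ⟨k, by rw [Nat.card_zpowers, hk]⟩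
  obtain ⟨R, hR⟩ := hpg.exists_le_sylow
  have := Sylow.unique_of_normal Q hQ
  have : R = Q := Subsingleton.elim _ _
  rw [← this]
  exact hR (Subgroup.mem_zpowers g)

theorem orderOf_of_mem_sylow {H : Type*} [Group H] [Finite H] (p : ℕ) [Fact p.Prime]
    (P : Sylow p H) (h : H) (hh : h ∈ (P : Subgroup H)) : ∃ k, orderOf h = p ^ k := by
  have := (IsPGroup.iff_orderOf.mp P.isPGroup') ⟨h, hh⟩
  obtain ⟨k, hk⟩ := this
  exact ⟨k, by rw [← hk, Subgroup.orderOf_mk]⟩

/-- Let G and H be finite groups with the same order type: for every m they have the same number of elements of order m. If G is nilpotent then so is H. -/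
theorem result {G H : Type*} [Group G] [Finite G] [Group H] [Finite H] (hT : (∀ m : ℕ, Nat.card {g : G // orderOf g = m} = Nat.card {h : H // orderOf h = m})) (hG : Group.IsNilpotent G) :
    Group.IsNilpotent H := by
  classical
  have hF : ∃ F : G ≃ H, ∀ g, orderOf (F g) = orderOf g := by
    have e : ∀ m : ℕ, Nonempty ({g : G // orderOf g = m} ≃ {h : H // orderOf h = m}) :=
      fun m => Finite.card_eq.mp (hT m)
    let E := fun m => Classical.choice (e m)
    refine ⟨(Equiv.sigmaFiberEquiv orderOf).symm.trans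
      ((Equiv.sigmaCongrRight E).trans (Equiv.sigmaFiberEquiv orderOf)), ?_⟩
    intro g
    simp only [Equiv.trans_apply, Equiv.sigmaFiberEquiv, Equiv.coe_fn_symm_mk, Equiv.coe_fn_mk,
      Equiv.sigmaCongrRight_apply]
    exact (E (orderOf g) ⟨g, rfl⟩).2
  obtain ⟨F, hF⟩ := hF
  have hcard : Nat.card G = Nat.card H := Nat.card_congr F
  have hnil := ((Group.isNilpotent_of_finite_tfae (G := G)).out 0 3).mp hG
  refine ((Group.isNilpotent_of_finite_tfae (G := H)).out 0 3).mpr ?_
  intro p hp P
  have := hp
  have Q : Sylow p G := default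
  have hQn := hnil p hp Q
  have hAG : ∀ g : G, (∃ k, orderOf g = p ^ k) ↔ g ∈ (Q : Subgroup G) := fun g =>
    ⟨mem_normal_sylow p Q hQn g, orderOf_of_mem_sylow p Q g⟩
  have hPeq : ∀ P : Sylow p H, ((P : Subgroup H) : Set H) = {h | ∃ k, orderOf h = p ^ k} := by
    intro P
    apply Set.Finite.eq_of_subset_of_card_le (Set.toFinite _)
    · intro h hh
      exact orderOf_of_mem_sylow p P h hh
    · apply le_of_eq
      calc Nat.card ({h | ∃ k, orderOf h = p ^ k} : Set H)
          = Nat.card {g : G // ∃ k, orderOf g = p ^ k} :=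
            (Nat.card_congr (F.subtypeEquiv (by intro g; simp only [Set.mem_ofPred_eq, hF]))).symm
        _ = Nat.card (Q : Subgroup G) := Nat.card_congr (Equiv.subtypeEquivRight hAG)
        _ = p ^ (Nat.card G).factorization p := Sylow.card_eq_multiplicity Q
        _ = p ^ (Nat.card H).factorization p := by rw [hcard]
        _ = Nat.card (P : Subgroup H) := (Sylow.card_eq_multiplicity P).symm
  have : Subsingleton (Sylow p H) :=
    ⟨fun P1 P2 => Sylow.ext (SetLike.coe_injective ((hPeq P1).trans (hPeq P2).symm))⟩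
  exact Sylow.normal_of_subsingleton P

end Cfsg.Agent.S3997
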