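import Cfsg.Statements.S4403
import Cfsg.Agent.Lib.Helper48.SpeSimple
import Cfsg.Agent.Lib.Helper22.Layer

set_option autoImplicit false
open Cfsg

namespace Cfsg.Agent.S4403

open Subgroup

/-- With a cyclic Sylow `p`-subgroup, every `p`-subgroup is cyclic. -/
theorem cyc_of_pgroup {K : Type*} [Group K] [Finite K] {p : ℕ} [Fact p.Prime]
    (P : Sylow p K) (hP : IsCyclic ↥(P : Subgroup K)) (R : Subgroup K) (hR : IsPGroup p ↥R) :
    IsCyclic ↥R := by
  obtain ⟨Q, hQ⟩ := hR.exists_le_sylow
  obtain ⟨g, hg⟩ := MulAction.exists_smul_eq K P Q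
  have e := Sylow.equivSMul P g
  rw [hg] at e
  have hQc : IsCyclic ↥(Q : Subgroup K) := isCyclic_of_surjective e.toMonoidHom e.surjective
  have h1 : IsCyclic ↥(R.subgroupOf (Q : Subgroup K)) := inferInstance
  exact isCyclic_of_surjective (Subgroup.subgroupOfEquivOfLe hQ).toMonoidHom
    (Subgroup.subgroupOfEquivOfLe hQ).surjective

/-- Two commuting elements of order `p` generate the same subgroup when all `p`-subgroups are
cyclic. -/
theorem mem_zpowers_of_commute {K : Type*} [Group K] [Finite K] {p : ℕ} [hp : Fact p.Prime]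
    (hcyc : ∀ R : Subgroup K, IsPGroup p ↥R → IsCyclic ↥R) {x y : K} (hx : orderOf x = p)
    (hy : orderOf y = p) (hxy : x * y = y * x) : y ∈ zpowers x := by
  obtain ⟨H, hH⟩ : ∃ H : Subgroup K, H = zpowers x ⊔ zpowers y := ⟨_, rfl⟩
  have hnorm : zpowers x ≤ normalizer ((zpowers y : Subgroup K) : Set K) := by
    rw [zpowers_le]
    rw [mem_normalizer_iff]
    intro h
    have e : x * h * x⁻¹ ∈ zpowers y ↔ h ∈ zpowers y := by
      constructor
      · intro hh
        obtain ⟨k, hk⟩ := hh
        have : h = x⁻¹ * (y ^ k) * x := by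
          simp only at hk
          rw [hk]; group
        rw [this]
        have hc : Commute x (y ^ k) := (show Commute x y from hxy).zpow_right k
        have : x⁻¹ * y ^ k * x = y ^ k := by
          rw [mul_assoc, ← hc.eq, inv_mul_cancel_left]
        rw [this]
        exact zpow_mem (mem_zpowers y) k
      · intro hh
        obtain ⟨k, hk⟩ := hh
        simp only at hk
        rw [← hk]
        have hc : Commute x (y ^ k) := (show Commute x y from hxy).zpow_right k
        rw [hc.eq, mul_inv_cancel_right]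
        exact zpow_mem (mem_zpowers y) k
    exact e.symm
  have hcard : Nat.card ↥H ∣ p ^ 2 := by
    have := Cfsg.Agent.H32.card_sup_dvd (zpowers x) (zpowers y) hnorm
    rw [Nat.card_zpowers, Nat.card_zpowers, hx, hy, ← hH] at this
    rw [pow_two]
    exact this
  obtain ⟨k, -, hk⟩ := (Nat.dvd_prime_pow hp.out).mp hcard
  have hHp : IsPGroup p ↥H := IsPGroup.of_card hk
  have hHc : IsCyclic ↥H := hcyc H hHp
  have hxH : x ∈ H := hH ▸ (le_sup_left : zpowers x ≤ _) (mem_zpowers x)
  have hyH : y ∈ H := hH ▸ (le_sup_right : zpowers y ≤ _) (mem_zpowers y)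
  classical
  haveI : Fintype ↥H := Fintype.ofFinite _
  have hle := IsCyclic.card_pow_eq_one_le (α := ↥H) hp.out.pos
  -- the p elements of zpowers ⟨x, hxH⟩ all satisfy a^p = 1
  have hsub : (zpowers (⟨x, hxH⟩ : ↥H) : Set ↥H) ⊆
      ((Finset.univ.filter fun a : ↥H => a ^ p = 1 : Finset ↥H) : Set ↥H) := by
    intro a ha
    obtain ⟨k, hk⟩ := ha
    simp only at hk
    simp only [Finset.coe_filter, Finset.mem_univ, true_and, Set.mem_setOf_eq]
    rw [← hk, ← zpow_natCast, ← zpow_mul, mul_comm, zpow_mul, zpow_natCast]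
    have : (⟨x, hxH⟩ : ↥H) ^ p = 1 := by
      apply Subtype.ext
      simp only [Subgroup.coe_pow, Subgroup.coe_one]
      rw [← hx]; exact pow_orderOf_eq_one x
    rw [this, one_zpow]
  have hcardz : Nat.card (zpowers (⟨x, hxH⟩ : ↥H)) = p := by
    rw [Nat.card_zpowers]
    have : orderOf (⟨x, hxH⟩ : ↥H) = orderOf x := by
      rw [← Subgroup.orderOf_coe]
    rw [this, hx]
  have heq : (zpowers (⟨x, hxH⟩ : ↥H) : Set ↥H) =
      ((Finset.univ.filter fun a : ↥H => a ^ p = 1 : Finset ↥H) : Set ↥H) := by
    apply Set.eq_of_subset_of_ncard_le hsub _ (Set.toFinite _)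
    rw [Set.ncard_coe_finset]
    refine hle.trans ?_
    rw [← hcardz]
    exact le_of_eq (Nat.card_coe_set_eq _).symm
  have hyin : (⟨y, hyH⟩ : ↥H) ∈ (zpowers (⟨x, hxH⟩ : ↥H) : Set ↥H) := by
    rw [heq]
    simp only [Finset.coe_filter, Finset.mem_univ, true_and, Set.mem_setOf_eq]
    apply Subtype.ext
    simp only [Subgroup.coe_pow, Subgroup.coe_one]
    rw [← hy]; exact pow_orderOf_eq_one y
  obtain ⟨k, hk⟩ := hyin
  refine ⟨k, ?_⟩
  simp only at hk ⊢
  have := congrArg Subtype.val hk
  simpa using this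

/-- A finite perfect group with cyclic Sylow `p`-subgroup has centre of order prime to `p`. -/
theorem not_dvd_card_center {L : Type*} [Group L] [Finite L] {p : ℕ} [hp : Fact p.Prime]
    [Group.IsPerfect L] (S : Sylow p L) (hS : IsCyclic ↥(S : Subgroup L)) :
    ¬ p ∣ Nat.card (center L) := by
  intro hdvd
  obtain ⟨g, hg⟩ := hS.exists_generator
  have hord : orderOf g = Nat.card ↥(S : Subgroup L) := orderOf_eq_card_of_forall_mem_zpowers hg
  have htriv : ∀ x : L, x ^ (center L).index = 1 := by
    intro x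
    have h1 : x ∈ (MonoidHom.transferCenterPow L).ker := by
      have : commutator L ≤ (MonoidHom.transferCenterPow L).ker := by
        rw [commutator_def, Subgroup.commutator_le]
        intro a _ b _
        rw [MonoidHom.mem_ker, map_commutatorElement, commutatorElement_eq_one_iff_commute]
        apply Subtype.ext
        exact ((Subgroup.mem_center_iff.mp (MonoidHom.transferCenterPow L b).2)
          (MonoidHom.transferCenterPow L a : L))
      apply this
      rw [Group.IsPerfect.commutator_eq_top]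
      trivial
    have := congrArg Subtype.val (MonoidHom.mem_ker.mp h1)
    simpa using this
  have h2 : orderOf (g : L) ∣ (center L).index := orderOf_dvd_of_pow_eq_one (htriv g)
  rw [Subgroup.orderOf_coe, hord, Sylow.card_eq_multiplicity] at h2
  have h3 : p ^ ((Nat.card L).factorization p + 1) ∣
      Nat.card (center L) * (center L).index := by
    rw [pow_succ, mul_comm]
    exact Nat.mul_dvd_mul hdvd h2
  rw [Subgroup.card_mul_index] at h3
  exact Nat.pow_succ_factorization_not_dvd Nat.card_pos.ne' hp.out h3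

/-- Commuting subgroups of order divisible by `p` share an element of order `p`. -/
theorem exists_common {K : Type*} [Group K] [Finite K] {p : ℕ} [hp : Fact p.Prime]
    (hcyc : ∀ R : Subgroup K, IsPGroup p ↥R → IsCyclic ↥R) (A B : Subgroup K)
    (hAB : ∀ a ∈ A, ∀ b ∈ B, a * b = b * a) (hA : p ∣ Nat.card A) (hB : p ∣ Nat.card B) :
    ∃ y, y ∈ A ∧ y ∈ B ∧ orderOf y = p := by
  obtain ⟨x, hx⟩ := exists_prime_orderOf_dvd_card' (G := ↥A) p hA
  obtain ⟨y, hy⟩ := exists_prime_orderOf_dvd_card' (G := ↥B) p hB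
  have hx' : orderOf (x : K) = p := by rw [Subgroup.orderOf_coe]; exact hx
  have hy' : orderOf (y : K) = p := by rw [Subgroup.orderOf_coe]; exact hy
  have h1 := mem_zpowers_of_commute hcyc hx' hy' (hAB x x.2 y y.2)
  refine ⟨y, ?_, y.2, hy'⟩
  exact (zpowers_le.mpr x.2 : zpowers (x : K) ≤ A) h1

/-- A subgroup commuting with a component (under the cyclic Sylow hypothesis) is a `p'`-group. -/
theorem not_dvd_of_commute {K : Type*} [Group K] [Finite K] {p : ℕ} [hp : Fact p.Prime]
    (hcyc : ∀ R : Subgroup K, IsPGroup p ↥R → IsCyclic ↥R) (L : Subgroup K)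
    (hL : Cfsg.IsComponent L) (hLp : p ∣ Nat.card L) (B : Subgroup K)
    (hLB : ∀ a ∈ L, ∀ b ∈ B, a * b = b * a) : ¬ p ∣ Nat.card B := by
  intro hB
  obtain ⟨y, hyL, hyB, hy⟩ := exists_common hcyc L B hLB hLp hB
  haveI : Group.IsPerfect ↥L := hL.2.1
  have hS : IsCyclic ↥((default : Sylow p ↥L) : Subgroup ↥L) := by
    have h1 : IsPGroup p ↥(((default : Sylow p ↥L) : Subgroup ↥L).map L.subtype) :=
      IsPGroup.map (default : Sylow p ↥L).2 L.subtype
    have h2 := hcyc _ h1
    have e := Subgroup.equivMapOfInjective ((default : Sylow p ↥L) : Subgroup ↥L) L.subtype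
      L.subtype_injective
    exact isCyclic_of_surjective e.symm.toMonoidHom e.symm.surjective
  apply not_dvd_card_center (default : Sylow p ↥L) hS
  have hc : (⟨y, hyL⟩ : ↥L) ∈ center ↥L := by
    rw [Subgroup.mem_center_iff]
    rintro ⟨g, hg⟩
    apply Subtype.ext
    exact hLB g hg y hyB
  have h3 : orderOf (⟨⟨y, hyL⟩, hc⟩ : ↥(center ↥L)) = p := by
    rw [← Subgroup.orderOf_coe, ← Subgroup.orderOf_coe]
    exact hy
  rw [← h3]
  exact orderOf_dvd_natCard _

open scoped commutatorElement in
/-- The case where `K` has a component. -/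
theorem comp_case {K : Type*} [Group K] [Finite K] (p : ℕ) [hp' : Fact p.Prime]
    (hO : Cfsg.pPrimeCore p K = ⊥) (P : Sylow p K) (hP : IsCyclic ↥(P : Subgroup K))
    (L : Subgroup K) (hL : Cfsg.IsComponent L) :
    IsSimpleGroup ↥(Cfsg.generalizedFittingSubgroup K) ∧
      ¬ IsMulCommutative ↥(Cfsg.generalizedFittingSubgroup K) ∧
      ¬ p ∣ (Cfsg.generalizedFittingSubgroup K).index := by
  have hcyc : ∀ R : Subgroup K, IsPGroup p ↥R → IsCyclic ↥R :=
    fun R hR => cyc_of_pgroup P hP R hR
  have hLp : p ∣ Nat.card L := Cfsg.Agent.Lib.Helper48.SpeSimple.dvd_card_component hO hL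
  have hnd := not_dvd_of_commute hcyc L hL hLp
  -- all `O_q(K)` are trivial
  have hcore : ∀ q : ℕ, q.Prime → Cfsg.pCore q K = ⊥ := by
    intro q hq
    haveI : Fact q.Prime := ⟨hq⟩
    by_cases hqp : q = p
    · subst hqp
      by_contra hne
      have hcomm : ⁅L, Cfsg.pCore q K⁆ = ⊥ := by
        apply Cfsg.Agent.Lib.Helper21.Comp.component_commutator_solvable L _ hL
        · haveI := (Cfsg.Agent.Lib.Helper78.Fitting.pCore_isPGroup (G := K) q).isNilpotent
          infer_instance
        · haveI := Cfsg.Agent.Lib.Helper78.Fitting.pCore_normal (G := K) q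
          rw [Subgroup.normalizer_eq_top]
          exact le_top
      rw [commutator_eq_bot_iff_le_centralizer] at hcomm
      apply hnd (Cfsg.pCore q K)
        (fun a ha b hb => (mem_centralizer_iff.mp (hcomm ha) b hb).symm)
      obtain ⟨n, hn⟩ := IsPGroup.iff_card.mp
        (Cfsg.Agent.Lib.Helper78.Fitting.pCore_isPGroup (G := K) q)
      rcases Nat.eq_zero_or_pos n with h0 | h0
      · rw [h0, pow_zero] at hn
        exact absurd (Subgroup.eq_bot_of_card_eq _ hn) hne
      · rw [hn]
        exact dvd_pow_self q h0.ne'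
    · rw [eq_bot_iff, ← hO]
      apply Cfsg.Agent.Lib.Helper76.PSolv.le_pPrimeCore
        (Cfsg.Agent.Lib.Helper78.Fitting.pCore_normal q)
      obtain ⟨n, hn'⟩ := IsPGroup.iff_card.mp
        (Cfsg.Agent.Lib.Helper78.Fitting.pCore_isPGroup (G := K) q)
      rw [hn']
      exact Nat.Coprime.pow_left n ((Nat.coprime_primes hq hp'.out).mpr hqp)
  have hfit : Cfsg.fittingSubgroup K = ⊥ := by
    rw [Cfsg.Agent.Lib.Helper78.Fitting.fitting_eq_iSup_pCore, eq_bot_iff]
    apply iSup_le
    intro q
    rw [hcore q q.2]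
  have huniq : ∀ L' : Subgroup K, Cfsg.IsComponent L' → L' = L := by
    intro L' hL'
    by_contra hne
    have h1 := Cfsg.Agent.Lib.Helper21.Comp.components_commute L L' hL hL' (Ne.symm hne)
    rw [commutator_eq_bot_iff_le_centralizer] at h1
    exact hnd L' (fun a ha b hb => (mem_centralizer_iff.mp (h1 ha) b hb).symm)
      (Cfsg.Agent.Lib.Helper48.SpeSimple.dvd_card_component hO hL')
  have hF : Cfsg.generalizedFittingSubgroup K = L := by
    unfold Cfsg.generalizedFittingSubgroup Cfsg.layer
    rw [hfit, sup_bot_eq]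
    apply le_antisymm
    · apply sSup_le
      intro L' hL'
      exact (huniq L' hL').le
    · exact le_sSup hL
  rw [hF]
  have hLn : ∀ h : K, h ∈ normalizer ((L : Subgroup K) : Set K) := by
    intro h
    rw [Cfsg.Agent.Lib.Helper33.Conj.mem_normalizer_iff_cj_eq]
    exact huniq _ (Cfsg.Agent.Lib.Helper21.Comp.isComponent_map_equiv (MulAut.conj h) hL)
  haveI hLnormal : L.Normal := by
    constructor
    intro n hn g
    exact (mem_normalizer_iff.mp (hLn g) n).mp hn
  have hZ : L ⊓ centralizer ((L : Subgroup K) : Set K) = ⊥ := by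
    rw [eq_bot_iff, ← hfit]
    apply Cfsg.Agent.Lib.Helper78.Fitting.le_fitting
    · constructor
      intro n hn' h
      exact (mem_normalizer_iff.mp (Cfsg.Agent.Lib.Helper48.CharP.mem_normalizer_inf (hLn h)
        (Cfsg.Agent.Lib.Helper48.CharP.mem_normalizer_centralizer (hLn h))) n).mp hn'
    · refine ⟨⟨1, ?_⟩⟩
      rw [Subgroup.upperCentralSeries_one, eq_top_iff]
      rintro ⟨z, hz⟩ -
      rw [Subgroup.mem_center_iff]
      rintro ⟨w, hw⟩
      apply Subtype.ext
      exact mem_centralizer_iff.mp (mem_inf.mp hz).2 w (mem_inf.mp hw).1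
  have hcenter : Subgroup.center ↥L = ⊥ := by
    rw [eq_bot_iff]
    intro z hz
    rw [mem_bot]
    have hz' : (z : K) ∈ L ⊓ centralizer ((L : Subgroup K) : Set K) := by
      refine mem_inf.mpr ⟨z.2, ?_⟩
      rw [mem_centralizer_iff]
      intro w hw
      exact congrArg Subtype.val ((Subgroup.mem_center_iff.mp hz) ⟨w, hw⟩)
    rw [hZ, mem_bot] at hz'
    exact Subtype.ext hz'
  have hnt : Nontrivial ↥L := Cfsg.Agent.Lib.Helper21.Quasi.nontrivial hL.2
  refine ⟨⟨?_⟩, ?_, ?_⟩
  · intro N hN
    rcases Cfsg.Agent.Lib.Helper21.Quasi.normal_eq_top_or_le_center hL.2 N with h | h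
    · exact Or.inr h
    · left
      rw [hcenter] at h
      exact le_bot_iff.mp h
  · intro hcomm
    have h1 : Subgroup.center ↥L = ⊤ := by
      rw [eq_top_iff]
      intro z _
      rw [Subgroup.mem_center_iff]
      intro w
      exact hcomm.is_comm.comm w z
    rw [hcenter] at h1
    exact bot_ne_top h1
  · -- the index of `L` is prime to `p`
    obtain ⟨H, hH⟩ : ∃ H : Subgroup K, H = L ⊔ (P : Subgroup K) := ⟨_, rfl⟩
    have hLH : L ≤ H := by rw [hH]; exact le_sup_left
    have hPH : (P : Subgroup K) ≤ H := by rw [hH]; exact le_sup_right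
    have hcommH : ⁅H, H⁆ = L := by
      apply le_antisymm
      · rw [Subgroup.commutator_le]
        intro g₁ hg₁ g₂ hg₂
        rw [hH] at hg₁ hg₂
        obtain ⟨l₁, hl₁, a₁, ha₁, rfl⟩ := Subgroup.mem_sup_of_normal_left.mp hg₁
        obtain ⟨l₂, hl₂, a₂, ha₂, rfl⟩ := Subgroup.mem_sup_of_normal_left.mp hg₂
        have e1 : QuotientGroup.mk' L l₁ = 1 := (QuotientGroup.eq_one_iff l₁).mpr hl₁
        have e2 : QuotientGroup.mk' L l₂ = 1 := (QuotientGroup.eq_one_iff l₂).mpr hl₂
        have hc12 : ⁅a₁, a₂⁆ = 1 := by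
          rw [commutatorElement_eq_one_iff_commute]
          have := (IsCyclic.isMulCommutative (α := ↥(P : Subgroup K))).is_comm.comm
            ⟨a₁, ha₁⟩ ⟨a₂, ha₂⟩
          exact congrArg Subtype.val this
        have key : QuotientGroup.mk' L ⁅l₁ * a₁, l₂ * a₂⁆ = 1 := by
          rw [map_commutatorElement, map_mul, map_mul, e1, e2, one_mul, one_mul,
            ← map_commutatorElement, hc12, map_one]
        exact (QuotientGroup.eq_one_iff _).mp key
      · calc L = ⁅L, L⁆ := (Cfsg.Agent.Lib.Helper21.Comp.commutator_self hL.2).symm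
          _ ≤ ⁅H, H⁆ := Subgroup.commutator_mono hLH hLH
    haveI hS' : IsCyclic ↥((default : Sylow p ↥H) : Subgroup ↥H) := by
      have h1 : IsPGroup p ↥(((default : Sylow p ↥H) : Subgroup ↥H).map H.subtype) :=
        IsPGroup.map (default : Sylow p ↥H).2 H.subtype
      have h2 := hcyc _ h1
      have e := Subgroup.equivMapOfInjective ((default : Sylow p ↥H) : Subgroup ↥H) H.subtype
        H.subtype_injective
      exact isCyclic_of_surjective e.symm.toMonoidHom e.symm.surjective
    have hor := Sylow.not_dvd_card_commutator_or_not_dvd_index_commutator (default : Sylow p ↥H)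
    have hcomm' : commutator ↥H = L.subgroupOf H := by
      apply Subgroup.map_injective H.subtype_injective
      rw [Subgroup.map_subtype_commutator, hcommH, Subgroup.map_subgroupOf_eq_of_le hLH]
    rw [hcomm'] at hor
    have h1 : Nat.card ↥(L.subgroupOf H) = Nat.card L :=
      Nat.card_congr (Subgroup.subgroupOfEquivOfLe hLH).toEquiv
    rcases hor with h | h
    · rw [h1] at h
      exact absurd hLp h
    · intro hdvd
      rw [← Subgroup.relIndex_mul_index hLH] at hdvd
      rcases (Nat.Prime.dvd_mul hp'.out).mp hdvd with h2 | h2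
      · exact h h2
      · exact P.not_dvd_index (h2.trans (Subgroup.index_dvd_of_le hPH))

/-- The kernel of conjugation on a normal subgroup is its centralizer. -/
theorem ker_conjNormal {K : Type*} [Group K] (Q : Subgroup K) [Q.Normal] (g : K) :
    g ∈ (MulAut.conjNormal (H := Q)).ker ↔ g ∈ centralizer (Q : Set K) := by
  rw [MonoidHom.mem_ker, mem_centralizer_iff]
  constructor
  · intro h x hx
    have := congrArg (fun f : MulAut ↥Q => ((f ⟨x, hx⟩ : ↥Q) : K)) h
    simp only [MulAut.conjNormal_apply, MulAut.one_apply] at this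
    calc x * g = g * x * g⁻¹ * g := by rw [this]
      _ = g * x := by group
  · intro h
    ext ⟨x, hx⟩
    simp only [MulAut.conjNormal_apply, MulAut.one_apply]
    rw [← h x hx, mul_inv_cancel_right]

open scoped commutatorElement in
/-- The case where `K` has no component. -/
theorem nocomp_case {K : Type*} [Group K] [Finite K] (p : ℕ) [hp' : Fact p.Prime]
    (hp : p ∣ Nat.card K) (hO : Cfsg.pPrimeCore p K = ⊥) (P : Sylow p K)
    (hP : IsCyclic ↥(P : Subgroup K)) (hno : ∀ L : Subgroup K, ¬ Cfsg.IsComponent L) :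
    (P : Subgroup K).Normal ∧ Subgroup.centralizer ((P : Subgroup K) : Set K) = (P : Subgroup K) ∧
      (∀ (_ : (P : Subgroup K).Normal), IsCyclic (K ⧸ (P : Subgroup K))) ∧
      (P : Subgroup K).index ∣ p - 1 := by
  have hcyc : ∀ R : Subgroup K, IsPGroup p ↥R → IsCyclic ↥R :=
    fun R hR => cyc_of_pgroup P hP R hR
  have h1 := Cfsg.Agent.Lib.Helper30.NoComp.centralizer_pCore_le_of_pPrimeCore p hno hO
  haveI hQn : (Cfsg.pCore p K).Normal := Cfsg.Agent.Lib.Helper78.Fitting.pCore_normal p
  have hQP : Cfsg.pCore p K ≤ P := Cfsg.Agent.Lib.Helper78.Fitting.pCore_le_sylow P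
  haveI hQc : IsCyclic ↥(Cfsg.pCore p K) :=
    hcyc _ (Cfsg.Agent.Lib.Helper78.Fitting.pCore_isPGroup p)
  have hAut : ∀ α β : MulAut ↥(Cfsg.pCore p K), α * β = β * α := by
    intro α β
    apply (IsCyclic.mulAutMulEquiv ↥(Cfsg.pCore p K)).injective
    rw [map_mul, map_mul, mul_comm]
  have hcomm : ∀ g h : K, ⁅g, h⁆ ∈ (P : Subgroup K) := by
    intro g h
    apply hQP
    apply h1
    rw [← ker_conjNormal, MonoidHom.mem_ker, map_commutatorElement,
      commutatorElement_eq_one_iff_commute]
    exact hAut _ _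
  have hPn : (P : Subgroup K).Normal := by
    constructor
    intro n hn g
    have : g * n * g⁻¹ = ⁅g, n⁆ * n := by rw [commutatorElement_def]; group
    rw [this]
    exact mul_mem (hcomm g n) hn
  have hcent : centralizer ((P : Subgroup K) : Set K) = (P : Subgroup K) := by
    apply le_antisymm
    · exact ((Subgroup.centralizer_le hQP).trans h1).trans hQP
    · intro x hx
      rw [mem_centralizer_iff]
      intro y hy
      exact congrArg Subtype.val
        ((IsCyclic.isMulCommutative (α := ↥(P : Subgroup K))).is_comm.comm ⟨y, hy⟩ ⟨x, hx⟩)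
  refine ⟨hPn, hcent, ?_⟩
  haveI := hPn
  have hker : (MulAut.conjNormal (H := (P : Subgroup K))).ker = (P : Subgroup K) := by
    ext g
    rw [ker_conjNormal, hcent]
  have hidx : (P : Subgroup K).index =
      Nat.card (MulAut.conjNormal (H := (P : Subgroup K))).range := by
    rw [← Subgroup.index_ker, hker]
  obtain ⟨n, hn⟩ := IsPGroup.iff_card.mp P.2
  have hn0 : 0 < n := by
    rcases Nat.eq_zero_or_pos n with h0 | h0
    · exfalso
      have h2 := P.dvd_card_of_dvd_card hp
      rw [hn, h0, pow_zero] at h2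
      exact hp'.out.one_lt.ne' (Nat.dvd_one.mp h2)
    · exact h0
  have hcardAut : Nat.card (MulAut ↥(P : Subgroup K)) = p ^ (n - 1) * (p - 1) := by
    rw [IsCyclic.card_mulAut, hn, Nat.totient_prime_pow hp'.out hn0]
  have hdvd : (P : Subgroup K).index ∣ p - 1 := by
    have h2 : (P : Subgroup K).index ∣ p ^ (n - 1) * (p - 1) := by
      rw [hidx, ← hcardAut]
      exact Subgroup.card_subgroup_dvd_card _
    have hcop : ((P : Subgroup K).index).Coprime (p ^ (n - 1)) := by
      apply Nat.Coprime.pow_right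
      rw [Nat.coprime_comm, Nat.Prime.coprime_iff_not_dvd hp'.out]
      exact P.not_dvd_index
    exact hcop.dvd_of_dvd_mul_left h2
  refine ⟨?_, hdvd⟩
  intro hN'
  by_cases hp2 : p = 2
  · have hidx1 : (P : Subgroup K).index = 1 := by
      have h21 : p - 1 = 1 := by omega
      rw [h21] at hdvd
      exact Nat.dvd_one.mp hdvd
    have h3 : Nat.card (K ⧸ (P : Subgroup K)) = 1 := hidx1
    haveI : Subsingleton (K ⧸ (P : Subgroup K)) := (Nat.card_eq_one_iff_unique.mp h3).1
    infer_instance
  · haveI : IsCyclic (MulAut ↥(P : Subgroup K)) := by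
      have hz : IsCyclic (ZMod (Nat.card ↥(P : Subgroup K)))ˣ := by
        rw [hn]
        exact ZMod.isCyclic_units_of_prime_pow p hp'.out hp2 n
      exact isCyclic_of_surjective (IsCyclic.mulAutMulEquiv ↥(P : Subgroup K)).symm.toMonoidHom
        (IsCyclic.mulAutMulEquiv ↥(P : Subgroup K)).symm.surjective
    have e1 := QuotientGroup.quotientKerEquivRange (MulAut.conjNormal (H := (P : Subgroup K)))
    have e2 := QuotientGroup.quotientMulEquivOfEq hker
    exact isCyclic_of_surjective (e1.symm.trans e2).toMonoidHom (e1.symm.trans e2).surjective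

/-- Let K be a finite group, p a prime dividing its order with O_{p'}(K) = 1 (no nontrivial normal subgroup of order prime to p), and P a cyclic Sylow p-subgroup of K. Then either P is normal and self-centralizing in K with K/P cyclic of order dividing p − 1 (so K is the semidirect product of P by a group of automorphisms of P of order dividing p − 1), or the generalized Fitting subgroup F*(K) is a non-abelian simple group and p does not divide the index of F*(K) in K. -/
theorem result {K : Type*} [Group K] [Finite K] (p : ℕ) [Fact p.Prime] (hp : p ∣ Nat.card K) (hO : Cfsg.pPrimeCore p K = ⊥)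
    (P : Sylow p K) (hP : IsCyclic ↥(P : Subgroup K)) :
    ((P : Subgroup K).Normal ∧ Subgroup.centralizer ((P : Subgroup K) : Set K) = (P : Subgroup K) ∧
      (∀ (_ : (P : Subgroup K).Normal), IsCyclic (K ⧸ (P : Subgroup K))) ∧ (P : Subgroup K).index ∣ p - 1) ∨
    (IsSimpleGroup ↥(Cfsg.generalizedFittingSubgroup K) ∧ ¬ IsMulCommutative ↥(Cfsg.generalizedFittingSubgroup K) ∧
      ¬ p ∣ (Cfsg.generalizedFittingSubgroup K).index) := by
  by_cases hex : ∃ L : Subgroup K, Cfsg.IsComponent L
  · obtain ⟨L, hL⟩ := hex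
    exact Or.inr (comp_case p hO P hP L hL)
  · exact Or.inl (nocomp_case p hp hO P hP (fun L hL => hex ⟨L, hL⟩))

end Cfsg.Agent.S4403
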