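import Cfsg.Statements.S4016
import Cfsg.Agent.S4403
import Cfsg.Agent.S4018
import Cfsg.Agent.Lib.Helper2.Split
import Cfsg.Agent.Lib.Helper2.PComp
import Cfsg.Agent.Lib.Helper2.PComp2
import Cfsg.Agent.Lib.Helper70.PNilp
import Cfsg.Agent.Lib.Helper76.PSolv

set_option autoImplicit false
open Cfsg

namespace Cfsg.Agent.S4016

open Subgroup

universe u

/-- A `p'`-element normalizing a cyclic `p`-group and centralizing a nonidentity element of it
centralizes the whole group. -/
theorem cyc_aut {G : Type*} [Group G] [Finite G] {p : ℕ} [Fact p.Prime] (P : Subgroup G)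
    [IsCyclic ↥P] (hP : IsPGroup p ↥P) {a u : G} (ha : a ∈ normalizer (P : Set G))
    (hcop : (orderOf a).Coprime p) (hu : u ∈ P) (hu1 : u ≠ 1) (hau : a * u = u * a) :
    ∀ x ∈ P, a * x = x * a := by
  have hKP : zpowers a ≤ normalizer (P : Set G) := zpowers_le.mpr ha
  let _ := MulDistribMulAction.compHom ↥P (P.normalizerMonoidHom.comp (Subgroup.inclusion hKP))
  let ϕ := MulDistribMulAction.toMonoidHomZModOfIsCyclic ↥P ↥(zpowers a) rfl
  have key : ∀ (g : ↥P) (k : ↥(zpowers a)) (n : ℤ), ϕ k = n → k • g = g ^ n :=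
    fun g k n h => MulDistribMulAction.toMonoidHomZModOfIsCyclic_apply rfl k g n h
  have hsmul : ∀ (g : ↥P) (k : ↥(zpowers a)), ((k • g : ↥P) : G) = k * g * (k : G)⁻¹ :=
    fun g k => rfl
  obtain ⟨m, hm⟩ := hP.exists_card_eq
  let a' : ↥(zpowers a) := ⟨a, mem_zpowers a⟩
  have hPK : (Nat.card ↥P).Coprime (Nat.card ↥(zpowers a)) := by
    rw [hm, Nat.card_zpowers]
    exact (Nat.Coprime.pow_right m hcop).symm
  have hord : (orderOf (ϕ a')).Coprime (Nat.card ↥P) :=
    hPK.symm.coprime_dvd_left ((orderOf_map_dvd ϕ a').trans (orderOf_dvd_natCard a'))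
  rcases ZMod.eq_one_or_isUnit_sub_one hm (ϕ a') hord with h1 | h1
  · intro x hx
    have := key ⟨x, hx⟩ a' 1 (by rw [h1]; simp)
    have h2 := congrArg Subtype.val this
    rw [hsmul] at h2
    simp only [zpow_one] at h2
    calc a * x = a * x * a⁻¹ * a := by group
      _ = x * a := by rw [h2]
  · exfalso
    obtain ⟨⟨w, v, -, hvw⟩, hw : w = ϕ a' - 1⟩ := h1
    rw [← w.intCast_zmod_cast] at hw hvw
    rw [← v.intCast_zmod_cast, ← Int.cast_mul, ← Int.cast_one,
      ZMod.intCast_eq_intCast_iff] at hvw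
    have h3 : ϕ a' = ((w.cast + 1 : ℤ) : ZMod (Nat.card ↥P)) := by
      rw [Int.cast_add, hw]; simp
    have := key ⟨u, hu⟩ a' (w.cast + 1) h3
    have h2 := congrArg Subtype.val this
    rw [hsmul] at h2
    have h4 : a * u * a⁻¹ = u := by rw [hau]; group
    simp only [Subgroup.coe_zpow] at h2
    rw [h4, zpow_add_one] at h2
    have h5 : u ^ (w.cast : ℤ) = 1 := by
      have : u ^ (w.cast : ℤ) * u = 1 * u := by rw [← h2, one_mul]
      exact mul_right_cancel this
    have h6 : u ^ ((v.cast : ℤ) * (w.cast : ℤ)) = u ^ (1 : ℤ) := by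
      rw [zpow_eq_zpow_iff_modEq]
      have h7 : (orderOf u : ℤ) ∣ (Nat.card ↥P : ℤ) := by
        have : orderOf (⟨u, hu⟩ : ↥P) ∣ Nat.card ↥P := orderOf_dvd_natCard _
        rw [← Subgroup.orderOf_coe] at this
        exact Int.natCast_dvd_natCast.mpr this
      exact hvw.of_dvd h7
    rw [mul_comm, zpow_mul, h5, one_zpow, zpow_one] at h6
    exact hu1 h6.symm

/-- Fixed-point-free action of an element of prime order `r` on a subgroup: order `≡ 1 mod r`. -/
theorem card_modEq_one_of_fpf {G : Type*} [Group G] [Finite G] {r : ℕ} [Fact r.Prime] (x : G)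
    (hx : orderOf x = r) (A : Subgroup G) (hxA : x ∈ normalizer (A : Set G))
    (hfix : ∀ a ∈ A, x * a = a * x → a = 1) : Nat.card ↥A ≡ 1 [MOD r] := by
  have hK : zpowers x ≤ normalizer (A : Set G) := zpowers_le.mpr hxA
  let _ : MulAction ↥(zpowers x) ↥A := MulAction.compHom ↥A (Subgroup.inclusion hK)
  have hsmul : ∀ (k : ↥(zpowers x)) (a : ↥A), ((k • a : ↥A) : G) = k * a * (k : G)⁻¹ :=
    fun k a => rfl
  have hp : IsPGroup r ↥(zpowers x) :=
    IsPGroup.of_card (n := 1) (by rw [Nat.card_zpowers, hx, pow_one])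
  have h1 := hp.card_modEq_card_fixedPoints ↥A
  have h2 : Nat.card (MulAction.fixedPoints ↥(zpowers x) ↥A) = 1 := by
    rw [Nat.card_eq_one_iff_unique]
    refine ⟨⟨?_⟩, ⟨⟨1, ?_⟩⟩⟩
    · rintro ⟨a, ha⟩ ⟨b, hb⟩
      have ha1 : (a : G) = 1 := by
        apply hfix a a.2
        have := congrArg Subtype.val (ha ⟨x, mem_zpowers x⟩)
        rw [hsmul] at this
        calc x * (a : G) = x * a * x⁻¹ * x := by group
          _ = a * x := by rw [this]
      have hb1 : (b : G) = 1 := by
        apply hfix b b.2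
        have := congrArg Subtype.val (hb ⟨x, mem_zpowers x⟩)
        rw [hsmul] at this
        calc x * (b : G) = x * b * x⁻¹ * x := by group
          _ = b * x := by rw [this]
      apply Subtype.ext
      apply Subtype.ext
      rw [ha1, hb1]
    · intro k
      apply Subtype.ext
      rw [hsmul]
      simp
  rw [h2] at h1
  exact h1

/-- A `p`-element normalizing a Sylow `p`-subgroup lies in it. -/
theorem mem_sylow_of_mem_normalizer {G : Type*} [Group G] [Finite G] {p : ℕ} [Fact p.Prime]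
    (P : Sylow p G) {w : G} (hw : w ∈ normalizer ((P : Subgroup G) : Set G)) {k : ℕ}
    (hk : orderOf w = p ^ k) : w ∈ (P : Subgroup G) := by
  have hH : IsPGroup p ↥(zpowers w) :=
    IsPGroup.of_card (n := k) (by rw [Nat.card_zpowers, hk])
  have h1 : P ∈ MulAction.fixedPoints ↥(zpowers w) (Sylow p G) :=
    (Subgroup.sylow_mem_fixedPoints_iff _).mpr (zpowers_le.mpr hw)
  exact (hH.sylow_mem_fixedPoints_iff.mp h1) (mem_zpowers w)

theorem mem_normalizer_of_conj {G : Type*} [Group G] [Finite G] (H : Subgroup G) (g : G)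
    (h : ∀ x ∈ H, g * x * g⁻¹ ∈ H) : g ∈ normalizer (H : Set G) := by
  rw [Subgroup.mem_normalizer_iff]
  intro x
  refine ⟨h x, fun hx => ?_⟩
  let f : ↥H → ↥H := fun y => ⟨g * y * g⁻¹, h y y.2⟩
  have hinj : Function.Injective f := by
    intro a b hab
    have h1 : g * (a : G) * g⁻¹ = g * (b : G) * g⁻¹ := congrArg Subtype.val hab
    exact Subtype.ext (by simpa using h1)
  obtain ⟨y, hy⟩ := (Finite.injective_iff_surjective.1 hinj) ⟨_, hx⟩
  have h1 : g * (y : G) * g⁻¹ = g * x * g⁻¹ := congrArg Subtype.val hy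
  have hxy : (y : G) = x := by simpa using h1
  rw [← hxy]
  exact y.2

/-- Counting the action of a subgroup on a subgroup of order `p` that it normalizes. -/
theorem core_count {G : Type*} [Group G] [Finite G] {p : ℕ} [Fact p.Prime] {u : G}
    (hu : orderOf u = p) (B : Subgroup G)
    (hBN : B ≤ normalizer ((zpowers u : Subgroup G) : Set G)) :
    ∃ m : ℕ, Nat.card ↥B = m * Nat.card ↥(B ⊓ centralizer ({u} : Set G)) ∧ m ∣ p - 1 ∧
      ∀ q : ℕ, 0 < q → (∀ b ∈ B, b ^ q = 1) → m ≤ q := by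
  classical
  let ψ : ↥B →* MulAut ↥(zpowers u) :=
    (zpowers u).normalizerMonoidHom.comp (Subgroup.inclusion hBN)
  have happ : ∀ (b : ↥B) (r : ↥(zpowers u)), ((ψ b r : ↥(zpowers u)) : G) = b * r * (b : G)⁻¹ :=
    fun b r => rfl
  have hker : ψ.ker.map B.subtype = B ⊓ centralizer ({u} : Set G) := by
    ext x
    constructor
    · rintro ⟨b, hb, rfl⟩
      refine ⟨b.2, ?_⟩
      have hb' : ψ b = 1 := hb
      have h1 := happ b ⟨u, mem_zpowers u⟩
      rw [hb'] at h1
      change (b : G) ∈ centralizer ({u} : Set G)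
      rw [Subgroup.mem_centralizer_singleton_iff]
      simp only [MulAut.one_apply] at h1 ⊢
      calc (b : G) * u = b * u * (b : G)⁻¹ * b := by group
        _ = u * b := by rw [← h1]
    · rintro ⟨hxB, hxC⟩
      refine ⟨⟨x, hxB⟩, ?_, rfl⟩
      have hxC' : x ∈ centralizer ({u} : Set G) := hxC
      rw [Subgroup.mem_centralizer_singleton_iff] at hxC'
      change ψ ⟨x, hxB⟩ = 1
      ext ⟨r, hr⟩
      rw [happ]
      obtain ⟨i, rfl⟩ := hr
      have hc : Commute x (u ^ i) := (show Commute x u from hxC').zpow_right i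
      simp only [MulAut.one_apply]
      rw [hc.eq, mul_inv_cancel_right]
  refine ⟨Nat.card ↥ψ.range, ?_, ?_, ?_⟩
  · have h1 := Subgroup.card_mul_index ψ.ker
    rw [Subgroup.index_ker] at h1
    rw [← hker, Subgroup.card_map_of_injective B.subtype_injective, ← h1, mul_comm]
  · have h1 : Nat.card ↥ψ.range ∣ Nat.card (MulAut ↥(zpowers u)) :=
      Subgroup.card_subgroup_dvd_card _
    rw [IsCyclic.card_mulAut, Nat.card_zpowers, hu, Nat.totient_prime Fact.out] at h1
    exact h1
  · intro q hq hB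
    haveI : Fact (Nat.card ↥(zpowers u)).Prime :=
      ⟨by rw [Nat.card_zpowers, hu]; exact Fact.out⟩
    haveI : IsCyclic (MulAut ↥(zpowers u)) :=
      isCyclic_of_surjective (IsCyclic.mulAutMulEquiv ↥(zpowers u)).symm.toMonoidHom
        (IsCyclic.mulAutMulEquiv ↥(zpowers u)).symm.surjective
    haveI : Fintype (MulAut ↥(zpowers u)) := Fintype.ofFinite _
    have h1 := IsCyclic.card_pow_eq_one_le (α := MulAut ↥(zpowers u)) hq
    have h2 : Nat.card ↥ψ.range ≤
        (Finset.univ.filter (fun a : MulAut ↥(zpowers u) => a ^ q = 1)).card := by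
      rw [← Nat.card_eq_finsetCard]
      apply Nat.card_le_card_of_injective
        (fun x : ↥ψ.range => (⟨x.1, by
          obtain ⟨b, hb⟩ := x.2
          rw [Finset.mem_filter]
          refine ⟨Finset.mem_univ _, ?_⟩
          rw [← hb, ← map_pow]
          have : b ^ q = 1 := Subtype.ext (by simpa using hB b b.2)
          rw [this, map_one]⟩ :
          ↥(Finset.univ.filter (fun a : MulAut ↥(zpowers u) => a ^ q = 1))))
      intro x y hxy
      have := congrArg Subtype.val hxy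
      exact Subtype.ext this
    exact h2.trans h1

theorem ordCompl_modEq_one {n p : ℕ} (hn : n ≠ 0)
    (hq : ∀ q : ℕ, q.Prime → q ≠ p → q ^ n.factorization q ≡ 1 [MOD p]) :
    n / p ^ n.factorization p ≡ 1 [MOD p] := by
  have hm : n / p ^ n.factorization p ≠ 0 := (Nat.ordCompl_pos p hn).ne'
  have h1 := Nat.factorization_prod_pow_eq_self hm
  rw [Nat.factorization_ordCompl] at h1
  rw [← h1, Finsupp.prod]
  have key : ∀ s : Finset ℕ, (∀ q ∈ s, q.Prime ∧ q ≠ p) →
      (∏ q ∈ s, q ^ (n.factorization.erase p) q) ≡ 1 [MOD p] := by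
    intro s
    induction s using Finset.induction_on with
    | empty => intro _; simp [Nat.ModEq]
    | insert a s ha ih =>
      intro hs
      rw [Finset.prod_insert ha]
      have h2 := hs a (Finset.mem_insert_self a s)
      have h3 : a ^ (n.factorization.erase p) a ≡ 1 [MOD p] := by
        rw [Finsupp.erase_ne h2.2]
        exact hq a h2.1 h2.2
      have h4 := ih (fun q hq' => hs q (Finset.mem_insert_of_mem hq'))
      have := Nat.ModEq.mul h3 h4
      rwa [mul_one] at this
  apply key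
  intro q hq'
  rw [Finsupp.support_erase, Finset.mem_erase, Nat.support_factorization] at hq'
  exact ⟨Nat.prime_of_mem_primeFactors hq'.2, hq'.1⟩

theorem coprime_of_lt_prime {d p : ℕ} [hp : Fact p.Prime] (hd0 : 0 < d) (hdp : d < p) :
    d.Coprime p := by
  rw [Nat.coprime_comm, hp.out.coprime_iff_not_dvd]
  intro hdvd
  have := Nat.le_of_dvd hd0 hdvd
  omega

/-- Hypotheses of the minimal configuration: a nonabelian simple group with cyclic Sylow
`p`-subgroups, abelian `p'`-subgroups, all of whose proper subgroups satisfy the conclusion. -/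
structure Hyp (p : ℕ) (G : Type u) [Group G] : Prop where
  simple : IsSimpleGroup G
  nc : ¬ ∀ a b : G, a * b = b * a
  cyc : ∀ R : Subgroup G, IsPGroup p ↥R → IsCyclic ↥R
  ab : ∀ H : Subgroup G, ¬ p ∣ Nat.card ↥H → ∀ a ∈ H, ∀ b ∈ H, a * b = b * a
  ih : ∀ H : Subgroup G, H ≠ ⊤ → ∀ S : Sylow p ↥H,
    Cfsg.HasNormalPComplement p ↥H ∨ (S : Subgroup ↥H).Normal

section Local

variable {G : Type u} [Group G] [Finite G] {p : ℕ} [Fact p.Prime]

/-- Maximality: a proper subgroup containing `P` and a `p'`-element of `N(P) ∖ C(P)` normalizes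
`P`. -/
theorem le_normalizer_of_max (h : Hyp p G) (P : Sylow p G) {y : G}
    (hyN : y ∈ normalizer ((P : Subgroup G) : Set G)) (hyp : (orderOf y).Coprime p)
    (hyC : y ∉ centralizer ((P : Subgroup G) : Set G)) (H : Subgroup G)
    (hPH : (P : Subgroup G) ≤ H) (hyH : y ∈ H) (hH : H ≠ ⊤) :
    H ≤ normalizer ((P : Subgroup G) : Set G) := by
  rcases h.ih H hH (P.subtype hPH) with hc | hn
  · exfalso
    obtain ⟨K, hKn, hK⟩ := (Cfsg.Agent.Lib.Helper2.PComp.hasNormalPComplement_iff (P.subtype hPH)).mp hc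
    haveI := hKn
    have hyK : (⟨y, hyH⟩ : ↥H) ∈ K := by
      apply Cfsg.Agent.Lib.Helper2.PComp.mem_of_coprime_orderOf (P.subtype hPH) K hK
      rw [← Subgroup.orderOf_coe]
      exact hyp
    apply hyC
    rw [mem_centralizer_iff]
    intro u hu
    have hu' : (⟨u, hPH hu⟩ : ↥H) ∈ ((P.subtype hPH : Sylow p ↥H) : Subgroup ↥H) := by
      rw [Sylow.coe_subtype, mem_subgroupOf]
      exact hu
    have hc1 : (⟨u, hPH hu⟩ : ↥H) * ⟨y, hyH⟩ * (⟨u, hPH hu⟩ : ↥H)⁻¹ * (⟨y, hyH⟩ : ↥H)⁻¹ ∈ K :=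
      K.mul_mem (hKn.conj_mem _ hyK _) (K.inv_mem hyK)
    have hc2 : (⟨u, hPH hu⟩ : ↥H) * ⟨y, hyH⟩ * (⟨u, hPH hu⟩ : ↥H)⁻¹ * (⟨y, hyH⟩ : ↥H)⁻¹ ∈
        ((P.subtype hPH : Sylow p ↥H) : Subgroup ↥H) := by
      rw [Sylow.coe_subtype, mem_subgroupOf]
      have h1 : y * u⁻¹ * y⁻¹ ∈ (P : Subgroup G) :=
        (hyN u⁻¹).mp ((P : Subgroup G).inv_mem hu)
      have h2 : u * (y * u⁻¹ * y⁻¹) ∈ (P : Subgroup G) := (P : Subgroup G).mul_mem hu h1
      have e : ((⟨u, hPH hu⟩ : ↥H) * ⟨y, hyH⟩ * (⟨u, hPH hu⟩ : ↥H)⁻¹ * (⟨y, hyH⟩ : ↥H)⁻¹ : ↥H).1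
          = u * (y * u⁻¹ * y⁻¹) := by
        simp [mul_assoc]
      rw [e]
      exact h2
    have hdisj := hK.disjoint
    have h1 := Subgroup.disjoint_def.mp hdisj hc1 hc2
    have h2 := congrArg Subtype.val h1
    simp only [Subgroup.coe_mul, Subgroup.coe_inv, Subgroup.coe_one] at h2
    calc u * y = u * y * u⁻¹ * y⁻¹ * y * u := by group
      _ = y * u := by rw [h2]; group
  · intro g hg
    apply mem_normalizer_of_conj
    intro x hx
    have hx' : (⟨x, hPH hx⟩ : ↥H) ∈ ((P.subtype hPH : Sylow p ↥H) : Subgroup ↥H) := by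
      rw [Sylow.coe_subtype, mem_subgroupOf]
      exact hx
    have := hn.conj_mem _ hx' ⟨g, hg⟩
    rw [Sylow.coe_subtype, mem_subgroupOf] at this
    exact this

theorem Hyp.dvd (h : Hyp p G) : p ∣ Nat.card G := by
  by_contra hp
  apply h.nc
  intro a b
  have : ¬ p ∣ Nat.card ↥(⊤ : Subgroup G) := by
    rw [Subgroup.card_top]; exact hp
  exact h.ab ⊤ this a (mem_top a) b (mem_top b)

theorem Hyp.sylow_comm (h : Hyp p G) (P : Sylow p G) :
    ∀ a ∈ (P : Subgroup G), ∀ b ∈ (P : Subgroup G), a * b = b * a := by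
  intro a ha b hb
  haveI : IsCyclic ↥(P : Subgroup G) := h.cyc P P.2
  obtain ⟨g, hg⟩ := IsCyclic.exists_generator (α := ↥(P : Subgroup G))
  obtain ⟨i, hi⟩ := hg ⟨a, ha⟩
  obtain ⟨j, hj⟩ := hg ⟨b, hb⟩
  have hi' : a = (g : G) ^ i := by
    have := congrArg Subtype.val hi
    simpa using this.symm
  have hj' : b = (g : G) ^ j := by
    have := congrArg Subtype.val hj
    simpa using this.symm
  rw [hi', hj']
  exact (Commute.zpow_zpow (Commute.refl (g : G)) i j).eq

theorem Hyp.sylow_ne_bot (h : Hyp p G) (P : Sylow p G) : (P : Subgroup G) ≠ ⊥ := by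
  intro hbot
  have h1 := P.card_eq_multiplicity
  rw [hbot, Subgroup.card_bot] at h1
  have h2 : (Nat.card G).factorization p = 0 := by
    by_contra hne
    have : 1 < p ^ (Nat.card G).factorization p :=
      Nat.one_lt_pow hne (Fact.out : p.Prime).one_lt
    omega
  have hp : (Fact.out : p.Prime) = (Fact.out : p.Prime) := rfl
  have h3 := h.dvd
  have h4 : 0 < (Nat.card G).factorization p :=
    (Fact.out : p.Prime).factorization_pos_of_dvd Nat.card_pos.ne' h3
  omega

/-- `Y` is a complement of the Sylow subgroup `P` in its normalizer. -/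
def NCompl (P : Sylow p G) (Y : Subgroup G) : Prop :=
  Y ≤ normalizer ((P : Subgroup G) : Set G) ∧ (P : Subgroup G) ⊓ Y = ⊥ ∧
    (P : Subgroup G) ⊔ Y = normalizer ((P : Subgroup G) : Set G) ∧
    Nat.card ↥(P : Subgroup G) * Nat.card ↥Y = Nat.card ↥(normalizer ((P : Subgroup G) : Set G))

theorem exists_ncompl (P : Sylow p G) : ∃ Y : Subgroup G, NCompl P Y := by
  have hcop : (Nat.card ↥(P : Subgroup G)).Coprime
      ((P : Subgroup G).relIndex (normalizer ((P : Subgroup G) : Set G))) := by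
    have h1 : (P : Subgroup G).relIndex (normalizer ((P : Subgroup G) : Set G)) ∣
        (P : Subgroup G).index := Subgroup.relIndex_dvd_index_of_le le_normalizer
    exact Nat.Coprime.coprime_dvd_right h1 P.card_coprime_index
  obtain ⟨Y, h1, h2, h3, h4⟩ := Cfsg.Agent.Lib.Helper2.Split.exists_compl (P : Subgroup G)
    (normalizer ((P : Subgroup G) : Set G)) le_normalizer le_rfl hcop
  exact ⟨Y, h1, h2, h3, h4⟩

theorem NCompl.coprime {P : Sylow p G} {Y : Subgroup G} (hY : NCompl P Y) :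
    (Nat.card ↥Y).Coprime p := by
  rw [Nat.coprime_comm, (Fact.out : p.Prime).coprime_iff_not_dvd]
  intro hdvd
  obtain ⟨x, hx⟩ := exists_prime_orderOf_dvd_card' (G := ↥Y) p hdvd
  have hx' : orderOf (x : G) = p ^ 1 := by rw [Subgroup.orderOf_coe, pow_one]; exact hx
  have h1 : (x : G) ∈ (P : Subgroup G) := mem_sylow_of_mem_normalizer P (hY.1 x.2) hx'
  have h2 : (x : G) ∈ (P : Subgroup G) ⊓ Y := ⟨h1, x.2⟩
  rw [hY.2.1, mem_bot] at h2
  rw [h2, orderOf_one, pow_one] at hx'
  exact (Fact.out : p.Prime).one_lt.ne hx'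

theorem NCompl.comm (h : Hyp p G) {P : Sylow p G} {Y : Subgroup G} (hY : NCompl P Y) :
    ∀ a ∈ Y, ∀ b ∈ Y, a * b = b * a := by
  apply h.ab Y
  have := hY.coprime
  rw [Nat.coprime_comm, (Fact.out : p.Prime).coprime_iff_not_dvd] at this
  exact this

theorem NCompl.orderOf_coprime {P : Sylow p G} {Y : Subgroup G} (hY : NCompl P Y) {a : G}
    (ha : a ∈ Y) : (orderOf a).Coprime p :=
  Nat.Coprime.coprime_dvd_left (Subgroup.orderOf_dvd_natCard Y ha) hY.coprime

theorem NCompl.exists_mul {P : Sylow p G} {Y : Subgroup G} (hY : NCompl P Y) {n : G}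
    (hn : n ∈ normalizer ((P : Subgroup G) : Set G)) :
    ∃ u ∈ (P : Subgroup G), ∃ y ∈ Y, n = u * y := by
  apply Cfsg.Agent.Lib.Helper70.PNilp.mem_sup_of_conj (P : Subgroup G) Y
  · intro z hz s hs
    exact (hY.1 hz s).mp hs
  · rw [hY.2.2.1]; exact hn

/-- Some element of `Y` does not centralize `P` (Burnside's transfer theorem). -/
theorem NCompl.exists_not_centralizer (h : Hyp p G) {P : Sylow p G} {Y : Subgroup G}
    (hY : NCompl P Y) : ∃ y ∈ Y, y ∉ centralizer ((P : Subgroup G) : Set G) := by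
  by_contra hcon
  push Not at hcon
  have hle : normalizer ((P : Subgroup G) : Set G) ≤ centralizer ((P : Subgroup G) : Set G) := by
    rw [← hY.2.2.1]
    apply sup_le
    · intro a ha
      rw [mem_centralizer_iff]
      intro b hb
      exact h.sylow_comm P b hb a ha
    · exact hcon
  have h1 := Cfsg.Agent.Lib.Helper2.PComp.hasNormalPComplement_of_normalizer_le_centralizer P hle
  obtain ⟨K, hKn, hK⟩ := (Cfsg.Agent.Lib.Helper2.PComp.hasNormalPComplement_iff P).mp h1
  rcases h.simple.eq_bot_or_eq_top_of_normal K hKn with hb | ht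
  · rw [hb, Subgroup.isComplement'_bot_left] at hK
    apply h.nc
    intro a b
    exact h.sylow_comm P a (by rw [hK]; exact mem_top a) b (by rw [hK]; exact mem_top b)
  · rw [ht, Subgroup.isComplement'_top_left] at hK
    exact h.sylow_ne_bot P hK

/-- Two elements of order `p` in `P` generate the same subgroup. -/
theorem Hyp.mem_zpowers (h : Hyp p G) (P : Sylow p G) {v v' : G} (hv : v ∈ (P : Subgroup G))
    (hv' : v' ∈ (P : Subgroup G)) (ho : orderOf v = p) (ho' : orderOf v' = p) :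
    v' ∈ zpowers v :=
  Cfsg.Agent.S4403.mem_zpowers_of_commute h.cyc ho ho' (h.sylow_comm P v hv v' hv')

theorem cj_zpow {g v : G} (i : ℤ) : g * v ^ i * g⁻¹ = (g * v * g⁻¹) ^ i :=
  _root_.conj_zpow.symm

theorem orderOf_conj' (g v : G) : orderOf (g * v * g⁻¹) = orderOf v :=
  orderOf_injective (MulAut.conj g).toMonoidHom (MulAut.conj g).injective v

/-- The normalizer of the subgroup of order `p` of `P` lies in the normalizer of `P`. -/
theorem Hyp.normalizer_zpowers_le (h : Hyp p G) (P : Sylow p G) {v : G}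
    (hv : v ∈ (P : Subgroup G)) (ho : orderOf v = p) :
    normalizer ((zpowers v : Subgroup G) : Set G) ≤ normalizer ((P : Subgroup G) : Set G) := by
  obtain ⟨Y, hY⟩ := exists_ncompl P
  obtain ⟨y, hyY, hyC⟩ := hY.exists_not_centralizer h
  have hv1 : v ≠ 1 := by
    rintro rfl
    rw [orderOf_one] at ho
    exact (Fact.out : p.Prime).one_lt.ne ho
  apply le_normalizer_of_max h P (hY.1 hyY) (hY.orderOf_coprime hyY) hyC
  · intro x hx
    apply mem_normalizer_of_conj
    rintro _ ⟨i, rfl⟩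
    have hc : Commute x (v ^ i) := (show Commute x v from h.sylow_comm P x hx v hv).zpow_right i
    have : x * v ^ i * x⁻¹ = v ^ i := by rw [hc.eq, mul_inv_cancel_right]
    simp only
    rw [this]
    exact ⟨i, rfl⟩
  · apply mem_normalizer_of_conj
    rintro _ ⟨i, rfl⟩
    simp only
    rw [cj_zpow]
    apply zpow_mem
    apply h.mem_zpowers P hv ((hY.1 hyY v).mp hv) ho
    rw [orderOf_conj']; exact ho
  · intro htop
    apply Cfsg.Agent.S4018.zpowers_not_normal h.simple h.nc hv1
    exact Subgroup.normalizer_eq_top_iff.mp htop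

theorem Hyp.centralizer_le (h : Hyp p G) (P : Sylow p G) {v : G}
    (hv : v ∈ (P : Subgroup G)) (ho : orderOf v = p) :
    centralizer ({v} : Set G) ≤ normalizer ((P : Subgroup G) : Set G) := by
  refine le_trans ?_ (h.normalizer_zpowers_le P hv ho)
  intro g hg
  rw [Subgroup.mem_centralizer_singleton_iff] at hg
  apply mem_normalizer_of_conj
  rintro _ ⟨i, rfl⟩
  have hc : Commute g (v ^ i) := (show Commute g v from hg).zpow_right i
  have : g * v ^ i * g⁻¹ = v ^ i := by rw [hc.eq, mul_inv_cancel_right]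
  simp only
  rw [this]
  exact ⟨i, rfl⟩

/-- `P` is a TI-subgroup. -/
theorem Hyp.mem_normalizer_of_conj_mem (h : Hyp p G) (P : Sylow p G) {v g : G}
    (hv : v ∈ (P : Subgroup G)) (ho : orderOf v = p) (hg : g * v * g⁻¹ ∈ (P : Subgroup G)) :
    g ∈ normalizer ((P : Subgroup G) : Set G) := by
  apply h.normalizer_zpowers_le P hv ho
  apply mem_normalizer_of_conj
  rintro _ ⟨i, rfl⟩
  simp only
  rw [cj_zpow]
  apply zpow_mem
  apply h.mem_zpowers P hv hg ho
  rw [orderOf_conj']; exact ho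

theorem commute_of_normalize {A B : Subgroup G} (hAB : Disjoint A B) {a b : G} (ha : a ∈ A)
    (hb : b ∈ B) (haB : a ∈ normalizer (B : Set G)) (hbA : b ∈ normalizer (A : Set G)) :
    a * b = b * a := by
  have h1 : a * b * a⁻¹ * b⁻¹ ∈ A := by
    have : b * a⁻¹ * b⁻¹ ∈ A := (hbA a⁻¹).mp (A.inv_mem ha)
    have h2 := A.mul_mem ha this
    have e : a * b * a⁻¹ * b⁻¹ = a * (b * a⁻¹ * b⁻¹) := by group
    rw [e]; exact h2
  have h2 : a * b * a⁻¹ * b⁻¹ ∈ B := B.mul_mem ((haB b).mp hb) (B.inv_mem hb)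
  have h3 := Subgroup.disjoint_def.mp hAB h1 h2
  calc a * b = a * b * a⁻¹ * b⁻¹ * b * a := by group
    _ = b * a := by rw [h3]; group

theorem centralizer_le_normalizer_zpowers (a : G) :
    centralizer ({a} : Set G) ≤ normalizer ((zpowers a : Subgroup G) : Set G) := by
  intro g hg
  rw [Subgroup.mem_centralizer_singleton_iff] at hg
  apply mem_normalizer_of_conj
  rintro _ ⟨i, rfl⟩
  have hc : Commute g (a ^ i) := (show Commute g a from hg).zpow_right i
  have : g * a ^ i * g⁻¹ = a ^ i := by rw [hc.eq, mul_inv_cancel_right]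
  simp only
  rw [this]
  exact ⟨i, rfl⟩

theorem Hyp.normalizer_le_normalizer_zpowers (h : Hyp p G) (P : Sylow p G) {v : G}
    (hv : v ∈ (P : Subgroup G)) (ho : orderOf v = p) :
    normalizer ((P : Subgroup G) : Set G) ≤ normalizer ((zpowers v : Subgroup G) : Set G) := by
  intro n hn
  apply mem_normalizer_of_conj
  rintro _ ⟨i, rfl⟩
  simp only
  rw [cj_zpow]
  apply zpow_mem
  apply h.mem_zpowers P hv ((hn v).mp hv) ho
  rw [orderOf_conj']; exact ho

theorem Hyp.exists_orderOf (h : Hyp p G) (P : Sylow p G) :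
    ∃ u ∈ (P : Subgroup G), orderOf u = p := by
  have h1 : p ∣ Nat.card ↥(P : Subgroup G) := P.dvd_card_of_dvd_card h.dvd
  obtain ⟨x, hx⟩ := exists_prime_orderOf_dvd_card' (G := ↥(P : Subgroup G)) p h1
  exact ⟨x, x.2, by rw [Subgroup.orderOf_coe]; exact hx⟩

/-- A `p'`-element centralizing `P` lies in the complement `Y`. -/
theorem NCompl.mem_of_centralizer {P : Sylow p G} {Y : Subgroup G} (hY : NCompl P Y) {a : G}
    (haC : a ∈ centralizer ((P : Subgroup G) : Set G)) (hcop : (orderOf a).Coprime p) :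
    a ∈ Y := by
  obtain ⟨u, hu, y, hy, rfl⟩ := hY.exists_mul (Subgroup.centralizer_le_normalizer _ haC)
  have hcomm : u * (u * y) = (u * y) * u := (mem_centralizer_iff.mp haC) u hu
  have huy : Commute u y := by
    have : u * y = y * u := by
      have h2 : u * (u * y) = u * (y * u) := by rw [hcomm]; group
      exact mul_left_cancel h2
    exact this
  have h1 : u ^ orderOf (u * y) * y ^ orderOf (u * y) = 1 := by
    rw [← huy.mul_pow, pow_orderOf_eq_one]
  have h2 : u ^ orderOf (u * y) ∈ (P : Subgroup G) ⊓ Y := by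
    refine ⟨pow_mem hu _, ?_⟩
    have : u ^ orderOf (u * y) = (y ^ orderOf (u * y))⁻¹ := eq_inv_of_mul_eq_one_left h1
    rw [this]
    exact Y.inv_mem (pow_mem hy _)
  rw [hY.2.1, mem_bot] at h2
  have h3 : orderOf u ∣ orderOf (u * y) := orderOf_dvd_of_pow_eq_one h2
  obtain ⟨m, hm⟩ := P.2.exists_card_eq
  have h4 : orderOf u ∣ p ^ m := by
    rw [← hm]
    exact Subgroup.orderOf_dvd_natCard _ hu
  have h5 : orderOf u = 1 :=
    Nat.Coprime.eq_one_of_dvd ((Nat.Coprime.pow_right m hcop).coprime_dvd_left h3) h4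
  rw [orderOf_eq_one_iff] at h5
  rw [h5, one_mul]
  exact hy

/-- A nonidentity element of `Y ∩ C(P)` has its normalizer data inside `N(P)`. -/
theorem NCompl.normalizer_zpowers_le (h : Hyp p G) {P : Sylow p G} {Y : Subgroup G}
    (hY : NCompl P Y) {a : G} (haY : a ∈ Y) (haC : a ∈ centralizer ((P : Subgroup G) : Set G))
    (ha1 : a ≠ 1) :
    normalizer ((zpowers a : Subgroup G) : Set G) ≤ normalizer ((P : Subgroup G) : Set G) := by
  obtain ⟨y, hyY, hyC⟩ := hY.exists_not_centralizer h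
  apply le_normalizer_of_max h P (hY.1 hyY) (hY.orderOf_coprime hyY) hyC
  · intro x hx
    apply centralizer_le_normalizer_zpowers
    rw [Subgroup.mem_centralizer_singleton_iff]
    exact (mem_centralizer_iff.mp haC) x hx
  · apply centralizer_le_normalizer_zpowers
    rw [Subgroup.mem_centralizer_singleton_iff]
    exact hY.comm h y hyY a haY
  · intro htop
    apply Cfsg.Agent.S4018.zpowers_not_normal h.simple h.nc ha1
    exact Subgroup.normalizer_eq_top_iff.mp htop

theorem NCompl.centralizer_le (h : Hyp p G) {P : Sylow p G} {Y : Subgroup G}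
    (hY : NCompl P Y) {a : G} (haC : a ∈ centralizer ((P : Subgroup G) : Set G))
    (hcop : (orderOf a).Coprime p) (ha1 : a ≠ 1) :
    centralizer ({a} : Set G) ≤ normalizer ((P : Subgroup G) : Set G) :=
  (centralizer_le_normalizer_zpowers a).trans
    (hY.normalizer_zpowers_le h (hY.mem_of_centralizer haC hcop) haC ha1)

/-- Version without an explicit complement. -/
theorem Hyp.centralizer_le' (h : Hyp p G) (P : Sylow p G) {a : G}
    (haC : a ∈ centralizer ((P : Subgroup G) : Set G))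
    (hcop : (orderOf a).Coprime p) (ha1 : a ≠ 1) :
    centralizer ({a} : Set G) ≤ normalizer ((P : Subgroup G) : Set G) := by
  obtain ⟨Y, hY⟩ := exists_ncompl P
  exact hY.centralizer_le h haC hcop ha1

/-- A `p'`-element of `N(P)` commuting with an element of order `p` of `P` centralizes `P`. -/
theorem Hyp.mem_centralizer_of_commute (h : Hyp p G) (P : Sylow p G) {a v : G}
    (ha : a ∈ normalizer ((P : Subgroup G) : Set G)) (hcop : (orderOf a).Coprime p)
    (hv : v ∈ (P : Subgroup G)) (ho : orderOf v = p) (hav : a * v = v * a) :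
    a ∈ centralizer ((P : Subgroup G) : Set G) := by
  haveI : IsCyclic ↥(P : Subgroup G) := h.cyc P P.2
  have hv1 : v ≠ 1 := by
    rintro rfl
    rw [orderOf_one] at ho
    exact (Fact.out : p.Prime).one_lt.ne ho
  rw [mem_centralizer_iff]
  intro x hx
  exact (cyc_aut (P : Subgroup G) P.2 ha hcop hv hv1 hav x hx).symm

/-- For a nontrivial Sylow `q`-subgroup `Q` (`q ≠ p`), some element of order `p` normalizes but
does not centralize `Q`. -/
theorem Hyp.exists_normalizing (h : Hyp p G) {q : ℕ} [Fact q.Prime] (hqp : q ≠ p) (Q : Sylow q G)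
    (hQ : (Q : Subgroup G) ≠ ⊥) :
    ∃ v : G, orderOf v = p ∧ v ∈ normalizer ((Q : Subgroup G) : Set G) ∧
      v ∉ centralizer ((Q : Subgroup G) : Set G) := by
  have hpp : p.Prime := Fact.out
  have hQp : ¬ p ∣ Nat.card ↥(Q : Subgroup G) := by
    obtain ⟨m, hm⟩ := Q.2.exists_card_eq
    rw [hm]
    intro hd
    exact hqp ((Nat.prime_dvd_prime_iff_eq hpp Fact.out).mp (hpp.dvd_of_dvd_pow hd)).symm
  have hQc := h.ab Q hQp
  have hnc : ¬ normalizer ((Q : Subgroup G) : Set G) ≤ centralizer ((Q : Subgroup G) : Set G) := by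
    intro hle
    have h1 := Cfsg.Agent.Lib.Helper2.PComp.hasNormalPComplement_of_normalizer_le_centralizer Q hle
    obtain ⟨K, hKn, hK⟩ := (Cfsg.Agent.Lib.Helper2.PComp.hasNormalPComplement_iff Q).mp h1
    rcases h.simple.eq_bot_or_eq_top_of_normal K hKn with hb | ht
    · rw [hb, Subgroup.isComplement'_bot_left] at hK
      apply h.nc
      intro a b
      exact hQc a (by rw [hK]; exact mem_top a) b (by rw [hK]; exact mem_top b)
    · rw [ht, Subgroup.isComplement'_top_left] at hK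
      exact hQ hK
  obtain ⟨x, hxN, hxC⟩ := SetLike.not_le_iff_exists.mp hnc
  obtain ⟨α, m', hm', ho⟩ :=
    Nat.exists_eq_pow_mul_and_not_dvd (orderOf_pos x).ne' p hpp.ne_one
  have hm0 : m' ≠ 0 := by
    rintro rfl
    exact hm' (dvd_zero p)
  have hpa0 : p ^ α ≠ 0 := pow_ne_zero _ hpp.ne_zero
  have hord1 : orderOf (x ^ (p ^ α)) = m' := by
    rw [orderOf_pow_of_dvd hpa0 (by rw [ho]; exact dvd_mul_right _ _), ho,
      Nat.mul_div_cancel_left _ (Nat.pos_of_ne_zero hpa0)]
  have hord2 : orderOf (x ^ m') = p ^ α := by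
    rw [orderOf_pow_of_dvd hm0 (by rw [ho]; exact dvd_mul_left _ _), ho,
      Nat.mul_div_cancel _ (Nat.pos_of_ne_zero hm0)]
  have hx1 : x ^ (p ^ α) ∈ centralizer ((Q : Subgroup G) : Set G) := by
    have hN1 : x ^ (p ^ α) ∈ normalizer ((Q : Subgroup G) : Set G) := pow_mem hxN _
    have hcard := Cfsg.Agent.H32.card_sup_dvd (zpowers (x ^ (p ^ α))) (Q : Subgroup G)
      (zpowers_le.mpr hN1)
    have hnp : ¬ p ∣ Nat.card ↥(zpowers (x ^ (p ^ α)) ⊔ (Q : Subgroup G)) := by
      intro hd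
      have := hd.trans hcard
      rw [Nat.card_zpowers, hord1] at this
      rcases hpp.dvd_mul.mp this with h1 | h1
      · exact hm' h1
      · exact hQp h1
    have hab := h.ab _ hnp
    rw [mem_centralizer_iff]
    intro a ha
    exact hab a (le_sup_right (a := zpowers (x ^ (p ^ α))) ha) _
      (le_sup_left (b := (Q : Subgroup G)) (Subgroup.mem_zpowers _))
  have hw : x ^ m' ∉ centralizer ((Q : Subgroup G) : Set G) := by
    intro hwC
    apply hxC
    have hcop : Nat.Coprime (p ^ α) m' :=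
      Nat.Coprime.pow_left α (hpp.coprime_iff_not_dvd.mpr hm')
    have hb := Int.gcd_eq_gcd_ab (p ^ α : ℕ) m'
    rw [Int.gcd_natCast_natCast, hcop.gcd_eq_one] at hb
    have hx : x = (x ^ (p ^ α)) ^ (Int.gcdA (p ^ α : ℕ) m') * (x ^ m') ^ (Int.gcdB (p ^ α : ℕ) m') := by
      rw [← zpow_natCast x (p ^ α), ← zpow_natCast x m', ← zpow_mul, ← zpow_mul, ← zpow_add,
        ← hb]
      simp
    rw [hx]
    exact mul_mem (zpow_mem hx1 _) (zpow_mem hwC _)
  have hα : α ≠ 0 := by
    rintro rfl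
    rw [pow_zero, orderOf_eq_one_iff] at hord2
    apply hw
    rw [hord2]
    exact one_mem _
  have hwN : x ^ m' ∈ normalizer ((Q : Subgroup G) : Set G) := pow_mem hxN _
  refine ⟨(x ^ m') ^ (p ^ (α - 1)), ?_, pow_mem hwN _, ?_⟩
  · rw [orderOf_pow_of_dvd (pow_ne_zero _ hpp.ne_zero)
      (by rw [hord2]; exact pow_dvd_pow p (Nat.sub_le α 1)), hord2,
      Nat.pow_div (Nat.sub_le α 1) hpp.pos]
    have : α - (α - 1) = 1 := by omega
    rw [this, pow_one]
  · intro hvC
    have hov : orderOf ((x ^ m') ^ (p ^ (α - 1))) = p := by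
      rw [orderOf_pow_of_dvd (pow_ne_zero _ hpp.ne_zero)
        (by rw [hord2]; exact pow_dvd_pow p (Nat.sub_le α 1)), hord2,
        Nat.pow_div (Nat.sub_le α 1) hpp.pos]
      have : α - (α - 1) = 1 := by omega
      rw [this, pow_one]
    have hpg : IsPGroup p ↥(zpowers ((x ^ m') ^ (p ^ (α - 1)))) :=
      IsPGroup.of_card (n := 1) (by rw [Nat.card_zpowers, hov, pow_one])
    obtain ⟨Pv, hPv⟩ := hpg.exists_le_sylow
    have hvP : (x ^ m') ^ (p ^ (α - 1)) ∈ (Pv : Subgroup G) := hPv (Subgroup.mem_zpowers _)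
    have hcen := h.centralizer_le Pv hvP hov
    have hwP : x ^ m' ∈ (Pv : Subgroup G) := by
      apply mem_sylow_of_mem_normalizer Pv _ hord2
      apply hcen
      rw [Subgroup.mem_centralizer_singleton_iff]
      exact ((Commute.refl (x ^ m')).pow_right _).eq
    apply hw
    rw [mem_centralizer_iff]
    intro a ha
    have haN : a ∈ normalizer ((Pv : Subgroup G) : Set G) := by
      apply hcen
      rw [Subgroup.mem_centralizer_singleton_iff]
      exact (mem_centralizer_iff.mp hvC) a ha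
    have hdisj : Disjoint (Pv : Subgroup G) (Q : Subgroup G) :=
      IsPGroup.disjoint_of_ne p q (Ne.symm hqp) _ _ Pv.2 Q.2
    exact (commute_of_normalize hdisj hwP ha hwN haN).symm

theorem Hyp.card_sylow_modEq (h : Hyp p G)
    (hself : ∀ P : Sylow p G, centralizer ((P : Subgroup G) : Set G) ≤ P) {q : ℕ}
    [Fact q.Prime] (hqp : q ≠ p) (Q : Sylow q G) : Nat.card ↥(Q : Subgroup G) ≡ 1 [MOD p] := by
  by_cases hQ : (Q : Subgroup G) = ⊥
  · rw [hQ, Subgroup.card_bot]
  obtain ⟨v, hov, hvN, -⟩ := h.exists_normalizing hqp Q hQ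
  apply card_modEq_one_of_fpf v hov (Q : Subgroup G) hvN
  intro a ha hva
  have hpg : IsPGroup p ↥(zpowers v) :=
    IsPGroup.of_card (n := 1) (by rw [Nat.card_zpowers, hov, pow_one])
  obtain ⟨Pv, hPv⟩ := hpg.exists_le_sylow
  have hvP : v ∈ (Pv : Subgroup G) := hPv (Subgroup.mem_zpowers _)
  have haN : a ∈ normalizer ((Pv : Subgroup G) : Set G) := by
    apply h.centralizer_le Pv hvP hov
    rw [Subgroup.mem_centralizer_singleton_iff]
    exact hva.symm
  have hcop : (orderOf a).Coprime p := by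
    obtain ⟨m, hm⟩ := Q.2.exists_card_eq
    have h1 : orderOf a ∣ q ^ m := by
      rw [← hm]; exact Subgroup.orderOf_dvd_natCard _ ha
    apply Nat.Coprime.coprime_dvd_left h1
    apply Nat.Coprime.pow_left
    exact (Nat.coprime_primes Fact.out Fact.out).mpr hqp
  have haC := h.mem_centralizer_of_commute Pv haN hcop hvP hov hva.symm
  have haP : a ∈ (Pv : Subgroup G) := hself Pv haC
  have hdisj : Disjoint (Pv : Subgroup G) (Q : Subgroup G) :=
    IsPGroup.disjoint_of_ne p q (Ne.symm hqp) _ _ Pv.2 Q.2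
  exact Subgroup.disjoint_def.mp hdisj haP ha

/-- The case where Sylow `p`-subgroups are self-centralizing is impossible. -/
theorem Hyp.case_self (h : Hyp p G)
    (hself : ∀ P : Sylow p G, centralizer ((P : Subgroup G) : Set G) ≤ P) : False := by
  have hpp : p.Prime := Fact.out
  obtain ⟨P⟩ := (inferInstance : Nonempty (Sylow p G))
  obtain ⟨Y, hY⟩ := exists_ncompl P
  obtain ⟨y, hyY, hyC⟩ := hY.exists_not_centralizer h
  obtain ⟨u, huP, hou⟩ := h.exists_orderOf P
  have hu1 : u ≠ 1 := by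
    rintro rfl
    rw [orderOf_one] at hou
    exact hpp.one_lt.ne hou
  -- index of P
  have hidx : (P : Subgroup G).index ≡ 1 [MOD p] := by
    have h1 : (P : Subgroup G).index = Nat.card G / p ^ (Nat.card G).factorization p := by
      have h2 := (P : Subgroup G).index_mul_card
      rw [P.card_eq_multiplicity] at h2
      exact (Nat.div_eq_of_eq_mul_left (pow_pos hpp.pos _) h2.symm).symm
    rw [h1]
    apply ordCompl_modEq_one Nat.card_pos.ne'
    intro q hq hqp
    haveI : Fact q.Prime := ⟨hq⟩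
    obtain ⟨Q⟩ := (inferInstance : Nonempty (Sylow q G))
    rw [← Q.card_eq_multiplicity]
    exact h.card_sylow_modEq hself hqp Q
  have hsyl : (normalizer ((P : Subgroup G) : Set G)).index ≡ 1 [MOD p] := by
    have h1 : Nat.card (Sylow p G) = (normalizer ((P : Subgroup G) : Set G)).index :=
      Sylow.card_eq_index_normalizer P
    rw [← h1]
    exact card_sylow_modEq_one p G
  have hprod : (P : Subgroup G).index =
      (normalizer ((P : Subgroup G) : Set G)).index * Nat.card ↥Y := by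
    have h1 := (P : Subgroup G).index_mul_card
    have h2 := (normalizer ((P : Subgroup G) : Set G)).index_mul_card
    rw [← hY.2.2.2] at h2
    have h3 : (P : Subgroup G).index * Nat.card ↥(P : Subgroup G) =
        (normalizer ((P : Subgroup G) : Set G)).index * Nat.card ↥Y *
          Nat.card ↥(P : Subgroup G) := by
      rw [h1, ← h2]; ring
    exact Nat.eq_of_mul_eq_mul_right Nat.card_pos h3
  have hYmod : Nat.card ↥Y ≡ 1 [MOD p] := by
    have h1 : (normalizer ((P : Subgroup G) : Set G)).index * Nat.card ↥Y ≡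
        1 * Nat.card ↥Y [MOD p] := Nat.ModEq.mul_right _ hsyl
    rw [← hprod, one_mul] at h1
    exact h1.symm.trans hidx
  have hYle : Nat.card ↥Y + 1 ≤ p := by
    have hNz := h.normalizer_le_normalizer_zpowers P huP hou
    let f : Option ↥Y → ↥(zpowers u) := fun o =>
      match o with
      | none => 1
      | some a => ⟨(a : G) * u * (a : G)⁻¹, (hNz (hY.1 a.2) u).mp (Subgroup.mem_zpowers u)⟩
    have hf : Function.Injective f := by
      intro a b hab
      match a, b with
      | none, none => rfl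
      | none, some b =>
        exfalso
        have h1 : (1 : G) = (b : G) * u * (b : G)⁻¹ := congrArg Subtype.val hab
        apply hu1
        have : u = (b : G)⁻¹ * ((b : G) * u * (b : G)⁻¹) * b := by group
        rw [this, ← h1]; group
      | some a, none =>
        exfalso
        have h1 : (a : G) * u * (a : G)⁻¹ = 1 := congrArg Subtype.val hab
        apply hu1
        have : u = (a : G)⁻¹ * ((a : G) * u * (a : G)⁻¹) * a := by group
        rw [this, h1]; group
      | some a, some b =>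
        have h1 : (a : G) * u * (a : G)⁻¹ = (b : G) * u * (b : G)⁻¹ := congrArg Subtype.val hab
        have h2 : ((b : G)⁻¹ * a) * u = u * ((b : G)⁻¹ * a) := by
          calc ((b : G)⁻¹ * a) * u = (b : G)⁻¹ * ((a : G) * u * (a : G)⁻¹) * a := by group
            _ = u * ((b : G)⁻¹ * a) := by rw [h1]; group
        have h3 : (b : G)⁻¹ * a ∈ Y := Y.mul_mem (Y.inv_mem b.2) a.2
        have h4 := h.mem_centralizer_of_commute P (hY.1 h3) (hY.orderOf_coprime h3) huP hou h2
        have h5 : (b : G)⁻¹ * a ∈ (P : Subgroup G) ⊓ Y := ⟨hself P h4, h3⟩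
        rw [hY.2.1, mem_bot] at h5
        have : (a : G) = b := by
          have := inv_mul_eq_one.mp h5
          exact this.symm
        exact congrArg some (Subtype.ext this)
    have h1 := Nat.card_le_card_of_injective f hf
    rw [Finite.card_option, Nat.card_zpowers, hou] at h1
    exact h1
  have hY1 : Nat.card ↥Y = 1 := by
    have h1 : Nat.card ↥Y % p = 1 % p := hYmod
    rw [Nat.mod_eq_of_lt (by omega), Nat.mod_eq_of_lt hpp.one_lt] at h1
    exact h1
  apply hyC
  have : y = 1 := by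
    have h1 := (Subgroup.card_eq_one.mp hY1)
    rw [h1] at hyY
    exact mem_bot.mp hyY
  rw [this]
  exact one_mem _

/-- If `a = g b g⁻¹` with `a, b` in `C(P)` and `a` a nonidentity `p'`-element, then `g ∈ N(P)`. -/
theorem Hyp.not_conj (h : Hyp p G) (P : Sylow p G) {a b g : G}
    (haC : a ∈ centralizer ((P : Subgroup G) : Set G))
    (hbC : b ∈ centralizer ((P : Subgroup G) : Set G)) (ha : (orderOf a).Coprime p)
    (ha1 : a ≠ 1) (hab : g * b * g⁻¹ = a) : g ∈ normalizer ((P : Subgroup G) : Set G) := by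
  obtain ⟨u, huP, hou⟩ := h.exists_orderOf P
  apply h.mem_normalizer_of_conj_mem P huP hou
  apply mem_sylow_of_mem_normalizer P (k := 1) _ (by rw [orderOf_conj', hou, pow_one])
  apply h.centralizer_le' P haC ha ha1
  rw [Subgroup.mem_centralizer_singleton_iff, ← hab]
  have hub : u * b = b * u := ((mem_centralizer_iff.mp hbC) u huP)
  calc g * u * g⁻¹ * (g * b * g⁻¹) = g * (u * b) * g⁻¹ := by group
    _ = g * (b * u) * g⁻¹ := by rw [hub]
    _ = g * b * g⁻¹ * (g * u * g⁻¹) := by group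

theorem pow_not_mem_normalizer (P : Sylow p G) {v : G} (hov : orderOf v = p)
    (hvN : v ∉ normalizer ((P : Subgroup G) : Set G)) {d : ℕ} (hd0 : 0 < d) (hdp : d < p) :
    v ^ d ∉ normalizer ((P : Subgroup G) : Set G) := by
  intro hd
  apply hvN
  have hcop : d.Coprime (orderOf v) := by
    rw [hov]
    exact (coprime_of_lt_prime hd0 hdp)
  obtain ⟨m, hm⟩ := exists_pow_eq_self_of_coprime hcop
  rw [← hm]
  exact pow_mem hd m

theorem conj_mem_normalizer_zpowers {n v u : G}
    (hn : n ∈ normalizer ((zpowers u : Subgroup G) : Set G)) :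
    v * n * v⁻¹ ∈ normalizer ((zpowers (v * u * v⁻¹) : Subgroup G) : Set G) := by
  apply mem_normalizer_of_conj
  rintro _ ⟨i, rfl⟩
  simp only
  have h1 : n * u ^ i * n⁻¹ ∈ zpowers u := (hn (u ^ i)).mp (zpow_mem (Subgroup.mem_zpowers u) i)
  obtain ⟨j, hj⟩ := h1
  simp only at hj
  refine ⟨j, ?_⟩
  simp only
  rw [← cj_zpow, ← cj_zpow, hj]
  group

/-- The standing configuration of the second case: `k ∈ C(P)` of prime order `q`, a Sylow
`q`-subgroup `Q ∋ k` inside `N(P)`, and `v` of order `p` normalizing `Q` but outside `N(P)`. -/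
structure Cfg (P : Sylow p G) (q : ℕ) [Fact q.Prime] (k : G) (Q : Sylow q G) (v u : G) : Prop where
  hqp : q ≠ p
  hkC : k ∈ centralizer ((P : Subgroup G) : Set G)
  hok : orderOf k = q
  hkQ : k ∈ (Q : Subgroup G)
  hQN : (Q : Subgroup G) ≤ normalizer ((P : Subgroup G) : Set G)
  hov : orderOf v = p
  hvQ : v ∈ normalizer ((Q : Subgroup G) : Set G)
  hvN : v ∉ normalizer ((P : Subgroup G) : Set G)
  huP : u ∈ (P : Subgroup G)
  hou : orderOf u = p

theorem Hyp.exists_cfg (h : Hyp p G) (P : Sylow p G) {q : ℕ} [Fact q.Prime] {k : G}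
    (hkC : k ∈ centralizer ((P : Subgroup G) : Set G)) (hok : orderOf k = q) (hqp : q ≠ p) :
    ∃ (Q : Sylow q G) (v u : G), Cfg P q k Q v u := by
  have hpp : p.Prime := Fact.out
  have hqq : q.Prime := Fact.out
  have hk1 : k ≠ 1 := by
    rintro rfl
    rw [orderOf_one] at hok
    exact hqq.one_lt.ne hok
  have hcop : (orderOf k).Coprime p := by
    rw [hok]; exact (Nat.coprime_primes hqq hpp).mpr hqp
  have hqg : IsPGroup q ↥(zpowers k) :=
    IsPGroup.of_card (n := 1) (by rw [Nat.card_zpowers, hok, pow_one])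
  obtain ⟨Q, hQ⟩ := hqg.exists_le_sylow
  have hkQ : k ∈ (Q : Subgroup G) := hQ (Subgroup.mem_zpowers k)
  have hQp : ¬ p ∣ Nat.card ↥(Q : Subgroup G) := by
    obtain ⟨m, hm⟩ := Q.2.exists_card_eq
    rw [hm]
    intro hd
    exact hqp ((Nat.prime_dvd_prime_iff_eq hpp hqq).mp (hpp.dvd_of_dvd_pow hd)).symm
  have hQc := h.ab Q hQp
  have hQN : (Q : Subgroup G) ≤ normalizer ((P : Subgroup G) : Set G) := by
    intro a ha
    apply h.centralizer_le' P hkC hcop hk1
    rw [Subgroup.mem_centralizer_singleton_iff]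
    exact hQc a ha k hkQ
  have hQne : (Q : Subgroup G) ≠ ⊥ := by
    intro hb
    rw [hb, mem_bot] at hkQ
    exact hk1 hkQ
  obtain ⟨v, hov, hvQ, hvC⟩ := h.exists_normalizing hqp Q hQne
  obtain ⟨u, huP, hou⟩ := h.exists_orderOf P
  refine ⟨Q, v, u, hqp, hkC, hok, hkQ, hQN, hov, hvQ, ?_, huP, hou⟩
  intro hvN
  apply hvC
  have hvP : v ∈ (P : Subgroup G) :=
    mem_sylow_of_mem_normalizer P hvN (k := 1) (by rw [hov, pow_one])
  have hdisj : Disjoint (P : Subgroup G) (Q : Subgroup G) :=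
    IsPGroup.disjoint_of_ne p q (Ne.symm hqp) _ _ P.2 Q.2
  rw [mem_centralizer_iff]
  intro a ha
  exact (commute_of_normalize hdisj hvP ha hvQ (hQN ha)).symm

section CfgLemmas

variable {P : Sylow p G} {q : ℕ} [Fact q.Prime] {k : G} {Q : Sylow q G} {v u : G}

theorem Cfg.orderOf_coprime (c : Cfg P q k Q v u) {a : G} (ha : a ∈ (Q : Subgroup G)) :
    (orderOf a).Coprime p := by
  obtain ⟨m, hm⟩ := Q.2.exists_card_eq
  have h1 : orderOf a ∣ q ^ m := by
    rw [← hm]; exact Subgroup.orderOf_dvd_natCard _ ha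
  apply Nat.Coprime.coprime_dvd_left h1
  apply Nat.Coprime.pow_left
  exact (Nat.coprime_primes Fact.out Fact.out).mpr c.hqp

/-- An element of `Q` commuting with `u` and with `v u v⁻¹` is trivial. -/
theorem Cfg.eq_one (h : Hyp p G) (c : Cfg P q k Q v u) {a : G} (ha : a ∈ (Q : Subgroup G))
    (hau : a * u = u * a) (hav : a * (v * u * v⁻¹) = (v * u * v⁻¹) * a) : a = 1 := by
  by_contra ha1
  have hcop := c.orderOf_coprime ha
  have haC := h.mem_centralizer_of_commute P (c.hQN ha) hcop c.huP c.hou hau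
  apply c.hvN
  apply h.mem_normalizer_of_conj_mem P c.huP c.hou
  apply mem_sylow_of_mem_normalizer P (k := 1) _ (by rw [orderOf_conj', c.hou, pow_one])
  apply h.centralizer_le' P haC hcop ha1
  rw [Subgroup.mem_centralizer_singleton_iff]
  exact hav.symm

theorem Cfg.le_normalizer_zpowers (h : Hyp p G) (c : Cfg P q k Q v u) :
    (Q : Subgroup G) ≤ normalizer ((zpowers u : Subgroup G) : Set G) :=
  c.hQN.trans (h.normalizer_le_normalizer_zpowers P c.huP c.hou)

theorem Cfg.le_normalizer_zpowers' (h : Hyp p G) (c : Cfg P q k Q v u) :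
    (Q : Subgroup G) ≤ normalizer ((zpowers (v * u * v⁻¹) : Subgroup G) : Set G) := by
  intro a ha
  have h1 : v⁻¹ * a * v ∈ (Q : Subgroup G) := by
    have hv' : v⁻¹ ∈ normalizer ((Q : Subgroup G) : Set G) := inv_mem c.hvQ
    have := (hv' a).mp ha
    rw [inv_inv] at this
    exact this
  have h2 := conj_mem_normalizer_zpowers (v := v) (c.le_normalizer_zpowers h h1)
  have e : v * (v⁻¹ * a * v) * v⁻¹ = a := by group
  rwa [e] at h2

/-- Counting: a subgroup of `Q` has at most `(p-1)^2` elements, and at most `m^2` if all its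
elements have order dividing `m`. -/
theorem Cfg.card_le (h : Hyp p G) (c : Cfg P q k Q v u) (B : Subgroup G)
    (hB : B ≤ (Q : Subgroup G)) :
    ∃ m₁ m₂ : ℕ, Nat.card ↥B = m₁ * m₂ ∧ m₁ ∣ p - 1 ∧ m₂ ∣ p - 1 ∧
      (∀ n : ℕ, 0 < n → (∀ b ∈ B, b ^ n = 1) → m₁ ≤ n ∧ m₂ ≤ n) ∧
      Nat.card ↥(B ⊓ centralizer ({u} : Set G)) = m₂ := by
  obtain ⟨m₁, h1, h2, h3⟩ := core_count c.hou B (hB.trans (c.le_normalizer_zpowers h))
  have hov' : orderOf (v * u * v⁻¹) = p := by rw [orderOf_conj', c.hou]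
  obtain ⟨m₂, h4, h5, h6⟩ := core_count hov' (B ⊓ centralizer ({u} : Set G))
    ((inf_le_left.trans hB).trans (c.le_normalizer_zpowers' h))
  have hbot : B ⊓ centralizer ({u} : Set G) ⊓ centralizer ({v * u * v⁻¹} : Set G) = ⊥ := by
    rw [eq_bot_iff]
    rintro a ⟨⟨haB, hau⟩, hav⟩
    rw [mem_bot]
    have hau' : a ∈ centralizer ({u} : Set G) := hau
    have hav' : a ∈ centralizer ({v * u * v⁻¹} : Set G) := hav
    rw [Subgroup.mem_centralizer_singleton_iff] at hau' hav'
    exact c.eq_one h (hB haB) hau' hav'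
  rw [hbot, Subgroup.card_bot, mul_one] at h4
  refine ⟨m₁, m₂, by rw [h1, h4], h2, h5, ?_, h4⟩
  intro n hn hBn
  exact ⟨h3 n hn hBn, h6 n hn (fun b hb => hBn b hb.1)⟩


/-- The `n`-torsion of an abelian subgroup. -/
def torsionSub (Q : Subgroup G) (hQ : ∀ a ∈ Q, ∀ b ∈ Q, a * b = b * a) (n : ℕ) : Subgroup G where
  carrier := {a | a ∈ Q ∧ a ^ n = 1}
  one_mem' := ⟨Q.one_mem, one_pow n⟩
  mul_mem' := by
    rintro a b ⟨ha, ha'⟩ ⟨hb, hb'⟩
    refine ⟨Q.mul_mem ha hb, ?_⟩
    rw [(show Commute a b from hQ a ha b hb).mul_pow, ha', hb', one_mul]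
  inv_mem' := by
    rintro a ⟨ha, ha'⟩
    exact ⟨Q.inv_mem ha, by rw [inv_pow, ha', inv_one]⟩

theorem Cfg.comm (h : Hyp p G) (c : Cfg P q k Q v u) :
    ∀ a ∈ (Q : Subgroup G), ∀ b ∈ (Q : Subgroup G), a * b = b * a := by
  apply h.ab Q
  obtain ⟨m, hm⟩ := Q.2.exists_card_eq
  rw [hm]
  intro hd
  exact c.hqp ((Nat.prime_dvd_prime_iff_eq Fact.out Fact.out).mp
    ((Fact.out : p.Prime).dvd_of_dvd_pow hd)).symm

theorem Cfg.conj_ne (h : Hyp p G) (c : Cfg P q k Q v u) {i j : ℕ} (hij : i < j) (hj : j < p)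
    {a b : G} (haC : a ∈ centralizer ((P : Subgroup G) : Set G))
    (hbC : b ∈ centralizer ((P : Subgroup G) : Set G)) (ha1 : a ≠ 1)
    (hcop : (orderOf a).Coprime p) :
    v ^ i * a * (v ^ i)⁻¹ ≠ v ^ j * b * (v ^ j)⁻¹ := by
  intro heq
  have hd : v ^ (j - i) ∉ normalizer ((P : Subgroup G) : Set G) :=
    pow_not_mem_normalizer P c.hov c.hvN (by omega) (by omega)
  apply hd
  apply h.not_conj P haC hbC hcop ha1
  have e : v ^ j = v ^ i * v ^ (j - i) := by rw [← pow_add]; congr 1; omega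
  rw [e] at heq
  generalize v ^ i = x at heq
  generalize v ^ (j - i) = y at heq
  calc y * b * y⁻¹ = x⁻¹ * (x * y * b * (x * y)⁻¹) * x := by group
    _ = x⁻¹ * (x * a * x⁻¹) * x := by rw [heq]
    _ = a := by group

theorem Cfg.conj_mem (c : Cfg P q k Q v u) (i : ℕ) {a : G} (ha : a ∈ (Q : Subgroup G)) :
    v ^ i * a * (v ^ i)⁻¹ ∈ (Q : Subgroup G) :=
  ((pow_mem c.hvQ i) a).mp ha

theorem Cfg.pow_mem_centralizer (c : Cfg P q k Q v u) (s : ℕ) :
    k ^ s ∈ centralizer ((P : Subgroup G) : Set G) := pow_mem c.hkC s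

theorem Cfg.pow_ne_one (c : Cfg P q k Q v u) {s : ℕ} (hs0 : 0 < s) (hs : s < q) : k ^ s ≠ 1 :=
  pow_ne_one_of_lt_orderOf hs0.ne' (by rw [c.hok]; exact hs)

theorem Cfg.pow_coprime (c : Cfg P q k Q v u) (s : ℕ) : (orderOf (k ^ s)).Coprime p :=
  Nat.Coprime.coprime_dvd_left (orderOf_pow_dvd s)
    (by rw [c.hok]; exact (Nat.coprime_primes Fact.out Fact.out).mpr c.hqp)

/-- The conjugates of the nonidentity powers of `k` by powers of `v`. -/
def cjs (p q : ℕ) (k v : G) : Option (Fin p × Fin (q - 1)) → G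
  | none => 1
  | some (i, s) => v ^ (i : ℕ) * k ^ ((s : ℕ) + 1) * (v ^ (i : ℕ))⁻¹

theorem Cfg.cjs_injective (h : Hyp p G) (c : Cfg P q k Q v u) :
    Function.Injective (cjs p q k v) := by
  have key : ∀ (i : Fin p) (s : Fin (q - 1)),
      v ^ (i : ℕ) * k ^ ((s : ℕ) + 1) * (v ^ (i : ℕ))⁻¹ ≠ 1 := by
    intro i s heq
    apply c.pow_ne_one (s := (s : ℕ) + 1) (by omega) (by have := s.2; omega)
    generalize v ^ (i : ℕ) = x at heq
    generalize k ^ ((s : ℕ) + 1) = y at heq ⊢
    calc y = x⁻¹ * (x * y * x⁻¹) * x := by group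
      _ = 1 := by rw [heq]; group
  rintro (_ | ⟨i, s⟩) (_ | ⟨j, t⟩) hab
  · rfl
  · exact absurd hab.symm (key j t)
  · exact absurd hab (key i s)
  · have hab' : v ^ (i : ℕ) * k ^ ((s : ℕ) + 1) * (v ^ (i : ℕ))⁻¹ =
        v ^ (j : ℕ) * k ^ ((t : ℕ) + 1) * (v ^ (j : ℕ))⁻¹ := hab
    have hij : (i : ℕ) = j := by
      rcases lt_trichotomy (i : ℕ) (j : ℕ) with hlt | heq | hgt
      · exact absurd hab' (c.conj_ne h hlt j.2 (c.pow_mem_centralizer _)
          (c.pow_mem_centralizer _) (c.pow_ne_one (by omega) (by have := s.2; omega))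
          (c.pow_coprime _))
      · exact heq
      · exact absurd hab'.symm (c.conj_ne h hgt i.2 (c.pow_mem_centralizer _)
          (c.pow_mem_centralizer _) (c.pow_ne_one (by omega) (by have := t.2; omega))
          (c.pow_coprime _))
    have hst : (s : ℕ) + 1 = (t : ℕ) + 1 := by
      rw [hij] at hab'
      have h1 : k ^ ((s : ℕ) + 1) = k ^ ((t : ℕ) + 1) :=
        mul_left_cancel (mul_right_cancel hab')
      exact pow_injOn_Iio_orderOf (by rw [Set.mem_Iio, c.hok]; have := s.2; omega)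
        (by rw [Set.mem_Iio, c.hok]; have := t.2; omega) h1
    have hi : i = j := Fin.ext hij
    have hs : s = t := Fin.ext (by omega)
    rw [hi, hs]

theorem arith {p q : ℕ} (hp : p.Prime) (hq : q.Prime) (hle : p * (q - 1) + 1 ≤ q * q)
    (hdvd : q ∣ p - 1) : p = 3 ∧ q = 2 := by
  have hq2 := hq.two_le
  have hp2 := hp.two_le
  obtain ⟨r, rfl⟩ : ∃ r, q = r + 1 := ⟨q - 1, by omega⟩
  simp only [Nat.add_sub_cancel] at hle
  have h1 : p * r ≤ (r + 2) * r := by nlinarith [hle]
  have h2 : p ≤ r + 2 := Nat.le_of_mul_le_mul_right h1 (by omega)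
  have h3 : r + 1 ≤ p - 1 := Nat.le_of_dvd (by omega) hdvd
  have h4 : p = r + 2 := by omega
  subst h4
  rcases hq.eq_two_or_odd with h | h
  · exact ⟨by omega, by omega⟩
  · rcases hp.eq_two_or_odd with h' | h'
    · omega
    · omega

theorem Cfg.numerics (h : Hyp p G) (c : Cfg P q k Q v u) : p = 3 ∧ q = 2 := by
  have hpp : p.Prime := Fact.out
  have hqq : q.Prime := Fact.out
  have hle : p * (q - 1) + 1 ≤ q * q := by
    have hEQ : torsionSub (Q : Subgroup G) (c.comm h) q ≤ (Q : Subgroup G) := fun a ha => ha.1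
    obtain ⟨m₁, m₂, h1, -, -, h4, -⟩ := c.card_le h _ hEQ
    obtain ⟨h5, h6⟩ := h4 q hqq.pos (fun b hb => hb.2)
    have hcard : Nat.card ↥(torsionSub (Q : Subgroup G) (c.comm h) q) ≤ q * q := by
      rw [h1]; exact Nat.mul_le_mul h5 h6
    have hmem : ∀ o, cjs p q k v o ∈ torsionSub (Q : Subgroup G) (c.comm h) q := by
      rintro (_ | ⟨i, s⟩)
      · exact Subgroup.one_mem _
      · refine ⟨c.conj_mem _ (pow_mem c.hkQ _), ?_⟩
        show (v ^ (i : ℕ) * k ^ ((s : ℕ) + 1) * (v ^ (i : ℕ))⁻¹) ^ q = 1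
        rw [conj_pow, ← pow_mul, mul_comm, pow_mul]
        nth_rewrite 1 [← c.hok]
        rw [pow_orderOf_eq_one, one_pow, mul_one, mul_inv_cancel]
    have hinj : Function.Injective
        (fun o => (⟨cjs p q k v o, hmem o⟩ : ↥(torsionSub (Q : Subgroup G) (c.comm h) q))) :=
      fun a b hab => c.cjs_injective h (congrArg Subtype.val hab)
    have h7 := Nat.card_le_card_of_injective _ hinj
    rw [Finite.card_option, Nat.card_prod, Nat.card_fin, Nat.card_fin] at h7
    exact h7.trans hcard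
  have hmod : p ≡ 1 [MOD q] := by
    have hx : orderOf (v * k * v⁻¹) = q := by rw [orderOf_conj', c.hok]
    have hxQ : v * k * v⁻¹ ∈ (Q : Subgroup G) := (c.hvQ k).mp c.hkQ
    have hfix : ∀ a ∈ zpowers u, v * k * v⁻¹ * a = a * (v * k * v⁻¹) → a = 1 := by
      intro a ha hxa
      by_contra ha1
      have hoa : orderOf a = p := by
        have h2 : orderOf a ∣ p := by
          have := Subgroup.orderOf_dvd_natCard _ ha
          rwa [Nat.card_zpowers, c.hou] at this
        rcases (Nat.dvd_prime hpp).mp h2 with h3 | h3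
        · exact absurd (orderOf_eq_one_iff.mp h3) ha1
        · exact h3
      have haP : a ∈ (P : Subgroup G) := by
        obtain ⟨i, rfl⟩ := ha
        exact zpow_mem c.huP i
      have hxC := h.mem_centralizer_of_commute P (c.hQN hxQ) (c.orderOf_coprime hxQ) haP hoa hxa
      apply c.hvN
      apply h.not_conj P hxC c.hkC (c.orderOf_coprime hxQ) _ rfl
      intro hx1
      rw [hx1, orderOf_one] at hx
      exact hqq.one_lt.ne hx
    have h1 := card_modEq_one_of_fpf (v * k * v⁻¹) hx (zpowers u)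
      (c.le_normalizer_zpowers h hxQ) hfix
    rwa [Nat.card_zpowers, c.hou] at h1
  exact arith hpp hqq hle ((Nat.modEq_iff_dvd' hpp.one_lt.le).mp hmod.symm)

theorem Cfg.card_le_four (h : Hyp p G) (c : Cfg P q k Q v u) (hp3 : p = 3) :
    Nat.card ↥(Q : Subgroup G) ≤ 4 := by
  obtain ⟨m₁, m₂, h1, h2, h3, -, -⟩ := c.card_le h (Q : Subgroup G) le_rfl
  rw [hp3] at h2 h3
  have h4 : m₁ ≤ 2 := Nat.le_of_dvd (by norm_num) h2
  have h5 : m₂ ≤ 2 := Nat.le_of_dvd (by norm_num) h3
  rw [h1]
  exact Nat.mul_le_mul h4 h5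

theorem Cfg.involution (h : Hyp p G) (c : Cfg P q k Q v u) (hp3 : p = 3) (hq2 : q = 2) {a : G}
    (ha : a ∈ (Q : Subgroup G)) (ha1 : a ≠ 1) : ∃ g : G, a = g * k * g⁻¹ := by
  have hmem : ∀ o, cjs p q k v o ∈ (Q : Subgroup G) := by
    rintro (_ | ⟨i, s⟩)
    · exact Subgroup.one_mem _
    · exact c.conj_mem _ (pow_mem c.hkQ _)
  have hinj : Function.Injective (fun o => (⟨cjs p q k v o, hmem o⟩ : ↥(Q : Subgroup G))) :=
    fun a b hab => c.cjs_injective h (congrArg Subtype.val hab)
  have hcard : Nat.card ↥(Q : Subgroup G) ≤ Nat.card (Option (Fin p × Fin (q - 1))) := by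
    rw [Finite.card_option, Nat.card_prod, Nat.card_fin, Nat.card_fin]
    have e : p * (q - 1) + 1 = 4 := by rw [hp3, hq2]
    rw [e]
    exact c.card_le_four h hp3
  obtain ⟨o, ho⟩ := (Function.Injective.bijective_of_nat_card_le hinj hcard).2 ⟨a, ha⟩
  have ho' : cjs p q k v o = a := congrArg Subtype.val ho
  match o, ho' with
  | none, ho' => exact absurd ho'.symm ha1
  | some (i, s), ho' =>
    refine ⟨v ^ (i : ℕ), ?_⟩
    have hs : (s : ℕ) = 0 := by have := s.2; omega
    rw [← ho']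
    show v ^ (i : ℕ) * k ^ ((s : ℕ) + 1) * (v ^ (i : ℕ))⁻¹ = _
    rw [hs, zero_add, pow_one]

theorem Cfg.involution' (h : Hyp p G) (c : Cfg P q k Q v u) (hp3 : p = 3) (hq2 : q = 2) {t : G}
    (ht : orderOf t = 2) : ∃ g : G, t = g * k * g⁻¹ := by
  have hpg : IsPGroup q ↥(zpowers t) :=
    IsPGroup.of_card (n := 1) (by rw [Nat.card_zpowers, ht, hq2, pow_one])
  obtain ⟨x, hx⟩ := Cfsg.Agent.Lib.Helper33.Conj.exists_cj_le_sylow Q hpg
  have hxt : x * t * x⁻¹ ∈ (Q : Subgroup G) :=
    hx (Cfsg.Agent.Lib.Helper33.Conj.conj_mem_cj (Subgroup.mem_zpowers t))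
  have hxt1 : x * t * x⁻¹ ≠ 1 := by
    intro h1
    have : t = x⁻¹ * (x * t * x⁻¹) * x := by group
    rw [h1] at this
    rw [this] at ht
    simp at ht
  obtain ⟨g, hg⟩ := c.involution h hp3 hq2 hxt hxt1
  refine ⟨x⁻¹ * g, ?_⟩
  calc t = x⁻¹ * (x * t * x⁻¹) * x := by group
    _ = x⁻¹ * (g * k * g⁻¹) * x := by rw [hg]
    _ = x⁻¹ * g * k * (x⁻¹ * g)⁻¹ := by group

end CfgLemmas

theorem Hyp.exists_k (_h : Hyp p G) (P : Sylow p G)
    (hP : ¬ centralizer ((P : Subgroup G) : Set G) ≤ P) :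
    ∃ (q : ℕ) (k : G), q.Prime ∧ q ≠ p ∧ k ∈ centralizer ((P : Subgroup G) : Set G) ∧
      orderOf k = q := by
  obtain ⟨c, hcC, hcP⟩ := SetLike.not_le_iff_exists.mp hP
  have hex : ∃ q : ℕ, q.Prime ∧ q ∣ orderOf c ∧ q ≠ p := by
    by_contra hcon
    push Not at hcon
    have h1 := Nat.eq_prime_pow_of_unique_prime_dvd (orderOf_pos c).ne'
      (fun {d} hd hdvd => hcon d hd hdvd)
    exact hcP (mem_sylow_of_mem_normalizer P (Subgroup.centralizer_le_normalizer _ hcC) h1)
  obtain ⟨q, hq, hqd, hqp⟩ := hex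
  exact ⟨q, c ^ (orderOf c / q), hq, hqp, pow_mem hcC _,
    orderOf_pow_orderOf_div (orderOf_pos c).ne' hqd⟩

theorem Hyp.prime_eq (h : Hyp p G) (P : Sylow p G) {q : ℕ} [Fact q.Prime] {k : G}
    (hkC : k ∈ centralizer ((P : Subgroup G) : Set G)) (hok : orderOf k = q) (hqp : q ≠ p) :
    p = 3 ∧ q = 2 := by
  obtain ⟨Q, v, u, c⟩ := h.exists_cfg P hkC hok hqp
  exact c.numerics h

theorem Hyp.involution_conj (h : Hyp p G) (hp3 : p = 3) (P : Sylow p G) {k : G}
    (hkC : k ∈ centralizer ((P : Subgroup G) : Set G)) (hok : orderOf k = 2) {t : G}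
    (ht : orderOf t = 2) : ∃ g : G, t = g * k * g⁻¹ := by
  haveI : Fact (Nat.Prime 2) := ⟨Nat.prime_two⟩
  obtain ⟨Q, v, u, c⟩ := h.exists_cfg P hkC hok (by omega)
  exact c.involution' h hp3 rfl ht

theorem Hyp.card_normalizer (h : Hyp p G) (hp3 : p = 3) (P : Sylow p G) {k : G}
    (hkC : k ∈ centralizer ((P : Subgroup G) : Set G)) (hok : orderOf k = 2) :
    Nat.card ↥(normalizer ((P : Subgroup G) : Set G)) = 4 * Nat.card ↥(P : Subgroup G) ∧
    Nat.card ↥(centralizer ((P : Subgroup G) : Set G)) = 2 * Nat.card ↥(P : Subgroup G) := by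
  haveI : Fact (Nat.Prime 2) := ⟨Nat.prime_two⟩
  have hpp : p.Prime := Fact.out
  obtain ⟨Q, v, u, c⟩ := h.exists_cfg P hkC hok (by omega)
  obtain ⟨Y, hY⟩ := exists_ncompl P
  obtain ⟨y, hyY, hyC⟩ := hY.exists_not_centralizer h
  have hk1 : k ≠ 1 := by
    rintro rfl
    rw [orderOf_one] at hok
    omega
  have hkcop : (orderOf k).Coprime p := by rw [hok, hp3]; norm_num
  have hkY : k ∈ Y := hY.mem_of_centralizer hkC hkcop
  have hNz := h.normalizer_le_normalizer_zpowers P c.huP c.hou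
  obtain ⟨m, hm1, hm2, -⟩ := core_count c.hou Y (hY.1.trans hNz)
  have hK₀C : ∀ a ∈ Y ⊓ centralizer ({u} : Set G),
      a ∈ centralizer ((P : Subgroup G) : Set G) := by
    rintro a ⟨haY, hau⟩
    have hau' : a ∈ centralizer ({u} : Set G) := hau
    rw [Subgroup.mem_centralizer_singleton_iff] at hau'
    exact h.mem_centralizer_of_commute P (hY.1 haY) (hY.orderOf_coprime haY) c.huP c.hou hau'
  obtain ⟨a, hK₀2⟩ : ∃ a : ℕ, Nat.card ↥(Y ⊓ centralizer ({u} : Set G)) = 2 ^ a := by
    refine ⟨_, Nat.eq_prime_pow_of_unique_prime_dvd Nat.card_pos.ne' ?_⟩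
    intro r hr hrd
    haveI : Fact r.Prime := ⟨hr⟩
    obtain ⟨x, hx⟩ := exists_prime_orderOf_dvd_card' (G := ↥(Y ⊓ centralizer ({u} : Set G))) r hrd
    have hx' : orderOf (x : G) = r := by rw [Subgroup.orderOf_coe]; exact hx
    have hrp : r ≠ p := by
      intro hrp
      have := hY.orderOf_coprime x.2.1
      rw [hx', hrp, Nat.coprime_self] at this
      exact hpp.one_lt.ne' this
    exact (h.prime_eq P (hK₀C x x.2) hx' hrp).2
  have hkK₀ : k ∈ Y ⊓ centralizer ({u} : Set G) := by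
    refine ⟨hkY, ?_⟩
    show k ∈ centralizer ({u} : Set G)
    rw [Subgroup.mem_centralizer_singleton_iff]
    exact ((mem_centralizer_iff.mp hkC) u c.huP).symm
  have ha : 1 ≤ a := by
    have h1 : 2 ∣ Nat.card ↥(Y ⊓ centralizer ({u} : Set G)) := by
      rw [← hok]
      exact Subgroup.orderOf_dvd_natCard _ hkK₀
    rw [hK₀2] at h1
    by_contra h0
    have h0' : a = 0 := by omega
    rw [h0', pow_zero] at h1
    omega
  rw [hp3] at hm2
  have hm : m = 2 := by
    rcases (Nat.dvd_prime Nat.prime_two).mp hm2 with h1 | h1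
    · exfalso
      rw [h1, one_mul] at hm1
      have heq : Y ⊓ centralizer ({u} : Set G) = Y :=
        Subgroup.eq_of_le_of_card_ge inf_le_left hm1.le
      apply hyC
      apply hK₀C
      rw [heq]
      exact hyY
    · exact h1
  -- Y is a 2-group, hence of order at most 4
  have hYcard : Nat.card ↥Y = 2 ^ (a + 1) := by
    rw [hm1, hm, pow_succ, mul_comm, ← hK₀2]
  have hYle : Nat.card ↥Y ≤ 4 := by
    have hYp : IsPGroup 2 ↥Y := IsPGroup.of_card hYcard
    obtain ⟨Q', hQ'⟩ := hYp.exists_le_sylow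
    have h1 := Subgroup.card_le_of_le hQ'
    have h2 : Nat.card ↥(Q' : Subgroup G) = Nat.card ↥(Q : Subgroup G) := by
      rw [Sylow.card_eq_multiplicity, Sylow.card_eq_multiplicity]
    have h3 := c.card_le_four h hp3
    omega
  have hY4 : Nat.card ↥Y = 4 := by
    apply le_antisymm hYle
    rw [hYcard]
    calc 4 = 2 ^ (1 + 1) := by norm_num
      _ ≤ 2 ^ (a + 1) := Nat.pow_le_pow_right (by norm_num) (by omega)
  have hN : Nat.card ↥(normalizer ((P : Subgroup G) : Set G)) = 4 * Nat.card ↥(P : Subgroup G) := by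
    rw [← hY.2.2.2, hY4, mul_comm]
  refine ⟨hN, ?_⟩
  have hPC : (P : Subgroup G) ≤ centralizer ((P : Subgroup G) : Set G) := by
    intro a ha
    rw [mem_centralizer_iff]
    intro b hb
    exact h.sylow_comm P b hb a ha
  have hCN : centralizer ((P : Subgroup G) : Set G) ≤ normalizer ((P : Subgroup G) : Set G) :=
    Subgroup.centralizer_le_normalizer _
  obtain ⟨d, hd⟩ := Subgroup.card_dvd_of_le hPC
  have hd4 : d ∣ 4 := by
    have h1 := Subgroup.card_dvd_of_le hCN
    rw [hN, hd, mul_comm] at h1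
    exact Nat.dvd_of_mul_dvd_mul_right Nat.card_pos h1
  have hdle : d ≤ 4 := Nat.le_of_dvd (by norm_num) hd4
  have hd1 : d ≠ 1 := by
    intro h1
    rw [h1, mul_one] at hd
    have heq : (P : Subgroup G) = centralizer ((P : Subgroup G) : Set G) :=
      Subgroup.eq_of_le_of_card_ge hPC hd.le
    have hkP : k ∈ (P : Subgroup G) ⊓ Y := ⟨by rw [heq]; exact hkC, hkY⟩
    rw [hY.2.1, mem_bot] at hkP
    exact hk1 hkP
  have hd4' : d ≠ 4 := by
    intro h1
    rw [h1] at hd
    have heq : centralizer ((P : Subgroup G) : Set G) = normalizer ((P : Subgroup G) : Set G) :=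
      Subgroup.eq_of_le_of_card_ge hCN (by rw [hN, hd, mul_comm])
    apply hyC
    rw [heq]
    exact hY.1 hyY
  have hd2 : d = 2 := by
    interval_cases d
    · simp at hd4
    · exact absurd rfl hd1
    · rfl
    · norm_num at hd4
    · exact absurd rfl hd4'
  rw [hd, hd2, mul_comm]

/-- The centralizer of `P` is a TI-subset. -/
theorem Hyp.ti (h : Hyp p G) (P : Sylow p G) :
    Cfsg.IsTISubset ((centralizer ((P : Subgroup G) : Set G) : Subgroup G) : Set G) := by
  intro g hg x hx hgx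
  by_contra hx1
  apply hg
  have hgN : g ∈ normalizer ((P : Subgroup G) : Set G) := by
    by_cases hpx : p ∣ orderOf x
    · have hw : orderOf (x ^ (orderOf x / p)) = p :=
        orderOf_pow_orderOf_div (orderOf_pos x).ne' hpx
      have hwP : x ^ (orderOf x / p) ∈ (P : Subgroup G) :=
        mem_sylow_of_mem_normalizer P (Subgroup.centralizer_le_normalizer _ (pow_mem hx _))
          (k := 1) (by rw [hw, pow_one])
      apply h.mem_normalizer_of_conj_mem P hwP hw
      apply mem_sylow_of_mem_normalizer P (k := 1) _ (by rw [orderOf_conj', hw, pow_one])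
      apply Subgroup.centralizer_le_normalizer
      rw [← conj_pow]
      exact pow_mem hgx _
    · have hcop : (orderOf (g * x * g⁻¹)).Coprime p := by
        rw [orderOf_conj', Nat.coprime_comm]
        exact (Fact.out : p.Prime).coprime_iff_not_dvd.mpr hpx
      apply h.not_conj P hgx hx hcop _ rfl
      intro h1
      apply hx1
      calc x = g⁻¹ * (g * x * g⁻¹) * g := by group
        _ = 1 := by rw [h1]; group
  apply mem_normalizer_of_conj
  intro y hy
  rw [mem_centralizer_iff] at hy ⊢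
  intro z hz
  have hz' : g⁻¹ * z * g ∈ (P : Subgroup G) := by
    have := ((inv_mem hgN) z).mp hz
    rwa [inv_inv] at this
  have h2 := hy _ hz'
  calc z * (g * y * g⁻¹) = g * (g⁻¹ * z * g * y) * g⁻¹ := by group
    _ = g * (y * (g⁻¹ * z * g)) * g⁻¹ := by rw [h2]
    _ = g * y * g⁻¹ * z := by group

theorem card_normalizer_eq (P P' : Sylow p G) :
    Nat.card ↥(normalizer ((P : Subgroup G) : Set G)) =
      Nat.card ↥(normalizer ((P' : Subgroup G) : Set G)) := by
  have h1 := (normalizer ((P : Subgroup G) : Set G)).card_mul_index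
  have h2 := (normalizer ((P' : Subgroup G) : Set G)).card_mul_index
  have e1 : Nat.card (Sylow p G) = (normalizer ((P : Subgroup G) : Set G)).index :=
    Sylow.card_eq_index_normalizer P
  have e2 : Nat.card (Sylow p G) = (normalizer ((P' : Subgroup G) : Set G)).index :=
    Sylow.card_eq_index_normalizer P'
  rw [← e1] at h1
  rw [← e2] at h2
  have h3 : 0 < Nat.card (Sylow p G) := Nat.card_pos
  exact Nat.eq_of_mul_eq_mul_right h3 (h1.trans h2.symm)

theorem Hyp.card_dvd_of_commute (h : Hyp p G) (hp3 : p = 3) (P : Sylow p G) {k : G}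
    (hkC : k ∈ centralizer ((P : Subgroup G) : Set G)) (hok : orderOf k = 2)
    (hN : Nat.card ↥(normalizer ((P : Subgroup G) : Set G)) = 4 * Nat.card ↥(P : Subgroup G))
    {t : G} (ht : orderOf t = 2) (X : Subgroup G) (hX : ∀ x ∈ X, x * t = t * x) :
    Nat.card ↥X ∣ 4 * Nat.card ↥(P : Subgroup G) := by
  obtain ⟨g, rfl⟩ := h.involution_conj hp3 P hkC hok ht
  have hk1 : k ≠ 1 := by
    rintro rfl
    rw [orderOf_one] at hok
    omega
  have hkcop : (orderOf k).Coprime p := by rw [hok, hp3]; norm_num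
  have hle : X ≤ (normalizer ((P : Subgroup G) : Set G)).map (MulAut.conj g).toMonoidHom := by
    intro x hx
    rw [Cfsg.Agent.Lib.Helper33.Conj.mem_cj]
    apply h.centralizer_le' P hkC hkcop hk1
    rw [Subgroup.mem_centralizer_singleton_iff]
    have h1 := hX x hx
    calc g⁻¹ * x * g * k = g⁻¹ * (x * (g * k * g⁻¹)) * g := by group
      _ = g⁻¹ * (g * k * g⁻¹ * x) * g := by rw [h1]
      _ = k * (g⁻¹ * x * g) := by group
  have h1 := Subgroup.card_dvd_of_le hle
  rwa [Cfsg.Agent.Lib.Helper33.Conj.card_cj, hN] at h1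

theorem Hyp.even (h : Hyp p G) (hp3 : p = 3) (P : Sylow p G) {k : G}
    (hkC : k ∈ centralizer ((P : Subgroup G) : Set G)) (hok : orderOf k = 2)
    (hN : Nat.card ↥(normalizer ((P : Subgroup G) : Set G)) = 4 * Nat.card ↥(P : Subgroup G))
    (H : Subgroup G) (hH : H ≠ ⊤) (h2 : 2 ∣ Nat.card ↥H) :
    Nat.card ↥H ∣ 4 * Nat.card ↥(P : Subgroup G) := by
  haveI : Fact (Nat.Prime 2) := ⟨Nat.prime_two⟩
  have hpp : p.Prime := Fact.out
  obtain ⟨t', ht'⟩ := exists_prime_orderOf_dvd_card' (G := ↥H) 2 h2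
  have ht : orderOf (t' : G) = 2 := by rw [Subgroup.orderOf_coe]; exact ht'
  have htcop : (orderOf t').Coprime p := by rw [ht', hp3]; norm_num
  obtain ⟨S⟩ := (inferInstance : Nonempty (Sylow p ↥H))
  rcases h.ih H hH S with hc | hn
  · obtain ⟨K, hKn, hK⟩ := (Cfsg.Agent.Lib.Helper2.PComp.hasNormalPComplement_iff S).mp hc
    haveI := hKn
    have htK : t' ∈ K := Cfsg.Agent.Lib.Helper2.PComp.mem_of_coprime_orderOf S K hK htcop
    have hKcop : (Nat.card ↥K).Coprime p :=
      Cfsg.Agent.Lib.Helper2.PComp.card_coprime_of_isComplement' S K hK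
    have hcard : Nat.card ↥(K.map H.subtype) = Nat.card ↥K :=
      Subgroup.card_map_of_injective H.subtype_injective
    have hnp : ¬ p ∣ Nat.card ↥(K.map H.subtype) := by
      rw [hcard]
      intro hd
      exact hpp.one_lt.ne' (Nat.eq_one_of_dvd_coprimes hKcop hd dvd_rfl)
    have hab := h.ab _ hnp
    have htK' : (t' : G) ∈ K.map H.subtype := ⟨t', htK, rfl⟩
    have h1 := h.card_dvd_of_commute hp3 P hkC hok hN ht (K.map H.subtype)
      (fun x hx => hab x hx _ htK')
    rw [hcard] at h1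
    obtain ⟨n, hn⟩ := P.2.exists_card_eq
    have h3 : Nat.card ↥K ∣ 4 := by
      rw [hn] at h1
      exact Nat.Coprime.dvd_of_dvd_mul_right (Nat.Coprime.pow_right n hKcop) h1
    have h4 : Nat.card ↥(S : Subgroup ↥H) ∣ Nat.card ↥(P : Subgroup G) := by
      rw [S.card_eq_multiplicity, P.card_eq_multiplicity]
      apply pow_dvd_pow
      exact (Nat.factorization_le_iff_dvd Nat.card_pos.ne' Nat.card_pos.ne').mpr
        (Subgroup.card_subgroup_dvd_card H) p
    rw [← hK.card_mul]
    exact Nat.mul_dvd_mul h3 h4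
  · by_cases hpH : p ∣ Nat.card ↥H
    · obtain ⟨P'', hP''⟩ := (S.2.map H.subtype).exists_le_sylow
      have hS : p ∣ Nat.card ↥(S : Subgroup ↥H) := S.dvd_card_of_dvd_card hpH
      obtain ⟨x, hx⟩ := exists_prime_orderOf_dvd_card' (G := ↥(S : Subgroup ↥H)) p hS
      have hx' : orderOf (((x : ↥H) : G)) = p := by
        rw [Subgroup.orderOf_coe, Subgroup.orderOf_coe]; exact hx
      have hxP : ((x : ↥H) : G) ∈ (P'' : Subgroup G) := hP'' ⟨(x : ↥H), x.2, rfl⟩
      have hle : H ≤ normalizer ((P'' : Subgroup G) : Set G) := by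
        intro g hg
        apply h.mem_normalizer_of_conj_mem P'' hxP hx'
        apply hP''
        exact ⟨⟨g, hg⟩ * (x : ↥H) * (⟨g, hg⟩ : ↥H)⁻¹, hn.conj_mem _ x.2 _, rfl⟩
      have h1 := Subgroup.card_dvd_of_le hle
      rwa [card_normalizer_eq P'' P, hN] at h1
    · have hab := h.ab H hpH
      exact h.card_dvd_of_commute hp3 P hkC hok hN ht H (fun x hx => hab x hx _ t'.2)

/-- The case where some Sylow `p`-subgroup is not self-centralizing is impossible. -/
theorem Hyp.case_nonself (h : Hyp p G) (P : Sylow p G)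
    (hP : ¬ centralizer ((P : Subgroup G) : Set G) ≤ P) : False := by
  obtain ⟨q, k, hq, hqp, hkC, hok⟩ := h.exists_k P hP
  haveI : Fact q.Prime := ⟨hq⟩
  obtain ⟨hp3, hq2⟩ := h.prime_eq P hkC hok hqp
  rw [hq2] at hok
  obtain ⟨hN, hC⟩ := h.card_normalizer hp3 P hkC hok
  have hTI := h.ti P
  have heven := h.even hp3 P hkC hok hN
  have hab : ∀ a ∈ (P : Subgroup G), ∀ b ∈ (P : Subgroup G), a * b = b * a := h.sylow_comm P
  have hs := h.simple
  subst hp3
  exact Cfsg.Agent.S4018.result P ⟨⟨fun a b => Subtype.ext (hab a a.2 b b.2)⟩⟩ hN hC hTI heven hs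

theorem Hyp.false (h : Hyp p G) : False := by
  by_cases hself : ∀ P : Sylow p G, centralizer ((P : Subgroup G) : Set G) ≤ P
  · exact h.case_self hself
  · push Not at hself
    obtain ⟨P, hP⟩ := hself
    exact h.case_nonself P hP

end Local

section Main

variable {G : Type u} [Group G] [Finite G] {p : ℕ} [Fact p.Prime]

omit [Finite G] in
theorem comm_of_isCyclic (R : Subgroup G) [IsCyclic ↥R] :
    ∀ a ∈ R, ∀ b ∈ R, a * b = b * a := by
  intro a ha b hb
  obtain ⟨g, hg⟩ := IsCyclic.exists_generator (α := ↥R)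
  obtain ⟨i, hi⟩ := hg ⟨a, ha⟩
  obtain ⟨j, hj⟩ := hg ⟨b, hb⟩
  have hi' : a = (g : G) ^ i := by
    have := congrArg Subtype.val hi
    simpa using this.symm
  have hj' : b = (g : G) ^ j := by
    have := congrArg Subtype.val hj
    simpa using this.symm
  rw [hi', hj']
  exact (Commute.zpow_zpow (Commute.refl (g : G)) i j).eq

/-- A `p'`-element normalizing a cyclic `p`-group either centralizes it, or every element of the
group is a commutator with it. -/
theorem cyc_aut' (P : Subgroup G)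
    [IsCyclic ↥P] (hP : IsPGroup p ↥P) {a : G} (ha : a ∈ normalizer (P : Set G))
    (hcop : (orderOf a).Coprime p) :
    (∀ x ∈ P, a * x = x * a) ∨ (∀ x ∈ P, ∃ z ∈ P, x = a * z * a⁻¹ * z⁻¹) := by
  have hKP : zpowers a ≤ normalizer (P : Set G) := zpowers_le.mpr ha
  let _ := MulDistribMulAction.compHom ↥P (P.normalizerMonoidHom.comp (Subgroup.inclusion hKP))
  let ϕ := MulDistribMulAction.toMonoidHomZModOfIsCyclic ↥P ↥(zpowers a) rfl
  have key : ∀ (g : ↥P) (k : ↥(zpowers a)) (n : ℤ), ϕ k = n → k • g = g ^ n :=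
    fun g k n h => MulDistribMulAction.toMonoidHomZModOfIsCyclic_apply rfl k g n h
  have hsmul : ∀ (g : ↥P) (k : ↥(zpowers a)), ((k • g : ↥P) : G) = k * g * (k : G)⁻¹ :=
    fun g k => rfl
  obtain ⟨m, hm⟩ := hP.exists_card_eq
  let a' : ↥(zpowers a) := ⟨a, mem_zpowers a⟩
  have hPK : (Nat.card ↥P).Coprime (Nat.card ↥(zpowers a)) := by
    rw [hm, Nat.card_zpowers]
    exact (Nat.Coprime.pow_right m hcop).symm
  have hord : (orderOf (ϕ a')).Coprime (Nat.card ↥P) :=
    hPK.symm.coprime_dvd_left ((orderOf_map_dvd ϕ a').trans (orderOf_dvd_natCard a'))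
  rcases ZMod.eq_one_or_isUnit_sub_one hm (ϕ a') hord with h1 | h1
  · left
    intro x hx
    have := key ⟨x, hx⟩ a' 1 (by rw [h1]; simp)
    have h2 := congrArg Subtype.val this
    rw [hsmul] at h2
    simp only [zpow_one] at h2
    calc a * x = a * x * a⁻¹ * a := by group
      _ = x * a := by rw [h2]
  · right
    intro x hx
    obtain ⟨⟨w, v, -, hvw⟩, hw : w = ϕ a' - 1⟩ := h1
    rw [← w.intCast_zmod_cast] at hw hvw
    rw [← v.intCast_zmod_cast, ← Int.cast_mul, ← Int.cast_one,
      ZMod.intCast_eq_intCast_iff] at hvw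
    have h3 : ϕ a' = ((w.cast + 1 : ℤ) : ZMod (Nat.card ↥P)) := by
      rw [Int.cast_add, hw]; simp
    refine ⟨x ^ (v.cast : ℤ), zpow_mem hx _, ?_⟩
    have := key ⟨x ^ (v.cast : ℤ), zpow_mem hx _⟩ a' (w.cast + 1) h3
    have h2 := congrArg Subtype.val this
    rw [hsmul] at h2
    simp only [Subgroup.coe_zpow] at h2
    have h6 : x ^ ((v.cast : ℤ) * (w.cast : ℤ)) = x ^ (1 : ℤ) := by
      rw [zpow_eq_zpow_iff_modEq]
      have h7 : (orderOf x : ℤ) ∣ (Nat.card ↥P : ℤ) := by
        have : orderOf (⟨x, hx⟩ : ↥P) ∣ Nat.card ↥P := orderOf_dvd_natCard _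
        rw [← Subgroup.orderOf_coe] at this
        exact Int.natCast_dvd_natCast.mpr this
      exact hvw.of_dvd h7
    rw [h2, zpow_add_one, mul_inv_cancel_right, ← zpow_mul, h6, zpow_one]

theorem exists_coprime_not_centralizer (P : Sylow p G) [IsCyclic ↥(P : Subgroup G)]
    (hNC : ¬ normalizer ((P : Subgroup G) : Set G) ≤ centralizer ((P : Subgroup G) : Set G)) :
    ∃ y ∈ normalizer ((P : Subgroup G) : Set G), (orderOf y).Coprime p ∧
      y ∉ centralizer ((P : Subgroup G) : Set G) := by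
  obtain ⟨Y, hY⟩ := exists_ncompl P
  by_contra hcon
  push Not at hcon
  apply hNC
  rw [← hY.2.2.1]
  apply sup_le
  · intro a ha
    rw [mem_centralizer_iff]
    intro b hb
    exact comm_of_isCyclic (P : Subgroup G) b hb a ha
  · intro y hy
    exact hcon y (hY.1 hy) (hY.orderOf_coprime hy)

/-- Hypotheses of the theorem, in a form inherited by subgroups and `p'`-quotients. -/
structure HC (p : ℕ) (G : Type u) [Group G] : Prop where
  cyc : ∀ R : Subgroup G, IsPGroup p ↥R → IsCyclic ↥R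
  ab : ∀ H : Subgroup G, ¬ p ∣ Nat.card ↥H → ∀ a ∈ H, ∀ b ∈ H, a * b = b * a

/-- Conclusion of the theorem. -/
def Conc (p : ℕ) (G : Type u) [Group G] : Prop :=
  ∀ P : Sylow p G, Cfsg.HasNormalPComplement p G ∨ (P : Subgroup G).Normal

omit [Finite G] [Fact p.Prime] in
theorem HC.subgroup (hc : HC p G) (H : Subgroup G) : HC p ↥H := by
  refine ⟨fun R hR => ?_, fun X hX a ha b hb => ?_⟩
  · haveI : IsCyclic ↥(R.map H.subtype) := hc.cyc _ (hR.map H.subtype)
    let e := R.equivMapOfInjective H.subtype H.subtype_injective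
    exact isCyclic_of_surjective e.symm e.symm.surjective
  · have hcard : Nat.card ↥(X.map H.subtype) = Nat.card ↥X :=
      Subgroup.card_map_of_injective H.subtype_injective
    have := hc.ab (X.map H.subtype) (by rw [hcard]; exact hX) (a : G) ⟨a, ha, rfl⟩
      (b : G) ⟨b, hb, rfl⟩
    exact Subtype.ext this

theorem HC.quotient (hc : HC p G) (A : Subgroup G) [A.Normal] (hA : (Nat.card ↥A).Coprime p) :
    HC p (G ⧸ A) := by
  have hpp : p.Prime := Fact.out
  refine ⟨fun R hR => ?_, fun X hX a ha b hb => ?_⟩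
  · obtain ⟨P⟩ := (inferInstance : Nonempty (Sylow p G))
    haveI : IsCyclic ↥(P : Subgroup G) := hc.cyc P P.2
    have hcyc : IsCyclic ↥((P.mapSurjective (QuotientGroup.mk'_surjective A) :
        Sylow p (G ⧸ A)) : Subgroup (G ⧸ A)) := by
      rw [Sylow.coe_mapSurjective]
      exact isCyclic_of_surjective ((QuotientGroup.mk' A).subgroupMap (P : Subgroup G))
        ((QuotientGroup.mk' A).subgroupMap_surjective (P : Subgroup G))
    exact Cfsg.Agent.S4403.cyc_of_pgroup _ hcyc R hR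
  · have h1 : Nat.card ↥(X.comap (QuotientGroup.mk' A)) = Nat.card ↥X * Nat.card ↥A := by
      have h2 : (X.comap (QuotientGroup.mk' A)).index = X.index :=
        Subgroup.index_comap_of_surjective _ (QuotientGroup.mk'_surjective A)
      have h3 := Subgroup.card_mul_index (X.comap (QuotientGroup.mk' A))
      have h4 := Subgroup.card_mul_index X
      have h5 := Subgroup.card_eq_card_quotient_mul_card_subgroup A
      have h6 : X.index ≠ 0 := Subgroup.index_ne_zero_of_finite
      rw [h2] at h3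
      apply Nat.eq_of_mul_eq_mul_right (Nat.pos_of_ne_zero h6)
      rw [h3, h5, ← h4]; ring
    have hnp : ¬ p ∣ Nat.card ↥(X.comap (QuotientGroup.mk' A)) := by
      rw [h1]
      intro hd
      rcases hpp.dvd_mul.mp hd with h | h
      · exact hX h
      · exact hpp.one_lt.ne' (Nat.eq_one_of_dvd_coprimes hA h dvd_rfl)
    obtain ⟨a', rfl⟩ := QuotientGroup.mk'_surjective A a
    obtain ⟨b', rfl⟩ := QuotientGroup.mk'_surjective A b
    have := hc.ab _ hnp a' (Subgroup.mem_comap.mpr ha) b' (Subgroup.mem_comap.mpr hb)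
    rw [← map_mul, ← map_mul, this]

theorem conc_of_quotient (hc : HC p G) (A : Subgroup G) [hAn : A.Normal]
    (hA : (Nat.card ↥A).Coprime p) (hq : Conc p (G ⧸ A)) : Conc p G := by
  have hpp : p.Prime := Fact.out
  intro P
  rcases hq (P.mapSurjective (QuotientGroup.mk'_surjective A)) with h1 | h1
  · left
    exact Cfsg.Agent.Lib.Helper70.PNilp.npc_iff.mpr
      (Cfsg.Agent.Lib.Helper70.PNilp.NPC.of_quotient A hA
        (Cfsg.Agent.Lib.Helper70.PNilp.npc_iff.mp h1))
  rw [Sylow.coe_mapSurjective] at h1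
  by_cases hNC : normalizer ((P : Subgroup G) : Set G) ≤ centralizer ((P : Subgroup G) : Set G)
  · left
    exact Cfsg.Agent.Lib.Helper2.PComp.hasNormalPComplement_of_normalizer_le_centralizer P hNC
  right
  haveI : IsCyclic ↥(P : Subgroup G) := hc.cyc P P.2
  obtain ⟨y, hyN, hycop, hyC⟩ := exists_coprime_not_centralizer P hNC
  have hcomm : ∀ x ∈ (P : Subgroup G), ∃ z ∈ (P : Subgroup G), x = y * z * y⁻¹ * z⁻¹ := by
    rcases cyc_aut' (P : Subgroup G) P.2 hyN hycop with h2 | h2
    · exfalso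
      apply hyC
      rw [mem_centralizer_iff]
      intro x hx
      exact (h2 x hx).symm
    · exact h2
  have hyA : y ∈ centralizer (A : Set G) := by
    have hle : zpowers y ≤ normalizer (A : Set G) := by
      rw [Subgroup.normalizer_eq_top_iff.mpr hAn]; exact le_top
    have hcard := Cfsg.Agent.H32.card_sup_dvd (zpowers y) A hle
    have hnp : ¬ p ∣ Nat.card ↥(zpowers y ⊔ A) := by
      intro hd
      have h3 := hd.trans hcard
      rw [Nat.card_zpowers] at h3
      rcases hpp.dvd_mul.mp h3 with h | h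
      · exact hpp.one_lt.ne' (Nat.eq_one_of_dvd_coprimes hycop h dvd_rfl)
      · exact hpp.one_lt.ne' (Nat.eq_one_of_dvd_coprimes hA h dvd_rfl)
    have hab := hc.ab _ hnp
    rw [mem_centralizer_iff]
    intro a ha
    exact hab a (le_sup_right (a := zpowers y) ha) y
      (le_sup_left (b := A) (Subgroup.mem_zpowers y))
  have hPA : ∀ x ∈ (P : Subgroup G), x ∈ centralizer (A : Set G) := by
    intro x hx
    obtain ⟨z, hz, rfl⟩ := hcomm x hx
    have h3 : z * y⁻¹ * z⁻¹ ∈ centralizer (A : Set G) :=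
      (inferInstance : (centralizer (A : Set G)).Normal).conj_mem _ (inv_mem hyA) z
    have e : y * z * y⁻¹ * z⁻¹ = y * (z * y⁻¹ * z⁻¹) := by group
    rw [e]
    exact mul_mem hyA h3
  obtain ⟨n, hn⟩ := P.2.exists_card_eq
  have hpow : ∀ x ∈ (P : Subgroup G), x ^ (p ^ n) = 1 := by
    intro x hx
    have : (⟨x, hx⟩ : ↥(P : Subgroup G)) ^ (Nat.card ↥(P : Subgroup G)) = 1 := pow_card_eq_one'
    rw [hn] at this
    have h2 := congrArg Subtype.val this
    simpa using h2
  constructor
  intro x hx g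
  have h4 : (QuotientGroup.mk' A) (g * x * g⁻¹) ∈ (P : Subgroup G).map (QuotientGroup.mk' A) := by
    rw [map_mul, map_mul, map_inv]
    exact h1.conj_mem _ ⟨x, hx, rfl⟩ _
  obtain ⟨x', hx', hxx⟩ := h4
  have h5 : x'⁻¹ * (g * x * g⁻¹) ∈ A := QuotientGroup.eq.mp hxx
  have hc1 : Commute x' (x'⁻¹ * (g * x * g⁻¹)) :=
    ((mem_centralizer_iff.mp (hPA x' hx')) _ h5).symm
  have h6 : (x'⁻¹ * (g * x * g⁻¹)) ^ (p ^ n) = 1 := by
    have h7 : (x' * (x'⁻¹ * (g * x * g⁻¹))) ^ (p ^ n) =
        x' ^ (p ^ n) * (x'⁻¹ * (g * x * g⁻¹)) ^ (p ^ n) := hc1.mul_pow _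
    have h9 : x' * (x'⁻¹ * (g * x * g⁻¹)) = g * x * g⁻¹ := by group
    have h10 : (g * x * g⁻¹) ^ (p ^ n) = 1 := by
      rw [conj_pow, hpow x hx]; group
    rw [h9, h10, hpow x' hx', one_mul] at h7
    exact h7.symm
  have h11 : x'⁻¹ * (g * x * g⁻¹) = 1 := by
    have hd1 : orderOf (x'⁻¹ * (g * x * g⁻¹)) ∣ p ^ n := orderOf_dvd_of_pow_eq_one h6
    have hd2 : orderOf (x'⁻¹ * (g * x * g⁻¹)) ∣ Nat.card ↥A := Subgroup.orderOf_dvd_natCard A h5
    have : orderOf (x'⁻¹ * (g * x * g⁻¹)) = 1 :=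
      Nat.eq_one_of_dvd_coprimes (Nat.Coprime.pow_right n hA) hd2 hd1
    exact orderOf_eq_one_iff.mp this
  have : g * x * g⁻¹ = x' := by
    calc g * x * g⁻¹ = x' * (x'⁻¹ * (g * x * g⁻¹)) := by group
      _ = x' := by rw [h11, mul_one]
  rw [this]
  exact hx'

theorem conc_of_core_bot (hc : HC p G) (hp : p ∣ Nat.card G) (hO : Cfsg.pPrimeCore p G = ⊥)
    (ih : ∀ H : Subgroup G, H ≠ ⊤ → Conc p ↥H) : Conc p G := by
  have hpp : p.Prime := Fact.out
  intro P
  rcases Cfsg.Agent.S4403.result p hp hO P (hc.cyc P P.2) with h1 | ⟨hs, hnab, hidx⟩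
  · exact Or.inr h1.1
  exfalso
  by_cases hF : Cfsg.generalizedFittingSubgroup G = ⊤
  · have hsurj : Function.Surjective (Cfsg.generalizedFittingSubgroup G).subtype := by
      intro g
      exact ⟨⟨g, by rw [hF]; exact mem_top g⟩, rfl⟩
    haveI : Nontrivial G :=
      (Cfsg.generalizedFittingSubgroup G).subtype_injective.nontrivial
    have hsG : IsSimpleGroup G :=
      IsSimpleGroup.isSimpleGroup_of_surjective (Cfsg.generalizedFittingSubgroup G).subtype hsurj
    have hnc : ¬ ∀ a b : G, a * b = b * a := by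
      intro hcomm
      exact hnab ⟨⟨fun a b => Subtype.ext (hcomm a b)⟩⟩
    exact Hyp.false (p := p) ⟨hsG, hnc, hc.cyc, hc.ab, ih⟩
  · obtain ⟨S⟩ := (inferInstance : Nonempty (Sylow p ↥(Cfsg.generalizedFittingSubgroup G)))
    have hcF := hc.subgroup (Cfsg.generalizedFittingSubgroup G)
    have htop : (S : Subgroup ↥(Cfsg.generalizedFittingSubgroup G)) ≠ ⊤ := by
      intro hS
      have hpg : IsPGroup p ↥(⊤ : Subgroup ↥(Cfsg.generalizedFittingSubgroup G)) := by
        rw [← hS]; exact S.2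
      haveI := hcF.cyc ⊤ hpg
      apply hnab
      exact ⟨⟨fun a b => comm_of_isCyclic (⊤ : Subgroup ↥(Cfsg.generalizedFittingSubgroup G))
        a (mem_top a) b (mem_top b)⟩⟩
    have hbot : (S : Subgroup ↥(Cfsg.generalizedFittingSubgroup G)) ≠ ⊥ := by
      intro hS
      have h1 : ¬ p ∣ Nat.card ↥(Cfsg.generalizedFittingSubgroup G) := by
        intro hd
        have := S.dvd_card_of_dvd_card hd
        rw [hS, Subgroup.card_bot] at this
        exact hpp.one_lt.ne' (Nat.dvd_one.mp this)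
      have h2 := (Cfsg.generalizedFittingSubgroup G).card_mul_index
      rw [← h2] at hp
      rcases hpp.dvd_mul.mp hp with h | h
      · exact h1 h
      · exact hidx h
    rcases ih _ hF S with h2 | h2
    · obtain ⟨K, hKn, hK⟩ := (Cfsg.Agent.Lib.Helper2.PComp.hasNormalPComplement_iff S).mp h2
      rcases hs.eq_bot_or_eq_top_of_normal K hKn with hb | ht
      · rw [hb, Subgroup.isComplement'_bot_left] at hK
        exact htop hK
      · rw [ht, Subgroup.isComplement'_top_left] at hK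
        exact hbot hK
    · rcases hs.eq_bot_or_eq_top_of_normal _ h2 with hb | ht
      · exact hbot hb
      · exact htop ht

end Main

theorem main (p : ℕ) [Fact p.Prime] : ∀ (n : ℕ) (G : Type u) [Group G] [Finite G],
    Nat.card G = n → HC p G → Conc p G := by
  intro n
  induction n using Nat.strong_induction_on with
  | _ n IH =>
    intro G _ _ hn hc
    have hpp : p.Prime := Fact.out
    by_cases hp : p ∣ Nat.card G
    · by_cases hO : Cfsg.pPrimeCore p G = ⊥
      · apply conc_of_core_bot hc hp hO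
        intro H hH
        have hlt : Nat.card ↥H < n := by
          rw [← hn]
          apply lt_of_le_of_ne (Subgroup.card_le_card_group H)
          intro heq
          exact hH (H.card_eq_iff_eq_top.mp heq)
        exact IH _ hlt ↥H rfl (hc.subgroup H)
      · obtain ⟨hAn, hAc⟩ := Cfsg.Agent.Lib.Helper76.PSolv.pPrimeCore_mem (G := G) p
        haveI := hAn
        apply conc_of_quotient hc (Cfsg.pPrimeCore p G) hAc
        have hlt : Nat.card (G ⧸ Cfsg.pPrimeCore p G) < n := by
          rw [← hn]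
          have h1 := Subgroup.card_eq_card_quotient_mul_card_subgroup (Cfsg.pPrimeCore p G)
          have h2 : 1 < Nat.card ↥(Cfsg.pPrimeCore p G) :=
            (Cfsg.pPrimeCore p G).one_lt_card_iff_ne_bot.mpr hO
          have h3 : 0 < Nat.card (G ⧸ Cfsg.pPrimeCore p G) := Nat.card_pos
          rw [h1]
          nlinarith
        exact IH _ hlt (G ⧸ Cfsg.pPrimeCore p G) rfl (hc.quotient _ hAc)
    · intro P
      right
      have h1 := P.card_eq_multiplicity
      rw [Nat.factorization_eq_zero_of_not_dvd hp, pow_zero] at h1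
      rw [Subgroup.card_eq_one.mp h1]
      infer_instance

/-- Let G be a finite group and p a prime such that a Sylow p-subgroup P of G is cyclic and every subgroup of G of order prime to p is abelian. Then G has a normal p-complement or P is normal in G. -/
theorem result {G : Type*} [Group G] [Finite G] {p : ℕ}
    [Fact p.Prime] (P : Sylow p G) (hcyc : IsCyclic P)
    (hab : ∀ H : Subgroup G, ¬ p ∣ Nat.card H → IsMulCommutative H) :
    Cfsg.HasNormalPComplement p G ∨ (P : Subgroup G).Normal := by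
  have hc : HC p G := by
    refine ⟨fun R hR => Cfsg.Agent.S4403.cyc_of_pgroup P hcyc R hR, fun H hH a ha b hb => ?_⟩
    have := (hab H hH).is_comm.comm ⟨a, ha⟩ ⟨b, hb⟩
    exact congrArg Subtype.val this
  exact main p (Nat.card G) G rfl hc P

end Cfsg.Agent.S4016
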