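import Cfsg.Statements.S4017
import Cfsg.Agent.Lib.Helper68.MixAsm
import Cfsg.Agent.Lib.Helper68.MixCONJ
import Cfsg.Agent.Lib.Helper68.MixFIT
import Cfsg.Agent.Lib.Helper68.MixLEMM
import Cfsg.Agent.Lib.Helper8.MixSUB
import Cfsg.Agent.Lib.Helper8.MixEVEN
import Cfsg.Agent.Lib.Helper8.MixQUO
import Cfsg.Agent.Lib.Helper8.MixOP
import Cfsg.Agent.Lib.Helper4.MixFROB1
import Cfsg.Agent.Lib.Helper4.MixFROB2
import Cfsg.Agent.Lib.Helper4.MixORB
import Cfsg.Agent.Lib.Helper61.MixEXP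
import Cfsg.Agent.Lib.Helper61.MixNTOP
import Cfsg.Agent.Lib.Helper98.MixINVN
import Cfsg.Agent.Lib.Helper61.MixINVCONJ
import Cfsg.Agent.Lib.Helper91.MixSIMPLE
import Cfsg.Agent.Lib.Helper12.MixNCENT
import Cfsg.Agent.Lib.Helper7.MixTRANS
import Cfsg.Agent.Lib.Helper12.MixCQY
import Cfsg.Agent.Lib.Helper76.MixBURN
import Cfsg.Agent.Lib.Helper98.MixCT
import Cfsg.Agent.Lib.Helper98.MixLEMY
import Cfsg.Agent.Lib.Helper81.MixA1T
import Cfsg.Agent.Lib.Helper28.MixA1F3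
import Cfsg.Agent.Lib.Helper28.MixA1F2
import Cfsg.Agent.Lib.Helper91.MixA2N
import Cfsg.Agent.Lib.Helper60.MixA2a
import Cfsg.Agent.Lib.Helper60.MixA2b
import Cfsg.Agent.Lib.Helper81.MixBV
import Cfsg.Agent.Lib.Helper3.MixBP1
import Cfsg.Agent.Lib.Helper76.MixBSTAR
import Cfsg.Agent.Lib.Helper3.MixBSIG
import Cfsg.Agent.Lib.Helper28.MixBFIN

set_option autoImplicit false
open Cfsg

namespace Cfsg.Agent.S4017

open Cfsg.Agent.Lib
open Cfsg.Agent.Lib.Helper68.MixStmt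

universe u

theorem pSUB : SUB.{u} := Helper8.MixSUB.main
theorem pEVEN : EVEN.{u} := Helper8.MixEVEN.main pSUB
theorem pQUO : QUO.{u} := Helper8.MixQUO.main
theorem pOP : OP.{u} := Helper8.MixOP.main pQUO
theorem pFROB1 : FROB1.{u} := Helper4.MixFROB1.main
theorem pFROB2 : FROB2.{u} := Helper4.MixFROB2.main
theorem pORB : ORB.{u} := Helper4.MixORB.main
theorem pFIT : FIT.{u} := Helper68.MixFIT.main
theorem pCONJ : CONJ.{u} := Helper68.MixCONJ.main
theorem pEXP : EXP.{u} := Helper61.MixEXP.main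
theorem pNTOP : NTOP.{u} := Helper61.MixNTOP.main
theorem pINVN : INVN.{u} := Helper98.MixINVN.main
theorem pINVCONJ : INVCONJ.{u} := Helper61.MixINVCONJ.main
theorem pSIMPLE : SIMPLE.{u} := Helper91.MixSIMPLE.main
theorem pNCENT : NCENT.{u} := Helper12.MixNCENT.main pEXP pNTOP pINVN
theorem pTRANS : TRANS.{u} := Helper7.MixTRANS.main pNCENT
theorem pCQY : CQY.{u} := Helper12.MixCQY.main pEXP pNTOP
theorem pBURN : BURN.{u} := Helper76.MixBURN.main
theorem pCT : CT.{u} := Helper98.MixCT.main pBURN pNCENT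
theorem pLEMM : LEMM.{u} := Helper68.MixLEMM.main pFIT pBURN pTRANS
theorem pLEMY : LEMY.{u} := Helper98.MixLEMY.main pLEMM
theorem pA1T : A1T.{u} := Helper81.MixA1T.main pEXP pNTOP pINVN pINVCONJ pNCENT
theorem pA1F3 : A1F3.{u} := Helper28.MixA1F3.main
theorem pA1F2 : A1F2.{u} := Helper28.MixA1F2.main
theorem pA2N : A2N.{u} := Helper91.MixA2N.main pCQY pLEMY
theorem pA2a : A2a.{u} := Helper60.MixA2a.main pA2N pCONJ pINVN pINVCONJ pNCENT
theorem pA2b : A2b.{u} :=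
  Helper60.MixA2b.main pA2N pCONJ pINVN pINVCONJ pNCENT pNTOP pEXP pSIMPLE
theorem pBV : BV.{u} := Helper81.MixBV.main pEXP pCT pLEMM
theorem pBP1 : BP1.{u} := Helper3.MixBP1.main pLEMY pCQY
theorem pBSTAR : BSTAR.{u} :=
  Helper76.MixBSTAR.main pFIT pLEMM pNCENT pINVN pCONJ pSIMPLE pEXP
theorem pBSIG : BSIG.{u} := Helper3.MixBSIG.main pEXP
theorem pBFIN : BFIN.{u} := Helper28.MixBFIN.main pEXP

/-- Let G be a finite group and let p and q be distinct primes dividing the order of G, with p odd. Suppose that p divides the order of every proper subgroup of G that is neither a q-group nor of order prime to q. Let q^a be the q-part of the order of G. If p > q^a − 1, or if p = q^a − 1 and the Sylow p-subgroups of G are abelian, then p and q are the only primes dividing the order of G. -/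
theorem result {G : Type*} [Group G] [Finite G]
    {p q : ℕ} (hp : p.Prime) (hq : q.Prime) (hpq : p ≠ q) (hp2 : p ≠ 2)
    (hpG : p ∣ Nat.card G) (hqG : q ∣ Nat.card G)
    (hmix : ∀ H : Subgroup G, H ≠ ⊤ → ¬ IsPGroup q H → q ∣ Nat.card H → p ∣ Nat.card H)
    (hlarge : q ^ (Nat.card G).factorization q - 1 < p ∨
      (p = q ^ (Nat.card G).factorization q - 1 ∧ ∀ P : Sylow p G, IsMulCommutative P)) :
    ∀ r : ℕ, r.Prime → r ∣ Nat.card G → r = p ∨ r = q :=
  Helper68.MixAsm.reduce pEVEN pOP pFROB1 pFROB2 pORB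
    (Helper68.MixAsm.boundary pSIMPLE pA1T pA1F3 pA1F2 pA2a pA2b pBV pBP1 pBSTAR pBSIG pBFIN)
    (Nat.card G) G p q rfl ⟨hp, hq, hpq, hp2, hpG, hqG, hmix, hlarge⟩

end Cfsg.Agent.S4017
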