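import Cfsg.Statements.S4024
import Cfsg.Agent.S4023
import Cfsg.Agent.S4601
import Cfsg.Agent.Lib.Helper11.PConstr
import Cfsg.Agent.Lib.Helper67.PGroupSmall

set_option autoImplicit false
open Cfsg


namespace Cfsg.Agent.S4024

open Subgroup
open Cfsg.Agent.Lib.Helper67.PGroupSmall
open Cfsg.Agent.Lib.Helper76.PSolv Cfsg.Agent.Lib.Helper11.PConstr

/-- elements of order dividing `p` lie in every normal subgroup of order divisible by `p`. -/
theorem mem_of_pow_eq_one {G : Type*} [Group G] [Finite G] {p : ℕ} [Fact p.Prime]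
    (hC : ∀ H K : Subgroup G, IsPGroup p H → IsPGroup p K → Nat.card H = Nat.card K →
      ∃ g : G, K = H.map (MulAut.conj g).toMonoidHom)
    (M : Subgroup G) [hM : M.Normal] (hdiv : p ∣ Nat.card M) (x : G) (hxp : x ^ p = 1) :
    x ∈ M := by
  by_cases hx1 : x = 1
  · rw [hx1]; exact one_mem _
  obtain ⟨y, hy⟩ := exists_prime_orderOf_dvd_card' p hdiv
  have hoy : orderOf (y : G) = p := by rw [Subgroup.orderOf_coe]; exact hy
  have hox : orderOf x = p := orderOf_eq_prime hxp hx1
  have hcy : Nat.card (zpowers (y : G)) = p ^ 1 := by rw [Nat.card_zpowers, hoy, pow_one]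
  have hcx : Nat.card (zpowers x) = p ^ 1 := by rw [Nat.card_zpowers, hox, pow_one]
  obtain ⟨g, hg⟩ := hC (zpowers (y : G)) (zpowers x) (IsPGroup.of_card hcy)
    (IsPGroup.of_card hcx) (by rw [hcy, hcx])
  have hxmem : x ∈ (zpowers (y : G)).map (MulAut.conj g).toMonoidHom := hg ▸ mem_zpowers x
  obtain ⟨w, hw, rfl⟩ := hxmem
  have hwM : w ∈ M := (zpowers_le.mpr y.2) hw
  show g * w * g⁻¹ ∈ M
  exact hM.conj_mem w hwM g

/-- modulo `O_{p'}(H)` the group has a nontrivial normal `p`-subgroup. -/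
theorem pCore_quotient_ne_bot {G : Type*} [Group G] [Finite G] {p : ℕ} [Fact p.Prime]
    (H : Subgroup G) [hH : H.Normal] (hsolv : Cfsg.IsPSolvable p H) (hdiv : p ∣ Nat.card H)
    (K : Subgroup G) [hK : K.Normal] (hKdef : K = (pPrimeCore p ↥H).map H.subtype) :
    pCore p (G ⧸ K) ≠ ⊥ := by
  have hp : p.Prime := Fact.out
  have hKH : K ≤ H := by rw [hKdef]; exact Subgroup.map_subtype_le _
  have hKcop : (Nat.card K).Coprime p := by
    rw [hKdef, Subgroup.card_map_of_injective (Subgroup.subtype_injective H)]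
    exact pPrimeCore_coprime p
  obtain ⟨Hb, hHb⟩ : ∃ Hb : Subgroup (G ⧸ K), Hb = H.map (QuotientGroup.mk' K) := ⟨_, rfl⟩
  have hHbn : Hb.Normal := by rw [hHb]; exact hH.map _ (QuotientGroup.mk'_surjective K)
  have hHbsolv : Cfsg.IsPSolvable p ↥Hb := by
    rw [hHb]; exact isPSolvable_map p (QuotientGroup.mk' K) H hsolv
  have hcomap : Hb.comap (QuotientGroup.mk' K) = H := by
    rw [hHb, Subgroup.comap_map_eq, QuotientGroup.ker_mk', sup_eq_left.mpr hKH]
  have hHbcard : Nat.card H = Nat.card Hb * Nat.card K := by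
    rw [← card_comap_mk' K Hb, hcomap]
  have hHbdiv : p ∣ Nat.card Hb := by
    rw [hHbcard] at hdiv
    exact (Nat.Coprime.dvd_mul_right (Nat.Coprime.symm hKcop)).mp hdiv
  have hHbnt : Nontrivial ↥Hb := by
    rw [← Finite.one_lt_card_iff_nontrivial]
    exact lt_of_lt_of_le hp.one_lt (Nat.le_of_dvd Nat.card_pos hHbdiv)
  obtain ⟨M, hMn, hM1, hM⟩ := Cfsg.Agent.S4601.exists_normal_of_isPSolvable p hHbsolv
  rcases hM with hMp | hMc
  · have h1 : M ≤ pCore p ↥Hb := le_pCore hMn hMp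
    have h2 := pCore_subgroup_le p Hb
    intro hbot
    rw [hbot, le_bot_iff,
      Subgroup.map_eq_bot_iff_of_injective _ (Subgroup.subtype_injective Hb)] at h2
    rw [h2, le_bot_iff] at h1
    exact hM1 h1
  · exfalso
    have h1 : M ≤ pPrimeCore p ↥Hb := le_pPrimeCore hMn hMc
    have hchar : (pPrimeCore p ↥Hb).Characteristic := pPrimeCore_characteristic p ↥Hb
    obtain ⟨Nb, hNb⟩ : ∃ Nb : Subgroup (G ⧸ K), Nb = (pPrimeCore p ↥Hb).map Hb.subtype :=
      ⟨_, rfl⟩
    have hNbn : Nb.Normal := by rw [hNb]; exact ConjAct.normal_of_characteristic_of_normal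
    have hNbcop : (Nat.card Nb).Coprime p := by
      rw [hNb, Subgroup.card_map_of_injective (Subgroup.subtype_injective Hb)]
      exact pPrimeCore_coprime p
    have hNbHb : Nb ≤ Hb := by rw [hNb]; exact Subgroup.map_subtype_le _
    obtain ⟨N, hN⟩ : ∃ N : Subgroup G, N = Nb.comap (QuotientGroup.mk' K) := ⟨_, rfl⟩
    have hNn : N.Normal := by rw [hN]; exact hNbn.comap _
    have hNcard : Nat.card N = Nat.card Nb * Nat.card K := by rw [hN, card_comap_mk']
    have hNcop : (Nat.card N).Coprime p := by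
      rw [hNcard]; exact Nat.Coprime.mul_left hNbcop hKcop
    have hNH : N ≤ H := by rw [hN, ← hcomap]; exact Subgroup.comap_mono hNbHb
    have hNsub : (N.subgroupOf H).Normal := hNn.subgroupOf H
    have hNle : N.subgroupOf H ≤ pPrimeCore p ↥H :=
      le_pPrimeCore hNsub (by rw [card_subgroupOf_eq hNH]; exact hNcop)
    have hNK : N ≤ K := by
      rw [hKdef]
      intro n hn
      exact ⟨⟨n, hNH hn⟩, hNle (Subgroup.mem_subgroupOf.mpr hn), rfl⟩
    have hNbbot : Nb = ⊥ := by
      rw [eq_bot_iff]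
      intro nb hnb
      obtain ⟨n, rfl⟩ := QuotientGroup.mk'_surjective K nb
      have hn : n ∈ N := by rw [hN]; exact hnb
      rw [Subgroup.mem_bot]
      exact (QuotientGroup.eq_one_iff n).mpr (hNK hn)
    rw [hNb, Subgroup.map_eq_bot_iff_of_injective _ (Subgroup.subtype_injective Hb)] at hNbbot
    rw [hNbbot, le_bot_iff] at h1
    exact hM1 h1

/-- a Sylow subgroup of exponent `p` is abelian in the presence of a normal `p`-solvable
subgroup of order divisible by `p`. -/
theorem comm_of_exp {G : Type*} [Group G] [Finite G] {p : ℕ} [Fact p.Prime]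
    (hC : ∀ H K : Subgroup G, IsPGroup p H → IsPGroup p K → Nat.card H = Nat.card K →
      ∃ g : G, K = H.map (MulAut.conj g).toMonoidHom) (P : Sylow p G)
    (H : Subgroup G) [H.Normal] (hsolv : Cfsg.IsPSolvable p H) (hdiv : p ∣ Nat.card H)
    (hexp : ∀ x ∈ (P : Subgroup G), x ^ p = 1) :
    ∀ x ∈ (P : Subgroup G), ∀ y ∈ (P : Subgroup G), x * y = y * x := by
  have hp : p.Prime := Fact.out
  obtain ⟨K, hKdef⟩ : ∃ K : Subgroup G, K = (pPrimeCore p ↥H).map H.subtype := ⟨_, rfl⟩
  have hchar : (pPrimeCore p ↥H).Characteristic := pPrimeCore_characteristic p ↥H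
  have hKn : K.Normal := by rw [hKdef]; exact ConjAct.normal_of_characteristic_of_normal
  have hKcop : (Nat.card K).Coprime p := by
    rw [hKdef, Subgroup.card_map_of_injective (Subgroup.subtype_injective H)]
    exact pPrimeCore_coprime p
  have hcore := pCore_quotient_ne_bot H hsolv hdiv K hKdef
  have hcn : (pCore p (G ⧸ K)).Normal := pCore_normal'' p (G ⧸ K)
  obtain ⟨Zc, hZc⟩ : ∃ Zc : Subgroup (G ⧸ K),
      Zc = (center ↥(pCore p (G ⧸ K))).map (pCore p (G ⧸ K)).subtype := ⟨_, rfl⟩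
  have hZcn : Zc.Normal := by rw [hZc]; exact ConjAct.normal_of_characteristic_of_normal
  have hZcdiv : p ∣ Nat.card Zc := by
    rw [hZc, Subgroup.card_map_of_injective (Subgroup.subtype_injective _)]
    have hpc : IsPGroup p ↥(pCore p (G ⧸ K)) := pCore_isPGroup p
    have hnt : Nontrivial ↥(pCore p (G ⧸ K)) := (Subgroup.nontrivial_iff_ne_bot _).mpr hcore
    have hcnt := hpc.center_nontrivial
    obtain ⟨k, hk⟩ := (hpc.to_subgroup (center ↥(pCore p (G ⧸ K)))).exists_card_eq
    rw [hk]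
    have hk0 : k ≠ 0 := by
      rintro rfl
      rw [pow_zero] at hk
      exact (Finite.one_lt_card_iff_nontrivial.mpr hcnt).ne' hk
    exact dvd_pow_self p hk0
  obtain ⟨M, hM⟩ : ∃ M : Subgroup G, M = Zc.comap (QuotientGroup.mk' K) := ⟨_, rfl⟩
  have hMn : M.Normal := by rw [hM]; exact hZcn.comap _
  have hMdiv : p ∣ Nat.card M := by
    rw [hM, card_comap_mk']
    exact hZcdiv.mul_right _
  have hPM : ∀ x ∈ (P : Subgroup G), (QuotientGroup.mk' K x) ∈ Zc := by
    intro x hx
    have h1 := mem_of_pow_eq_one hC M hMdiv x (hexp x hx)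
    rw [hM] at h1
    exact h1
  intro x hx y hy
  have hxz := hPM x hx
  have hyz := hPM y hy
  have hcomm : QuotientGroup.mk' K x * QuotientGroup.mk' K y =
      QuotientGroup.mk' K y * QuotientGroup.mk' K x := by
    rw [hZc] at hxz hyz
    obtain ⟨a, ha, hax⟩ := hxz
    obtain ⟨b, hb, hby⟩ := hyz
    rw [← hax, ← hby]
    have h1 := Subgroup.mem_center_iff.mp ha b
    have h2 := congrArg (pCore p (G ⧸ K)).subtype h1
    rw [map_mul, map_mul] at h2
    exact h2.symm
  have hcK : x * y * x⁻¹ * y⁻¹ ∈ K := by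
    rw [← QuotientGroup.eq_one_iff, ← QuotientGroup.mk'_apply, map_mul, map_mul, map_mul,
      map_inv, map_inv, hcomm]
    group
  have hcP : x * y * x⁻¹ * y⁻¹ ∈ (P : Subgroup G) :=
    mul_mem (mul_mem (mul_mem hx hy) (inv_mem hx)) (inv_mem hy)
  have hc1 : x * y * x⁻¹ * y⁻¹ = 1 := by
    have h1 : (x * y * x⁻¹ * y⁻¹) ^ p = 1 := hexp _ hcP
    have h2 : orderOf (x * y * x⁻¹ * y⁻¹) ∣ p := orderOf_dvd_of_pow_eq_one h1
    have h3 : orderOf (x * y * x⁻¹ * y⁻¹) ∣ Nat.card K := by
      have h := orderOf_dvd_natCard (⟨_, hcK⟩ : K)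
      rwa [Subgroup.orderOf_mk] at h
    have h4 : orderOf (x * y * x⁻¹ * y⁻¹) ∣ 1 := by
      have h := Nat.dvd_gcd h3 h2
      rwa [Nat.Coprime.gcd_eq_one hKcop] at h
    exact orderOf_eq_one_iff.mp (Nat.dvd_one.mp h4)
  calc x * y = (x * y * x⁻¹ * y⁻¹) * (y * x) := by group
    _ = y * x := by rw [hc1, one_mul]

/-- Let p be an odd prime and G a finite group in which any two p-subgroups of the same order are conjugate, with Sylow p-subgroup P. If H is a normal p-solvable subgroup of G whose order is divisible by p, then P is abelian, and either P ≤ H or P is cyclic. -/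
theorem result {G : Type*} [Group G] [Finite G]
    {p : ℕ} [Fact p.Prime] (hp : p ≠ 2) (hC : ∀ H K : Subgroup G, IsPGroup p H → IsPGroup p K → Nat.card H = Nat.card K →
      ∃ g : G, K = H.map (MulAut.conj g).toMonoidHom) (P : Sylow p G)
    (H : Subgroup G) [H.Normal] (hsolv : Cfsg.IsPSolvable p H) (hdiv : p ∣ Nat.card H) :
    IsMulCommutative P ∧ ((P : Subgroup G) ≤ H ∨ IsCyclic P) := by
  have h23 := Cfsg.Agent.S4023.result hC P
  have hcases : IsCyclic ↥(P : Subgroup G) ∨ ∀ x ∈ (P : Subgroup G), x ^ p = 1 := by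
    rcases h23 with h | ⟨_, h⟩ | ⟨h, _⟩ | ⟨_, _, _, h⟩
    · exact Or.inl h
    · exact Or.inr h
    · exact absurd h hp
    · right
      intro x hx
      have h1 := Monoid.pow_exponent_eq_one (⟨x, hx⟩ : ↥(P : Subgroup G))
      rw [h] at h1
      simpa using congrArg Subtype.val h1
  rcases hcases with hcyc | hexp
  · refine ⟨?_, Or.inr hcyc⟩
    exact MonoidHom.isMulCommutative_of_isCyclic_of_ker_le_center
      (MonoidHom.id ↥(P : Subgroup G)) (by
        intro g hg
        rw [MonoidHom.mem_ker, MonoidHom.id_apply] at hg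
        rw [hg]; exact one_mem _)
  · have hPH : (P : Subgroup G) ≤ H := fun x hx => mem_of_pow_eq_one hC H hdiv x (hexp x hx)
    refine ⟨⟨⟨fun a b => ?_⟩⟩, Or.inl hPH⟩
    exact Subtype.ext (comm_of_exp hC P H hsolv hdiv hexp a a.2 b b.2)

end Cfsg.Agent.S4024
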