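import Cfsg.Statements.S4064
import Cfsg.Agent.Lib.Helper30.CTIAsm
import Cfsg.Agent.Lib.Helper30.CTIBasic
import Cfsg.Agent.Lib.Helper10.CTIDM
import Cfsg.Agent.Lib.Helper20.CTIINVERT
import Cfsg.Agent.Lib.Helper20.CTIN3
import Cfsg.Agent.Lib.Helper20.CTIN4
import Cfsg.Agent.Lib.Helper20.CTIZ2T
import Cfsg.Agent.Lib.Helper23.CTIMAB
import Cfsg.Agent.Lib.Helper23.CTIZAS
import Cfsg.Agent.Lib.Helper26.CTIQBAD
import Cfsg.Agent.Lib.Helper29.CTIDCARD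
import Cfsg.Agent.Lib.Helper29.CTINCARD
import Cfsg.Agent.Lib.Helper29.CTIQN
import Cfsg.Agent.Lib.Helper29.CTISOLV
import Cfsg.Agent.Lib.Helper31.CTIZ5
import Cfsg.Agent.Lib.Helper53.CTIFINAL
import Cfsg.Agent.Lib.Helper53.CTISE1
import Cfsg.Agent.Lib.Helper53.CTISE2
import Cfsg.Agent.Lib.Helper55.CTIZCONS
import Cfsg.Agent.Lib.Helper62.CTICINV
import Cfsg.Agent.Lib.Helper62.CTIINVM
import Cfsg.Agent.Lib.Helper62.CTIMCHALL
import Cfsg.Agent.Lib.Helper62.CTIN5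
import Cfsg.Agent.Lib.Helper62.CTIQC0
import Cfsg.Agent.Lib.Helper71.CTIENGEL
import Cfsg.Agent.Lib.Helper72.CTIHMD
import Cfsg.Agent.Lib.Helper72.CTIN6
import Cfsg.Agent.Lib.Helper72.CTIVCARD
import Cfsg.Agent.Lib.Helper8.CTISQAB
import Cfsg.Agent.Lib.Helper8.CTIZ2
import Cfsg.Agent.Lib.Helper8.CTIZ3
import Cfsg.Agent.Lib.Helper85.CTIMCCC
import Cfsg.Agent.Lib.Helper85.CTINO3
import Cfsg.Agent.Lib.Helper94.CTIENDG
import Cfsg.Agent.Lib.Helper94.CTIPSLCARD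
import Cfsg.Agent.Lib.Helper97.CTIARITH1
import Cfsg.Agent.Lib.Helper97.CTIARITH2
import Cfsg.Agent.Lib.Helper97.CTIDEG
import Cfsg.Agent.Lib.Helper97.CTIQC1

set_option autoImplicit false
open Cfsg

namespace Cfsg.Agent.S4064

/-- Let G be a finite group in which the centralizer of every element meets each of its conjugates by elements outside its normalizer trivially. Then G is nilpotent; or G is a Frobenius group with a complement that is cyclic or isomorphic to the direct product of a cyclic group of odd order and the quaternion group of order 8; or G is isomorphic to PSL₂(2ⁿ) for some n ≥ 2. -/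
theorem result {G : Type*} [Group G] [Finite G] (hTI : ∀ x : G, Cfsg.IsTISubset (Subgroup.centralizer ({x} : Set G) : Set G)) :
    Group.IsNilpotent G ∨
    (∃ H : Subgroup G, Cfsg.IsFrobeniusComplement H ∧
      (IsCyclic H ∨ ∃ m : ℕ, Odd m ∧ Nonempty (H ≃* Multiplicative (ZMod m) × QuaternionGroup 2))) ∨
    (∃ n : ℕ, 2 ≤ n ∧ Nonempty (G ≃* Matrix.ProjectiveSpecialLinearGroup (Fin 2) (GaloisField 2 n))) := by
  exact Cfsg.Agent.Lib.Helper30.CTIAsm.top Cfsg.Agent.Lib.Helper71.CTIENGEL.main Cfsg.Agent.Lib.Helper30.CTIBasic.ceng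
    (Cfsg.Agent.Lib.Helper30.CTIBasic.cn Cfsg.Agent.Lib.Helper71.CTIENGEL.main Cfsg.Agent.Lib.Helper30.CTIBasic.ceng Cfsg.Agent.Lib.Helper30.CTIBasic.sub)
    (Cfsg.Agent.Lib.Helper30.CTIBasic.mcall Cfsg.Agent.Lib.Helper30.CTIBasic.mcex Cfsg.Agent.Lib.Helper85.CTIMCCC.main Cfsg.Agent.Lib.Helper62.CTIMCHALL.main)
    (Cfsg.Agent.Lib.Helper29.CTISOLV.main (Cfsg.Agent.Lib.Helper29.CTIQN.main Cfsg.Agent.Lib.Helper30.CTIBasic.ceng Cfsg.Agent.Lib.Helper30.CTIBasic.sub Cfsg.Agent.Lib.Helper26.CTIQBAD.main) Cfsg.Agent.Lib.Helper62.CTIQC0.main Cfsg.Agent.Lib.Helper97.CTIQC1.main Cfsg.Agent.Lib.Helper85.CTINO3.main)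
    (Cfsg.Agent.Lib.Helper53.CTISE1.main Cfsg.Agent.Lib.Helper20.CTIN3.main Cfsg.Agent.Lib.Helper62.CTIINVM.main Cfsg.Agent.Lib.Helper62.CTIN5.main Cfsg.Agent.Lib.Helper62.CTICINV.main Cfsg.Agent.Lib.Helper72.CTIN6.main)
    (Cfsg.Agent.Lib.Helper53.CTISE2.main Cfsg.Agent.Lib.Helper10.CTIDM.main Cfsg.Agent.Lib.Helper29.CTINCARD.main Cfsg.Agent.Lib.Helper29.CTIDCARD.main Cfsg.Agent.Lib.Helper72.CTIHMD.main Cfsg.Agent.Lib.Helper20.CTIN4.main)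
    (Cfsg.Agent.Lib.Helper23.CTIZAS.main Cfsg.Agent.Lib.Helper20.CTIINVERT.main Cfsg.Agent.Lib.Helper8.CTIZ3.main Cfsg.Agent.Lib.Helper8.CTIZ2.main Cfsg.Agent.Lib.Helper20.CTIZ2T.main Cfsg.Agent.Lib.Helper97.CTIDEG.main Cfsg.Agent.Lib.Helper31.CTIZ5.main)
    Cfsg.Agent.Lib.Helper30.CTIBasic.vex
    (Cfsg.Agent.Lib.Helper55.CTIZCONS.main Cfsg.Agent.Lib.Helper72.CTIVCARD.main Cfsg.Agent.Lib.Helper94.CTIPSLCARD.main Cfsg.Agent.Lib.Helper97.CTIARITH1.main Cfsg.Agent.Lib.Helper97.CTIARITH2.main)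
    (Cfsg.Agent.Lib.Helper23.CTIMAB.main Cfsg.Agent.Lib.Helper8.CTISQAB.main Cfsg.Agent.Lib.Helper72.CTIVCARD.main)
    (Cfsg.Agent.Lib.Helper53.CTIFINAL.main Cfsg.Agent.Lib.Helper94.CTIENDG.main)
    G hTI

end Cfsg.Agent.S4064
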