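import Mathlib
import Cfsg.Statements.S4113

set_option autoImplicit false
open Cfsg

namespace Cfsg.Agent.S4113

/-- Let G be a finite group, M ≤ N non-trivial proper normal subgroups, and H a subgroup with HM = G and H ∩ M = 1. Then every element of G outside N acts fixed-point-freely on M (C_G(x) ≤ N for every x ∈ M, x ≠ 1) if and only if H ∩ gHg⁻¹ ≤ H ∩ N for every g outside H, with H proper and non-trivial and H ∩ N proper in H. -/
theorem result {G : Type*} [Group G] [Finite G] (N M : Subgroup G) [N.Normal] [M.Normal] (hMN : M ≤ N) (hM1 : M ≠ ⊥) (hN2 : N ≠ ⊤)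
    (H : Subgroup G) (hHM : H ⊔ M = ⊤) (hHM' : H ⊓ M = ⊥) :
    (∀ x ∈ M, x ≠ 1 → Subgroup.centralizer ({x} : Set G) ≤ N) ↔
      (H ≠ ⊥ ∧ H ≠ ⊤ ∧ H ⊓ N < H ∧ ∀ g : G, g ∉ H → H ⊓ H.map (MulAut.conj g).toMonoidHom ≤ N) := by
  classical
  have hdecomp : ∀ g : G, ∃ h ∈ H, ∃ m ∈ M, g = h * m := by
    intro g
    have hg : g ∈ H ⊔ M := by rw [hHM]; exact Subgroup.mem_top g
    rw [← SetLike.mem_coe, Subgroup.mul_normal] at hg
    obtain ⟨h, hh, m, hm, rfl⟩ := Set.mem_mul.1 hg
    exact ⟨h, hh, m, hm, rfl⟩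
  have hnormal : ∀ m ∈ M, ∀ g : G, g * m * g⁻¹ ∈ M := fun m hm g =>
    (inferInstance : M.Normal).conj_mem m hm g
  have hnormal' : ∀ m ∈ M, ∀ g : G, g⁻¹ * m * g ∈ M := by
    intro m hm g
    have := hnormal m hm g⁻¹
    simpa using this
  have hdecomp' : ∀ g : G, ∃ m ∈ M, ∃ h ∈ H, g = m * h := by
    intro g
    obtain ⟨h, hh, m, hm, rfl⟩ := hdecomp g
    exact ⟨h * m * h⁻¹, hnormal m hm h, h, hh, by group⟩
  have hint : ∀ y, y ∈ H → y ∈ M → y = 1 := by
    intro y hy hy'
    have : y ∈ H ⊓ M := ⟨hy, hy'⟩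
    rw [hHM'] at this
    exact Subgroup.mem_bot.1 this
  constructor
  · intro hC
    refine ⟨?_, ?_, ?_, ?_⟩
    · rintro rfl
      rw [bot_sup_eq] at hHM
      apply hN2
      rw [eq_top_iff, ← hHM]; exact hMN
    · rintro rfl
      rw [top_inf_eq] at hHM'
      exact hM1 hHM'
    · refine lt_of_le_of_ne inf_le_left ?_
      intro heq
      have hHN : H ≤ N := by rw [← heq]; exact inf_le_right
      apply hN2
      rw [eq_top_iff, ← hHM]
      exact sup_le hHN hMN
    · intro g hg y hy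
      obtain ⟨hy1, hy2⟩ := Subgroup.mem_inf.1 hy
      rw [Subgroup.mem_map] at hy2
      obtain ⟨y', hy', hyy'⟩ := hy2
      have hyy : y = g * y' * g⁻¹ := by rw [← hyy']; rfl
      obtain ⟨m, hm, h, hh, rfl⟩ := hdecomp' g
      have hm1 : m ≠ 1 := by
        rintro rfl
        apply hg
        simpa using hh
      set y'' := h * y' * h⁻¹ with hy''
      have hy''H : y'' ∈ H := H.mul_mem (H.mul_mem hh hy') (H.inv_mem hh)
      have hy2 : y = m * y'' * m⁻¹ := by rw [hyy, hy'']; group
      have hmem : y''⁻¹ * y ∈ M := by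
        have : y''⁻¹ * y = (y''⁻¹ * m * y'') * m⁻¹ := by rw [hy2]; group
        rw [this]
        exact M.mul_mem (hnormal' m hm y'') (M.inv_mem hm)
      have h1 : y''⁻¹ * y = 1 := hint _ (H.mul_mem (H.inv_mem hy''H) hy1) hmem
      have hyeq : y = y'' := by
        have := inv_mul_eq_one.1 h1
        exact this.symm
      rw [← hyeq] at hy2
      apply hC m hm hm1
      rw [Subgroup.mem_centralizer_iff]
      intro z hz
      rw [Set.mem_singleton_iff] at hz
      rw [hz]
      -- m * y = y * m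
      have : y * m = m * y := by
        conv_lhs => rw [hy2]
        group
      exact this.symm
  · rintro ⟨hH1, hH2, hlt, hT⟩ x hxM hx1 g hg
    rw [Subgroup.mem_centralizer_iff] at hg
    have hgx : x * g = g * x := hg x (Set.mem_singleton x)
    obtain ⟨h, hh, m, hm, rfl⟩ := hdecomp g
    by_contra hgN
    have hhN : h ∉ N := by
      intro hhN
      exact hgN (N.mul_mem hhN (hMN hm))
    -- Step A
    have hA : ∀ c ∈ M, c * h = h * c → c = 1 := by
      intro c hc hch
      by_contra hc1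
      have hcH : c ∉ H := fun hcH => hc1 (hint c hcH hc)
      apply hhN
      apply hT c hcH
      refine Subgroup.mem_inf.2 ⟨hh, ?_⟩
      rw [Subgroup.mem_map]
      refine ⟨h, hh, ?_⟩
      change c * h * c⁻¹ = h
      rw [hch]; group
    -- Step B
    let ψ : M → M := fun c => ⟨h⁻¹ * c * h * (c : G)⁻¹, M.mul_mem (hnormal' c c.2 h) (M.inv_mem c.2)⟩
    have hψinj : Function.Injective ψ := by
      intro c d hcd
      have h1 : h⁻¹ * (c : G) * h * (c : G)⁻¹ = h⁻¹ * (d : G) * h * (d : G)⁻¹ := congrArg Subtype.val hcd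
      have h2 : ((d : G)⁻¹ * c) * h = h * ((d : G)⁻¹ * c) := by
        have h3 : (c : G) * h * (c : G)⁻¹ = (d : G) * h * (d : G)⁻¹ := by
          have := congrArg (fun z => h * z) h1
          simpa [mul_assoc] using this
        calc ((d : G)⁻¹ * c) * h = (d : G)⁻¹ * ((c : G) * h * (c : G)⁻¹) * c := by group
          _ = (d : G)⁻¹ * ((d : G) * h * (d : G)⁻¹) * c := by rw [h3]
          _ = h * ((d : G)⁻¹ * c) := by group
      have h4 := hA _ (M.mul_mem (M.inv_mem d.2) c.2) h2
      have h5 : (c : G) = d := by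
        have := inv_mul_eq_one.1 h4
        exact this.symm
      exact Subtype.ext h5
    have hψsurj : Function.Surjective ψ := Finite.injective_iff_surjective.1 hψinj
    obtain ⟨c, hc⟩ := hψsurj ⟨m, hm⟩
    have hc' : h⁻¹ * (c : G) * h * (c : G)⁻¹ = m := congrArg Subtype.val hc
    have hconj : (c : G) * h * (c : G)⁻¹ = h * m := by
      rw [← hc']; group
    -- Step C
    have hx' : (c : G)⁻¹ * x * c ∈ M := hnormal' x hxM c
    have hcomm : ((c : G)⁻¹ * x * c) * h = h * ((c : G)⁻¹ * x * c) := by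
      calc ((c : G)⁻¹ * x * c) * h = (c : G)⁻¹ * (x * ((c : G) * h * (c : G)⁻¹)) * c := by group
        _ = (c : G)⁻¹ * (x * (h * m)) * c := by rw [hconj]
        _ = (c : G)⁻¹ * ((h * m) * x) * c := by rw [hgx]
        _ = (c : G)⁻¹ * (((c : G) * h * (c : G)⁻¹) * x) * c := by rw [hconj]
        _ = h * ((c : G)⁻¹ * x * c) := by group
    have := hA _ hx' hcomm
    apply hx1
    have h6 : x = (c : G) * ((c : G)⁻¹ * x * c) * (c : G)⁻¹ := by group
    rw [h6, this]; group

end Cfsg.Agent.S4113
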