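import Cfsg.Statements.S4126
import Cfsg.Agent.S1946
import Cfsg.Agent.Lib.Helper51.CardSup
-- import your own Cfsg.Agent.* helpers here

set_option autoImplicit false
open Cfsg

namespace Cfsg.Agent.S4126

/-- If the index of `C` is a power of `p`, then `G = P * C` for every Sylow `p`-subgroup `P`. -/
theorem exists_mul {G : Type*} [Group G] [Finite G] (p : ℕ) [Fact p.Prime] (P : Sylow p G)
    (C : Subgroup G) (a : ℕ) (hC : C.index = p ^ a) (g : G) :
    ∃ k ∈ (P : Subgroup G), ∃ h ∈ C, g = k * h := by
  have hp : p.Prime := Fact.out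
  have hcop : Nat.Coprime C.index (P : Subgroup G).index := by
    rw [hC]
    exact Nat.Coprime.pow_left a ((Nat.Prime.coprime_iff_not_dvd hp).2 P.not_dvd_index)
  have hsup : C ⊔ (P : Subgroup G) = ⊤ := by
    rw [← Subgroup.index_eq_one]
    have h1 : (C ⊔ (P : Subgroup G)).index ∣ C.index := Subgroup.index_dvd_of_le le_sup_left
    have h2 : (C ⊔ (P : Subgroup G)).index ∣ (P : Subgroup G).index :=
      Subgroup.index_dvd_of_le le_sup_right
    exact Nat.eq_one_of_dvd_coprimes hcop h1 h2
  have e1 : Nat.card C * C.index = Nat.card G := Subgroup.card_mul_index C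
  have e2 : Nat.card (P : Subgroup G) * (P : Subgroup G).index = Nat.card G :=
    Subgroup.card_mul_index _
  have e3 : Nat.card (C ⊓ (P : Subgroup G) : Subgroup G) * (C ⊓ (P : Subgroup G)).index
      = Nat.card G := Subgroup.card_mul_index _
  have d1 : C.index ∣ (C ⊓ (P : Subgroup G)).index := Subgroup.index_dvd_of_le inf_le_left
  have d2 : (P : Subgroup G).index ∣ (C ⊓ (P : Subgroup G)).index :=
    Subgroup.index_dvd_of_le inf_le_right
  have d3 : C.index * (P : Subgroup G).index ∣ (C ⊓ (P : Subgroup G)).index :=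
    Nat.Coprime.mul_dvd_of_dvd_of_dvd hcop d1 d2
  have hpos : 0 < (C ⊓ (P : Subgroup G)).index := by
    have : (C ⊓ (P : Subgroup G)).index ≠ 0 := Subgroup.index_ne_zero_of_finite
    omega
  have hle : C.index * (P : Subgroup G).index ≤ (C ⊓ (P : Subgroup G)).index :=
    Nat.le_of_dvd hpos d3
  have hcard : Nat.card (C ⊔ (P : Subgroup G) : Subgroup G) *
      Nat.card (C ⊓ (P : Subgroup G) : Subgroup G) = Nat.card C * Nat.card (P : Subgroup G) := by
    apply le_antisymm
    · rw [hsup, Subgroup.card_top]
      have hpos2 : 0 < C.index * (P : Subgroup G).index := by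
        have h1 : C.index ≠ 0 := Subgroup.index_ne_zero_of_finite
        have h2 : (P : Subgroup G).index ≠ 0 := Subgroup.index_ne_zero_of_finite
        positivity
      apply Nat.le_of_mul_le_mul_right _ hpos2
      calc Nat.card G * Nat.card (C ⊓ (P : Subgroup G) : Subgroup G) *
            (C.index * (P : Subgroup G).index)
          ≤ Nat.card G * Nat.card (C ⊓ (P : Subgroup G) : Subgroup G) *
            (C ⊓ (P : Subgroup G)).index := Nat.mul_le_mul_left _ hle
        _ = Nat.card G * Nat.card G := by rw [mul_assoc, e3]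
        _ = (Nat.card C * C.index) * (Nat.card (P : Subgroup G) * (P : Subgroup G).index) := by
            rw [e1, e2]
        _ = Nat.card C * Nat.card (P : Subgroup G) * (C.index * (P : Subgroup G).index) := by
            ring
    · exact Cfsg.Agent.Lib.Helper51.CardSup.card_mul_card_le C (P : Subgroup G)
  have hg : g ∈ C ⊔ (P : Subgroup G) := by rw [hsup]; trivial
  exact Cfsg.Agent.Lib.Helper51.CardSup.exists_mul_of_card_eq C (P : Subgroup G) hcard g hg

/-- Let G be a finite group and p a prime. Suppose every element of order p, and when p = 2 also every element of order 4, has a conjugacy class of p-power size. Then G has a normal p-complement. -/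
theorem result {G : Type*} [Group G] [Finite G] (p : ℕ) [Fact p.Prime]
    (h : ∀ x : G, (orderOf x = p ∨ (p = 2 ∧ orderOf x = 4)) → ∃ a : ℕ, (Subgroup.centralizer ({x} : Set G)).index = p ^ a) :
    Cfsg.HasNormalPComplement p G := by
  obtain ⟨P⟩ : Nonempty (Sylow p G) := inferInstance
  rw [Cfsg.Agent.S1946.result P]
  intro a _ ha g _
  by_cases h1 : a = 1
  · exact ⟨1, one_mem _, by simp [h1]⟩
  have hord : orderOf a = p ∨ (p = 2 ∧ orderOf a = 4) := by
    rcases ha with ha | ⟨hp2, ha4⟩
    · left
      exact orderOf_eq_prime ha h1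
    · have hdvd : orderOf a ∣ 2 ^ 2 := orderOf_dvd_of_pow_eq_one ha4
      obtain ⟨k, hk, hk2⟩ := (Nat.dvd_prime_pow Nat.prime_two).1 hdvd
      interval_cases k
      · exfalso
        apply h1
        exact orderOf_eq_one_iff.1 (by simpa using hk2)
      · left
        rw [hp2]
        simpa using hk2
      · right
        exact ⟨hp2, by simpa using hk2⟩
  obtain ⟨n, hn⟩ := h a hord
  obtain ⟨x, hx, k, hk, hgx⟩ := exists_mul p P _ n hn g
  refine ⟨x, hx, ?_⟩
  have hka : a * k = k * a := (Subgroup.mem_centralizer_iff.1 hk) a (Set.mem_singleton a)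
  rw [hgx, mul_inv_rev, mul_assoc x k a, ← hka]
  group

end Cfsg.Agent.S4126
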