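import Cfsg.Statements.S4138
import Cfsg.Agent.Lib.Helper69.BHMd
import Cfsg.Agent.S3857

set_option autoImplicit false
open Cfsg

namespace Cfsg.Agent.S4138

/-- Let G be a finite group whose two largest conjugacy class sizes m > n > 1 are coprime, and let x, y ∈ G have classes of sizes n and m respectively. Then C_G(x) and C_G(y) are abelian, and G/Z(G) is a Frobenius group with kernel C_G(x)/Z(G) and complement C_G(y)/Z(G). -/
theorem result {G : Type*} [Group G] [Finite G] (m n : ℕ) (hmn : n < m) (hn : 1 < n)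
    (hcop : m.Coprime n) (htop : ∀ z : G, (Subgroup.centralizer ({z} : Set G)).index ≤ m) (hsecond : ∀ z : G, (Subgroup.centralizer ({z} : Set G)).index < m → (Subgroup.centralizer ({z} : Set G)).index ≤ n)
    (x y : G) (hx : (Subgroup.centralizer ({x} : Set G)).index = n) (hy : (Subgroup.centralizer ({y} : Set G)).index = m) :
    IsMulCommutative (Subgroup.centralizer ({x} : Set G)) ∧ IsMulCommutative (Subgroup.centralizer ({y} : Set G)) ∧
    Cfsg.IsFrobeniusComplement ((Subgroup.centralizer ({y} : Set G)).map (QuotientGroup.mk' (Subgroup.center G))) ∧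
    Cfsg.frobeniusKernel ((Subgroup.centralizer ({y} : Set G)).map (QuotientGroup.mk' (Subgroup.center G))) =
      ((Subgroup.centralizer ({x} : Set G)).map (QuotientGroup.mk' (Subgroup.center G)) : Set (G ⧸ Subgroup.center G)) := by
  have H : Cfsg.Agent.Lib.Helper69.BHMb.Hyp G m n := ⟨hmn, hn, hcop, htop, hsecond, ⟨y, hy⟩⟩
  have hD_ab := Cfsg.Agent.Lib.Helper69.BHMd.D_abelian H hx
  have hC_ab := Cfsg.Agent.Lib.Helper69.BHMd.C_abelian H hx hy
  refine ⟨⟨⟨fun a b => Subtype.ext (hD_ab a a.2 b b.2)⟩⟩,
    ⟨⟨fun a b => Subtype.ext (hC_ab a a.2 b b.2)⟩⟩, ?_⟩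
  have hDn : (Subgroup.centralizer ({x} : Set G)).Normal :=
    Cfsg.Agent.Lib.Helper69.BHMd.D_normal H hx
  have hNn : ((Subgroup.centralizer ({x} : Set G)).map
      (QuotientGroup.mk' (Subgroup.center G))).Normal :=
    hDn.map _ (QuotientGroup.mk'_surjective _)
  have hker : (QuotientGroup.mk' (Subgroup.center G)).ker = Subgroup.center G :=
    QuotientGroup.ker_mk' _
  have hiD : ((Subgroup.centralizer ({x} : Set G)).map
      (QuotientGroup.mk' (Subgroup.center G))).index = n := by
    rw [Subgroup.index_map_eq _ (QuotientGroup.mk'_surjective _)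
      (by rw [hker]; exact Cfsg.Agent.Lib.Helper69.BHMa.center_le_C x), hx]
  have hiC : ((Subgroup.centralizer ({y} : Set G)).map
      (QuotientGroup.mk' (Subgroup.center G))).index = m := by
    rw [Subgroup.index_map_eq _ (QuotientGroup.mk'_surjective _)
      (by rw [hker]; exact Cfsg.Agent.Lib.Helper69.BHMa.center_le_C y), hy]
  have hcardQ : Nat.card (G ⧸ Subgroup.center G) = m * n :=
    Cfsg.Agent.Lib.Helper69.BHMb.index_center H hx
  have hnpos : 0 < n := by omega
  have hmpos : 0 < m := by omega
  have hcardD : Nat.card ((Subgroup.centralizer ({x} : Set G)).map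
      (QuotientGroup.mk' (Subgroup.center G))) = m := by
    have := Subgroup.card_mul_index ((Subgroup.centralizer ({x} : Set G)).map
      (QuotientGroup.mk' (Subgroup.center G)))
    rw [hiD, hcardQ] at this
    exact Nat.eq_of_mul_eq_mul_right hnpos this
  have hcardC : Nat.card ((Subgroup.centralizer ({y} : Set G)).map
      (QuotientGroup.mk' (Subgroup.center G))) = n := by
    have := Subgroup.card_mul_index ((Subgroup.centralizer ({y} : Set G)).map
      (QuotientGroup.mk' (Subgroup.center G)))
    rw [hiC, hcardQ, mul_comm m n] at this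
    exact Nat.eq_of_mul_eq_mul_right hmpos this
  apply Cfsg.Agent.S3857.frob_of_fpf
  · intro h
    rw [h, Subgroup.card_bot] at hcardD
    omega
  · intro h
    rw [h, Subgroup.card_bot] at hcardC
    omega
  · apply Subgroup.isComplement'_of_coprime
    · rw [hcardD, hcardC, hcardQ]
    · rw [hcardD, hcardC]; exact hcop
  · rintro _ ⟨c, hc, rfl⟩ _ ⟨d, hd, rfl⟩ hcomm
    have h0 : (QuotientGroup.mk' (Subgroup.center G)) (c * d) =
        (QuotientGroup.mk' (Subgroup.center G)) (d * c) := by
      rw [map_mul, map_mul]; exact hcomm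
    rw [QuotientGroup.mk'_apply, QuotientGroup.mk'_apply, QuotientGroup.eq] at h0
    have h1 : c * d * c⁻¹ * d⁻¹ ∈ Subgroup.center G := by
      have hn' : (Subgroup.center G).Normal := inferInstance
      have := hn'.conj_mem _ (Subgroup.inv_mem _ h0) (c * d)
      have e : c * d * ((c * d)⁻¹ * (d * c))⁻¹ * (c * d)⁻¹ = c * d * c⁻¹ * d⁻¹ := by group
      rwa [e] at this
    rcases Cfsg.Agent.Lib.Helper69.BHMd.fpf H hx hy hc hd h1 with h | h
    · left; exact (QuotientGroup.eq_one_iff c).2 h
    · right; exact (QuotientGroup.eq_one_iff d).2 h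

end Cfsg.Agent.S4138
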