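import Cfsg.Statements.S4142
-- import your own Cfsg.Agent.* helpers here

set_option autoImplicit false
open Cfsg

namespace Cfsg.Agent.S4142

theorem aux1 {G : Type*} [Group G] (g a c n : G) (h1 : a * g * a⁻¹ = g * n)
    (h2 : c * g * c⁻¹ = g) : a * c * g * (a * c)⁻¹ = g * n := by
  rw [← h1]
  have : a * c * g * (a * c)⁻¹ = a * (c * g * c⁻¹) * a⁻¹ := by group
  rw [this, h2]

theorem aux2 {G : Type*} [Group G] (g a x : G) (h1 : a * g * a⁻¹ = x * g * x⁻¹) :
    a⁻¹ * x * g * (a⁻¹ * x)⁻¹ = g := by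
  have : a⁻¹ * x * g * (a⁻¹ * x)⁻¹ = a⁻¹ * (x * g * x⁻¹) * a := by group
  rw [this, ← h1]
  group

theorem key {G : Type*} [Group G] [Finite G] (N : Subgroup G) [N.Normal] (g : G) :
    Nat.card N * Nat.card (Subgroup.centralizer ({(QuotientGroup.mk g : G ⧸ N)} : Set (G ⧸ N)))
      = Nat.card {n : G // n ∈ N ∧ ∃ x : G, x * g * x⁻¹ = g * n} *
          Nat.card (Subgroup.centralizer ({g} : Set G)) := by
  classical
  have h0 := QuotientGroup.card_preimage_mk N
    ((Subgroup.centralizer ({(QuotientGroup.mk g : G ⧸ N)} : Set (G ⧸ N)) : Subgroup (G ⧸ N)) :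
      Set (G ⧸ N))
  change _ = Nat.card N * Nat.card (Subgroup.centralizer ({(QuotientGroup.mk g : G ⧸ N)} : Set (G ⧸ N))) at h0
  rw [← h0, ← Nat.card_prod]
  symm
  -- choose witnesses
  have hw : ∀ n : {n : G // n ∈ N ∧ ∃ x : G, x * g * x⁻¹ = g * n}, ∃ x : G, x * g * x⁻¹ = g * n.1 :=
    fun n => n.2.2
  choose w hw using hw
  have hcent : ∀ c : G, c ∈ Subgroup.centralizer ({g} : Set G) ↔ c * g * c⁻¹ = g := by
    intro c
    rw [Subgroup.mem_centralizer_iff]
    constructor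
    · intro h
      have := h g rfl
      rw [← this]; group
    · intro h y hy
      rw [Set.mem_singleton_iff] at hy
      subst hy
      conv_lhs => rw [← h]
      group
  have hD : ∀ x : G, x ∈ (QuotientGroup.mk ⁻¹'
      ((Subgroup.centralizer ({(QuotientGroup.mk g : G ⧸ N)} : Set (G ⧸ N)) : Subgroup (G ⧸ N)) :
      Set (G ⧸ N))) ↔ g⁻¹ * (x * g * x⁻¹) ∈ N := by
    intro x
    rw [Set.mem_preimage, SetLike.mem_coe, Subgroup.mem_centralizer_iff]
    constructor
    · intro h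
      have h1 := h _ rfl
      rw [← QuotientGroup.eq]
      have : ((x * g * x⁻¹ : G) : G ⧸ N) = (g : G ⧸ N) := by
        rw [QuotientGroup.mk_mul, QuotientGroup.mk_mul, ← h1, QuotientGroup.mk_inv]
        group
      rw [this]
    · intro h y hy
      rw [Set.mem_singleton_iff] at hy
      subst hy
      rw [← QuotientGroup.eq] at h
      have h2 : ((x * g * x⁻¹ : G) : G ⧸ N) = (g : G ⧸ N) := h.symm
      rw [QuotientGroup.mk_mul, QuotientGroup.mk_mul, QuotientGroup.mk_inv] at h2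
      conv_lhs => rw [← h2]
      group
  refine Nat.card_congr (Equiv.ofBijective
    (fun nc : {n : G // n ∈ N ∧ ∃ x : G, x * g * x⁻¹ = g * n} ×
        (Subgroup.centralizer ({g} : Set G)) => (⟨w nc.1 * nc.2.1, ?_⟩ :
      (QuotientGroup.mk ⁻¹'
      ((Subgroup.centralizer ({(QuotientGroup.mk g : G ⧸ N)} : Set (G ⧸ N)) : Subgroup (G ⧸ N)) :
      Set (G ⧸ N))))) ⟨?_, ?_⟩)
  · rw [hD]
    have this : w nc.1 * nc.2.1 * g * (w nc.1 * nc.2.1)⁻¹ = g * nc.1.1 :=
      aux1 g _ _ _ (hw nc.1) ((hcent _).1 nc.2.2)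
    rw [this]
    simpa using nc.1.2.1
  · rintro ⟨n1, c1⟩ ⟨n2, c2⟩ h
    simp only [Subtype.mk.injEq] at h
    have e1 : w n1 * c1.1 * g * (w n1 * c1.1)⁻¹ = g * n1.1 :=
      aux1 g _ _ _ (hw n1) ((hcent _).1 c1.2)
    have e2 : w n2 * c2.1 * g * (w n2 * c2.1)⁻¹ = g * n2.1 :=
      aux1 g _ _ _ (hw n2) ((hcent _).1 c2.2)
    rw [h, e2] at e1
    have hn : n1 = n2 := by
      apply Subtype.ext
      exact (mul_left_cancel e1).symm
    subst hn
    have hc : c1 = c2 := by
      apply Subtype.ext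
      exact mul_left_cancel h
    rw [hc]
  · rintro ⟨x, hx⟩
    have hx' := (hD x).1 hx
    have hmem : g⁻¹ * (x * g * x⁻¹) ∈ N ∧ ∃ y : G, y * g * y⁻¹ = g * (g⁻¹ * (x * g * x⁻¹)) :=
      ⟨hx', x, by group⟩
    refine ⟨(⟨g⁻¹ * (x * g * x⁻¹), hmem⟩, ⟨(w ⟨g⁻¹ * (x * g * x⁻¹), hmem⟩)⁻¹ * x, ?_⟩), ?_⟩
    · rw [hcent]
      have h2 := hw ⟨g⁻¹ * (x * g * x⁻¹), hmem⟩
      simp only at h2
      apply aux2
      rw [h2]; group
    · apply Subtype.ext
      simp

/-- Let G be a finite group and N a normal subgroup. Then the conjugacy class of every element g outside N is a union of cosets of N (gn is conjugate to g for all n ∈ N) if and only if for every g outside N the centralizer of g in G has the same order as the centralizer of gN in G/N. -/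
theorem result {G : Type*} [Group G] [Finite G] (N : Subgroup G) [N.Normal] :
    (∀ g : G, g ∉ N → ∀ n ∈ N, ∃ x : G, x * g * x⁻¹ = g * n) ↔
      ∀ g : G, g ∉ N → Nat.card (Subgroup.centralizer ({g} : Set G)) =
        Nat.card (Subgroup.centralizer ({(QuotientGroup.mk g : G ⧸ N)} : Set (G ⧸ N))) := by
  have hsub : ∀ g : G, Nat.card {n : G // n ∈ N ∧ ∃ x : G, x * g * x⁻¹ = g * n} ≤ Nat.card N ∧
      (Nat.card {n : G // n ∈ N ∧ ∃ x : G, x * g * x⁻¹ = g * n} = Nat.card N →
        ∀ n ∈ N, ∃ x : G, x * g * x⁻¹ = g * n) := by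
    intro g
    have hinj : Function.Injective
        (fun n : {n : G // n ∈ N ∧ ∃ x : G, x * g * x⁻¹ = g * n} => (⟨n.1, n.2.1⟩ : N)) := by
      intro a b h
      simp only [Subtype.mk.injEq] at h
      exact Subtype.ext h
    refine ⟨Nat.card_le_card_of_injective _ hinj, ?_⟩
    intro heq n hn
    have hbij : Function.Bijective
        (fun n : {n : G // n ∈ N ∧ ∃ x : G, x * g * x⁻¹ = g * n} => (⟨n.1, n.2.1⟩ : N)) := by
      rw [Nat.bijective_iff_injective_and_card]
      exact ⟨hinj, heq⟩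
    obtain ⟨m, hm⟩ := hbij.2 ⟨n, hn⟩
    have : m.1 = n := congrArg Subtype.val hm
    rw [← this]
    exact m.2.2
  constructor
  · intro h g hg
    have hk := key N g
    have : Nat.card {n : G // n ∈ N ∧ ∃ x : G, x * g * x⁻¹ = g * n} = Nat.card N := by
      apply Nat.card_congr
      exact { toFun := fun n => ⟨n.1, n.2.1⟩
              invFun := fun n => ⟨n.1, n.2, h g hg n.1 n.2⟩
              left_inv := fun n => rfl
              right_inv := fun n => rfl }
    rw [this] at hk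
    exact (Nat.eq_of_mul_eq_mul_left Nat.card_pos hk).symm
  · intro h g hg
    have hk := key N g
    rw [← h g hg] at hk
    have := Nat.eq_of_mul_eq_mul_right Nat.card_pos hk
    exact (hsub g).2 this.symm

end Cfsg.Agent.S4142
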