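import Cfsg.Statements.S4157
import Cfsg.Agent.Lib.Helper2.Kul
import Cfsg.Agent.Lib.Helper70.Kul2E

set_option autoImplicit false
open Cfsg

namespace Cfsg.Agent.S4157

/-- Let G be a finite p-group of order p^m that is not cyclic and, when p = 2, not of maximal class (nilpotency class m − 1). Then for every 1 ≤ k < m the number of subgroups of G of order p^k is congruent to 1 + p modulo p². -/
theorem result {G : Type*} [Group G] [Finite G] {p : ℕ} [Fact p.Prime] (m : ℕ)
    (hG : Nat.card G = p ^ m) (hnc : ¬ IsCyclic G) (h2 : p = 2 → Group.nilpotencyClass G ≠ m - 1)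
    (k : ℕ) (hk1 : 1 ≤ k) (hk2 : k < m) :
    Nat.card {H : Subgroup G // Nat.card H = p ^ k} ≡ 1 + p [MOD p ^ 2] := by
  by_cases hp2 : p = 2
  · subst hp2
    have hP : IsPGroup 2 G := IsPGroup.of_card hG
    by_cases hcase : k + 1 = m
    · have e : Nat.card {H : Subgroup G // Nat.card H = 2 ^ k} =
          Nat.card {M : Subgroup G // M.index = 2} := by
        refine Nat.card_congr (Equiv.subtypeEquivRight fun M => ?_)
        constructor
        · intro h
          exact Cfsg.Agent.Lib.Helper2.Kul.index_of_card (p := 2) hG (by omega)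
            (by rw [h]; congr 1; omega)
        · intro h
          rw [(Cfsg.Agent.Lib.Helper2.Kul.card_of_index (p := 2) hG h).2]; congr 1; omega
      rw [e]
      exact Cfsg.Agent.Lib.Helper2.Kul.max_card_modEq hP hnc
    · have h1 := Cfsg.Agent.Lib.Helper70.Kul2E.main _ G rfl hnc m hG k hk1 (by omega)
      have h3 : Nat.card {H : Subgroup G // Nat.card H = 2 ^ 1} ≡ 3 [MOD 4] :=
        Cfsg.Agent.Lib.Helper70.Kul2C.card_two_of_not_class hG hnc (h2 rfl)
      exact h1.trans h3
  · exact Cfsg.Agent.Lib.Helper2.Kul.kulakoff hp2 _ G rfl (IsPGroup.of_card hG) hnc k hk1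
      (by rw [hG]; exact pow_dvd_pow p (by omega))

end Cfsg.Agent.S4157
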