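import Cfsg.Statements.S4188
import Cfsg.Agent.Lib.Helper70.TwoAct2

set_option autoImplicit false
open Cfsg

namespace Cfsg.Agent.S4188

open scoped Pointwise in
/-- Let G be a finite group that is the semidirect product of a normal abelian subgroup N of odd order by a 2-subgroup P, and suppose N is the unique minimal normal subgroup of G. Then the index of the Frattini subgroup of P in P is at most #N − 1. -/
theorem result {G : Type*} [Group G] [Finite G] (N P : Subgroup G) (hN : N.Normal) (hNab : IsMulCommutative ↥N) (hNodd : Odd (Nat.card ↥N)) (hP : IsPGroup 2 ↥P) (hdisj : N ⊓ P = ⊥) (hprod : N ⊔ P = ⊤) (hmin : N ≠ ⊥ ∧ ∀ M : Subgroup G, M.Normal → M ≠ ⊥ → N ≤ M) : (frattini ↥P).index ≤ Nat.card ↥N - 1 := by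
  have hcomm : ∀ a b : N, a * b = b * a := fun a b => mul_comm' a b
  have hcommG : ∀ a ∈ N, ∀ b ∈ N, a * b = b * a := fun a ha b hb =>
    congrArg Subtype.val (hcomm ⟨a, ha⟩ ⟨b, hb⟩)
  -- the centralizer of `N` in `P` is trivial
  let C : Subgroup G := P ⊓ Subgroup.centralizer (N : Set G)
  have hCmem : ∀ c : G, c ∈ C ↔ c ∈ P ∧ ∀ n ∈ N, n * c = c * n := by
    intro c
    show c ∈ P ⊓ Subgroup.centralizer (N : Set G) ↔ _
    rw [Subgroup.mem_inf, Subgroup.mem_centralizer_iff]
    rfl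
  have hCn : C.Normal := by
    constructor
    intro c hc g
    obtain ⟨hcP, hcN⟩ := (hCmem c).mp hc
    have hg : g ∈ ((N ⊔ P : Subgroup G) : Set G) := by rw [hprod]; exact Subgroup.mem_top g
    rw [Subgroup.normal_mul, Set.mem_mul] at hg
    obtain ⟨n, hn, x, hx, rfl⟩ := hg
    have hn' : n ∈ N := hn
    have hx' : x ∈ P := hx
    -- x c x⁻¹ ∈ C
    have h1 : x * c * x⁻¹ ∈ C := by
      rw [hCmem]
      refine ⟨P.mul_mem (P.mul_mem hx' hcP) (P.inv_mem hx'), ?_⟩
      intro m hm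
      have hm' : x⁻¹ * m * x ∈ N := by
        have := hN.conj_mem m hm x⁻¹
        simpa using this
      have h2 := hcN _ hm'
      calc m * (x * c * x⁻¹) = x * ((x⁻¹ * m * x) * c) * x⁻¹ := by group
        _ = x * (c * (x⁻¹ * m * x)) * x⁻¹ := by rw [h2]
        _ = x * c * x⁻¹ * m := by group
    have h3 := ((hCmem _).mp h1).2 n hn'
    have h4 : n * x * c * (n * x)⁻¹ = x * c * x⁻¹ := by
      calc n * x * c * (n * x)⁻¹ = (n * (x * c * x⁻¹)) * n⁻¹ := by group
        _ = (x * c * x⁻¹ * n) * n⁻¹ := by rw [h3]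
        _ = x * c * x⁻¹ := by group
    rw [h4]
    exact h1
  have hCbot : C = ⊥ := by
    by_contra hne
    have h1 := hmin.2 C hCn hne
    apply hmin.1
    rw [eq_bot_iff, ← hdisj]
    exact le_inf le_rfl (h1.trans inf_le_left)
  -- the conjugation action
  let c : P →* MulAut N := (MulAut.conjNormal (H := N)).comp P.subtype
  have hcinj : Function.Injective c := by
    rw [← MonoidHom.ker_eq_bot_iff, eq_bot_iff]
    intro x hx
    rw [MonoidHom.mem_ker] at hx
    rw [Subgroup.mem_bot]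
    have hxC : (x : G) ∈ C := by
      rw [hCmem]
      refine ⟨x.2, fun n hn => ?_⟩
      have h1 := congrArg (fun f : MulAut N => ((f ⟨n, hn⟩ : N) : G)) hx
      have h2 : (x : G) * n * (x : G)⁻¹ = n := h1
      calc n * (x : G) = ((x : G) * n * (x : G)⁻¹) * (x : G) := by rw [h2]
        _ = (x : G) * n := by group
    rw [hCbot, Subgroup.mem_bot] at hxC
    exact Subtype.ext hxC
  have hrp : IsPGroup 2 c.range :=
    IsPGroup.of_surjective hP c.rangeRestrict c.rangeRestrict_surjective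
  have hB := Cfsg.Agent.Lib.Helper70.TwoAct.key (Nat.card N) N hcomm rfl hNodd c.range hrp
  have h1 : (frattini ↥P).index ≤ Cfsg.Agent.Lib.Helper70.SqIdx.sqIdx P :=
    Cfsg.Agent.Lib.Helper70.SqIdx.frattini_index_le hP
  have h2 : Cfsg.Agent.Lib.Helper70.SqIdx.sqIdx P ≤ Cfsg.Agent.Lib.Helper70.SqIdx.sqIdx c.range :=
    Cfsg.Agent.Lib.Helper70.SqIdx.sqIdx_le_of_injective c hcinj
  have hN1 : Nat.card N ≠ 1 := fun h => hmin.1 (Subgroup.card_eq_one.mp h)
  by_cases h3 : Nat.card N = 3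
  · have h4 := hB.1 h3
    have h5 := Cfsg.Agent.Lib.Helper70.SqIdx.sqIdx_le_card c.range
    omega
  · have h4 := hB.2 h3 hN1
    omega

end Cfsg.Agent.S4188
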