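import Cfsg.Statements.S4214
import Cfsg.Agent.Lib.Helper72.HallCount

set_option autoImplicit false
open Cfsg

namespace Cfsg.Agent.S4214

open Cfsg.Agent.Lib.Helper72.CoprimeHall Cfsg.Agent.Lib.Helper72.HallCount

universe u

/-- the property of a factor -/
def Fac (G : Type u) [Group G] (m x : ℕ) : Prop :=
  (∃ q e : ℕ, q.Prime ∧ x = q ^ e) ∧ (∃ K L : Subgroup G, K.Normal ∧ L.Normal ∧ K < L ∧ (∀ M : Subgroup G, M.Normal → K ≤ M → M ≤ L → M = K ∨ M = L) ∧ x ∣ K.relIndex L) ∧ (∃ q : ℕ, q.Prime ∧ q ∣ m ∧ x ≡ 1 [MOD q])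

/-- products of good factors -/
def Good (G : Type u) [Group G] (m N : ℕ) : Prop :=
  ∃ l : List ℕ, l.prod = N ∧ ∀ x ∈ l, Fac G m x

theorem good_one (G : Type u) [Group G] (m : ℕ) : Good G m 1 := ⟨[], rfl, by simp⟩

theorem good_mul {G : Type u} [Group G] {m a b : ℕ} (ha : Good G m a) (hb : Good G m b) :
    Good G m (a * b) := by
  obtain ⟨l₁, h1, h1'⟩ := ha
  obtain ⟨l₂, h2, h2'⟩ := hb
  refine ⟨l₁ ++ l₂, by rw [List.prod_append, h1, h2], ?_⟩
  intro x hx
  rcases List.mem_append.mp hx with h | h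
  · exact h1' x h
  · exact h2' x h

theorem fac_lift {G : Type u} [Group G] (M : Subgroup G) [M.Normal] {m' m x : ℕ} (hm : m' ∣ m)
    (h : Fac (G ⧸ M) m' x) : Fac G m x := by
  obtain ⟨h1, ⟨K, L, hK, hL, hKL, hmin, hx⟩, ⟨q, hq, hqm, hxq⟩⟩ := h
  set f := QuotientGroup.mk' M with hf
  have hfs : Function.Surjective f := QuotientGroup.mk'_surjective M
  refine ⟨h1, ⟨K.comap f, L.comap f, hK.comap f, hL.comap f,
    (Subgroup.comap_lt_comap_of_surjective hfs).mpr hKL, ?_, ?_⟩, ⟨q, hq, hqm.trans hm, hxq⟩⟩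
  · intro N hN hKN hNL
    have hMN : M ≤ N := by
      refine le_trans ?_ hKN
      intro x hx
      rw [Subgroup.mem_comap]
      have : f x = 1 := (QuotientGroup.eq_one_iff x).mpr hx
      rw [this]; exact K.one_mem
    have hN' : (N.map f).comap f = N := by
      rw [Subgroup.comap_map_eq, hf, QuotientGroup.ker_mk', sup_eq_left.mpr hMN]
    have h2 : K ≤ N.map f := by
      have := Subgroup.map_mono (f := f) hKN
      rwa [Subgroup.map_comap_eq_self_of_surjective hfs] at this
    have h3 : N.map f ≤ L := Subgroup.map_le_iff_le_comap.mpr hNL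
    rcases hmin (N.map f) (hN.map f hfs) h2 h3 with h | h
    · left; rw [← hN', h]
    · right; rw [← hN', h]
  · rw [Subgroup.relIndex_comap, Subgroup.map_comap_eq_self_of_surjective hfs]; exact hx

theorem main_aux (k : ℕ) : ∀ (G : Type u) [Group G] [Finite G] [Group.IsSolvable G],
    Nat.card G ≤ k → ∀ m n : ℕ, Nat.card G = m * n → m.Coprime n →
    Good G m (Nat.card {H : Subgroup G // Nat.card H = m}) := by
  induction k with
  | zero =>
    intro G _ _ _ hk
    have : 0 < Nat.card G := Nat.card_pos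
    omega
  | succ k ih =>
    intro G _ _ _ hk m n hG hmn
    by_cases htriv : Subsingleton G
    · have hc : Nat.card G = 1 := Nat.card_of_subsingleton 1
      have hm : m = 1 := by
        rw [hc] at hG
        exact Nat.eq_one_of_mul_eq_one_right hG.symm
      have : Nat.card {H : Subgroup G // Nat.card H = m} = 1 := by
        rw [Nat.card_eq_one_iff_unique]
        refine ⟨⟨fun a b => Subtype.ext (Subsingleton.elim _ _)⟩,
          ⟨⟨⊥, by rw [hm]; exact Subgroup.card_bot⟩⟩⟩
      rw [this]; exact good_one G m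
    · rw [not_subsingleton_iff_nontrivial] at htriv
      haveI := htriv
      obtain ⟨p, M, hp, hMn, hMne, hMp, hMmin⟩ := exists_minimal_normal (G := G)
      haveI := hMn
      haveI : Fact p.Prime := ⟨hp⟩
      have hfs := QuotientGroup.mk'_surjective M
      haveI : Group.IsSolvable (G ⧸ M) := Group.isSolvable_of_surjective hfs
      have hcardM : 1 < Nat.card M := (Subgroup.one_lt_card_iff_ne_bot M).mpr hMne
      have hcardQ := Subgroup.card_eq_card_quotient_mul_card_subgroup M
      have hQk : Nat.card (G ⧸ M) ≤ k := by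
        have : 0 < Nat.card (G ⧸ M) := Nat.card_pos
        nlinarith
      obtain ⟨j, hj⟩ := IsPGroup.iff_card.mp hMp
      have hMdG : Nat.card M ∣ m * n := by rw [← hG]; exact Subgroup.card_subgroup_dvd_card M
      have hpos : 0 < Nat.card M := Nat.card_pos
      by_cases hpm : p ∣ m
      · have hpn : ¬ p ∣ n := fun h => Nat.Prime.not_coprime_iff_dvd.mpr ⟨p, hp, hpm, h⟩ hmn
        have hMn' : (Nat.card M).Coprime n := by
          rw [hj]; exact Nat.Coprime.pow_left j ((Nat.Prime.coprime_iff_not_dvd hp).mpr hpn)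
        obtain ⟨m', hm'⟩ := hMn'.dvd_of_dvd_mul_right hMdG
        subst hm'
        have hQ : Nat.card (G ⧸ M) = m' * n := by
          rw [hG] at hcardQ
          have : (m' * n) * Nat.card M = Nat.card (G ⧸ M) * Nat.card M := by rw [← hcardQ]; ring
          exact (Nat.eq_of_mul_eq_mul_right hpos this).symm
        have hm'n : m'.Coprime n := Nat.Coprime.coprime_dvd_left (Dvd.intro_left _ rfl) hmn
        rw [card_hall_quot' m' n M hG hmn]
        obtain ⟨l, hl, hl'⟩ := ih (G ⧸ M) hQk m' n hQ hm'n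
        exact ⟨l, hl, fun x hx => fac_lift M (Dvd.intro_left _ rfl) (hl' x hx)⟩
      · have hMm : (Nat.card M).Coprime m := by
          rw [hj]; exact Nat.Coprime.pow_left j ((Nat.Prime.coprime_iff_not_dvd hp).mpr hpm)
        obtain ⟨n', hn'⟩ := hMm.dvd_of_dvd_mul_left hMdG
        have hQ : Nat.card (G ⧸ M) = m * n' := by
          rw [hG, hn'] at hcardQ
          have : (m * n') * Nat.card M = Nat.card (G ⧸ M) * Nat.card M := by rw [← hcardQ]; ring
          exact (Nat.eq_of_mul_eq_mul_right hpos this).symm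
        have hmn' : m.Coprime n' := Nat.Coprime.coprime_dvd_right (Dvd.intro_left _ hn'.symm) hmn
        obtain ⟨H₀, hH₀⟩ := Cfsg.Agent.Lib.Helper91.Hall.hall_exists (G := G) m n hG hmn
        rw [card_hall_quot m n hG hmn M hMm H₀ hH₀]
        apply good_mul
        · obtain ⟨l, hl, hl'⟩ := ih (G ⧸ M) hQk m n' hQ hmn'
          exact ⟨l, hl, fun x hx => fac_lift M dvd_rfl (hl' x hx)⟩
        · have hpH : ¬ p ∣ Nat.card H₀ := by rw [hH₀]; exact hpm
          obtain ⟨l, hl, hl'⟩ := cent_index_good p M hMp (Nat.card H₀) H₀ le_rfl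
            (Group.isSolvable_of_isSolvable_injective (Subgroup.subtype_injective H₀)) hpH
          refine ⟨l, hl, fun x hx => ?_⟩
          obtain ⟨h1, q, hq, hqd, hxq⟩ := hl' x hx
          refine ⟨?_, ⟨⊥, M, inferInstance, hMn, bot_lt_iff_ne_bot.mpr hMne, ?_, ?_⟩,
            ⟨q, hq, hH₀ ▸ hqd, hxq⟩⟩
          · rw [hj] at h1
            obtain ⟨e, -, he⟩ := (Nat.dvd_prime_pow hp).mp h1
            exact ⟨p, e, hp, he⟩
          · intro N hN _ hNM
            exact hMmin N hN hNM
          · rw [Subgroup.relIndex_bot_left]; exact h1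

/-- Let `G` be a finite solvable group of order `mn` with `gcd(m, n) = 1`. Then the number of subgroups of order `m` is a product of natural numbers each of which is a power of a prime, divides the order of some chief factor of `G` (a quotient `L/K` of normal subgroups `K < L` of `G` with no normal subgroup of `G` strictly between them), and is congruent to `1` modulo some prime divisor of `m`. -/
theorem result {G : Type*} [Group G] [Finite G] [Group.IsSolvable G] (m n : ℕ) (hG : Nat.card G = m * n) (hmn : Nat.Coprime m n) : ∃ (k : ℕ) (f : Fin k → ℕ), Nat.card {H : Subgroup G // Nat.card H = m} = ∏ i, f i ∧ ∀ i, (∃ q e : ℕ, q.Prime ∧ f i = q ^ e) ∧ (∃ K L : Subgroup G, K.Normal ∧ L.Normal ∧ K < L ∧ (∀ M : Subgroup G, M.Normal → K ≤ M → M ≤ L → M = K ∨ M = L) ∧ f i ∣ K.relIndex L) ∧ (∃ q : ℕ, q.Prime ∧ q ∣ m ∧ f i ≡ 1 [MOD q]) := by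
  obtain ⟨l, hl, hl'⟩ := main_aux (Nat.card G) G le_rfl m n hG hmn
  refine ⟨l.length, fun i => l.get i, ?_, fun i => hl' _ (List.get_mem l i)⟩
  rw [← hl, ← List.prod_ofFn, List.ofFn_get]

end Cfsg.Agent.S4214
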