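import Cfsg.Statements.S4237
import Cfsg.Agent.Lib.Helper2.Kul
import Cfsg.Agent.Lib.Helper2.SubRed

set_option autoImplicit false
open Cfsg

namespace Cfsg.Agent.S4237

/-- Let G be a finite group, p a prime and a a natural number such that p^(a+1) divides the order of G. Then the number of subgroups of G of order p^a is congruent to 1 or to 1 + p modulo p². -/
theorem result {G : Type*} [Group G] [Finite G] (p a : ℕ) (hp : p.Prime) (hdvd : p ^ (a + 1) ∣ Nat.card G) :
    Nat.card {H : Subgroup G // Nat.card H = p ^ a} ≡ 1 [MOD p ^ 2] ∨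
      Nat.card {H : Subgroup G // Nat.card H = p ^ a} ≡ 1 + p [MOD p ^ 2] := by
  haveI : Fact p.Prime := ⟨hp⟩
  by_cases hp2 : p = 2
  · subst hp2
    have h1 := Cfsg.Agent.Lib.Helper91.SubCount.card_subgroups_modEq_one G 2 a hp
      ((pow_dvd_pow 2 (Nat.le_succ a)).trans hdvd)
    have h2 : Nat.card {H : Subgroup G // Nat.card H = 2 ^ a} % 2 = 1 := h1
    have h3 : Nat.card {H : Subgroup G // Nat.card H = 2 ^ a} % 4 = 1 ∨
        Nat.card {H : Subgroup G // Nat.card H = 2 ^ a} % 4 = 3 := by omega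
    rcases h3 with h3 | h3
    · left; exact h3
    · right; exact h3
  · obtain ⟨P⟩ : Nonempty (Sylow p G) := inferInstance
    have hdvdP : p ^ (a + 1) ∣ Nat.card P := P.pow_dvd_card_of_pow_dvd_card hdvd
    have h := Cfsg.Agent.Lib.Helper2.SubRed.sylow_reduction P hdvdP
    rcases Nat.eq_zero_or_pos a with rfl | ha
    · left
      haveI : Unique {H : Subgroup G // Nat.card H = p ^ 0} :=
        ⟨⟨⟨⊥, by simp⟩⟩, fun H => Subtype.ext ((Subgroup.eq_bot_iff_card H.1).mpr (by simpa using H.2))⟩
      rw [Nat.card_unique]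
    · by_cases hc : IsCyclic (P : Subgroup G)
      · left
        have h1 := Cfsg.Agent.Lib.Helper2.Kul.cyclic_count hc a
          ((pow_dvd_pow p (Nat.le_succ a)).trans hdvdP)
        rwa [h1] at h
      · right
        exact h.trans (Cfsg.Agent.Lib.Helper2.Kul.kulakoff hp2 (Nat.card (P : Subgroup G))
          (P : Subgroup G) rfl P.2 hc a ha hdvdP)

end Cfsg.Agent.S4237
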