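import Cfsg.Statements.S4348

set_option autoImplicit false
open Cfsg

namespace Cfsg.Agent.S4348

/-- Let G be a finite group, p a prime and P a Sylow p-subgroup of G, and let O_p(G) be the largest normal p-subgroup of G. If P/O_p(G) is cyclic, then some element of p-power order of G lies in exactly one Sylow p-subgroup. -/
theorem result {G : Type*} [Group G] [Finite G]
    (p : ℕ) [Fact p.Prime] (P : Sylow p G)
    [hn : ((Cfsg.pCore p G).subgroupOf (P : Subgroup G)).Normal]
    (hc : IsCyclic ((P : Subgroup G) ⧸ (Cfsg.pCore p G).subgroupOf (P : Subgroup G))) :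
    ∃ x : G, (∃ k : ℕ, orderOf x = p ^ k) ∧ ∃! Q : Sylow p G, x ∈ Q := by
  obtain ⟨gbar, hgen⟩ := hc.exists_generator
  obtain ⟨x, rfl⟩ := QuotientGroup.mk_surjective gbar
  have hcore : ∀ Q : Sylow p G, Cfsg.pCore p G ≤ Q := by
    intro Q
    unfold Cfsg.pCore
    apply sSup_le
    rintro N ⟨hN, hNp⟩
    exact hNp.le_sylow_of_normal Q
  refine ⟨(x : G), ?_, P, x.2, ?_⟩
  · obtain ⟨k, hk⟩ := (IsPGroup.iff_orderOf.mp P.isPGroup') x
    exact ⟨k, by rw [← hk, Subgroup.orderOf_coe]⟩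
  · intro Q hxQ
    have hPQ : (P : Subgroup G) ≤ Q := by
      intro y hy
      have hy' := hgen (QuotientGroup.mk ⟨y, hy⟩)
      rw [Subgroup.mem_zpowers_iff] at hy'
      obtain ⟨k, hk⟩ := hy'
      have h1 : (x ^ k)⁻¹ * ⟨y, hy⟩ ∈ (Cfsg.pCore p G).subgroupOf (P : Subgroup G) := by
        rw [← QuotientGroup.eq]
        simpa using hk
      rw [Subgroup.mem_subgroupOf] at h1
      have h2 : ((x : G) ^ k)⁻¹ * y ∈ (Q : Subgroup G) := hcore Q (by simpa using h1)
      have h3 : (x : G) ^ k ∈ (Q : Subgroup G) := Subgroup.zpow_mem _ hxQ k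
      have h4 := Subgroup.mul_mem _ h3 h2
      simpa using h4
    exact Sylow.ext (P.is_maximal' Q.isPGroup' hPQ)

end Cfsg.Agent.S4348
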