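import Cfsg.Statements.S4358
import Mathlib

set_option autoImplicit false
open Cfsg

namespace Cfsg.Agent.S4358

open Matrix

variable {F : Type*} [Field F] {p : ℕ} [NeZero p]

/-- raw monomial matrix with cyclic shift `j` and coefficients `d` -/
def M (j : Fin p) (d : Fin p → F) : Matrix (Fin p) (Fin p) F :=
  Matrix.of fun i k => if k = i + j then d i else 0

lemma M_apply (j : Fin p) (d : Fin p → F) (i k : Fin p) :
    M j d i k = if k = i + j then d i else 0 := rfl

lemma M_mul (j j' : Fin p) (d d' : Fin p → F) :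
    M j d * M j' d' = M (j + j') (fun i => d i * d' (i + j)) := by
  ext i k
  simp only [Matrix.mul_apply, M_apply]
  rw [Finset.sum_eq_single (i + j)]
  · simp [add_assoc]
  · intro l _ hl; simp [hl]
  · simp

lemma M_zero (d : Fin p → F) : M 0 d = Matrix.diagonal d := by
  ext i k
  simp [M_apply, Matrix.diagonal_apply, eq_comm]

lemma M_zero_one : M (0 : Fin p) (fun _ => (1 : F)) = 1 := by
  rw [M_zero]; exact Matrix.diagonal_one

lemma root_ne_zero {a : F} (h : a ^ p = 1) : a ≠ 0 := by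
  rintro rfl
  rw [zero_pow (NeZero.ne p)] at h
  exact zero_ne_one h

lemma M_inj {j j' : Fin p} {d d' : Fin p → F} (hd : ∀ i, d i ≠ 0) (h : M j d = M j' d') :
    j = j' ∧ d = d' := by
  have key : ∀ i, i + j = i + j' ∧ d i = d' i := by
    intro i
    have h1 := congrFun (congrFun h i) (i + j)
    simp only [M_apply, if_true] at h1
    by_cases h2 : i + j = i + j'
    · rw [if_pos h2] at h1; exact ⟨h2, h1⟩
    · rw [if_neg h2] at h1; exact absurd h1 (hd i)
  exact ⟨add_left_cancel (key 0).1, funext fun i => (key i).2⟩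

lemma M_pow (j : Fin p) (d : Fin p → F) (hd : ∀ i, d i ^ p = 1) (n : ℕ) :
    ∃ d' : Fin p → F, (∀ i, d' i ^ p = 1) ∧ (M j d) ^ n = M (n • j) d' := by
  induction n with
  | zero => exact ⟨fun _ => 1, fun _ => one_pow _, by rw [pow_zero, zero_smul, M_zero_one]⟩
  | succ n ih =>
    obtain ⟨d', hd', h⟩ := ih
    refine ⟨fun i => d' i * d (i + n • j), fun i => by rw [mul_pow, hd', hd, one_mul], ?_⟩
    rw [pow_succ, h, M_mul, succ_nsmul]

lemma M_right_inv (j : Fin p) (d : Fin p → F) (hd : ∀ i, d i ≠ 0) :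
    M j d * M (-j) (fun i => (d (i - j))⁻¹) = 1 := by
  rw [M_mul, ← M_zero_one]
  congr 1
  · exact add_neg_cancel j
  · funext i
    simp only [add_sub_cancel_right]
    exact mul_inv_cancel₀ (hd i)

variable (F p) in
/-- the Sylow subgroup: monomial matrices with cyclic shift and `p`-th roots of unity -/
def Q : Subgroup (GL (Fin p) F) where
  carrier := {g | ∃ (j : Fin p) (d : Fin p → F), (∀ i, d i ^ p = 1) ∧
    (g : Matrix (Fin p) (Fin p) F) = M j d}
  mul_mem' := by
    rintro a b ⟨j, d, hd, ha⟩ ⟨j', d', hd', hb⟩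
    refine ⟨j + j', fun i => d i * d' (i + j), fun i => by rw [mul_pow, hd, hd', one_mul], ?_⟩
    rw [Units.val_mul, ha, hb, M_mul]
  one_mem' := ⟨0, fun _ => 1, fun _ => one_pow _, by rw [M_zero_one]; rfl⟩
  inv_mem' := by
    rintro a ⟨j, d, hd, ha⟩
    refine ⟨-j, fun i => (d (i - j))⁻¹, fun i => by rw [inv_pow, hd, inv_one], ?_⟩
    have h := M_right_inv j d (fun i => root_ne_zero (hd i))
    rw [← ha] at h
    exact Units.inv_eq_of_mul_eq_one_right h

lemma mem_Q {g : GL (Fin p) F} : g ∈ Q F p ↔ ∃ (j : Fin p) (d : Fin p → F), (∀ i, d i ^ p = 1) ∧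
    (g : Matrix (Fin p) (Fin p) F) = M j d := Iff.rfl

/-- the group element with given shift and roots of unity -/
def mk (j : Fin p) (d : Fin p → {a : F // a ^ p = 1}) : GL (Fin p) F :=
  ⟨M j (fun i => (d i).1), M (-j) (fun i => ((d (i - j)).1)⁻¹),
    M_right_inv j _ (fun i => root_ne_zero (d i).2),
    mul_eq_one_comm.mp (M_right_inv j _ (fun i => root_ne_zero (d i).2))⟩

lemma mk_val (j : Fin p) (d : Fin p → {a : F // a ^ p = 1}) :
    ((mk j d : GL (Fin p) F) : Matrix (Fin p) (Fin p) F) = M j (fun i => (d i).1) := rfl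

lemma mk_mem (j : Fin p) (d : Fin p → {a : F // a ^ p = 1}) : mk j d ∈ Q F p :=
  ⟨j, _, fun i => (d i).2, rfl⟩

lemma Q_eq_range : (Q F p : Set (GL (Fin p) F)) =
    Set.range (fun jd : Fin p × (Fin p → {a : F // a ^ p = 1}) => mk jd.1 jd.2) := by
  ext g
  constructor
  · rintro ⟨j, d, hd, hg⟩
    exact ⟨(j, fun i => ⟨d i, hd i⟩), Units.ext (by rw [mk_val, hg])⟩
  · rintro ⟨jd, rfl⟩
    exact mk_mem _ _

lemma mk_injective : Function.Injective
    (fun jd : Fin p × (Fin p → {a : F // a ^ p = 1}) => mk jd.1 jd.2) := by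
  rintro ⟨j, d⟩ ⟨j', d'⟩ h
  have h1 : M j (fun i => (d i).1) = M j' (fun i => (d' i).1) := congrArg Units.val h
  obtain ⟨h2, h3⟩ := M_inj (fun i => root_ne_zero (d i).2) h1
  refine Prod.ext h2 (funext fun i => Subtype.ext (congrFun h3 i))

lemma card_Q [Finite F] (hμ : Nat.card {a : F // a ^ p = 1} = p) :
    Nat.card (Q F p) = p ^ (p + 1) := by
  have h1 : Nat.card (Q F p) = Nat.card (Set.range
      (fun jd : Fin p × (Fin p → {a : F // a ^ p = 1}) => mk jd.1 jd.2)) := by
    rw [← Q_eq_range]; rfl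
  rw [h1, Nat.card_range_of_injective mk_injective, Nat.card_prod, Nat.card_fun, hμ]
  simp [pow_succ, mul_comm]

lemma card_mu [Fintype F] [Fact p.Prime] (h1 : p ∣ Fintype.card F - 1) :
    ∃ ζ : F, ζ ^ p = 1 ∧ ζ ≠ 1 ∧ Nat.card {a : F // a ^ p = 1} = p := by
  classical
  have hpp : p.Prime := Fact.out
  have hc : Nat.card Fˣ = Fintype.card F - 1 := by
    rw [Nat.card_eq_fintype_card, Fintype.card_units]
  obtain ⟨z, hz⟩ := exists_prime_orderOf_dvd_card' (G := Fˣ) p (hc ▸ h1)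
  have hprim : IsPrimitiveRoot (z : F) p := by
    rw [IsPrimitiveRoot.coe_units_iff, ← hz]; exact IsPrimitiveRoot.orderOf z
  refine ⟨z, hprim.pow_eq_one, hprim.ne_one hpp.one_lt, ?_⟩
  have h3 := hprim.card_nthRootsFinset
  have h4 : Nat.card {a : F // a ^ p = 1} = Nat.card (↥(Polynomial.nthRootsFinset p (1 : F))) :=
    Nat.card_congr (Equiv.subtypeEquivRight
      (fun a => (Polynomial.mem_nthRootsFinset hpp.pos (1 : F)).symm))
  rw [h4, Nat.card_eq_fintype_card, Fintype.card_coe, h3]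

lemma val_card_GL [Fintype F] [Fact p.Prime] (hp : p ≠ 2) (h1 : p ∣ Fintype.card F - 1)
    (h2 : ¬ p ^ 2 ∣ Fintype.card F - 1) :
    (Nat.card (GL (Fin p) F)).factorization p = p + 1 := by
  classical
  have hpp : p.Prime := Fact.out
  have hodd : Odd p := hpp.odd_of_ne_two hp
  have hq1 : 1 < Fintype.card F := Fintype.one_lt_card
  have hq0 : Fintype.card F - 1 ≠ 0 := by omega
  have hpq : ¬ p ∣ Fintype.card F := by
    intro h
    have : p ∣ 1 := by
      have h5 := Nat.dvd_sub h h1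
      rwa [Nat.sub_sub_self hq1.le] at h5
    exact hpp.one_lt.ne' (Nat.dvd_one.mp this)
  have hv1 : padicValNat p (Fintype.card F - 1) = 1 := by
    rw [← Nat.factorization_def _ hpp]
    have ha : 1 ≤ (Fintype.card F - 1).factorization p :=
      (hpp.pow_dvd_iff_le_factorization hq0).mp (by simpa using h1)
    have hb : ¬ 2 ≤ (Fintype.card F - 1).factorization p := fun h =>
      h2 ((hpp.pow_dvd_iff_le_factorization hq0).mpr h)
    omega
  rw [Matrix.card_GL_field (𝔽 := F) p]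
  have hterm : ∀ i : Fin p, (Fintype.card F ^ p - Fintype.card F ^ (i : ℕ)).factorization p
      = 1 + (if i = 0 then 1 else 0) := by
    intro i
    have hi : (i : ℕ) < p := i.2
    have hsplit : Fintype.card F ^ p - Fintype.card F ^ (i : ℕ)
        = Fintype.card F ^ (i : ℕ) * (Fintype.card F ^ (p - (i : ℕ)) - 1) := by
      rw [Nat.mul_sub, mul_one, ← pow_add, Nat.add_sub_cancel' hi.le]
    have hne1 : Fintype.card F ^ (i : ℕ) ≠ 0 := pow_ne_zero _ (by omega)
    have hlt : 1 < Fintype.card F ^ (p - (i : ℕ)) := Nat.one_lt_pow (by omega) hq1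
    have hne2 : Fintype.card F ^ (p - (i : ℕ)) - 1 ≠ 0 := by omega
    rw [hsplit, Nat.factorization_mul hne1 hne2, Finsupp.add_apply,
      Nat.factorization_eq_zero_of_not_dvd (fun h => hpq (hpp.dvd_of_dvd_pow h)), zero_add,
      Nat.factorization_def _ hpp]
    have h6 := padicValNat.pow_sub_pow (p := p) hodd (x := Fintype.card F) (y := 1) hq1 h1 hpq
      (n := p - (i : ℕ)) (by omega)
    rw [one_pow] at h6
    rw [h6, hv1]
    congr 1
    by_cases h0 : i = 0
    · subst h0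
      simp
    · rw [if_neg h0]
      have h7 : (i : ℕ) ≠ 0 := fun h => h0 (Fin.ext (by simpa using h))
      apply padicValNat.eq_zero_of_not_dvd
      intro h8
      have := Nat.le_of_dvd (by omega) h8
      omega
  rw [Nat.factorization_prod (fun i _ => by
    have hi : (i : ℕ) < p := i.2
    have := Nat.pow_lt_pow_right hq1 hi
    omega)]
  simp only [Finsupp.coe_finsetSum, Finset.sum_apply, hterm]
  simp [Finset.sum_add_distrib]

/-- `Q` as a Sylow subgroup -/
noncomputable def QS [Fintype F] [Fact p.Prime] (hp : p ≠ 2) (h1 : p ∣ Fintype.card F - 1)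
    (h2 : ¬ p ^ 2 ∣ Fintype.card F - 1) : Sylow p (GL (Fin p) F) :=
  Sylow.ofCard (Q F p) (by
    obtain ⟨ζ, -, -, hμ⟩ := card_mu (F := F) (p := p) h1
    rw [card_Q hμ, val_card_GL hp h1 h2])

lemma QS_coe [Fintype F] [Fact p.Prime] (hp : p ≠ 2) (h1 : p ∣ Fintype.card F - 1)
    (h2 : ¬ p ^ 2 ∣ Fintype.card F - 1) :
    ((QS hp h1 h2 : Sylow p (GL (Fin p) F)) : Subgroup (GL (Fin p) F)) = Q F p :=
  Sylow.coe_ofCard _ _

lemma fin_two_ne [Fact p.Prime] (hp : p ≠ 2) {m : Fin p} (hm : m ≠ 0) : m + m ≠ 0 := by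
  have hpp : p.Prime := Fact.out
  intro h
  have h1 : ((m + m : Fin p) : ℕ) = 0 := by rw [h]; rfl
  rw [Fin.val_add] at h1
  have h2 : p ∣ (m : ℕ) + (m : ℕ) := Nat.dvd_of_mod_eq_zero h1
  have h3 : p ∣ 2 * (m : ℕ) := by rwa [two_mul]
  rcases hpp.dvd_mul.mp h3 with h4 | h4
  · have := Nat.le_of_dvd (by norm_num) h4
    have := hpp.two_le
    omega
  · have h5 : (m : ℕ) ≠ 0 := fun h => hm (Fin.ext (by simpa using h))
    have := Nat.le_of_dvd (by omega) h4
    have := m.2
    omega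

lemma lemN [Fact p.Prime] (hp : p ≠ 2) {ζ : F} (hζ : ζ ^ p = 1) (hζ1 : ζ ≠ 1)
    (g : GL (Fin p) F) (hg : ∀ y ∈ Q F p, g * y * g⁻¹ ∈ Q F p)
    (i k l : Fin p) (hkl : k ≠ l) (hk : (g : Matrix (Fin p) (Fin p) F) i k ≠ 0)
    (hl : (g : Matrix (Fin p) (Fin p) F) i l ≠ 0) : False := by
  classical
  set u : Fin p → {a : F // a ^ p = 1} := Function.update (fun _ => ⟨1, one_pow p⟩) k ⟨ζ, hζ⟩
    with hu
  obtain ⟨m, e, he, hy'⟩ := hg (mk 0 u) (mk_mem 0 u)
  set G : Matrix (Fin p) (Fin p) F := (g : Matrix (Fin p) (Fin p) F) with hG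
  set Y : Matrix (Fin p) (Fin p) F := Matrix.diagonal (fun i => (u i).1) with hY
  have hmat : M m e * G = G * Y := by
    rw [← hy', hY, ← M_zero, ← mk_val, hG, ← Units.val_mul, ← Units.val_mul]
    congr 1
    group
  have huk : (u k).1 = ζ := by rw [hu]; simp
  have hul : (u l).1 = 1 := by rw [hu]; simp [Function.update_of_ne hkl.symm]
  have hm : m = 0 := by
    by_contra hm
    have hYY : (Y - 1) * (Y - ζ • (1 : Matrix (Fin p) (Fin p) F)) = 0 := by
      have h1 : (Y - 1) = Matrix.diagonal (fun i => (u i).1 - 1) := by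
        rw [hY, ← Matrix.diagonal_one, Matrix.diagonal_sub]
      have h2 : (Y - ζ • (1 : Matrix (Fin p) (Fin p) F)) = Matrix.diagonal (fun i => (u i).1 - ζ) := by
        rw [hY, ← Matrix.diagonal_one, ← Matrix.diagonal_smul, Matrix.diagonal_sub]
        congr 1
        funext i
        simp
      rw [h1, h2, Matrix.diagonal_mul_diagonal, ← Matrix.diagonal_zero]
      congr 1
      funext i
      by_cases hik : i = k
      · subst hik
        rw [huk, sub_self, mul_zero]
      · have : (u i).1 = 1 := by rw [hu]; simp [Function.update_of_ne hik]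
        rw [this, sub_self, zero_mul]
    have h3 : (M m e - 1) * (M m e - ζ • (1 : Matrix (Fin p) (Fin p) F)) * G
        = G * ((Y - 1) * (Y - ζ • (1 : Matrix (Fin p) (Fin p) F))) := by
      have a1 : M m e * (G * Y) = G * (Y * Y) := by
        rw [← mul_assoc, hmat, mul_assoc]
      simp only [sub_mul, mul_sub, mul_assoc, one_mul, mul_one, smul_mul_assoc, mul_smul_comm,
        hmat, a1]
    rw [hYY, mul_zero] at h3
    have h4 : (M m e - 1) * (M m e - ζ • (1 : Matrix (Fin p) (Fin p) F)) = 0 := by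
      have h5 := congrArg (fun A => A * ((g⁻¹ : GL (Fin p) F) : Matrix (Fin p) (Fin p) F)) h3
      simp only [zero_mul] at h5
      rw [mul_assoc, hG, ← Units.val_mul, mul_inv_cancel, Units.val_one, mul_one] at h5
      exact h5
    have h6 : (M m e - 1) * (M m e - ζ • (1 : Matrix (Fin p) (Fin p) F))
        = M (m + m) (fun i => e i * e (i + m)) - ζ • M m e - M m e
          + ζ • (1 : Matrix (Fin p) (Fin p) F) := by
      rw [sub_mul, mul_sub, mul_sub, M_mul, one_mul, mul_smul_comm, mul_one, one_mul]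
      abel
    rw [h6] at h4
    have h7 := congrFun (congrFun h4 i) i
    have hmm := fin_two_ne hp hm
    have e1 : i ≠ i + (m + m) := fun h => hmm (by simpa using h.symm)
    have e2 : i ≠ i + m := fun h => hm (by simpa using h.symm)
    simp only [Matrix.add_apply, Matrix.sub_apply, Matrix.smul_apply, M_apply, if_neg e1,
      if_neg e2, Matrix.one_apply_eq, smul_eq_mul, mul_zero, sub_zero, zero_add, mul_one,
      Matrix.zero_apply] at h7
    exact root_ne_zero hζ h7
  rw [hm, M_zero] at hmat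
  have hk1 := congrFun (congrFun hmat i) k
  have hl1 := congrFun (congrFun hmat i) l
  rw [Matrix.diagonal_mul, hY, Matrix.mul_diagonal] at hk1 hl1
  rw [huk] at hk1
  rw [hul, mul_one] at hl1
  have h8 : e i = ζ := by
    have : (e i - ζ) * G i k = 0 := by rw [sub_mul, hk1]; ring
    rcases mul_eq_zero.mp this with h | h
    · exact sub_eq_zero.mp h
    · exact absurd h hk
  have h9 : e i = 1 := by
    have : (e i - 1) * G i l = 0 := by rw [sub_mul, hl1]; ring
    rcases mul_eq_zero.mp this with h | h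
    · exact sub_eq_zero.mp h
    · exact absurd h hl
  exact hζ1 (h8.symm.trans h9)

lemma pow_mod_root {a : F} (h : a ^ p = 1) (n : ℕ) : a ^ (n % p) = a ^ n := by
  conv_rhs => rw [← Nat.mod_add_div n p, pow_add, pow_mul, h, one_pow, mul_one]

/-- case A: diagonal with a repeated entry -/
lemma caseA (d : Fin p → F) (hd : ∀ i, d i ^ p = 1) {i k : Fin p} (hik : i ≠ k)
    (hdik : d i = d k) (x : GL (Fin p) F) (hx : (x : Matrix (Fin p) (Fin p) F) = M 0 d) :
    ∃ g : GL (Fin p) F, g⁻¹ * x * g ∈ Q F p ∧ ∃ i k l, k ≠ l ∧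
      (g : Matrix (Fin p) (Fin p) F) i k ≠ 0 ∧ (g : Matrix (Fin p) (Fin p) F) i l ≠ 0 := by
  classical
  let g : GL (Fin p) F := Matrix.GeneralLinearGroup.mkOfDetNeZero (Matrix.transvection i k (1:F))
    (by rw [Matrix.det_transvection_of_ne _ _ hik]; exact one_ne_zero)
  have hgv : (g : Matrix (Fin p) (Fin p) F) = Matrix.transvection i k (1 : F) := rfl
  have hcomm : x * g = g * x := by
    apply Units.ext
    rw [Units.val_mul, Units.val_mul, hgv, hx, M_zero]
    ext a b
    rw [Matrix.diagonal_mul, Matrix.mul_diagonal]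
    simp only [Matrix.transvection, Matrix.add_apply, Matrix.one_apply, Matrix.single_apply]
    by_cases hab : a = b
    · subst hab; ring
    · by_cases h2 : i = a ∧ k = b
      · obtain ⟨rfl, rfl⟩ := h2; simp [hab, hdik]
      · simp [hab, h2]
  refine ⟨g, ?_, i, i, k, hik, ?_, ?_⟩
  · have : g⁻¹ * x * g = x := by rw [mul_assoc, hcomm, ← mul_assoc, inv_mul_cancel, one_mul]
    rw [this]; exact ⟨0, d, hd, hx⟩
  · rw [hgv]; simp [Matrix.transvection, Matrix.add_apply, Matrix.single_apply, hik, hik.symm]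
  · rw [hgv]; simp [Matrix.transvection, Matrix.add_apply, Matrix.single_apply, hik, hik.symm]

/-- case B: diagonal with distinct entries -/
lemma caseB [Fact p.Prime] (d : Fin p → F) (hd : ∀ i, d i ^ p = 1)
    (hinj : Function.Injective d) (x : GL (Fin p) F)
    (hx : (x : Matrix (Fin p) (Fin p) F) = M 0 d) :
    ∃ g : GL (Fin p) F, g⁻¹ * x * g ∈ Q F p ∧ ∃ i k l, k ≠ l ∧
      (g : Matrix (Fin p) (Fin p) F) i k ≠ 0 ∧ (g : Matrix (Fin p) (Fin p) F) i l ≠ 0 := by
  classical
  have hpp : p.Prime := Fact.out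
  let g : GL (Fin p) F := Matrix.GeneralLinearGroup.mkOfDetNeZero (Matrix.vandermonde d)
    (Matrix.det_vandermonde_ne_zero_iff.mpr hinj)
  have hgv : (g : Matrix (Fin p) (Fin p) F) = Matrix.vandermonde d := rfl
  let s : GL (Fin p) F := mk (-1) (fun _ => ⟨1, one_pow p⟩)
  have hone : ((1 : Fin p) : ℕ) = 1 := by
    rw [Fin.val_one']; exact Nat.mod_eq_of_lt hpp.one_lt
  have hcomm : x * g = g * s := by
    apply Units.ext
    rw [Units.val_mul, Units.val_mul, hgv, hx, M_zero, mk_val]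
    ext a b
    rw [Matrix.diagonal_mul, Matrix.mul_apply]
    rw [Finset.sum_eq_single (b + 1)]
    · simp only [Matrix.vandermonde_apply, M_apply]
      rw [if_pos (by simp), mul_one, Fin.val_add, pow_mod_root (hd a), hone, pow_succ']
    · intro l _ hl
      simp only [M_apply]
      rw [if_neg, mul_zero]
      intro h; apply hl; rw [h]; simp
    · simp
  refine ⟨g, ?_, 0, ⟨0, hpp.pos⟩, ⟨1, hpp.one_lt⟩, ?_, ?_, ?_⟩
  · have : g⁻¹ * x * g = s := by rw [mul_assoc, hcomm, ← mul_assoc, inv_mul_cancel, one_mul]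
    rw [this]; exact mk_mem _ _
  · intro h; simpa using congrArg Fin.val h
  · rw [hgv, Matrix.vandermonde_apply]; exact pow_ne_zero _ (root_ne_zero (hd 0))
  · rw [hgv, Matrix.vandermonde_apply]; exact pow_ne_zero _ (root_ne_zero (hd 0))

lemma fin_p_nsmul (j : Fin p) : p • j = 0 := by
  have := card_nsmul_eq_zero' (G := Fin p) (x := j)
  simpa using this

lemma fin_nsmul_ne [Fact p.Prime] {j : Fin p} (hj : j ≠ 0) {n : ℕ} (hn0 : n ≠ 0) (hn : n < p) :
    n • j ≠ 0 := by
  have hpp : p.Prime := Fact.out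
  have hord : addOrderOf j = p := by
    rw [addOrderOf_eq_prime_iff]; exact ⟨fin_p_nsmul j, hj⟩
  intro h
  have h2 := addOrderOf_dvd_of_nsmul_eq_zero h
  rw [hord] at h2
  have := Nat.le_of_dvd (by omega) h2
  omega

lemma const_of_shift [Fact p.Prime] {j : Fin p} (hj : j ≠ 0) (f : Fin p → F)
    (hf : ∀ i, f (i + j) = f i) (i : Fin p) : f i = f 0 := by
  have h1 : ∀ n : ℤ, f (n • j) = f 0 := by
    intro n
    induction n using Int.induction_on with
    | zero => simp
    | succ n ih => rw [add_smul, one_smul, hf]; exact ih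
    | pred n ih => rw [← hf, sub_smul, one_smul, sub_add_cancel]; exact ih
  have h2 : i ∈ AddSubgroup.zmultiples j := mem_zmultiples_of_prime_card (p := p) (by simp) hj
  obtain ⟨n, rfl⟩ := AddSubgroup.mem_zmultiples_iff.mp h2
  exact h1 n

lemma pow_p_scalar [Fact p.Prime] {j : Fin p} (hj : j ≠ 0) (d : Fin p → F)
    (hd : ∀ i, d i ^ p = 1) :
    ∃ c : F, c ^ p = 1 ∧ (M j d) ^ p = c • (1 : Matrix (Fin p) (Fin p) F) := by
  classical
  obtain ⟨dp, hdp, hX⟩ := M_pow j d hd p
  rw [fin_p_nsmul] at hX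
  have hcomm : M j d * (M j d) ^ p = (M j d) ^ p * M j d := (pow_mul_comm' (M j d) p).symm
  rw [hX, M_mul, M_mul] at hcomm
  obtain ⟨-, h2⟩ := M_inj (fun i => mul_ne_zero (root_ne_zero (hd i)) (root_ne_zero (hdp _))) hcomm
  have hshift : ∀ i, dp (i + j) = dp i := by
    intro i
    have h3 := congrFun h2 i
    simp only [add_zero] at h3
    exact mul_left_cancel₀ (root_ne_zero (hd i)) (by rw [h3, mul_comm])
  refine ⟨dp 0, hdp 0, ?_⟩
  rw [hX, M_zero]
  ext a b
  rw [Matrix.diagonal_apply, Matrix.smul_apply, Matrix.one_apply, const_of_shift hj dp hshift a]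
  split_ifs <;> simp

/-- case C1: nontrivial shift, `x ^ p` a nontrivial scalar -/
lemma caseC1 [Fact p.Prime] (hp : p ≠ 2) {j : Fin p} (hj : j ≠ 0) (d : Fin p → F)
    (hd : ∀ i, d i ^ p = 1) {c : F} (hc : c ^ p = 1) (hc1 : c ≠ 1)
    (hX : (M j d) ^ p = c • (1 : Matrix (Fin p) (Fin p) F))
    (x : GL (Fin p) F) (hx : (x : Matrix (Fin p) (Fin p) F) = M j d) :
    ∃ g : GL (Fin p) F, g⁻¹ * x * g ∈ Q F p ∧ ∃ i k l, k ≠ l ∧
      (g : Matrix (Fin p) (Fin p) F) i k ≠ 0 ∧ (g : Matrix (Fin p) (Fin p) F) i l ≠ 0 := by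
  classical
  have hpp : p.Prime := Fact.out
  have hodd : Odd p := hpp.odd_of_ne_two hp
  have hc2 : 1 + c ≠ 0 := by
    intro h
    have h1 : c = -1 := by linear_combination h
    rw [h1, Odd.neg_one_pow hodd] at hc
    exact hc1 (by rw [h1, hc])
  have hinv : (1 + M j d) * ((1 + c)⁻¹ • ∑ k ∈ Finset.range p, (-(M j d)) ^ k) = 1 := by
    rw [mul_smul_comm]
    have h3 := mul_neg_geom_sum (-(M j d)) p
    rw [sub_neg_eq_add] at h3
    rw [h3, Odd.neg_pow hodd, sub_neg_eq_add, hX]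
    have h4 : (1 : Matrix (Fin p) (Fin p) F) + c • (1 : Matrix (Fin p) (Fin p) F)
        = (1 + c) • (1 : Matrix (Fin p) (Fin p) F) := by rw [add_smul, one_smul]
    rw [h4, smul_smul, inv_mul_cancel₀ hc2, one_smul]
  let g : GL (Fin p) F := ⟨1 + M j d, _, hinv, mul_eq_one_comm.mp hinv⟩
  have hgv : (g : Matrix (Fin p) (Fin p) F) = 1 + M j d := rfl
  have hcomm : x * g = g * x := by
    apply Units.ext
    rw [Units.val_mul, Units.val_mul, hgv, hx, mul_add, add_mul, mul_one, one_mul]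
  have h0j : (0 : Fin p) ≠ 0 + j := fun h => hj (by simpa using h.symm)
  refine ⟨g, ?_, 0, 0, 0 + j, h0j, ?_, ?_⟩
  · have : g⁻¹ * x * g = x := by rw [mul_assoc, hcomm, ← mul_assoc, inv_mul_cancel, one_mul]
    rw [this]; exact ⟨j, d, hd, hx⟩
  · rw [hgv, Matrix.add_apply, Matrix.one_apply_eq, M_apply, if_neg h0j, add_zero]
    exact one_ne_zero
  · rw [hgv, Matrix.add_apply, Matrix.one_apply_ne h0j, M_apply, if_pos rfl, zero_add]
    exact root_ne_zero (hd 0)

/-- case C2: nontrivial shift, `x ^ p = 1` -/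
lemma caseC2 [Fintype F] [Fact p.Prime] (hp : p ≠ 2) (h1 : p ∣ Fintype.card F - 1) {ζ : F}
    (hζ : ζ ^ p = 1) (hζ1 : ζ ≠ 1) {j : Fin p} (hj : j ≠ 0) (d : Fin p → F)
    (hd : ∀ i, d i ^ p = 1) (hX : (M j d) ^ p = 1)
    (x : GL (Fin p) F) (hx : (x : Matrix (Fin p) (Fin p) F) = M j d) :
    ∃ g : GL (Fin p) F, g⁻¹ * x * g ∈ Q F p ∧ ∃ i k l, k ≠ l ∧
      (g : Matrix (Fin p) (Fin p) F) i k ≠ 0 ∧ (g : Matrix (Fin p) (Fin p) F) i l ≠ 0 := by
  classical
  have hpp : p.Prime := Fact.out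
  have hpF : (p : F) ≠ 0 := by
    intro h0
    obtain ⟨m, hm⟩ := h1
    have hq : (Fintype.card F : F) = 0 := FiniteField.cast_card_eq_zero F
    have hq1 : 1 ≤ Fintype.card F := Fintype.card_pos
    have h5 : Fintype.card F = p * m + 1 := by omega
    rw [h5] at hq
    push_cast at hq
    rw [h0, zero_mul, zero_add] at hq
    exact one_ne_zero hq
  have hζ0 : ζ ≠ 0 := root_ne_zero hζ
  set X := M j d with hXdef
  set S : Matrix (Fin p) (Fin p) F := ∑ k ∈ Finset.range p, X ^ k with hS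
  have hXS : X * S = S := by
    have h3 := mul_geom_sum X p
    rw [hX, sub_self, sub_mul, one_mul, sub_eq_zero] at h3
    exact h3
  have hSX : S * X = S := by
    have h3 := geom_sum_mul X p
    rw [hX, sub_self, mul_sub, mul_one, sub_eq_zero] at h3
    exact h3
  have hXkS : ∀ k : ℕ, X ^ k * S = S := by
    intro k
    induction k with
    | zero => rw [pow_zero, one_mul]
    | succ k ih => rw [pow_succ, mul_assoc, hXS, ih]
  have hSS : S * S = (p : F) • S := by
    have h3 : S * S = ∑ k ∈ Finset.range p, X ^ k * S := by rw [← Finset.sum_mul]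
    rw [h3, Finset.sum_congr rfl (fun k _ => hXkS k), Finset.sum_const, Finset.card_range,
      Nat.cast_smul_eq_nsmul]
  set t : F := (ζ - 1) / p with ht
  set s : F := (ζ⁻¹ - 1) / p with hs
  have ht0 : t ≠ 0 := div_ne_zero (sub_ne_zero.mpr hζ1) hpF
  have hinv : (1 + t • S) * (1 + s • S) = 1 := by
    have h3 : (1 + t • S) * (1 + s • S) = 1 + (s + t + t * s * p) • S := by
      rw [add_mul, mul_add, mul_add, one_mul, mul_one, one_mul, smul_mul_assoc, mul_smul_comm,
        hSS]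
      module
    have h4 : s + t + t * s * p = 0 := by
      rw [ht, hs]; field_simp; ring
    rw [h3, h4, zero_smul, add_zero]
  let g : GL (Fin p) F := ⟨1 + t • S, 1 + s • S, hinv, mul_eq_one_comm.mp hinv⟩
  have hgv : (g : Matrix (Fin p) (Fin p) F) = 1 + t • S := rfl
  have hcomm : x * g = g * x := by
    apply Units.ext
    rw [Units.val_mul, Units.val_mul, hgv, hx, mul_add, add_mul, mul_one, one_mul,
      mul_smul_comm, smul_mul_assoc, hXS, hSX]
  have hSdiag : ∀ i, S i i = 1 := by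
    intro i
    rw [hS, Matrix.sum_apply, Finset.sum_eq_single 0]
    · rw [pow_zero, Matrix.one_apply_eq]
    · intro k hk hk0
      obtain ⟨dk, -, hdk⟩ := M_pow j d hd k
      rw [hXdef, hdk, M_apply, if_neg]
      intro h
      exact fin_nsmul_ne hj hk0 (Finset.mem_range.mp hk) (by simpa using h.symm)
    · intro h; exact absurd (Finset.mem_range.mpr hpp.pos) h
  have hSrow : ∀ i l, S i l = d i * S (i + j) l := by
    intro i l
    have h3 := congrFun (congrFun hXS i) l
    rw [Matrix.mul_apply, Finset.sum_eq_single (i + j)] at h3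
    · rw [← h3, hXdef, M_apply, if_pos rfl]
    · intro b _ hb
      rw [hXdef, M_apply, if_neg hb, zero_mul]
    · intro h; exact absurd (Finset.mem_univ _) h
  have hjj : j + j ≠ 0 := fin_two_ne hp hj
  have e1 : S 0 j = d 0 := by
    rw [hSrow 0 j, zero_add, hSdiag, mul_one]
  have e2 : S 0 (j + j) = d 0 * d j := by
    rw [hSrow 0 (j + j), zero_add, hSrow j (j + j), hSdiag, mul_one]
  refine ⟨g, ?_, 0, j, j + j, ?_, ?_, ?_⟩
  · have : g⁻¹ * x * g = x := by rw [mul_assoc, hcomm, ← mul_assoc, inv_mul_cancel, one_mul]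
    rw [this]; exact ⟨j, d, hd, hx⟩
  · intro h; exact hj (by simpa using h.symm)
  · rw [hgv, Matrix.add_apply, Matrix.one_apply_ne (Ne.symm hj), Matrix.smul_apply, e1, zero_add,
      smul_eq_mul]
    exact mul_ne_zero ht0 (root_ne_zero (hd 0))
  · rw [hgv, Matrix.add_apply, Matrix.one_apply_ne (Ne.symm hjj), Matrix.smul_apply, e2, zero_add,
      smul_eq_mul]
    exact mul_ne_zero ht0 (mul_ne_zero (root_ne_zero (hd 0)) (root_ne_zero (hd j)))

lemma exists_g [Fintype F] [Fact p.Prime] (hp : p ≠ 2) (h1 : p ∣ Fintype.card F - 1) {ζ : F}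
    (hζ : ζ ^ p = 1) (hζ1 : ζ ≠ 1) (x : GL (Fin p) F) (hxQ : x ∈ Q F p) :
    ∃ g : GL (Fin p) F, g⁻¹ * x * g ∈ Q F p ∧ ∃ i k l, k ≠ l ∧
      (g : Matrix (Fin p) (Fin p) F) i k ≠ 0 ∧ (g : Matrix (Fin p) (Fin p) F) i l ≠ 0 := by
  obtain ⟨j, d, hd, hx⟩ := hxQ
  by_cases hj : j = 0
  · subst hj
    by_cases hinj : Function.Injective d
    · exact caseB d hd hinj x hx
    · rw [Function.not_injective_iff] at hinj
      obtain ⟨i, k, hdik, hik⟩ := hinj
      exact caseA d hd hik hdik x hx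
  · obtain ⟨c, hc, hX⟩ := pow_p_scalar hj d hd
    by_cases hc1 : c = 1
    · subst hc1
      rw [one_smul] at hX
      exact caseC2 hp h1 hζ hζ1 hj d hd hX x hx
    · exact caseC1 hp hj d hd hc hc1 hX x hx

lemma mem_smul_syl {G : Type*} [Group G] {q : ℕ} (P : Sylow q G) (g x : G) :
    x ∈ g • P ↔ g⁻¹ * x * g ∈ P := by
  have h1 : x ∈ g • P ↔ x ∈ ((g • P : Sylow q G) : Subgroup G) := Iff.rfl
  rw [h1, Sylow.coe_subgroup_smul, Subgroup.mem_pointwise_smul_iff_inv_smul_mem]
  simp [MulAut.smul_def]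
  rfl

theorem main {F : Type*} [Field F] [Fintype F] (p : ℕ) [Fact p.Prime]
    (hp : p ≠ 2) (h1 : p ∣ Fintype.card F - 1) (h2 : ¬ p ^ 2 ∣ Fintype.card F - 1) :
    ∃ Q : Sylow p (Matrix.GeneralLinearGroup (Fin p) F), ∀ x : Matrix.GeneralLinearGroup (Fin p) F,
      (∃ k : ℕ, orderOf x = p ^ k) → ∃ P : Sylow p (Matrix.GeneralLinearGroup (Fin p) F), P ≠ Q ∧ x ∈ P := by
  have : NeZero p := ⟨(Fact.out : p.Prime).ne_zero⟩
  obtain ⟨ζ, hζ, hζ1, -⟩ := card_mu (F := F) (p := p) h1
  refine ⟨QS hp h1 h2, fun x hx => ?_⟩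
  have hmemQ : ∀ z, z ∈ QS hp h1 h2 ↔ z ∈ Q F p := fun z => by
    have h3 : z ∈ QS hp h1 h2 ↔ z ∈ ((QS hp h1 h2 : Sylow p (GL (Fin p) F)) : Subgroup _) := Iff.rfl
    rw [h3, QS_coe]
  by_cases hxQ : x ∈ Q F p
  · obtain ⟨g, hg, i, k, l, hkl, hk, hl⟩ := exists_g hp h1 hζ hζ1 x hxQ
    refine ⟨g • QS hp h1 h2, ?_, ?_⟩
    · intro heq
      refine lemN hp hζ hζ1 g (fun y hy => ?_) i k l hkl hk hl
      have h4 : g * y * g⁻¹ ∈ g • QS hp h1 h2 := by
        rw [mem_smul_syl, hmemQ]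
        have : g⁻¹ * (g * y * g⁻¹) * g = y := by group
        rw [this]; exact hy
      rw [heq, hmemQ] at h4
      exact h4
    · rw [mem_smul_syl, hmemQ]; exact hg
  · obtain ⟨k, hk⟩ := hx
    have hpg : IsPGroup p (Subgroup.zpowers x) := IsPGroup.of_card (n := k) (by
      rw [Nat.card_zpowers, hk])
    obtain ⟨P, hP⟩ := hpg.exists_le_sylow
    refine ⟨P, ?_, hP (Subgroup.mem_zpowers x)⟩
    rintro rfl
    exact hxQ ((hmemQ x).mp (hP (Subgroup.mem_zpowers x)))

/-- Let p be an odd prime and F a finite field with q elements such that p divides q - 1 but p² does not. Then GL(p, F) has a Sylow p-subgroup Q such that every element of p-power order lies in some Sylow p-subgroup other than Q (a redundant Sylow p-subgroup). -/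
theorem result {F : Type*} [Field F] [Fintype F] (p : ℕ) [Fact p.Prime]
    (hp : p ≠ 2) (h1 : p ∣ Fintype.card F - 1) (h2 : ¬ p ^ 2 ∣ Fintype.card F - 1) :
    ∃ Q : Sylow p (Matrix.GeneralLinearGroup (Fin p) F), ∀ x : Matrix.GeneralLinearGroup (Fin p) F,
      (∃ k : ℕ, orderOf x = p ^ k) → ∃ P : Sylow p (Matrix.GeneralLinearGroup (Fin p) F), P ≠ Q ∧ x ∈ P := by
  exact main p hp h1 h2

end Cfsg.Agent.S4358
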