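import Cfsg.Statements.S4399
import Cfsg.Agent.Lib.Helper73.MaxClass
import Cfsg.Agent.Lib.Helper54.Quaternion
import Cfsg.Agent.S3224

set_option autoImplicit false
open Cfsg

namespace Cfsg.Agent.S4399

open Cfsg.Agent.Lib.Helper73.MaxClass

/-- Let S be a finite 2-group whose commutator quotient S/[S,S] is a Klein four-group (order 4 and exponent 2). Then S itself has order 4, or S is dihedral of order at least 8, semidihedral of order at least 16 (order 2^(k+4) with an element a of order 2^(k+3) and an involution b with b a b⁻¹ = a^(2^(k+2)−1)), or generalized quaternion of order at least 8. -/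
theorem result {S : Type*} [Group S] [Finite S] (h2 : IsPGroup 2 S) (hab : Nat.card (Abelianization S) = 4)
    (hexp : ∀ x : Abelianization S, x ^ 2 = 1) :
    Nat.card S = 4 ∨
    ((∃ k : ℕ, Nonempty (S ≃* DihedralGroup (2 ^ (k + 2)))) ∨
      (∃ k : ℕ, Nat.card S = 2 ^ (k + 4) ∧ ∃ a b : S, orderOf a = 2 ^ (k + 3) ∧ orderOf b = 2 ∧ b * a * b⁻¹ = a ^ (2 ^ (k + 2) - 1)) ∨
      (∃ k : ℕ, Nonempty (S ≃* QuaternionGroup (2 ^ (k + 1))))) := by
  haveI : Fact (Nat.Prime 2) := ⟨Nat.prime_two⟩
  have h4 : (commutator S).index = 4 := by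
    rw [Subgroup.index_eq_card]; exact hab
  obtain ⟨a, ha⟩ := exists_index_two_zpowers _ S rfl h2 h4
  obtain ⟨j, hj⟩ := (IsPGroup.iff_orderOf.1 h2) a
  have hcard : Nat.card S = 2 * 2 ^ j := by
    have := Subgroup.card_mul_index (Subgroup.zpowers a)
    rw [ha, Nat.card_zpowers, hj] at this
    omega
  have hcomcard : Nat.card (commutator S) * 4 = 2 * 2 ^ j := by
    have := Subgroup.card_mul_index (commutator S)
    rw [h4, hcard] at this
    exact this
  rcases Nat.lt_or_ge j 2 with hj2 | hj2
  · interval_cases j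
    · exfalso; omega
    · left; rw [hcard]; norm_num
  · right
    obtain ⟨j', rfl⟩ : ∃ j', j = j' + 2 := ⟨j - 2, by omega⟩
    obtain ⟨C, hCdef⟩ : ∃ C : Subgroup S, C = Subgroup.zpowers a := ⟨_, rfl⟩
    rw [← hCdef] at ha
    have haC : a ∈ C := by rw [hCdef]; exact Subgroup.mem_zpowers a
    have hCab : ∀ c ∈ C, ∀ d ∈ C, c * d = d * c := by
      intro c hc d hd
      rw [hCdef] at hc hd
      obtain ⟨i, rfl⟩ := Subgroup.mem_zpowers_iff.1 hc
      obtain ⟨l, rfl⟩ := Subgroup.mem_zpowers_iff.1 hd
      exact ((Commute.refl a).zpow_zpow i l).eq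
    haveI hCn : C.Normal := Subgroup.normal_of_index_eq_two ha
    have hCcard : Nat.card C = 2 ^ (j' + 2) := by rw [hCdef, Nat.card_zpowers, hj]
    obtain ⟨x, hxC⟩ : ∃ x, x ∉ C := by
      by_contra hcon
      push Not at hcon
      have : C = ⊤ := eq_top_iff.2 (fun g _ => hcon g)
      rw [this, Subgroup.index_top] at ha
      omega
    have hcov : ∀ g, g ∈ C ∨ g * x⁻¹ ∈ C := by
      intro g
      by_cases hg : g ∈ C
      · exact Or.inl hg
      · right
        rw [Subgroup.mul_mem_iff_of_index_two ha]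
        constructor
        · intro h; exact absurd h hg
        · intro h; exact absurd (by simpa using C.inv_mem h) hxC
    have hn' : ∀ c ∈ C, x * c * x⁻¹ ∈ C := fun c hc => hCn.conj_mem c hc x
    obtain ⟨K, hKdef⟩ : ∃ K : Subgroup S, K = C ⊓ Subgroup.centralizer ({x} : Set S) :=
      ⟨_, rfl⟩
    have hKmem : ∀ k, k ∈ K ↔ k ∈ C ∧ k * x = x * k := by
      intro k
      rw [hKdef, Subgroup.mem_inf, Subgroup.mem_centralizer_singleton_iff]
    have hK : ∀ k ∈ K, k ∈ C ∧ x * k * x⁻¹ = k := by
      intro k hk'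
      obtain ⟨h1, h2'⟩ := (hKmem k).1 hk'
      exact ⟨h1, by rw [← h2']; group⟩
    have hle := card_commutator_mul_le C x hCab hn' hcov K hK
    rw [hCcard] at hle
    have hKcard : Nat.card K ≤ 2 := by
      have hpos := Nat.card_pos (α := commutator S)
      have h5 : Nat.card (commutator S) * 2 = 2 ^ (j' + 2) := by
        have : 2 * 2 ^ (j' + 2) = (2 ^ (j' + 2)) * 2 := by ring
        omega
      rw [← h5] at hle
      exact Nat.le_of_mul_le_mul_left hle hpos
    obtain ⟨b, hb⟩ : ∃ b : S, b = a ^ (2 ^ (j' + 1)) := ⟨_, rfl⟩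
    have hj2' : orderOf a = 2 * 2 ^ (j' + 1) := by rw [hj]; ring
    have hKelt : ∀ k ∈ K, k = 1 ∨ k = b := by
      intro k hk
      by_cases hk1 : k = 1
      · exact Or.inl hk1
      · right
        have h5 : Nat.card (Subgroup.zpowers k) ≤ Nat.card K :=
          Subgroup.card_le_of_le (Subgroup.zpowers_le.2 hk)
        rw [Nat.card_zpowers] at h5
        have h6 : orderOf k ≠ 1 := fun h => hk1 (orderOf_eq_one_iff.1 h)
        have h7 : 0 < orderOf k := orderOf_pos k
        have h8 : orderOf k = 2 := by omega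
        rw [hb]
        refine Cfsg.Agent.Lib.Helper54.Quaternion.eq_pow_half_of_mem_zpowers hj2' h8 ?_
        rw [← hCdef]
        exact ((hKmem k).1 hk).1
    have hb2 : b * b = 1 := by
      rw [hb, ← pow_add, ← two_mul, ← hj2']
      exact pow_orderOf_eq_one a
    have hbC : b ∈ C := by rw [hb]; exact C.pow_mem haC _
    have hxx : x * x ∈ C := by
      have := Subgroup.sq_mem_of_index_two ha x
      rwa [pow_two] at this
    have hphi : ∀ c ∈ C, x * c * x⁻¹ * c ∈ K := by
      intro c hc
      rw [hKmem]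
      refine ⟨C.mul_mem (hn' c hc) hc, ?_⟩
      have e1 : (x * x) * c = c * (x * x) := hCab _ hxx c hc
      have e2 : c * (x * c * x⁻¹) = (x * c * x⁻¹) * c := hCab c hc _ (hn' c hc)
      calc x * c * x⁻¹ * c * x = x * c * x⁻¹ * (c * (x * x)) * x⁻¹ := by group
        _ = x * c * x⁻¹ * ((x * x) * c) * x⁻¹ := by rw [e1]
        _ = x * (c * (x * c * x⁻¹)) := by group
        _ = x * ((x * c * x⁻¹) * c) := by rw [e2]
        _ = x * (x * c * x⁻¹ * c) := by group
    have hxxK : x * x ∈ K := by
      rw [hKmem]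
      exact ⟨hxx, by group⟩
    have hcardS : Nat.card S = 2 * 2 ^ (j' + 2) := hcard
    have hxa : x ∉ Subgroup.zpowers a := by rw [← hCdef]; exact hxC
    rcases hKelt _ (hphi a haC) with hy | hy
    · -- x inverts a
      have hinv : x * a * x⁻¹ = a⁻¹ := eq_inv_of_mul_eq_one_left hy
      rcases hKelt _ hxxK with hx2 | hx2
      · left
        refine ⟨j', ?_⟩
        exact Cfsg.Agent.S3224.dihedral_iso a x (2 ^ (j' + 2)) hj (by positivity) hcardS hx2
          hxa hinv
      · right; right
        refine ⟨j', ?_⟩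
        refine Cfsg.Agent.Lib.Helper54.Quaternion.quaternion_iso a x (2 ^ (j' + 1)) hj2'
          (by positivity) ?_ (by rw [hx2, hb]) hxa hinv
        rw [hcardS]; ring
    · -- x a x⁻¹ = b a⁻¹
      have hconj : x * a * x⁻¹ = b * a⁻¹ := eq_mul_inv_of_mul_eq hy
      right; left
      have hj'1 : 1 ≤ j' := by
        by_contra h0
        have hj0 : j' = 0 := by omega
        subst hj0
        -- b = a ^ 2, x a x⁻¹ = a, so a ∈ K
        have hb' : b = a * a := by rw [hb]; norm_num [pow_two]
        have hxa' : x * a * x⁻¹ = a := by rw [hconj, hb']; group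
        have haK : a ∈ K := by
          rw [hKmem]
          refine ⟨haC, ?_⟩
          have : x * a = (x * a * x⁻¹) * x := by group
          rw [this, hxa']
        have h5 : Nat.card (Subgroup.zpowers a) ≤ Nat.card K :=
          Subgroup.card_le_of_le (Subgroup.zpowers_le.2 haK)
        rw [Nat.card_zpowers, hj] at h5
        norm_num at h5
        omega
      obtain ⟨k, rfl⟩ : ∃ k, j' = k + 1 := ⟨j' - 1, by omega⟩
      have hpow : a ^ (2 ^ (k + 2) - 1) = b * a⁻¹ := by
        apply eq_mul_inv_of_mul_eq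
        rw [← pow_succ, hb]
        congr 1
        exact Nat.sub_add_cancel Nat.one_le_two_pow
      have hx1 : x ≠ 1 := fun h => hxC (h ▸ C.one_mem)
      refine ⟨k, ?_, a, ?_⟩
      · rw [hcardS]; ring
      rcases hKelt _ hxxK with hx2 | hx2
      · refine ⟨x, hj, ?_, ?_⟩
        · exact orderOf_eq_prime (by rw [pow_two]; exact hx2) hx1
        · rw [hconj, hpow]
      · refine ⟨x * a, hj, ?_, ?_⟩
        · have hba : a⁻¹ * b = b * a⁻¹ := hCab _ (C.inv_mem haC) b hbC
          have hsq : (x * a) * (x * a) = 1 := by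
            calc (x * a) * (x * a) = (x * a * x⁻¹) * (x * x) * a := by group
              _ = (b * a⁻¹) * b * a := by rw [hconj, hx2]
              _ = b * (a⁻¹ * b) * a := by group
              _ = b * (b * a⁻¹) * a := by rw [hba]
              _ = (b * b) := by group
              _ = 1 := hb2
          refine orderOf_eq_prime (by rw [pow_two]; exact hsq) ?_
          intro h
          apply hxC
          have : x = a⁻¹ := eq_inv_of_mul_eq_one_left h
          rw [this]; exact C.inv_mem haC
        · have : x * a * a * (x * a)⁻¹ = x * a * x⁻¹ := by group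
          rw [this, hconj, hpow]

end Cfsg.Agent.S4399
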