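import Cfsg.Statements.S4398
import Cfsg.Agent.S4143
import Cfsg.Agent.S0115
import Cfsg.Agent.S4399
import Cfsg.Agent.Lib.Helper73.MaxClass

set_option autoImplicit false
open Cfsg

namespace Cfsg.Agent.S4398

/-- A nonabelian group of order 8 has centre of order 2 and all squares central. -/
theorem order8 {B : Type*} [Group B] [Finite B] (hB : Nat.card B = 8)
    (hna : ∃ a b : B, a * b ≠ b * a) :
    Nat.card (Subgroup.center B) = 2 ∧ ∀ b : B, b ^ 2 ∈ Subgroup.center B := by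
  haveI : Fact (Nat.Prime 2) := ⟨Nat.prime_two⟩
  have hP : IsPGroup 2 B := IsPGroup.of_card (n := 3) (by rw [hB]; norm_num)
  haveI : Nontrivial B := by rw [← Finite.one_lt_card_iff_nontrivial, hB]; norm_num
  obtain ⟨a, b, hab⟩ := hna
  have hncyc : ¬ IsCyclic (B ⧸ Subgroup.center B) := by
    intro h
    exact hab (commutative_of_cyclic_center_quotient (QuotientGroup.mk' (Subgroup.center B))
      (by rw [QuotientGroup.ker_mk']) a b)
  have hdvd : Nat.card (Subgroup.center B) ∣ 2 ^ 3 := by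
    have := Subgroup.card_subgroup_dvd_card (Subgroup.center B)
    rw [hB] at this
    exact this
  obtain ⟨k, hk, hck⟩ := (Nat.dvd_prime_pow Nat.prime_two).1 hdvd
  have hmul := Subgroup.card_eq_card_quotient_mul_card_subgroup (Subgroup.center B)
  rw [hB, hck] at hmul
  have hk0 : k ≠ 0 := by
    rintro rfl
    have h1 : Nat.card (Subgroup.center B) = 1 := by simpa using hck
    haveI := hP.center_nontrivial
    exact (Subgroup.nontrivial_iff_ne_bot _).1 inferInstance (Subgroup.card_eq_one.1 h1)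
  have hq1 : Nat.card (B ⧸ Subgroup.center B) ≠ 1 := by
    intro h
    apply hncyc
    haveI : Subsingleton (B ⧸ Subgroup.center B) := (Nat.card_eq_one_iff_unique.1 h).1
    infer_instance
  have hq2 : Nat.card (B ⧸ Subgroup.center B) ≠ 2 := fun h =>
    hncyc (isCyclic_of_prime_card (p := 2) h)
  have hk1 : k = 1 := by
    interval_cases k
    · exact absurd rfl hk0
    · rfl
    · exfalso
      norm_num at hmul
      exact hq2 (by omega)
    · exfalso
      norm_num at hmul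
      exact hq1 (by omega)
  subst hk1
  refine ⟨by simpa using hck, ?_⟩
  have hq4 : Nat.card (B ⧸ Subgroup.center B) = 4 := by
    norm_num at hmul
    omega
  intro b
  rw [← QuotientGroup.eq_one_iff, QuotientGroup.mk_pow]
  obtain ⟨q, hq'⟩ : ∃ q, q = (b : B ⧸ Subgroup.center B) := ⟨_, rfl⟩
  rw [← hq']
  have hd : orderOf q ∣ 4 := hq4 ▸ orderOf_dvd_natCard q
  have hne4 : orderOf q ≠ 4 := fun h => hncyc (isCyclic_of_orderOf_eq_card q (by rw [h, hq4]))
  have hle : orderOf q ≤ 4 := Nat.le_of_dvd (by norm_num) hd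
  have hpos := orderOf_pos q
  have h12 : orderOf q ∣ 2 := by
    interval_cases h : orderOf q
    · norm_num
    · norm_num
    · norm_num at hd
    · exact absurd rfl hne4
  exact orderOf_dvd_iff_pow_eq_one.1 h12

/-- Let S be a finite 2-group of sectional 2-rank at most 2 that contains a subgroup isomorphic to the dihedral group of order 8 or to the quaternion group of order 8. Then S is dihedral of order at least 8, semidihedral of order at least 16 (order 2^(k+4) with an element a of order 2^(k+3) and an involution b with b a b⁻¹ = a^(2^(k+2)−1)), or generalized quaternion of order at least 8. -/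
theorem result {S : Type*} [Group S] [Finite S] (h2 : IsPGroup 2 S) (hr : Cfsg.SectionalPRankLE 2 2 S)
    (hsub : ∃ H : Subgroup S, Nonempty (↥H ≃* DihedralGroup 4) ∨ Nonempty (↥H ≃* QuaternionGroup 2)) :
    ((∃ k : ℕ, Nonempty (S ≃* DihedralGroup (2 ^ (k + 2)))) ∨
      (∃ k : ℕ, Nat.card S = 2 ^ (k + 4) ∧ ∃ a b : S, orderOf a = 2 ^ (k + 3) ∧ orderOf b = 2 ∧ b * a * b⁻¹ = a ^ (2 ^ (k + 2) - 1)) ∨
      (∃ k : ℕ, Nonempty (S ≃* QuaternionGroup (2 ^ (k + 1))))) := by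
  haveI : Fact (Nat.Prime 2) := ⟨Nat.prime_two⟩
  obtain ⟨B, hBiso⟩ := hsub
  have hB8 : Nat.card B = 8 := by
    rcases hBiso with ⟨⟨e⟩⟩ | ⟨⟨e⟩⟩
    · rw [Nat.card_congr e.toEquiv, DihedralGroup.nat_card]
    · rw [Nat.card_congr e.toEquiv, Nat.card_eq_fintype_card, QuaternionGroup.card]
  have hBna : ∃ a b : B, a * b ≠ b * a := by
    rcases hBiso with ⟨⟨e⟩⟩ | ⟨⟨e⟩⟩
    · refine ⟨e.symm (DihedralGroup.r 1), e.symm (DihedralGroup.sr 0), ?_⟩
      rw [← map_mul, ← map_mul]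
      intro h
      exact absurd (e.symm.injective h) (by decide)
    · refine ⟨e.symm (QuaternionGroup.a 1), e.symm (QuaternionGroup.xa 0), ?_⟩
      rw [← map_mul, ← map_mul]
      intro h
      exact absurd (e.symm.injective h) (by decide)
  obtain ⟨hZ2, hsq⟩ := order8 hB8 hBna
  have hBna' : ¬ IsMulCommutative B := by
    rintro ⟨⟨h⟩⟩
    obtain ⟨a, b, hab⟩ := hBna
    exact hab (h a b)
  have hC : Subgroup.centralizer (B : Set S) ≤ B := by
    by_contra hcon
    obtain ⟨c, hcC, hcB⟩ := SetLike.not_le_iff_exists.1 hcon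
    have hex : ∃ j : ℕ, c ^ (2 ^ j) ∈ B := by
      obtain ⟨m, hm⟩ := (IsPGroup.iff_orderOf.1 h2) c
      exact ⟨m, by rw [← hm, pow_orderOf_eq_one]; exact B.one_mem⟩
    classical
    obtain ⟨j, hj, hjmin⟩ : ∃ j, c ^ (2 ^ j) ∈ B ∧ ∀ i < j, c ^ (2 ^ i) ∉ B :=
      ⟨Nat.find hex, Nat.find_spec hex, fun i hi => Nat.find_min hex hi⟩
    have hj0 : j ≠ 0 := by
      rintro rfl
      rw [pow_zero, pow_one] at hj
      exact hcB hj
    obtain ⟨i, rfl⟩ := Nat.exists_eq_succ_of_ne_zero hj0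
    obtain ⟨c₀, hc₀⟩ : ∃ c₀, c₀ = c ^ (2 ^ i) := ⟨_, rfl⟩
    have hc₀B : c₀ ∉ B := hc₀ ▸ hjmin i (Nat.lt_succ_self i)
    have hc₀2 : c₀ ^ 2 ∈ B := by
      rw [hc₀, ← pow_mul, ← pow_succ]
      exact hj
    have hc₀C : c₀ ∈ Subgroup.centralizer (B : Set S) := hc₀ ▸ Subgroup.pow_mem _ hcC _
    have hcomm : ∀ b ∈ B, b * c₀ = c₀ * b := fun b hb =>
      Subgroup.mem_centralizer_iff.1 hc₀C b hb
    obtain ⟨Z₀, hZ₀⟩ : ∃ Z₀ : Subgroup S, Z₀ = (Subgroup.center ↥B).map B.subtype := ⟨_, rfl⟩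
    have hZ₀mem : ∀ x : S, x ∈ Z₀ ↔ ∃ hx : x ∈ B, (⟨x, hx⟩ : B) ∈ Subgroup.center ↥B := by
      intro x
      rw [hZ₀]
      constructor
      · rintro ⟨x₀, hx₀, rfl⟩
        exact ⟨x₀.2, hx₀⟩
      · rintro ⟨hx, hx'⟩
        exact ⟨⟨x, hx⟩, hx', rfl⟩
    have hZ₀card : Nat.card Z₀ = 2 := by
      rw [hZ₀, Subgroup.card_map_of_injective B.subtype_injective, hZ2]
    have hZ₀B : Z₀ ≤ B := by rw [hZ₀]; exact Subgroup.map_subtype_le _
    have hZ₀comm : ∀ x ∈ Z₀, ∀ b ∈ B, b * x = x * b := by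
      intro x hx b hb
      obtain ⟨hxB, hxc⟩ := (hZ₀mem x).1 hx
      exact congrArg Subtype.val (Subgroup.mem_center_iff.1 hxc ⟨b, hb⟩)
    have hsqZ : ∀ b ∈ B, b ^ 2 ∈ Z₀ := by
      intro b hb
      rw [hZ₀mem]
      exact ⟨B.pow_mem hb 2, hsq ⟨b, hb⟩⟩
    have hc₀Z : c₀ ^ 2 ∈ Z₀ := by
      rw [hZ₀mem]
      refine ⟨hc₀2, ?_⟩
      rw [Subgroup.mem_center_iff]
      intro b
      apply Subtype.ext
      show (b : S) * c₀ ^ 2 = c₀ ^ 2 * (b : S)
      rw [pow_two, ← mul_assoc, hcomm b b.2, mul_assoc, hcomm b b.2, mul_assoc]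
    obtain ⟨H, hH⟩ : ∃ H, H = B ⊔ Subgroup.zpowers c₀ := ⟨_, rfl⟩
    have hBH : B ≤ H := by rw [hH]; exact le_sup_left
    have hc₀H : c₀ ∈ H := by rw [hH]; exact Subgroup.mem_sup_right (Subgroup.mem_zpowers c₀)
    have hcz : ∀ b ∈ B, ∀ i : ℤ, b * c₀ ^ i = c₀ ^ i * b := fun b hb i =>
      (Commute.zpow_right (hcomm b hb) i)
    have hform : ∀ h ∈ H, ∃ b ∈ B, ∃ i : ℤ, h = b * c₀ ^ i := by
      intro h hh
      rw [hH, Subgroup.sup_eq_closure] at hh
      refine Subgroup.closure_induction ?_ ?_ ?_ ?_ hh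
      · rintro x (hx | hx)
        · exact ⟨x, hx, 0, by simp⟩
        · obtain ⟨i, rfl⟩ := Subgroup.mem_zpowers_iff.1 hx
          exact ⟨1, B.one_mem, i, by simp⟩
      · exact ⟨1, B.one_mem, 0, by simp⟩
      · rintro x y _ _ ⟨b, hb, i, rfl⟩ ⟨b', hb', i', rfl⟩
        refine ⟨b * b', B.mul_mem hb hb', i + i', ?_⟩
        rw [zpow_add]
        calc b * c₀ ^ i * (b' * c₀ ^ i') = b * (c₀ ^ i * b') * c₀ ^ i' := by group
          _ = b * (b' * c₀ ^ i) * c₀ ^ i' := by rw [hcz b' hb' i]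
          _ = b * b' * (c₀ ^ i * c₀ ^ i') := by group
      · rintro x _ ⟨b, hb, i, rfl⟩
        refine ⟨b⁻¹, B.inv_mem hb, -i, ?_⟩
        rw [mul_inv_rev, ← zpow_neg, hcz b⁻¹ (B.inv_mem hb) (-i)]
    have hexpH : ∀ h ∈ H, h ^ 2 ∈ Z₀ := by
      intro h hh
      obtain ⟨b, hb, i, rfl⟩ := hform h hh
      have hcm : Commute b (c₀ ^ i) := hcz b hb i
      rw [hcm.mul_pow, ← zpow_natCast (c₀ ^ i) 2, ← zpow_mul, mul_comm i, zpow_mul, zpow_natCast]
      exact Z₀.mul_mem (hsqZ b hb) (Z₀.zpow_mem hc₀Z i)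
    have hZ₀cent : ∀ n ∈ Z₀, ∀ g ∈ H, g * n = n * g := by
      intro n hn g hg
      obtain ⟨b, hb, i, rfl⟩ := hform g hg
      have h1 := hZ₀comm n hn b hb
      have h2 := hcz n (hZ₀B hn) i
      calc b * c₀ ^ i * n = b * (c₀ ^ i * n) := by group
        _ = b * (n * c₀ ^ i) := by rw [h2]
        _ = (b * n) * c₀ ^ i := by group
        _ = n * b * c₀ ^ i := by rw [h1]
        _ = n * (b * c₀ ^ i) := by group
    obtain ⟨N, hN⟩ : ∃ N : Subgroup H, N = Z₀.subgroupOf H := ⟨_, rfl⟩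
    haveI hNn : N.Normal := ⟨fun n hn g => by
      rw [hN, Subgroup.mem_subgroupOf] at hn ⊢
      have h1 := hZ₀cent _ hn _ g.2
      have h2 : ((g * n * g⁻¹ : H) : S) = (n : S) := by
        simp only [Subgroup.coe_mul, Subgroup.coe_inv]
        rw [h1]; group
      rw [h2]
      exact hn⟩
    have hZ₀H : Z₀ ≤ H := hZ₀B.trans hBH
    have hNcard : Nat.card N = 2 := by
      rw [hN, ← hZ₀card]
      exact Nat.card_congr (Subgroup.subgroupOfEquivOfLe hZ₀H).toEquiv
    have hexpQ : ∀ q : H ⧸ N, q ^ 2 = 1 := by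
      intro q
      refine QuotientGroup.induction_on q (fun h => ?_)
      rw [← QuotientGroup.mk_pow, QuotientGroup.eq_one_iff, hN, Subgroup.mem_subgroupOf]
      simpa using hexpH h h.2
    have hcommQ := Cfsg.Agent.Lib.Helper73.MaxClass.comm_of_sq hexpQ
    have hrank := hr H N (⊤ : Subgroup (H ⧸ N)) ⟨⟨fun a b => Subtype.ext (hcommQ a b)⟩⟩
      (fun a _ => hexpQ a)
    rw [Subgroup.card_top] at hrank
    have hmul := Subgroup.card_eq_card_quotient_mul_card_subgroup N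
    rw [hNcard] at hmul
    have hBdvd : 8 ∣ Nat.card H := hB8 ▸ Subgroup.card_dvd_of_le hBH
    have hHne : Nat.card H ≠ 8 := by
      intro h
      have := Subgroup.eq_of_le_of_card_ge hBH (by rw [h, hB8])
      exact hc₀B (this ▸ hc₀H)
    obtain ⟨t, ht⟩ := hBdvd
    have hHpos : 0 < Nat.card H := Nat.card_pos
    have ht2 : 2 ≤ t := by
      by_contra hlt
      push Not at hlt
      interval_cases t <;> omega
    norm_num at hrank
    omega
  obtain ⟨n, hn⟩ := IsPGroup.iff_card.1 h2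
  have hB' : Nat.card B = 2 ^ 3 := by rw [hB8]; norm_num
  have hcl := Cfsg.Agent.S4143.result (p := 2) n hn B hB' hBna' hC
  have hn3 : 3 ≤ n := by
    have h1 : 2 ^ 3 ∣ 2 ^ n := by rw [← hB', ← hn]; exact Subgroup.card_subgroup_dvd_card B
    exact (Nat.pow_dvd_pow_iff_le_right (by norm_num)).1 h1
  have h4 := Cfsg.Agent.Lib.Helper73.MaxClass.index_commutator_of_maximal_class n hn3 hn hcl
  have hK := Cfsg.Agent.S0115.kleinFour_of_index_four n hn3 hn h4
  have h5 : ∀ x : S ⧸ commutator S, x ^ 2 = 1 := fun x => by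
    have := Monoid.pow_exponent_eq_one x
    rwa [hK.exponent_two] at this
  have hres := Cfsg.Agent.S4399.result h2 hK.card_four (fun x => h5 x)
  rcases hres with h | h
  · exfalso
    have : (2 : ℕ) ^ 3 ≤ 2 ^ n := Nat.pow_le_pow_right (by norm_num) hn3
    omega
  · exact h

end Cfsg.Agent.S4398
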