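-- Statement S4408: independent invariant subgroups of prime order in F(S).
import Cfsg.Statements.S4408
import Cfsg.Agent.Lib.Helper23.Dihedral

set_option autoImplicit false
open Cfsg

namespace Cfsg.Agent.S4408

open Cfsg.Agent.Lib.Helper23.Dihedral

/-- Let S be a finite solvable group whose Fitting subgroup F(S) has odd order, and let I be an elementary abelian 2-subgroup of S of order 2ⁿ with n ≥ 1. Then F(S) contains subgroups A₁, …, Aₙ of prime order, each normalized by I, pairwise commuting and generating a subgroup A of order |A₁|⋯|Aₙ| (their internal direct product), such that no non-identity element of I centralizes A. -/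
theorem result {S : Type*} [Group S] [Finite S]
    [Group.IsSolvable S] (hF : Odd (Nat.card ↥(Cfsg.fittingSubgroup S)))
    (I : Subgroup S) (hI : Cfsg.IsElementaryAbelian 2 I) (n : ℕ) (hn : 1 ≤ n) (hIn : Nat.card ↥I = 2 ^ n) :
    ∃ f : Fin n → Subgroup S, (∀ i, (Nat.card ↥(f i)).Prime) ∧ (∀ i, f i ≤ Cfsg.fittingSubgroup S) ∧
      (∀ i, I ≤ Subgroup.normalizer ((f i) : Set S)) ∧ (∀ i j, i ≠ j → ∀ a ∈ f i, ∀ b ∈ f j, a * b = b * a) ∧
      Nat.card ↥(⨆ i, f i) = ∏ i, Nat.card ↥(f i) ∧ I ⊓ Subgroup.centralizer ((⨆ i, f i : Subgroup S) : Set S) = ⊥ := by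
  classical
  have hIc : ∀ a ∈ I, ∀ b ∈ I, a * b = b * a := by
    intro a ha b hb
    have := (isMulCommutative_iff.mp hI.1) ⟨a, ha⟩ ⟨b, hb⟩
    exact congrArg Subtype.val this
  have hI2 : ∀ a ∈ I, a * a = 1 := fun a ha => by rw [← pow_two]; exact hI.2 a ha
  have hFn : (Cfsg.fittingSubgroup S).Normal := Cfsg.Agent.Lib.Helper78.Fitting.fitting_normal
  have hFnil : Group.IsNilpotent (Cfsg.fittingSubgroup S) :=
    Cfsg.Agent.Lib.Helper78.Fitting.fitting_isNilpotent
  have hIF : ∀ a ∈ I, ∀ f ∈ Cfsg.fittingSubgroup S, a * f * a⁻¹ ∈ Cfsg.fittingSubgroup S :=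
    fun a _ f hf => hFn.conj_mem f hf a
  obtain ⟨m, ys, bs, hS⟩ := exists_sys hIc hI2 _ I (Cfsg.fittingSubgroup S) le_rfl le_rfl hIF
    hFnil hF
  have hker : ∀ a ∈ I, (∀ i, a * ys i = ys i * a) → a = 1 := by
    intro a ha hall
    have h1 := hS.ker a ha hall
    have h2 : a ∈ Subgroup.centralizer (Cfsg.fittingSubgroup S : Set S) :=
      Subgroup.mem_centralizer_iff.mpr h1
    have h3 : a ∈ Cfsg.fittingSubgroup S := Cfsg.Agent.S0044.result h2
    have hco := coprime_of_mul_self (hI2 a ha) hF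
    have hdvd := Subgroup.orderOf_dvd_natCard _ h3
    exact orderOf_eq_one_iff.mp (Nat.Coprime.eq_one_of_dvd hco hdvd)
  have hbot : I ⊓ Subgroup.centralizer (Set.range ys) = ⊥ := by
    rw [Subgroup.eq_bot_iff_forall]
    intro g hg
    rw [mem_inf_centralizer_range] at hg
    exact hker g hg.1 hg.2
  have hmn : m = n := by
    have := hS.card
    rw [hbot, Subgroup.card_bot, mul_one, hIn] at this
    exact (Nat.pow_right_injective (le_refl 2) this).symm
  subst hmn
  have hodd : ∀ i, Odd (orderOf (ys i)) := fun i =>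
    Odd.of_dvd_nat hF (Subgroup.orderOf_dvd_natCard _ (hS.mem i))
  have hne1 : ∀ i, orderOf (ys i) ≠ 1 := fun i h => hS.ne_one i (orderOf_eq_one_iff.mp h)
  choose p hp hpdvd using fun i => Nat.exists_prime_and_dvd (hne1 i)
  obtain ⟨y', hy'⟩ : ∃ y' : Fin m → S, ∀ i, y' i = ys i ^ (orderOf (ys i) / p i) :=
    ⟨fun i => ys i ^ (orderOf (ys i) / p i), fun i => rfl⟩
  have hy'ord : ∀ i, orderOf (y' i) = p i := fun i => by
    rw [hy']; exact orderOf_pow_orderOf_div (orderOf_pos _).ne' (hpdvd i)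
  have hpodd : ∀ i, Odd (p i) := fun i => Odd.of_dvd_nat (hodd i) (hpdvd i)
  have hy'F : ∀ i, y' i ∈ Cfsg.fittingSubgroup S := fun i => by
    rw [hy']; exact Subgroup.pow_mem _ (hS.mem i) _
  have hy'inv : ∀ i, (y' i)⁻¹ ≠ y' i := by
    intro i h
    have h2 : y' i ^ 2 = 1 := by
      rw [pow_two]
      calc y' i * y' i = (y' i)⁻¹ * y' i := by rw [h]
        _ = 1 := by group
    have h3 : p i ∣ 2 := by rw [← hy'ord i]; exact orderOf_dvd_of_pow_eq_one h2
    have h4 : p i = 2 := (Nat.prime_dvd_prime_iff_eq (hp i) Nat.prime_two).mp h3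
    have := hpodd i
    rw [h4] at this
    exact absurd this (by decide)
  have hy'hom : ∀ i, ∀ a ∈ I, a * y' i * a⁻¹ = y' i ∨ a * y' i * a⁻¹ = (y' i)⁻¹ := by
    intro i a ha
    rw [hy', ← conj_pow]
    rcases hS.hom i a ha with h | h
    · left; rw [h]
    · right; rw [h, inv_pow]
  have hy'b : ∀ i, bs i * y' i * (bs i)⁻¹ = (y' i)⁻¹ := by
    intro i
    rw [hy', ← conj_pow, hS.inv i, inv_pow]
  have hy'cen : ∀ i j, i ≠ j → bs i * y' j = y' j * bs i := by
    intro i j hij
    rw [hy']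
    exact ((show Commute (bs i) (ys j) from hS.cen i j hij).pow_right _).eq
  have hy'comm : ∀ i j, Commute (y' i) (y' j) := by
    intro i j
    rw [hy', hy']
    exact (show Commute (ys i) (ys j) from hS.comm i j).pow_pow _ _
  have hzcomm : ∀ i j, ∀ a ∈ Subgroup.zpowers (y' i), ∀ b ∈ Subgroup.zpowers (y' j),
      a * b = b * a := by
    intro i j a ha b hb
    obtain ⟨k, rfl⟩ := Subgroup.mem_zpowers_iff.mp ha
    obtain ⟨l, rfl⟩ := Subgroup.mem_zpowers_iff.mp hb
    exact ((hy'comm i j).zpow_zpow k l).eq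
  have hcomm : Pairwise fun i j : Fin m => ∀ x y : S, x ∈ Subgroup.zpowers (y' i) →
      y ∈ Subgroup.zpowers (y' j) → Commute x y :=
    fun i j _ x y hx hy => hzcomm i j x hx y hy
  have hind : iSupIndep (fun i => Subgroup.zpowers (y' i)) := by
    intro i
    rw [Subgroup.disjoint_def]
    intro x hxi hxj
    have hle : (⨆ (j) (_ : j ≠ i), Subgroup.zpowers (y' j)) ≤ Subgroup.centralizer {bs i} := by
      refine iSup_le (fun j => iSup_le (fun hj => ?_))
      rw [Subgroup.zpowers_le]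
      refine Subgroup.mem_centralizer_iff.mpr ?_
      intro h hh
      rw [Set.mem_singleton_iff] at hh
      rw [hh]
      exact hy'cen i j (Ne.symm hj)
    have h1 : bs i * x = x * bs i :=
      Subgroup.mem_centralizer_iff.mp (hle hxj) (bs i) rfl
    obtain ⟨k, rfl⟩ := Subgroup.mem_zpowers_iff.mp hxi
    have h2 : bs i * y' i ^ k * (bs i)⁻¹ = (y' i ^ k)⁻¹ := by
      rw [← conj_zpow, hy'b i, inv_zpow]
    have h3 : (y' i ^ k)⁻¹ = y' i ^ k := by
      rw [← h2, h1]; group
    have h4 : (y' i ^ k) ^ 2 = 1 := by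
      rw [pow_two]
      calc y' i ^ k * y' i ^ k = (y' i ^ k)⁻¹ * y' i ^ k := by rw [h3]
        _ = 1 := by group
    have h5 : (y' i ^ k) ^ p i = 1 := by
      rw [← zpow_natCast, ← zpow_mul, mul_comm, zpow_mul, zpow_natCast, ← hy'ord i,
        pow_orderOf_eq_one, one_zpow]
    have h6 : orderOf (y' i ^ k) ∣ Nat.gcd 2 (p i) :=
      Nat.dvd_gcd (orderOf_dvd_of_pow_eq_one h4) (orderOf_dvd_of_pow_eq_one h5)
    have h7 : Nat.gcd 2 (p i) = 1 := Nat.coprime_two_left.mpr (hpodd i)
    rw [h7] at h6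
    exact orderOf_eq_one_iff.mp (Nat.dvd_one.mp h6)
  refine ⟨fun i => Subgroup.zpowers (y' i), ?_, ?_, ?_, ?_, ?_, ?_⟩
  · intro i
    rw [Nat.card_zpowers, hy'ord i]
    exact hp i
  · intro i
    exact (Subgroup.zpowers_le).mpr (hy'F i)
  · intro i
    apply le_normalizer_of_conj
    intro a ha h hh
    obtain ⟨k, rfl⟩ := Subgroup.mem_zpowers_iff.mp hh
    rw [← conj_zpow]
    rcases hy'hom i a ha with h | h
    · rw [h]; exact Subgroup.zpow_mem _ (Subgroup.mem_zpowers _) k
    · rw [h]; exact Subgroup.zpow_mem _ (Subgroup.inv_mem _ (Subgroup.mem_zpowers _)) k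
  · intro i j _
    exact hzcomm i j
  · have hinj := Subgroup.injective_noncommPiCoprod_of_iSupIndep (hcomm := hcomm) hind
    rw [← Subgroup.noncommPiCoprod_range (hcomm := hcomm)]
    have h1 : Nat.card ↥(Subgroup.noncommPiCoprod hcomm).range =
        Nat.card (∀ i : Fin m, ↥(Subgroup.zpowers (y' i))) :=
      Nat.card_congr (Equiv.ofInjective _ hinj).symm
    rw [h1, Nat.card_pi]
  · rw [Subgroup.eq_bot_iff_forall]
    intro a ha
    have haI : a ∈ I := ha.1
    have hac := Subgroup.mem_centralizer_iff.mp ha.2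
    apply hker a haI
    intro i
    have hy'i : y' i ∈ ((⨆ i, Subgroup.zpowers (y' i) : Subgroup S) : Set S) :=
      (le_iSup (fun i => Subgroup.zpowers (y' i)) i) (Subgroup.mem_zpowers _)
    have h1 : y' i * a = a * y' i := hac _ hy'i
    rcases hS.hom i a haI with h | h
    · calc a * ys i = (a * ys i * a⁻¹) * a := by group
        _ = ys i * a := by rw [h]
    · exfalso
      have h2 : a * y' i * a⁻¹ = (y' i)⁻¹ := by
        rw [hy', ← conj_pow, h, inv_pow]
      apply hy'inv i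
      rw [← h2, ← h1]; group

end Cfsg.Agent.S4408
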