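import Cfsg.Statements.S4411
import Cfsg.Agent.Lib.Helper64.AutAsm
import Cfsg.Agent.Lib.Helper64.AutQSTEP
import Cfsg.Agent.Lib.Helper64.AutHALLREL
import Cfsg.Agent.Lib.Helper64.AutHALLABS
import Cfsg.Agent.Lib.Helper99.AutAQ1
import Cfsg.Agent.Lib.Helper99.AutAQ2
import Cfsg.Agent.Lib.Helper11.AutBADCONJ
import Cfsg.Agent.Lib.Helper15.AutBURN
import Cfsg.Agent.Lib.Helper11.AutCHARJ
import Cfsg.Agent.Lib.Helper11.AutCHARZ
import Cfsg.Agent.Lib.Helper11.AutMAXC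
import Cfsg.Agent.Lib.Helper11.AutNGROW
import Cfsg.Agent.Lib.Helper63.AutNPS
import Cfsg.Agent.Lib.Helper51.AutPGEN
import Cfsg.Agent.Lib.Helper15.AutPSEXT
import Cfsg.Agent.Lib.Helper63.AutPSSUB
import Cfsg.Agent.Lib.Helper51.AutQIN
import Cfsg.Agent.Lib.Helper51.AutSTAB
import Cfsg.Agent.Lib.Helper77.AutSYLN
import Cfsg.Agent.Lib.Helper51.AutWCENT
import Cfsg.Agent.Lib.Helper11.AutZLEJ
import Cfsg.Agent.Lib.Helper11.AutZNE
import Cfsg.Agent.Lib.Helper11.AutSYLA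
import Cfsg.Agent.Lib.Helper11.AutSYLB
import Cfsg.Agent.Lib.Helper11.AutTFREL
import Cfsg.Agent.Lib.Helper15.AutPQPS
import Cfsg.Agent.Lib.Helper15.AutTFABS
import Cfsg.Agent.Lib.Helper14.AutGC

set_option autoImplicit false
open Cfsg

namespace Cfsg.Agent.S4411

universe u

/-- the local theorem (all pieces of the S4411 call assembled). -/
theorem laAll_pieces :
    Cfsg.Agent.Lib.Helper64.AutStmt.LAAll.{u} :=
  Cfsg.Agent.Lib.Helper64.AutAsm.laAll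
    Cfsg.Agent.Lib.Helper11.AutSYLA.pg Cfsg.Agent.Lib.Helper11.AutSYLA.sub
    Cfsg.Agent.Lib.Helper11.AutSYLB.conj Cfsg.Agent.Lib.Helper11.AutMAXC.main
    (Cfsg.Agent.Lib.Helper77.AutSYLN.main Cfsg.Agent.Lib.Helper11.AutSYLB.conj
      Cfsg.Agent.Lib.Helper11.AutSYLB.ofMax Cfsg.Agent.Lib.Helper11.AutSYLA.pg)
    Cfsg.Agent.Lib.Helper11.AutNGROW.main Cfsg.Agent.Lib.Helper11.AutBADCONJ.main
    Cfsg.Agent.Lib.Helper51.AutSTAB.main Cfsg.Agent.Lib.Helper51.AutWCENT.main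
    Cfsg.Agent.Lib.Helper51.AutPGEN.main Cfsg.Agent.Lib.Helper51.AutQIN.main
    Cfsg.Agent.Lib.Helper11.AutCHARJ.main Cfsg.Agent.Lib.Helper11.AutCHARZ.main
    Cfsg.Agent.Lib.Helper11.AutZLEJ.main Cfsg.Agent.Lib.Helper11.AutZNE.main
    (Cfsg.Agent.Lib.Helper11.AutTFREL.main Cfsg.Agent.Lib.Helper15.AutTFABS.main)
    (Cfsg.Agent.Lib.Helper64.AutQSTEP.main Cfsg.Agent.Lib.Helper11.AutSYLA.pg)

/-- the statement, from the pieces. -/
theorem final_pieces :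
    Cfsg.Agent.Lib.Helper64.AutStmt.Final.{u} :=
  Cfsg.Agent.Lib.Helper64.AutAsm.final
    Cfsg.Agent.Lib.Helper11.AutSYLA.sub Cfsg.Agent.Lib.Helper11.AutSYLB.conj
    Cfsg.Agent.Lib.Helper11.AutMAXC.main
    (Cfsg.Agent.Lib.Helper77.AutSYLN.main Cfsg.Agent.Lib.Helper11.AutSYLB.conj
      Cfsg.Agent.Lib.Helper11.AutSYLB.ofMax Cfsg.Agent.Lib.Helper11.AutSYLA.pg)
    Cfsg.Agent.Lib.Helper11.AutNGROW.main Cfsg.Agent.Lib.Helper99.AutAQ1.main
    Cfsg.Agent.Lib.Helper99.AutAQ2.main Cfsg.Agent.Lib.Helper11.AutBADCONJ.main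
    Cfsg.Agent.Lib.Helper14.AutGC.main
    (Cfsg.Agent.Lib.Helper63.AutNPS.main Cfsg.Agent.Lib.Helper15.AutBURN.main
      Cfsg.Agent.Lib.Helper15.AutPSEXT.main)
    (Cfsg.Agent.Lib.Helper64.AutHALLREL.main
      (Cfsg.Agent.Lib.Helper64.AutHALLABS.main Cfsg.Agent.Lib.Helper63.AutPSSUB.main))
    laAll_pieces

/-- Let p and q be distinct primes with {p, q} ≠ {2, 3}, and let G be a finite group such that for every p-subgroup H of G the automizer N_G(H)/C_G(H) is p-solvable. If q divides the order of N_G(H)/C_G(H) for some p-subgroup H, then a Sylow p-subgroup of G has a normal subgroup K (normal in the Sylow subgroup) such that q divides the order of N_G(K)/C_G(K). -/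
theorem result {G : Type*} [Group G] [Finite G]
    (p q : ℕ) [Fact p.Prime] [Fact q.Prime] (hpq : p ≠ q) (h23 : ¬ ((p = 2 ∧ q = 3) ∨ (p = 3 ∧ q = 2)))
    (hsol : ∀ H : Subgroup G, IsPGroup p ↥H →
      Cfsg.IsPSolvable p (↥(Subgroup.normalizer (H : Set G)) ⧸ (Subgroup.centralizer (H : Set G)).subgroupOf (Subgroup.normalizer (H : Set G))))
    (H : Subgroup G) (hH : IsPGroup p ↥H)
    (hq : q ∣ ((Subgroup.centralizer (H : Set G)).subgroupOf (Subgroup.normalizer (H : Set G))).index)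
    (Gp : Sylow p G) :
    ∃ K : Subgroup G, K ≤ (Gp : Subgroup G) ∧ (Gp : Subgroup G) ≤ Subgroup.normalizer (K : Set G) ∧
      q ∣ ((Subgroup.centralizer (K : Set G)).subgroupOf (Subgroup.normalizer (K : Set G))).index :=
  final_pieces G p q hpq h23 hsol H hH hq Gp

end Cfsg.Agent.S4411
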