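import Cfsg.Statements.S4419
import Cfsg.Agent.S0071
import Cfsg.Agent.S4208
import Cfsg.Agent.Lib.Helper75.SelfCentCore
import Cfsg.Agent.Lib.Helper46.PCore
-- import your own Cfsg.Agent.* helpers here

set_option autoImplicit false
open Cfsg

namespace Cfsg.Agent.S4419

/-- The Frattini quotient of a `p`-group embedding into a metacyclic group has order at most
`p ^ 2`. -/
theorem frattini_index_le {Q R : Type*} [Group Q] [Finite Q] [Group R] (p : ℕ) [Fact p.Prime]
    (hQ : IsPGroup p Q) (hR : Cfsg.IsMetacyclic R) (f : Q →* R) (hf : Function.Injective f) :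
    ∃ r : ℕ, r ≤ 2 ∧ (frattini Q).index = p ^ r := by
  have hp : p.Prime := Fact.out
  obtain ⟨N, hN, hNc, hRc⟩ := hR
  have := hN
  have : (N.comap f).Normal := inferInstance
  have hAc : IsCyclic ↥(N.comap f) := by
    apply isCyclic_of_injective (f.subgroupComap N)
    intro x y hxy
    have h1 : f (x : Q) = f (y : Q) := congrArg (fun t : ↥N => (t : R)) hxy
    exact Subtype.ext (hf h1)
  have hBc : IsCyclic (Q ⧸ N.comap f) := by
    apply isCyclic_of_injective (QuotientGroup.map (N.comap f) N f (le_refl _))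
    rw [injective_iff_map_eq_one]
    intro x hx
    obtain ⟨x, rfl⟩ := QuotientGroup.mk_surjective x
    rw [QuotientGroup.map_mk, QuotientGroup.eq_one_iff] at hx
    rw [QuotientGroup.eq_one_iff]
    exact hx
  obtain ⟨a, ha⟩ := hAc.exists_generator
  obtain ⟨b', hb'⟩ := hBc.exists_generator
  obtain ⟨b, rfl⟩ := QuotientGroup.mk_surjective b'
  have hdec : ∀ x : Q, ∃ i j : ℤ, x = b ^ j * (a : Q) ^ i := by
    intro x
    obtain ⟨j, hj⟩ := Subgroup.mem_zpowers_iff.1 (hb' (x : Q ⧸ N.comap f))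
    have h1 : ((b ^ j : Q) : Q ⧸ N.comap f) = (x : Q ⧸ N.comap f) := by
      rw [← hj]; rfl
    have h2 : (b ^ j)⁻¹ * x ∈ N.comap f := QuotientGroup.eq.1 h1
    obtain ⟨i, hi⟩ := Subgroup.mem_zpowers_iff.1 (ha ⟨(b ^ j)⁻¹ * x, h2⟩)
    have h3 : ((a : Q)) ^ i = (b ^ j)⁻¹ * x := by
      have := congrArg (fun t : ↥(N.comap f) => (t : Q)) hi
      simpa using this
    refine ⟨i, j, ?_⟩
    rw [h3]
    group
  -- the Frattini quotient
  obtain ⟨u, hu⟩ : ∃ u : Q ⧸ frattini Q, u = ((b : Q) : Q ⧸ frattini Q) := ⟨_, rfl⟩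
  obtain ⟨w, hw⟩ : ∃ w : Q ⧸ frattini Q, w = (((a : Q)) : Q ⧸ frattini Q) := ⟨_, rfl⟩
  have hup : u ^ p = 1 := by
    rw [hu, ← QuotientGroup.mk_pow, QuotientGroup.eq_one_iff]
    exact Cfsg.Agent.Lib.Helper70.FrattiniQuot.pow_mem_frattini hQ b
  have hwp : w ^ p = 1 := by
    rw [hw, ← QuotientGroup.mk_pow, QuotientGroup.eq_one_iff]
    exact Cfsg.Agent.Lib.Helper70.FrattiniQuot.pow_mem_frattini hQ (a : Q)
  have hsurj : Function.Surjective
      (fun t : ↥(Subgroup.zpowers u) × ↥(Subgroup.zpowers w) =>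
        ((t.1 : Q ⧸ frattini Q)) * ((t.2 : Q ⧸ frattini Q))) := by
    intro v
    obtain ⟨x, rfl⟩ := QuotientGroup.mk_surjective v
    obtain ⟨i, j, hx⟩ := hdec x
    refine ⟨(⟨u ^ j, Subgroup.zpow_mem_zpowers u j⟩, ⟨w ^ i, Subgroup.zpow_mem_zpowers w i⟩), ?_⟩
    show u ^ j * w ^ i = _
    rw [hu, hw, hx, QuotientGroup.mk_mul, QuotientGroup.mk_zpow, QuotientGroup.mk_zpow]
  have hcard : Nat.card (Q ⧸ frattini Q) ≤ p * p := by
    have h1 := Nat.card_le_card_of_surjective _ hsurj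
    rw [Nat.card_prod, Nat.card_zpowers, Nat.card_zpowers] at h1
    have h2 : orderOf u ≤ p := Nat.le_of_dvd hp.pos (orderOf_dvd_of_pow_eq_one hup)
    have h3 : orderOf w ≤ p := Nat.le_of_dvd hp.pos (orderOf_dvd_of_pow_eq_one hwp)
    exact h1.trans (Nat.mul_le_mul h2 h3)
  obtain ⟨r, hr⟩ := hQ.index (frattini Q)
  refine ⟨r, ?_, hr⟩
  have h4 : p ^ r ≤ p ^ 2 := by
    rw [← hr, sq]
    exact hcard
  exact (Nat.pow_le_pow_iff_right hp.one_lt).1 h4

/-- A `p'`-element of `O_{p',p}(G)` normalizing a `p`-subgroup `Q` centralizes it. -/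
theorem mem_centralizer_of_mem_pPrimePCore {G : Type*} [Group G] [Finite G] (p : ℕ)
    [Fact p.Prime] (Q : Subgroup G) (hQ : IsPGroup p Q) (y : G)
    (hyL : y ∈ Cfsg.pPrimePCore p G) (hy : Nat.Coprime (orderOf y) p)
    (hyN : y ∈ Subgroup.normalizer (Q : Set G)) : y ∈ Subgroup.centralizer (Q : Set G) := by
  have hp : p.Prime := Fact.out
  have hKc : (Nat.card (Cfsg.pPrimeCore p G)).Coprime p :=
    (Cfsg.Agent.Lib.Helper75.SelfCentCore.pPrimeCore_spec G p).2
  -- `y ∈ O_{p'}(G)`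
  have hyK : y ∈ Cfsg.pPrimeCore p G := by
    have h1 : (QuotientGroup.mk' (Cfsg.pPrimeCore p G) y) ∈
        Cfsg.pCore p (G ⧸ Cfsg.pPrimeCore p G) := hyL
    have hpg : IsPGroup p (Cfsg.pCore p (G ⧸ Cfsg.pPrimeCore p G)) :=
      Cfsg.Agent.Lib.Helper46.PCore.pCore_isPGroup
    obtain ⟨k, hk⟩ := hpg ⟨_, h1⟩
    have hk' : (QuotientGroup.mk' (Cfsg.pPrimeCore p G) y) ^ p ^ k = 1 := by
      have := congrArg (fun t : ↥(Cfsg.pCore p (G ⧸ Cfsg.pPrimeCore p G)) =>
        (t : G ⧸ Cfsg.pPrimeCore p G)) hk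
      simpa using this
    have h2 : orderOf (QuotientGroup.mk' (Cfsg.pPrimeCore p G) y) ∣ p ^ k :=
      orderOf_dvd_of_pow_eq_one hk'
    have h3 : orderOf (QuotientGroup.mk' (Cfsg.pPrimeCore p G) y) ∣ orderOf y :=
      orderOf_map_dvd _ y
    have h4 : orderOf (QuotientGroup.mk' (Cfsg.pPrimeCore p G) y) = 1 :=
      Nat.eq_one_of_dvd_coprimes (Nat.Coprime.pow_right k hy) h3 h2
    rw [orderOf_eq_one_iff] at h4
    exact (QuotientGroup.eq_one_iff y).1 h4
  rw [Subgroup.mem_centralizer_iff]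
  intro q hq
  have hc1 : y * q * y⁻¹ * q⁻¹ ∈ Cfsg.pPrimeCore p G := by
    have h1 : q * y⁻¹ * q⁻¹ ∈ Cfsg.pPrimeCore p G :=
      (Cfsg.pPrimeCore_normal p G).conj_mem _ (inv_mem hyK) q
    have h2 := mul_mem hyK h1
    have e : y * (q * y⁻¹ * q⁻¹) = y * q * y⁻¹ * q⁻¹ := by group
    rwa [e] at h2
  have hc2 : y * q * y⁻¹ * q⁻¹ ∈ Q := by
    have h1 : y * q * y⁻¹ ∈ Q := (Subgroup.mem_normalizer_iff.1 hyN q).1 hq
    exact mul_mem h1 (inv_mem hq)
  have hc3 : y * q * y⁻¹ * q⁻¹ = 1 := by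
    obtain ⟨k, hk⟩ := hQ ⟨_, hc2⟩
    have hk' : (y * q * y⁻¹ * q⁻¹) ^ p ^ k = 1 := by
      have := congrArg (fun t : ↥Q => (t : G)) hk
      simpa using this
    have h2 : orderOf (y * q * y⁻¹ * q⁻¹) ∣ p ^ k := orderOf_dvd_of_pow_eq_one hk'
    have h3 : orderOf (y * q * y⁻¹ * q⁻¹) ∣ Nat.card (Cfsg.pPrimeCore p G) := by
      have := orderOf_dvd_natCard (⟨_, hc1⟩ : ↥(Cfsg.pPrimeCore p G))
      rwa [Subgroup.orderOf_mk] at this
    have h4 : orderOf (y * q * y⁻¹ * q⁻¹) = 1 :=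
      Nat.eq_one_of_dvd_coprimes (Nat.Coprime.pow_right k hKc) h3 h2
    exact orderOf_eq_one_iff.1 h4
  have e : q * y = (y * q * y⁻¹ * q⁻¹)⁻¹ * (y * q) := by group
  rw [e, hc3]
  simp

/-- Let p be a prime and G a finite group whose Sylow p-subgroups are metacyclic (a cyclic normal subgroup with cyclic quotient). Then G has a normal p-complement if and only if the order of G/O_{p′,p}(G) is coprime to p² − 1. -/
theorem result {G : Type*} [Group G] [Finite G] (p : ℕ) [Fact p.Prime] (S : Sylow p G) (hS : Cfsg.IsMetacyclic ↥(S : Subgroup G)) : Cfsg.HasNormalPComplement p G ↔ Nat.Coprime (Nat.card (G ⧸ Cfsg.pPrimePCore p G)) (p ^ 2 - 1) := by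
  have hp : p.Prime := Fact.out
  constructor
  · rintro ⟨P, N, hN, hc⟩
    have hNcard : (P : Subgroup G).index = Nat.card N := hc.index_eq_card
    have hNK : N ≤ Cfsg.pPrimeCore p G := by
      apply Cfsg.Agent.Lib.Helper75.SelfCentCore.le_pPrimeCore hp hN
      rw [← hNcard]
      exact P.not_dvd_index
    have hidx : (Cfsg.pPrimeCore p G).index ∣ N.index := Subgroup.index_dvd_of_le hNK
    have hNidx : N.index = Nat.card (P : Subgroup G) := hc.symm.index_eq_card
    obtain ⟨n, hn⟩ := IsPGroup.iff_card.1 P.isPGroup'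
    rw [hNidx, hn] at hidx
    obtain ⟨m, _, hm⟩ := (Nat.dvd_prime_pow hp).1 hidx
    have hpq : IsPGroup p (G ⧸ Cfsg.pPrimeCore p G) := IsPGroup.of_card hm
    have htop : Cfsg.pCore p (G ⧸ Cfsg.pPrimeCore p G) = ⊤ := by
      apply top_le_iff.1
      apply Cfsg.Agent.Lib.Helper46.PCore.le_pCore inferInstance
      exact hpq.to_subgroup ⊤
    have hL : Cfsg.pPrimePCore p G = ⊤ := by
      unfold Cfsg.pPrimePCore
      rw [htop, Subgroup.comap_top]
    rw [hL]
    have h1 : Nat.card (G ⧸ (⊤ : Subgroup G)) = 1 := Subgroup.index_top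
    rw [h1]
    exact Nat.coprime_one_left _
  · intro hcop
    obtain ⟨N, hN, hc⟩ := (Cfsg.Agent.S0071.result S).2 (by
      intro Q hQS g hgN hgp
      have hQp : IsPGroup p Q := S.isPGroup'.to_le hQS
      obtain ⟨r, hr2, hr⟩ := frattini_index_le p (Q := ↥Q) (R := ↥(S : Subgroup G)) hQp hS
        (Subgroup.inclusion hQS) (Subgroup.inclusion_injective hQS)
      obtain ⟨n, hn⟩ := IsPGroup.iff_card.1 hQp
      have hAut := Cfsg.Agent.S4208.result hn hr
      obtain ⟨σ, hσ⟩ : ∃ σ : MulAut ↥Q, σ = Q.normalizerMonoidHom ⟨g, hgN⟩ := ⟨_, rfl⟩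
      have hd1 : orderOf σ ∣ orderOf g := by
        rw [hσ]
        have := orderOf_map_dvd Q.normalizerMonoidHom
          (⟨g, hgN⟩ : ↥(Subgroup.normalizer (Q : Set G)))
        rwa [Subgroup.orderOf_mk] at this
      have hd2 : orderOf σ ∣ Nat.card (MulAut ↥Q) := orderOf_dvd_natCard σ
      have hLn : (Cfsg.pPrimePCore p G).Normal := by
        unfold Cfsg.pPrimePCore
        infer_instance
      obtain ⟨m, hm⟩ : ∃ m, m = orderOf (QuotientGroup.mk' (Cfsg.pPrimePCore p G) g) :=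
        ⟨_, rfl⟩
      have hm1 : g ^ m ∈ Cfsg.pPrimePCore p G := by
        rw [← QuotientGroup.eq_one_iff, QuotientGroup.mk_pow, hm]
        exact pow_orderOf_eq_one _
      have hm2 : m ∣ Nat.card (G ⧸ Cfsg.pPrimePCore p G) := by
        rw [hm]
        exact orderOf_dvd_natCard _
      have hm3 : g ^ m ∈ Subgroup.centralizer (Q : Set G) :=
        mem_centralizer_of_mem_pPrimePCore p Q hQp (g ^ m) hm1
          (Nat.Coprime.coprime_dvd_left (orderOf_pow_dvd m) hgp) (pow_mem hgN m)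
      have hd3 : orderOf σ ∣ m := by
        apply orderOf_dvd_of_pow_eq_one
        rw [hσ, ← map_pow, ← MonoidHom.mem_ker, Subgroup.normalizerMonoidHom_ker,
          Subgroup.mem_subgroupOf]
        simpa using hm3
      have hdcop : Nat.Coprime (orderOf σ) (p ^ 2 - 1) :=
        Nat.Coprime.coprime_dvd_left (hd3.trans hm2) hcop
      have hdp : Nat.Coprime (orderOf σ) p := Nat.Coprime.coprime_dvd_left hd1 hgp
      have hd4 : orderOf σ ∣ p ^ (r * (n - r)) * ∏ i ∈ Finset.range r, (p ^ r - p ^ i) :=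
        hd2.trans hAut
      have hd5 : orderOf σ ∣ ∏ i ∈ Finset.range r, (p ^ r - p ^ i) :=
        (Nat.Coprime.dvd_mul_left (Nat.Coprime.pow_right _ hdp)).1 hd4
      have h11 : p - 1 ∣ p ^ 2 - 1 := by
        have := Nat.sub_dvd_pow_sub_pow p 1 2
        simpa using this
      have hd6 : orderOf σ = 1 := by
        interval_cases r
        · simpa using hd5
        · have h1 : orderOf σ ∣ p - 1 := by simpa using hd5
          exact Nat.Coprime.eq_one_of_dvd hdcop (h1.trans h11)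
        · have h0 : orderOf σ ∣ (p ^ 2 - 1) * (p ^ 2 - p) := by
            simpa [Finset.prod_range_succ] using hd5
          have h1 : orderOf σ ∣ p ^ 2 - p := (Nat.Coprime.dvd_mul_left hdcop).1 h0
          have h2 : p ^ 2 - p = p * (p - 1) := by
            rw [Nat.mul_sub, mul_one, sq]
          rw [h2] at h1
          have h3 : orderOf σ ∣ p - 1 := (Nat.Coprime.dvd_mul_left hdp).1 h1
          exact Nat.Coprime.eq_one_of_dvd hdcop (h3.trans h11)
      have hσ1 : σ = 1 := orderOf_eq_one_iff.1 hd6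
      have hker : (⟨g, hgN⟩ : ↥(Subgroup.normalizer (Q : Set G))) ∈
          Q.normalizerMonoidHom.ker := by
        rw [MonoidHom.mem_ker, ← hσ]
        exact hσ1
      rw [Subgroup.normalizerMonoidHom_ker, Subgroup.mem_subgroupOf] at hker
      exact hker)
    exact ⟨S, N, hN, hc⟩

end Cfsg.Agent.S4419
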