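-- Statement S4467 (Winter's theorem).  Assembled from the pieces of the helper74 call.
import Cfsg.Statements.S4467
import Cfsg.Agent.Lib.Helper74.WinStmt
import Cfsg.Agent.Lib.Helper74.WinAsm
import Cfsg.Agent.Lib.Helper74.WinCON
import Cfsg.Agent.Lib.Helper74.WinPIND
import Cfsg.Agent.Lib.Helper74.WinPRIMB
import Cfsg.Agent.Lib.Helper48.WinSQ
import Cfsg.Agent.Lib.Helper48.WinR3A
import Cfsg.Agent.Lib.Helper99.WinCENT
import Cfsg.Agent.Lib.Helper67.WinORB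
import Cfsg.Agent.Lib.Helper67.WinARI
import Cfsg.Agent.Lib.Helper67.WinR1
import Cfsg.Agent.Lib.Helper97.WinBR
import Cfsg.Agent.Lib.Helper97.WinR2
import Cfsg.Agent.Lib.Helper52.WinPRIMA
import Cfsg.Agent.Lib.Helper75.WinMINU

set_option autoImplicit false
open Cfsg

namespace Cfsg.Agent.S4467

/-- Let the finite solvable group G have a faithful irreducible character of degree n, and suppose that for the prime p a Sylow p-subgroup of G is not normal. Then n is divisible by a prime power q > 1 with q congruent to −1, 0 or 1 modulo p. -/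
theorem result {G : Type*} [Group G] [Finite G] (χ : Cfsg.IrrCharacter G) (hfaith : ∀ g : G, (χ : G → ℂ) g = (χ : G → ℂ) 1 → g = 1) (n : ℕ) (hn : Cfsg.charDegree (χ : G → ℂ) = n) (hsolv : Group.IsSolvable G) (p : ℕ) (hp : p.Prime) (P : Sylow p G) (hP : ¬ (P : Subgroup G).Normal) : ∃ q : ℕ, IsPrimePow q ∧ q ∣ n ∧ ((q : ℤ) ≡ -1 [ZMOD p] ∨ (q : ℤ) ≡ 0 [ZMOD p] ∨ (q : ℤ) ≡ 1 [ZMOD p]) := by
  subst hn
  exact Cfsg.Agent.Lib.Helper74.WinAsm.top Cfsg.Agent.Lib.Helper97.WinBR.main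
    Cfsg.Agent.Lib.Helper67.WinR1.main Cfsg.Agent.Lib.Helper97.WinR2.main
    Cfsg.Agent.Lib.Helper48.WinR3A.main
    (Cfsg.Agent.Lib.Helper74.WinPIND.main Cfsg.Agent.Lib.Helper52.WinPRIMA.main
      Cfsg.Agent.Lib.Helper74.WinPRIMB.main)
    Cfsg.Agent.Lib.Helper75.WinMINU.main Cfsg.Agent.Lib.Helper99.WinCENT.main
    Cfsg.Agent.Lib.Helper48.WinSQ.main Cfsg.Agent.Lib.Helper74.WinCON.main
    Cfsg.Agent.Lib.Helper67.WinORB.main Cfsg.Agent.Lib.Helper67.WinARI.main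
    _ G rfl hsolv p hp χ hfaith ⟨P, hP⟩

end Cfsg.Agent.S4467
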