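import Cfsg.Statements.S4472
import Cfsg.Agent.Lib.Helper74.DixStmt
import Cfsg.Agent.Lib.Helper74.DixFin
import Cfsg.Agent.Lib.Helper74.DixEXTDET
import Cfsg.Agent.Lib.Helper33.DixGRPA1
import Cfsg.Agent.Lib.Helper5.DixGRPA2
import Cfsg.Agent.Lib.Helper87.DixGRPB
import Cfsg.Agent.Lib.Helper51.DixEXTUNIQ
import Cfsg.Agent.Lib.Helper82.DixGALIRR
import Cfsg.Agent.Lib.Helper82.DixRATCRIT
import Cfsg.Agent.Lib.Helper34.DixEXT
import Cfsg.Agent.Lib.Helper86.DixEXTSUB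
import Cfsg.Agent.Lib.Helper79.DixORB
import Cfsg.Agent.Lib.Helper86.DixSTAB
import Cfsg.Agent.Lib.Helper59.DixCHARFIN

set_option autoImplicit false
open Cfsg

namespace Cfsg.Agent.S4472

/-- Let the finite p-solvable group G have a faithful character of degree n, and let p^a be the index of O_p(G) in a Sylow p-subgroup of G (the p-part of [G : O_p(G)]). Then a ≤ Σ_{i ≥ 0} ⌊n / ((p − 1) p^i)⌋ (a finite sum; the terms vanish for p^i > n). -/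
theorem result {G : Type*} [Group G] [Finite G] (χ : G → ℂ) (hχ : Cfsg.IsCharacter G χ) (hfaith : ∀ g : G, χ g = χ 1 → g = 1) (n : ℕ) (hn : Cfsg.charDegree χ = n) (p : ℕ) (hp : p.Prime) (hsolv : Cfsg.IsPSolvable p G) : ((Cfsg.pCore p G).index).factorization p ≤ ∑ i ∈ Finset.range (n + 1), n / ((p - 1) * p ^ i) := by
  have hU : Cfsg.Agent.Lib.Helper74.DixStmt.ExtUniq.{u_1} :=
    Cfsg.Agent.Lib.Helper51.DixEXTUNIQ.main
  have hD : Cfsg.Agent.Lib.Helper74.DixStmt.ExtDet.{u_1} :=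
    Cfsg.Agent.Lib.Helper74.DixEXTDET.main hU
  have hG : Cfsg.Agent.Lib.Helper74.DixStmt.GalIrr.{u_1} :=
    Cfsg.Agent.Lib.Helper82.DixGALIRR.main
  have hR : Cfsg.Agent.Lib.Helper74.DixStmt.RatCrit.{u_1} :=
    Cfsg.Agent.Lib.Helper82.DixRATCRIT.main
  have hE : Cfsg.Agent.Lib.Helper74.DixStmt.ExtProp.{u_1} :=
    Cfsg.Agent.Lib.Helper34.DixEXT.main hD hU hG hR
  have hES : Cfsg.Agent.Lib.Helper74.DixStmt.ExtSub.{u_1} :=
    Cfsg.Agent.Lib.Helper86.DixEXTSUB.main hE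
  have hO : Cfsg.Agent.Lib.Helper74.DixStmt.OrbProp.{u_1} :=
    Cfsg.Agent.Lib.Helper79.DixORB.main hES
  have hS : Cfsg.Agent.Lib.Helper74.DixStmt.StabProp.{u_1} :=
    Cfsg.Agent.Lib.Helper86.DixSTAB.main hO
  have hC : Cfsg.Agent.Lib.Helper74.DixStmt.CharProp.{u_1} :=
    Cfsg.Agent.Lib.Helper59.DixCHARFIN.main hS
  have hA1 : Cfsg.Agent.Lib.Helper74.DixStmt.GrpA1.{u_1} :=
    Cfsg.Agent.Lib.Helper33.DixGRPA1.main
  have hA2 : Cfsg.Agent.Lib.Helper74.DixStmt.GrpA2.{u_1} :=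
    Cfsg.Agent.Lib.Helper5.DixGRPA2.main
  have hB : Cfsg.Agent.Lib.Helper74.DixStmt.GrpB.{u_1} :=
    Cfsg.Agent.Lib.Helper87.DixGRPB.main
  exact Cfsg.Agent.Lib.Helper74.DixFin.fin hA1 hA2 hB hC χ hχ hfaith n hn p hp hsolv

end Cfsg.Agent.S4472
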