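import Cfsg.Statements.S4553
import Cfsg.Agent.Lib.Helper82.CycExt
import Cfsg.Agent.Lib.Helper3.FTBpn
import Cfsg.Agent.H84.FusRes
import Cfsg.Agent.Lib.Helper80.NormB0
import Cfsg.Agent.Lib.Helper81.CliffCorr

set_option autoImplicit false
open Cfsg

namespace Cfsg.Agent.S4553

open Cfsg.Agent.Lib.Helper82.DetPow Cfsg.Agent.Lib.Helper82.CycExt

/-- Let G be a finite group, p a prime, P a Sylow p-subgroup, N the p-residual of G (the subgroup generated by the elements of order prime to p, the smallest normal subgroup with G/N a p-group), and M a maximal ideal of the algebraic integers containing p; suppose G/N is cyclic and nontrivial. Let k be a natural number with g ^ k = g ^ (1 + p) for every p-element g and g ^ k = g for every element g of order prime to p (so that χ (g ^ k) is the image of χ g under the field automorphism that raises p-power roots of unity to the power 1 + p and fixes the roots of unity of order prime to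 p). Then the number of members χ of the principal block of G of degree prime to p with χ (g ^ k) = χ g for all g equals p times the number of members θ of the principal block of N of degree prime to p that are invariant under conjugation by P and satisfy θ (n ^ k) = θ n for all n. -/
theorem result {G : Type*} [Group G] [Finite G] (p : ℕ) [Fact p.Prime] (M : Ideal Cfsg.AlgInt) (hM : Cfsg.IsPModular p M) (P : Sylow p G) (N : Subgroup G) [hN : N.Normal] (hNres : N = Cfsg.pResidual p G) (hcyc : IsCyclic (G ⧸ N)) (hnt : N ≠ ⊤) (k : ℕ) (hk₁ : ∀ g : G, (∃ j : ℕ, orderOf g = p ^ j) → g ^ k = g ^ (1 + p)) (hk₂ : ∀ g : G, Nat.Coprime (orderOf g) p → g ^ k = g) : Nat.card {χ : Cfsg.IrrCharacter G // χ ∈ Cfsg.principalBlock M G ∧ ¬ p ∣ Cfsg.charDegree (χ : G → ℂ) ∧ ∀ g : G, (χ : G → ℂ) (g ^ k) = (χ : G → ℂ) g} = p * Nat.card {θ : Cfsg.IrrCharacter ↥N // θ ∈ Cfsg.principalBlock M ↥N ∧ ¬ p ∣ Cfsg.charDegree (θ : ↥N → ℂ) ∧ (∀ x ∈ (P : Subgroup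 G), ∀ n : ↥N, (θ : ↥N → ℂ) ⟨x * n * x⁻¹, hN.conj_mem n n.2 x⟩ = (θ : ↥N → ℂ) n) ∧ ∀ n : ↥N, (θ : ↥N → ℂ) (n ^ k) = (θ : ↥N → ℂ) n} := by
  classical
  have hp : p.Prime := Fact.out
  have : Fintype G := Fintype.ofFinite G
  have : Fintype N := Fintype.ofFinite N
  have hk : k.Coprime (Nat.card G) := coprime_card_of_pow p k hk₁ hk₂
  -- `G / N` is a `p`-group
  have hPG : IsPGroup p (G ⧸ N) := by
    subst hNres
    exact Cfsg.Agent.H84.isPGroup_quotient_pResidual p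
  have hpq : ∀ g : G, ∃ j : ℕ, g ^ p ^ j ∈ N := by
    intro g
    obtain ⟨j, hj⟩ := hPG (QuotientGroup.mk g)
    refine ⟨j, ?_⟩
    rw [← QuotientGroup.eq_one_iff, QuotientGroup.mk_pow]
    exact hj
  obtain ⟨a, ha⟩ := hPG.exists_card_eq
  have hidx : N.index = p ^ a := by
    rw [Subgroup.index_eq_card]
    exact ha
  -- commutators lie in `N`
  have hab : ∀ x y : G, x * y * x⁻¹ * y⁻¹ ∈ N := by
    intro x y
    rw [← QuotientGroup.eq_one_iff]
    obtain ⟨g₀, hg₀⟩ := hcyc.exists_generator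
    obtain ⟨i, hi⟩ := Subgroup.mem_zpowers_iff.mp (hg₀ (QuotientGroup.mk x))
    obtain ⟨j, hj⟩ := Subgroup.mem_zpowers_iff.mp (hg₀ (QuotientGroup.mk y))
    rw [QuotientGroup.mk_mul, QuotientGroup.mk_mul, QuotientGroup.mk_mul, QuotientGroup.mk_inv,
      QuotientGroup.mk_inv, ← hi, ← hj, ← zpow_add, ← zpow_neg, ← zpow_neg, ← zpow_add,
      ← zpow_add]
    have e : i + j + -i + -j = 0 := by ring
    rw [e, zpow_zero]
  -- a generator of `G` modulo `N` inside `P`
  obtain ⟨g₀, hg₀⟩ := hcyc.exists_generator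
  obtain ⟨g₁, rfl⟩ := QuotientGroup.mk_surjective g₀
  obtain ⟨b, hb, u, huP, hg₁⟩ := Cfsg.Agent.H84.exists_pResidual_mul_sylow p P g₁
  have hbN : b ∈ N := by
    rw [hNres]
    exact hb
  have hmk : (QuotientGroup.mk g₁ : G ⧸ N) = QuotientGroup.mk u := by
    rw [hg₁, QuotientGroup.mk_mul, (QuotientGroup.eq_one_iff b).mpr hbN, one_mul]
  have hgen : ∀ g : G, ∃ i : ℕ, ∃ n ∈ N, g = u ^ i * n := by
    intro g
    have h1 := hg₀ (QuotientGroup.mk g)
    rw [hmk, ← mem_powers_iff_mem_zpowers] at h1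
    obtain ⟨i, hi⟩ := (Submonoid.mem_powers_iff _ _).mp h1
    refine ⟨i, (u ^ i)⁻¹ * g, ?_, by group⟩
    rw [← QuotientGroup.eq_one_iff, QuotientGroup.mk_mul, QuotientGroup.mk_inv,
      QuotientGroup.mk_pow, hi, inv_mul_cancel]
  have hup : ∃ j : ℕ, u ^ p ^ j = 1 := by
    obtain ⟨j, hj⟩ := P.isPGroup' ⟨u, huP⟩
    refine ⟨j, ?_⟩
    have h1 := congrArg Subtype.val hj
    simpa using h1
  have huN : u ∉ N := by
    intro h
    apply hnt
    rw [eq_top_iff]
    intro g _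
    obtain ⟨i, n, hn, rfl⟩ := hgen g
    exact N.mul_mem (N.pow_mem h i) hn
  have huk : u ^ k = u ^ (1 + p) := by
    apply hk₁
    obtain ⟨j, hj⟩ := hup
    obtain ⟨i, -, hi⟩ := (Nat.dvd_prime_pow hp).mp (orderOf_dvd_of_pow_eq_one hj)
    exact ⟨i, hi⟩
  -- determinants are trivial on `p`-elements of `N`
  have hdet : ∀ (θ : IrrCharacter N) (v : N), (∃ j : ℕ, v ^ p ^ j = 1) →
      detChar θ.1 v = 1 := by
    subst hNres
    rintro θ v ⟨j, hj⟩
    exact eq_one_of_pResidual p (detChar θ.1) (detChar_one θ.2) (detChar_mul θ.2) v j hj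
  -- the restriction map
  have hresirr : ∀ χ : IrrCharacter G, ¬ p ∣ charDegree χ.1 →
      IsIrrCharacter N (fun n : N => χ.1 n) := fun χ hχ =>
    Cfsg.Agent.Lib.Helper3.FTBpn.restrict_irr_of_index_pow p a G N hidx χ.1 χ.2 hχ
  let r : {χ : IrrCharacter G // χ ∈ principalBlock M G ∧ ¬ p ∣ charDegree (χ : G → ℂ) ∧
      ∀ g : G, (χ : G → ℂ) (g ^ k) = (χ : G → ℂ) g} → IrrCharacter N :=
    fun χ => ⟨fun n : N => χ.1.1 n, hresirr χ.1 χ.2.2.1⟩
  have hrB : ∀ χ, r χ ∈ principalBlock M N ∧ ¬ p ∣ charDegree ((r χ : IrrCharacter N) : N → ℂ) ∧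
      (∀ x ∈ (P : Subgroup G), ∀ n : N,
        ((r χ : IrrCharacter N) : N → ℂ) ⟨x * n * x⁻¹, hN.conj_mem n n.2 x⟩
          = ((r χ : IrrCharacter N) : N → ℂ) n) ∧
      ∀ n : N, ((r χ : IrrCharacter N) : N → ℂ) (n ^ k) = ((r χ : IrrCharacter N) : N → ℂ) n := by
    intro χ
    refine ⟨?_, χ.2.2.1, ?_, ?_⟩
    · apply Cfsg.Agent.Lib.Helper80.NormB0.mem_principalBlock_of_constituent p M hM N χ.1 χ.2.1
        (r χ)
      show classInner (r χ).1 (r χ).1 ≠ 0
      rw [Cfsg.Agent.Lib.CT.Wedderburn.irr_orthonormal, if_pos rfl]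
      exact one_ne_zero
    · intro x _ n
      show χ.1.1 (x * n * x⁻¹) = χ.1.1 n
      exact Cfsg.Agent.Lib.Helper81.Irr.irr_conj χ.1 n x
    · intro n
      show χ.1.1 ((n ^ k : N) : G) = χ.1.1 n
      rw [Subgroup.coe_pow]
      exact χ.2.2.2 n
  have hD : ∀ χ : {χ : IrrCharacter G // χ ∈ principalBlock M G ∧
      ¬ p ∣ charDegree (χ : G → ℂ) ∧ ∀ g : G, (χ : G → ℂ) (g ^ k) = (χ : G → ℂ) g},
      detChar χ.1.1 u ^ p = 1 := by
    intro χ
    have h1 := detChar_galois χ.1.2 χ.1.2 k (fun g => (χ.2.2.2 g).symm) u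
    rw [huk, detChar_pow χ.1.2, pow_add, pow_one] at h1
    have hne := detChar_ne_zero χ.1.2 u
    have h2 : detChar χ.1.1 u * detChar χ.1.1 u ^ p = detChar χ.1.1 u * 1 := by
      rw [mul_one]
      exact h1.symm
    exact mul_left_cancel₀ hne h2
  let F : {χ : IrrCharacter G // χ ∈ principalBlock M G ∧ ¬ p ∣ charDegree (χ : G → ℂ) ∧
      ∀ g : G, (χ : G → ℂ) (g ^ k) = (χ : G → ℂ) g} →
      {θ : IrrCharacter N // θ ∈ principalBlock M N ∧ ¬ p ∣ charDegree (θ : N → ℂ) ∧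
        (∀ x ∈ (P : Subgroup G), ∀ n : N,
          (θ : N → ℂ) ⟨x * n * x⁻¹, hN.conj_mem n n.2 x⟩ = (θ : N → ℂ) n) ∧
        ∀ n : N, (θ : N → ℂ) (n ^ k) = (θ : N → ℂ) n} × {w : ℂ // w ^ p = 1} :=
    fun χ => (⟨r χ, hrB χ⟩, ⟨detChar χ.1.1 u, hD χ⟩)
  have hFinj : Function.Injective F := by
    intro χ χ' h
    have h1 : r χ = r χ' := congrArg (fun z => z.1.1) h
    have h2 : detChar χ.1.1 u = detChar χ'.1.1 u := congrArg (fun z => z.2.1) h
    apply Subtype.ext
    apply ext_unique p N hab u hgen (hpq u) (r χ) (hrB χ).2.1 χ.1 χ'.1 (fun n => rfl) ?_ h2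
    intro n
    rw [h1]
  have hFsurj : Function.Surjective F := by
    rintro ⟨⟨θ, hθB, hθdeg, hθP, hθk⟩, ⟨w, hw⟩⟩
    have hinv : ∀ (g : G) (n : N), θ.1 ⟨g * n * g⁻¹, hN.conj_mem n n.2 g⟩ = θ.1 n := by
      intro g n
      obtain ⟨b, hb, t, ht, rfl⟩ := Cfsg.Agent.H84.exists_pResidual_mul_sylow p P g
      have hbN : b ∈ N := by
        rw [hNres]
        exact hb
      have e : (⟨b * t * n * (b * t)⁻¹, hN.conj_mem n n.2 (b * t)⟩ : N)
          = ⟨b, hbN⟩ * ⟨t * n * t⁻¹, hN.conj_mem n n.2 t⟩ * ⟨b, hbN⟩⁻¹ := by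
        apply Subtype.ext
        simp [mul_assoc]
      rw [e, Cfsg.Agent.Lib.Helper81.Irr.irr_conj θ, hθP t ht n]
    obtain ⟨χ, hχB, hext, hχk, hχD⟩ := exists_ext p M hM N hcyc hab hpq u hgen hup huN hdet k hk
      huk θ hθB hθdeg hinv hθk w hw
    have hχdeg : ¬ p ∣ charDegree χ.1 := by
      have e : charDegree χ.1 = charDegree θ.1 := by
        show ⌊(χ.1 1).re⌋₊ = ⌊(θ.1 1).re⌋₊
        rw [← hext 1]
        rfl
      rw [e]
      exact hθdeg
    refine ⟨⟨χ, hχB, hχdeg, hχk⟩, ?_⟩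
    apply Prod.ext
    · apply Subtype.ext
      apply Subtype.ext
      funext n
      exact hext n
    · apply Subtype.ext
      exact hχD
  have hW : Nat.card {w : ℂ // w ^ p = 1} = p := by
    have hprim : IsPrimitiveRoot (Complex.exp (2 * Real.pi * Complex.I / p)) p :=
      Complex.isPrimitiveRoot_exp p hp.ne_zero
    have h1 := hprim.card_nthRootsFinset
    rw [← Nat.card_eq_finsetCard] at h1
    have h2 : Nat.card {w : ℂ // w ^ p = 1}
        = Nat.card ↥(Polynomial.nthRootsFinset p (1 : ℂ)) :=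
      Nat.card_congr (Equiv.subtypeEquivRight
        (fun w => (Polynomial.mem_nthRootsFinset hp.pos (1 : ℂ)).symm))
    rw [h2, h1]
  rw [Nat.card_congr (Equiv.ofBijective F ⟨hFinj, hFsurj⟩), Nat.card_prod, hW, mul_comm]

end Cfsg.Agent.S4553
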