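import Cfsg.Statements.S4561
import Cfsg.Agent.Lib.Helper3.GagStep
import Cfsg.Agent.Lib.Helper9.MNN2
-- import your own Cfsg.Agent.* helpers here

set_option autoImplicit false
universe u
open Cfsg

namespace Cfsg.Agent.S4561

theorem aux : ∀ (n : ℕ) (G : Type u) [Group G] [Finite G], Nat.card G = n → Group.IsSolvable G →
    ∃ (H : Type u) (_ : Group H) (_ : Finite H) (χ : H → ℂ), IsIrrCharacter H χ ∧
      (∀ h : H, χ h = χ 1 → h = 1) ∧
      (∀ h : H, χ h = 0 ∨ ‖χ h‖ = (χ 1).re) ∧
      (∃ f : G →* H ⧸ Subgroup.center H, Function.Injective f) ∧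
      (∀ q : ℕ, q.Prime → ((q ∣ Nat.card H ↔ q ∣ Nat.card G) ∧
        (q ∣ Nat.card (Subgroup.center H) ↔ q ∣ Nat.card G))) ∧
      Squarefree (Nat.card (Subgroup.center H)) := by
  intro n
  induction n using Nat.strong_induction_on with
  | _ n IH =>
  intro G _ _ hn hsolv
  rcases subsingleton_or_nontrivial G with hsub | hnt
  · have hG1 : Nat.card G = 1 := Nat.card_of_subsingleton 1
    have hC1 : Nat.card (Subgroup.center G) = 1 := Nat.card_of_subsingleton 1
    refine ⟨G, inferInstance, inferInstance, fun _ => 1,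
      Cfsg.Agent.Lib.CT.Ops.isIrrCharacter_one, fun h _ => Subsingleton.elim _ _,
      fun h => Or.inr (by simp), ⟨QuotientGroup.mk' _, fun a b _ => Subsingleton.elim a b⟩,
      ?_, ?_⟩
    · intro q _
      rw [hC1]
      exact ⟨Iff.rfl, by rw [hG1]⟩
    · rw [hC1]
      exact squarefree_one
  · haveI := hsolv
    obtain ⟨N, hNn, hNp⟩ := Cfsg.Agent.Lib.Helper9.MNN2.exists_normal_index_prime (G := G)
    haveI := hNn
    haveI : Fact N.index.Prime := ⟨hNp⟩
    have hNcard : Nat.card N < n := by
      have h1 := N.card_mul_index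
      rw [hn] at h1
      have h2 := hNp.two_le
      have h3 : 0 < Nat.card N := Nat.card_pos
      nlinarith
    have hNsolv : Group.IsSolvable N := solvable_of_solvable_injective N.subtype_injective
    obtain ⟨A, instG, instF, χ₀, hirr, hfaith, hFR, ⟨f₀, hf₀⟩, hpr, hsq⟩ :=
      IH (Nat.card N) hNcard N rfl hNsolv
    letI : Group A := instG
    haveI : Finite A := instF
    exact Cfsg.Agent.Lib.Helper3.GagStep.step hirr hfaith hFR hsq N rfl f₀ hf₀ hpr


/-- For every finite solvable group G there is a finite group H with a faithful irreducible character χ whose degree squared equals the index of the centre Z(H) (so χ is fully ramified over the centre), such that G is isomorphic to a subgroup of H/Z(H), the primes dividing the orders of H, of Z(H) and of G are the same, and the order of Z(H) is squarefree. -/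
theorem result {G : Type u} [Group G] [Finite G] (hsolv : Group.IsSolvable G) : ∃ (H : Type u) (_ : Group H) (_ : Finite H) (χ : Cfsg.IrrCharacter H), (∀ h : H, (χ : H → ℂ) h = (χ : H → ℂ) 1 → h = 1) ∧ (Cfsg.charDegree (χ : H → ℂ)) ^ 2 = (Subgroup.center H).index ∧ (∃ f : G →* H ⧸ Subgroup.center H, Function.Injective f) ∧ (∀ p : ℕ, p.Prime → ((p ∣ Nat.card H ↔ p ∣ Nat.card G) ∧ (p ∣ Nat.card (Subgroup.center H) ↔ p ∣ Nat.card G))) ∧ Squarefree (Nat.card (Subgroup.center H)) := by
  obtain ⟨H, instG, instF, χ, hirr, hfaith, hFR, hf, hpr, hsq⟩ := aux (Nat.card G) G rfl hsolv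
  letI : Group H := instG
  haveI : Finite H := instF
  exact ⟨H, instG, instF, ⟨χ, hirr⟩, hfaith,
    Cfsg.Agent.Lib.Helper3.GagStep.index_of_fr hirr hfaith hFR, hf, hpr, hsq⟩

end Cfsg.Agent.S4561
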