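import Cfsg.Statements.S4581
import Cfsg.Agent.Lib.Helper81.RMMain
import Cfsg.Agent.Lib.Helper81.RMCLIF
import Cfsg.Agent.Lib.Helper81.RMORB
import Cfsg.Agent.Lib.Helper81.RMMCK2
import Cfsg.Agent.Lib.Helper81.RMTRIVH
import Cfsg.Agent.Lib.Helper99.RMMINN
import Cfsg.Agent.Lib.Helper99.RMWCOUNT
import Cfsg.Agent.Lib.Helper99.RMISO
import Cfsg.Agent.Lib.Helper99.RMTWIST
import Cfsg.Agent.Lib.Helper47.RMNQUOT
import Cfsg.Agent.Lib.Helper1.RMEXT
import Cfsg.Agent.Lib.Helper1.RMNSYLB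
import Cfsg.Agent.Lib.Helper50.RMVAN
import Cfsg.Agent.Lib.Helper79.RMODDKER
import Cfsg.Agent.Lib.Helper81.RMNSYLA

set_option autoImplicit false
open Cfsg

namespace Cfsg.Agent.S4581

/-- Let G be a finite solvable group, P a Sylow 2-subgroup and N its normalizer. Then G and N have the same number of real-valued irreducible characters of odd degree; and every odd-degree irreducible character of G is real-valued exactly when the derived subgroup of P equals the Frattini subgroup of P and P is its own normalizer in G. -/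
theorem result {G : Type*} [Group G] [Finite G] [Group.IsSolvable G] (P : Sylow 2 G) :
    Nat.card {χ : Cfsg.IrrCharacter G // (∀ g : G, ((χ : G → ℂ) g).im = 0) ∧ Odd (Cfsg.charDegree (χ : G → ℂ))} =
      Nat.card {ψ : Cfsg.IrrCharacter (Subgroup.normalizer ((P : Subgroup G) : Set G)) // (∀ g, ((ψ : Subgroup.normalizer ((P : Subgroup G) : Set G) → ℂ) g).im = 0) ∧ Odd (Cfsg.charDegree (ψ : Subgroup.normalizer ((P : Subgroup G) : Set G) → ℂ))} ∧
    ((∀ χ : Cfsg.IrrCharacter G, Odd (Cfsg.charDegree (χ : G → ℂ)) → ∀ g : G, ((χ : G → ℂ) g).im = 0) ↔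
      (commutator (P : Subgroup G) = frattini (P : Subgroup G) ∧ Subgroup.normalizer ((P : Subgroup G) : Set G) = (P : Subgroup G))) := by
  have hp : Cfsg.Agent.Lib.Helper81.RMMain.Pieces :=
    { iso := Cfsg.Agent.Lib.Helper99.RMISO.main
      oddker := Cfsg.Agent.Lib.Helper79.RMODDKER.main
      nquot := Cfsg.Agent.Lib.Helper47.RMNQUOT.main
      trivh := Cfsg.Agent.Lib.Helper81.RMTRIVH.main
      clif := Cfsg.Agent.Lib.Helper81.RMCLIF.main
      orb := Cfsg.Agent.Lib.Helper81.RMORB.main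
      wcount := Cfsg.Agent.Lib.Helper99.RMWCOUNT.main
      van := Cfsg.Agent.Lib.Helper50.RMVAN.main
      ext := Cfsg.Agent.Lib.Helper1.RMEXT.main
      twist := Cfsg.Agent.Lib.Helper99.RMTWIST.main
      minn := Cfsg.Agent.Lib.Helper99.RMMINN.main
      mck2 := Cfsg.Agent.Lib.Helper81.RMMCK2.main
      nsyla := Cfsg.Agent.Lib.Helper81.RMNSYLA.main
      nsylb := Cfsg.Agent.Lib.Helper1.RMNSYLB.main }
  exact ⟨Cfsg.Agent.Lib.Helper81.RMMain.count hp (Nat.card G) G rfl P,
    Cfsg.Agent.Lib.Helper81.RMMain.part2 hp G P⟩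

end Cfsg.Agent.S4581
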