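import Cfsg.Statements.S4638
import Cfsg.Agent.Lib.Helper77.BPKlein7
import Cfsg.Agent.Lib.Helper77.BPKlein8

set_option autoImplicit false
open Cfsg

namespace Cfsg.Agent.S4638

open Cfsg.Agent.Lib.Helper77.LocalRing Cfsg.Agent.Lib.Helper77.BPNormal
  Cfsg.Agent.Lib.Helper77.BPKlein4 Cfsg.Agent.Lib.Helper77.BPKlein7
  Cfsg.Agent.Lib.Helper77.BPKlein8 Cfsg.Agent.Lib.Helper16.ZR
  Cfsg.Agent.Lib.CT.Wedderburn

/-- Let B be a block of the finite group G relative to a maximal ideal M of the algebraic integers containing 2, with a Klein four defect group P, and let c be its Brauer correspondent: the block of N_G(P) with defect group P that induces B. Then there is a perfect isometry from c onto B. -/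
theorem result {G : Type*} [Group G] [Finite G] (M : Ideal Cfsg.AlgInt) (hM : Cfsg.IsPModular 2 M) (B : Set (Cfsg.IrrCharacter G)) (hB : Cfsg.IsPBlock M B) (P : Subgroup G) (hPD : Cfsg.IsDefectGroup 2 M B P) (hV : IsKleinFour P) (c : Set (Cfsg.IrrCharacter (Subgroup.normalizer (P : Set G)))) (hcD : Cfsg.IsDefectGroup 2 M c (P.subgroupOf (Subgroup.normalizer (P : Set G)))) (hc : Cfsg.IsInducedBlock M (Subgroup.normalizer (P : Set G)) c B) : ∃ (I : Cfsg.IrrCharacter (Subgroup.normalizer (P : Set G)) → Cfsg.IrrCharacter G) (ε : Cfsg.IrrCharacter (Subgroup.normalizer (P : Set G)) → ℤ), Cfsg.IsPerfectIsometry 2 M c B I ε := by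
  classical
  haveI : Fact (Nat.Prime 2) := ⟨Nat.prime_two⟩
  have hMp := isPrime_of_isPModular hM
  obtain ⟨c₀, c₁, hmaxG, hmaxN, hiff⟩ :=
    root_transfer hM hPD (Subgroup.normalizer (P : Set G)) le_rfl c hcD hc
  have hVN : IsKleinFour (P.subgroupOf (Subgroup.normalizer (P : Set G))) :=
    isKleinFour_subgroupOf Subgroup.le_normalizer hV
  obtain ⟨nil, hnil⟩ : ∃ nil : Prop, nil ↔ ∀ t ∈ Subgroup.normalizer (P : Set G),
      StabilizesBlock (Subgroup.centralizer (P : Set G)) c₀ t →
        t ∈ Subgroup.centralizer (P : Set G) := ⟨_, Iff.rfl⟩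
  obtain ⟨lam, hlam⟩ : ∃ lam : ℂ, (nil ∧ lam = 2) ∨ (¬ nil ∧ lam = 1) := by
    by_cases h : nil
    · exact ⟨2, Or.inl ⟨h, rfl⟩⟩
    · exact ⟨1, Or.inr ⟨h, rfl⟩⟩
  have hlam0 : lam ≠ 0 := by
    rcases hlam with ⟨-, rfl⟩ | ⟨-, rfl⟩ <;> norm_num
  obtain ⟨hB4, D, hDpm, hDx⟩ := klein_structure hM hmaxG hV nil hnil lam hlam
  obtain ⟨hc4, D', hD'pm, hD'y⟩ := klein_structure hM hmaxN hVN nil (hnil.trans hiff) lam hlam
  haveI := finite_irrCharacter G
  haveI := finite_irrCharacter (Subgroup.normalizer (P : Set G))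
  have hcfin : c.Finite := Set.toFinite c
  obtain ⟨e⟩ : Nonempty (c ≃ B) := Finite.card_eq.mp (hc4.trans hB4.symm)
  obtain ⟨χ₀, hχ₀⟩ := isPBlock_nonempty hMp hB
  obtain ⟨I, hI⟩ : ∃ I : IrrCharacter (Subgroup.normalizer (P : Set G)) → IrrCharacter G,
      ∀ η, I η = if h : η ∈ c then (e ⟨η, h⟩ : IrrCharacter G) else χ₀ := ⟨_, fun _ => rfl⟩
  have hIc : ∀ η (h : η ∈ c), I η = (e ⟨η, h⟩ : IrrCharacter G) := fun η h => by
    rw [hI, dif_pos h]
  have hbij : Set.BijOn I c B := by
    refine ⟨?_, ?_, ?_⟩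
    · intro η hη
      rw [hIc η hη]
      exact (e ⟨η, hη⟩).2
    · intro η hη η' hη' h
      rw [hIc η hη, hIc η' hη'] at h
      have h1 := e.injective (Subtype.ext h)
      exact congrArg Subtype.val h1
    · intro χ hχ
      refine ⟨(e.symm ⟨χ, hχ⟩ : IrrCharacter _), (e.symm ⟨χ, hχ⟩).2, ?_⟩
      rw [hIc _ (e.symm ⟨χ, hχ⟩).2]
      simp
  refine ⟨I, fun η => D (I η) * D' η, hbij, ?_, ?_⟩
  · intro η hη
    show D (I η) * D' η = 1 ∨ D (I η) * D' η = -1
    rcases hDpm (I η) (hbij.1 hη) with h | h <;> rcases hD'pm η hη with h' | h' <;>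
      rw [h, h'] <;> norm_num
  · intro x y
    obtain ⟨S, hS⟩ : ∃ S : Finset (IrrCharacter (Subgroup.normalizer (P : Set G))),
        S = hcfin.toFinset := ⟨_, rfl⟩
    have hSmem : ∀ η, η ∈ S → η ∈ c := fun η h => by
      rw [hS] at h
      exact (Set.Finite.mem_toFinset hcfin).mp h
    have hScard : S.card = 4 := by
      rw [hS, ← hc4, Nat.card_coe_set_eq, Set.ncard_eq_toFinset_card c hcfin]
    obtain ⟨a, ha⟩ : ∃ a : IrrCharacter (Subgroup.normalizer (P : Set G)) → ℂ,
        ∀ η, a η = (D (I η) : ℂ) * (I η : G → ℂ) x := ⟨_, fun _ => rfl⟩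
    obtain ⟨b, hb⟩ : ∃ b : IrrCharacter (Subgroup.normalizer (P : Set G)) → ℂ,
        ∀ η, b η = (D' η : ℂ) * (η : Subgroup.normalizer (P : Set G) → ℂ) y :=
      ⟨_, fun _ => rfl⟩
    have hker : signedBijectionKernel c I (fun η => D (I η) * D' η) x y =
        ∑ η ∈ S, a η * b η := by
      unfold signedBijectionKernel
      rw [finsum_mem_eq_finite_toFinset_sum _ hcfin, hS]
      apply Finset.sum_congr rfl
      intro η _
      rw [ha, hb]
      push_cast
      ring
    obtain ⟨hx1, hx2, hx3, hx4⟩ := hDx x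
    obtain ⟨hy1, hy2, hy3, hy4⟩ := hD'y y
    have hsuma : (nil ↔ 2 ∣ orderOf x) → ∑ η ∈ S, a η = 0 := by
      intro h
      have h0 : ∑ᶠ η ∈ c, (D (I η) : ℂ) * (I η : G → ℂ) x =
          ∑ᶠ χ ∈ B, (D χ : ℂ) * (χ : G → ℂ) x :=
        finsum_mem_eq_of_bijOn I hbij (fun η _ => rfl)
      calc ∑ η ∈ S, a η = ∑ η ∈ hcfin.toFinset, (D (I η) : ℂ) * (I η : G → ℂ) x := by
            rw [hS]
            exact Finset.sum_congr rfl (fun η _ => ha η)
        _ = ∑ᶠ η ∈ c, (D (I η) : ℂ) * (I η : G → ℂ) x :=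
            (finsum_mem_eq_finite_toFinset_sum _ hcfin).symm
        _ = ∑ᶠ χ ∈ B, (D χ : ℂ) * (χ : G → ℂ) x := h0
        _ = 0 := hx3 h
    have hsumb : (nil ↔ 2 ∣ orderOf y) → ∑ η ∈ S, b η = 0 := by
      intro h
      calc ∑ η ∈ S, b η = ∑ η ∈ hcfin.toFinset,
            (D' η : ℂ) * (η : Subgroup.normalizer (P : Set G) → ℂ) y := by
            rw [hS]
            exact Finset.sum_congr rfl (fun η _ => hb η)
        _ = ∑ᶠ η ∈ c, (D' η : ℂ) * (η : Subgroup.normalizer (P : Set G) → ℂ) y :=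
            (finsum_mem_eq_finite_toFinset_sum _ hcfin).symm
        _ = 0 := hy3 h
    have hinta : ∀ η, MemLocalRing M (a η) := by
      intro η
      rw [ha]
      exact memLocalRing_mul hMp (memLocalRing_intCast hMp _)
        (memLocalRing_of_isIntegral hMp
          (Cfsg.Agent.Lib.Helper80.Integrality.isIntegral_irrCharacter (I η) x))
    have hintb : ∀ η, MemLocalRing M (b η) := by
      intro η
      rw [hb]
      exact memLocalRing_mul hMp (memLocalRing_intCast hMp _)
        (memLocalRing_of_isIntegral hMp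
          (Cfsg.Agent.Lib.Helper80.Integrality.isIntegral_irrCharacter η y))
    have hIB : ∀ η ∈ S, I η ∈ B := fun η hη => hbij.1 (hSmem η hη)
    have k1 := kernel_lemma hMp S hScard a b
      (Nat.card (Subgroup.centralizer ({x} : Set G)) : ℂ)
      (nil ↔ 2 ∣ orderOf x) (nil ↔ 2 ∣ orderOf y)
      (fun h η hη η' hη' => by
        rw [ha, ha]
        exact hx2 h (I η) (hIB η hη) (I η') (hIB η' hη'))
      (fun h η hη η' hη' => by
        rw [hb, hb]
        exact hy2 h η (hSmem η hη) η' (hSmem η' hη'))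
      hsuma hsumb
      (fun hsx hsy η hη η' hη' => by
        have h1 := (hx4 hsx (I η) (hIB η hη) (I η') (hIB η' hη')).2
        have h2 := (hy4 hsy η (hSmem η hη) η' (hSmem η' hη')).1
        have h3 := memLocalRing_mul hMp h1 h2
        rw [← ha, ← ha] at h3
        rw [← hb, ← hb] at h3
        have h4 : (a η - a η') * (b η - b η') /
            (Nat.card (Subgroup.centralizer ({x} : Set G)) : ℂ) =
            lam * (a η - a η') / (Nat.card (Subgroup.centralizer ({x} : Set G)) : ℂ) *
              ((b η - b η') / lam) := by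
          field_simp
        rw [h4]
        exact h3)
      (fun η hη => by
        rw [ha]
        exact hx1 (I η) (hIB η hη))
      (fun η _ => hintb η)
    have k2 := kernel_lemma hMp S hScard b a
      (Nat.card (Subgroup.centralizer ({y} : Set (Subgroup.normalizer (P : Set G)))) : ℂ)
      (nil ↔ 2 ∣ orderOf y) (nil ↔ 2 ∣ orderOf x)
      (fun h η hη η' hη' => by
        rw [hb, hb]
        exact hy2 h η (hSmem η hη) η' (hSmem η' hη'))
      (fun h η hη η' hη' => by
        rw [ha, ha]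
        exact hx2 h (I η) (hIB η hη) (I η') (hIB η' hη'))
      hsumb hsuma
      (fun hsy hsx η hη η' hη' => by
        have h1 := (hy4 hsy η (hSmem η hη) η' (hSmem η' hη')).2
        have h2 := (hx4 hsx (I η) (hIB η hη) (I η') (hIB η' hη')).1
        have h3 := memLocalRing_mul hMp h1 h2
        rw [← ha, ← ha] at h3
        rw [← hb, ← hb] at h3
        have h4 : (b η - b η') * (a η - a η') /
            (Nat.card (Subgroup.centralizer
              ({y} : Set (Subgroup.normalizer (P : Set G)))) : ℂ) =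
            lam * (b η - b η') / (Nat.card (Subgroup.centralizer
              ({y} : Set (Subgroup.normalizer (P : Set G)))) : ℂ) *
              ((a η - a η') / lam) := by
          field_simp
        rw [h4]
        exact h3)
      (fun η hη => by
        rw [hb]
        exact hy1 η (hSmem η hη))
      (fun η _ => hinta η)
    refine ⟨?_, ?_, ?_⟩
    · rw [hker]
      exact k1.1
    · rw [hker, Finset.sum_congr rfl (fun η _ => mul_comm (a η) (b η))]
      exact k2.1
    · rcases k1.2 with h | h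
      · left
        unfold IsPRegular
        by_cases hn : nil <;> by_cases hsx : 2 ∣ orderOf x <;> by_cases hsy : 2 ∣ orderOf y <;>
          simp_all
      · right
        rw [hker]
        exact h

end Cfsg.Agent.S4638
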