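import Cfsg.Statements.S4640
import Cfsg.Agent.Lib.Helper16.PIndex

set_option autoImplicit false
open Cfsg

namespace Cfsg.Agent.S4640

/-- Let N be a normal subgroup of the finite group G of index a power of the prime p, M a maximal ideal of the algebraic integers containing p, b a block of N stabilized by every element of G, and B a block of G covering b (some member of B has a member of b as a constituent of its restriction to N). Suppose that B has a commutative defect group P. Then G = NP and P ∩ N is a defect group of b; every member of B restricts to a member of b; every member of b is the restriction of exactly [G : N] members of B; B contains exactly [G : N] times as many irreducible characters as b; and B and b have the same p-regular rank. -/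
theorem result {G : Type*} [Group G] [Fintype G] (p : ℕ) [Fact p.Prime] (M : Ideal Cfsg.AlgInt) (hM : Cfsg.IsPModular p M) (N : Subgroup G) [N.Normal] [Fintype N] (hNi : ∃ k : ℕ, N.index = p ^ k) (b : Set (Cfsg.IrrCharacter N)) (hb : Cfsg.IsPBlock M b) (hstab : ∀ g : G, Cfsg.StabilizesBlock N b g) (B : Set (Cfsg.IrrCharacter G)) (hB : Cfsg.IsPBlock M B) (hcov : ∃ χ ∈ B, ∃ θ ∈ b, Cfsg.classInner (fun n : N => (χ : G → ℂ) n) (θ : N → ℂ) ≠ 0) (P : Subgroup G) (hPD : Cfsg.IsDefectGroup p M B P) (hPab : ∀ x ∈ P, ∀ y ∈ P, x * y = y * x) : N ⊔ P = ⊤ ∧ Cfsg.IsDefectGroup p M b ((P ⊓ N).subgroupOf N) ∧ (∀ χ ∈ B, ∃ θ ∈ b, ∀ n : N, (χ : G → ℂ) n = (θ : N → ℂ) n) ∧ (∀ θ ∈ b, Nat.card {χ : Cfsg.IrrCharacter G // χ ∈ B ∧ ∀ n : N, (χ : G → ℂ) n = (θ : N → ℂ) n} = N.index) ∧ Nat.card B = N.index * Nat.card b ∧ Cfsg.blockRank p B = Cfsg.blockRank p b := by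
  classical
  have hNn : N.Normal := inferInstance
  have hMp := Cfsg.Agent.Lib.Helper77.LocalRing.isPrime_of_isPModular hM
  obtain ⟨k, hk⟩ := hNi
  have hstG := Cfsg.Agent.Lib.Helper16.Fong2.gstable_of_stabilizes N hNn b hstab
  obtain ⟨B₀, hB₀, hidem, -, huniq⟩ :=
    Cfsg.Agent.Lib.Helper16.Fong2.exists_block_of_pow_index p hM N hk b hb hstG
  have hBB : B = B₀ := huniq B hB hcov
  subst hBB
  have h12 := Cfsg.Agent.Lib.Helper16.Fong2.defect_of_pow_index p hM N hk b hb hstG B hidem P hPD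
  have hirr : ∀ χ ∈ B, Cfsg.IsIrrCharacter N (fun n : N => (χ : G → ℂ) n) := fun χ hχ =>
    Cfsg.Agent.Lib.Helper16.PIndex.restrict_irr p hM N b B hB hidem P hPD hPab h12.1 χ hχ
  have hres : ∀ χ ∈ B, ∃ θ ∈ b, ∀ n : N, (χ : G → ℂ) n = (θ : N → ℂ) n := fun χ hχ =>
    ⟨⟨fun n : N => (χ : G → ℂ) n, hirr χ hχ⟩,
      Cfsg.Agent.Lib.Helper16.PIndex.restrict_mem N b B hidem χ hχ (hirr χ hχ), fun n => rfl⟩
  have hcovB : ∀ χ : Cfsg.IrrCharacter G, ∀ θ ∈ b,
      Cfsg.classInner (fun n : N => (χ : G → ℂ) n) (θ : N → ℂ) ≠ 0 → χ ∈ B := by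
    intro χ θ hθ hne
    have h := huniq (Cfsg.blockOf M (χ : G → ℂ)) (Cfsg.Agent.Lib.Helper16.ZR.isPBlock_blockOf χ)
      ⟨χ, Cfsg.Agent.Lib.Helper16.ZR.mem_blockOf_self hMp χ, θ, hθ, hne⟩
    rw [← h]
    exact Cfsg.Agent.Lib.Helper16.ZR.mem_blockOf_self hMp χ
  have hfib : ∀ θ ∈ b, Nat.card {χ : Cfsg.IrrCharacter G //
      χ ∈ B ∧ ∀ n : N, (χ : G → ℂ) n = (θ : N → ℂ) n} = N.index := fun θ hθ =>
    Cfsg.Agent.Lib.Helper16.PIndex.card_fibre N b B hirr hcovB θ hθ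
  have hsurj : ∀ θ ∈ b, ∃ χ ∈ B, ∀ n : N, (χ : G → ℂ) n = (θ : N → ℂ) n := by
    intro θ hθ
    have hpos : 0 < Nat.card {χ : Cfsg.IrrCharacter G //
        χ ∈ B ∧ ∀ n : N, (χ : G → ℂ) n = (θ : N → ℂ) n} := by
      rw [hfib θ hθ, hk]
      exact pow_pos (Fact.out : p.Prime).pos k
    obtain ⟨χ⟩ := (Nat.card_pos_iff.mp hpos).1
    exact ⟨χ.1, χ.2.1, χ.2.2⟩
  exact ⟨h12.1, h12.2, hres, hfib,
    Cfsg.Agent.Lib.Helper16.PIndex.card_eq_index_mul N b B hres hfib,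
    Cfsg.Agent.Lib.Helper16.PIndex.blockRank_eq p N hk b B hres hsurj⟩

end Cfsg.Agent.S4640
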