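import Cfsg.Statements.S4645
import Cfsg.Agent.Lib.Helper77.BPCyc
import Cfsg.Agent.S4633
import Cfsg.Agent.S4650

set_option autoImplicit false
open Cfsg

namespace Cfsg.Agent.S4645

open Cfsg.Agent.Lib.Helper77.LocalRing Cfsg.Agent.Lib.Helper77.BPNormal
  Cfsg.Agent.Lib.Helper77.BPEquiv Cfsg.Agent.Lib.Helper77.BPEquiv2
  Cfsg.Agent.Lib.Helper77.BPConjMax Cfsg.Agent.Lib.Helper77.BPFix
  Cfsg.Agent.Lib.Helper77.BPSub Cfsg.Agent.Lib.Helper77.BPSubpair
  Cfsg.Agent.Lib.Helper77.BPUp Cfsg.Agent.Lib.Helper77.BPInd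
  Cfsg.Agent.Lib.Helper77.BPConj Cfsg.Agent.Lib.Helper77.BPStab
  Cfsg.Agent.Lib.Helper77.BPCyc
  Cfsg.Agent.Lib.Helper33.Conj

/-- Let B be a block of the finite group G relative to a maximal ideal M of the algebraic integers containing the prime p, with a nontrivial cyclic defect group P; let c be a block of C_G(P) inducing B and T the stabilizer of c in N_G(P). Let Q be a nontrivial subgroup of P (so C_G(P) ≤ C_G(Q)), f the block of C_G(Q) induced by c inside C_G(Q), and T' the stabilizer of f in N_G(Q). Then T' = T·C_G(Q), the index of C_G(Q) in T' equals the index of C_G(P) in T, f has p-regular rank 1, and f is a nilpotent block of C_G(Q). -/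
theorem result {G : Type*} [Group G] [Finite G] (p : ℕ) [Fact p.Prime] (M : Ideal Cfsg.AlgInt) (hM : Cfsg.IsPModular p M) (B : Set (Cfsg.IrrCharacter G)) (hB : Cfsg.IsPBlock M B) (P : Subgroup G) (hPD : Cfsg.IsDefectGroup p M B P) (hP1 : P ≠ ⊥) (hcyc : IsCyclic P) (c : Set (Cfsg.IrrCharacter (Subgroup.centralizer (P : Set G)))) (hc : Cfsg.IsInducedBlock M (Subgroup.centralizer (P : Set G)) c B) (T : Subgroup G) (hT : ∀ g : G, g ∈ T ↔ (g ∈ Subgroup.normalizer (P : Set G) ∧ Cfsg.StabilizesBlock (Subgroup.centralizer (P : Set G)) c g)) (Q : Subgroup G) (hQP : Q ≤ P) (hQ1 : Q ≠ ⊥) (f : Set (Cfsg.IrrCharacter (Subgroup.centralizer (Q : Set G)))) (hf : Cfsg.IsInducedBlockIn M (Subgroup.centralizer (Q : Set G)) (Subgroup.centralizer (P : Set G)) c f) (T' : Subgroup G) (hT' : ∀ g : G, g ∈ T' ↔ (g ∈ Subgroup.normalizer (Q : Set G) ∧ Cfsg.StabilizesBlock (Subgroup.centralizer (Q : Set G)) f g)) : T' = T ⊔ Subgroup.centralizer (Q : Set G) ∧ (Subgroup.centralizer (Q : Set G)).relIndex T' =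 (Subgroup.centralizer (P : Set G)).relIndex T ∧ Cfsg.blockRank p f = 1 ∧ Cfsg.IsNilpotentBlock p M f := by
  classical
  have hMp := isPrime_of_isPModular hM
  have hPp : IsPGroup p P := isPGroup_of_isDefectGroup hPD
  obtain ⟨⟨z, hzP⟩, hz⟩ := hcyc.exists_generator
  have hgen : ∀ x ∈ P, x ∈ Subgroup.zpowers z := by
    intro x hx
    obtain ⟨k, hk⟩ := Subgroup.mem_zpowers_iff.mp (hz ⟨x, hx⟩)
    refine Subgroup.mem_zpowers_iff.mpr ⟨k, ?_⟩
    have h1 := congrArg Subtype.val hk
    simpa using h1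
  have hPab : ∀ x ∈ P, ∀ x' ∈ P, x * x' = x' * x := by
    intro x hx x' hx'
    obtain ⟨k, rfl⟩ := Subgroup.mem_zpowers_iff.mp (hgen x hx)
    obtain ⟨l, rfl⟩ := Subgroup.mem_zpowers_iff.mp (hgen x' hx')
    rw [← zpow_add, ← zpow_add, add_comm]
  have hPC : P ≤ Subgroup.centralizer (P : Set G) := by
    intro u hu
    rw [Subgroup.mem_centralizer_iff]
    intro q hq
    exact hPab q hq u hu
  have hpair : IsBrauerPairOf p M B P c :=
    (isBrauerPairOf_iff_isInducedBlock hM P hPp c B).mpr hc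
  have hmax : IsMaximalBrauerPair p M B P c := isMaximal_of_isDefectGroup hM hpair hPD
  have hPe : IsBrauerPair p M P c := hpair.1
  have hPCQ : P ≤ Subgroup.centralizer (Q : Set G) := hPC.trans (Subgroup.centralizer_le hQP)
  have hCPQ : Subgroup.centralizer (P : Set G) ≤ Subgroup.centralizer (Q : Set G) :=
    Subgroup.centralizer_le hQP
  have hfb : IsPBlock M f := hf.2.1
  have hns : IsNormalSubpair p M Q f P c :=
    (isInducedBlockIn_iff_isNormalSubpair hM hQP hPCQ f hfb c hPe).mp hf
  have hle : SubpairLE p M Q f P c := Relation.ReflTransGen.single hns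
  have hCT : Subgroup.centralizer (P : Set G) ≤ T := fun g hg =>
    (hT g).mpr ⟨Subgroup.centralizer_le_normalizer _ hg, stabilizes_of_mem_centralizer P c hg⟩
  haveI hn : ((Subgroup.centralizer (P : Set G)).subgroupOf T).Normal := by
    constructor
    intro n hn g
    rw [Subgroup.mem_subgroupOf] at hn ⊢
    have hgN : (g : G) ∈ Subgroup.normalizer (P : Set G) := ((hT g).mp g.2).1
    have h1 := normalizer_le_normalizer_centralizer P hgN
    exact (Subgroup.mem_normalizer_iff.mp h1 n).mp hn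
  have h33 := Cfsg.Agent.S4633.result p M hM B hB P hPD hP1 hcyc c hc T hT
  have hfree := h33.2.2
  have hnilp : IsNilpotentBlock p M f :=
    (Cfsg.Agent.S4650.result p M hM B hB P hPD hPab hP1 c hc T hT).mp hfree Q hQP hQ1 f hf
  -- `T` normalizes `Q`
  have hTNQ : ∀ t ∈ T, t ∈ Subgroup.normalizer (Q : Set G) := by
    intro t ht
    have htN := ((hT t).mp ht).1
    have key : ∀ s ∈ Subgroup.normalizer (P : Set G), ∀ q ∈ Q, s * q * s⁻¹ ∈ Q := by
      intro s hs q hq
      obtain ⟨a, ha⟩ := Cfsg.Agent.S4633.exists_pow_of_normalizer hzP hgen hs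
      rw [ha q (hQP hq)]
      exact pow_mem hq a
    rw [Subgroup.mem_normalizer_iff]
    intro q
    constructor
    · exact key t htN q
    · intro hq
      have h1 := key t⁻¹ (inv_mem htN) _ hq
      have h2 : t⁻¹ * (t * q * t⁻¹) * t⁻¹⁻¹ = q := by group
      rwa [h2] at h1
  -- the stabilizer of `f`
  have hT'eq : T' = T ⊔ Subgroup.centralizer (Q : Set G) := by
    apply le_antisymm
    · intro g hg
      obtain ⟨hgN, hgs⟩ := (hT' g).mp hg
      obtain ⟨c', hc', y, hyN, hys, hxy⟩ := exists_mul_of_stab hM hmax hPab hfb hle g hgN hgs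
      rw [hxy]
      exact mul_mem ((le_sup_right : _ ≤ T ⊔ Subgroup.centralizer (Q : Set G)) hc')
        ((le_sup_left : T ≤ T ⊔ Subgroup.centralizer (Q : Set G)) ((hT y).mpr ⟨hyN, hys⟩))
    · apply sup_le
      · intro t ht
        have htN := hTNQ t ht
        refine (hT' t).mpr ⟨htN, ?_⟩
        have hfixP : cjp t ⟨P, c⟩ = (⟨P, c⟩ : BrauerPairIdx G) :=
          cjp_eq_self ((hT t).mp ht).1 ((hT t).mp ht).2
        have h1 := subpairLE_conj (M := M) t hle
        rw [hfixP, cjp_eq_conjB htN] at h1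
        have h2 := subpair_unique hM _ P rfl c Q _ f hPe h1 hle
        exact (stabilizesBlock_iff (Subgroup.centralizer (Q : Set G)) t
          (normalizer_le_normalizer_centralizer Q htN) f).mpr h2
      · intro g hg
        exact (hT' g).mpr ⟨Subgroup.centralizer_le_normalizer _ hg,
          stabilizes_of_mem_centralizer Q f hg⟩
  -- the index
  have hinf : Subgroup.centralizer (Q : Set G) ⊓ T = Subgroup.centralizer (P : Set G) := by
    apply le_antisymm
    · intro g hg
      obtain ⟨hgQ, hgT⟩ := Subgroup.mem_inf.mp hg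
      obtain ⟨⟨y, hyQ⟩, hy1⟩ := Subgroup.ne_bot_iff_exists_ne_one.mp hQ1
      refine hfree g hgT y (hQP hyQ) (fun h => hy1 (Subtype.ext h)) ?_
      rw [← Subgroup.mem_centralizer_iff.mp hgQ y hyQ, mul_inv_cancel_right]
    · exact le_inf hCPQ hCT
  have hTnorm : T ≤ Subgroup.normalizer
      ((Subgroup.centralizer (Q : Set G) : Subgroup G) : Set G) :=
    fun t ht => normalizer_le_normalizer_centralizer Q (hTNQ t ht)
  have hidx : (Subgroup.centralizer (Q : Set G)).relIndex
      (T ⊔ Subgroup.centralizer (Q : Set G)) = (Subgroup.centralizer (P : Set G)).relIndex T := by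
    rw [← hinf, Subgroup.inf_relIndex_right]
    haveI := Subgroup.normal_subgroupOf_of_le_normalizer hTnorm
    haveI := Subgroup.normal_subgroupOf_sup_of_le_normalizer hTnorm
    exact (Nat.card_congr (QuotientGroup.quotientInfEquivProdNormalizerQuotient T
      (Subgroup.centralizer (Q : Set G)) hTnorm).toEquiv).symm
  -- the rank
  obtain ⟨a, ha⟩ : ∃ a, a = down (Subgroup.centralizer (Q : Set G)) P hPCQ hCPQ c := ⟨_, rfl⟩
  have hup : up (Subgroup.centralizer (Q : Set G)) a = ⟨P, c⟩ := by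
    rw [ha]
    exact up_down _ P hPCQ hCPQ c
  have hapair : IsBrauerPairOf p M f a.1 a.2 := by
    rw [ha]
    exact (isBrauerPairOf_down_iff hQP hPCQ f hfb c hPe).mpr hns
  have ha1 : a.1 = P.subgroupOf (Subgroup.centralizer (Q : Set G)) := by
    rw [ha]
    rfl
  have hD : IsDefectGroup p M f a.1 := by
    rw [ha1]
    exact isDefectGroup_of_le_centralizer hM hmax hle hPCQ
  have hamax : IsMaximalBrauerPair p M f a.1 a.2 := isMaximal_of_isDefectGroup hM hapair hD
  have hC : Subgroup.centralizer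
      ((a.1.map (Subgroup.centralizer (Q : Set G)).subtype : Subgroup G) : Set G) ≤
      Subgroup.centralizer (Q : Set G) := by
    have h1 : a.1.map (Subgroup.centralizer (Q : Set G)).subtype = P := congrArg Sigma.fst hup
    rw [h1]
    exact hCPQ
  have hstab : ∀ t : Subgroup.centralizer (Q : Set G),
      (t ∈ Subgroup.normalizer (a.1 : Set (Subgroup.centralizer (Q : Set G))) ∧
        StabilizesBlock (Subgroup.centralizer (a.1 : Set (Subgroup.centralizer (Q : Set G))))
          a.2 t) ↔ (t : G) ∈ T := by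
    intro t
    exact (stab_up_iff _ a hC t).trans
      ((Cfsg.Agent.S4650.stab_congr hup (t : G)).trans (hT (t : G)).symm)
  have hacyc : IsCyclic a.1 := by
    rw [ha1]
    haveI := hcyc
    exact isCyclic_of_surjective (Subgroup.subgroupOfEquivOfLe hPCQ).symm.toMonoidHom
      (Subgroup.subgroupOfEquivOfLe hPCQ).symm.surjective
  have hrank : blockRank p f = 1 := by
    apply blockRank_eq_one_of_cyclic hM hamax hacyc
    intro x hxN hxs
    have hxT : (x : G) ∈ T := (hstab x).mp ⟨hxN, hxs⟩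
    have h2 : (x : G) ∈ Subgroup.centralizer (P : Set G) := by
      have h3 : (x : G) ∈ Subgroup.centralizer (Q : Set G) ⊓ T := Subgroup.mem_inf.mpr ⟨x.2, hxT⟩
      rwa [hinf] at h3
    rw [Subgroup.mem_centralizer_iff]
    intro y hy
    have hyP : (y : G) ∈ P := by
      rw [ha1] at hy
      exact Subgroup.mem_subgroupOf.mp hy
    apply Subtype.ext
    exact Subgroup.mem_centralizer_iff.mp h2 _ hyP
  refine ⟨hT'eq, ?_, hrank, hnilp⟩
  rw [hT'eq]
  exact hidx

end Cfsg.Agent.S4645
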