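import Cfsg.Statements.S4648
import Cfsg.Agent.Lib.Helper75.OneSimple
import Cfsg.Agent.Lib.Helper58.MatStruct
import Cfsg.Agent.Lib.Helper41.SymLocal
import Cfsg.Agent.Lib.Helper82.AgreeDefect
import Cfsg.Agent.Lib.Helper82.SmallNil
import Cfsg.Agent.Lib.Helper16.Defect

set_option autoImplicit false
open Cfsg

namespace Cfsg.Agent.S4648

/-- Let B be a block of the finite group G relative to a maximal ideal M of the algebraic integers containing the prime p, with a nontrivial defect group D. If B has p-regular rank 1 and at most four irreducible characters, then B is nilpotent, D has exactly as many elements as B has irreducible characters, and p is 2 or 3. -/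
theorem result {G : Type*} [Group G] [Finite G] (p : ℕ) [Fact p.Prime] (M : Ideal Cfsg.AlgInt) (hM : Cfsg.IsPModular p M) (B : Set (Cfsg.IrrCharacter G)) (hB : Cfsg.IsPBlock M B) (D : Subgroup G) (hD : Cfsg.IsDefectGroup p M B D) (hD1 : D ≠ ⊥) (hl : Cfsg.blockRank p B = 1) (hk : Nat.card B ≤ 4) : Cfsg.IsNilpotentBlock p M B ∧ Nat.card D = Nat.card B ∧ (p = 2 ∨ p = 3) := by
  classical
  have hpp : p.Prime := Fact.out
  obtain ⟨n, hn⟩ := Cfsg.Agent.Lib.Helper75.OneSimple.equal_degrees p hM B hB hl hk
    (fun F _ _ A _ _ _ lam hsym hnd n _ ψ hψ hnil c hcen =>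
      Cfsg.Agent.Lib.Helper58.MatStruct.matrix_structure_of
        (fun Λ _ _ _ lam' hs' hn' π' hnil' c' hc' =>
          Cfsg.Agent.Lib.Helper41.SymLocal.comm_of_center_le_four lam' hs' hn' π' hnil' c' hc')
        lam hsym hnd ψ hψ hnil c hcen)
  have hagree := Cfsg.Agent.Lib.Helper75.OneSimple.agree_of_rank_one p B hl n hn
  have hDB := Cfsg.Agent.Lib.Helper82.AgreeDefect.card_defect_of_agree p M hM B hB D hD hagree
  have hnil := Cfsg.Agent.Lib.Helper82.SmallNil.nil_of_small p M hM B hB D hD hl hDB.symm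
    (by omega)
  refine ⟨hnil, hDB, ?_⟩
  have hcard := Cfsg.Agent.Lib.Helper16.Defect.card_defectGroup p hM B hB D hD
  have hd : blockDefect p B ≠ 0 := by
    intro h0
    rw [h0, pow_zero] at hcard
    exact hD1 (Subgroup.card_eq_one.1 hcard)
  have hdvd : p ∣ Nat.card D := by
    rw [hcard]
    exact dvd_pow_self p hd
  have hle : p ≤ 4 := by
    have h1 := Nat.le_of_dvd Nat.card_pos hdvd
    omega
  have h2 := hpp.two_le
  have h4 : p ≠ 4 := by
    intro h
    rw [h] at hpp
    norm_num at hpp
  omega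

end Cfsg.Agent.S4648
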