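import Cfsg.Statements.S4673
import Cfsg.Agent.Lib.CT.KnFR

set_option autoImplicit false
open Cfsg

namespace Cfsg.Agent.S4673

/-- Fix a prime p and a maximal ideal M of the algebraic integers containing p. Let N ≤ L be normal subgroups of the finite group G with L/N a p-group, let B be a p-block of G covering the p-block c of N (some member of B has a constituent in c on restriction to N), and suppose that N contains a defect group of B. Then the stabilizer T of c in G satisfies T ∩ L = N. -/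
theorem result {G : Type*} [Group G] [Fintype G] (p : ℕ) [Fact p.Prime] (M : Ideal Cfsg.AlgInt) (hM : Cfsg.IsPModular p M) (N L : Subgroup G) [N.Normal] [L.Normal] [Fintype N] (hNL : N ≤ L) (hLN : ∃ k : ℕ, (N.subgroupOf L).index = p ^ k) (B : Set (Cfsg.IrrCharacter G)) (hB : Cfsg.IsPBlock M B) (c : Set (Cfsg.IrrCharacter N)) (hc : Cfsg.IsPBlock M c) (hcov : (∃ χ ∈ B, ∃ θ ∈ c, Cfsg.classInner (fun n : N => (χ : G → ℂ) n) (θ : N → ℂ) ≠ 0)) (hD : ∃ D : Subgroup G, Cfsg.IsDefectGroup p M B D ∧ D ≤ N) (T : Subgroup G) (hT : ∀ x : G, x ∈ T ↔ Cfsg.StabilizesBlock N c x) : T ⊓ L = N := by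
  have hN : N.Normal := inferInstance
  apply le_antisymm
  · rintro x ⟨hxT, hxL⟩
    apply Cfsg.Agent.Lib.CT.KnFR.stab_inf_eq p hM N L hNL hLN B hB c hc hcov hD x hxL
    intro θ hθ
    have hinv : x⁻¹ ∈ T := T.inv_mem hxT
    obtain ⟨θ', hθ', hconj⟩ := ((hT x⁻¹).mp hinv).2 θ hθ
    have e : Cfsg.Agent.Lib.Helper16.Normal.cI N hN x θ = θ' := by
      apply Subtype.ext
      funext n
      rw [Cfsg.Agent.Lib.Helper16.Normal.cI_apply]
      exact (hconj ⟨x * n * x⁻¹, hN.conj_mem n n.2 x⟩ n (by simp [mul_assoc])).symm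
    rw [e]
    exact hθ'
  · intro n hn
    refine ⟨?_, hNL hn⟩
    show n ∈ T
    rw [hT]
    refine ⟨by rw [Subgroup.normalizer_eq_top]; trivial, fun χ hχ => ⟨χ, hχ, ?_⟩⟩
    intro k k' hk'
    have h1 : k' = ⟨n, hn⟩ * k * (⟨n, hn⟩ : N)⁻¹ := Subtype.ext (by rw [hk']; rfl)
    rw [h1]
    exact Cfsg.Agent.Lib.Helper16.ZR.irr_conj_inv χ ⟨n, hn⟩ k

end Cfsg.Agent.S4673
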