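-- Statement S4705 (row 4705): Feit's theorem on faithful irreducible characters of degree p - 2.
-- Assembled from the pieces of the team call (Lib/Helper80/S4705Stmt.lean).
import Cfsg.Statements.S4705
import Cfsg.Agent.Lib.Helper80.S4705Stmt
import Cfsg.Agent.Lib.Helper80.FTRES
import Cfsg.Agent.Lib.Helper80.FTR2
import Cfsg.Agent.Lib.Helper80.FTASM
import Cfsg.Agent.Lib.Helper80.FTASMC
import Cfsg.Agent.Lib.Helper52.FTALT
import Cfsg.Agent.Lib.Helper52.FTARITH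
import Cfsg.Agent.Lib.Helper52.FTCEXT
import Cfsg.Agent.Lib.Helper52.FTGLZ
import Cfsg.Agent.Lib.Helper52.FTLOCG
import Cfsg.Agent.Lib.Helper52.FTORDG
import Cfsg.Agent.Lib.Helper52.FTPERFNN
import Cfsg.Agent.Lib.Helper52.FTPERFPERF
import Cfsg.Agent.Lib.Helper52.FTPOWB
import Cfsg.Agent.Lib.Helper52.FTQUOT
import Cfsg.Agent.Lib.Helper52.FTSLCYC
import Cfsg.Agent.Lib.Helper79.FTPERFIRR
import Cfsg.Agent.Lib.Helper81.FTDET
import Cfsg.Agent.Lib.Helper81.FTE2
import Cfsg.Agent.Lib.Helper81.FTIDENT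
import Cfsg.Agent.Lib.Helper81.FTLAMIP
import Cfsg.Agent.Lib.Helper81.FTORDR
import Cfsg.Agent.Lib.Helper81.FTP1
import Cfsg.Agent.Lib.Helper81.FTP2
import Cfsg.Agent.Lib.Helper81.FTSING
import Cfsg.Agent.Lib.Helper81.FTSTAR

set_option autoImplicit false
open Cfsg

namespace Cfsg.Agent.S4705

universe u

/-- Stage C of the proof. -/
theorem stageC : Cfsg.Agent.Lib.Helper80.S4705Stmt.StageC.{u} :=
  Cfsg.Agent.Lib.Helper80.FTASMC.main
    Cfsg.Agent.Lib.Helper81.FTDET.main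
    Cfsg.Agent.Lib.Helper52.FTALT.main
    Cfsg.Agent.Lib.Helper52.FTPOWB.main
    Cfsg.Agent.Lib.Helper52.FTLOCG.main
    Cfsg.Agent.Lib.Helper81.FTSING.main
    Cfsg.Agent.Lib.Helper81.FTLAMIP.main
    Cfsg.Agent.Lib.Helper81.FTSTAR.main
    Cfsg.Agent.Lib.Helper81.FTP2.main
    Cfsg.Agent.Lib.Helper81.FTP1.main
    Cfsg.Agent.Lib.Helper81.FTE2.main
    Cfsg.Agent.Lib.Helper81.FTORDR.main
    Cfsg.Agent.Lib.Helper52.FTARITH.main
    Cfsg.Agent.Lib.Helper52.FTORDG.main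
    Cfsg.Agent.Lib.Helper52.FTQUOT.main
    Cfsg.Agent.Lib.Helper81.FTIDENT.main
    Cfsg.Agent.Lib.Helper52.FTSLCYC.main
    Cfsg.Agent.Lib.Helper52.FTCEXT.main

/-- The statement, in the form of the call. -/
theorem goal : Cfsg.Agent.Lib.Helper80.S4705Stmt.Goal.{u} :=
  Cfsg.Agent.Lib.Helper80.FTASM.main
    Cfsg.Agent.Lib.Helper80.FTRES.main
    Cfsg.Agent.Lib.Helper80.FTR2.main
    Cfsg.Agent.Lib.Helper52.FTLOCG.main
    Cfsg.Agent.Lib.Helper79.FTPERFIRR.main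
    Cfsg.Agent.Lib.Helper52.FTPERFNN.main
    Cfsg.Agent.Lib.Helper52.FTPERFPERF.main
    stageC
    Cfsg.Agent.Lib.Helper52.FTGLZ.main

/-- Let G be a finite group with centre Z and p > 5 a prime such that a Sylow p-subgroup of G has order p and is not normal. If G has a faithful irreducible character of degree p − 2, then p = 2^a + 1 for some a and G is isomorphic to the direct product of SL(2, 2^a) with Z. -/
theorem result {G : Type*} [Group G] [Finite G] (p : ℕ) [Fact p.Prime] (hp : 5 < p) (P : Sylow p G) (hP : Nat.card P = p) (hnn : ¬ (P : Subgroup G).Normal) (ζ : G → ℂ) (hζ : Cfsg.IsIrrCharacter G ζ) (hfaith : ∀ g : G, ζ g = ζ 1 → g = 1) (hdeg : Cfsg.charDegree ζ = p - 2) : ∃ (a : ℕ) (F : Type) (_ : Field F) (_ : Fintype F), p = 2 ^ a + 1 ∧ Fintype.card F = 2 ^ a ∧ Nonempty (G ≃* Matrix.SpecialLinearGroup (Fin 2) F × Subgroup.center G) :=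
  goal G p hp P hP hnn ζ hζ hfaith hdeg

end Cfsg.Agent.S4705
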