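import Cfsg.Statements.S4715
import Cfsg.Agent.Lib.CT.MajSum
import Cfsg.Agent.Lib.CT.MajBridge
import Cfsg.Agent.Lib.Helper93.MajCount

set_option autoImplicit false
open Cfsg

namespace Cfsg.Agent.S4715

/-- Let p be a prime, M a maximal ideal of the algebraic integers containing p, B a p-block of the finite group G with defect group D of order p^d, H = D·C_G(D), b a block of H inducing B, T the stabilizer of b in N_G(D) and e = [T : H] the inertial index of B; let n be the integer with p^n ≤ e < p^(n+1) and p^c the order of the centre of D. Then every irreducible character in B has height h with h + c ≤ n + d. -/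
theorem result {G : Type*} [Group G] [Finite G] (p : ℕ) [Fact p.Prime] (M : Ideal Cfsg.AlgInt) (hM : Cfsg.IsPModular p M) (B : Set (Cfsg.IrrCharacter G)) (hB : Cfsg.IsPBlock M B) (D : Subgroup G) (hBD : Cfsg.IsDefectGroup p M B D) (d : ℕ) (hDd : Nat.card D = p ^ d) (H : Subgroup G) (hH : H = D ⊔ Subgroup.centralizer (D : Set G)) (b : Set (Cfsg.IrrCharacter H)) (hind : Cfsg.IsInducedBlock M H b B) (T : Subgroup G) (hT : ∀ g : G, g ∈ T ↔ (g ∈ Subgroup.normalizer (D : Set G) ∧ ∀ θ ∈ b, ∀ θ' : Cfsg.IrrCharacter H, (∀ h h' : H, (h' : G) = g * h * g⁻¹ → (θ' : H → ℂ) h' = (θ : H → ℂ) h) → θ' ∈ b)) (e : ℕ) (he : H.relIndex T = e) (n : ℕ) (hn : p ^ n ≤ e ∧ e < p ^ (n + 1)) (c : ℕ) (hc : Nat.card (Subgroup.center D) = p ^ c) : ∀ χ ∈ B, Cfsg.blockHeight p B (χ : G → ℂ) + c ≤ n + d := by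
  classical
  have hpp : p.Prime := Fact.out
  subst hH
  obtain ⟨e₀, hmax, hext⟩ :=
    Cfsg.Agent.Lib.CT.MajBridge.exists_maximal_pair_of_block p hM B hB D hBD b hind
  have hTeq := Cfsg.Agent.Lib.CT.MajBridge.stab_eq D e₀ b hext T hT
  subst hTeq
  obtain ⟨X, hX, hXrep⟩ := Cfsg.Agent.Lib.Helper3.PowReps.exists_reps (G := G) p
  intro χ hχ
  have h1 := Cfsg.Agent.Lib.CT.MajSum.height_sum_le p M hM B χ hχ X hX hXrep
  have h2 := Cfsg.Agent.Lib.Helper93.MajCount.card_center_le hM hmax X hX hXrep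
  have hdB : Cfsg.blockDefect p B = d := by
    have h3 := Cfsg.Agent.Lib.Helper16.Defect.card_defectGroup p hM B hB D hBD
    rw [hDd] at h3
    exact (Nat.pow_right_injective hpp.two_le h3).symm
  rw [hdB] at h1 h2
  rw [he, hc] at h2
  have h3 : p ^ Cfsg.blockHeight p B (χ : G → ℂ) * p ^ c ≤ e * p ^ d :=
    calc p ^ Cfsg.blockHeight p B (χ : G → ℂ) * p ^ c
        ≤ p ^ Cfsg.blockHeight p B (χ : G → ℂ) * (e * ∑ x ∈ X,
          Set.ncard {β : Set (Cfsg.IrrCharacter (Subgroup.centralizer ({x} : Set G))) |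
            Cfsg.IsInducedBlock M (Subgroup.centralizer ({x} : Set G)) β B ∧
              Cfsg.blockDefect p β = d}) := Nat.mul_le_mul_left _ h2
      _ = e * (p ^ Cfsg.blockHeight p B (χ : G → ℂ) * ∑ x ∈ X,
          Set.ncard {β : Set (Cfsg.IrrCharacter (Subgroup.centralizer ({x} : Set G))) |
            Cfsg.IsInducedBlock M (Subgroup.centralizer ({x} : Set G)) β B ∧
              Cfsg.blockDefect p β = d}) := by ring
      _ ≤ e * p ^ d := Nat.mul_le_mul_left _ h1
  have h4 : p ^ (Cfsg.blockHeight p B (χ : G → ℂ) + c) < p ^ (n + 1 + d) :=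
    calc p ^ (Cfsg.blockHeight p B (χ : G → ℂ) + c)
        = p ^ Cfsg.blockHeight p B (χ : G → ℂ) * p ^ c := pow_add _ _ _
      _ ≤ e * p ^ d := h3
      _ < p ^ (n + 1) * p ^ d := Nat.mul_lt_mul_of_pos_right hn.2 (pow_pos hpp.pos d)
      _ = p ^ (n + 1 + d) := (pow_add _ _ _).symm
  have h5 := (Nat.pow_lt_pow_iff_right hpp.one_lt).mp h4
  omega

end Cfsg.Agent.S4715
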