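import Cfsg.Statements.S4748
import Cfsg.Agent.Lib.Helper74.TIChar
import Cfsg.Agent.Lib.Helper74.DualHH
import Cfsg.Agent.Lib.CT.Wedderburn

set_option autoImplicit false
open scoped Pointwise
open Cfsg

namespace Cfsg.Agent.S4748

open Cfsg.Agent.Lib.Helper76.PSolv

/-- Let G be a finite p-solvable group whose Sylow p-subgroup P meets each conjugate g P g⁻¹ with g outside N_G(P) trivially, and let χ be a faithful character of G (χ g = χ 1 only for g = 1) whose degree d satisfies d² ≤ |P|. Then P is normal in G. -/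
theorem result {G : Type*} [Group G] [Finite G] (p : ℕ) [Fact p.Prime] (hsolv : Cfsg.IsPSolvable p G) (P : Sylow p G) (hTI : ∀ g : G, g ∉ Subgroup.normalizer ((P : Subgroup G) : Set G) → (P : Subgroup G) ⊓ (MulAut.conj g • (P : Subgroup G)) = ⊥) (χ : G → ℂ) (hχ : Cfsg.IsCharacter G χ) (hfaith : ∀ g : G, χ g = χ 1 → g = 1) (hdeg : Cfsg.charDegree χ ^ 2 ≤ Nat.card ↥(P : Subgroup G)) : (P : Subgroup G).Normal := by
  classical
  have hp : p.Prime := Fact.out
  by_contra hnn
  obtain ⟨n, ρ, rfl⟩ := hχ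
  have hex : ∃ g : G, g ∉ Subgroup.normalizer ((P : Subgroup G) : Set G) := by
    by_contra h
    push Not at h
    apply hnn
    exact Subgroup.normalizer_eq_top_iff.mp (eq_top_iff.mpr fun g _ => h g)
  obtain ⟨g₀, hg₀⟩ := hex
  have hTI₀ := hTI g₀ hg₀
  have hcore : pCore p G = ⊥ := by
    rw [eq_bot_iff, ← hTI₀]
    have h1 : pCore p G ≤ P := pCore_le_sylow P
    refine le_inf h1 ?_
    intro x hx
    rw [Subgroup.mem_pointwise_smul_iff_inv_smul_mem]
    apply h1
    have hn : (pCore p G).Normal := Cfsg.Agent.Lib.Helper11.PConstr.pCore_normal'' p G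
    have e : (MulAut.conj g₀)⁻¹ • x = g₀⁻¹ * x * g₀⁻¹⁻¹ := by
      rw [← map_inv, MulAut.smul_def, MulAut.conj_apply]
    rw [e]
    exact hn.conj_mem x hx g₀⁻¹
  obtain ⟨K, hK⟩ : ∃ K : Subgroup G, K = pPrimeCore p G := ⟨_, rfl⟩
  have hKn : K.Normal := by
    rw [hK]
    exact (pPrimeCore_mem p).1
  have hKc : (Nat.card K).Coprime p := by
    rw [hK]
    exact pPrimeCore_coprime p
  have hCK : Subgroup.centralizer (K : Set G) ≤ K := by
    rw [hK]
    exact Cfsg.Agent.Lib.Helper74.DualHH.centralizer_pPrimeCore_le p hsolv hcore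
  have hKP : ∀ x, x ∈ K → x ∈ (P : Subgroup G) → x = 1 := by
    intro x hxK hxP
    have h1 : orderOf x ∣ Nat.card K := Subgroup.orderOf_dvd_natCard K hxK
    obtain ⟨k, hk⟩ := P.isPGroup' ⟨x, hxP⟩
    have h2 : orderOf x ∣ p ^ k := by
      apply orderOf_dvd_of_pow_eq_one
      simpa using congrArg Subtype.val hk
    have h3 : orderOf x ∣ Nat.gcd (Nat.card K) (p ^ k) := Nat.dvd_gcd h1 h2
    have h4 : Nat.gcd (Nat.card K) (p ^ k) = 1 := Nat.Coprime.pow_right k hKc
    rw [h4, Nat.dvd_one, orderOf_eq_one_iff] at h3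
    exact h3
  obtain ⟨L, hL⟩ : ∃ L : Subgroup G, L = K ⊔ (P : Subgroup G) := ⟨_, rfl⟩
  have hKL : K ≤ L := by
    rw [hL]
    exact le_sup_left
  have hPL : (P : Subgroup G) ≤ L := by
    rw [hL]
    exact le_sup_right
  have hLmem : ∀ l ∈ L, ∃ k ∈ K, ∃ y ∈ (P : Subgroup G), l = k * y := by
    intro l hl
    rw [hL] at hl
    have h1 : l ∈ (↑(K ⊔ (P : Subgroup G)) : Set G) := hl
    rw [Subgroup.normal_mul K (P : Subgroup G)] at h1
    obtain ⟨k, hk, y, hy, rfl⟩ := Set.mem_mul.mp h1
    exact ⟨k, hk, y, hy, rfl⟩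
  obtain ⟨PL, hPLdef⟩ : ∃ PL : Sylow p L, PL = P.subtype hPL := ⟨_, rfl⟩
  have hPLmem : ∀ x : L, x ∈ (PL : Subgroup L) ↔ (x : G) ∈ (P : Subgroup G) := by
    intro x
    rw [hPLdef, Sylow.coe_subtype, Subgroup.mem_subgroupOf]
  have hnormL : ∀ l : L, l ∈ Subgroup.normalizer ((PL : Subgroup L) : Set L) →
      ∀ x ∈ (P : Subgroup G), (l : G) * x * (l : G)⁻¹ ∈ (P : Subgroup G) := by
    intro l hl x hx
    have h1 := (Subgroup.mem_normalizer_iff.mp hl ⟨x, hPL hx⟩).mp ((hPLmem _).mpr hx)
    rw [hPLmem] at h1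
    simpa using h1
  have hTIL : ∀ l : L, l ∉ Subgroup.normalizer ((PL : Subgroup L) : Set L) →
      (PL : Subgroup L) ⊓ (MulAut.conj l • (PL : Subgroup L)) = ⊥ := by
    intro l hl
    have hlG : (l : G) ∉ Subgroup.normalizer ((P : Subgroup G) : Set G) := by
      intro hmem
      apply hl
      rw [Subgroup.mem_normalizer_iff] at hmem ⊢
      intro x
      rw [hPLmem, hPLmem]
      simpa using hmem (x : G)
    have h1 := hTI (l : G) hlG
    rw [eq_bot_iff]
    intro x hx
    obtain ⟨hx1, hx2⟩ := Subgroup.mem_inf.mp hx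
    have hx1' : (x : G) ∈ (P : Subgroup G) := (hPLmem x).mp hx1
    have hx2' : (x : G) ∈ MulAut.conj (l : G) • (P : Subgroup G) := by
      rw [Subgroup.mem_pointwise_smul_iff_inv_smul_mem] at hx2 ⊢
      rw [hPLmem] at hx2
      have e1 : (MulAut.conj (l : G))⁻¹ • (x : G) = (l : G)⁻¹ * (x : G) * (l : G) := by
        rw [← map_inv, MulAut.smul_def, MulAut.conj_apply, inv_inv]
      have e2 : (((MulAut.conj l)⁻¹ • x : L) : G) = (l : G)⁻¹ * (x : G) * (l : G) := by
        rw [← map_inv, MulAut.smul_def, MulAut.conj_apply, inv_inv]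
        simp
      rw [e1, ← e2]
      exact hx2
    have h2 : (x : G) ∈ (P : Subgroup G) ⊓ (MulAut.conj (l : G) • (P : Subgroup G)) :=
      Subgroup.mem_inf.mpr ⟨hx1', hx2'⟩
    rw [h1, Subgroup.mem_bot] at h2
    rw [Subgroup.mem_bot]
    exact Subtype.ext h2
  obtain ⟨ρL, hρL⟩ : ∃ ρL : Representation ℂ L (Fin n → ℂ), ∀ l : L, ρL l = ρ (l : G) :=
    ⟨ρ.comp L.subtype, fun _ => rfl⟩
  have hdegL : Module.finrank ℂ (Fin n → ℂ) ^ 2 ≤ Nat.card (PL : Subgroup L) := by
    have h1 : Nat.card (PL : Subgroup L) = Nat.card (P : Subgroup G) := by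
      rw [hPLdef, Sylow.coe_subtype]
      exact Nat.card_congr (Subgroup.subgroupOfEquivOfLe hPL).toEquiv
    rw [h1]
    have hn : charDegree ρ.character = n := by
      apply Cfsg.Agent.Lib.CT.Wedderburn.charDegree_eq_of_apply_one
      rw [Representation.char_one]
      simp
    rw [hn] at hdeg
    simpa using hdeg
  have hcenter : ∀ z ∈ (P : Subgroup G), (∀ y ∈ (P : Subgroup G), z * y = y * z) → z = 1 := by
    intro z hz hzc
    have hcomm : ∀ h ∈ Subgroup.normalizer ((PL : Subgroup L) : Set L),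
        ρL h ∘ₗ ρ z = ρ z ∘ₗ ρL h := by
      intro h hh
      obtain ⟨k, hk, y, hy, hky⟩ := hLmem (h : G) h.2
      have hkP : ∀ x ∈ (P : Subgroup G), k * x = x * k := by
        intro x hx
        have hkxk : k * x * k⁻¹ ∈ (P : Subgroup G) := by
          have e : k * x * k⁻¹ = (h : G) * (y⁻¹ * x * y) * (h : G)⁻¹ := by
            rw [hky]
            group
          rw [e]
          exact hnormL h hh _ ((P : Subgroup G).mul_mem
            ((P : Subgroup G).mul_mem ((P : Subgroup G).inv_mem hy) hx) hy)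
        have hc : k * x * k⁻¹ * x⁻¹ = 1 := by
          apply hKP
          · have e : k * x * k⁻¹ * x⁻¹ = k * (x * k⁻¹ * x⁻¹) := by group
            rw [e]
            exact K.mul_mem hk (hKn.conj_mem _ (K.inv_mem hk) x)
          · exact (P : Subgroup G).mul_mem hkxk ((P : Subgroup G).inv_mem hx)
        calc k * x = (k * x * k⁻¹ * x⁻¹) * (x * k) := by group
          _ = x * k := by rw [hc, one_mul]
      have hzh : (h : G) * z = z * (h : G) := by
        rw [hky]
        calc k * y * z = k * (y * z) := by group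
          _ = k * (z * y) := by rw [hzc y hy]
          _ = (k * z) * y := by group
          _ = (z * k) * y := by rw [hkP z hz]
          _ = z * (k * y) := by group
      rw [hρL, ← Module.End.mul_eq_comp, ← Module.End.mul_eq_comp, ← map_mul, ← map_mul, hzh]
    have hall := Cfsg.Agent.Lib.Helper74.TIChar.commute_of_TI p PL hTIL
      (Subgroup.normalizer ((PL : Subgroup L) : Set L)) le_rfl ρL hdegL (ρ z) hcomm
    have hzK : z ∈ Subgroup.centralizer (K : Set G) := by
      rw [Subgroup.mem_centralizer_iff]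
      intro k hk
      have h1 := hall ⟨k, hKL hk⟩
      rw [hρL] at h1
      have h1' : ρ k * ρ z = ρ z * ρ k := h1
      have h2 : ρ (k * z * k⁻¹ * z⁻¹) = 1 := by
        rw [map_mul, map_mul, map_mul, h1', mul_assoc (ρ z), ← map_mul ρ k k⁻¹, mul_inv_cancel,
          map_one, mul_one, ← map_mul, mul_inv_cancel, map_one]
      have h3 : ρ.character (k * z * k⁻¹ * z⁻¹) = ρ.character 1 := by
        unfold Representation.character
        rw [h2, show ρ 1 = 1 from map_one ρ]
      have h4 := hfaith _ h3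
      calc k * z = (k * z * k⁻¹ * z⁻¹) * (z * k) := by group
        _ = z * k := by rw [h4, one_mul]
    exact hKP z (hCK hzK) hz
  have hPne : Nontrivial (P : Subgroup G) := by
    by_contra h
    rw [not_nontrivial_iff_subsingleton] at h
    apply hnn
    have hbot : (P : Subgroup G) = ⊥ := Subgroup.eq_bot_of_subsingleton _
    rw [hbot]
    infer_instance
  have hcn : Nontrivial (Subgroup.center (P : Subgroup G)) :=
    IsPGroup.center_nontrivial P.isPGroup'
  obtain ⟨⟨z, hz⟩, hzne⟩ := exists_ne (1 : Subgroup.center (P : Subgroup G))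
  apply hzne
  apply Subtype.ext
  apply Subtype.ext
  apply hcenter (z : G) z.2
  intro y hy
  have h1 := Subgroup.mem_center_iff.mp hz ⟨y, hy⟩
  exact (congrArg Subtype.val h1).symm

end Cfsg.Agent.S4748
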