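import Cfsg.Statements.S4763
import Cfsg.Agent.Lib.Helper74.PCompl

set_option autoImplicit false
open Cfsg

namespace Cfsg.Agent.S4763

/-- Let p be a prime and G a finite group that is not nilpotent and has a normal p-complement (a normal subgroup of order prime to p and index a power of p). If G has exactly one irreducible complex character of degree divisible by p, then G has exactly one conjugacy class whose size is divisible by p. -/
theorem result {G : Type*} [Group G] [Finite G] (p : ℕ) [Fact p.Prime] (hnil : ¬ Group.IsNilpotent G) (N : Subgroup G) [N.Normal] (hN : (Nat.card N).Coprime p) (hidx : ∃ k : ℕ, N.index = p ^ k) (hone : Nat.card {χ : Cfsg.IrrCharacter G // p ∣ Cfsg.charDegree (χ : G → ℂ)} = 1) : Nat.card {C : ConjClasses G // p ∣ Nat.card C.carrier} = 1 := by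
  classical
  obtain ⟨k, hk⟩ := hidx
  have hp : p.Prime := Fact.out
  have hNn : N.Normal := inferInstance
  haveI := Cfsg.Agent.Lib.CT.Wedderburn.finite_irrCharacter G
  -- `N` is not trivial
  have hN1 : N ≠ ⊥ := by
    intro h
    apply hnil
    have hG : IsPGroup p G := by
      rw [IsPGroup.iff_card]
      refine ⟨k, ?_⟩
      rw [← hk, h, Subgroup.index_bot]
    exact hG.isNilpotent
  -- uniqueness of the character
  have hsub : Subsingleton {χ : Cfsg.IrrCharacter G // p ∣ Cfsg.charDegree (χ : G → ℂ)} :=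
    Finite.card_le_one_iff_subsingleton.1 hone.le
  have huniq : ∀ χ χ' : IrrCharacter G, p ∣ charDegree χ.1 → p ∣ charDegree χ'.1 → χ = χ' := by
    intro χ χ' h h'
    exact congrArg Subtype.val (hsub.elim ⟨χ, h⟩ ⟨χ', h'⟩)
  have hab := Cfsg.Agent.Lib.Helper74.PCompl.quot_comm p N hN1 k hk huniq
  -- a Sylow subgroup
  obtain ⟨P⟩ : Nonempty (Sylow p G) := inferInstance
  obtain ⟨m, hm⟩ := IsPGroup.iff_card.1 P.isPGroup'
  have hcop : (Nat.card N).Coprime (Nat.card (P : Subgroup G)) := by
    rw [hm]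
    exact Nat.Coprime.pow_right m hN
  have hdisj : N ⊓ (P : Subgroup G) = ⊥ := (Subgroup.disjoint_of_coprime_natCard hcop).eq_bot
  have hsup : N ⊔ (P : Subgroup G) = ⊤ := by
    rw [← Subgroup.index_eq_one]
    by_contra hne
    obtain ⟨q, hq, hqd⟩ := Nat.exists_prime_and_dvd hne
    have h1 : q ∣ p ^ k := by
      rw [← hk]
      exact hqd.trans (Subgroup.index_dvd_of_le le_sup_left)
    have h2 : q = p := (Nat.prime_dvd_prime_iff_eq hq hp).1 (hq.dvd_of_dvd_pow h1)
    rw [h2] at hqd
    exact P.not_dvd_index (hqd.trans (Subgroup.index_dvd_of_le le_sup_right))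
  -- `P` is abelian
  have hPcomm : ∀ a ∈ (P : Subgroup G), ∀ b ∈ (P : Subgroup G), a * b = b * a := by
    intro a ha b hb
    have h1 : a * b * a⁻¹ * b⁻¹ ∈ N := by
      rw [← QuotientGroup.eq_one_iff]
      have h2 := hab (a : G ⧸ N) (b : G ⧸ N)
      show ((a : G ⧸ N) * (b : G ⧸ N)) * (a : G ⧸ N)⁻¹ * (b : G ⧸ N)⁻¹ = 1
      rw [h2]
      group
    have h3 : a * b * a⁻¹ * b⁻¹ ∈ N ⊓ (P : Subgroup G) :=
      ⟨h1, Subgroup.mul_mem _ (Subgroup.mul_mem _ (Subgroup.mul_mem _ ha hb)
        (Subgroup.inv_mem _ ha)) (Subgroup.inv_mem _ hb)⟩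
    rw [hdisj, Subgroup.mem_bot] at h3
    calc a * b = (a * b * a⁻¹ * b⁻¹) * (b * a) := by group
      _ = b * a := by rw [h3, one_mul]
  have hsolv : Group.IsSolvable (P : Subgroup G) := by
    haveI : Group.IsNilpotent (P : Subgroup G) := P.isPGroup'.isNilpotent
    infer_instance
  -- the normalizer centralizes `P`
  have hNC : ∀ n ∈ Subgroup.normalizer ((P : Subgroup G) : Set G),
      n ∈ Subgroup.centralizer ((P : Subgroup G) : Set G) := by
    intro n hn
    have hn' : n ∈ N ⊔ (P : Subgroup G) := by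
      rw [hsup]
      trivial
    obtain ⟨c, hc, h, hh, rfl⟩ := Subgroup.mem_sup_of_normal_left.1 hn'
    have hcn : c ∈ Subgroup.normalizer ((P : Subgroup G) : Set G) := by
      have h1 : c = (c * h) * h⁻¹ := by group
      rw [h1]
      exact Subgroup.mul_mem _ hn (Subgroup.inv_mem _ (Subgroup.le_normalizer hh))
    rw [Subgroup.mem_centralizer_iff]
    intro u hu
    have h1 : c * u⁻¹ * c⁻¹ ∈ (P : Subgroup G) :=
      (Subgroup.mem_normalizer_iff.1 hcn u⁻¹).1 (Subgroup.inv_mem _ hu)
    have h2 : u * c * u⁻¹ * c⁻¹ ∈ N ⊓ (P : Subgroup G) := by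
      constructor
      · exact N.mul_mem (hNn.conj_mem c hc u) (N.inv_mem hc)
      · have h3 : u * c * u⁻¹ * c⁻¹ = u * (c * u⁻¹ * c⁻¹) := by group
        rw [h3]
        exact Subgroup.mul_mem _ hu h1
    rw [hdisj, Subgroup.mem_bot] at h2
    have h4 : u * c = c * u := by
      calc u * c = (u * c * u⁻¹ * c⁻¹) * (c * u) := by group
        _ = c * u := by rw [h2, one_mul]
    have h5 : u * h = h * u := hPcomm u hu h hh
    calc u * (c * h) = (u * c) * h := by group
      _ = c * (u * h) := by rw [h4]; group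
      _ = c * h * u := by rw [h5]; group
  -- `p` divides the order of `P`
  have hm0 : m ≠ 0 := by
    intro h0
    have hχ : Nonempty {χ : Cfsg.IrrCharacter G // p ∣ Cfsg.charDegree (χ : G → ℂ)} := by
      by_contra hemp
      rw [not_nonempty_iff] at hemp
      rw [Nat.card_of_isEmpty] at hone
      exact zero_ne_one hone
    obtain ⟨χ, hχ⟩ := hχ
    have h1 : p ∣ Nat.card G :=
      hχ.trans (Cfsg.Agent.Lib.Helper80.Integrality.charDegree_dvd_card χ)
    have h2 : (P : Subgroup G).index = Nat.card G := by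
      have h3 := Subgroup.card_mul_index (P : Subgroup G)
      rw [hm, h0, pow_zero, one_mul] at h3
      exact h3
    apply P.not_dvd_index
    rw [h2]
    exact h1
  have hiff : ∀ d : ℕ, d.Coprime (Nat.card (P : Subgroup G)) ↔ ¬ p ∣ d := by
    intro d
    rw [hm, Nat.coprime_pow_right_iff (Nat.pos_of_ne_zero hm0), Nat.coprime_comm,
      hp.coprime_iff_not_dvd]
  -- counting characters
  have hX := Cfsg.Agent.S4452.result N (P : Subgroup G) hsup hcop hsolv
  have hX1 : Nat.card {χ : Cfsg.IrrCharacter G // ¬ p ∣ Cfsg.charDegree (χ : G → ℂ)} =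
      Nat.card {χ : Cfsg.IrrCharacter G //
        (Cfsg.charDegree (χ : G → ℂ)).Coprime (Nat.card (P : Subgroup G))} := by
    apply Nat.card_congr
    apply Equiv.subtypeEquivRight
    intro χ
    exact (hiff _).symm
  have hX2 : Nat.card {η : Cfsg.IrrCharacter (Subgroup.normalizer ((P : Subgroup G) : Set G)) //
      (Cfsg.charDegree (η : Subgroup.normalizer ((P : Subgroup G) : Set G) → ℂ)).Coprime
        (Nat.card (P : Subgroup G))} =
      Nat.card (Cfsg.IrrCharacter (Subgroup.normalizer ((P : Subgroup G) : Set G))) := by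
    apply Nat.card_congr
    apply Equiv.subtypeUnivEquiv
    intro η
    exact (hiff _).2 (Cfsg.Agent.Lib.Helper74.PCompl.not_dvd_degree_normalizer p P hNC η)
  have hY := Cfsg.Agent.Lib.Helper74.PCompl.card_classes p P hNC
  have hkG := Cfsg.Agent.Lib.CT.Orth.card_irrCharacter (G := G)
  have hkM := Cfsg.Agent.Lib.CT.Orth.card_irrCharacter
    (G := Subgroup.normalizer ((P : Subgroup G) : Set G))
  have hsum1 : Nat.card (Cfsg.IrrCharacter G) =
      Nat.card {χ : Cfsg.IrrCharacter G // p ∣ Cfsg.charDegree (χ : G → ℂ)} +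
      Nat.card {χ : Cfsg.IrrCharacter G // ¬ p ∣ Cfsg.charDegree (χ : G → ℂ)} := by
    rw [← Nat.card_sum]
    exact Nat.card_congr (Equiv.sumCompl _).symm
  have hsum2 : Nat.card (ConjClasses G) =
      Nat.card {C : ConjClasses G // p ∣ Nat.card C.carrier} +
      Nat.card {C : ConjClasses G // ¬ p ∣ Nat.card C.carrier} := by
    rw [← Nat.card_sum]
    exact Nat.card_congr (Equiv.sumCompl _).symm
  omega

end Cfsg.Agent.S4763
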