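import Cfsg.Statements.S4768
import Cfsg.Agent.Lib.Helper81.DLenB

set_option autoImplicit false
set_option maxHeartbeats 1000000
open Cfsg

namespace Cfsg.Agent.S4768

open Cfsg.Agent.Lib.Helper81.Expand Cfsg.Agent.Lib.Helper81.DLenA Cfsg.Agent.Lib.Helper81.DLenB

universe u

/-- Inflation embeds the characters of `G ⧸ N` of degree divisible by `p` into those of `G`; if
the two counts agree, every such character of `G` has `N` in its kernel. -/
theorem count_quot (p : ℕ) {G : Type u} [Group G] [Finite G] (N : Subgroup G) [N.Normal] :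
    Nat.card {χ : IrrCharacter (G ⧸ N) // p ∣ charDegree (χ : G ⧸ N → ℂ)} ≤
        Nat.card {χ : IrrCharacter G // p ∣ charDegree (χ : G → ℂ)} ∧
      (Nat.card {χ : IrrCharacter (G ⧸ N) // p ∣ charDegree (χ : G ⧸ N → ℂ)} =
          Nat.card {χ : IrrCharacter G // p ∣ charDegree (χ : G → ℂ)} →
        ∀ χ : IrrCharacter G, p ∣ charDegree (χ : G → ℂ) → ∀ x ∈ N, χ.1 x = χ.1 1) := by
  have : Finite (IrrCharacter G) := finite_irr
  let f : {χ : IrrCharacter (G ⧸ N) // p ∣ charDegree (χ : G ⧸ N → ℂ)} →
      {χ : IrrCharacter G // p ∣ charDegree (χ : G → ℂ)} :=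
    fun χ => ⟨(Cfsg.Agent.Lib.CT.Kernel.irrQuotientEquiv N χ.1).1, χ.2⟩
  have hf : Function.Injective f := by
    intro a b hab
    apply Subtype.ext
    apply (Cfsg.Agent.Lib.CT.Kernel.irrQuotientEquiv N).injective
    apply Subtype.ext
    have h2 : (f a).1 = (f b).1 := congrArg Subtype.val hab
    exact h2
  refine ⟨Nat.card_le_card_of_injective f hf, fun heq χ hχ x hx => ?_⟩
  have hbij : Function.Bijective f := hf.bijective_of_nat_card_le heq.ge
  obtain ⟨a, ha⟩ := hbij.2 ⟨χ, hχ⟩
  have h1 : (Cfsg.Agent.Lib.CT.Kernel.irrQuotientEquiv N a.1).1 = χ := congrArg Subtype.val ha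
  rw [← h1]
  exact (Cfsg.Agent.Lib.CT.Kernel.irrQuotientEquiv N a.1).2 x hx

/-- The main induction: for every `p`-subgroup `P` of a `p`-solvable group, the derived series of
`P` terminates after at most `n + 1` steps, `n` the number of irreducible characters of degree
divisible by `p`. -/
theorem main (p : ℕ) [Fact p.Prime] : ∀ (k : ℕ) (G : Type u) [Group G] [Finite G],
    Nat.card G = k → Cfsg.IsPSolvable p G → ∀ P : Subgroup G, IsPGroup p P →
      dser P (Nat.card {χ : IrrCharacter G // p ∣ charDegree (χ : G → ℂ)} + 1) = ⊥ := by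
  intro k
  induction k using Nat.strong_induction_on with
  | _ k ih =>
    intro G _ _ hk hs P hP
    classical
    have hpp : p.Prime := Fact.out
    obtain ⟨n, hn⟩ : ∃ n : ℕ, n = Nat.card {χ : IrrCharacter G // p ∣ charDegree (χ : G → ℂ)} :=
      ⟨_, rfl⟩
    rw [← hn]
    by_cases h0 : n = 0
    · have hall : ∀ χ : IrrCharacter G, ¬ p ∣ charDegree (χ : G → ℂ) := by
        intro χ hχ
        have : Finite (IrrCharacter G) := finite_irr
        have hpos : 0 < Nat.card {χ : IrrCharacter G // p ∣ charDegree (χ : G → ℂ)} :=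
          Nat.card_pos_iff.2 ⟨⟨⟨χ, hχ⟩⟩, inferInstance⟩
        omega
      obtain ⟨S, hSn, hSab⟩ := Cfsg.Agent.Lib.Helper80.ItoConv.ito_conv_pSolvable p hs hall
      obtain ⟨S', hS'⟩ := hP.exists_le_sylow
      have hSS : S' = S := by
        haveI := Sylow.unique_of_normal S hSn
        exact Subsingleton.elim _ _
      rw [hSS] at hS'
      rw [h0]
      exact dser_succ_eq_bot P S 0 hS' hSab
    · by_cases htriv : Subsingleton G
      · rw [eq_bot_iff]
        intro x _
        rw [Subgroup.mem_bot]
        exact Subsingleton.elim _ _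
      · haveI : Nontrivial G := not_subsingleton_iff_nontrivial.1 htriv
        obtain ⟨N, hNn, hN1, hNcase⟩ := exists_min p G hs
        haveI := hNn
        have hsQ : Cfsg.IsPSolvable p (G ⧸ N) :=
          Cfsg.Agent.Lib.Helper76.PSolv.isPSolvable_quotient p N hs
        have hcard : Nat.card (G ⧸ N) < k := by
          have h1 : Nat.card G = Nat.card (G ⧸ N) * Nat.card N :=
            Subgroup.card_eq_card_quotient_mul_card_subgroup N
          have h2 : 1 < Nat.card N := (Subgroup.one_lt_card_iff_ne_bot N).2 hN1
          have h3 : 0 < Nat.card (G ⧸ N) := Nat.card_pos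
          rw [← hk, h1]
          nlinarith
        obtain ⟨nb, hnb⟩ : ∃ nb : ℕ,
            nb = Nat.card {χ : IrrCharacter (G ⧸ N) // p ∣ charDegree (χ : G ⧸ N → ℂ)} :=
          ⟨_, rfl⟩
        have hIH := ih _ hcard (G ⧸ N) rfl hsQ (P.map (QuotientGroup.mk' N)) (hP.map _)
        rw [← hnb] at hIH
        have hle : dser P (nb + 1) ≤ N := by
          rw [← dser_map, Subgroup.map_eq_bot_iff, QuotientGroup.ker_mk'] at hIH
          exact hIH
        have hcq := count_quot p N
        rw [← hnb, ← hn] at hcq
        rcases hNcase with hcop | ⟨hNp, hNab⟩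
        · have hbot : dser P (nb + 1) = ⊥ := by
            rw [eq_bot_iff]
            have h1 : N ⊓ P = ⊥ := by
              apply Subgroup.inf_eq_bot_of_coprime
              obtain ⟨j, hj⟩ := IsPGroup.iff_card.1 hP
              rw [hj]
              exact Nat.Coprime.pow_right j hcop
            rw [← h1]
            exact le_inf hle (dser_le P _)
          rw [eq_bot_iff, ← hbot]
          exact dser_anti P (by omega)
        · by_cases hlt : nb < n
          · have h1 := dser_succ_eq_bot P N (nb + 1) hle hNab
            rw [eq_bot_iff, ← h1]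
            exact dser_anti P (by omega)
          · have heq : nb = n := by omega
            obtain ⟨S, hS⟩ := hP.exists_le_sylow
            have hcomm := comm_le p hs N hN1 hNp S (hcq.2 heq)
            have h1 : dser P 1 ≤ N := (dser_mono hS 1).trans hcomm
            have h2 := dser_succ_eq_bot P N 1 h1 hNab
            rw [eq_bot_iff, ← h2]
            exact dser_anti P (by omega)

/-- Let p be a prime, G a finite p-solvable group and P a Sylow p-subgroup of G. If n is the number of irreducible complex characters of G whose degree is divisible by p, then the (n+1)-st term of the derived series of P is trivial. (The p-solvable case has a direct inductive proof.) -/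
theorem result {G : Type*} [Group G] [Finite G] (p : ℕ) [Fact p.Prime] (hG : Cfsg.IsPSolvable p G) (P : Sylow p G) : derivedSeries ↥(P : Subgroup G) (Nat.card {χ : Cfsg.IrrCharacter G // p ∣ Cfsg.charDegree (χ : G → ℂ)} + 1) = ⊥ := by
  apply derivedSeries_eq_bot_of_dser
  exact main p (Nat.card G) G rfl hG P P.isPGroup'

end Cfsg.Agent.S4768
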