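import Cfsg.Statements.S4837
import Cfsg.Agent.Lib.Helper81.CosetAvg
import Cfsg.Agent.Lib.Helper81.SemiChar

set_option autoImplicit false
open Cfsg

namespace Cfsg.Agent.S4837

open Cfsg.Agent.Lib.Helper81.Irr Cfsg.Agent.Lib.Helper81.Basic Cfsg.Agent.Lib.Helper81.Expand
  Cfsg.Agent.Lib.Helper81.Mult Cfsg.Agent.Lib.Helper81.Cliff Cfsg.Agent.Lib.Helper81.CliffCorr
  Cfsg.Agent.Lib.Helper81.CosetAvg

universe u

variable {G : Type u} [Group G]

/-- With exactly two classes where `χ` is nonzero, two nonidentity elements in the support are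
conjugate. -/
theorem conj_of_card_two (χ : G → ℂ) (hχ1 : χ 1 ≠ 0)
    (hχ : Nat.card {C : ConjClasses G // ∃ g ∈ C.carrier, χ g ≠ 0} = 2)
    (x y : G) (hx : χ x ≠ 0) (hy : χ y ≠ 0) (hx1 : x ≠ 1) (hy1 : y ≠ 1) : IsConj x y := by
  obtain ⟨A, B, hAB, huniv⟩ := Nat.card_eq_two_iff.1 hχ
  let cl : (g : G) → χ g ≠ 0 → {C : ConjClasses G // ∃ g ∈ C.carrier, χ g ≠ 0} :=
    fun g hg => ⟨ConjClasses.mk g, g, ConjClasses.mem_carrier_mk, hg⟩
  have hmem : ∀ c : {C : ConjClasses G // ∃ g ∈ C.carrier, χ g ≠ 0}, c = A ∨ c = B := by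
    intro c
    have : c ∈ ({A, B} : Set _) := by rw [huniv]; trivial
    simpa using this
  have hne : ∀ g (hg : χ g ≠ 0), g ≠ 1 → cl g hg ≠ cl 1 hχ1 := by
    intro g hg hg1 h
    have h2 : ConjClasses.mk g = ConjClasses.mk 1 := congrArg Subtype.val h
    rw [ConjClasses.mk_eq_mk_iff_isConj] at h2
    exact hg1 (isConj_one_left.1 h2)
  have hxy : cl x hx = cl y hy := by
    rcases hmem (cl x hx) with h1 | h1 <;> rcases hmem (cl y hy) with h2 | h2 <;>
      rcases hmem (cl 1 hχ1) with h3 | h3
    all_goals first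
      | exact h1.trans h2.symm
      | exact absurd (h1.trans h3.symm) (hne x hx hx1)
      | exact absurd (h2.trans h3.symm) (hne y hy hy1)
  exact ConjClasses.mk_eq_mk_iff_isConj.1 (congrArg Subtype.val hxy)

/-- A nontrivial normal `p`-subgroup whose nonidentity elements are all conjugate in `G` is
commutative. -/
theorem comm_of_conj [Finite G] (N : Subgroup G) [N.Normal] (p : ℕ) [Fact p.Prime]
    (hNp : IsPGroup p N) (hN1 : N ≠ ⊥)
    (hconj : ∀ x y : G, x ∈ N → y ∈ N → x ≠ 1 → y ≠ 1 → IsConj x y) :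
    ∀ a b : N, a * b = b * a := by
  have : Nontrivial N := (Subgroup.nontrivial_iff_ne_bot N).2 hN1
  have hZ : Nontrivial (Subgroup.center N) := hNp.center_nontrivial
  obtain ⟨z, hz⟩ := exists_ne (1 : Subgroup.center N)
  have hz1 : ((z : N) : G) ≠ 1 := by
    intro h
    apply hz
    apply Subtype.ext
    apply Subtype.ext
    exact h
  have key : ∀ n : N, n ≠ 1 → ∀ m : N, m * n = n * m := by
    intro n hn m
    have hn1 : (n : G) ≠ 1 := by
      intro h
      apply hn
      apply Subtype.ext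
      exact h
    obtain ⟨g, hg⟩ := isConj_iff.1 (hconj ((z : N) : G) n (z : N).2 n.2 hz1 hn1)
    have hm' : g⁻¹ * (m : G) * g ∈ N := by
      simpa using (inferInstance : N.Normal).conj_mem m m.2 g⁻¹
    have hcomm := Subgroup.mem_center_iff.1 z.2 ⟨g⁻¹ * m * g, hm'⟩
    have h3 : (g⁻¹ * (m : G) * g) * ((z : N) : G) = ((z : N) : G) * (g⁻¹ * (m : G) * g) :=
      congrArg Subtype.val hcomm
    apply Subtype.ext
    rw [Subgroup.coe_mul, Subgroup.coe_mul, ← hg]
    calc (m : G) * (g * ((z : N) : G) * g⁻¹)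
        = g * ((g⁻¹ * (m : G) * g) * ((z : N) : G)) * g⁻¹ := by group
      _ = g * (((z : N) : G) * (g⁻¹ * (m : G) * g)) * g⁻¹ := by rw [h3]
      _ = (g * ((z : N) : G) * g⁻¹) * m := by group
  intro a b
  by_cases hb : b = 1
  · rw [hb]; simp
  · exact key b hb a

/-- The centralizer of an element whose class is the set of nonidentity elements of `N`. -/
theorem index_centralizer [Finite G] (N : Subgroup G) [N.Normal] (x : G) (hx : x ∈ N)
    (hx1 : x ≠ 1) (hconj : ∀ y : G, y ∈ N → y ≠ 1 → IsConj x y) :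
    (Subgroup.centralizer {x}).index = Nat.card N - 1 := by
  classical
  have h0 : (Subgroup.centralizer {x}).index = (MulAction.stabilizer (ConjAct G) x).index := by
    rw [Subgroup.centralizer_eq_comap_stabilizer]
    exact Subgroup.index_comap_of_surjective (MulAction.stabilizer (ConjAct G) x)
      (f := (ConjAct.toConjAct (G := G)).toMonoidHom) (ConjAct.toConjAct (G := G)).surjective
  rw [h0, MulAction.index_stabilizer]
  have h2 : MulAction.orbit (ConjAct G) x = (N : Set G) \ {1} := by
    ext y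
    rw [ConjAct.mem_orbit_conjAct]
    constructor
    · intro h
      obtain ⟨g, hg⟩ := isConj_iff.1 h.symm
      rw [← hg]
      refine ⟨(inferInstance : N.Normal).conj_mem x hx g, ?_⟩
      simp [hx1]
    · rintro ⟨hy, hy1⟩
      exact (hconj y hy (by simpa using hy1)).symm
  rw [h2, Set.ncard_sdiff_singleton_of_mem (N.one_mem), ← Nat.card_coe_set_eq]
  rfl

theorem sum_punctured {H : Type*} [Group H] [Fintype H] (F : H → ℂ) (c : ℂ)
    (h : ∀ n : H, n ≠ 1 → F n = c) :
    ∑ n : H, F n = F 1 + ((Nat.card H : ℂ) - 1) * c := by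
  classical
  rw [← Finset.add_sum_erase Finset.univ F (Finset.mem_univ 1)]
  congr 1
  rw [Finset.sum_congr rfl (fun n hn => h n (Finset.ne_of_mem_erase hn)), Finset.sum_const,
    Finset.card_erase_of_mem (Finset.mem_univ _), Finset.card_univ, nsmul_eq_mul,
    Nat.cast_sub Fintype.card_pos, Nat.card_eq_fintype_card]
  simp

theorem sum_supp (N : Subgroup G) [Fintype G] [Fintype N] (f : G → ℂ)
    (h : ∀ g, g ∉ N → f g = 0) : ∑ g : G, f g = ∑ n : N, f n := by
  classical
  rw [← Finset.sum_subtype (Finset.univ.filter (· ∈ N)) (by simp) f]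
  rw [Finset.sum_filter_of_ne]
  intro g _ hg
  by_contra hgN
  exact hg (h g hgN)

/-- The arithmetic core. -/
theorem core [Fintype G] (hG : 2 < Nat.card G) (χ : IrrCharacter G) (N : Subgroup G)
    [N.Normal] [Fintype N] (hN : ∀ g : G, g ∈ N ↔ χ.1 g ≠ 0) (hN1 : N ≠ ⊥)
    (hconj : ∀ x y : G, x ∈ N → y ∈ N → x ≠ 1 → y ≠ 1 → IsConj x y)
    (hab : ∀ a b : N, a * b = b * a) :
    ∃ e : ℕ, 0 < e ∧ charDegree χ.1 = e * (Nat.card N - 1) ∧
      Nat.card G = e ^ 2 * Nat.card N * (Nat.card N - 1) ∧
      (∀ n : N, n ≠ 1 → χ.1 n = -(e : ℂ)) := by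
  classical
  obtain ⟨x₀, hx₀⟩ := (Subgroup.ne_bot_iff_exists_ne_one).1 hN1
  have hx₀1 : (x₀ : G) ≠ 1 := by
    intro h
    apply hx₀
    apply Subtype.ext
    exact h
  set a : ℂ := χ.1 x₀ with ha
  set d : ℕ := charDegree χ.1 with hd
  have hd1 : χ.1 1 = (d : ℂ) := deg_cast χ
  have hdpos : 0 < d := deg_pos χ
  have hval : ∀ n : N, n ≠ 1 → χ.1 n = a := by
    intro n hn
    have hn1 : (n : G) ≠ 1 := by
      intro h
      apply hn
      apply Subtype.ext
      exact h
    obtain ⟨g, hg⟩ := isConj_iff.1 (hconj x₀ n x₀.2 n.2 hx₀1 hn1)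
    rw [← hg, irr_conj]
  have hNcard : 2 ≤ Nat.card N := (Subgroup.one_lt_card_iff_ne_bot N).2 hN1
  have hNC : ((Nat.card N - 1 : ℕ) : ℂ) = (Nat.card N : ℂ) - 1 := by
    rw [Nat.cast_sub (by omega)]
    simp
  have hNm1 : ((Nat.card N : ℂ) - 1) ≠ 0 := by
    rw [← hNC]
    have : Nat.card N - 1 ≠ 0 := by omega
    exact_mod_cast this
  -- sum of χ over N
  have hII : cosetSum N χ.1 1 = (d : ℂ) + ((Nat.card N : ℂ) - 1) * a := by
    rw [cosetSum_one, sum_punctured (fun n : N => χ.1 n) a hval]
    show χ.1 ((1 : N) : G) + _ = _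
    rw [Subgroup.coe_one, hd1]
  -- first orthogonality
  have hI : (d : ℂ) ^ 2 + ((Nat.card N : ℂ) - 1) * (a * a) = (Nat.card G : ℂ) := by
    have h1 := irr_orth χ χ
    rw [if_pos rfl] at h1
    rw [sum_supp N (fun g => χ.1 g * χ.1 g⁻¹) (by
      intro g hg
      have : χ.1 g = 0 := by
        by_contra h
        exact hg ((hN g).2 h)
      show χ.1 g * χ.1 g⁻¹ = 0
      rw [this, zero_mul])] at h1
    rw [sum_punctured (fun n : N => χ.1 (n : G) * χ.1 (n : G)⁻¹) (a * a) (by
      intro n hn
      have hn' : n⁻¹ ≠ 1 := by simpa using hn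
      show χ.1 (n : G) * χ.1 (n : G)⁻¹ = a * a
      rw [hval n hn, ← Subgroup.coe_inv, hval n⁻¹ hn'])] at h1
    rw [← h1]
    show _ = χ.1 ((1 : N) : G) * χ.1 ((1 : N) : G)⁻¹ + _
    rw [Subgroup.coe_one, inv_one, hd1]
    ring
  have hdC : (d : ℂ) ≠ 0 := by exact_mod_cast hdpos.ne'
  -- the two cases
  have hzero : (d : ℂ) + ((Nat.card N : ℂ) - 1) * a = 0 := by
    rcases cosetSum_irr_cases N χ with h | h
    · rw [hII, hd1] at h
      rcases div_eq_zero_iff.1 h with h | h
      · exact h
      · exact absurd h hdC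
    · exfalso
      rw [hII, hd1, div_eq_iff hdC] at h
      have had : a = d := by
        have : ((Nat.card N : ℂ) - 1) * (a - d) = 0 := by linear_combination h
        rcases mul_eq_zero.1 this with h | h
        · exact absurd h hNm1
        · exact sub_eq_zero.1 h
      -- χ is the trivial character
      have hsum : ∑ g : G, χ.1 g * (trivChar G).1 g⁻¹ = (Nat.card N : ℂ) * d := by
        have h2 : ∑ g : G, χ.1 g * (trivChar G).1 g⁻¹ = ∑ g : G, χ.1 g := by
          apply Finset.sum_congr rfl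
          intro g _
          show χ.1 g * 1 = χ.1 g
          rw [mul_one]
        rw [h2, sum_supp N χ.1 (by
          intro g hg
          by_contra h
          exact hg ((hN g).2 h)), ← cosetSum_one, hII, had]
        ring
      have htriv : χ = trivChar G := by
        by_contra hne
        have h3 := irr_orth χ (trivChar G)
        rw [if_neg hne, hsum] at h3
        rcases mul_eq_zero.1 h3 with h | h
        · exact (card_ne_zero (G := N)) h
        · exact hdC h
      have hall : ∀ g : G, g ∈ N := by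
        intro g
        rw [hN, htriv]
        show (1 : ℂ) ≠ 0
        exact one_ne_zero
      have hsub : ∀ y : G, y = 1 ∨ y = x₀ := by
        intro y
        by_cases hy : y = 1
        · exact Or.inl hy
        · right
          obtain ⟨g, hg⟩ := isConj_iff.1 (hconj x₀ y x₀.2 (hall y) hx₀1 hy)
          have hc := hab ⟨g, hall g⟩ x₀
          have hc' : g * (x₀ : G) = (x₀ : G) * g := congrArg Subtype.val hc
          rw [← hg, hc']
          group
      have hle : Nat.card G ≤ 2 := by
        rw [Nat.card_eq_fintype_card, ← Finset.card_univ]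
        have hs : (Finset.univ : Finset G) ⊆ {1, (x₀ : G)} := by
          intro y _
          rcases hsub y with h | h
          · rw [h]; simp
          · rw [h]; simp
        exact (Finset.card_le_card hs).trans Finset.card_le_two
      omega
  -- consequences
  have h5 : (Nat.card N : ℂ) * (d : ℂ) ^ 2 = (Nat.card G : ℂ) * ((Nat.card N : ℂ) - 1) := by
    have hd' : (d : ℂ) = -(((Nat.card N : ℂ) - 1) * a) := by linear_combination hzero
    rw [← hI, hd']
    ring
  have hc := Subgroup.card_mul_index (Subgroup.centralizer ({(x₀ : G)} : Set G))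
  rw [index_centralizer N (x₀ : G) x₀.2 hx₀1 (fun y hy hy1 => hconj x₀ y x₀.2 hy hx₀1 hy1)] at hc
  set c : ℕ := Nat.card (Subgroup.centralizer ({(x₀ : G)} : Set G)) with hcdef
  have h6 : Nat.card N * d ^ 2 = c * (Nat.card N - 1) ^ 2 := by
    have : ((Nat.card N * d ^ 2 : ℕ) : ℂ) = ((c * (Nat.card N - 1) ^ 2 : ℕ) : ℂ) := by
      push_cast
      rw [h5, ← hc, hNC]
      push_cast
      rw [hNC]
      ring
    exact_mod_cast this
  have hcop : (Nat.card N - 1).Coprime (Nat.card N) := by
    obtain ⟨k, hk⟩ : ∃ k, Nat.card N = k + 1 := ⟨Nat.card N - 1, by omega⟩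
    rw [hk]
    simp
  have h7 : (Nat.card N - 1) ^ 2 ∣ d ^ 2 := by
    have h8 : (Nat.card N - 1) ^ 2 ∣ d ^ 2 * Nat.card N := by
      rw [mul_comm, h6]
      exact Dvd.intro_left _ rfl
    exact (Nat.Coprime.pow_left 2 hcop).dvd_of_dvd_mul_right h8
  have h9 : (Nat.card N - 1) ∣ d := (Nat.pow_dvd_pow_iff (two_ne_zero)).1 h7
  obtain ⟨e, he⟩ := h9
  have hepos : 0 < e := by
    rcases Nat.eq_zero_or_pos e with h | h
    · rw [h, mul_zero] at he
      omega
    · exact h
  have hNm1pos : 0 < Nat.card N - 1 := by omega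
  refine ⟨e, hepos, by rw [he, mul_comm], ?_, ?_⟩
  · have h10 : Nat.card N * d ^ 2 = Nat.card G * (Nat.card N - 1) := by
      have : ((Nat.card N * d ^ 2 : ℕ) : ℂ) = ((Nat.card G * (Nat.card N - 1) : ℕ) : ℂ) := by
        push_cast
        rw [h5, hNC]
      exact_mod_cast this
    rw [he] at h10
    have h11 : (e ^ 2 * Nat.card N * (Nat.card N - 1)) * (Nat.card N - 1) =
        Nat.card G * (Nat.card N - 1) := by
      rw [← h10]
      ring
    exact (Nat.eq_of_mul_eq_mul_right hNm1pos h11).symm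
  · intro n hn
    rw [hval n hn]
    have h12 : ((Nat.card N : ℂ) - 1) * (a + e) = 0 := by
      have : (d : ℂ) = ((Nat.card N : ℂ) - 1) * e := by
        rw [he, ← hNC]
        push_cast
        ring
      rw [this] at hzero
      linear_combination hzero
    rcases mul_eq_zero.1 h12 with h | h
    · exact absurd h hNm1
    · linear_combination h

/-- A subgroup of index `|N| - 1` is a Sylow `p`-subgroup. -/
theorem sylow_of_index [Fintype G] (χ : IrrCharacter G) (p : ℕ) [Fact p.Prime] (N : Subgroup G)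
    [Fintype N] (hN : ∀ g : G, g ∈ N ↔ χ.1 g ≠ 0) (hNp : IsPGroup p N) (hN1 : N ≠ ⊥) (e : ℕ)
    (hd : charDegree χ.1 = e * (Nat.card N - 1))
    (hcard : Nat.card G = e ^ 2 * Nat.card N * (Nat.card N - 1))
    (H : Subgroup G) (hH : H.index = Nat.card N - 1) : ∃ P : Sylow p G, (P : Subgroup G) = H := by
  classical
  have hp : p.Prime := Fact.out
  obtain ⟨k, hk⟩ := IsPGroup.iff_card.1 hNp
  have hNcard : 2 ≤ Nat.card N := (Subgroup.one_lt_card_iff_ne_bot N).2 hN1
  have hNm1pos : 0 < Nat.card N - 1 := by omega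
  have hkpos : k ≠ 0 := by
    rintro rfl
    rw [pow_zero] at hk
    omega
  have hHcard : Nat.card H = e ^ 2 * Nat.card N := by
    have h1 := Subgroup.card_mul_index H
    rw [hH, hcard] at h1
    exact Nat.eq_of_mul_eq_mul_right hNm1pos h1
  have hprime : ∀ {q : ℕ}, q.Prime → q ∣ Nat.card H → q = p := by
    intro q hq hqH
    by_contra hqp
    have : Fact q.Prime := ⟨hq⟩
    have hqe : q ∣ e := by
      rw [hHcard] at hqH
      rcases (Nat.Prime.dvd_mul hq).1 hqH with h | h
      · exact hq.dvd_of_dvd_pow h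
      · rw [hk] at h
        exact absurd ((Nat.prime_dvd_prime_iff_eq hq hp).1 (hq.dvd_of_dvd_pow h)) hqp
    obtain ⟨Q⟩ := (inferInstance : Nonempty (Sylow q G))
    have hdisj : Disjoint N (Q : Subgroup G) :=
      IsPGroup.disjoint_of_ne p q (fun h => hqp h.symm) N Q hNp Q.isPGroup'
    obtain ⟨m, hm⟩ := multC_nat (isCharacter_res (Q : Subgroup G) (irr_isCharacter χ))
      (trivChar ↥(Q : Subgroup G))
    rw [multC_def] at hm
    have hsum : ∑ y : ↥(Q : Subgroup G), res (Q : Subgroup G) χ.1 y *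
        (trivChar ↥(Q : Subgroup G)).1 y⁻¹ = (charDegree χ.1 : ℂ) := by
      rw [Finset.sum_eq_single (1 : ↥(Q : Subgroup G))]
      · show χ.1 ((1 : ↥(Q : Subgroup G)) : G) * 1 = _
        rw [mul_one, Subgroup.coe_one, deg_cast]
      · intro y _ hy
        have hyN : (y : G) ∉ N := by
          intro hyN
          apply hy
          apply Subtype.ext
          exact Subgroup.disjoint_def.1 hdisj hyN y.2
        have : χ.1 (y : G) = 0 := by
          by_contra h
          exact hyN ((hN _).2 h)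
        show χ.1 (y : G) * _ = 0
        rw [this, zero_mul]
      · intro h
        exact absurd (Finset.mem_univ _) h
    rw [hsum] at hm
    have hQne : (Nat.card ↥(Q : Subgroup G) : ℂ) ≠ 0 := card_ne_zero
    have hdm : charDegree χ.1 = m * Nat.card ↥(Q : Subgroup G) := by
      have : (charDegree χ.1 : ℂ) = ((m * Nat.card ↥(Q : Subgroup G) : ℕ) : ℂ) := by
        push_cast
        rw [← hm]
        field_simp
      exact_mod_cast this
    have hQi := Subgroup.card_mul_index (Q : Subgroup G)
    have hidx : (Q : Subgroup G).index = e * Nat.card N * m := by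
      have h3 : Nat.card ↥(Q : Subgroup G) * (Q : Subgroup G).index =
          Nat.card ↥(Q : Subgroup G) * (e * Nat.card N * m) := by
        rw [hQi, hcard]
        have : e ^ 2 * Nat.card N * (Nat.card N - 1) = e * Nat.card N * (e * (Nat.card N - 1)) := by
          ring
        rw [this, ← hd, hdm]
        ring
      exact Nat.eq_of_mul_eq_mul_left Nat.card_pos h3
    have hnd := Sylow.not_dvd_index Q
    apply hnd
    rw [hidx]
    exact Dvd.dvd.mul_right (Dvd.dvd.mul_right hqe _) _
  have hHpos : Nat.card H ≠ 0 := Nat.card_pos.ne'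
  have hHpow := Nat.eq_prime_pow_of_unique_prime_dvd hHpos hprime
  have hHp : IsPGroup p H := IsPGroup.of_card hHpow
  have hnd : ¬ p ∣ H.index := by
    rw [hH]
    intro h
    have h2 : p ∣ Nat.card N := by
      rw [hk]
      exact dvd_pow_self p hkpos
    have h3 : p ∣ Nat.card N - (Nat.card N - 1) := Nat.dvd_sub h2 h
    have h4 : Nat.card N - (Nat.card N - 1) = 1 := by omega
    rw [h4] at h3
    exact hp.one_lt.ne' (Nat.dvd_one.1 h3)
  exact ⟨hHp.toSylow hnd, IsPGroup.toSylow_coe hHp hnd⟩

/-- Let G be a finite group of order greater than 2 with an irreducible character χ nonzero on exactly two conjugacy classes, and let N be the set of elements where χ is nonzero, given as a nontrivial normal p-subgroup of G for the prime p. Then for every nonidentity x in N the centralizer C_G(x) is a Sylow p-subgroup of G, and for every irreducible character λ ≠ 1 of N the stabilizer of λ in G (its inertia group) is a Sylow p-subgroup of G. -/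
theorem result {G : Type*} [Group G] [Finite G] (hG : 2 < Nat.card G) (χ : Cfsg.IrrCharacter G) (hχ : Nat.card {C : ConjClasses G // ∃ g ∈ C.carrier, (χ : G → ℂ) g ≠ 0} = 2) (p : ℕ) [Fact p.Prime] (N : Subgroup G) [N.Normal] (hN : ∀ g : G, g ∈ N ↔ (χ : G → ℂ) g ≠ 0) (hNp : IsPGroup p N) (hN1 : N ≠ ⊥) :
    (∀ x ∈ N, x ≠ 1 → ∃ P : Sylow p G, Subgroup.centralizer ({x} : Set G) = P) ∧
      (∀ μ : Cfsg.IrrCharacter N, (μ : N → ℂ) ≠ (fun _ => (1 : ℂ)) → ∃ P : Sylow p G, ∀ g : G, g ∈ (P : Subgroup G) ↔ ∀ n n' : N, (n' : G) = g * n * g⁻¹ → (μ : N → ℂ) n' = (μ : N → ℂ) n) := by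
  classical
  have : Fintype G := Fintype.ofFinite G
  have : Fintype ↥N := Fintype.ofFinite _
  have : Finite (IrrCharacter G) := finite_irr
  have : Finite (IrrCharacter ↥N) := finite_irr
  let _ : Fintype (IrrCharacter G) := Fintype.ofFinite _
  let _ : Fintype (IrrCharacter ↥N) := Fintype.ofFinite _
  have hχ1 : χ.1 1 ≠ 0 := by
    rw [deg_cast]
    exact_mod_cast (deg_pos χ).ne'
  have hconj : ∀ x y : G, x ∈ N → y ∈ N → x ≠ 1 → y ≠ 1 → IsConj x y :=
    fun x y hx hy hx1 hy1 =>
      conj_of_card_two χ.1 hχ1 hχ x y ((hN x).1 hx) ((hN y).1 hy) hx1 hy1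
  have hab := comm_of_conj N p hNp hN1 hconj
  obtain ⟨e, hepos, hd, hcard, hval⟩ := core hG χ N hN hN1 hconj hab
  have hNcard : 2 ≤ Nat.card N := (Subgroup.one_lt_card_iff_ne_bot N).2 hN1
  constructor
  · intro x hx hx1
    obtain ⟨P, hP⟩ := sylow_of_index χ p N hN hNp hN1 e hd hcard
      (Subgroup.centralizer ({x} : Set G))
      (index_centralizer N x hx hx1 (fun y hy hy1 => hconj x y hx hy hx1 hy1))
    exact ⟨P, hP.symm⟩
  · intro μ hμ
    have hμne : trivChar ↥N ≠ μ := by
      intro h
      apply hμ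
      rw [← h]
      rfl
    -- multiplicity of μ in the restriction
    have hsum0 : ∑ n : ↥N, μ.1 n⁻¹ = 0 := by
      have h1 := irr_orth (trivChar ↥N) μ
      rw [if_neg hμne] at h1
      rw [← h1]
      apply Finset.sum_congr rfl
      intro n _
      show _ = (1 : ℂ) * _
      rw [one_mul]
    have hμ1 : μ.1 1 = 1 := Cfsg.Agent.Lib.Helper81.SemiChar.abelian_linear hab μ
    have hNC : ((Nat.card N - 1 : ℕ) : ℂ) = (Nat.card N : ℂ) - 1 := by
      rw [Nat.cast_sub (by omega)]
      simp
    have hmultC : multC (res N χ.1) μ = (e : ℂ) := by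
      rw [multC_def]
      have h2 : ∀ n : ↥N, res N χ.1 n * μ.1 n⁻¹ =
          -(e : ℂ) * μ.1 n⁻¹ + (if n = 1 then ((charDegree χ.1 : ℂ) + e) else 0) := by
        intro n
        by_cases hn : n = 1
        · rw [if_pos hn, hn, res_apply, Subgroup.coe_one, deg_cast, inv_one, hμ1]
          ring
        · rw [if_neg hn, res_apply, hval n hn, add_zero]
      rw [Finset.sum_congr rfl (fun n _ => h2 n), Finset.sum_add_distrib, ← Finset.mul_sum, hsum0,
        Finset.sum_ite_eq' Finset.univ (1 : ↥N), if_pos (Finset.mem_univ _), hd]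
      push_cast
      rw [hNC]
      have hNne : (Nat.card ↥N : ℂ) ≠ 0 := card_ne_zero
      field_simp
      ring
    have hres : IsCharacter ↥N (res N χ.1) := isCharacter_res N (irr_isCharacter χ)
    have hmult : mult (res N χ.1) μ = e := by
      have := mult_cast hres μ
      rw [hmultC] at this
      exact_mod_cast this
    have hdeg := degree_over N χ μ (by rw [hmult]; exact hepos.ne')
    have hμdeg : charDegree μ.1 = 1 := by
      have := deg_cast μ
      rw [hμ1] at this
      exact_mod_cast this.symm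
    rw [hmult, hμdeg, mul_one, hd] at hdeg
    have horbc : (orb N μ).card = Nat.card N - 1 := (Nat.eq_of_mul_eq_mul_left hepos hdeg).symm
    let _ := conjAct N
    have horb : (orb N μ).card = (MulAction.stabilizer G μ).index :=
      orb_card N μ (MulAction.stabilizer G μ) (fun g => by
        rw [MulAction.mem_stabilizer_iff]; rfl)
    obtain ⟨P, hP⟩ := sylow_of_index χ p N hN hNp hN1 e hd hcard
      (MulAction.stabilizer G μ) (by rw [← horb, horbc])
    refine ⟨P, fun g => ?_⟩
    rw [hP, MulAction.mem_stabilizer_iff]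
    show conjI N g μ = μ ↔ _
    constructor
    · intro h n n' hnn'
      have h1 := congrFun (congrArg Subtype.val h) n'
      rw [conjI_apply] at h1
      rw [← h1]
      refine congrArg μ.1 (Subtype.ext ?_)
      rw [MulAut.conjNormal_apply, hnn']
      group
    · intro h
      apply Subtype.ext
      funext k
      rw [conjI_apply]
      refine (h (MulAut.conjNormal g⁻¹ k) k ?_).symm
      rw [MulAut.conjNormal_apply]
      group

end Cfsg.Agent.S4837
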