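import Cfsg.Statements.S4838
import Cfsg.Agent.S4837

set_option autoImplicit false
open Cfsg

namespace Cfsg.Agent.S4838

open Cfsg.Agent.Lib.Helper81.Irr Cfsg.Agent.Lib.Helper81.Basic Cfsg.Agent.Lib.Helper81.Expand
  Cfsg.Agent.Lib.Helper81.Mult Cfsg.Agent.Lib.Helper81.Cliff Cfsg.Agent.Lib.Helper81.CliffCorr
  Cfsg.Agent.Lib.Helper81.CosetAvg

universe u

variable {G : Type u} [Group G]

theorem natCard_eq_sum {T : Type*} [Fintype T] (P : T → Prop) [DecidablePred P] :
    (Nat.card {t : T // P t} : ℂ) = ∑ t : T, if P t then (1 : ℂ) else 0 := by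
  rw [Finset.sum_boole, Nat.card_eq_fintype_card, Fintype.card_subtype]

/-- Counting the elements whose commutator with `x` lies in the normal subgroup `N`. -/
theorem card_comm_mem [Fintype G] [Fintype (IrrCharacter G)] (N : Subgroup G) [N.Normal]
    [Fintype N] (x : G) :
    (Nat.card {k : G // k * x * k⁻¹ * x⁻¹ ∈ N} : ℂ) =
      ∑ ψ : IrrCharacter G, ψ.1 x⁻¹ * cosetSum N ψ.1 x := by
  classical
  have h1 : ∀ n : N, (Nat.card {k : G // k * x * k⁻¹ = (n : G) * x} : ℂ) =
      ∑ ψ : IrrCharacter G, ψ.1 ((n : G) * x) * ψ.1 x⁻¹ := fun n => second_orth_cnt complete _ _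
  have h2 : (Nat.card {k : G // k * x * k⁻¹ * x⁻¹ ∈ N} : ℂ) =
      ∑ n : N, (Nat.card {k : G // k * x * k⁻¹ = (n : G) * x} : ℂ) := by
    rw [natCard_eq_sum]
    simp only [natCard_eq_sum]
    rw [Finset.sum_comm]
    apply Finset.sum_congr rfl
    intro k _
    by_cases hk : k * x * k⁻¹ * x⁻¹ ∈ N
    · rw [if_pos hk, Finset.sum_eq_single (⟨k * x * k⁻¹ * x⁻¹, hk⟩ : N)]
      · rw [if_pos]
        show k * x * k⁻¹ = k * x * k⁻¹ * x⁻¹ * x
        group
      · intro n _ hne
        rw [if_neg]
        intro h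
        apply hne
        apply Subtype.ext
        show (n : G) = k * x * k⁻¹ * x⁻¹
        rw [h]
        group
      · intro h
        exact absurd (Finset.mem_univ _) h
    · rw [if_neg hk]
      symm
      apply Finset.sum_eq_zero
      intro n _
      rw [if_neg]
      intro h
      apply hk
      rw [h]
      have : (n : G) * x * x⁻¹ = n := by group
      rw [this]
      exact n.2
  rw [h2, Finset.sum_congr rfl (fun n _ => h1 n), Finset.sum_comm]
  apply Finset.sum_congr rfl
  intro ψ _
  rw [← Finset.sum_mul, mul_comm]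
  congr 1
  rw [cosetSum_def,
    ← Equiv.sum_comp (MulAut.conjNormal x : ↥N ≃* ↥N).toEquiv (fun n : ↥N => ψ.1 ((n : G) * x))]
  apply Finset.sum_congr rfl
  intro n _
  simp only [MulEquiv.toEquiv_eq_coe, EquivLike.coe_coe]
  rw [MulAut.conjNormal_apply]
  congr 1
  group

/-- The same set counted via the quotient group. -/
theorem card_comm_mem_eq [Finite G] (N : Subgroup G) [N.Normal] (x : G) :
    Nat.card {k : G // k * x * k⁻¹ * x⁻¹ ∈ N} =
      Nat.card N * Nat.card (Subgroup.centralizer ({(x : G ⧸ N)} : Set (G ⧸ N))) := by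
  set C := Subgroup.centralizer ({(x : G ⧸ N)} : Set (G ⧸ N)) with hC
  set K := C.comap (QuotientGroup.mk' N) with hK
  have hmem : ∀ k : G, k ∈ K ↔ k * x * k⁻¹ * x⁻¹ ∈ N := by
    intro k
    rw [hK, Subgroup.mem_comap, hC, Subgroup.mem_centralizer_iff]
    simp only [Set.mem_singleton_iff, forall_eq, QuotientGroup.mk'_apply]
    rw [← QuotientGroup.eq_one_iff]
    have h0 : ((k * x * k⁻¹ * x⁻¹ : G) : G ⧸ N) =
        (k : G ⧸ N) * (x : G ⧸ N) * (k : G ⧸ N)⁻¹ * (x : G ⧸ N)⁻¹ := rfl
    rw [h0]
    constructor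
    · intro h
      rw [← h]
      group
    · intro h
      have h1 := mul_inv_eq_one.1 h
      have h2 := mul_inv_eq_iff_eq_mul.1 h1
      exact h2.symm
  have h1 : Nat.card {k : G // k * x * k⁻¹ * x⁻¹ ∈ N} = Nat.card K :=
    Nat.card_congr (Equiv.subtypeEquivRight (fun k => (hmem k).symm))
  have hidx : K.index = C.index :=
    Subgroup.index_comap_of_surjective C (QuotientGroup.mk'_surjective N)
  have h2 := Subgroup.card_mul_index K
  have h3 := Subgroup.card_mul_index C
  have h4 := Subgroup.card_eq_card_quotient_mul_card_subgroup N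
  have hpos : 0 < C.index := Nat.pos_of_ne_zero Subgroup.index_ne_zero_of_finite
  rw [h1]
  have h5 : Nat.card K * C.index = (Nat.card N * Nat.card C) * C.index := by
    rw [← hidx, h2, h4, ← h3, hidx]
    ring
  exact Nat.eq_of_mul_eq_mul_right hpos h5

/-- In the two-class situation, the coset sums of every irreducible character off `N` are
`|N|` times its values. -/
theorem cosetSum_eq [Fintype G] [Fintype (IrrCharacter G)] (χ : IrrCharacter G) (N : Subgroup G)
    [N.Normal] [Fintype N] (hN : ∀ g : G, g ∈ N ↔ χ.1 g ≠ 0) (hNcard : 2 ≤ Nat.card N) (e : ℕ)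
    (hd : charDegree χ.1 = e * (Nat.card N - 1))
    (hcard : Nat.card G = e ^ 2 * Nat.card N * (Nat.card N - 1))
    (hval : ∀ n : N, n ≠ 1 → χ.1 n = -(e : ℂ)) (ψ : IrrCharacter G) (x : G) (hx : x ∉ N) :
    cosetSum N ψ.1 x = (Nat.card N : ℂ) * ψ.1 x := by
  classical
  have hNC : ((Nat.card N - 1 : ℕ) : ℂ) = (Nat.card N : ℂ) - 1 := by
    rw [Nat.cast_sub (by omega)]
    simp
  have hNne : (Nat.card N : ℂ) ≠ 0 := card_ne_zero
  have hex : ∀ η : IrrCharacter G, ∃ δ : ℕ, δ ≤ 1 ∧
      cosetSum N η.1 1 / η.1 1 = (δ : ℂ) * (Nat.card N : ℂ) := by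
    intro η
    rcases cosetSum_irr_cases N η with h | h
    · exact ⟨0, by omega, by rw [h]; simp⟩
    · exact ⟨1, le_refl _, by rw [h]; simp⟩
  choose δ hδ1 hδ using hex
  have hdeg : ∀ η : IrrCharacter G, η.1 1 ≠ 0 := by
    intro η
    rw [deg_cast]
    exact_mod_cast (deg_pos η).ne'
  -- δ χ = 0
  have hχ0 : δ χ = 0 := by
    have h1 : cosetSum N χ.1 1 = 0 := by
      rw [cosetSum_one, Cfsg.Agent.S4837.sum_punctured (fun n : N => χ.1 n) (-(e : ℂ)) hval]
      show χ.1 ((1 : N) : G) + _ = 0
      rw [Subgroup.coe_one, deg_cast, hd]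
      push_cast
      rw [hNC]
      ring
    have h2 := hδ χ
    rw [h1, zero_div] at h2
    have h3 : (δ χ : ℂ) = 0 := by
      rcases mul_eq_zero.1 h2.symm with h | h
      · exact h
      · exact absurd h hNne
    exact_mod_cast h3
  -- sums of squares
  have hsq : (Nat.card G : ℂ) = ∑ η : IrrCharacter G, η.1 1 * η.1 1 := by
    have h1 := second_orth_cnt complete (1 : G) (1 : G)
    rw [inv_one] at h1
    rw [← h1]
    congr 1
    exact (Nat.card_congr (Equiv.subtypeUnivEquiv (by intro k; simp))).symm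
  have hK1 : (Nat.card G : ℂ) =
      ∑ η : IrrCharacter G, η.1 1 * (η.1 1 * ((δ η : ℂ) * (Nat.card N : ℂ))) := by
    have h1 := card_comm_mem N (1 : G)
    rw [inv_one] at h1
    have h2 : (Nat.card {k : G // k * 1 * k⁻¹ * 1 ∈ N} : ℂ) = (Nat.card G : ℂ) := by
      congr 1
      exact Nat.card_congr (Equiv.subtypeUnivEquiv (by intro k; simp))
    rw [h2] at h1
    rw [h1]
    apply Finset.sum_congr rfl
    intro η _
    rw [cosetSum_irr N η 1, hδ η]
  have hsqN : Nat.card G = ∑ η : IrrCharacter G, charDegree η.1 ^ 2 := by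
    have : (Nat.card G : ℂ) = ((∑ η : IrrCharacter G, charDegree η.1 ^ 2 : ℕ) : ℂ) := by
      rw [hsq]
      push_cast
      apply Finset.sum_congr rfl
      intro η _
      rw [deg_cast]
      ring
    exact_mod_cast this
  have hK1N : Nat.card G = Nat.card N * ∑ η : IrrCharacter G, charDegree η.1 ^ 2 * δ η := by
    have : (Nat.card G : ℂ) =
        ((Nat.card N * ∑ η : IrrCharacter G, charDegree η.1 ^ 2 * δ η : ℕ) : ℂ) := by
      rw [hK1]
      push_cast
      rw [Finset.mul_sum]
      apply Finset.sum_congr rfl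
      intro η _
      rw [deg_cast]
      ring
    exact_mod_cast this
  have hNpos : 0 < Nat.card N := by omega
  have hsumδ : ∑ η : IrrCharacter G, charDegree η.1 ^ 2 * δ η = e ^ 2 * (Nat.card N - 1) := by
    have h1 : Nat.card N * ∑ η : IrrCharacter G, charDegree η.1 ^ 2 * δ η =
        Nat.card N * (e ^ 2 * (Nat.card N - 1)) := by
      rw [← hK1N, hcard]
      ring
    exact Nat.eq_of_mul_eq_mul_left hNpos h1
  let f : IrrCharacter G → ℕ := fun η => charDegree η.1 ^ 2 * (1 - δ η)
  have hfsum : ∑ η : IrrCharacter G, f η + ∑ η : IrrCharacter G, charDegree η.1 ^ 2 * δ η =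
      ∑ η : IrrCharacter G, charDegree η.1 ^ 2 := by
    rw [← Finset.sum_add_distrib]
    apply Finset.sum_congr rfl
    intro η _
    show charDegree η.1 ^ 2 * (1 - δ η) + charDegree η.1 ^ 2 * δ η = _
    rw [← mul_add, Nat.sub_add_cancel (hδ1 η), mul_one]
  have hftot : ∑ η : IrrCharacter G, f η = charDegree χ.1 ^ 2 := by
    rw [hsumδ, ← hsqN, hcard] at hfsum
    rw [hd]
    obtain ⟨m, hm⟩ : ∃ m, Nat.card N = m + 1 := ⟨Nat.card N - 1, by omega⟩
    rw [hm] at hfsum ⊢
    simp only [Nat.add_sub_cancel] at hfsum ⊢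
    have : ∑ η : IrrCharacter G, f η + e ^ 2 * m = (e * m) ^ 2 + e ^ 2 * m := by
      rw [hfsum]
      ring
    exact Nat.add_right_cancel this
  have hfχ : f χ = charDegree χ.1 ^ 2 := by
    show charDegree χ.1 ^ 2 * (1 - δ χ) = _
    rw [hχ0]
    simp
  have hrest : ∀ η : IrrCharacter G, η ≠ χ → δ η = 1 := by
    intro η hη
    have h1 := Finset.add_sum_erase Finset.univ f (Finset.mem_univ χ)
    rw [hftot, hfχ] at h1
    have h2 : ∑ η ∈ Finset.univ.erase χ, f η = 0 := by omega
    have h3 := (Finset.sum_eq_zero_iff.1 h2) η (Finset.mem_erase.2 ⟨hη, Finset.mem_univ _⟩)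
    have h4 : charDegree η.1 ^ 2 * (1 - δ η) = 0 := h3
    have h5 : 0 < charDegree η.1 ^ 2 := pow_pos (deg_pos η) 2
    rcases Nat.mul_eq_zero.1 h4 with h | h
    · omega
    · have := hδ1 η
      omega
  rw [cosetSum_irr N ψ x, hδ ψ]
  by_cases hψ : ψ = χ
  · have : ψ.1 x = 0 := by
      rw [hψ]
      by_contra h
      exact hx ((hN x).2 h)
    rw [this]
    simp
  · rw [hrest ψ hψ]
    push_cast
    ring

theorem index_centralizer_eq_ncard_orbit (x : G) :
    (Subgroup.centralizer {x}).index = (MulAction.orbit (ConjAct G) x).ncard := by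
  have h0 : (Subgroup.centralizer {x}).index = (MulAction.stabilizer (ConjAct G) x).index := by
    rw [Subgroup.centralizer_eq_comap_stabilizer]
    exact Subgroup.index_comap_of_surjective (MulAction.stabilizer (ConjAct G) x)
      (f := (ConjAct.toConjAct (G := G)).toMonoidHom) (ConjAct.toConjAct (G := G)).surjective
  rw [h0, MulAction.index_stabilizer]

/-- Let G be a finite group of order greater than 2 with an irreducible character χ nonzero on exactly two conjugacy classes, N the normal p-subgroup of elements where χ is nonzero, and P a Sylow p-subgroup of G. Then (a) for every x outside N the centralizer of x in G has the same order as the centralizer of xN in G/N; (b) the centre of P lies in N, and equals N exactly when P is normal in G; (c) N, viewed inside P, is a term of the upper central series of P. -/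
theorem result {G : Type*} [Group G] [Finite G] (hG : 2 < Nat.card G) (χ : Cfsg.IrrCharacter G) (hχ : Nat.card {C : ConjClasses G // ∃ g ∈ C.carrier, (χ : G → ℂ) g ≠ 0} = 2) (p : ℕ) [Fact p.Prime] (N : Subgroup G) [N.Normal] (hN : ∀ g : G, g ∈ N ↔ (χ : G → ℂ) g ≠ 0) (hNp : IsPGroup p N) (hN1 : N ≠ ⊥) (P : Sylow p G) :
    (∀ x : G, x ∉ N → Nat.card (Subgroup.centralizer ({x} : Set G)) = Nat.card (Subgroup.centralizer ({(x : G ⧸ N)} : Set (G ⧸ N)))) ∧
      ((Subgroup.center ↥(P : Subgroup G)).map (P : Subgroup G).subtype ≤ N ∧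
        ((Subgroup.center ↥(P : Subgroup G)).map (P : Subgroup G).subtype = N ↔ (P : Subgroup G).Normal)) ∧
      (∃ i : ℕ, Subgroup.upperCentralSeries ↥(P : Subgroup G) i = N.subgroupOf (P : Subgroup G)) := by
  classical
  have : Fintype G := Fintype.ofFinite G
  have : Fintype ↥N := Fintype.ofFinite _
  have : Finite (IrrCharacter G) := finite_irr
  let _ : Fintype (IrrCharacter G) := Fintype.ofFinite _
  have hp : p.Prime := Fact.out
  have hχ1 : χ.1 1 ≠ 0 := by
    rw [deg_cast]
    exact_mod_cast (deg_pos χ).ne'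
  have hconj : ∀ x y : G, x ∈ N → y ∈ N → x ≠ 1 → y ≠ 1 → IsConj x y :=
    fun x y hx hy hx1 hy1 =>
      Cfsg.Agent.S4837.conj_of_card_two χ.1 hχ1 hχ x y ((hN x).1 hx) ((hN y).1 hy) hx1 hy1
  have hab := Cfsg.Agent.S4837.comm_of_conj N p hNp hN1 hconj
  obtain ⟨e, hepos, hd, hcard, hval⟩ := Cfsg.Agent.S4837.core hG χ N hN hN1 hconj hab
  have hNcard : 2 ≤ Nat.card N := (Subgroup.one_lt_card_iff_ne_bot N).2 hN1
  have hNpos : 0 < Nat.card N := by omega
  have hNP : N ≤ (P : Subgroup G) := hNp.le_sylow_of_normal P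
  obtain ⟨k, hk⟩ := IsPGroup.iff_card.1 hNp
  have hkpos : k ≠ 0 := by
    rintro rfl
    rw [pow_zero] at hk
    omega
  have hpN : p ∣ Nat.card N := by
    rw [hk]
    exact dvd_pow_self p hkpos
  have hPidx := Subgroup.card_mul_index (P : Subgroup G)
  have hPnd : ¬ p ∣ (P : Subgroup G).index := Sylow.not_dvd_index P
  -- (a)
  have ha : ∀ x : G, x ∉ N → Nat.card (Subgroup.centralizer ({x} : Set G)) =
      Nat.card (Subgroup.centralizer ({(x : G ⧸ N)} : Set (G ⧸ N))) := by
    intro x hx
    have h1 := card_comm_mem N x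
    rw [Finset.sum_congr rfl (fun ψ _ => by
      rw [cosetSum_eq χ N hN hNcard e hd hcard hval ψ x hx])] at h1
    have h2 := second_orth_cnt complete x x
    have h3 : (Nat.card {k : G // k * x * k⁻¹ * x⁻¹ ∈ N} : ℂ) =
        (Nat.card N : ℂ) * (Nat.card {k : G // k * x * k⁻¹ = x} : ℂ) := by
      rw [h1, h2, Finset.mul_sum]
      apply Finset.sum_congr rfl
      intro ψ _
      ring
    have h4 : Nat.card {k : G // k * x * k⁻¹ = x} =
        Nat.card (Subgroup.centralizer ({x} : Set G)) := by
      apply Nat.card_congr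
      apply Equiv.subtypeEquivRight
      intro k
      show _ ↔ k ∈ Subgroup.centralizer ({x} : Set G)
      rw [Subgroup.mem_centralizer_iff]
      simp only [Set.mem_singleton_iff, forall_eq]
      constructor
      · intro h
        calc x * k = (k * x * k⁻¹) * k := by rw [h]
          _ = k * x := by group
      · intro h
        rw [← h]
        group
    rw [card_comm_mem_eq N x, h4] at h3
    have h5 : Nat.card N * Nat.card (Subgroup.centralizer ({(x : G ⧸ N)} : Set (G ⧸ N))) =
        Nat.card N * Nat.card (Subgroup.centralizer ({x} : Set G)) := by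
      exact_mod_cast h3
    exact (Nat.eq_of_mul_eq_mul_left hNpos h5).symm
  -- Fact D
  have hD : ∀ x : G, x ∉ N →
      Nat.card N * Nat.card (Subgroup.centralizer ({x} : Set G)) ∣ Nat.card G := by
    intro x hx
    rw [ha x hx, Subgroup.card_eq_card_quotient_mul_card_subgroup N, mul_comm]
    exact Nat.mul_dvd_mul_right (Subgroup.card_subgroup_dvd_card _) _
  -- (b1)
  have hb1 : (Subgroup.center ↥(P : Subgroup G)).map (P : Subgroup G).subtype ≤ N := by
    intro y hy
    obtain ⟨z, hz, rfl⟩ := Subgroup.mem_map.1 hy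
    by_contra hzN
    have hPle : (P : Subgroup G) ≤ Subgroup.centralizer ({((P : Subgroup G).subtype z)} : Set G) := by
      intro g hg
      rw [Subgroup.mem_centralizer_iff]
      simp only [Set.mem_singleton_iff, forall_eq]
      have h1 := Subgroup.mem_center_iff.1 hz ⟨g, hg⟩
      have h2 : g * (z : G) = (z : G) * g := congrArg Subtype.val h1
      exact h2.symm
    have h1 := Subgroup.card_dvd_of_le hPle
    have h2 := hD _ hzN
    have h3 : Nat.card N * Nat.card (P : Subgroup G) ∣ Nat.card (P : Subgroup G) * (P : Subgroup G).index := by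
      rw [hPidx]
      exact (Nat.mul_dvd_mul_left _ h1).trans h2
    rw [mul_comm] at h3
    have h4 : Nat.card N ∣ (P : Subgroup G).index :=
      (Nat.mul_dvd_mul_iff_left Nat.card_pos).1 h3
    exact hPnd (hpN.trans h4)
  obtain ⟨x₀, hx₀⟩ := (Subgroup.ne_bot_iff_exists_ne_one).1 hN1
  have hx₀1 : (x₀ : G) ≠ 1 := by
    intro h
    apply hx₀
    apply Subtype.ext
    exact h
  refine ⟨ha, ⟨hb1, ?_⟩, ?_⟩
  · constructor
    · intro hZN
      have hPc : ∀ n ∈ N, ∀ h ∈ (P : Subgroup G), h * n = n * h := by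
        intro n hn h hh
        rw [← hZN] at hn
        obtain ⟨z, hz, rfl⟩ := Subgroup.mem_map.1 hn
        have h1 := Subgroup.mem_center_iff.1 hz ⟨h, hh⟩
        exact congrArg Subtype.val h1
      have hcent : ∀ y ∈ N, y ≠ 1 → Subgroup.centralizer ({y} : Set G) = (P : Subgroup G) := by
        intro y hy hy1
        obtain ⟨Q, hQ⟩ := (Cfsg.Agent.S4837.result hG χ hχ p N hN hNp hN1).1 y hy hy1
        have hPQ : (P : Subgroup G) ≤ (Q : Subgroup G) := by
          rw [← hQ]
          intro h hh
          rw [Subgroup.mem_centralizer_iff]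
          simp only [Set.mem_singleton_iff, forall_eq]
          exact (hPc y hy h hh).symm
        rw [hQ]
        exact P.is_maximal' Q.isPGroup' hPQ
      constructor
      intro h hh g
      have hy : g * (x₀ : G) * g⁻¹ ∈ N := (inferInstance : N.Normal).conj_mem x₀ x₀.2 g
      have hy1 : g * (x₀ : G) * g⁻¹ ≠ 1 := by simp [hx₀1]
      rw [← hcent _ hy hy1, Subgroup.mem_centralizer_iff]
      simp only [Set.mem_singleton_iff, forall_eq]
      have h1 := hPc x₀ x₀.2 h hh
      calc g * (x₀ : G) * g⁻¹ * (g * h * g⁻¹) = g * ((x₀ : G) * h) * g⁻¹ := by group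
        _ = g * (h * (x₀ : G)) * g⁻¹ := by rw [h1]
        _ = g * h * g⁻¹ * (g * (x₀ : G) * g⁻¹) := by group
    · intro hPn
      apply le_antisymm hb1
      have : Nontrivial ↥(P : Subgroup G) := by
        refine ⟨⟨⟨x₀, hNP x₀.2⟩, 1, ?_⟩⟩
        intro h
        exact hx₀1 (congrArg Subtype.val h)
      have hZ : Nontrivial (Subgroup.center ↥(P : Subgroup G)) := P.isPGroup'.center_nontrivial
      obtain ⟨z, hz⟩ := exists_ne (1 : Subgroup.center ↥(P : Subgroup G))
      have hz1 : (((z : ↥(P : Subgroup G)) : G)) ≠ 1 := by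
        intro h
        apply hz
        apply Subtype.ext
        apply Subtype.ext
        exact h
      have hzN : (((z : ↥(P : Subgroup G)) : G)) ∈ N :=
        hb1 (Subgroup.mem_map.2 ⟨(z : ↥(P : Subgroup G)), z.2, rfl⟩)
      intro n hn
      by_cases hn1 : n = 1
      · rw [hn1]
        exact Subgroup.one_mem _
      · obtain ⟨g, hg⟩ := isConj_iff.1 (hconj _ n hzN hn hz1 hn1)
        refine Subgroup.mem_map.2 ⟨⟨n, hNP hn⟩, ?_, rfl⟩
        rw [Subgroup.mem_center_iff]
        intro h
        apply Subtype.ext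
        show (h : G) * n = n * (h : G)
        have hh' : g⁻¹ * (h : G) * g ∈ (P : Subgroup G) := by
          simpa using hPn.conj_mem h h.2 g⁻¹
        have h1 := Subgroup.mem_center_iff.1 z.2 ⟨g⁻¹ * (h : G) * g, hh'⟩
        have h2 : g⁻¹ * (h : G) * g * ((z : ↥(P : Subgroup G)) : G) =
            ((z : ↥(P : Subgroup G)) : G) * (g⁻¹ * (h : G) * g) := congrArg Subtype.val h1
        rw [← hg]
        calc (h : G) * (g * ((z : ↥(P : Subgroup G)) : G) * g⁻¹)
            = g * (g⁻¹ * (h : G) * g * ((z : ↥(P : Subgroup G)) : G)) * g⁻¹ := by group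
          _ = g * (((z : ↥(P : Subgroup G)) : G) * (g⁻¹ * (h : G) * g)) * g⁻¹ := by rw [h2]
          _ = g * ((z : ↥(P : Subgroup G)) : G) * g⁻¹ * (h : G) := by group
  · -- (c)
    set N' : Subgroup ↥(P : Subgroup G) := N.subgroupOf (P : Subgroup G) with hN'
    have hN'card : Nat.card N' = Nat.card N :=
      Nat.card_congr (Subgroup.subgroupOfEquivOfLe hNP).toEquiv
    have hstep : ∀ i : ℕ, Subgroup.upperCentralSeries ↥(P : Subgroup G) i ≤ N' →
        Subgroup.upperCentralSeries ↥(P : Subgroup G) i = N' ∨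
        Subgroup.upperCentralSeries ↥(P : Subgroup G) (i + 1) ≤ N' := by
      intro i hi
      by_contra hcon
      push Not at hcon
      obtain ⟨hne, hnle⟩ := hcon
      obtain ⟨z, hz, hzN'⟩ := SetLike.not_le_iff_exists.1 hnle
      have hzN : (z : G) ∉ N := fun h => hzN' (Subgroup.mem_subgroupOf.2 h)
      apply hne
      apply Subgroup.eq_of_le_of_card_ge hi
      rw [hN'card]
      -- A
      have hA : (Subgroup.centralizer ({z} : Set ↥(P : Subgroup G))).index ≤
          Nat.card (Subgroup.upperCentralSeries ↥(P : Subgroup G) i) := by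
        rw [index_centralizer_eq_ncard_orbit]
        have hcard' : Nat.card (Subgroup.upperCentralSeries ↥(P : Subgroup G) i) =
            (Subgroup.upperCentralSeries ↥(P : Subgroup G) i : Set ↥(P : Subgroup G)).ncard :=
          Nat.card_coe_set_eq _
        rw [hcard']
        have hsub : MulAction.orbit (ConjAct ↥(P : Subgroup G)) z ⊆
            (fun w : ↥(P : Subgroup G) => w * z) ''
              (Subgroup.upperCentralSeries ↥(P : Subgroup G) i : Set ↥(P : Subgroup G)) := by
          intro y hy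
          rw [ConjAct.mem_orbit_conjAct] at hy
          obtain ⟨g, hg⟩ := isConj_iff.1 hy.symm
          refine ⟨g * z * g⁻¹ * z⁻¹, ?_, ?_⟩
          · have h1 : z * g * z⁻¹ * g⁻¹ ∈ Subgroup.upperCentralSeries ↥(P : Subgroup G) i :=
              (Subgroup.mem_upperCentralSeries_succ_iff).1 hz g
            have h2 := Subgroup.inv_mem _ h1
            have h3 : (z * g * z⁻¹ * g⁻¹)⁻¹ = g * z * g⁻¹ * z⁻¹ := by group
            rw [h3] at h2
            exact h2
          · show g * z * g⁻¹ * z⁻¹ * z = y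
            rw [← hg]
            group
        calc (MulAction.orbit (ConjAct ↥(P : Subgroup G)) z).ncard
            ≤ ((fun w : ↥(P : Subgroup G) => w * z) ''
              (Subgroup.upperCentralSeries ↥(P : Subgroup G) i : Set ↥(P : Subgroup G))).ncard :=
              Set.ncard_le_ncard hsub (Set.toFinite _)
          _ ≤ (Subgroup.upperCentralSeries ↥(P : Subgroup G) i : Set ↥(P : Subgroup G)).ncard :=
              Set.ncard_image_le (Set.toFinite _)
      -- B
      have hB : Nat.card (Subgroup.centralizer ({z} : Set ↥(P : Subgroup G))) ∣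
          Nat.card (Subgroup.centralizer ({(z : G)} : Set G)) := by
        rw [← Subgroup.card_map_of_injective (Subgroup.subtype_injective (P : Subgroup G))]
        apply Subgroup.card_dvd_of_le
        intro y hy
        obtain ⟨w, hw, rfl⟩ := Subgroup.mem_map.1 hy
        rw [Subgroup.mem_centralizer_iff] at hw ⊢
        simp only [Set.mem_singleton_iff, forall_eq] at hw ⊢
        exact congrArg Subtype.val hw
      have hC := hD _ hzN
      obtain ⟨t, ht⟩ := IsPGroup.iff_card.1
        (P.isPGroup'.to_subgroup (Subgroup.centralizer ({z} : Set ↥(P : Subgroup G))))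
      have hcPidx := Subgroup.card_mul_index (Subgroup.centralizer ({z} : Set ↥(P : Subgroup G)))
      set cP := Nat.card (Subgroup.centralizer ({z} : Set ↥(P : Subgroup G))) with hcP
      have h1 : Nat.card N * cP ∣ Nat.card (P : Subgroup G) * (P : Subgroup G).index := by
        rw [hPidx]
        exact (Nat.mul_dvd_mul_left _ hB).trans hC
      have hcop : (Nat.card N * cP).Coprime (P : Subgroup G).index := by
        rw [hk, ht, ← pow_add]
        exact Nat.Coprime.pow_left _ ((Nat.Prime.coprime_iff_not_dvd hp).2 hPnd)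
      have h2 : Nat.card N * cP ∣ Nat.card (P : Subgroup G) := hcop.dvd_of_dvd_mul_right h1
      have h3 : Nat.card N * cP ≤ Nat.card (P : Subgroup G) := Nat.le_of_dvd Nat.card_pos h2
      have hcPpos : 0 < cP := Nat.card_pos
      rw [← hcPidx] at h3
      have h4 : cP * Nat.card N ≤
          cP * Nat.card (Subgroup.upperCentralSeries ↥(P : Subgroup G) i) := by
        calc cP * Nat.card N = Nat.card N * cP := mul_comm _ _
          _ ≤ cP * (Subgroup.centralizer ({z} : Set ↥(P : Subgroup G))).index := h3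
          _ ≤ cP * Nat.card (Subgroup.upperCentralSeries ↥(P : Subgroup G) i) :=
              Nat.mul_le_mul_left _ hA
      exact Nat.le_of_mul_le_mul_left h4 hcPpos
    have hind : ∀ i : ℕ, (∃ j, Subgroup.upperCentralSeries ↥(P : Subgroup G) j = N') ∨
        Subgroup.upperCentralSeries ↥(P : Subgroup G) i ≤ N' := by
      intro i
      induction i with
      | zero =>
        right
        rw [Subgroup.upperCentralSeries_zero]
        exact bot_le
      | succ i ih =>
        rcases ih with h | h
        · exact Or.inl h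
        · rcases hstep i h with h2 | h2
          · exact Or.inl ⟨i, h2⟩
          · exact Or.inr h2
    have hnil : Group.IsNilpotent ↥(P : Subgroup G) := P.isPGroup'.isNilpotent
    obtain ⟨n, hn⟩ := hnil.nilpotent'
    rcases hind n with h | h
    · exact h
    · refine ⟨n, ?_⟩
      rw [hn] at h ⊢
      exact (top_le_iff.1 h).symm

end Cfsg.Agent.S4838
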