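import Cfsg.Statements.S4839
import Cfsg.Agent.S4837
import Cfsg.Agent.S4838
import Cfsg.Agent.S4142
import Cfsg.Agent.S0199
import Mathlib

set_option autoImplicit false
open Cfsg

namespace Cfsg.Agent.S4839

open scoped Pointwise

universe u

variable {G : Type u} [Group G]

/-- An involution acting without nontrivial fixed points on a finite normal subgroup inverts it. -/
theorem inv_of_fpf [Finite G] (N : Subgroup G) [N.Normal] (t : G) (ht : t * t = 1)
    (hfp : ∀ y ∈ N, t * y * t⁻¹ = y → y = 1) : ∀ y ∈ N, t * y * t⁻¹ = y⁻¹ := by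
  have htinv : t⁻¹ = t := inv_eq_of_mul_eq_one_left ht
  let f : N → N := fun n => ⟨(n : G)⁻¹ * (t * n * t⁻¹),
    mul_mem (inv_mem n.2) (Subgroup.Normal.conj_mem inferInstance _ n.2 t)⟩
  have hinj : Function.Injective f := by
    intro a b hab
    have h1 : (a : G)⁻¹ * (t * a * t⁻¹) = (b : G)⁻¹ * (t * b * t⁻¹) := congrArg Subtype.val hab
    have h2 : t * ((b : G) * (a : G)⁻¹) * t⁻¹ = (b : G) * (a : G)⁻¹ := by
      have : t * ((b : G) * (a : G)⁻¹) * t⁻¹ = (t * b * t⁻¹) * (t * a * t⁻¹)⁻¹ := by group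
      rw [this]
      have h3 : t * (a : G) * t⁻¹ = (a : G) * ((b : G)⁻¹ * (t * b * t⁻¹)) := by
        rw [← h1]; group
      rw [h3]; group
    have h4 := hfp _ (mul_mem b.2 (inv_mem a.2)) h2
    apply Subtype.ext
    have : (b : G) = a := mul_inv_eq_one.mp h4
    exact this.symm
  have hsurj : Function.Surjective f := Finite.injective_iff_surjective.mp hinj
  intro y hy
  obtain ⟨n, hn⟩ := hsurj ⟨y, hy⟩
  have hy' : y = (n : G)⁻¹ * (t * n * t⁻¹) := (congrArg Subtype.val hn).symm
  rw [hy', htinv]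
  have e1 : t * ((n : G)⁻¹ * (t * n * t)) * t = t * (n : G)⁻¹ * t * n * (t * t) := by group
  have e2 : ((n : G)⁻¹ * (t * n * t))⁻¹ = t⁻¹ * (n : G)⁻¹ * t⁻¹ * n := by group
  rw [e1, e2, ht, htinv, mul_one]

/-- If `N = O_p(G)` and centralizers of nonidentity elements of `N` are `p`-groups, then `N` is
self-centralizing. -/
theorem cent_le_of_core [Finite G] {p : ℕ} [Fact p.Prime] (N : Subgroup G) [N.Normal]
    (hN1 : N ≠ ⊥)
    (hsyl : ∀ x ∈ N, x ≠ 1 → ∃ P : Sylow p G, Subgroup.centralizer ({x} : Set G) = P)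
    (hcore : N = Cfsg.pCore p G) : Subgroup.centralizer (N : Set G) ≤ N := by
  obtain ⟨a, ha⟩ := (Subgroup.ne_bot_iff_exists_ne_one (H := N)).mp hN1
  have hx : (a : G) ∈ N := a.2
  have hx1 : (a : G) ≠ 1 := fun h => ha (Subtype.ext h)
  generalize (a : G) = x at hx hx1
  obtain ⟨P, hP⟩ := hsyl x hx hx1
  have hle : Subgroup.centralizer (N : Set G) ≤ Subgroup.centralizer ({x} : Set G) :=
    Subgroup.centralizer_le (Set.singleton_subset_iff.2 hx)
  have hp : IsPGroup p ↥(Subgroup.centralizer (N : Set G)) := by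
    rw [hP] at hle
    exact P.isPGroup'.to_le hle
  have hnorm : (Subgroup.centralizer (N : Set G)).Normal := Subgroup.normal_centralizer
  conv_rhs => rw [hcore]
  exact le_sSup ⟨hnorm, hp⟩

/-- Odd `p`: centralizers of nonidentity elements of `N` are equal to `N`. -/
theorem cent_eq_odd [Finite G] {p : ℕ} [Fact p.Prime] (hp2 : p ≠ 2) (N : Subgroup G) [N.Normal]
    (hNp : IsPGroup p N)
    (hconj : ∀ x y : G, x ∈ N → y ∈ N → x ≠ 1 → y ≠ 1 → IsConj x y)
    (hsyl : ∀ x ∈ N, x ≠ 1 → ∃ P : Sylow p G, Subgroup.centralizer ({x} : Set G) = P)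
    (hcam : ∀ g : G, g ∉ N → Nat.card (Subgroup.centralizer ({g} : Set G)) =
      Nat.card (Subgroup.centralizer ({(g : G ⧸ N)} : Set (G ⧸ N))))
    (hcent : Subgroup.centralizer (N : Set G) ≤ N)
    (x : G) (hx : x ∈ N) (hx1 : x ≠ 1) : Subgroup.centralizer ({x} : Set G) = N := by
  have hpp : p.Prime := Fact.out
  have hno2 : ∀ y ∈ N, y * y = 1 → y = 1 := by
    intro y hy hyy
    obtain ⟨k, hk⟩ := hNp ⟨y, hy⟩
    have h1 : y ^ (p ^ k) = 1 := by simpa using congrArg Subtype.val hk
    have h2 : y ^ 2 = 1 := by rw [pow_two]; exact hyy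
    have hcop : Nat.Coprime (p ^ k) 2 :=
      Nat.Coprime.pow_left _ ((Nat.coprime_primes hpp Nat.prime_two).mpr hp2)
    have h3 := Nat.dvd_gcd (orderOf_dvd_of_pow_eq_one h1) (orderOf_dvd_of_pow_eq_one h2)
    rw [Nat.Coprime] at hcop
    rw [hcop] at h3
    exact orderOf_eq_one_iff.mp (Nat.dvd_one.mp h3)
  have hxinv1 : x⁻¹ ≠ 1 := by simpa using hx1
  obtain ⟨g, hg⟩ := isConj_iff.mp (hconj x x⁻¹ hx (inv_mem hx) hx1 hxinv1)
  have h2dvd : 2 ∣ orderOf g := by
    by_contra hodd
    have hodd' : Odd (orderOf g) := Nat.not_even_iff_odd.mp (fun h => hodd (even_iff_two_dvd.mp h))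
    obtain ⟨m, hm⟩ := hodd'
    have hgg : g ^ (2 * (m + 1)) = g := by
      have : 2 * (m + 1) = orderOf g + 1 := by omega
      rw [this, pow_succ, pow_orderOf_eq_one, one_mul]
    have hsq : g ^ 2 * x * (g ^ 2)⁻¹ = x := by
      have e : g ^ 2 * x * (g ^ 2)⁻¹ = g * (g * x * g⁻¹) * g⁻¹ := by rw [pow_two]; group
      rw [e, hg]
      have e2 : g * x⁻¹ * g⁻¹ = (g * x * g⁻¹)⁻¹ := by group
      rw [e2, hg, inv_inv]
    have hpow : ∀ j : ℕ, (g ^ 2) ^ j * x * ((g ^ 2) ^ j)⁻¹ = x := by
      intro j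
      induction j with
      | zero => simp
      | succ j ih =>
        have e : (g ^ 2) ^ (j + 1) * x * ((g ^ 2) ^ (j + 1))⁻¹ =
            (g ^ 2) ^ j * (g ^ 2 * x * (g ^ 2)⁻¹) * ((g ^ 2) ^ j)⁻¹ := by
          rw [pow_succ]; group
        rw [e, hsq, ih]
    have h3 := hpow (m + 1)
    rw [← pow_mul, hgg, hg] at h3
    apply hx1
    apply hno2 x hx
    nth_rewrite 1 [← h3]
    exact inv_mul_cancel x
  have h2G : 2 ∣ Nat.card G := dvd_trans h2dvd (orderOf_dvd_natCard g)
  have : Fact (Nat.Prime 2) := ⟨Nat.prime_two⟩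
  obtain ⟨t, ht⟩ := exists_prime_orderOf_dvd_card' (G := G) 2 h2G
  have htt : t * t = 1 := by rw [← pow_two, ← ht]; exact pow_orderOf_eq_one t
  have htinv : t⁻¹ = t := inv_eq_of_mul_eq_one_left htt
  have ht1 : t ≠ 1 := by intro h; rw [h, orderOf_one] at ht; norm_num at ht
  have htN : t ∉ N := fun h => ht1 (hno2 t h htt)
  have hfp : ∀ y ∈ N, t * y * t⁻¹ = y → y = 1 := by
    intro y hy hty
    by_contra hy1
    obtain ⟨P, hP⟩ := hsyl y hy hy1
    have htP : t ∈ (P : Subgroup G) := by
      rw [← hP, Subgroup.mem_centralizer_iff]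
      intro z hz
      rw [Set.mem_singleton_iff] at hz
      subst hz
      have := congrArg (fun w => w * t) hty
      simp only [inv_mul_cancel_right] at this
      exact this.symm
    obtain ⟨k, hk⟩ := P.isPGroup' ⟨t, htP⟩
    have h1 : t ^ (p ^ k) = 1 := by simpa using congrArg Subtype.val hk
    have h2 : 2 ∣ p ^ k := ht ▸ orderOf_dvd_of_pow_eq_one h1
    have h3 := Nat.Prime.dvd_of_dvd_pow Nat.prime_two h2
    exact hp2 ((Nat.prime_dvd_prime_iff_eq Nat.prime_two hpp).mp h3).symm
  have hinv := inv_of_fpf N t htt hfp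
  have hcomm : ∀ a ∈ N, ∀ b ∈ N, a * b = b * a := by
    intro a ha b hb
    have h1 := hinv (a * b) (mul_mem ha hb)
    have h2 : t * (a * b) * t⁻¹ = (t * a * t⁻¹) * (t * b * t⁻¹) := by group
    rw [h2, hinv a ha, hinv b hb] at h1
    have h3 := congrArg (fun z => z⁻¹) h1
    simp only [mul_inv_rev, inv_inv] at h3
    exact h3.symm
  have hcentral : Subgroup.centralizer ({(t : G ⧸ N)} : Set (G ⧸ N)) = ⊤ := by
    rw [eq_top_iff]
    intro q _
    obtain ⟨g', rfl⟩ := QuotientGroup.mk_surjective q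
    rw [Subgroup.mem_centralizer_iff]
    intro z hz
    rw [Set.mem_singleton_iff] at hz
    subst hz
    have hmem : t * (g' * t * g'⁻¹) ∈ N := by
      apply hcent
      rw [Subgroup.mem_centralizer_iff]
      intro y hy
      have h1 : g' * t * g'⁻¹ * y * (g' * t * g'⁻¹)⁻¹ = y⁻¹ := by
        have hy' : g'⁻¹ * y * g' ∈ N := by
          simpa using Subgroup.Normal.conj_mem (inferInstance : N.Normal) y hy g'⁻¹
        have h0 := hinv _ hy'
        have e : g' * t * g'⁻¹ * y * (g' * t * g'⁻¹)⁻¹ =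
            g' * (t * (g'⁻¹ * y * g') * t⁻¹) * g'⁻¹ := by group
        rw [e, h0]; group
      have h2 : t * (g' * t * g'⁻¹) * y * (t * (g' * t * g'⁻¹))⁻¹ = y := by
        have e : t * (g' * t * g'⁻¹) * y * (t * (g' * t * g'⁻¹))⁻¹ =
            t * (g' * t * g'⁻¹ * y * (g' * t * g'⁻¹)⁻¹) * t⁻¹ := by group
        rw [e, h1, hinv _ (inv_mem hy), inv_inv]
      have h3 := congrArg (fun z => z * (t * (g' * t * g'⁻¹))) h2
      simp only [inv_mul_cancel_right] at h3
      exact h3.symm
    have hq : ((t * (g' * t * g'⁻¹) : G) : G ⧸ N) = 1 := (QuotientGroup.eq_one_iff _).mpr hmem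
    have htq : (t : G ⧸ N) * (t : G ⧸ N) = 1 := by
      rw [← QuotientGroup.mk_mul, htt]; rfl
    simp only [QuotientGroup.mk_mul, QuotientGroup.mk_inv] at hq
    have h4 : (g' : G ⧸ N) * (t : G ⧸ N) * (g' : G ⧸ N)⁻¹ = (t : G ⧸ N) := by
      calc (g' : G ⧸ N) * (t : G ⧸ N) * (g' : G ⧸ N)⁻¹
          = ((t : G ⧸ N) * (t : G ⧸ N)) * ((g' : G ⧸ N) * (t : G ⧸ N) * (g' : G ⧸ N)⁻¹) := by
            rw [htq, one_mul]
        _ = (t : G ⧸ N) * ((t : G ⧸ N) * ((g' : G ⧸ N) * (t : G ⧸ N) * (g' : G ⧸ N)⁻¹)) := by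
            rw [mul_assoc]
        _ = (t : G ⧸ N) := by rw [hq, mul_one]
    calc (t : G ⧸ N) * (g' : G ⧸ N)
        = ((g' : G ⧸ N) * (t : G ⧸ N) * (g' : G ⧸ N)⁻¹) * (g' : G ⧸ N) := by rw [h4]
      _ = (g' : G ⧸ N) * (t : G ⧸ N) := by group
  have hcardH : Nat.card (Subgroup.centralizer ({t} : Set G)) = N.index := by
    rw [hcam t htN, hcentral, Subgroup.card_top, Subgroup.index_eq_card]
  set H := Subgroup.centralizer ({t} : Set G) with hH
  have hdisj : Disjoint H N := by
    rw [Subgroup.disjoint_def]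
    intro y hyH hyN
    apply hfp y hyN
    have h0 := Subgroup.mem_centralizer_iff.mp hyH t (Set.mem_singleton t)
    rw [h0]; group
  have hcompl : Subgroup.IsComplement' H N := by
    apply Subgroup.isComplement'_of_card_mul_and_disjoint _ hdisj
    rw [hcardH, mul_comm]; exact Subgroup.card_mul_index N
  have hdecomp : ∀ g : G, ∃ h ∈ H, ∃ n ∈ N, h * n = g := by
    intro g
    obtain ⟨⟨⟨h, hh⟩, ⟨n, hn⟩⟩, hg⟩ := hcompl.2 g
    exact ⟨h, hh, n, hn, hg⟩
  apply le_antisymm
  · intro c hc
    obtain ⟨h, hh, n, hn, hg⟩ := hdecomp c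
    have hhx : h ∈ Subgroup.centralizer ({x} : Set G) := by
      have hnx : n ∈ Subgroup.centralizer ({x} : Set G) := by
        rw [Subgroup.mem_centralizer_iff]
        intro z hz
        rw [Set.mem_singleton_iff] at hz
        subst hz
        exact hcomm _ hx _ hn
      have e : h = c * n⁻¹ := by rw [← hg]; group
      rw [e]; exact mul_mem hc (inv_mem hnx)
    have hh1 : h = 1 := by
      by_contra hh1
      have hhN : h ∉ N := fun h' => hh1 (Subgroup.disjoint_def.mp hdisj hh h')
      have hc1 := hcam h hhN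
      set A := H ⊓ Subgroup.centralizer ({h} : Set G) with hA
      set B := N ⊓ Subgroup.centralizer ({h} : Set G) with hB
      have hle1 : Nat.card (Subgroup.centralizer ({(h : G ⧸ N)} : Set (G ⧸ N))) ≤ Nat.card A := by
        let φ : A → Subgroup.centralizer ({(h : G ⧸ N)} : Set (G ⧸ N)) := fun k =>
          ⟨((k : G) : G ⧸ N), by
            rw [Subgroup.mem_centralizer_iff]
            intro z hz
            rw [Set.mem_singleton_iff] at hz
            subst hz
            have h0 := Subgroup.mem_centralizer_iff.mp k.2.2 h (Set.mem_singleton h)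
            rw [← QuotientGroup.mk_mul, ← QuotientGroup.mk_mul, h0]⟩
        apply Nat.card_le_card_of_surjective φ
        rintro ⟨q, hq⟩
        obtain ⟨g', rfl⟩ := QuotientGroup.mk_surjective q
        obtain ⟨k, hk, n', hn', hg'⟩ := hdecomp g'
        have hkq : ((k : G) : G ⧸ N) = (g' : G ⧸ N) := by
          rw [← hg', QuotientGroup.mk_mul, (QuotientGroup.eq_one_iff n').mpr hn', mul_one]
        have hkc : k ∈ Subgroup.centralizer ({h} : Set G) := by
          rw [Subgroup.mem_centralizer_iff]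
          intro z hz
          rw [Set.mem_singleton_iff] at hz
          subst hz
          have h1 := Subgroup.mem_centralizer_iff.mp hq (z : G ⧸ N) (Set.mem_singleton _)
          rw [← hkq] at h1
          have h2 : (z * k * (k * z)⁻¹ : G) ∈ N := by
            rw [← QuotientGroup.eq_one_iff]
            simp only [QuotientGroup.mk_mul, QuotientGroup.mk_inv]
            rw [h1]; group
          have h3 : z * k * (k * z)⁻¹ ∈ H := mul_mem (mul_mem hh hk) (inv_mem (mul_mem hk hh))
          have h4 := Subgroup.disjoint_def.mp hdisj h3 h2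
          exact mul_inv_eq_one.mp h4
        exact ⟨⟨k, hk, hkc⟩, Subtype.ext hkq⟩
      have hle2 : Nat.card A * Nat.card B ≤ Nat.card (Subgroup.centralizer ({h} : Set G)) := by
        rw [← Nat.card_prod]
        apply Nat.card_le_card_of_injective (fun ab : A × B =>
          (⟨(ab.1 : G) * (ab.2 : G), mul_mem ab.1.2.2 ab.2.2.2⟩ :
            Subgroup.centralizer ({h} : Set G)))
        rintro ⟨a, b⟩ ⟨a', b'⟩ hab
        have hab' : (a : G) * (b : G) = (a' : G) * (b' : G) := congrArg Subtype.val hab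
        have h1 : (a' : G)⁻¹ * a = b' * (b : G)⁻¹ := by
          have e : (a' : G)⁻¹ * a = (a' : G)⁻¹ * ((a : G) * b) * (b : G)⁻¹ := by group
          rw [e, hab']; group
        have h2 : (a' : G)⁻¹ * a ∈ H := mul_mem (inv_mem a'.2.1) a.2.1
        have h3 : (a' : G)⁻¹ * a ∈ N := by rw [h1]; exact mul_mem b'.2.1 (inv_mem b.2.1)
        have h4 := Subgroup.disjoint_def.mp hdisj h2 h3
        have h5 : (a : G) = a' := (inv_mul_eq_one.mp h4).symm
        have h6 : (b : G) = b' := by
          rw [h5] at hab'; exact mul_left_cancel hab'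
        exact Prod.ext (Subtype.ext h5) (Subtype.ext h6)
      have hB2 : 1 < Nat.card B := by
        rw [Subgroup.one_lt_card_iff_ne_bot]
        intro hbot
        have hxB : x ∈ B := Subgroup.mem_inf.mpr ⟨hx, by
          rw [Subgroup.mem_centralizer_iff]
          intro z hz
          rw [Set.mem_singleton_iff] at hz
          subst hz
          exact (Subgroup.mem_centralizer_iff.mp hhx x (Set.mem_singleton x)).symm⟩
        rw [hbot] at hxB
        exact hx1 (Subgroup.mem_bot.mp hxB)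
      have hApos : 0 < Nat.card A := Nat.card_pos
      have h7 : Nat.card A * Nat.card B ≤ Nat.card A := by
        calc Nat.card A * Nat.card B ≤ Nat.card (Subgroup.centralizer ({h} : Set G)) := hle2
          _ = _ := hc1
          _ ≤ Nat.card A := hle1
      nlinarith
    rw [← hg, hh1, one_mul]; exact hn
  · intro n hn
    rw [Subgroup.mem_centralizer_iff]
    intro z hz
    rw [Set.mem_singleton_iff] at hz
    subst hz
    exact hcomm _ hx _ hn

/-- `p = 2`: centralizers of nonidentity elements of `N` are equal to `N`. -/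
theorem cent_eq_two [Finite G] [Fact (Nat.Prime 2)] (N : Subgroup G) [N.Normal]
    (hNp : IsPGroup 2 N)
    (hconj : ∀ x y : G, x ∈ N → y ∈ N → x ≠ 1 → y ≠ 1 → IsConj x y)
    (hsyl : ∀ x ∈ N, x ≠ 1 → ∃ P : Sylow 2 G, Subgroup.centralizer ({x} : Set G) = P)
    (hcam : ∀ g : G, g ∉ N → Nat.card (Subgroup.centralizer ({g} : Set G)) =
      Nat.card (Subgroup.centralizer ({(g : G ⧸ N)} : Set (G ⧸ N))))
    (hcent : Subgroup.centralizer (N : Set G) ≤ N) (hcore : N = Cfsg.pCore 2 G)
    (x : G) (hx : x ∈ N) (hx1 : x ≠ 1) : Subgroup.centralizer ({x} : Set G) = N := by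
  -- exponent 2
  have hexp : ∀ y ∈ N, y * y = 1 := by
    obtain ⟨k, hk⟩ := hNp ⟨x, hx⟩
    have hxk : x ^ (2 ^ k) = 1 := by simpa using congrArg Subtype.val hk
    obtain ⟨j, -, hj⟩ := (Nat.dvd_prime_pow Nat.prime_two).mp (orderOf_dvd_of_pow_eq_one hxk)
    have hj1 : j ≠ 0 := by
      rintro rfl
      rw [pow_zero, orderOf_eq_one_iff] at hj
      exact hx1 hj
    obtain ⟨i, rfl⟩ : ∃ i, j = i + 1 := ⟨j - 1, by omega⟩
    set z := x ^ (2 ^ i) with hz
    have hzN : z ∈ N := pow_mem hx _
    have hzz : z * z = 1 := by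
      rw [hz, ← pow_add, ← two_mul, ← pow_succ', ← hj]; exact pow_orderOf_eq_one x
    have hz1 : z ≠ 1 := by
      apply pow_ne_one_of_lt_orderOf (by positivity)
      rw [hj]; exact Nat.pow_lt_pow_right (by norm_num) (Nat.lt_succ_self i)
    intro y hy
    by_cases hy1 : y = 1
    · rw [hy1, one_mul]
    · obtain ⟨c, hc⟩ := isConj_iff.mp (hconj z y hzN hy hz1 hy1)
      rw [← hc]
      have e : c * z * c⁻¹ * (c * z * c⁻¹) = c * (z * z) * c⁻¹ := by group
      rw [e, hzz]; group
  have hinvN : ∀ y ∈ N, y⁻¹ = y := fun y hy => inv_eq_of_mul_eq_one_left (hexp y hy)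
  have hcomm : ∀ a ∈ N, ∀ b ∈ N, a * b = b * a := by
    intro a ha b hb
    have h1 := hinvN (a * b) (mul_mem ha hb)
    rw [mul_inv_rev, hinvN a ha, hinvN b hb] at h1
    exact h1.symm
  have hcam' := (Cfsg.Agent.S4142.result N).mpr hcam
  have hnoinv : ∀ t : G, t * t = 1 → t ∈ N := by
    intro t htt
    by_contra htN
    apply htN
    apply hcent
    rw [Subgroup.mem_centralizer_iff]
    intro n hn
    obtain ⟨c, hc⟩ := hcam' t htN n hn
    have h1 : (t * n) * (t * n) = 1 := by
      rw [← hc]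
      have e : c * t * c⁻¹ * (c * t * c⁻¹) = c * (t * t) * c⁻¹ := by group
      rw [e, htt]; group
    have h2 : (t * n)⁻¹ = t * n := inv_eq_of_mul_eq_one_left h1
    rw [mul_inv_rev, hinvN n hn, inv_eq_of_mul_eq_one_left htt] at h2
    exact h2
  have hodd : ¬ 2 ∣ Nat.card (G ⧸ N) := by
    intro h2
    obtain ⟨ubar, hu⟩ := exists_prime_orderOf_dvd_card' (G := G ⧸ N) 2 h2
    have huu : ubar * ubar = 1 := by rw [← pow_two, ← hu]; exact pow_orderOf_eq_one ubar
    have hui : ubar⁻¹ = ubar := inv_eq_of_mul_eq_one_left huu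
    have hu1 : ubar ≠ 1 := by intro h; rw [h, orderOf_one] at hu; norm_num at hu
    set X := Subgroup.zpowers ubar with hXdef
    have hX : IsPGroup 2 X := IsPGroup.of_card (n := 1) (by rw [Nat.card_zpowers, hu, pow_one])
    by_cases hall : ∀ g : G ⧸ N, IsPGroup 2 ↥(X ⊔ X.map (MulAut.conj g).toMonoidHom)
    · obtain ⟨M, hMn, hMp, hXM⟩ := Cfsg.Agent.S0199.result X hX hall
      have hker : IsPGroup 2 (QuotientGroup.mk' N).ker := by
        rw [QuotientGroup.ker_mk']; exact hNp
      have hMc : IsPGroup 2 (M.comap (QuotientGroup.mk' N)) := hMp.comap_of_ker_isPGroup _ hker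
      have hMcn : (M.comap (QuotientGroup.mk' N)).Normal := hMn.comap _
      have hle : M.comap (QuotientGroup.mk' N) ≤ N := by
        conv_rhs => rw [hcore]
        exact le_sSup ⟨hMcn, hMc⟩
      obtain ⟨u, hu'⟩ := QuotientGroup.mk_surjective ubar
      have humem : u ∈ M.comap (QuotientGroup.mk' N) := by
        rw [Subgroup.mem_comap]
        show (u : G ⧸ N) ∈ M
        rw [hu']
        exact hXM (Subgroup.mem_zpowers _)
      apply hu1
      rw [← hu']
      exact (QuotientGroup.eq_one_iff u).mpr (hle humem)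
    · obtain ⟨gbar, hg⟩ := not_forall.mp hall
      set wbar := gbar * ubar * gbar⁻¹ with hw
      have hmap : X.map (MulAut.conj gbar).toMonoidHom = Subgroup.zpowers wbar := by
        rw [hXdef, MonoidHom.map_zpowers]; rfl
      have hww : wbar * wbar = 1 := by
        have e : wbar * wbar = gbar * (ubar * ubar) * gbar⁻¹ := by rw [hw]; group
        rw [e, huu]; group
      have hwi : wbar⁻¹ = wbar := inv_eq_of_mul_eq_one_left hww
      set cbar := ubar * wbar with hc
      have hconjc : ubar * cbar * ubar⁻¹ = cbar⁻¹ := by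
        rw [hc, mul_inv_rev, hui, hwi, ← mul_assoc, huu, one_mul]
      have hnot : ¬ ∃ a : ℕ, orderOf cbar = 2 ^ a := by
        rintro ⟨a, ha⟩
        apply hg
        have hC : IsPGroup 2 (Subgroup.zpowers cbar) :=
          IsPGroup.of_card (n := a) (by rw [Nat.card_zpowers, ha])
        have hnorm : X ≤ Subgroup.normalizer (Subgroup.zpowers cbar : Set (G ⧸ N)) := by
          rw [hXdef, Subgroup.zpowers_le, Subgroup.mem_normalizer_iff_map_conj_eq,
            MonoidHom.map_zpowers]
          have e : ((MulAut.conj ubar : (G ⧸ N) ≃* (G ⧸ N)) : (G ⧸ N) →* (G ⧸ N)) cbar = cbar⁻¹ := by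
            show ubar * cbar * ubar⁻¹ = cbar⁻¹
            exact hconjc
          rw [e, Subgroup.zpowers_inv]
        have hsup : IsPGroup 2 ↥(X ⊔ Subgroup.zpowers cbar) := hX.to_sup_of_normal_right' hC hnorm
        apply hsup.to_le
        rw [hmap]
        apply sup_le le_sup_left
        rw [Subgroup.zpowers_le]
        have e : wbar = ubar⁻¹ * cbar := by rw [hc]; group
        rw [e]
        exact mul_mem (inv_mem (Subgroup.mem_sup_left (Subgroup.mem_zpowers _)))
          (Subgroup.mem_sup_right (Subgroup.mem_zpowers _))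
      have hk0 : orderOf cbar ≠ 0 := (orderOf_pos cbar).ne'
      rcases Nat.eq_two_pow_or_exists_odd_prime_and_dvd (orderOf cbar) with h2' | ⟨q, hq, hqd, hqodd⟩
      · exact hnot h2'
      have hq2 : q ≠ 2 := by
        rintro rfl
        exact (by decide : ¬ Odd 2) hqodd
      have : Fact q.Prime := ⟨hq⟩
      set rbar := cbar ^ (orderOf cbar / q) with hr
      have hrord : orderOf rbar = q := orderOf_pow_orderOf_div hk0 hqd
      have hrconj : ubar * rbar * ubar⁻¹ = rbar⁻¹ := by
        rw [hr, ← conj_pow, hconjc, inv_pow]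
      obtain ⟨u, hu'⟩ := QuotientGroup.mk_surjective ubar
      obtain ⟨r₁, hr₁⟩ := QuotientGroup.mk_surjective rbar
      set r := r₁ ^ 2 with hrdef
      have hqN : r₁ ^ q ∈ N := by
        rw [← QuotientGroup.eq_one_iff, QuotientGroup.mk_pow, hr₁, ← hrord]
        exact pow_orderOf_eq_one _
      have hrq : r ^ q = 1 := by
        rw [hrdef, ← pow_mul, mul_comm, pow_mul, pow_two]; exact hexp _ hqN
      have hrbar2 : ((r : G) : G ⧸ N) = rbar ^ 2 := by rw [hrdef, QuotientGroup.mk_pow, hr₁]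
      have hrbar2_ne : rbar ^ 2 ≠ 1 := by
        intro h
        have h3 := orderOf_dvd_of_pow_eq_one h
        rw [hrord] at h3
        exact hq2 ((Nat.prime_dvd_prime_iff_eq hq Nat.prime_two).mp h3)
      have hrN : r ∉ N := by
        intro h; apply hrbar2_ne; rw [← hrbar2]; exact (QuotientGroup.eq_one_iff r).mpr h
      have hr1 : r ≠ 1 := fun h => hrN (h ▸ N.one_mem)
      have hrord' : orderOf r = q := orderOf_eq_prime hrq hr1
      have hfix : ∀ y ∈ N, r * y * r⁻¹ = y → y = 1 := by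
        intro y hy hry
        by_contra hy1
        obtain ⟨P, hP⟩ := hsyl y hy hy1
        have hrP : r ∈ (P : Subgroup G) := by
          rw [← hP, Subgroup.mem_centralizer_iff]
          intro z hz
          rw [Set.mem_singleton_iff] at hz
          subst hz
          have h0 := congrArg (fun w => w * r) hry
          simp only [inv_mul_cancel_right] at h0
          exact h0.symm
        obtain ⟨k, hk⟩ := P.isPGroup' ⟨r, hrP⟩
        have h1 : r ^ (2 ^ k) = 1 := by simpa using congrArg Subtype.val hk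
        have h2'' : q ∣ 2 ^ k := hrord' ▸ orderOf_dvd_of_pow_eq_one h1
        have h3 := Nat.Prime.dvd_of_dvd_pow hq h2''
        exact hq2 ((Nat.prime_dvd_prime_iff_eq hq Nat.prime_two).mp h3)
      have hn₀ : r * (u * r * u⁻¹) ∈ N := by
        rw [← QuotientGroup.eq_one_iff]
        simp only [QuotientGroup.mk_mul, QuotientGroup.mk_inv]
        rw [hrbar2, hu', ← conj_pow, hrconj]; group
      let φ : N → N := fun v => ⟨r⁻¹ * v * r * (v : G)⁻¹, by
        have h0 : r⁻¹ * (v : G) * r ∈ N := by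
          simpa using Subgroup.Normal.conj_mem (inferInstance : N.Normal) v v.2 r⁻¹
        exact mul_mem h0 (inv_mem v.2)⟩
      have hφinj : Function.Injective φ := by
        intro v w hvw
        have h1 : r⁻¹ * (v : G) * r * (v : G)⁻¹ = r⁻¹ * (w : G) * r * (w : G)⁻¹ :=
          congrArg Subtype.val hvw
        have h2'' : (v : G) * r * (v : G)⁻¹ = (w : G) * r * (w : G)⁻¹ := by
          have h0 := congrArg (fun z => r * z) h1
          simpa [mul_assoc] using h0
        have h3 : r * ((w : G)⁻¹ * v) * r⁻¹ = (w : G)⁻¹ * v := by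
          have e : r * ((w : G)⁻¹ * v) * r⁻¹ =
              (w : G)⁻¹ * ((w : G) * r * (w : G)⁻¹) * (v : G) * r⁻¹ := by group
          rw [e, ← h2'']; group
        have h4 := hfix _ (mul_mem (inv_mem w.2) v.2) h3
        exact Subtype.ext (inv_mul_eq_one.mp h4).symm
      have hφsurj := Finite.injective_iff_surjective.mp hφinj
      have htarget : u⁻¹ * (r * (u * r * u⁻¹))⁻¹ * u ∈ N := by
        simpa using Subgroup.Normal.conj_mem (inferInstance : N.Normal) _ (inv_mem hn₀) u⁻¹
      obtain ⟨v, hv⟩ := hφsurj ⟨_, htarget⟩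
      have hv' : r⁻¹ * (v : G) * r * (v : G)⁻¹ = u⁻¹ * (r * (u * r * u⁻¹))⁻¹ * u :=
        congrArg Subtype.val hv
      set u' := u * (v : G) with hu'def
      have hu'r : u' * r * u'⁻¹ = r⁻¹ := by
        have e : u' * r * u'⁻¹ =
            (u * r * u⁻¹) * (u * (r⁻¹ * (v : G) * r * (v : G)⁻¹) * u⁻¹) := by
          rw [hu'def]; group
        rw [e, hv']; group
      have hmk' : ((u' : G) : G ⧸ N) = ubar := by
        rw [hu'def, QuotientGroup.mk_mul, (QuotientGroup.eq_one_iff (v : G)).mpr v.2, mul_one, hu']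
      have hu'sqN : u' * u' ∈ N := by
        rw [← QuotientGroup.eq_one_iff, QuotientGroup.mk_mul, hmk', huu]
      have hu'sq : u' * u' = 1 := by
        apply hfix _ hu'sqN
        have h2'' : u' * r⁻¹ = r * u' := by
          have e : u' * r⁻¹ = (u' * r * u'⁻¹)⁻¹ * u' := by group
          rw [e, hu'r, inv_inv]
        calc r * (u' * u') * r⁻¹ = (r * u') * (u' * r⁻¹) := by group
          _ = (u' * r⁻¹) * (r * u') := by rw [h2'']
          _ = u' * u' := by group
      have hu'N : u' ∈ N := hnoinv u' hu'sq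
      apply hu1
      rw [← hmk']
      exact (QuotientGroup.eq_one_iff u').mpr hu'N
  obtain ⟨P, hP⟩ := hsyl x hx hx1
  have hle : N ≤ Subgroup.centralizer ({x} : Set G) := by
    intro n hn
    rw [Subgroup.mem_centralizer_iff]
    intro z hz
    rw [Set.mem_singleton_iff] at hz
    subst hz
    exact hcomm _ hx _ hn
  apply le_antisymm _ hle
  have hCp : IsPGroup 2 ↥(Subgroup.centralizer ({x} : Set G)) := by rw [hP]; exact P.isPGroup'
  obtain ⟨a, ha⟩ := IsPGroup.iff_card.mp hCp
  have h1 : N.relIndex (Subgroup.centralizer ({x} : Set G)) ∣ 2 ^ a := ha ▸ Subgroup.relIndex_dvd_card _ _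
  obtain ⟨b, -, hb⟩ := (Nat.dvd_prime_pow Nat.prime_two).mp h1
  have h2 : N.relIndex (Subgroup.centralizer ({x} : Set G)) ∣ Nat.card (G ⧸ N) := by
    rw [← Subgroup.index_eq_card]; exact Subgroup.relIndex_dvd_index_of_normal _ _
  rw [← Subgroup.relIndex_eq_one, hb]
  rcases Nat.eq_zero_or_pos b with hb0 | hb0
  · rw [hb0, pow_zero]
  · exfalso
    apply hodd
    rw [hb] at h2
    exact dvd_trans (dvd_pow_self 2 (Nat.pos_iff_ne_zero.mp hb0)) h2

/-- Frobenius structure from `C_G(x) = N` for all nonidentity `x ∈ N`. -/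
theorem frob_of_cent [Finite G] {p : ℕ} [Fact p.Prime] (hG : 2 < Nat.card G) (N : Subgroup G)
    [N.Normal] (hN1 : N ≠ ⊥)
    (hconj : ∀ x y : G, x ∈ N → y ∈ N → x ≠ 1 → y ≠ 1 → IsConj x y)
    (hsyl : ∀ x ∈ N, x ≠ 1 → ∃ P : Sylow p G, Subgroup.centralizer ({x} : Set G) = P)
    (hC : ∀ x ∈ N, x ≠ 1 → Subgroup.centralizer ({x} : Set G) = N) :
    ∃ H : Subgroup G, Cfsg.IsFrobeniusComplement H ∧ Cfsg.frobeniusKernel H = (N : Set G) ∧
      Nat.card H + 1 = Nat.card N := by
  obtain ⟨a, ha⟩ := (Subgroup.ne_bot_iff_exists_ne_one (H := N)).mp hN1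
  have hx : (a : G) ∈ N := a.2
  have hx1 : (a : G) ≠ 1 := fun h => ha (Subtype.ext h)
  generalize (a : G) = x at hx hx1
  obtain ⟨P, hP⟩ := hsyl x hx hx1
  have hPN : (P : Subgroup G) = N := by rw [← hP, hC x hx hx1]
  have hcop : Nat.Coprime (Nat.card N) N.index := by
    have h0 := P.card_coprime_index
    rwa [hPN] at h0
  obtain ⟨H, hH⟩ := Subgroup.exists_right_complement'_of_coprime hcop
  have hdisj : Disjoint N H := hH.disjoint
  have hdecomp : ∀ g : G, ∃ n ∈ N, ∃ h ∈ H, n * h = g := by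
    intro g
    obtain ⟨⟨⟨n, hn⟩, ⟨h, hh⟩⟩, hg⟩ := hH.2 g
    exact ⟨n, hn, h, hh, hg⟩
  have hcomm : ∀ a ∈ N, ∀ b ∈ N, a * b = b * a := by
    intro a ha b hb
    by_cases ha1 : a = 1
    · rw [ha1, one_mul, mul_one]
    · have h0 : b ∈ Subgroup.centralizer ({a} : Set G) := by rw [hC a ha ha1]; exact hb
      exact Subgroup.mem_centralizer_iff.mp h0 a (Set.mem_singleton a)
  have hfree : ∀ h ∈ H, ∀ y ∈ N, y ≠ 1 → h * y = y * h → h = 1 := by
    intro h hh y hy hy1 hcomm'
    have h0 : h ∈ Subgroup.centralizer ({y} : Set G) := by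
      rw [Subgroup.mem_centralizer_iff]
      intro z hz
      rw [Set.mem_singleton_iff] at hz
      subst hz
      exact hcomm'.symm
    rw [hC y hy hy1] at h0
    exact Subgroup.disjoint_def.mp hdisj h0 hh
  have hcard : Nat.card H + 1 = Nat.card N := by
    have himg : (fun h : G => h * x * h⁻¹) '' (H : Set G) = (N : Set G) \ {1} := by
      ext y
      constructor
      · rintro ⟨h, hh, rfl⟩
        refine ⟨Subgroup.Normal.conj_mem inferInstance x hx h, ?_⟩
        simp only [Set.mem_singleton_iff]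
        intro h0
        apply hx1
        have e : x = h⁻¹ * (h * x * h⁻¹) * h := by group
        rw [e, h0]; group
      · rintro ⟨hyN, hy1⟩
        simp only [Set.mem_singleton_iff] at hy1
        obtain ⟨c, hc⟩ := isConj_iff.mp (hconj x y hx hyN hx1 hy1)
        obtain ⟨n, hn, h, hh, rfl⟩ := hdecomp c
        refine ⟨h, hh, ?_⟩
        have hm : h * x * h⁻¹ ∈ N := Subgroup.Normal.conj_mem inferInstance x hx h
        have e : n * h * x * (n * h)⁻¹ = n * (h * x * h⁻¹) * n⁻¹ := by group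
        rw [e, hcomm n hn _ hm] at hc
        rw [← hc]; group
    have hinj : Set.InjOn (fun h : G => h * x * h⁻¹) (H : Set G) := by
      intro h hh k hk hhk
      simp only at hhk
      have h1 : (k⁻¹ * h) * x = x * (k⁻¹ * h) := by
        have e : (k⁻¹ * h) * x = k⁻¹ * (h * x * h⁻¹) * h := by group
        rw [e, hhk]; group
      have h2 := hfree _ (mul_mem (inv_mem hk) hh) x hx hx1 h1
      exact (inv_mul_eq_one.mp h2).symm
    have h1 := Set.InjOn.ncard_image hinj
    rw [himg, Set.ncard_sdiff_singleton_of_mem (N.one_mem)] at h1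
    have hHc : Nat.card H = (H : Set G).ncard := Nat.card_coe_set_eq (H : Set G)
    have hNc : Nat.card N = (N : Set G).ncard := Nat.card_coe_set_eq (N : Set G)
    have hNpos : 0 < Nat.card N := Nat.card_pos
    omega
  have hmul : Nat.card N * Nat.card H = Nat.card G := hH.card_mul_card
  have hN3 : 3 ≤ Nat.card N := by
    by_contra hlt
    have hNpos : 0 < Nat.card N := Nat.card_pos
    have h12 : Nat.card N = 1 ∨ Nat.card N = 2 := by omega
    rcases h12 with h | h
    · rw [h] at hcard hmul; omega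
    · rw [h] at hcard hmul
      have : Nat.card H = 1 := by omega
      rw [this] at hmul; omega
  refine ⟨H, ⟨?_, ?_, ?_⟩, ?_, hcard⟩
  · intro h0
    rw [h0, Subgroup.card_bot] at hcard
    omega
  · intro h0
    rw [h0, Subgroup.card_top] at hmul
    have hGpos : 0 < Nat.card G := Nat.card_pos
    nlinarith
  · intro g hg
    rw [eq_bot_iff]
    rintro y ⟨hyH, hyg⟩
    obtain ⟨k, hkH, hk⟩ := (Subgroup.mem_smul_pointwise_iff_exists _ _ _).mp hyg
    rw [MulAut.smul_def, MulAut.conj_apply] at hk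
    obtain ⟨n, hn, h₀, hh₀, hg'⟩ := hdecomp g
    have hn1 : n ≠ 1 := by
      intro h0
      rw [h0, one_mul] at hg'
      exact hg (hg' ▸ hh₀)
    have hk'H : h₀ * k * h₀⁻¹ ∈ H := mul_mem (mul_mem hh₀ hkH) (inv_mem hh₀)
    have hyk : y = n * (h₀ * k * h₀⁻¹) * n⁻¹ := by
      rw [← hk, ← hg']; group
    have hmemH : y * (h₀ * k * h₀⁻¹)⁻¹ ∈ H := mul_mem hyH (inv_mem hk'H)
    have hmemN : y * (h₀ * k * h₀⁻¹)⁻¹ ∈ N := by
      have e : y * (h₀ * k * h₀⁻¹)⁻¹ =
          n * ((h₀ * k * h₀⁻¹) * n⁻¹ * (h₀ * k * h₀⁻¹)⁻¹) := by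
        rw [hyk]; group
      rw [e]
      exact mul_mem hn (Subgroup.Normal.conj_mem inferInstance _ (inv_mem hn) _)
    have hone : y * (h₀ * k * h₀⁻¹)⁻¹ = 1 := Subgroup.disjoint_def.mp hdisj hmemN hmemH
    have hyeq : y = h₀ * k * h₀⁻¹ := mul_inv_eq_one.mp hone
    have hcm : y * n = n * y := by
      have e : y * n = n * (h₀ * k * h₀⁻¹) * n⁻¹ * n := by rw [← hyk]
      rw [e, ← hyeq]; group
    exact Subgroup.mem_bot.mpr (hfree y hyH n hn hn1 hcm)
  · ext y
    constructor
    · intro hy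
      rcases hy with h1 | hall
      · rw [h1]; exact N.one_mem
      · by_contra hyN
        obtain ⟨n, hn, h, hh, hnh⟩ := hdecomp y
        have hh1 : h ≠ 1 := by
          intro h0
          rw [h0, mul_one] at hnh
          exact hyN (hnh ▸ hn)
        let ψ : N → N := fun v => ⟨(v : G) * h * (v : G)⁻¹ * h⁻¹, by
          have h0 : h * (v : G)⁻¹ * h⁻¹ ∈ N :=
            Subgroup.Normal.conj_mem inferInstance _ (inv_mem v.2) h
          have e : (v : G) * h * (v : G)⁻¹ * h⁻¹ = (v : G) * (h * (v : G)⁻¹ * h⁻¹) := by group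
          rw [e]; exact mul_mem v.2 h0⟩
        have hψinj : Function.Injective ψ := by
          intro v w hvw
          have h1 : (v : G) * h * (v : G)⁻¹ * h⁻¹ = (w : G) * h * (w : G)⁻¹ * h⁻¹ :=
            congrArg Subtype.val hvw
          have h2 : (v : G) * h * (v : G)⁻¹ = (w : G) * h * (w : G)⁻¹ := mul_right_cancel h1
          have h3 : h * ((w : G)⁻¹ * v) = ((w : G)⁻¹ * v) * h := by
            have e : ((w : G)⁻¹ * v) * h = (w : G)⁻¹ * ((v : G) * h * (v : G)⁻¹) * v := by group
            rw [e, h2]; group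
          by_contra hne
          have hne' : (w : G)⁻¹ * v ≠ 1 := fun h0 => hne (Subtype.ext (inv_mul_eq_one.mp h0).symm)
          exact hh1 (hfree h hh _ (mul_mem (inv_mem w.2) v.2) hne' h3)
        obtain ⟨v, hv⟩ := Finite.injective_iff_surjective.mp hψinj ⟨n, hn⟩
        have hv' : (v : G) * h * (v : G)⁻¹ * h⁻¹ = n := congrArg Subtype.val hv
        apply hall (v : G)
        rw [Subgroup.mem_smul_pointwise_iff_exists]
        refine ⟨h, hh, ?_⟩
        rw [MulAut.smul_def, MulAut.conj_apply, ← hnh, ← hv']; group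
    · intro hyN
      by_cases hy1 : y = 1
      · exact Or.inl hy1
      · right
        intro g hmem
        obtain ⟨k, hkH, hk⟩ := (Subgroup.mem_smul_pointwise_iff_exists _ _ _).mp hmem
        rw [MulAut.smul_def, MulAut.conj_apply] at hk
        have hkN : k ∈ N := by
          have e : k = g⁻¹ * y * g⁻¹⁻¹ := by rw [← hk]; group
          rw [e]; exact Subgroup.Normal.conj_mem inferInstance y hyN g⁻¹
        have hk1 : k = 1 := Subgroup.disjoint_def.mp hdisj hkN hkH
        apply hy1
        rw [← hk, hk1]; group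

/-- Let G be a finite group of order greater than 2 with an irreducible character χ nonzero on exactly two conjugacy classes, and let N be the normal p-subgroup of elements where χ is nonzero. Then N is the whole p-core O_p(G) if and only if G is a doubly transitive Frobenius group with kernel N: G has a Frobenius complement H whose Frobenius kernel is N and whose order is one less than that of N. -/
theorem result {G : Type*} [Group G] [Finite G] (hG : 2 < Nat.card G) (χ : Cfsg.IrrCharacter G) (hχ : Nat.card {C : ConjClasses G // ∃ g ∈ C.carrier, (χ : G → ℂ) g ≠ 0} = 2) (p : ℕ) [Fact p.Prime] (N : Subgroup G) [N.Normal] (hN : ∀ g : G, g ∈ N ↔ (χ : G → ℂ) g ≠ 0) (hNp : IsPGroup p N) (hN1 : N ≠ ⊥) :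
    N = Cfsg.pCore p G ↔ ∃ H : Subgroup G, Cfsg.IsFrobeniusComplement H ∧ Cfsg.frobeniusKernel H = (N : Set G) ∧ Nat.card H + 1 = Nat.card N := by
  have hχ1 : (χ : G → ℂ) 1 ≠ 0 := (hN 1).mp N.one_mem
  have hconj : ∀ x y : G, x ∈ N → y ∈ N → x ≠ 1 → y ≠ 1 → IsConj x y :=
    fun x y hx hy hx1 hy1 =>
      Cfsg.Agent.S4837.conj_of_card_two (χ : G → ℂ) hχ1 hχ x y ((hN x).mp hx) ((hN y).mp hy) hx1 hy1
  have hsyl := (Cfsg.Agent.S4837.result hG χ hχ p N hN hNp hN1).1
  obtain ⟨P₀⟩ := (Sylow.nonempty : Nonempty (Sylow p G))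
  have hcam := (Cfsg.Agent.S4838.result hG χ hχ p N hN hNp hN1 P₀).1
  constructor
  · intro hcore
    have hcent := cent_le_of_core N hN1 hsyl hcore
    have hC : ∀ x ∈ N, x ≠ 1 → Subgroup.centralizer ({x} : Set G) = N := by
      intro x hx hx1
      by_cases hp2 : p = 2
      · subst hp2
        exact cent_eq_two N hNp hconj hsyl hcam hcent hcore x hx hx1
      · exact cent_eq_odd hp2 N hNp hconj hsyl hcam hcent x hx hx1
    exact frob_of_cent hG N hN1 hconj hsyl hC
  · rintro ⟨H, -, hK, hcard⟩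
    have hpp : p.Prime := Fact.out
    apply le_antisymm
    · exact le_sSup ⟨inferInstance, hNp⟩
    · apply sSup_le
      rintro M ⟨-, hMp⟩
      intro k hk
      by_contra hkN
      have hk' : k ∉ Cfsg.frobeniusKernel H := by rw [hK]; exact hkN
      have hex : k ≠ 1 ∧ ∃ g : G, k ∈ MulAut.conj g • H := by
        by_contra hcon
        apply hk'
        by_cases h1 : k = 1
        · exact Or.inl h1
        · right
          intro g hg
          exact hcon ⟨h1, g, hg⟩
      obtain ⟨hk1, g, hg⟩ := hex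
      obtain ⟨s, hs, hsk⟩ := (Subgroup.mem_smul_pointwise_iff_exists _ _ _).mp hg
      rw [MulAut.smul_def, MulAut.conj_apply] at hsk
      obtain ⟨j, hj⟩ := hMp ⟨k, hk⟩
      have hkj : k ^ (p ^ j) = 1 := by simpa using congrArg Subtype.val hj
      have hs1 : s ≠ 1 := by
        intro h0
        apply hk1
        rw [← hsk, h0]; group
      have hsj : s ^ (p ^ j) = 1 := by
        rw [← hsk, conj_pow] at hkj
        have e : s ^ (p ^ j) = g⁻¹ * (g * s ^ (p ^ j) * g⁻¹) * g := by group
        rw [e, hkj]; group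
      obtain ⟨i, -, hi⟩ := (Nat.dvd_prime_pow hpp).mp (orderOf_dvd_of_pow_eq_one hsj)
      have hi0 : i ≠ 0 := by
        rintro rfl
        rw [pow_zero, orderOf_eq_one_iff] at hi
        exact hs1 hi
      have hpH : p ∣ Nat.card H :=
        dvd_trans (hi ▸ dvd_pow_self p hi0) (Subgroup.orderOf_dvd_natCard H hs)
      obtain ⟨n, hn⟩ := IsPGroup.iff_card.mp hNp
      have hn0 : n ≠ 0 := by
        rintro rfl
        rw [pow_zero] at hn
        exact hN1 ((Subgroup.card_eq_one).mp hn)
      have hpN : p ∣ Nat.card N := hn ▸ dvd_pow_self p hn0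
      rw [← hcard] at hpN
      have hp1 : p ∣ 1 := (Nat.dvd_add_right hpH).mp hpN
      exact hpp.one_lt.ne' (Nat.dvd_one.mp hp1)

end Cfsg.Agent.S4839
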