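import Cfsg.Statements.S4840
import Cfsg.Agent.S4835
import Cfsg.Agent.S4837
import Cfsg.Agent.Lib.Lead.GagolaSolv

set_option autoImplicit false
open Cfsg

namespace Cfsg.Agent.S4840

/-- If the nonidentity elements of the normal subgroup `N` form the conjugacy class of `x`, the
centralizer of `x` has index `|N| - 1`. -/
theorem index_centralizer {G : Type*} [Group G] [Finite G] (N : Subgroup G) [N.Normal] (x : G)
    (hx : x ∈ N) (hx1 : x ≠ 1) (hconj : ∀ y ∈ N, y ≠ 1 → ∃ g : G, g * x * g⁻¹ = y) :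
    (Subgroup.centralizer ({x} : Set G)).index = Nat.card N - 1 := by
  classical
  have hcard : Nat.card ↥((N : Set G) \ {1}) = Nat.card N - 1 := by
    rw [Nat.card_coe_set_eq,
      Set.ncard_sdiff_singleton_of_mem (show (1 : G) ∈ (N : Set G) from N.one_mem)]
    rfl
  rw [← hcard, Subgroup.index_eq_card]
  have hmem : ∀ g : G, g * x * g⁻¹ ∈ (N : Set G) \ {1} := by
    intro g
    refine ⟨Subgroup.Normal.conj_mem inferInstance x hx g, fun h => hx1 ?_⟩
    have h' : g * x * g⁻¹ = 1 := h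
    calc x = g⁻¹ * (g * x * g⁻¹) * g := by group
      _ = 1 := by rw [h']; group
  let f : G ⧸ Subgroup.centralizer ({x} : Set G) → ↥((N : Set G) \ {1}) :=
    Quotient.lift (s := QuotientGroup.leftRel _) (fun g => ⟨g * x * g⁻¹, hmem g⟩) (by
      intro g g' hgg'
      have hc0 : g⁻¹ * g' ∈ Subgroup.centralizer ({x} : Set G) :=
        QuotientGroup.leftRel_apply.mp hgg'
      have hc := Subgroup.mem_centralizer_singleton_iff.mp hc0
      apply Subtype.ext
      show g * x * g⁻¹ = g' * x * g'⁻¹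
      have e : g' * x * g'⁻¹ = g * ((g⁻¹ * g') * x) * (g⁻¹ * g')⁻¹ * g⁻¹ := by group
      rw [e, hc]; group)
  have hf : ∀ g : G, f (QuotientGroup.mk g) = ⟨g * x * g⁻¹, hmem g⟩ := fun g => rfl
  apply Nat.card_eq_of_bijective f
  constructor
  · intro u v huv
    induction u using QuotientGroup.induction_on with | _ g => ?_
    induction v using QuotientGroup.induction_on with | _ g' => ?_
    rw [hf, hf] at huv
    have h1 : g * x * g⁻¹ = g' * x * g'⁻¹ := congrArg Subtype.val huv
    rw [QuotientGroup.eq, Subgroup.mem_centralizer_singleton_iff]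
    calc g⁻¹ * g' * x = g⁻¹ * (g' * x * g'⁻¹) * g' := by group
      _ = g⁻¹ * (g * x * g⁻¹) * g' := by rw [h1]
      _ = x * (g⁻¹ * g') := by group
  · rintro ⟨y, hyN, hy1⟩
    obtain ⟨g, hg⟩ := hconj y hyN hy1
    exact ⟨QuotientGroup.mk g, Subtype.ext hg⟩

/-- Let G be a finite solvable group of order greater than 2 with an irreducible character nonzero on exactly two conjugacy classes. Then there is exactly one prime p with O_p(G) ≠ 1, and the quotient G/O_p(G) has a normal p-complement and commutative Sylow p-subgroups. -/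
theorem result {G : Type*} [Group G] [Finite G] [hs : Group.IsSolvable G] (hG : 2 < Nat.card G) (χ : Cfsg.IrrCharacter G) (hχ : Nat.card {C : ConjClasses G // ∃ g ∈ C.carrier, (χ : G → ℂ) g ≠ 0} = 2) :
    ∃ p : ℕ, p.Prime ∧ (∀ q : ℕ, q.Prime → (Cfsg.pCore q G ≠ ⊥ ↔ q = p)) ∧
      Cfsg.HasNormalPComplement p (G ⧸ Cfsg.pCore p G) ∧ ∀ Q : Sylow p (G ⧸ Cfsg.pCore p G), IsMulCommutative (Q : Subgroup (G ⧸ Cfsg.pCore p G)) := by
  classical
  obtain ⟨N, hNn, hN1, hmin, ⟨p, hp, hNea⟩, hNχ, hconj⟩ := Cfsg.Agent.S4835.result hG χ hχ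
  haveI : Fact p.Prime := ⟨hp⟩
  haveI := hNn
  have hNpow : ∀ x ∈ N, x ^ p = 1 := hNea.2
  have hNp : IsPGroup p N := fun x => ⟨1, Subtype.ext (by
    rw [pow_one, Subgroup.coe_pow]; exact hNpow x x.2)⟩
  have hN : ∀ g : G, g ∈ N ↔ (χ : G → ℂ) g ≠ 0 := fun g => (hNχ g).symm
  have hsyl := (Cfsg.Agent.S4837.result hG χ hχ p N hN hNp hN1).1
  obtain ⟨x₀, hx₀N, hx₀1⟩ : ∃ x ∈ N, x ≠ 1 := by
    by_contra h
    apply hN1
    rw [eq_bot_iff]
    intro y hy
    by_contra hy1
    exact h ⟨y, hy, fun h1 => hy1 (Subgroup.mem_bot.mpr h1)⟩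
  refine ⟨p, hp, ?_, ?_⟩
  · intro q hq
    constructor
    · intro hne
      have hle : N ≤ Cfsg.pCore q G := hmin _ (Cfsg.pCore_normal q G) hne
      obtain ⟨j, hj⟩ := (Cfsg.Agent.Lib.Helper47.Basic.pCore_isPGroup q G) ⟨x₀, hle hx₀N⟩
      have hj' : x₀ ^ q ^ j = 1 := by
        have h1 := congrArg Subtype.val hj
        rw [Subgroup.coe_pow] at h1
        exact h1
      have ho : orderOf x₀ = p := orderOf_eq_prime (hNpow x₀ hx₀N) hx₀1
      have hd : p ∣ q ^ j := ho ▸ orderOf_dvd_of_pow_eq_one hj'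
      exact ((Nat.prime_dvd_prime_iff_eq hp hq).mp (hp.dvd_of_dvd_pow hd)).symm
    · rintro rfl
      intro hbot
      have hle : N ≤ Cfsg.pCore q G := le_sSup ⟨hNn, hNp⟩
      rw [hbot] at hle
      exact hN1 (eq_bot_iff.mpr hle)
  · -- `O_p(G)` centralizes `N`
    have hOcent : ∀ g ∈ Cfsg.pCore p G, ∀ x ∈ N, g * x * g⁻¹ = x := by
      intro g hg x hx
      by_cases hx1 : x = 1
      · rw [hx1]; group
      · obtain ⟨P, hP⟩ := hsyl x hx hx1
        have hgP : g ∈ (P : Subgroup G) := Cfsg.Agent.Lib.Helper47.Basic.pCore_le_sylow P hg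
        rw [← hP, Subgroup.mem_centralizer_singleton_iff] at hgP
        rw [hgP]; group
    letI instC : CommGroup ↥N :=
      { (inferInstance : Group ↥N) with mul_comm := fun a b => hNea.1.is_comm.comm a b }
    let ρ : (G ⧸ Cfsg.pCore p G) →* MulAut ↥N :=
      QuotientGroup.lift (Cfsg.pCore p G) (MulAut.conjNormal (H := N)) (by
        intro g hg
        rw [MonoidHom.mem_ker]
        ext y
        rw [MulAut.conjNormal_apply, MulAut.one_apply]
        exact hOcent g hg y y.2)
    have hρ : ∀ (g : G) (y : N),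
        ((ρ (QuotientGroup.mk g) y : N) : G) = g * y * g⁻¹ := fun g y =>
      MulAut.conjNormal_apply g y
    -- cardinalities
    obtain ⟨P₀, hP₀⟩ := hsyl x₀ hx₀N hx₀1
    have hidx : (Subgroup.centralizer ({x₀} : Set G)).index = Nat.card N - 1 :=
      index_centralizer N x₀ hx₀N hx₀1 (fun y hy hy1 => hconj x₀ hx₀N y hy hx₀1 hy1)
    obtain ⟨b, hb⟩ := IsPGroup.iff_card.mp P₀.isPGroup'
    obtain ⟨d, hd⟩ := IsPGroup.iff_card.mp (Cfsg.Agent.Lib.Helper47.Basic.pCore_isPGroup p G)
    have hdb : d ≤ b := by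
      have h1 : Nat.card (Cfsg.pCore p G) ∣ Nat.card (P₀ : Subgroup G) :=
        Subgroup.card_dvd_of_le (Cfsg.Agent.Lib.Helper47.Basic.pCore_le_sylow P₀)
      rw [hb, hd] at h1
      exact (Nat.pow_dvd_pow_iff_le_right hp.one_lt).mp h1
    have hcardΓ : Nat.card (G ⧸ Cfsg.pCore p G) = (Nat.card N - 1) * p ^ (b - d) := by
      have h1 := (Cfsg.pCore p G).card_mul_index
      have h2 := (Subgroup.centralizer ({x₀} : Set G)).card_mul_index
      rw [hidx, hP₀, hb] at h2
      rw [hd, Subgroup.index_eq_card] at h1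
      have h3 : p ^ d * Nat.card (G ⧸ Cfsg.pCore p G) = p ^ d * ((Nat.card N - 1) * p ^ (b - d)) := by
        rw [h1, ← h2]
        have : p ^ b = p ^ d * p ^ (b - d) := by rw [← pow_add]; congr 1; omega
        rw [this]; ring
      exact Nat.eq_of_mul_eq_mul_left (pow_pos hp.pos d) h3
    have hkey : ∀ t ∈ commutator (G ⧸ Cfsg.pCore p G), ∀ k : ℕ, t ^ p ^ k = 1 → t = 1 := by
      intro t ht k hk
      refine Cfsg.Agent.Lib.Lead.GagolaSolv.key p ρ
        (Cfsg.Agent.Lib.Lead.GagolaSolv.pCore_quot_bot' p) ?_ ?_ (b - d) hcardΓ t ht k hk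
      · intro y
        apply Subtype.ext
        rw [Subgroup.coe_pow]
        exact hNpow y y.2
      · intro γ y hy1 hfix
        induction γ using QuotientGroup.induction_on with | _ g => ?_
        have h1 : g * (y : G) * g⁻¹ = y := by
          rw [← hρ g y, hfix]
        have hyG : (y : G) ≠ 1 := fun h => hy1 (Subtype.ext h)
        obtain ⟨P, hP⟩ := hsyl y y.2 hyG
        have hgP : g ∈ (P : Subgroup G) := by
          rw [← hP, Subgroup.mem_centralizer_singleton_iff]
          calc g * (y : G) = g * y * g⁻¹ * g := by group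
            _ = y * g := by rw [h1]
        obtain ⟨j, hj⟩ := P.isPGroup' ⟨g, hgP⟩
        have hj' : g ^ p ^ j = 1 := by
          have h2 := congrArg Subtype.val hj
          rw [Subgroup.coe_pow] at h2
          exact h2
        refine ⟨j, ?_⟩
        rw [← QuotientGroup.mk_pow, hj']
        rfl
    exact Cfsg.Agent.Lib.Lead.GagolaSolv.npc_of_comm p hkey

end Cfsg.Agent.S4840
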