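import Cfsg.Statements.S4864
import Cfsg.Agent.Lib.Helper81.RealE

set_option autoImplicit false
open Cfsg

namespace Cfsg.Agent.S4864

/-- In a group of odd order, the identity is the only element conjugate to its inverse. -/
theorem real_eq_one_of_odd {H : Type*} [Group H] [Finite H] (hodd : Odd (Nat.card H)) (g h : H)
    (hh : h * g * h⁻¹ = g⁻¹) : g = 1 := by
  have h1 : h * g⁻¹ * h⁻¹ = g := by
    calc h * g⁻¹ * h⁻¹ = (h * g * h⁻¹)⁻¹ := by group
      _ = g := by rw [hh, inv_inv]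
  have h2 : Commute (h ^ 2) g := by
    have h3 : h * h * g * (h * h)⁻¹ = g := by
      calc h * h * g * (h * h)⁻¹ = h * (h * g * h⁻¹) * h⁻¹ := by group
        _ = g := by rw [hh, h1]
    have h4 : h * h * g = g * (h * h) := by
      calc h * h * g = (h * h * g * (h * h)⁻¹) * (h * h) := by group
        _ = g * (h * h) := by rw [h3]
    rw [pow_two]
    exact h4
  obtain ⟨t, ht⟩ := hodd
  have h4 : ∀ y : H, y ^ (2 * t + 1) = 1 := by
    intro y
    rw [← ht]
    exact pow_card_eq_one'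
  have h5 : h = (h ^ 2) ^ (t + 1) := by
    rw [← pow_mul]
    have h6 : 2 * (t + 1) = (2 * t + 1) + 1 := by ring
    rw [h6, pow_succ, h4, one_mul]
  have h6 : Commute h g := by
    rw [h5]
    exact h2.pow_left _
  have h7 : g⁻¹ = g := by
    rw [← hh, h6.eq]
    group
  have h8 : g ^ 2 = 1 := by
    rw [pow_two]
    nth_rewrite 1 [← h7]
    exact inv_mul_cancel g
  have h9 := h4 g
  rw [pow_succ, pow_mul, h8, one_pow, one_mul] at h9
  exact h9

/-- Let p be a prime and G a finite group such that the subgroup generated by the p-elements of G is solvable and every real-valued irreducible complex character of G has degree prime to p. Then the normalizer of a Sylow p-subgroup of G contains an element of every real conjugacy class of G: every element conjugate to its inverse is conjugate to an element of that normalizer. -/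
theorem result {G : Type*} [Group G] [Finite G] (p : ℕ) [Fact p.Prime] (hsolv : Group.IsSolvable ↥(Subgroup.closure {g : G | ∃ k : ℕ, orderOf g = p ^ k})) (hreal : ∀ χ : Cfsg.IrrCharacter G, (∀ g : G, ((χ : G → ℂ) g).im = 0) → ¬ p ∣ Cfsg.charDegree (χ : G → ℂ)) (P : Sylow p G) (x : G) (hx : IsConj x x⁻¹) : ∃ y ∈ Subgroup.normalizer ((P : Subgroup G) : Set G), IsConj x y := by
  classical
  obtain ⟨K, hK0⟩ : ∃ K : Subgroup G,
      K = Subgroup.closure {g : G | ∃ k : ℕ, orderOf g = 2 ^ k} := ⟨_, rfl⟩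
  have hKn : K.Normal := by
    rw [hK0]
    exact Cfsg.Agent.Lib.Helper81.RealD.pow_closure_normal 2
  -- the index of K is odd
  have hodd : Odd K.index := by
    obtain ⟨S⟩ := (inferInstance : Nonempty (Sylow 2 G))
    have hSK : (S : Subgroup G) ≤ K := by
      intro s hs
      rw [hK0]
      apply Subgroup.subset_closure
      obtain ⟨k, hk⟩ := (IsPGroup.iff_orderOf.1 S.isPGroup') ⟨s, hs⟩
      refine ⟨k, ?_⟩
      rw [← hk]
      exact (Subgroup.orderOf_mk s hs).symm
    have h1 : K.index ∣ (S : Subgroup G).index := Subgroup.index_dvd_of_le hSK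
    have h2 : ¬ 2 ∣ (S : Subgroup G).index := S.not_dvd_index
    rw [← Nat.not_even_iff_odd, even_iff_two_dvd]
    exact fun h => h2 (h.trans h1)
  -- real elements lie in K
  have hxK : x ∈ K := by
    obtain ⟨c, hc⟩ := isConj_iff.1 hx
    have hodd' : Odd (Nat.card (G ⧸ K)) := by
      rw [← Subgroup.index_eq_card]
      exact hodd
    have h1 : ((c : G ⧸ K)) * (x : G ⧸ K) * (c : G ⧸ K)⁻¹ = (x : G ⧸ K)⁻¹ := by
      rw [← QuotientGroup.mk_mul, ← QuotientGroup.mk_inv, ← QuotientGroup.mk_mul, hc,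
        QuotientGroup.mk_inv]
    have h2 := real_eq_one_of_odd hodd' (x : G ⧸ K) (c : G ⧸ K) h1
    exact (QuotientGroup.eq_one_iff x).1 h2
  -- the normal Sylow subgroup of K
  obtain ⟨Q, hQK, hQn, hQp, hQi⟩ := Cfsg.Agent.Lib.Helper81.RealD.main_ind p (Nat.card G) G rfl
    (Cfsg.Agent.Lib.Helper81.RealD.exists_solv p hsolv) hreal K K hKn hKn le_rfl
    ⟨_, fun s hs => hs, hK0⟩ ⟨0, by rw [Subgroup.relIndex_self, pow_zero]⟩
  have := hQn
  obtain ⟨π, hπ, hker⟩ : ∃ π : G →* G ⧸ Q, Function.Surjective π ∧ π.ker = Q :=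
    ⟨QuotientGroup.mk' Q, QuotientGroup.mk'_surjective Q, QuotientGroup.ker_mk' Q⟩
  have hK'n : (K.map π).Normal := hKn.map π hπ
  have hodd' : Odd (K.map π).index := Odd.of_dvd_nat hodd (Subgroup.index_map_dvd K hπ)
  have hpK' : ¬ p ∣ Nat.card ↥(K.map π) := by
    have h2 := Subgroup.relIndex_map_map π (⊥ : Subgroup G) K
    rw [Subgroup.map_bot, Subgroup.relIndex_bot_left, hker, bot_sup_eq, sup_eq_left.2 hQK] at h2
    rw [h2]
    exact hQi
  have hconj' : IsConj (π x) (π x)⁻¹ := by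
    have h1 := π.map_isConj hx
    rwa [map_inv] at h1
  obtain ⟨y', hy'N, hy'⟩ := Cfsg.Agent.Lib.Helper81.RealE.core p
    (Cfsg.Agent.Lib.Helper81.RealD.hreal_quotient p hreal Q) (K.map π) hodd' hpK'
    (P.mapSurjective hπ) (π x) (Subgroup.mem_map_of_mem π hxK) hconj'
  obtain ⟨c', hc'⟩ := isConj_iff.1 hy'
  obtain ⟨c, rfl⟩ := hπ c'
  refine ⟨c * x * c⁻¹, ?_, isConj_iff.2 ⟨c, rfl⟩⟩
  have hQP : Q ≤ (P : Subgroup G) := hQp.le_sylow_of_normal P
  have hy : π (c * x * c⁻¹) ∈
      Subgroup.normalizer (((P.mapSurjective hπ : Sylow p (G ⧸ Q)) : Subgroup (G ⧸ Q)) : Set (G ⧸ Q)) := by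
    rw [map_mul, map_mul, map_inv, hc']
    exact hy'N
  have hcm : ∀ b : G, π b ∈ ((P.mapSurjective hπ : Sylow p (G ⧸ Q)) : Subgroup (G ⧸ Q)) ↔
      b ∈ (P : Subgroup G) := by
    intro b
    rw [Sylow.coe_mapSurjective]
    constructor
    · rintro ⟨b', hb', hbb'⟩
      have h1 : b'⁻¹ * b ∈ Q := by
        rw [← hker, MonoidHom.mem_ker, map_mul, map_inv, hbb', inv_mul_cancel]
      have h2 : b = b' * (b'⁻¹ * b) := by group
      rw [h2]
      exact Subgroup.mul_mem _ hb' (hQP h1)
    · intro hb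
      exact Subgroup.mem_map_of_mem π hb
  rw [Subgroup.mem_normalizer_iff] at hy ⊢
  intro a
  rw [← hcm a, hy (π a), ← hcm]
  simp only [map_mul, map_inv]

end Cfsg.Agent.S4864
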