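import Cfsg.Statements.S4865
import Cfsg.Agent.Lib.Helper81.RealH

set_option autoImplicit false
open Cfsg

namespace Cfsg.Agent.S4865

/-- Let p be a prime and G a finite group such that the subgroup generated by the p-elements of G is solvable and every real-valued irreducible complex character of G has degree prime to p. Let N be the normalizer of a Sylow p-subgroup of G. Then there is a bijection from the real-valued irreducible characters of G onto the real-valued irreducible characters of N of degree prime to p under which corresponding degrees are congruent modulo p up to sign. -/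
theorem result {G : Type*} [Group G] [Finite G] (p : ℕ) [Fact p.Prime] (hsolv : Group.IsSolvable ↥(Subgroup.closure {g : G | ∃ k : ℕ, orderOf g = p ^ k})) (hreal : ∀ χ : Cfsg.IrrCharacter G, (∀ g : G, ((χ : G → ℂ) g).im = 0) → ¬ p ∣ Cfsg.charDegree (χ : G → ℂ)) (P : Sylow p G) : ∃ f : {χ : Cfsg.IrrCharacter G // ∀ g : G, ((χ : G → ℂ) g).im = 0} → {ξ : Cfsg.IrrCharacter ↥(Subgroup.normalizer ((P : Subgroup G) : Set G)) // (∀ n, ((ξ : ↥(Subgroup.normalizer ((P : Subgroup G) : Set G)) → ℂ) n).im = 0) ∧ ¬ p ∣ Cfsg.charDegree (ξ : ↥(Subgroup.normalizer ((P : Subgroup G) : Set G)) → ℂ)}, Function.Bijective f ∧ ∀ χ, ((Cfsg.charDegree ((f χ).1 : ↥(Subgroup.normalizer ((P : Subgroup G) : Set G)) → ℂ) : ZMod p) = (Cfsg.charDegree (χ.1 : G → ℂ) : ZMod p) ∨ (Cfsg.charDegree ((f χ).1 : ↥(Subgroup.normalizer ((P : Subgroup G) : Set G)) → ℂ) : ZMod p) = -(Cfsg.charDegree (χ.1 : G → ℂ) : ZMod p)) := by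
  classical
  obtain ⟨K, hK0⟩ : ∃ K : Subgroup G,
      K = Subgroup.closure {g : G | ∃ k : ℕ, orderOf g = 2 ^ k} := ⟨_, rfl⟩
  have hKn : K.Normal := by
    rw [hK0]
    exact Cfsg.Agent.Lib.Helper81.RealD.pow_closure_normal 2
  -- the index of K is odd
  have hodd : Odd K.index := by
    obtain ⟨S⟩ := (inferInstance : Nonempty (Sylow 2 G))
    have hSK : (S : Subgroup G) ≤ K := by
      intro s hs
      rw [hK0]
      apply Subgroup.subset_closure
      obtain ⟨k, hk⟩ := (IsPGroup.iff_orderOf.1 S.isPGroup') ⟨s, hs⟩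
      refine ⟨k, ?_⟩
      rw [← hk]
      exact (Subgroup.orderOf_mk s hs).symm
    have h1 : K.index ∣ (S : Subgroup G).index := Subgroup.index_dvd_of_le hSK
    have h2 : ¬ 2 ∣ (S : Subgroup G).index := S.not_dvd_index
    rw [← Nat.not_even_iff_odd, even_iff_two_dvd]
    exact fun h => h2 (h.trans h1)
  -- the normal Sylow subgroup of K
  obtain ⟨Q, hQK, hQn, hQp, hQi⟩ := Cfsg.Agent.Lib.Helper81.RealD.main_ind p (Nat.card G) G rfl
    (Cfsg.Agent.Lib.Helper81.RealD.exists_solv p hsolv) hreal K K hKn hKn le_rfl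
    ⟨_, fun s hs => hs, hK0⟩ ⟨0, by rw [Subgroup.relIndex_self, pow_zero]⟩
  have := hQn
  exact Cfsg.Agent.Lib.Helper81.RealH.corr p K Q P hreal hodd hQp hQi

end Cfsg.Agent.S4865
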