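import Cfsg.Statements.S4890
import Cfsg.Agent.Lib.Helper75.NDFinal
import Cfsg.Agent.Lib.Helper75.NdQP2
import Cfsg.Agent.Lib.Helper75.NdQP3
import Cfsg.Agent.Lib.Helper75.NdQB
import Cfsg.Agent.Lib.Helper75.NdSTB
import Cfsg.Agent.Lib.Helper75.NdQLE
import Cfsg.Agent.Lib.Helper75.NdEQD2
import Cfsg.Agent.Lib.Helper75.NdHT
import Cfsg.Agent.Lib.Helper74.NdDEFL
import Cfsg.Agent.Lib.Helper74.NdEXT
import Cfsg.Agent.Lib.Helper74.NdIND
import Cfsg.Agent.Lib.Helper74.NdCOV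
import Cfsg.Agent.Lib.Helper74.NdCOV2
import Cfsg.Agent.Lib.Helper71.NdCP
import Cfsg.Agent.Lib.Helper71.NdSTL
import Cfsg.Agent.Lib.Helper71.NdNILB
import Cfsg.Agent.Lib.Helper93.NdDG
import Cfsg.Agent.Lib.Helper82.NdEQD1
import Cfsg.Agent.Lib.Helper65.NdCAN
import Cfsg.Agent.Lib.Helper29.NdNILA
import Cfsg.Agent.Lib.Helper79.NdNILA1

set_option autoImplicit false
open Cfsg

namespace Cfsg.Agent.S4890

/-- Let G be a finite group, p a prime, M a maximal ideal of the algebraic integers containing p, and B a p-block of G with a defect group that is normal in G. Then all height-zero irreducible characters of B have the same degree if and only if B is a nilpotent block. -/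
theorem result {G : Type*} [Group G] [Finite G] (p : ℕ) [Fact p.Prime] (M : Ideal Cfsg.AlgInt) (hM : Cfsg.IsPModular p M) (B : Set (Cfsg.IrrCharacter G)) (hB : Cfsg.IsPBlock M B) (D : Subgroup G) (hD : Cfsg.IsDefectGroup p M B D) (hDn : D.Normal) : (∃ d : ℕ, ∀ χ : Cfsg.IrrCharacter G, χ ∈ B → Cfsg.blockHeight p B (χ : G → ℂ) = 0 → Cfsg.charDegree (χ : G → ℂ) = d) ↔ Cfsg.IsNilpotentBlock p M B := by
  exact Cfsg.Agent.Lib.Helper75.NDFinal.main
    Cfsg.Agent.Lib.Helper82.NdEQD1.main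
    Cfsg.Agent.Lib.Helper75.NdEQD2.main
    Cfsg.Agent.Lib.Helper75.NdQB.main
    (Cfsg.Agent.Lib.Helper93.NdDG.main Cfsg.Agent.Lib.Helper75.NdQB.main)
    (Cfsg.Agent.Lib.Helper75.NdHT.main Cfsg.Agent.Lib.Helper75.NdQB.main
      (Cfsg.Agent.Lib.Helper93.NdDG.main Cfsg.Agent.Lib.Helper75.NdQB.main))
    Cfsg.Agent.Lib.Helper75.NdQLE.maxp
    Cfsg.Agent.Lib.Helper71.NdCP.main
    (Cfsg.Agent.Lib.Helper71.NdSTL.main Cfsg.Agent.Lib.Helper71.NdCP.main)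
    Cfsg.Agent.Lib.Helper65.NdCAN.main
    (Cfsg.Agent.Lib.Helper75.NdQP2.main Cfsg.Agent.Lib.Helper74.NdEXT.main
      Cfsg.Agent.Lib.Helper74.NdIND.main Cfsg.Agent.Lib.Helper74.NdDEFL.main
      Cfsg.Agent.Lib.Helper75.NdSTB.main)
    (Cfsg.Agent.Lib.Helper75.NdQP3.main Cfsg.Agent.Lib.Helper74.NdCOV.main
      Cfsg.Agent.Lib.Helper74.NdCOV2.main Cfsg.Agent.Lib.Helper75.NdQB.main)
    Cfsg.Agent.Lib.Helper75.NdSTB.main
    Cfsg.Agent.Lib.Helper75.NdQLE.main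
    (Cfsg.Agent.Lib.Helper29.NdNILA.main Cfsg.Agent.Lib.Helper75.NdQLE.main
      Cfsg.Agent.Lib.Helper79.NdNILA1.main)
    Cfsg.Agent.Lib.Helper71.NdNILB.main
    p M hM B hB D hD hDn

end Cfsg.Agent.S4890
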