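import Cfsg.Statements.S4911
import Cfsg.Agent.Lib.Helper81.GlaubReal

set_option autoImplicit false
open Cfsg

namespace Cfsg.Agent.S4911

/-- Let P and K be subgroups of a finite group with P a p-group normalizing K and K of order prime to p. Then the number of P-invariant real-valued irreducible complex characters of K equals the number of conjugacy classes of K that are real (closed under inversion) and P-invariant. Moreover, if every real-valued irreducible character of K is P-invariant, then every real element of K (one conjugate in K to its inverse) is conjugate in K to an element centralized by P. -/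
theorem result {G : Type*} [Group G] [Finite G] (p : ℕ) [Fact p.Prime] (P K : Subgroup G) (hP : IsPGroup p ↥P) (hK : ¬ p ∣ Nat.card ↥K) (hPK : P ≤ Subgroup.normalizer (K : Set G)) : Nat.card {θ : Cfsg.IrrCharacter ↥K // (∀ k : ↥K, ((θ : ↥K → ℂ) k).im = 0) ∧ (∀ x ∈ P, ∀ k k' : ↥K, (k' : G) = x * (k : G) * x⁻¹ → (θ : ↥K → ℂ) k' = (θ : ↥K → ℂ) k)} = Nat.card {c : ConjClasses ↥K // (∀ k : ↥K, ConjClasses.mk k = c → IsConj k k⁻¹) ∧ ∀ k : ↥K, ConjClasses.mk k = c → ∀ x ∈ P, ∀ k' : ↥K, (k' : G) = x * (k : G) * x⁻¹ → ConjClasses.mk k' = c} ∧ ((∀ θ : Cfsg.IrrCharacter ↥K, (∀ k : ↥K, ((θ : ↥K → ℂ) k).im = 0) → (∀ x ∈ P, ∀ k k' : ↥K, (k' : G) = x * (k : G) * x⁻¹ → (θ : ↥K → ℂ) k' = (θ : ↥K → ℂ) k)) → ∀ k : ↥K, IsConj k k⁻¹ → ∃ k' : ↥K, IsConj k k' ∧ ∀ x ∈ P, x * (k' : G) * x⁻¹ = (k' : G)) := by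
  classical
  let _ : Fintype ↥K := Fintype.ofFinite _
  let S₀ : Subgroup (MulAut G) := P.map MulAut.conj
  have hD : ∀ a ∈ S₀, ∀ d ∈ K, a d ∈ K := by
    rintro a ⟨x, hx, rfl⟩ d hd
    exact (Subgroup.mem_normalizer_iff.1 (hPK hx) d).1 hd
  let r : ↥S₀ →* MulAut ↥K := Cfsg.Agent.Lib.Helper81.Glaub.restrictAut S₀ K hD
  have hS₀ : IsPGroup p S₀ := hP.map MulAut.conj
  have hS' : IsPGroup p r.range :=
    IsPGroup.of_surjective hS₀ r.rangeRestrict r.rangeRestrict_surjective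
  have key := Cfsg.Agent.Lib.Helper81.GlaubReal.card_real_inv p r.range hS' hK
  have hχ : ∀ θ : Cfsg.IrrCharacter ↥K,
      (∀ x ∈ P, ∀ k k' : ↥K, (k' : G) = x * (k : G) * x⁻¹ → θ.1 k' = θ.1 k) ↔
        (∀ s ∈ r.range, ∀ g, θ.1 (s g) = θ.1 g) := by
    intro θ
    constructor
    · intro h s' hs' g
      obtain ⟨⟨a, x, hx, rfl⟩, rfl⟩ := hs'
      exact h x hx g _ rfl
    · intro h x hx k k' hk
      have h2 := h (r ⟨MulAut.conj x, ⟨x, hx, rfl⟩⟩) ⟨_, rfl⟩ k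
      have h3 : (r ⟨MulAut.conj x, ⟨x, hx, rfl⟩⟩) k = k' := Subtype.ext hk.symm
      rw [h3] at h2
      exact h2
  have hc : ∀ c : ConjClasses ↥K,
      (∀ k : ↥K, ConjClasses.mk k = c → ∀ x ∈ P, ∀ k' : ↥K, (k' : G) = x * (k : G) * x⁻¹ →
        ConjClasses.mk k' = c) ↔
        (∀ g, ConjClasses.mk g = c → ∀ s ∈ r.range, ConjClasses.mk (s g) = c) := by
    intro c
    constructor
    · intro h g hg s' hs'
      obtain ⟨⟨a, x, hx, rfl⟩, rfl⟩ := hs'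
      exact h g hg x hx _ rfl
    · intro h k hk x hx k' hk'
      have h3 : (r ⟨MulAut.conj x, ⟨x, hx, rfl⟩⟩) k = k' := Subtype.ext hk'.symm
      rw [← h3]
      exact h k hk _ ⟨_, rfl⟩
  have h1 : Nat.card {θ : Cfsg.IrrCharacter ↥K // (∀ k : ↥K, ((θ : ↥K → ℂ) k).im = 0) ∧
      (∀ x ∈ P, ∀ k k' : ↥K, (k' : G) = x * (k : G) * x⁻¹ →
        (θ : ↥K → ℂ) k' = (θ : ↥K → ℂ) k)} =
      Nat.card {χ : Cfsg.IrrCharacter ↥K // (∀ s ∈ r.range, ∀ g, χ.1 (s g) = χ.1 g) ∧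
        ∀ g, (χ.1 g).im = 0} :=
    Nat.card_congr (Equiv.subtypeEquivRight (fun θ =>
      ⟨fun h => ⟨(hχ θ).1 h.2, h.1⟩, fun h => ⟨h.2, (hχ θ).2 h.1⟩⟩))
  have h2 : Nat.card {c : ConjClasses ↥K // (∀ k : ↥K, ConjClasses.mk k = c → IsConj k k⁻¹) ∧
      ∀ k : ↥K, ConjClasses.mk k = c → ∀ x ∈ P, ∀ k' : ↥K, (k' : G) = x * (k : G) * x⁻¹ →
        ConjClasses.mk k' = c} =
      Nat.card {c : ConjClasses ↥K // (∀ g, ConjClasses.mk g = c →
        ∀ s ∈ r.range, ConjClasses.mk (s g) = c) ∧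
        ∀ g, ConjClasses.mk g = c → IsConj g g⁻¹} :=
    Nat.card_congr (Equiv.subtypeEquivRight (fun c =>
      ⟨fun h => ⟨(hc c).1 h.2, h.1⟩, fun h => ⟨h.2, (hc c).2 h.1⟩⟩))
  refine ⟨by rw [h1, h2]; exact key, ?_⟩
  intro hall k hk
  -- every real class is invariant
  have h3 : Nat.card {χ : Cfsg.IrrCharacter ↥K // (∀ s ∈ r.range, ∀ g, χ.1 (s g) = χ.1 g) ∧
      ∀ g, (χ.1 g).im = 0} = Nat.card {χ : Cfsg.IrrCharacter ↥K // ∀ g, (χ.1 g).im = 0} :=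
    Nat.card_congr (Equiv.subtypeEquivRight (fun θ =>
      ⟨fun h => h.2, fun h => ⟨(hχ θ).1 (hall θ h), h⟩⟩))
  have h4 : Nat.card {χ : Cfsg.IrrCharacter ↥K // ∀ g, (χ.1 g).im = 0} =
      Nat.card {c : ConjClasses ↥K // ∀ g, ConjClasses.mk g = c → IsConj g g⁻¹} :=
    Cfsg.Agent.S0160.result
  let f : {c : ConjClasses ↥K // (∀ g, ConjClasses.mk g = c →
        ∀ s ∈ r.range, ConjClasses.mk (s g) = c) ∧
        ∀ g, ConjClasses.mk g = c → IsConj g g⁻¹} →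
      {c : ConjClasses ↥K // ∀ g, ConjClasses.mk g = c → IsConj g g⁻¹} := fun c => ⟨c.1, c.2.2⟩
  have hf : Function.Injective f := by
    intro c c' h
    have h' : (f c).1 = (f c').1 := congrArg Subtype.val h
    exact Subtype.ext h'
  have hbij : Function.Bijective f :=
    hf.bijective_of_nat_card_le (le_of_eq (by rw [← h4, ← h3, key]))
  have hreal : ∀ g, ConjClasses.mk g = ConjClasses.mk k → IsConj g g⁻¹ := by
    intro g hg
    rw [ConjClasses.mk_eq_mk_iff_isConj] at hg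
    exact (hg.trans hk).trans (Cfsg.Agent.Lib.Helper81.GlaubClass.isConj_inv hg).symm
  obtain ⟨c, hc'⟩ := hbij.2 ⟨ConjClasses.mk k, hreal⟩
  have hc1 : c.1 = ConjClasses.mk k := congrArg Subtype.val hc'
  have hinv : ∀ s ∈ r.range, IsConj (s k) k := by
    intro s hs
    have := c.2.1 k hc1.symm s hs
    rw [hc1] at this
    exact ConjClasses.mk_eq_mk_iff_isConj.1 this
  obtain ⟨d, hd, hkd⟩ :=
    Cfsg.Agent.Lib.Helper81.GlaubClass.exists_fixed_isConj p r.range hS' hK k hinv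
  refine ⟨d, hkd, fun x hx => ?_⟩
  have := hd (r ⟨MulAut.conj x, ⟨x, hx, rfl⟩⟩) ⟨_, rfl⟩
  exact congrArg Subtype.val this

end Cfsg.Agent.S4911
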