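import Cfsg.Statements.S4914
import Cfsg.Agent.Lib.Helper81.NSylF
import Cfsg.Agent.Lib.Helper74.SubConj

set_option autoImplicit false
open Cfsg

namespace Cfsg.Agent.S4914

/-- Let P and K be subgroups of a finite group G with P a p-group normalizing K, and suppose K has a normal Sylow p-subgroup Q. Let C be the subgroup of those k ∈ K whose commutator with every element of P lies in Q (so that C/Q is the fixed-point subgroup of P on K/Q). Then there is a bijection f from the P-invariant irreducible complex characters of K onto the P-invariant irreducible complex characters of C such that, for every P-invariant irreducible character χ of K, the multiplicity of f(χ) in the restriction of χ to C is a natural number congruent to 1 or to −1 modulo p, every other P-invariant irreducible character of C occurs in that restriction with multiplicity divisible by p, and the degrees of χ and f(χ) are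 congruent modulo p up to sign. -/
theorem result {G : Type*} [Group G] [Finite G] (p : ℕ) [Fact p.Prime] (P K Q C : Subgroup G) (hP : IsPGroup p ↥P) (hPK : P ≤ Subgroup.normalizer (K : Set G)) (hQK : Q ≤ K) (hQn : ∀ k ∈ K, ∀ q ∈ Q, k * q * k⁻¹ ∈ Q) (hQp : ∃ a : ℕ, Nat.card ↥Q = p ^ a) (hQsyl : ¬ p ∣ Q.relIndex K) (hCK : C ≤ K) (hC : ∀ k : G, k ∈ C ↔ (k ∈ K ∧ ∀ x ∈ P, x * k * x⁻¹ * k⁻¹ ∈ Q)) : ∃ f : {χ : Cfsg.IrrCharacter ↥K // (∀ x ∈ P, ∀ k k' : ↥K, (k' : G) = x * (k : G) * x⁻¹ → (χ : ↥K → ℂ) k' = (χ : ↥K → ℂ) k)} → {ξ : Cfsg.IrrCharacter ↥C // (∀ x ∈ P, ∀ k k' : ↥C, (k' : G) = x * (k : G) * x⁻¹ → (ξ : ↥C → ℂ) k' = (ξ : ↥C → ℂ) k)}, Function.Bijective f ∧ ∀ χ, (∀ ξ : {ξ : Cfsg.IrrCharacter ↥C // (∀ x ∈ P, ∀ k k' : ↥C, (k' : G) = x * (k : G) * x⁻¹ → (ξ : ↥C → ℂ) k' = (ξ : ↥C → ℂ) k)}, ∃ m : ℕ, (Nat.card ↥C : ℂ)⁻¹ * ∑ᶠ c : ↥C, (χ.1 : ↥K → ℂ) (Subgroup.inclusion hCK c) * (starRingEnd ℂ) ((ξ.1 :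 ↥C → ℂ) c) = (m : ℂ) ∧ (ξ = f χ → ((m : ZMod p) = 1 ∨ (m : ZMod p) = -1)) ∧ (ξ ≠ f χ → p ∣ m)) ∧ ((Cfsg.charDegree ((f χ).1 : ↥C → ℂ) : ZMod p) = (Cfsg.charDegree (χ.1 : ↥K → ℂ) : ZMod p) ∨ (Cfsg.charDegree ((f χ).1 : ↥C → ℂ) : ZMod p) = -(Cfsg.charDegree (χ.1 : ↥K → ℂ) : ZMod p)) := by
  classical
  have hp : p.Prime := Fact.out
  let _ : Fintype ↥K := Fintype.ofFinite _
  let _ : Fintype ↥C := Fintype.ofFinite _
  let _ : Fintype ↥(C.subgroupOf K) := Fintype.ofFinite _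
  have hnorm : ∀ s ∈ P, ∀ g ∈ K, s * g * s⁻¹ ∈ K := fun s hs g hg =>
    ((Subgroup.mem_normalizer_iff.1 (hPK hs)) g).1 hg
  have hQ'n : (Q.subgroupOf K).Normal := ⟨fun n hn g => by
    rw [Subgroup.mem_subgroupOf] at hn ⊢
    exact hQn g g.2 n hn⟩
  have hA : IsPGroup p (Cfsg.Agent.Lib.Helper74.SubConj.conjHom K P hnorm).range :=
    hP.of_surjective (Cfsg.Agent.Lib.Helper74.SubConj.conjHom K P hnorm).rangeRestrict
      (Cfsg.Agent.Lib.Helper74.SubConj.conjHom K P hnorm).rangeRestrict_surjective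
  obtain ⟨a, ha⟩ := hQp
  have hcardQ' : Nat.card ↥(Q.subgroupOf K) = p ^ a := by
    rw [Nat.card_congr (Subgroup.subgroupOfEquivOfLe hQK).toEquiv, ha]
  have hQ'p : IsPGroup p ↥(Q.subgroupOf K) := IsPGroup.of_card hcardQ'
  have hQ'i : ¬ p ∣ (Q.subgroupOf K).index := hQsyl
  have hcop : Nat.Coprime (p ^ a) (Q.subgroupOf K).index :=
    Nat.Coprime.pow_left a ((Nat.Prime.coprime_iff_not_dvd hp).2 hQ'i)
  have hQ'A : ∀ σ ∈ (Cfsg.Agent.Lib.Helper74.SubConj.conjHom K P hnorm).range,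
      ∀ q ∈ Q.subgroupOf K, σ q ∈ Q.subgroupOf K := by
    intro σ _ q hq
    have h1 : orderOf ((QuotientGroup.mk' (Q.subgroupOf K)) (σ q)) ∣ orderOf (σ q) :=
      orderOf_map_dvd _ _
    have h2 : orderOf (σ q) = orderOf q :=
      orderOf_injective (σ : ↥K ≃* ↥K).toMonoidHom (σ : ↥K ≃* ↥K).injective q
    have h3 : orderOf q ∣ p ^ a := by
      rw [← hcardQ']
      have h4 := orderOf_dvd_natCard (⟨q, hq⟩ : ↥(Q.subgroupOf K))
      rwa [← Subgroup.orderOf_coe] at h4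
    have h5 : orderOf ((QuotientGroup.mk' (Q.subgroupOf K)) (σ q)) ∣
        (Q.subgroupOf K).index := orderOf_dvd_natCard _
    have h6 : orderOf ((QuotientGroup.mk' (Q.subgroupOf K)) (σ q)) = 1 :=
      Nat.Coprime.eq_one_of_dvd (Nat.Coprime.coprime_dvd_left (h1.trans (h2 ▸ h3)) hcop) h5
    rw [orderOf_eq_one_iff] at h6
    exact (QuotientGroup.eq_one_iff _).1 h6
  have hC' : ∀ k : ↥K, k ∈ C.subgroupOf K ↔
      ∀ σ ∈ (Cfsg.Agent.Lib.Helper74.SubConj.conjHom K P hnorm).range,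
        σ k * k⁻¹ ∈ Q.subgroupOf K := by
    intro k
    rw [Subgroup.mem_subgroupOf, hC]
    constructor
    · rintro ⟨-, h⟩ σ ⟨x, rfl⟩
      rw [Subgroup.mem_subgroupOf]
      exact h x.1 x.2
    · intro h
      refine ⟨k.2, fun x hx => ?_⟩
      have h1 := h (Cfsg.Agent.Lib.Helper74.SubConj.conjHom K P hnorm ⟨x, hx⟩) ⟨⟨x, hx⟩, rfl⟩
      rw [Subgroup.mem_subgroupOf] at h1
      exact h1
  -- the correspondence for the subgroup `C.subgroupOf K` of the type `↥K`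
  have hcore := Cfsg.Agent.Lib.Helper81.NSylE.nsyl_core p (Q.subgroupOf K)
    (Cfsg.Agent.Lib.Helper74.SubConj.conjHom K P hnorm).range hA hQ'p hQ'i hQ'A
    (C.subgroupOf K) hC'
  let e : ↥C ≃* ↥(C.subgroupOf K) := (Subgroup.subgroupOfEquivOfLe hCK).symm
  have htr := Cfsg.Agent.Lib.Helper81.NSylF.glaubRel_transfer p e hcore
  have hι : (C.subgroupOf K).subtype.comp e.toMonoidHom = Subgroup.inclusion hCK :=
    MonoidHom.ext fun c => rfl
  have hInvK : ∀ χ : Cfsg.IrrCharacter ↥K,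
      (∀ σ ∈ (Cfsg.Agent.Lib.Helper74.SubConj.conjHom K P hnorm).range, ∀ k, χ.1 (σ k) = χ.1 k) ↔
      (∀ x ∈ P, ∀ k k' : ↥K, (k' : G) = x * (k : G) * x⁻¹ → χ.1 k' = χ.1 k) := by
    intro χ
    constructor
    · intro h x hx k k' hkk
      have h1 := h (Cfsg.Agent.Lib.Helper74.SubConj.conjHom K P hnorm ⟨x, hx⟩) ⟨⟨x, hx⟩, rfl⟩ k
      have h2 : k' = Cfsg.Agent.Lib.Helper74.SubConj.conjHom K P hnorm ⟨x, hx⟩ k :=
        Subtype.ext hkk
      rw [h2]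
      exact h1
    · rintro h σ ⟨x, rfl⟩ k
      exact h x.1 x.2 k _ rfl
  have hInvC : ∀ ξ : Cfsg.IrrCharacter ↥C,
      (∀ σ ∈ (Cfsg.Agent.Lib.Helper74.SubConj.conjHom K P hnorm).range,
        ∀ c c' : ↥(C.subgroupOf K), (c' : ↥K) = σ c →
          (Cfsg.Agent.Lib.Helper81.Glaub.irrComp e.symm ξ).1 c' =
            (Cfsg.Agent.Lib.Helper81.Glaub.irrComp e.symm ξ).1 c) ↔
      (∀ x ∈ P, ∀ k k' : ↥C, (k' : G) = x * (k : G) * x⁻¹ → ξ.1 k' = ξ.1 k) := by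
    intro ξ
    constructor
    · intro h x hx k k' hkk
      have h1 := h (Cfsg.Agent.Lib.Helper74.SubConj.conjHom K P hnorm ⟨x, hx⟩) ⟨⟨x, hx⟩, rfl⟩
        (e k) (e k') (Subtype.ext hkk)
      have h2 : ∀ c : ↥C, (Cfsg.Agent.Lib.Helper81.Glaub.irrComp e.symm ξ).1 (e c) = ξ.1 c := by
        intro c
        show ξ.1 (e.symm (e c)) = ξ.1 c
        rw [MulEquiv.symm_apply_apply]
      rw [h2, h2] at h1
      exact h1
    · rintro h σ ⟨x, rfl⟩ c c' hcc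
      exact h x.1 x.2 (e.symm c) (e.symm c') (congrArg Subtype.val hcc)
  have hg := Cfsg.Agent.Lib.Helper81.NSylF.glaubRel_congr p hι hInvK hInvC htr
  refine Cfsg.Agent.Lib.Helper81.NSylF.glaubRel_final p (Subgroup.inclusion hCK) _ _ hg ?_
  -- the degrees
  intro χ hχ ξ hξ hnd
  have hχ' := (hInvK χ).2 hχ
  have hξ' := (hInvC ξ).2 hξ
  obtain ⟨β, hβ, hpm, hoth⟩ := hcore.1 χ hχ'
  have hmt : Cfsg.Agent.Lib.Helper81.Mult.mult (fun c => χ.1 (Subgroup.inclusion hCK c)) ξ =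
      Cfsg.Agent.Lib.Helper81.Mult.mult (fun c => χ.1 ((C.subgroupOf K).subtype c))
        (Cfsg.Agent.Lib.Helper81.Glaub.irrComp e.symm ξ) :=
    Cfsg.Agent.Lib.Helper81.NSylF.mult_transfer e (fun c => χ.1 ((C.subgroupOf K).subtype c)) ξ
  have hβξ : Cfsg.Agent.Lib.Helper81.Glaub.irrComp e.symm ξ = β := by
    by_contra hne
    apply hnd
    rw [hmt]
    exact hoth _ hξ' hne
  have hdeg := Cfsg.Agent.Lib.Helper81.NSylF.nsyl_deg p (Q.subgroupOf K)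
    (Cfsg.Agent.Lib.Helper74.SubConj.conjHom K P hnorm).range hA hQ'A (C.subgroupOf K) hC' χ hχ'
    β hβ hpm hoth
  have hd : Cfsg.charDegree β.1 = Cfsg.charDegree ξ.1 := by
    rw [← hβξ]
    show Cfsg.charDegree (fun c => ξ.1 (e.symm c)) = Cfsg.charDegree ξ.1
    unfold Cfsg.charDegree
    simp only [map_one]
  rw [hd] at hdeg
  exact hdeg

end Cfsg.Agent.S4914
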