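import Cfsg.Statements.S4989
import Cfsg.Agent.S4574
import Cfsg.Agent.Lib.CT.Wedderburn
import Mathlib

set_option autoImplicit false
open Cfsg

namespace Cfsg.Agent.S4989

open scoped ComplexConjugate

/-- Membership in a subgroup is invariant under a power map prime to the group order. -/
theorem pow_mem_iff {G : Type*} [Group G] [Finite G] (H : Subgroup G) (g : G) (k : ℕ)
    (hk : (Nat.card G).Coprime k) : g ^ k ∈ H ↔ g ∈ H := by
  constructor
  · intro h
    have hc : k.Coprime (orderOf g) :=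
      (Nat.Coprime.coprime_dvd_left (orderOf_dvd_natCard g) hk).symm
    obtain ⟨m, hm⟩ := exists_pow_eq_self_of_coprime hc
    rw [← hm]
    exact H.pow_mem h m
  · intro h
    exact H.pow_mem h k

/-- Let H be a subgroup of the finite group G and χ an irreducible complex character of G. Then the inner product of the restriction of χ to H with itself, (1/#H)·Σ_{h ∈ H} |χ(h)|², is at most 1 + #(Z ∖ H)/#H, where Z is the set of zeros of χ in G. -/
theorem result {G : Type*} [Group G] [Finite G] (H : Subgroup G) (χ : Cfsg.IrrCharacter G) : (Nat.card ↥H : ℝ)⁻¹ * ∑ᶠ h : ↥H, ‖(χ : G → ℂ) h‖ ^ 2 ≤ 1 + (Set.ncard ({x : G | (χ : G → ℂ) x = 0} \ (H : Set G)) : ℝ) / (Nat.card ↥H : ℝ) := by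
  classical
  have _instG : Fintype G := Fintype.ofFinite G
  have hχ' := χ.2
  obtain ⟨χf, n, ρ, hirr, hρ⟩ := χ
  simp only
  have horth : ∑ g : G, ‖χf g‖ ^ 2 = (Fintype.card G : ℝ) := by
    have h1 := Cfsg.Agent.Lib.CT.Wedderburn.irr_orthonormal (⟨χf, hχ'⟩ : IrrCharacter G) ⟨χf, hχ'⟩
    rw [if_pos rfl, Cfsg.classInner] at h1
    have hne : (Nat.card G : ℂ) ≠ 0 := Nat.cast_ne_zero.mpr Nat.card_pos.ne'
    have h2 := (inv_mul_eq_one₀ hne).mp h1
    have h3 : ((∑ g : G, ‖χf g‖ ^ 2 : ℝ) : ℂ) = ((Fintype.card G : ℝ) : ℂ) := by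
      push_cast
      rw [← Nat.card_eq_fintype_card, h2]
      apply Finset.sum_congr rfl
      intro g _
      rw [Complex.mul_conj']
    exact_mod_cast h3
  let iH : G → ℝ := fun g => if g ∈ H then 1 else 0
  let iV : G → ℝ := fun g => if χf g = 0 then 1 else 0
  have hNe : NeZero (Nat.card G) := ⟨Nat.card_pos.ne'⟩
  let W : G → ℝ := fun g =>
    ∑ k : (ZMod (Nat.card G))ˣ, ‖χf (g ^ (k : ZMod (Nat.card G)).val)‖ ^ 2
  have hφpos : (0 : ℝ) < (Nat.totient (Nat.card G) : ℝ) := by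
    exact_mod_cast Nat.totient_pos.mpr Nat.card_pos
  -- pointwise bound
  have hpt : ∀ g : G, (Nat.totient (Nat.card G) : ℝ) * ((1 - iH g) * (1 - iV g)) ≤
      (1 - iH g) * W g := by
    intro g
    have hnn : 0 ≤ W g := Finset.sum_nonneg (fun k _ => sq_nonneg _)
    by_cases hg : g ∈ H
    · simp only [iH, if_pos hg]; simp
    · by_cases hv : χf g = 0
      · simp only [iH, iV, if_neg hg, if_pos hv]
        simpa using hnn
      · simp only [iH, iV, if_neg hg, if_neg hv]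
        have := Cfsg.Agent.S4574.totient_le_sum ρ g (by rw [hρ]; exact hv)
        rw [hρ] at this
        simpa using this
  -- the averaged sum
  have hWsum : ∑ g : G, (1 - iH g) * W g =
      (Nat.totient (Nat.card G) : ℝ) * ∑ g : G, (1 - iH g) * ‖χf g‖ ^ 2 := by
    show ∑ g : G, (1 - iH g) *
      ∑ k : (ZMod (Nat.card G))ˣ, ‖χf (g ^ (k : ZMod (Nat.card G)).val)‖ ^ 2 = _
    simp_rw [Finset.mul_sum]
    rw [Finset.sum_comm]
    have hk : ∀ k : (ZMod (Nat.card G))ˣ,
        ∑ g : G, (1 - iH g) * ‖χf (g ^ (k : ZMod (Nat.card G)).val)‖ ^ 2 =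
          ∑ g : G, (1 - iH g) * ‖χf g‖ ^ 2 := by
      intro k
      have hcop : (Nat.card G).Coprime (k : ZMod (Nat.card G)).val :=
        (ZMod.val_coe_unit_coprime k).symm
      rw [← Equiv.sum_comp (powCoprime hcop) (fun g => (1 - iH g) * ‖χf g‖ ^ 2)]
      apply Finset.sum_congr rfl
      intro g _
      have : iH (g ^ (k : ZMod (Nat.card G)).val) = iH g := by
        simp only [iH]
        rw [if_congr (pow_mem_iff H g _ hcop) rfl rfl]
      simp only [powCoprime_apply]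
      rw [this]
    rw [Finset.sum_congr rfl (fun k _ => hk k), Finset.sum_const, Finset.card_univ,
      ZMod.card_units_eq_totient, nsmul_eq_mul, Finset.mul_sum]
  have hmain : ∑ g : G, (1 - iH g) * (1 - iV g) ≤ ∑ g : G, (1 - iH g) * ‖χf g‖ ^ 2 := by
    have h1 : (Nat.totient (Nat.card G) : ℝ) * ∑ g : G, (1 - iH g) * (1 - iV g) ≤
        (Nat.totient (Nat.card G) : ℝ) * ∑ g : G, (1 - iH g) * ‖χf g‖ ^ 2 := by
      rw [← hWsum, Finset.mul_sum]
      exact Finset.sum_le_sum (fun g _ => hpt g)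
    exact le_of_mul_le_mul_left h1 hφpos
  -- cardinalities
  have hHcard : ∑ g : G, iH g = (Nat.card H : ℝ) := by
    show ∑ g : G, (if g ∈ H then (1 : ℝ) else 0) = _
    rw [Finset.sum_boole, Nat.card_eq_fintype_card, Fintype.card_subtype]
  have hZcard : ∑ g : G, (1 - iH g) * iV g =
      (Set.ncard ({x : G | χf x = 0} \ (H : Set G)) : ℝ) := by
    have h1 : ∀ g : G, (1 - iH g) * iV g = if (χf g = 0 ∧ g ∉ H) then (1 : ℝ) else 0 := by
      intro g
      by_cases hg : g ∈ H <;> by_cases hv : χf g = 0 <;> simp [iH, iV, hg, hv]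
    rw [Finset.sum_congr rfl (fun g _ => h1 g), Finset.sum_boole]
    congr 1
    rw [Set.ncard_eq_toFinset_card']
    congr 1
    ext g
    simp
  have hHsum : ∑ᶠ h : ↥H, ‖χf h‖ ^ 2 = ∑ g : G, iH g * ‖χf g‖ ^ 2 := by
    rw [finsum_eq_sum_of_fintype]
    have h1 : ∀ g : G, iH g * ‖χf g‖ ^ 2 = if g ∈ H then ‖χf g‖ ^ 2 else 0 := by
      intro g
      by_cases hg : g ∈ H <;> simp [iH, hg]
    rw [Finset.sum_congr rfl (fun g _ => h1 g), ← Finset.sum_filter]
    exact (Finset.sum_subtype (p := fun g => g ∈ H) (Finset.univ.filter (· ∈ H)) (by simp)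
      (fun g : G => ‖χf g‖ ^ 2)).symm
  have hHpos : (0 : ℝ) < (Nat.card H : ℝ) := by exact_mod_cast Nat.card_pos
  -- combine
  have e1 : ∑ g : G, (1 - iH g) * (1 - iV g) =
      (Fintype.card G : ℝ) - Nat.card H - Set.ncard ({x : G | χf x = 0} \ (H : Set G)) := by
    have : ∀ g : G, (1 - iH g) * (1 - iV g) = 1 - iH g - (1 - iH g) * iV g := fun g => by ring
    rw [Finset.sum_congr rfl (fun g _ => this g), Finset.sum_sub_distrib, Finset.sum_sub_distrib,
      hHcard, hZcard]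
    simp
  have e2 : ∑ g : G, (1 - iH g) * ‖χf g‖ ^ 2 =
      (Fintype.card G : ℝ) - ∑ g : G, iH g * ‖χf g‖ ^ 2 := by
    have : ∀ g : G, (1 - iH g) * ‖χf g‖ ^ 2 = ‖χf g‖ ^ 2 - iH g * ‖χf g‖ ^ 2 := fun g => by ring
    rw [Finset.sum_congr rfl (fun g _ => this g), Finset.sum_sub_distrib, horth]
  rw [e1, e2] at hmain
  rw [hHsum, inv_mul_le_iff₀ hHpos]
  have : (Nat.card H : ℝ) * (1 + (Set.ncard ({x : G | χf x = 0} \ (H : Set G)) : ℝ) /
      (Nat.card H : ℝ)) = Nat.card H + Set.ncard ({x : G | χf x = 0} \ (H : Set G)) := by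
    field_simp
  rw [this]
  linarith

end Cfsg.Agent.S4989
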