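-- S5006: the Mathieu group `M₂₄` has exactly one 2-block.
-- Proof: (1) no 2-block of defect zero, by the involution-parity criterion
-- (`Helper3.InvParity`) applied to the seven classes of elements of odd order whose centraliser
-- has odd order (11A, 15A, 15B, 21A, 21B, 23A, 23B), the parities being computed in the kernel
-- over the list of all 43264 elements of square 1; (2) every nontrivial radical 2-subgroup is
-- self-centralising (`Helper3.RadCent`), from the two classes of involutions; (3) hence every
-- block is the principal block (`Helper91.OneBlockLocal`).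
-- The pieces were proved by many seats; see `Cfsg.Agent.Lib.Helper3.M24BlkGlue`.
import Cfsg.Statements.S5006
import Cfsg.Agent.Lib.Helper3.M24BlkGlue
import Cfsg.Agent.Lib.Helper1.M24BlkLSOUND
import Cfsg.Agent.Lib.Helper86.M24BlkP27
import Cfsg.Agent.Lib.Helper70.M24BlkGOODB

set_option autoImplicit false
open Cfsg

namespace Cfsg.Agent.S5006

/-- All irreducible complex characters of the Mathieu group `M₂₄` lie in a single 2-block: any two of them lie in the same block relative to every maximal ideal of the algebraic integers containing 2. -/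
theorem result (M : Ideal Cfsg.AlgInt) (hM : Cfsg.IsPModular 2 M)
    (χ ψ : Cfsg.IrrCharacter ↥Cfsg.M24) : Cfsg.SameBlock M (χ : ↥Cfsg.M24 → ℂ) (ψ : ↥Cfsg.M24 → ℂ) :=
  Cfsg.Agent.Lib.Helper3.M24BlkGlue.final Cfsg.Agent.Lib.Helper1.M24BlkLSOUND.main
    Cfsg.Agent.Lib.Helper86.M24BlkP27.main Cfsg.Agent.Lib.Helper70.M24BlkGOODB.main M hM χ ψ

end Cfsg.Agent.S5006
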