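import Cfsg.Statements.S5084
import Cfsg.Agent.H84.FusInd

set_option autoImplicit false
open Cfsg

namespace Cfsg.Agent.S5084

open Cfsg.FusionSystem Cfsg.Agent.H84

theorem forall_mem_sup_of {Ω : Type*} [Group Ω] {P Q : Subgroup Ω} (f : ↥(P ⊔ Q) →* Ω) (M : Subgroup Ω)
    (hP : ∀ (x : Ω) (hx : x ∈ P), f ⟨x, (le_sup_left : P ≤ P ⊔ Q) hx⟩ ∈ M)
    (hQ : ∀ (x : Ω) (hx : x ∈ Q), f ⟨x, (le_sup_right : Q ≤ P ⊔ Q) hx⟩ ∈ M) :
    ∀ w : ↥(P ⊔ Q), f w ∈ M := by
  have h1 : P.subgroupOf (P ⊔ Q) ≤ M.comap f := fun w hw => hP w hw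
  have h2 : Q.subgroupOf (P ⊔ Q) ≤ M.comap f := fun w hw => hQ w hw
  have h3 : P.subgroupOf (P ⊔ Q) ⊔ Q.subgroupOf (P ⊔ Q) = ⊤ :=
    codisjoint_iff.mp (Subgroup.codisjoint_subgroupOf_sup P Q)
  intro w
  have : w ∈ (⊤ : Subgroup ↥(P ⊔ Q)) := Subgroup.mem_top w
  rw [← h3] at this
  exact (sup_le h1 h2) this

/-- In a saturated fusion system over a finite p-group S, a subgroup Q is central in the system if and only if Q ≤ S and no element of Q is conjugate in the system to any element other than itself. -/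
theorem result {Ω : Type*} [Group Ω] {S : Subgroup Ω} [Finite S] (p : ℕ) [Fact p.Prime] (hS : IsPGroup p S) (F : Cfsg.FusionSystem S) (hF : F.IsSaturated p) (Q : Subgroup Ω) : F.IsCentral Q ↔ (Q ≤ S ∧ ∀ x ∈ Q, ∀ y : Ω, F.IsConjElt x y → y = x) := by
  constructor
  · rintro ⟨hQS, hQ⟩
    refine ⟨hQS, ?_⟩
    rintro x hx y ⟨φ, hφ, rfl⟩
    obtain ⟨ψ, hψ, h1, h2⟩ := hQ _ φ hφ
    have e1 := h1 ⟨x, Subgroup.mem_zpowers x⟩
    have e2 := h2 ⟨x, hx⟩
    rw [← e1]
    exact e2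
  · rintro ⟨hQS, hQ⟩
    refine ⟨hQS, ?_⟩
    -- every map of the system fixes the elements of Q in its source
    have hfix : ∀ {T : Subgroup Ω} {θ : T →* Ω}, θ ∈ F.Hom T → ∀ (x : Ω) (_ : x ∈ Q) (hxT : x ∈ T),
        θ ⟨x, hxT⟩ = x := by
      intro T θ hθ x hxQ hxT
      have hle : Subgroup.zpowers x ≤ T := by
        rw [Subgroup.zpowers_le]
        exact hxT
      exact hQ x hxQ _ ⟨_, hom_restrict F hθ hle, rfl⟩
    -- Q is central in S
    have hcen : ∀ x ∈ Q, ∀ s ∈ S, s * x = x * s := by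
      intro x hx s hs
      have hle : Subgroup.zpowers x ≤ S := by
        rw [Subgroup.zpowers_le]
        exact hQS hx
      have h1 := hfix (F.conj_mem hle hs : conjHom (Subgroup.zpowers x) s ∈ F.Hom _) x hx
        (Subgroup.mem_zpowers x)
      have h2 : s * x * s⁻¹ = x := h1
      calc s * x = (s * x * s⁻¹) * s := by group
        _ = x * s := by rw [h2]
    intro P φ hφ
    have hPS : P ≤ S := (F.le_of_mem hφ).1
    obtain ⟨R, hPR, hRa, hRr⟩ := hF P hPS
    obtain ⟨e1, he1⟩ := (isConj_iff_exists_iso F).mp hPR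
    have he : IsIso F (φ.ofInjective (F.injective_of_mem hφ)) := isIso_ofInjective hφ
    have he2 : IsIso F ((φ.ofInjective (F.injective_of_mem hφ)).symm.trans e1) := he.symm.trans he1
    obtain ⟨χ, hχ, hχ1, hχ2, hχ3⟩ := exists_normalizer_hom hS F hRa hRr _ he2
    have hP'S : φ.range ≤ S := he.le_right
    have hP'N : φ.range ≤ normalizerIn S φ.range := le_normalizerIn S hP'S
    have hcen' : ∀ x ∈ Q, ∀ y ∈ S, x * y * x⁻¹ = y := by
      intro x hx y hy
      have h3 := hcen x hx y hy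
      calc x * y * x⁻¹ = (y * x) * x⁻¹ := by rw [h3]
        _ = y := by group
    have hQN : Q ≤ normalizerIn S φ.range := by
      intro x hx
      refine ⟨hQS hx, ?_⟩
      show x ∈ Subgroup.normalizer (φ.range : Set Ω)
      rw [Subgroup.mem_normalizer_iff]
      intro y
      constructor
      · intro hy
        rw [hcen' x hx y (hP'S hy)]
        exact hy
      · intro hy
        have hyS : y ∈ S := by
          have : y = x⁻¹ * (x * y * x⁻¹) * x := by group
          rw [this]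
          exact S.mul_mem (S.mul_mem (S.inv_mem (hQS hx)) (hP'S hy)) (hQS hx)
        rw [hcen' x hx y hyS] at hy
        exact hy
    -- φ₁ = χ ∘ φ
    let φ₁ : P →* Ω := χ.comp (φ.codRestrict (normalizerIn S φ.range) (fun x => hP'N ⟨x, rfl⟩))
    have hφ₁ : φ₁ ∈ F.Hom P := F.comp_mem hφ hχ _
    have hφ₁val : ∀ x : P, φ₁ x = χ ⟨φ x, hP'N ⟨x, rfl⟩⟩ := fun x => rfl
    have hφ₁range : φ₁.range = R := by
      ext y
      constructor
      · rintro ⟨x, rfl⟩
        exact hχ2 _ ⟨x, rfl⟩ _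
      · intro hy
        obtain ⟨z, ⟨x, rfl⟩, hN, hzy⟩ := hχ3 y hy
        exact ⟨x, hzy⟩
    obtain ⟨θ, hθ, hθφ⟩ := hRr.2 P φ₁ hφ₁ hφ₁range
    have hPext : P ≤ extender S P φ₁ := le_extender S P φ₁ hPS (F.le_of_mem hφ₁).2
    have hQext : Q ≤ extender S P φ₁ := by
      refine le_trans ?_ (centralizerIn_le_extender S P φ₁)
      intro x hx
      refine ⟨hQS hx, ?_⟩
      show x ∈ Subgroup.centralizer (P : Set Ω)
      rw [Subgroup.mem_centralizer_iff]
      intro y hy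
      exact (hcen x hx y (hPS hy))
    have hle : P ⊔ Q ≤ extender S P φ₁ := sup_le hPext hQext
    have hle' : φ.range ⊔ Q ≤ normalizerIn S φ.range := sup_le hP'N hQN
    have hθ' : θ.comp (Subgroup.inclusion hle) ∈ F.Hom (P ⊔ Q) := hom_restrict F hθ hle
    have hχ' : χ.comp (Subgroup.inclusion hle') ∈ F.Hom (φ.range ⊔ Q) := hom_restrict F hχ hle'
    obtain ⟨ι, hι, hιχ, -⟩ := exists_inv F hχ'
    -- θ' takes values in the range of χ'
    have hvalP : ∀ (x : Ω) (hx : x ∈ P),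
        (θ.comp (Subgroup.inclusion hle)) ⟨x, (le_sup_left : P ≤ P ⊔ Q) hx⟩ =
          (χ.comp (Subgroup.inclusion hle')) ⟨φ ⟨x, hx⟩, (le_sup_left : φ.range ≤ φ.range ⊔ Q) ⟨_, rfl⟩⟩ := by
      intro x hx
      have := hθφ x hx (hPext hx)
      exact this
    have hvalQ : ∀ (x : Ω) (hx : x ∈ Q),
        (θ.comp (Subgroup.inclusion hle)) ⟨x, (le_sup_right : Q ≤ P ⊔ Q) hx⟩ =
          (χ.comp (Subgroup.inclusion hle')) ⟨x, (le_sup_right : Q ≤ φ.range ⊔ Q) hx⟩ := by
      intro x hx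
      have h1 := hfix hθ' x hx ((le_sup_right : Q ≤ P ⊔ Q) hx)
      have h2 := hfix hχ' x hx ((le_sup_right : Q ≤ φ.range ⊔ Q) hx)
      rw [h1, h2]
    have hrange : ∀ w : ↥(P ⊔ Q), (θ.comp (Subgroup.inclusion hle)) w ∈
        (χ.comp (Subgroup.inclusion hle')).range := by
      apply forall_mem_sup_of
      · intro x hx
        rw [hvalP x hx]
        exact ⟨_, rfl⟩
      · intro x hx
        rw [hvalQ x hx]
        exact ⟨_, rfl⟩
    have key : ∀ (w : ↥(P ⊔ Q)) (z : ↥(φ.range ⊔ Q)),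
        (θ.comp (Subgroup.inclusion hle)) w = (χ.comp (Subgroup.inclusion hle')) z →
        ι ⟨(θ.comp (Subgroup.inclusion hle)) w, hrange w⟩ = z := by
      intro w z h
      have h1 := hιχ z
      have h2 : (⟨(θ.comp (Subgroup.inclusion hle)) w, hrange w⟩ :
          (χ.comp (Subgroup.inclusion hle')).range) =
          ⟨(χ.comp (Subgroup.inclusion hle')) z, ⟨z, rfl⟩⟩ := Subtype.ext h
      rw [h2]
      exact h1
    refine ⟨ι.comp ((θ.comp (Subgroup.inclusion hle)).codRestrict _ hrange), F.comp_mem hθ' hι hrange, ?_, ?_⟩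
    · intro x
      exact key _ _ (hvalP x x.2)
    · intro x
      exact key _ _ (hvalQ x x.2)

end Cfsg.Agent.S5084
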