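import Cfsg.Statements.S5165
import Cfsg.Agent.Lib.Helper96.AltAsm2
import Cfsg.Agent.H84.AltMR
import Cfsg.Agent.Lib.Helper1.AltFN
import Cfsg.Agent.Lib.Helper1.AltRD
import Cfsg.Agent.Lib.Helper1.AltTP
import Cfsg.Agent.Lib.Helper1.AltTR
import Cfsg.Agent.Lib.Helper21.AltDP
import Cfsg.Agent.Lib.Helper21.AltNT
import Cfsg.Agent.Lib.Helper21.AltOB
import Cfsg.Agent.Lib.Helper21.AltPC
import Cfsg.Agent.Lib.Helper23.AltG2
import Cfsg.Agent.Lib.Helper23.AltPT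
import Cfsg.Agent.Lib.Helper23.AltWM
import Cfsg.Agent.Lib.Helper23.AltWP
import Cfsg.Agent.Lib.Helper41.AltCR
import Cfsg.Agent.Lib.Helper41.AltDN
import Cfsg.Agent.Lib.Helper41.AltK0
import Cfsg.Agent.Lib.Helper41.AltKA
import Cfsg.Agent.Lib.Helper59.AltC2
import Cfsg.Agent.Lib.Helper59.AltOR
import Cfsg.Agent.Lib.Helper59.AltSYL
import Cfsg.Agent.Lib.Helper62.AltK1
import Cfsg.Agent.Lib.Helper62.AltK2
import Cfsg.Agent.Lib.Helper74.AltN2
import Cfsg.Agent.Lib.Helper74.AltNF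
import Cfsg.Agent.Lib.Helper8.AltOC
import Cfsg.Agent.Lib.Helper8.AltTD
import Cfsg.Agent.Lib.Helper82.AltAP
import Cfsg.Agent.Lib.Helper82.AltOA
import Cfsg.Agent.Lib.Helper82.AltOP
import Cfsg.Agent.Lib.Helper82.AltSG
import Cfsg.Agent.Lib.Helper93.AltDEC
import Cfsg.Agent.Lib.Helper93.AltNE
import Cfsg.Agent.Lib.Helper93.AltXT
import Cfsg.Agent.Lib.Helper96.AltDO
import Cfsg.Agent.Lib.Helper97.AltALT
import Cfsg.Agent.Lib.Helper97.AltCA

set_option autoImplicit false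
open Cfsg

namespace Cfsg.Agent.S5165

/-- For n ≥ 6, a prime p with p² ≤ n, and n congruent to 0 or 1 modulo p, the p-fusion system of the alternating group of degree n on a Sylow p-subgroup is simple. -/
theorem result (n p : ℕ) (hn : 6 ≤ n) [Fact p.Prime] (hnp : p ^ 2 ≤ n) (hb : n % p ≤ 1) (S : Sylow p (alternatingGroup (Fin n))) : (Cfsg.groupFusionSystem (S : Subgroup (alternatingGroup (Fin n)))).IsSimple p := by
  exact Cfsg.Agent.Lib.Helper96.AltAsm.assembly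
    Cfsg.Agent.Lib.Helper93.AltXT.main
    Cfsg.Agent.Lib.Helper8.AltOC.main
    Cfsg.Agent.Lib.Helper82.AltOP.main
    Cfsg.Agent.Lib.Helper8.AltTD.main
    Cfsg.Agent.Lib.Helper1.AltTP.main
    Cfsg.Agent.Lib.Helper93.AltDEC.main
    Cfsg.Agent.Lib.Helper82.AltAP.main
    Cfsg.Agent.Lib.Helper93.AltNE.main
    Cfsg.Agent.Lib.Helper1.AltFN.main
    Cfsg.Agent.Lib.Helper1.AltRD.main
    Cfsg.Agent.Lib.Helper1.AltTR.main
    (Cfsg.Agent.Lib.Helper96.AltAsm2.oddGen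
      Cfsg.Agent.Lib.Helper59.AltC2.main
      Cfsg.Agent.Lib.Helper21.AltPC.main
      Cfsg.Agent.Lib.Helper21.AltNT.main
      Cfsg.Agent.Lib.Helper74.AltNF.main
      Cfsg.Agent.Lib.Helper23.AltPT.main
      Cfsg.Agent.Lib.Helper23.AltWP.main
      Cfsg.Agent.Lib.Helper23.AltWM.main
      Cfsg.Agent.Lib.Helper82.AltSG.main
      Cfsg.Agent.Lib.Helper62.AltK1.main
      Cfsg.Agent.Lib.Helper41.AltK0.main
      Cfsg.Agent.Lib.Helper62.AltK2.main
      Cfsg.Agent.Lib.Helper41.AltKA.main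
      Cfsg.Agent.Lib.Helper97.AltCA.main
      Cfsg.Agent.Lib.Helper82.AltOA.main
      Cfsg.Agent.Lib.Helper74.AltN2.main
      Cfsg.Agent.Lib.Helper23.AltG2.main
      Cfsg.Agent.H84.AltMR.main
      Cfsg.Agent.Lib.Helper96.AltDO.main
      Cfsg.Agent.Lib.Helper59.AltOR.main
      Cfsg.Agent.Lib.Helper41.AltCR.main
      Cfsg.Agent.Lib.Helper41.AltDN.main
      Cfsg.Agent.Lib.Helper21.AltOB.main
      Cfsg.Agent.Lib.Helper21.AltDP.main
      Cfsg.Agent.Lib.Helper97.AltALT.main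
      Cfsg.Agent.Lib.Helper59.AltSYL.main
      Cfsg.Agent.Lib.Helper1.AltTR.main
    )
    n p hn hnp hb S

end Cfsg.Agent.S5165
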