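import Cfsg.Statements.S5171
import Cfsg.Agent.Lib.Helper52.SpAsm
import Cfsg.Agent.Lib.Helper52.SpCLP
import Cfsg.Agent.Lib.Helper24.SpMAP
import Cfsg.Agent.Lib.Helper24.SpCRITP
import Cfsg.Agent.Lib.Helper22.SpLC
import Cfsg.Agent.Lib.Helper22.SpRAD
import Cfsg.Agent.Lib.Helper11.SpRQC
import Cfsg.Agent.Lib.Helper11.SpR2C
import Cfsg.Agent.Lib.Helper48.SpR2O
import Cfsg.Agent.Lib.Helper98.SpTS
import Cfsg.Agent.Lib.Helper98.SpRQO
import Cfsg.Agent.Lib.Helper30.SpNL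
import Cfsg.Agent.Lib.Helper30.SpNT2
import Cfsg.Agent.Lib.Helper64.SpNT1
import Cfsg.Agent.Lib.Helper65.SpTA
import Cfsg.Agent.Lib.Helper34.SpTB
import Cfsg.Agent.Lib.Helper34.SpCM
import Cfsg.Agent.Lib.Helper69.SpRQB
import Cfsg.Agent.Lib.Helper69.SpR2B
import Cfsg.Agent.Lib.Helper47.SpNGP
import Cfsg.Agent.Lib.Helper95.SpSS
import Cfsg.Agent.Lib.Helper95.SpUG
import Cfsg.Agent.Lib.Helper23.SpC2
import Cfsg.Agent.Lib.Helper23.SpWC
import Cfsg.Agent.Lib.Helper89.SpSC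
import Cfsg.Agent.Lib.Helper89.SpAUT
import Cfsg.Agent.Lib.Helper23.PslF1
import Cfsg.Agent.Lib.Helper23.PslF2

set_option autoImplicit false
open Cfsg

namespace Cfsg.Agent.S5171

/-- For a finite field K of characteristic p and m ≥ 2, excluding the case m = 2 with K of two elements, the p-fusion system of the projective symplectic group PSp_{2m}(K) on a Sylow p-subgroup is simple. -/
theorem result {K : Type*} [Field K] [Fintype K] (p : ℕ) [Fact p.Prime] [CharP K p] (m : ℕ) (hm : 2 ≤ m) (hex : m = 2 → 3 ≤ Fintype.card K) (S : Sylow p (Cfsg.PSp m K)) : (Cfsg.groupFusionSystem (S : Subgroup (Cfsg.PSp m K))).IsSimple p :=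
  Cfsg.Agent.Lib.Helper52.SpAsm.assembly
    (Cfsg.Agent.Lib.Helper24.SpCRITP.main Cfsg.Agent.Lib.Helper89.SpSC.main
      Cfsg.Agent.Lib.Helper22.SpRAD.main Cfsg.Agent.Lib.Helper89.SpAUT.main
      Cfsg.Agent.Lib.Helper23.PslF1.main Cfsg.Agent.Lib.Helper23.PslF2.main)
    Cfsg.Agent.Lib.Helper24.SpMAP.main
    (Cfsg.Agent.Lib.Helper52.SpCLP.main Cfsg.Agent.Lib.Helper34.SpCM.main
      Cfsg.Agent.Lib.Helper22.SpLC.main Cfsg.Agent.Lib.Helper95.SpSS.main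
      Cfsg.Agent.Lib.Helper23.SpWC.main Cfsg.Agent.Lib.Helper23.SpC2.main
      Cfsg.Agent.Lib.Helper95.SpUG.main)
    Cfsg.Agent.Lib.Helper69.SpRQB.main Cfsg.Agent.Lib.Helper11.SpRQC.main
    Cfsg.Agent.Lib.Helper98.SpRQO.main
    Cfsg.Agent.Lib.Helper69.SpR2B.main Cfsg.Agent.Lib.Helper11.SpR2C.main
    Cfsg.Agent.Lib.Helper48.SpR2O.main
    (Cfsg.Agent.Lib.Helper47.SpNGP.main Cfsg.Agent.Lib.Helper30.SpNL.main
      Cfsg.Agent.Lib.Helper64.SpNT1.main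
      Cfsg.Agent.Lib.Helper30.SpNT2.main Cfsg.Agent.Lib.Helper98.SpTS.main
      Cfsg.Agent.Lib.Helper65.SpTA.main Cfsg.Agent.Lib.Helper34.SpTB.main
      Cfsg.Agent.Lib.Helper69.SpRQB.main)
    p m hm hex S

end Cfsg.Agent.S5171
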