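import Cfsg.Statements.S5172
import Cfsg.Agent.Lib.Helper46.PsuAsm
import Cfsg.Agent.Lib.Helper46.PsuWB
import Cfsg.Agent.Lib.Helper46.PsuWIP
import Cfsg.Agent.Lib.Helper46.PsuFIN
import Cfsg.Agent.Lib.Helper29.PsuMEQ
import Cfsg.Agent.Lib.Helper24.SpMAP
import Cfsg.Agent.Lib.Helper24.SpCRITP
import Cfsg.Agent.Lib.Helper89.SpSC
import Cfsg.Agent.Lib.Helper22.SpRAD
import Cfsg.Agent.Lib.Helper89.SpAUT
import Cfsg.Agent.Lib.Helper23.PslF1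
import Cfsg.Agent.Lib.Helper23.PslF2
import Cfsg.Agent.Lib.Helper30.PsuZ0
import Cfsg.Agent.Lib.Helper86.PsuZ1
import Cfsg.Agent.Lib.Helper8.PsuNU
import Cfsg.Agent.Lib.Helper30.PsuUD
import Cfsg.Agent.Lib.Helper86.PsuDB
import Cfsg.Agent.Lib.Helper76.PsuNT
import Cfsg.Agent.Lib.Helper76.PsuNL
import Cfsg.Agent.Lib.Helper76.PsuCLP
import Cfsg.Agent.Lib.Helper8.PsuCC
import Cfsg.Agent.Lib.Helper6.PsuCIT
import Cfsg.Agent.Lib.Helper86.PsuLIT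
import Cfsg.Agent.Lib.Helper86.PsuSTT
import Cfsg.Agent.Lib.Helper43.PsuSLT
import Cfsg.Agent.Lib.Helper6.PsuMIT
import Cfsg.Agent.Lib.Helper52.PsuGEN
import Cfsg.Agent.Lib.Helper34.PsuCW
import Cfsg.Agent.Lib.Helper34.PsuCR
import Cfsg.Agent.Lib.Helper56.PsuIW
import Cfsg.Agent.Lib.Helper43.PsuIC
import Cfsg.Agent.Lib.Helper91.PsuTG
import Cfsg.Agent.Lib.Helper91.PsuTH
import Cfsg.Agent.Lib.Helper46.PsuTCE
import Cfsg.Agent.Lib.Helper74.PsuTCO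
import Cfsg.Agent.Lib.Helper86.PsuSYL
import Cfsg.Agent.Lib.Helper82.PsuLCP
import Cfsg.Agent.Lib.Helper82.PsuDNEP
import Cfsg.Agent.Lib.Helper29.PsuDCLP
import Cfsg.Agent.Lib.Helper99.PsuDRNP
import Cfsg.Agent.Lib.Helper2.PsuDCTP
import Cfsg.Agent.Lib.Helper99.PsuDOPP
import Cfsg.Agent.Lib.Helper99.PsuNBP
import Cfsg.Agent.Lib.Helper29.PsuDSYP
import Cfsg.Agent.Lib.Helper74.PsuDTOP
import Cfsg.Agent.Lib.Helper29.PsuDNGP

set_option autoImplicit false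
open Cfsg

namespace Cfsg.Agent.S5172

/-- For a finite field K with q² elements of characteristic p and n ≥ 4, the p-fusion system of the projective special unitary group PSU_n(q) (realised over K) on a Sylow p-subgroup is simple. -/
theorem result {K : Type*} [Field K] [Fintype K] (p q : ℕ) [Fact p.Prime] [CharP K p] (hK : Fintype.card K = q ^ 2) (n : ℕ) (hn : 4 ≤ n) (S : Sylow p (Cfsg.PSU n K q)) : (Cfsg.groupFusionSystem (S : Subgroup (Cfsg.PSU n K q))).IsSimple p :=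
  Cfsg.Agent.Lib.Helper46.PsuAsm.goal
    Cfsg.Agent.Lib.Helper46.PsuWB.main Cfsg.Agent.Lib.Helper46.PsuWIP.main
    Cfsg.Agent.Lib.Helper29.PsuMEQ.main Cfsg.Agent.Lib.Helper24.SpMAP.main
    (Cfsg.Agent.Lib.Helper24.SpCRITP.main Cfsg.Agent.Lib.Helper89.SpSC.main
      Cfsg.Agent.Lib.Helper22.SpRAD.main Cfsg.Agent.Lib.Helper89.SpAUT.main
      Cfsg.Agent.Lib.Helper23.PslF1.main Cfsg.Agent.Lib.Helper23.PslF2.main)
    Cfsg.Agent.Lib.Helper46.PsuFIN.main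
    Cfsg.Agent.Lib.Helper30.PsuZ0.main Cfsg.Agent.Lib.Helper86.PsuZ1.main
    Cfsg.Agent.Lib.Helper8.PsuNU.main Cfsg.Agent.Lib.Helper30.PsuUD.main
    Cfsg.Agent.Lib.Helper86.PsuDB.main Cfsg.Agent.Lib.Helper76.PsuNT.main
    Cfsg.Agent.Lib.Helper76.PsuNL.main
    (Cfsg.Agent.Lib.Helper76.PsuCLP.main Cfsg.Agent.Lib.Helper8.PsuCC.main
      Cfsg.Agent.Lib.Helper6.PsuCIT.main Cfsg.Agent.Lib.Helper86.PsuLIT.main
      Cfsg.Agent.Lib.Helper86.PsuSTT.main Cfsg.Agent.Lib.Helper43.PsuSLT.main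
      Cfsg.Agent.Lib.Helper6.PsuMIT.main Cfsg.Agent.Lib.Helper52.PsuGEN.main)
    Cfsg.Agent.Lib.Helper34.PsuCW.main Cfsg.Agent.Lib.Helper34.PsuCR.main
    Cfsg.Agent.Lib.Helper56.PsuIW.main Cfsg.Agent.Lib.Helper43.PsuIC.main
    Cfsg.Agent.Lib.Helper91.PsuTG.main Cfsg.Agent.Lib.Helper91.PsuTH.main
    Cfsg.Agent.Lib.Helper46.PsuTCE.main Cfsg.Agent.Lib.Helper74.PsuTCO.main
    Cfsg.Agent.Lib.Helper86.PsuSYL.main
    Cfsg.Agent.Lib.Helper82.PsuLCP.main Cfsg.Agent.Lib.Helper82.PsuDNEP.main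
    Cfsg.Agent.Lib.Helper29.PsuDCLP.main Cfsg.Agent.Lib.Helper99.PsuDRNP.main
    Cfsg.Agent.Lib.Helper2.PsuDCTP.main Cfsg.Agent.Lib.Helper99.PsuDOPP.main
    Cfsg.Agent.Lib.Helper99.PsuNBP.main Cfsg.Agent.Lib.Helper29.PsuDSYP.main
    Cfsg.Agent.Lib.Helper74.PsuDTOP.main Cfsg.Agent.Lib.Helper29.PsuDNGP.main
    p q hK n hn S

end Cfsg.Agent.S5172
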