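import Cfsg.Statements.S5178
import Cfsg.Agent.Lib.Helper88.SmallComm
import Cfsg.Agent.H84.FusZ2
-- import your own Cfsg.Agent.* helpers here

set_option autoImplicit false
universe u
open Cfsg

namespace Cfsg.Agent.S5178

/-- Let p be an odd prime, S a finite p-group containing an extraspecial subgroup Q of index p, and F a saturated fusion system over S whose largest subgroup normal in F is trivial. Then the centre of S equals the centre of Q. -/
theorem result {Ω : Type u} [Group Ω] {S : Subgroup Ω} [Finite S] (p : ℕ) [Fact p.Prime] (hp : Odd p) (hS : IsPGroup p S)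
    (Q : Subgroup Ω) (hQS : Q ≤ S) (hQ : Cfsg.IsExtraspecial p ↥Q) (hQi : (Q.subgroupOf S).index = p)
    (F : Cfsg.FusionSystem S) (hF : F.IsSaturated p) (hO : F.core = ⊥) :
    S ⊓ Subgroup.centralizer (S : Set Ω) = Q ⊓ Subgroup.centralizer (Q : Set Ω) := by
  have hp' : p.Prime := Fact.out
  have hp2 : p ≠ 2 := by
    rintro rfl
    exact absurd hp (by decide)
  obtain ⟨hZcard, hQnorm, hZc, hQcomm, hQna⟩ :=
    Cfsg.Agent.Lib.Helper88.SmallComm.extra_setup hS Q hQS hQ hQi
  apply le_antisymm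
  · intro c hc
    by_contra hcZ
    have hcS : c ∈ S := hc.1
    have hcc : ∀ s ∈ S, s * c = c * s := fun s hs => Subgroup.mem_centralizer_iff.mp hc.2 s hs
    have hcQ : c ∉ Q := fun h =>
      hcZ ⟨h, Subgroup.mem_centralizer_iff.mpr fun y hy => hcc y (hQS hy)⟩
    -- `S = Q ⟨c⟩`
    have hgen : ∀ s ∈ S, ∃ q ∈ Q, ∃ k : ℤ, s = q * c ^ k := by
      intro s hs
      have hnormal : (Q.subgroupOf S).Normal :=
        (Subgroup.normal_subgroupOf_iff hQS).mpr fun h k hh hk => hQnorm k hk h hh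
      have htop := Cfsg.Agent.Lib.Helper88.SmallComm.sup_zpowers_eq_top hS (Q.subgroupOf S)
        hQi.le (s := (⟨c, hcS⟩ : S)) (fun h => hcQ (Subgroup.mem_subgroupOf.mp h))
      have hmem : (⟨s, hs⟩ : S) ∈
          ((Q.subgroupOf S ⊔ Subgroup.zpowers (⟨c, hcS⟩ : S) : Subgroup S) : Set S) := by
        rw [htop]
        exact Subgroup.mem_top _
      rw [Subgroup.normal_mul] at hmem
      obtain ⟨a, ha, b, hb, hab⟩ := Set.mem_mul.mp hmem
      obtain ⟨k, hk⟩ := Subgroup.mem_zpowers_iff.mp hb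
      refine ⟨a, Subgroup.mem_subgroupOf.mp ha, k, ?_⟩
      have h1 := congrArg Subtype.val hab
      have h2 := congrArg Subtype.val hk
      rw [Subgroup.coe_zpow] at h2
      rw [Subgroup.coe_mul, ← h2] at h1
      exact h1.symm
    -- all commutators of `S` lie in the centre of `Q`
    have hScomm : ∀ x ∈ S, ∀ y ∈ S,
        x * y * x⁻¹ * y⁻¹ ∈ Q ⊓ Subgroup.centralizer (Q : Set Ω) := by
      intro x hx y hy
      obtain ⟨q1, hq1, k1, rfl⟩ := hgen x hx
      obtain ⟨q2, hq2, k2, rfl⟩ := hgen y hy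
      have hck : ∀ (k : ℤ), ∀ s ∈ S, s * c ^ k = c ^ k * s := by
        intro k s hs
        have : Commute s c := hcc s hs
        exact (this.zpow_right k).eq
      have e : q1 * c ^ k1 * (q2 * c ^ k2) * (q1 * c ^ k1)⁻¹ * (q2 * c ^ k2)⁻¹ =
          q1 * q2 * q1⁻¹ * q2⁻¹ := by
        have a1 : Commute (c ^ k1) q2 := (hck k1 q2 (hQS hq2)).symm
        have a2 : Commute (c ^ k2) q1 := (hck k2 q1 (hQS hq1)).symm
        have a3 : Commute (c ^ k1) (c ^ k2) := by
          show c ^ k1 * c ^ k2 = c ^ k2 * c ^ k1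
          rw [← zpow_add, ← zpow_add, add_comm]
        have e1 : c ^ k1 * (q2 * c ^ k2) * (c ^ k1)⁻¹ = q2 * c ^ k2 := by
          have h : Commute (c ^ k1) (q2 * c ^ k2) := a1.mul_right a3
          rw [h.eq, mul_inv_cancel_right]
        have e2 : c ^ k2 * q1⁻¹ * (c ^ k2)⁻¹ = q1⁻¹ := by
          rw [(a2.inv_right).eq, mul_inv_cancel_right]
        calc q1 * c ^ k1 * (q2 * c ^ k2) * (q1 * c ^ k1)⁻¹ * (q2 * c ^ k2)⁻¹
            = q1 * (c ^ k1 * (q2 * c ^ k2) * (c ^ k1)⁻¹) * q1⁻¹ * (q2 * c ^ k2)⁻¹ := by group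
          _ = q1 * q2 * (c ^ k2 * q1⁻¹ * (c ^ k2)⁻¹) * q2⁻¹ := by rw [e1]; group
          _ = q1 * q2 * q1⁻¹ * q2⁻¹ := by rw [e2]
      rw [e]
      exact hQcomm q1 hq1 q2 hq2
    -- `S` is not trivial and has an essential subgroup
    have hS1 : S ≠ ⊥ := fun h => hcQ (by
      rw [h] at hcS
      rw [Subgroup.mem_bot.mp hcS]
      exact Q.one_mem)
    obtain ⟨E, hE⟩ := Cfsg.Agent.Lib.Helper88.SmallComm.exists_essential hS F hF hS1 hO
    have hES : E ≤ S := hE.1.1
    have hCE : Cfsg.FusionSystem.centralizerIn S E ≤ E :=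
      hE.1.2 E (Cfsg.Agent.H84.isConj_refl F hES)
    have hZE : Q ⊓ Subgroup.centralizer (Q : Set Ω) ≤ E := by
      intro z hz
      apply hCE
      refine ⟨hQS hz.1, Subgroup.mem_centralizer_iff.mpr fun y hy => ?_⟩
      have h1 := hZc y (hES hy) z hz
      calc y * z = y * z * y⁻¹ * y := by group
        _ = z * y := by rw [h1]
    have hnorm : ∀ r ∈ S, ∀ x ∈ E, r * x * r⁻¹ ∈ E := by
      intro r hr x hx
      have h1 := hScomm r hr x (hES hx)
      have e : r * x * r⁻¹ = (r * x * r⁻¹ * x⁻¹) * x := by group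
      rw [e]
      exact E.mul_mem (hZE h1) hx
    have hcomm : ∀ r ∈ S, ∀ x ∈ E,
        r * x * r⁻¹ * x⁻¹ ∈ Q ⊓ Subgroup.centralizer (Q : Set Ω) :=
      fun r hr x hx => hScomm r hr x (hES hx)
    by_cases hab : ∀ x ∈ E, ∀ y ∈ E, x * y = y * x
    · have hidx := Cfsg.Agent.Lib.Helper88.SmallComm.index_le hS F hF hE S _ le_rfl hnorm hcomm
        hZE hZcard hZc
      have hDle : commutator ↥S ≤ (Q ⊓ Subgroup.centralizer (Q : Set Ω)).subgroupOf S := by
        rw [commutator_def, Subgroup.commutator_le]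
        intro x _ y _
        rw [commutatorElement_def, Subgroup.mem_subgroupOf]
        exact hScomm x x.2 y y.2
      have hZ₀S : Q ⊓ Subgroup.centralizer (Q : Set Ω) ≤ S := inf_le_left.trans hQS
      have hZle : (Q ⊓ Subgroup.centralizer (Q : Set Ω)).subgroupOf S ≤ Subgroup.center ↥S := by
        intro z hz
        rw [Subgroup.mem_center_iff]
        intro s
        apply Subtype.ext
        have h1 := hZc s s.2 z (Subgroup.mem_subgroupOf.mp hz)
        show (s : Ω) * z = z * s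
        calc (s : Ω) * z = s * z * (s : Ω)⁻¹ * s := by group
          _ = z * s := by rw [h1]
      have hDcard' : Nat.card (commutator ↥S) ≤ p := by
        rw [← hZcard]
        refine (Subgroup.card_le_of_le hDle).trans (le_of_eq ?_)
        exact Nat.card_congr (Subgroup.subgroupOfEquivOfLe hZ₀S).toEquiv
      have hcen := Cfsg.Agent.Lib.Helper88.SmallComm.index_center_le (G := ↥S) hS
        (E.subgroupOf S)
        (fun a ha b hb => Subtype.ext (hab a (Subgroup.mem_subgroupOf.mp ha) b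
          (Subgroup.mem_subgroupOf.mp hb)))
        hidx (hDle.trans hZle) hDcard'
      have hnc : ¬ ∀ a b : S, a * b = b * a := by
        intro h
        apply hQna
        intro x hx y hy
        exact congrArg Subtype.val (h ⟨x, hQS hx⟩ ⟨y, hQS hy⟩)
      obtain ⟨hidx2, hDcard, hDZ⟩ := Cfsg.Agent.H84.FusZ.center_structure hS hnc hcen
      have hmain := (Cfsg.Agent.H84.FusZ.odd_main hp2 hS F hF hidx2 hDZ hDcard hE hO).1
      have hcZS : c ∈ Cfsg.Agent.H84.FusZ.ZS S := Cfsg.Agent.H84.FusZ.mem_ZS.mpr ⟨hcS, hcc⟩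
      have hDS : (⁅S, S⁆ : Subgroup Ω) ≤ Q ⊓ Subgroup.centralizer (Q : Set Ω) := by
        rw [Subgroup.commutator_le]
        intro x hx y hy
        rw [commutatorElement_def]
        exact hScomm x hx y hy
      exact hcQ (hDS (hmain hcZS)).1
    · have hSE := Cfsg.Agent.Lib.Helper88.SmallComm.le_of_nonabelian hS F hE S _ le_rfl hnorm
        hcomm hZE hZcard hZc (fun x hx y hy => hScomm x (hES hx) y (hES hy)) hab
      exact Cfsg.Agent.H84.FusZ.ess_ne hS F hF hE (le_antisymm hES hSE)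
  · intro z hz
    refine ⟨hQS hz.1, Subgroup.mem_centralizer_iff.mpr fun s hs => ?_⟩
    have h1 := hZc s hs z hz
    calc s * z = s * z * s⁻¹ * s := by group
      _ = z * s := by rw [h1]

end Cfsg.Agent.S5178
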