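import Cfsg.Statements.S5179
import Cfsg.Agent.Lib.Helper88.SmallComm
-- import your own Cfsg.Agent.* helpers here

set_option autoImplicit false
universe u
open Cfsg

namespace Cfsg.Agent.S5179

/-- Let p be an odd prime, S a finite p-group of order at least p⁶ containing an extraspecial subgroup Q of index p, and F a saturated fusion system over S whose largest subgroup normal in F is trivial. Then no proper subgroup of Q is essential in F: an essential subgroup of F contained in Q equals Q. -/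
theorem result {Ω : Type u} [Group Ω] {S : Subgroup Ω} [Finite S] (p : ℕ) [Fact p.Prime] (hp : Odd p) (hS : IsPGroup p S)
    (Q : Subgroup Ω) (hQS : Q ≤ S) (hQ : Cfsg.IsExtraspecial p ↥Q) (hQi : (Q.subgroupOf S).index = p)
    (h6 : p ^ 6 ≤ Nat.card S)
    (F : Cfsg.FusionSystem S) (hF : F.IsSaturated p) (hO : F.core = ⊥)
    (E : Subgroup Ω) (hEQ : E ≤ Q) (hE : F.IsEssential p E) : E = Q := by
  have hp' : p.Prime := Fact.out
  obtain ⟨hZcard, hQnorm, hZc, hQcomm, hQna⟩ :=
    Cfsg.Agent.Lib.Helper88.SmallComm.extra_setup hS Q hQS hQ hQi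
  have hES : E ≤ S := hE.1.1
  have hCE : Cfsg.FusionSystem.centralizerIn S E ≤ E :=
    hE.1.2 E (Cfsg.Agent.H84.isConj_refl F hES)
  have hZE : Q ⊓ Subgroup.centralizer (Q : Set Ω) ≤ E := by
    intro z hz
    apply hCE
    refine ⟨hQS hz.1, Subgroup.mem_centralizer_iff.mpr fun y hy => ?_⟩
    have h1 := hZc y (hES hy) z hz
    calc y * z = y * z * y⁻¹ * y := by group
      _ = z * y := by rw [h1]
  have hnorm : ∀ r ∈ Q, ∀ x ∈ E, r * x * r⁻¹ ∈ E := by
    intro r hr x hx
    have h1 := hQcomm r hr x (hEQ hx)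
    have e : r * x * r⁻¹ = (r * x * r⁻¹ * x⁻¹) * x := by group
    rw [e]
    exact E.mul_mem (hZE h1) hx
  have hcomm : ∀ r ∈ Q, ∀ x ∈ E, r * x * r⁻¹ * x⁻¹ ∈ Q ⊓ Subgroup.centralizer (Q : Set Ω) :=
    fun r hr x hx => hQcomm r hr x (hEQ hx)
  by_cases hab : ∀ x ∈ E, ∀ y ∈ E, x * y = y * x
  · exfalso
    haveI : Finite ↥Q := Cfsg.Agent.H84.finite_of_le hQS
    have hidx := Cfsg.Agent.Lib.Helper88.SmallComm.index_le hS F hF hE Q _ hQS hnorm hcomm hZE
      hZcard hZc
    have hcen := Cfsg.Agent.Lib.Helper88.SmallComm.index_center_le (G := ↥Q) hQ.1.1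
      (E.subgroupOf Q)
      (fun a ha b hb => Subtype.ext (hab a (Subgroup.mem_subgroupOf.mp ha) b
        (Subgroup.mem_subgroupOf.mp hb)))
      hidx hQ.1.2.2.le (by rw [hQ.1.2.2, hQ.2])
    have h1 := Subgroup.card_mul_index (Subgroup.center ↥Q)
    rw [hQ.2] at h1
    have h2 := Subgroup.card_mul_index (Q.subgroupOf S)
    rw [hQi] at h2
    have h3 : Nat.card (Q.subgroupOf S) = Nat.card Q :=
      Nat.card_congr (Subgroup.subgroupOfEquivOfLe hQS).toEquiv
    rw [h3, ← h1] at h2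
    have h4 : Nat.card S ≤ p * p ^ 2 * p := by
      rw [← h2]
      exact Nat.mul_le_mul_right p (Nat.mul_le_mul_left p hcen)
    have h5 : p * p ^ 2 * p = p ^ 4 := by ring
    rw [h5] at h4
    have h6' : p ^ 6 ≤ p ^ 4 := h6.trans h4
    have h7 : 6 ≤ 4 := (Nat.pow_le_pow_iff_right hp'.one_lt).mp h6'
    omega
  · exact le_antisymm hEQ
      (Cfsg.Agent.Lib.Helper88.SmallComm.le_of_nonabelian hS F hE Q _ hQS hnorm hcomm hZE
        hZcard hZc (fun x hx y hy => hQcomm x (hEQ hx) y (hEQ hy)) hab)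

end Cfsg.Agent.S5179
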