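import Cfsg.Statements.S5185
import Cfsg.Agent.Lib.Helper86.GL2
import Cfsg.Agent.Lib.Helper86.ElemAb
import Cfsg.Agent.Lib.Helper86.Essential

set_option autoImplicit false
open Cfsg

universe u

namespace Cfsg.Agent.S5185

open Cfsg.Agent.Lib.Helper86

theorem result {Ω : Type u} [Group Ω] {S : Subgroup Ω} [Finite S] (p : ℕ) [Fact p.Prime] (hS : IsPGroup p S)
    (F : Cfsg.FusionSystem S) (hF : F.IsSaturated p) (H : Subgroup Ω) (hH : F.IsEssential p H) (hcard : Nat.card H = p ^ 2) :
    Cfsg.IsElementaryAbelian p H ∧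
      ∃ K : Subgroup ↥(F.autGroup H), Nonempty (↥K ≃* Matrix.SpecialLinearGroup (Fin 2) (ZMod p)) := by
  have hp : p.Prime := Fact.out
  obtain ⟨hcen, -, hnorm, E, hE⟩ := hH
  have hfinH : Finite H :=
    Finite.of_injective (Subgroup.inclusion hcen.1) (Subgroup.inclusion_injective _)
  have hcomm : ∀ a b : H, a * b = b * a := IsPGroup.commutative_of_card_eq_prime_sq hcard
  have hfinM : Finite (MulAut H) := Finite.of_injective (fun α : MulAut H => (α : H → H))
    (fun α β h => MulEquiv.ext (congrFun h))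
  have hfinA : Finite (F.autGroup H) := inferInstance
  -- not cyclic
  have hnc : ¬ IsCyclic H := by
    intro hc
    apply Essential.not_comm_of_quotient _ E hE
    intro a b
    apply Subtype.ext
    have e := IsCyclic.mulAutMulEquiv (G := H)
    apply e.injective
    show e ((a : MulAut H) * (b : MulAut H)) = e ((b : MulAut H) * (a : MulAut H))
    rw [map_mul, map_mul, mul_comm]
  -- exponent p
  have hexp : ∀ a : H, a ^ p = 1 := by
    intro a
    have h1 : orderOf a ∣ p ^ 2 := hcard ▸ orderOf_dvd_natCard a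
    obtain ⟨k, hk, hk'⟩ := (Nat.dvd_prime_pow hp).mp h1
    interval_cases k
    · rw [pow_zero, orderOf_eq_one_iff] at hk'
      rw [hk', one_pow]
    · rw [pow_one] at hk'
      rw [← hk', pow_orderOf_eq_one]
    · exfalso
      apply hnc
      exact isCyclic_of_orderOf_eq_card a (hk'.trans hcard.symm)
  refine ⟨⟨⟨⟨fun a b => hcomm a b⟩⟩, fun a ha => ?_⟩, ?_⟩
  · exact congrArg Subtype.val (hexp ⟨a, ha⟩)
  · obtain ⟨Θ⟩ := ElemAb.exists_mulAut_equiv_GL hcomm hexp 2 hcard
    obtain ⟨P₁, P₂, h1A, h2A, hp1, hp2, hb1, hb2, hne⟩ :=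
      Essential.exists_two_pgroups (F.autGroup H) _ E hE
    have hsl := GL2.toGL_range_le_sup (P₁.map Θ.toMonoidHom) (P₂.map Θ.toMonoidHom)
      (hp1.map _) (hp2.map _)
      (by rw [Ne, Subgroup.map_eq_bot_iff_of_injective _ Θ.injective]; exact hb1)
      (by rw [Ne, Subgroup.map_eq_bot_iff_of_injective _ Θ.injective]; exact hb2)
      (fun h => hne (Subgroup.map_injective Θ.injective h))
    let j : Matrix.SpecialLinearGroup (Fin 2) (ZMod p) →* MulAut H :=
      Θ.symm.toMonoidHom.comp Matrix.SpecialLinearGroup.toGL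
    have hj : Function.Injective j :=
      Θ.symm.injective.comp Matrix.SpecialLinearGroup.toGL_injective
    have hjA : j.range ≤ F.autGroup H := by
      rintro _ ⟨M, rfl⟩
      have h1 : Matrix.SpecialLinearGroup.toGL M ∈ P₁.map Θ.toMonoidHom ⊔ P₂.map Θ.toMonoidHom :=
        hsl ⟨M, rfl⟩
      rw [← Subgroup.map_sup] at h1
      obtain ⟨x, hx, hxM⟩ := h1
      have h2 : j M = x := by
        show Θ.symm (Matrix.SpecialLinearGroup.toGL M) = x
        rw [← hxM]
        exact Θ.symm_apply_apply x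
      rw [h2]
      exact (sup_le h1A h2A) hx
    exact ⟨j.range.subgroupOf (F.autGroup H),
      ⟨(Subgroup.subgroupOfEquivOfLe hjA).trans (MonoidHom.ofInjective hj).symm⟩⟩

end Cfsg.Agent.S5185
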