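import Cfsg.Statements.S5186
import Cfsg.Agent.H84.PCube
import Cfsg.Agent.S4189
import Cfsg.Agent.Lib.Helper86.Essential
import Cfsg.Agent.Lib.Helper87.FSSat

set_option autoImplicit false
open Cfsg

universe u

namespace Cfsg.Agent.S5186

/-- Let F be a saturated fusion system over a finite p-group S and H an essential subgroup of order p³. Then H is elementary abelian, or p is odd and H is extraspecial of exponent p, or p = 2 and H is the quaternion group of order 8. -/
theorem result {Ω : Type u} [Group Ω] {S : Subgroup Ω} [Finite S] (p : ℕ) [Fact p.Prime] (hS : IsPGroup p S)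
    (F : Cfsg.FusionSystem S) (hF : F.IsSaturated p) (H : Subgroup Ω) (hH : F.IsEssential p H) (hcard : Nat.card H = p ^ 3) :
    Cfsg.IsElementaryAbelian p H ∨ (Odd p ∧ Cfsg.IsExtraspecial p ↥H ∧ ∀ x ∈ H, x ^ p = 1) ∨
      (p = 2 ∧ Nonempty (↥H ≃* QuaternionGroup 2)) := by
  have hp : p.Prime := Fact.out
  obtain ⟨hcen, hfn, hn, E, hE⟩ := hH
  have hHS : H ≤ S := hcen.1
  have hfinH : Finite ↥H := Cfsg.Agent.Lib.Helper87.FSSat.finite_of_le hHS
  have hHp : IsPGroup p ↥H := IsPGroup.of_card hcard
  have hfinA : Finite ↥(F.autGroup H) := inferInstance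
  have hnp : ¬ IsPGroup p ↥(commutator ↥(F.autGroup H)) :=
    Cfsg.Agent.Lib.Helper86.Essential.commutator_not_pgroup_of_quotient _ E hE
  rcases Cfsg.Agent.H84.PCube.cube_cases (H := ↥H) hcard with
    ⟨hc, hexp⟩ | ⟨hc, hexp⟩ | ⟨h2, hc⟩ | ⟨B, A, hAB, hB, hA, hBinv, hAinv⟩
  · left
    refine ⟨⟨⟨fun a b => hc a b⟩⟩, fun a ha => ?_⟩
    exact congrArg (fun u : ↥H => (u : Ω)) (hexp ⟨a, ha⟩)
  · right; left
    obtain ⟨hZ, hcomm, hpow⟩ := Cfsg.Agent.H84.PCube.nonabelian_cube hcard hc
    refine ⟨?_, ⟨⟨hHp, ?_, hcomm⟩, hZ⟩, fun x hx => congrArg (fun u : ↥H => (u : Ω)) (hexp ⟨x, hx⟩)⟩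
    · rcases hp.eq_two_or_odd' with h2 | hodd
      · exfalso
        obtain ⟨a, b, hab⟩ := hc
        apply hab
        have h1 : ∀ x : ↥H, x * x = 1 := fun x => by
          have := hexp x
          rw [h2, pow_two] at this
          exact this
        have ha := h1 a
        have hb := h1 b
        have habm := h1 (a * b)
        calc a * b = a * (a * b * (a * b)) * b := by rw [habm, mul_one]
          _ = (a * a) * b * a * (b * b) := by group
          _ = b * a := by rw [ha, hb, one_mul, mul_one]
      · exact hodd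
    · apply le_antisymm
      · exact Cfsg.Agent.Lib.Helper24.SpecialGroup.frattini_le_of_quotient_elementary p _
          hcomm.le hpow
      · rw [← hcomm]
        exact Cfsg.Agent.Lib.Helper63.PFrattini.commutator_le_frattini hHp
  · right; right
    refine ⟨h2, ?_⟩
    subst h2
    obtain ⟨hZ, hcomm, hpow⟩ := Cfsg.Agent.H84.PCube.nonabelian_cube hcard hc
    apply Cfsg.Agent.S4189.result hHp
    · intro hmc
      obtain ⟨a, b, hab⟩ := hc
      exact hab (hmc.is_comm.comm a b)
    · have h1 := Subgroup.card_mul_index (Subgroup.center ↥H)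
      rw [hZ, hcard] at h1
      rw [hcomm]
      norm_num at h1
      omega
    · intro hA2
      exact hnp ((hA2.to_subgroup (F.autGroup H)).to_subgroup _)
  · exfalso
    apply hnp
    have hBn : B.Normal := ⟨fun x hx g => hBinv (MulAut.conj g) x hx⟩
    have hAn : A.Normal := ⟨fun x hx g => hAinv (MulAut.conj g) x hx⟩
    have hppos : 0 < p := hp.pos
    have hBidx : B.index = p := by
      have h1 := Subgroup.card_mul_index B
      rw [hB, hcard] at h1
      have h3 : p ^ 2 * B.index = p ^ 2 * p := by rw [h1]; ring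
      exact Nat.eq_of_mul_eq_mul_left (pow_pos hppos 2) h3
    have hABidx : A.relIndex B = p := by
      have h1 := Subgroup.card_mul_index (A.subgroupOf B)
      have h2 : Nat.card ↥(A.subgroupOf B) = Nat.card ↥A :=
        Nat.card_congr (Subgroup.subgroupOfEquivOfLe hAB).toEquiv
      rw [h2, hA, hB] at h1
      have h3 : p * (A.subgroupOf B).index = p * p := by rw [h1]; ring
      exact Nat.eq_of_mul_eq_mul_left hppos h3
    exact Cfsg.Agent.H84.PCube.commutator_isPGroup_of_chain hHp B A hBidx hABidx hA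
      (F.autGroup H) (fun α _ => hBinv α) (fun α _ => hAinv α)

end Cfsg.Agent.S5186
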