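import Cfsg.Statements.S5192
import Cfsg.Agent.Lib.Helper87.FSBasic
import Cfsg.Agent.Lib.Helper87.FSSat
import Cfsg.Agent.Lib.Helper87.TwistDiag
import Cfsg.Agent.Lib.Helper87.CharBiset
import Cfsg.Agent.Lib.Helper87.Transfer
import Cfsg.Agent.Lib.Helper87.BisetTransfer
import Cfsg.Agent.Lib.Helper87.SignCount

set_option autoImplicit false
open Cfsg

namespace Cfsg.Agent.S5192

open Cfsg.Agent.Lib.Helper87.FSBasic Cfsg.Agent.Lib.Helper87.FSSat
  Cfsg.Agent.Lib.Helper87.TwistDiag Cfsg.Agent.Lib.Helper87.CharBiset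
  Cfsg.Agent.Lib.Helper87.Transfer Cfsg.Agent.Lib.Helper87.BisetTransfer
  Cfsg.Agent.Lib.Helper87.SignCount MulAction

theorem two_mul_dvd_of_lt {G : Type*} [Group G] [Finite G] (hG : IsPGroup 2 G)
    (H K : Subgroup G) (h : Nat.card H < Nat.card K) : 2 * Nat.card H ∣ Nat.card K := by
  haveI : Fact (Nat.Prime 2) := ⟨Nat.prime_two⟩
  obtain ⟨a, ha⟩ := IsPGroup.exists_card_eq (hG.to_subgroup H)
  obtain ⟨b, hb⟩ := IsPGroup.exists_card_eq (hG.to_subgroup K)
  rw [ha, hb] at h ⊢
  have hab : a < b := (Nat.pow_lt_pow_iff_right (by norm_num)).mp h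
  rw [← pow_succ']
  exact pow_dvd_pow 2 hab

/-- The main count: the points of the characteristic biset moved by the involution `i0` within
their right coset of `T'` come in a number divisible by `2|S|`. -/
theorem count_lemma {Ω : Type*} [Group Ω] {S : Subgroup Ω} [Finite S] (hS : IsPGroup 2 S)
    (F : Cfsg.FusionSystem S) {X : Type*} [MulAction (S × S) X] [Finite X]
    (hstab : ∀ x : X, stabilizer (S × S) x ∈ graphs F)
    (hstable : ∀ (P Q : Subgroup Ω) (φ : P →* Ω) (ψ : Q →* Ω) (hφ : φ ∈ F.Hom P)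
      (hψ : ψ ∈ F.Hom Q), ∃ e : X ≃ X, ∀ (u : P) (v : Q) (x : X),
        e (((⟨u, dom_le F hφ u.2⟩, ⟨v, dom_le F hψ v.2⟩) : S × S) • x) =
          ((⟨φ u, map_mem F hφ u⟩, ⟨ψ v, map_mem F hψ v⟩) : S × S) • e x)
    (T' : Subgroup S) [hT'n : T'.Normal] (i0 : S) (hi2 : orderOf (i0 : Ω) = 2)
    (h : ∀ j : Ω, F.IsConjElt (i0 : Ω) j → F.IsFullyNormalized (Subgroup.zpowers j) →
      ∀ hj : j ∈ S, (⟨j, hj⟩ : S) ∉ T') :
    2 * Nat.card S ∣ Nat.card {x : X // ∃ v : S, v ∈ T' ∧ ((i0, v) : S × S) • x = x} := by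
  classical
  haveI : Fintype S := Fintype.ofFinite _
  haveI : Finite (ConjAct S) := Finite.of_equiv S ConjAct.toConjAct.toEquiv
  have hC : IsPGroup 2 (ConjAct S) := hS
  -- Step A: the set is the disjoint union of the fixed point sets of the elements `(i0, v)`
  have hA : Nat.card {x : X // ∃ v : S, v ∈ T' ∧ ((i0, v) : S × S) • x = x} =
      ∑ v : S, Nat.card {x : X // v ∈ T' ∧ ((i0, v) : S × S) • x = x} := by
    rw [← Nat.card_sigma]
    symm
    refine Nat.card_congr (Equiv.ofBijective
      (fun z : (Σ v : S, {x : X // v ∈ T' ∧ ((i0, v) : S × S) • x = x}) =>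
        (⟨z.2.1, z.1, z.2.2⟩ : {x : X // ∃ v : S, v ∈ T' ∧ ((i0, v) : S × S) • x = x}))
      ⟨?_, ?_⟩)
    · rintro ⟨v, x, hv, hx⟩ ⟨v', x', hv', hx'⟩ heq
      have hxx : x = x' := congrArg Subtype.val heq
      subst hxx
      have hvv : v = v' := by
        have h1 : (MonoidHom.inr S S) (v⁻¹ * v') • x = x := by
          have h2 : (MonoidHom.inr S S) (v⁻¹ * v') = ((i0, v) : S × S)⁻¹ * ((i0, v') : S × S) := by
            apply Prod.ext
            · show (1 : S) = i0⁻¹ * i0
              rw [inv_mul_cancel]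
            · rfl
          rw [h2, mul_smul, hx', inv_smul_eq_iff, hx]
        exact inv_mul_eq_one.mp (right_free F hstab _ x h1)
      subst hvv
      rfl
    · rintro ⟨x, v, hv, hx⟩
      exact ⟨⟨v, x, hv, hx⟩, rfl⟩
  rw [hA]
  apply dvd_sum_of_invariant (G := ConjAct S)
  · -- invariance under conjugation
    intro g v
    rw [ConjAct.smul_def]
    obtain ⟨s, hs⟩ : ∃ s : S, s = ConjAct.ofConjAct g := ⟨_, rfl⟩
    rw [← hs]
    symm
    refine Nat.card_congr ((MulAction.toPerm (((1 : S), s) : S × S)).subtypeEquiv fun x => ?_)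
    rw [MulAction.toPerm_apply]
    have h1 : s * v * s⁻¹ ∈ T' ↔ v ∈ T' := by
      constructor
      · intro hh
        have h2 := hT'n.conj_mem _ hh s⁻¹
        have h3 : s⁻¹ * (s * v * s⁻¹) * s⁻¹⁻¹ = v := by group
        rwa [h3] at h2
      · intro hh
        exact hT'n.conj_mem _ hh s
    have h2 : ((i0, s * v * s⁻¹) : S × S) • (((1 : S), s) : S × S) • x =
        (((1 : S), s) : S × S) • ((i0, v) : S × S) • x := by
      rw [smul_smul, smul_smul]
      congr 1
      apply Prod.ext
      · show i0 * 1 = 1 * i0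
        rw [mul_one, one_mul]
      · show s * v * s⁻¹ * s = s * v
        group
    rw [h1, h2, smul_left_cancel_iff]
  · -- divisibility
    intro v
    by_cases hne : Nonempty {x : X // v ∈ T' ∧ ((i0, v) : S × S) • x = x}
    · obtain ⟨⟨x, hvT, hx⟩⟩ := hne
      obtain ⟨P, φ, hφ, hPφ⟩ := hstab x
      have h1 : ((i0, v) : S × S) ∈ stabilizer (S × S) x := hx
      rw [hPφ, mem_graph] at h1
      obtain ⟨hiP, hφi⟩ := h1
      have hconj : F.IsConjElt (i0 : Ω) (v : Ω) := by
        have hle : Subgroup.zpowers (i0 : Ω) ≤ P := Subgroup.zpowers_le.mpr hiP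
        exact ⟨φ.comp (Subgroup.inclusion hle), restrict_mem F hφ hle, hφi⟩
      have hv2 : orderOf (v : Ω) = 2 := by
        rw [← hφi, orderOf_injective φ (F.injective_of_mem hφ), ← Subgroup.orderOf_coe]
        exact hi2
      have hnotfn : ¬ F.IsFullyNormalized (Subgroup.zpowers (v : Ω)) :=
        fun hfn => h _ hconj hfn v.2 hvT
      have hvS : Subgroup.zpowers (v : Ω) ≤ S := Subgroup.zpowers_le.mpr v.2
      unfold FusionSystem.IsFullyNormalized at hnotfn
      push Not at hnotfn
      obtain ⟨Q, ⟨ψ, hψ, rfl⟩, hlt⟩ := hnotfn hvS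
      rw [range_zpowers] at hlt
      obtain ⟨w, hw⟩ : ∃ w : S, w = ⟨ψ ⟨(v : Ω), Subgroup.mem_zpowers _⟩, map_mem F hψ _⟩ :=
        ⟨_, rfl⟩
      have hwval : (w : Ω) = ψ ⟨(v : Ω), Subgroup.mem_zpowers _⟩ := by rw [hw]
      have hw2 : orderOf (w : Ω) = 2 := by
        rw [hwval, orderOf_injective ψ (F.injective_of_mem hψ), ← Subgroup.orderOf_coe]
        exact hv2
      rw [← hwval, card_normalizerIn_zpowers v hv2, card_normalizerIn_zpowers w hw2] at hlt
      have hdvd1 := two_mul_dvd_of_lt hC _ _ hlt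
      -- the centralizer of `w` acts freely on the fixed points of `(i0, w)`
      have hdvd2 : Nat.card (stabilizer (ConjAct S) w) ∣
          Nat.card {x : X // ((i0, w) : S × S) • x = x} := by
        obtain ⟨rw', hrw'⟩ : ∃ rw' : stabilizer (ConjAct S) w →* S × S,
            ∀ b, rw' b = ((1 : S), (ConjAct.ofConjAct (b : ConjAct S) : S)) :=
          ⟨(MonoidHom.inr S S).comp ((ConjAct.ofConjAct (G := S)).toMonoidHom.comp
            (Subgroup.subtype _)), fun b => rfl⟩
        have hfreew : ∀ (b : stabilizer (ConjAct S) w) (x : X), rw' b • x = x → b = 1 := by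
          intro b x hbx
          rw [hrw'] at hbx
          have h3 := right_free F hstab _ x hbx
          apply Subtype.ext
          apply (ConjAct.ofConjAct (G := S)).injective
          rw [h3]
          rfl
        have h4 := card_stable (r := rw') (X := X) hfreew
          (fun x => ((i0, w) : S × S) • x = x) (by
            intro b x hx
            rw [hrw']
            have hb : (b : ConjAct S) • w = w := b.2
            rw [ConjAct.smul_def] at hb
            obtain ⟨c, hc⟩ : ∃ c : S, c = ConjAct.ofConjAct (b : ConjAct S) := ⟨_, rfl⟩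
            rw [← hc] at hb ⊢
            show ((i0, w) : S × S) • (((1 : S), c) : S × S) • x = (((1 : S), c) : S × S) • x
            conv_rhs => rw [← hx]
            rw [smul_smul, smul_smul]
            congr 1
            apply Prod.ext
            · show i0 * 1 = 1 * i0
              rw [mul_one, one_mul]
            · show w * c = c * w
              calc w * c = (c * w * c⁻¹) * c := by rw [hb]
                _ = c * w := by group)
        rw [h4]
        exact Dvd.intro_left _ rfl
      -- stability: the fixed points of `(i0, v)` and of `(i0, w)` correspond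
      have heq : Nat.card {x : X // ((i0, w) : S × S) • x = x} =
          Nat.card {x : X // v ∈ T' ∧ ((i0, v) : S × S) • x = x} := by
        obtain ⟨e, he⟩ := hstable S (Subgroup.zpowers (v : Ω)) S.subtype ψ
          (subtype_mem F le_rfl) hψ
        have he' : ∀ x : X, e (((i0, v) : S × S) • x) = ((i0, w) : S × S) • e x := by
          intro x
          have h5 := he i0 ⟨(v : Ω), Subgroup.mem_zpowers _⟩ x
          rw [hw]
          exact h5
        symm
        refine Nat.card_congr (e.subtypeEquiv fun x => ?_)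
        constructor
        · rintro ⟨-, hx⟩
          rw [← he', hx]
        · intro hx
          refine ⟨hvT, e.injective ?_⟩
          rw [he', hx]
      obtain ⟨m, hm⟩ := hdvd1.trans (hdvd2.trans (dvd_of_eq heq))
      have hidx : Nat.card (stabilizer (ConjAct S) v) * (stabilizer (ConjAct S) v).index =
          Nat.card S := Subgroup.card_mul_index _
      rw [hm]
      exact ⟨m, by rw [← hidx]; ring⟩
    · haveI : IsEmpty {x : X // v ∈ T' ∧ ((i0, v) : S × S) • x = x} := not_nonempty_iff.mp hne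
      have hz : Nat.card {x : X // v ∈ T' ∧ ((i0, v) : S × S) • x = x} = 0 := Nat.card_of_isEmpty
      rw [hz, mul_zero]
      exact dvd_zero _


/-- A Thompson-type transfer for saturated fusion systems. Let F be a saturated fusion system on a finite 2-group S, T a subgroup of S of index 2, and i an involution of S such that every fully normalized F-conjugate of i lies in S but outside T. Then i does not lie in the hyperfocal subgroup of F (the Sylow group of the 2-residual subsystem). -/
theorem result {Ω : Type*} [Group Ω] [Finite Ω] {S : Subgroup Ω}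
    (hS : IsPGroup 2 ↥S) (F : Cfsg.FusionSystem S) (hF : F.IsSaturated 2)
    (T : Subgroup Ω) (hTS : T ≤ S) (hT : T.relIndex S = 2)
    (i : Ω) (hi : i ∈ S) (hi2 : orderOf i = 2)
    (h : ∀ j : Ω, F.IsConjElt i j → F.IsFullyNormalized (Subgroup.zpowers j) → j ∉ T) :
    i ∉ F.hyperfocalSubgroup 2 := by
  classical
  haveI : Fact (Nat.Prime 2) := ⟨Nat.prime_two⟩
  obtain ⟨X, i1, i2, hstab, hstable, n, hn, hpn⟩ := exists_charBiset hS F hF
  letI := i1
  haveI := i2
  obtain ⟨T', hT'def⟩ : ∃ T' : Subgroup S, T' = T.subgroupOf S := ⟨_, rfl⟩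
  have hT'idx : T'.index = 2 := by
    rw [hT'def]
    exact hT
  haveI hT'n : T'.Normal := Subgroup.normal_of_index_eq_two hT'idx
  obtain ⟨r', hr'⟩ : ∃ r' : T' →* S × S, ∀ b : T', r' b = ((1 : S), (b : S)) :=
    ⟨(MonoidHom.inr S S).comp T'.subtype, fun b => rfl⟩
  have hfree' : ∀ (b : T') (x : X), r' b • x = x → b = 1 := by
    intro b x hbx
    rw [hr'] at hbx
    exact Subtype.ext (right_free F hstab (b : S) x hbx)
  obtain ⟨L', hL'⟩ : ∃ L' : S →* rPerm r' X, ∀ (a : S) (x : X),
      ((L' a : rPerm r' X) : Equiv.Perm X) x = ((a, (1 : S)) : S × S) • x :=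
    ⟨MonoidHom.codRestrict ((MulAction.toPermHom (S × S) X).comp (MonoidHom.inl S S)) _
      (fun a b x => by
        rw [hr']
        show ((a, (1 : S)) : S × S) • (((1 : S), (b : S)) : S × S) • x =
          (((1 : S), (b : S)) : S × S) • ((a, (1 : S)) : S × S) • x
        rw [smul_smul, smul_smul]
        simp), fun a x => rfl⟩
  haveI : Fintype (ROrb r' X) := Fintype.ofFinite _
  obtain ⟨ν, hνdef⟩ : ∃ ν : S →* ℤˣ,
      ∀ a : S, ν a = Equiv.Perm.sign (bar r' X (L' a)) :=
    ⟨(Equiv.Perm.sign).comp ((bar r' X).comp L'), fun a => rfl⟩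
  have hν : ∀ (P : Subgroup Ω) (φ : P →* Ω) (hφ : φ ∈ F.Hom P) (u : P),
      ν ⟨φ u, map_mem F hφ u⟩ = ν ⟨u, dom_le F hφ u.2⟩ := by
    intro P φ hφ u
    obtain ⟨e, he⟩ := hstable P S φ S.subtype hφ (subtype_mem F le_rfl)
    have he1 : e ∈ rPerm r' X := by
      intro b x
      have h1 := he 1 (b : S) x
      have e1 : (⟨φ 1, map_mem F hφ 1⟩ : S) = 1 := Subtype.ext (map_one φ)
      rw [e1] at h1
      rw [hr']
      exact h1
    rw [hνdef, hνdef]
    symm
    apply hom_eq_of_conj ((Equiv.Perm.sign).comp (bar r' X)) (e := ⟨e, he1⟩)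
    apply Subtype.ext
    ext x
    show e ((L' _ : Equiv.Perm X) x) = (L' _ : Equiv.Perm X) (e x)
    rw [hL', hL']
    exact he u 1 x
  have hhyp : F.hyperfocalSubgroup 2 ≤ ν.ker.map S.subtype := by
    unfold FusionSystem.hyperfocalSubgroup
    rw [Subgroup.closure_le]
    rintro _ ⟨P, α, x, hPS, -, rfl⟩
    have hα : P.subtype.comp (α : MulAut P).toMonoidHom ∈ F.Hom P :=
      (mem_autGroup_iff F hPS _).mp α.2
    refine ⟨(⟨x, hPS x.2⟩ : S)⁻¹ * ⟨((α : MulAut P) x : P), hPS ((α : MulAut P) x).2⟩, ?_, rfl⟩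
    rw [SetLike.mem_coe, MonoidHom.mem_ker, map_mul, map_inv, inv_mul_eq_one]
    exact (hν P _ hα x).symm
  have hνi : ν ⟨i, hi⟩ = -1 := by
    rw [hνdef]
    have hi0 : (⟨i, hi⟩ : S) ^ 2 = 1 := by
      apply Subtype.ext
      show i ^ 2 = 1
      rw [← hi2]
      exact pow_orderOf_eq_one i
    have hπ2 : (bar r' X (L' ⟨i, hi⟩)) ^ 2 = 1 := by
      rw [← map_pow, ← map_pow, hi0, map_one, map_one]
    have hcount := count_lemma hS F hstab hstable T' ⟨i, hi⟩ hi2
      (fun j hj hfn hjS hjT => h j hj hfn (by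
        rw [hT'def] at hjT
        exact Subgroup.mem_subgroupOf.mp hjT))
    have hfix := card_fixed hfree' (L' ⟨i, hi⟩)
    have hB : Nat.card {x : X // ∃ b : T',
        ((L' ⟨i, hi⟩ : rPerm r' X) : Equiv.Perm X) x = r' b • x} =
        Nat.card {x : X // ∃ v : S, v ∈ T' ∧ (((⟨i, hi⟩ : S), v) : S × S) • x = x} := by
      refine Nat.card_congr (Equiv.subtypeEquivRight fun x => ?_)
      rw [hL']
      constructor
      · rintro ⟨b, hb⟩
        refine ⟨(b : S)⁻¹, T'.inv_mem b.2, ?_⟩
        rw [hr'] at hb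
        have h3 : (((⟨i, hi⟩ : S), (b : S)⁻¹) : S × S) =
            (((1 : S), (b : S)) : S × S)⁻¹ * (((⟨i, hi⟩ : S), (1 : S)) : S × S) := by
          apply Prod.ext
          · show (⟨i, hi⟩ : S) = (1 : S)⁻¹ * ⟨i, hi⟩
            rw [inv_one, one_mul]
          · show (b : S)⁻¹ = (b : S)⁻¹ * 1
            rw [mul_one]
        rw [h3, mul_smul, hb, inv_smul_smul]
      · rintro ⟨v, hv, hx⟩
        refine ⟨⟨v⁻¹, T'.inv_mem hv⟩, ?_⟩
        rw [hr']
        conv_rhs => rw [← hx]
        rw [smul_smul]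
        congr 1
        apply Prod.ext
        · show (⟨i, hi⟩ : S) = 1 * ⟨i, hi⟩
          rw [one_mul]
        · show (1 : S) = v⁻¹ * v
          rw [inv_mul_cancel]
    have hST : Nat.card T' * 2 = Nat.card S := by
      rw [← hT'idx]
      exact Subgroup.card_mul_index T'
    have hXO := card_eq (r := r') (X := X) hfree'
    have hTpos : 0 < Nat.card T' := Nat.card_pos
    have hO : Nat.card (ROrb r' X) = 2 * n := by
      apply Nat.eq_of_mul_eq_mul_right hTpos
      rw [← hXO, hn, ← hST]
      ring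
    obtain ⟨q, hq⟩ := hcount
    have hFix : Nat.card {o : ROrb r' X // bar r' X (L' ⟨i, hi⟩) o = o} = 4 * q := by
      apply Nat.eq_of_mul_eq_mul_right hTpos
      rw [← hfix, hB, hq, ← hST]
      ring
    have h1 : Fintype.card (ROrb r' X) = 2 * n := by
      rw [← Nat.card_eq_fintype_card]
      exact hO
    have h2 : Fintype.card (Function.fixedPoints (bar r' X (L' ⟨i, hi⟩))) = 4 * q := by
      rw [← Nat.card_eq_fintype_card]
      exact hFix
    have h3 : Fintype.card (Function.fixedPoints (bar r' X (L' ⟨i, hi⟩))) ≤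
        Fintype.card (ROrb r' X) := Fintype.card_subtype_le _
    have hnodd : n % 2 = 1 := by
      rcases Nat.mod_two_eq_zero_or_one n with h4 | h4
      · exact absurd (Nat.dvd_of_mod_eq_zero h4) hpn
      · exact h4
    apply sign_eq_neg_one_of_involution _ hπ2 (n - 2 * q)
    · rw [h1, h2]
      rw [h1, h2] at h3
      omega
    · rw [h1, h2] at h3
      rw [Nat.odd_iff]
      omega
  intro hmem
  obtain ⟨i', hi'ker, hi'eq⟩ := hhyp hmem
  have hi'i : i' = ⟨i, hi⟩ := Subtype.ext hi'eq
  rw [hi'i, SetLike.mem_coe, MonoidHom.mem_ker, hνi] at hi'ker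
  exact absurd hi'ker (by decide)

end Cfsg.Agent.S5192
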