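import Mathlib
import Cfsg.Statements.S5196
import Cfsg.Agent.Lib.Helper10.FusFunctor

set_option autoImplicit false
universe u
open Cfsg

namespace Cfsg.Agent.S5196

open Cfsg.FusionSystem Cfsg.Agent.Lib.Helper87.FSBasic Cfsg.Agent.Lib.Helper87.FSSat
  Cfsg.Agent.Lib.Helper10.FusWC Cfsg.Agent.Lib.Helper10.FusFunctor

/-- The local condition of the weak-closure engine, from the hypothesis on `W`. -/
theorem locCond_of_hC {p : ℕ} [Fact p.Prime] (W : ∀ (Q : Type u) [Group Q], Subgroup Q)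
    (hW2 : ∀ (Q R : Type u) [Group Q] [Group R] [Finite Q], IsPGroup p Q →
      ∀ φ : Q ≃* R, (W Q).map φ.toMonoidHom = W R)
    (hC : ∀ (G : Type u) [Group G] [Finite G] (P : Sylow p G), Cfsg.pCore p G ⊓ Subgroup.center G = Cfsg.pCore p G ⊓ (Subgroup.center ↥(Subgroup.normalizer (((W ↥(P : Subgroup G)).map (P : Subgroup G).subtype : Subgroup G) : Set G))).map (Subgroup.normalizer (((W ↥(P : Subgroup G)).map (P : Subgroup G).subtype : Subgroup G) : Set G)).subtype)
    {Ω : Type u} [Group Ω] {S : Subgroup Ω} [Finite S] (hS : IsPGroup p S)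
    (F : Cfsg.FusionSystem S) {z : Ω} (hzS : z ∈ S) (hzC : ∀ g ∈ S, g * z * g⁻¹ = z)
    (Y : Subgroup Ω) (hcen : F.IsCentric Y) :
    LocCond p F (fun T => (W ↥T).map T.subtype) z Y := by
  intro E hE hEsat L _ ι hM hYn hzT hyp
  obtain ⟨hLfin, ⟨hinj, hreal⟩, ⟨P0, hP0⟩, hcent⟩ := hM
  haveI := hLfin
  have hTp : IsPGroup p (normalizerIn S Y) := hS.to_le inf_le_left
  haveI : Finite (normalizerIn S Y) := finite_of_le inf_le_left
  have hYS : Y ≤ S := hcen.1
  have hzY : z ∈ Y :=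
    hcen.2 Y ⟨Y.subtype, subtype_mem F hYS, Subgroup.range_subtype Y⟩
      ⟨hzS, Subgroup.mem_centralizer_iff.mpr fun t ht => central_comm hzC (hYS ht)⟩
  have h1 : ι ⟨z, hzT⟩ ∈ pCore p L := by
    have hle : (Y.subgroupOf (normalizerIn S Y)).map ι ≤ pCore p L :=
      le_sSup ⟨hYn, (hTp.to_subgroup _).map ι⟩
    exact hle ⟨⟨z, hzT⟩, Subgroup.mem_subgroupOf.mpr hzY, rfl⟩
  have hzP0 : ι ⟨z, hzT⟩ ∈ (P0 : Subgroup L) := by
    rw [hP0]
    exact ⟨_, rfl⟩
  have hzN : ι ⟨z, hzT⟩ ∈ Subgroup.normalizer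
      (((W ↥(P0 : Subgroup L)).map (P0 : Subgroup L).subtype : Subgroup L) : Set L) :=
    le_normalizer_W W hW2 P0.isPGroup' hzP0
  have hcomm : ∀ g ∈ Subgroup.normalizer
      (((W ↥(P0 : Subgroup L)).map (P0 : Subgroup L).subtype : Subgroup L) : Set L),
      g * ι ⟨z, hzT⟩ * g⁻¹ = ι ⟨z, hzT⟩ := fun g hg =>
    hyp g (fun x hx => loc_hyp_of_mem_normalizer W hW2 hTp hinj hP0 hg x hx)
  have h2 : ι ⟨z, hzT⟩ ∈ (Subgroup.center ↥(Subgroup.normalizer
      (((W ↥(P0 : Subgroup L)).map (P0 : Subgroup L).subtype : Subgroup L) : Set L))).map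
      (Subgroup.normalizer
        (((W ↥(P0 : Subgroup L)).map (P0 : Subgroup L).subtype : Subgroup L) : Set L)).subtype := by
    refine ⟨⟨ι ⟨z, hzT⟩, hzN⟩, Subgroup.mem_center_iff.mpr ?_, rfl⟩
    intro g
    apply Subtype.ext
    show (g : L) * ι ⟨z, hzT⟩ = ι ⟨z, hzT⟩ * g
    have h3 := hcomm g g.2
    calc (g : L) * ι ⟨z, hzT⟩ = (g * ι ⟨z, hzT⟩ * (g : L)⁻¹) * g := by group
      _ = ι ⟨z, hzT⟩ * g := by rw [h3]
  have h3 : ι ⟨z, hzT⟩ ∈ pCore p L ⊓ Subgroup.center L := by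
    rw [hC L P0]
    exact ⟨h1, h2⟩
  intro g
  have h4 := (Subgroup.mem_center_iff.mp h3.2) g
  rw [h4, mul_inv_cancel_right]

/-- Let p be an odd prime and W a positive characteristic p-functor: W assigns to every finite p-group Q (in a fixed universe) a subgroup W(Q), nontrivial when Q is, carried to W(R) by every isomorphism Q ≅ R; assume also Z(Q) ≤ W(Q) for every finite p-group Q. Suppose W satisfies the local condition: for every finite group G with Sylow p-subgroup P, O_p(G) ∩ Z(G) = O_p(G) ∩ Z(N_G(W(P))). Then W controls weak closure of elements in every saturated fusion system F over a finite p-group S: the centre of the normalizer fusion system of W(S) in F equals the centre of F. (For p = 2 no functor satisfies the local condition, so p is taken odd.) -/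
theorem result {p : ℕ} [Fact p.Prime] (hp : p ≠ 2) (W : ∀ (Q : Type u) [Group Q], Subgroup Q) (hW1 : ∀ (Q : Type u) [Group Q] [Finite Q], IsPGroup p Q → Nontrivial Q → W Q ≠ ⊥) (hW2 : ∀ (Q R : Type u) [Group Q] [Group R] [Finite Q], IsPGroup p Q → ∀ φ : Q ≃* R, (W Q).map φ.toMonoidHom = W R) (hWZ : ∀ (Q : Type u) [Group Q] [Finite Q], IsPGroup p Q → Subgroup.center Q ≤ W Q) (hC : ∀ (G : Type u) [Group G] [Finite G] (P : Sylow p G), Cfsg.pCore p G ⊓ Subgroup.center G = Cfsg.pCore p G ⊓ (Subgroup.center ↥(Subgroup.normalizer (((W ↥(P : Subgroup G)).map (P : Subgroup G).subtype : Subgroup G) : Set G))).map (Subgroup.normalizer (((W ↥(P : Subgroup G)).map (P : Subgroup G).subtype : Subgroup G) : Set G)).subtype) {Ω : Type u} [Group Ω] {S : Subgroup Ω} [Finite S] (hS : IsPGroup p S) (F : Cfsg.FusionSystem S) (hF : F.IsSaturated p) (N : Cfsg.FusionSystem (Cfsg.FusionSystem.normalizerIn S ((W ↥S).map S.subtype))) (hN : F.IsNormalizerSystem ((W ↥S).map S.subtype)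 N) : N.center = F.center := by
  apply le_antisymm
  · intro z hz
    obtain ⟨hzS, hzC, -⟩ := autFix_of_mem_normalizer_center W hW2 hS F N hN hz
    exact functor_engine W hW2 hWZ hS F hF N hN hz
      (fun Y _ _ hcen => locCond_of_hC W hW2 hC hS F hzS hzC Y hcen)
  · exact center_le_normalizer_center W hW2 hWZ hS F N hN

end Cfsg.Agent.S5196
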