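import Cfsg.Statements.S5222
import Cfsg.Agent.Lib.Helper87.FSBurn
import Cfsg.Agent.S5098

set_option autoImplicit false
open Cfsg

namespace Cfsg.Agent.S5222

/-- Let F be a saturated fusion system over a finite p-group S whose normalizer fusion system of S is the inner fusion system of S (Aut_F(S) is a p-group). Then for every subgroup Q of S with [S, S] ≤ Q ≤ Φ(S), the normalizer fusion system of Q in F is the inner fusion system of N_S(Q) = S. -/
theorem result {Ω : Type*} [Group Ω] {S : Subgroup Ω} [Finite S] (p : ℕ) [Fact p.Prime] (hS : IsPGroup p S) (F : Cfsg.FusionSystem S) (hF : F.IsSaturated p) (hN : ∀ N : Cfsg.FusionSystem (Cfsg.FusionSystem.normalizerIn S S), F.IsNormalizerSystem S N → ∀ P : Subgroup Ω, N.Hom P = (Cfsg.innerFusionSystem (Cfsg.FusionSystem.normalizerIn S S)).Hom P) (Q : Subgroup Ω) (h1 : (commutator ↥S).map S.subtype ≤ Q) (h2 : Q ≤ (frattini ↥S).map S.subtype) : ∀ N : Cfsg.FusionSystem (Cfsg.FusionSystem.normalizerIn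 S Q), F.IsNormalizerSystem Q N → ∀ P : Subgroup Ω, N.Hom P = (Cfsg.innerFusionSystem (Cfsg.FusionSystem.normalizerIn S Q)).Hom P := by
  intro N hNQ
  have hcomm : ⁅S, S⁆ ≤ Q := by
    rw [← Subgroup.map_subtype_commutator]
    exact h1
  have hQS : Q ≤ S := h2.trans (Subgroup.map_subtype_le _)
  have hQN : S ≤ Subgroup.normalizer (Q : Set Ω) :=
    Cfsg.Agent.Lib.Helper87.FSBurn.le_normalizer_of_commutator_le hQS hcomm
  have hS1 : Cfsg.FusionSystem.normalizerIn S Q = S := le_antisymm inf_le_left (le_inf le_rfl hQN)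
  have hfn : F.IsFullyNormalized Q :=
    Cfsg.Agent.Lib.Helper87.FSBurn.fullyNormalized_of_le_normalizer F hQS hQN
  have hNsat := Cfsg.Agent.S5098.result p hS F hF Q hfn N hNQ
  haveI : Finite (Cfsg.FusionSystem.normalizerIn S Q) :=
    Cfsg.Agent.Lib.Helper87.FSSat.finite_of_le inf_le_left
  have hS1p : IsPGroup p (Cfsg.FusionSystem.normalizerIn S Q) := hS.to_le inf_le_left
  have hinnF := Cfsg.Agent.Lib.Helper87.FSBurn.inn_of_normalizer F hN
  have hle : S ≤ Cfsg.FusionSystem.normalizerIn S Q := hS1.ge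
  refine Cfsg.Agent.Lib.Helper87.FSBurn.eq_inner_of_stronglyClosed hS1p N hNsat ?_ Q ?_ ?_ ?_
  · intro φ hφ
    have hφF : φ ∈ F.Hom (Cfsg.FusionSystem.normalizerIn S Q) := by
      rw [hNQ (Cfsg.FusionSystem.normalizerIn S Q)] at hφ
      exact hφ.1
    obtain ⟨g, hg, h⟩ := hinnF _ (Cfsg.Agent.Lib.Helper87.FSBasic.restrict_mem F hφF hle)
    exact ⟨g, hle hg, fun x => h ⟨x, x.2.1⟩⟩
  · refine ⟨hQS.trans hle, ?_⟩
    intro R hR φ hφ x
    rw [hNQ R] at hφ
    obtain ⟨-, -, -, ψ, -, hψ1, hψ2⟩ := hφ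
    have h3 : ψ (Subgroup.inclusion le_sup_left x) ∈ (Q.subgroupOf (R ⊔ Q)).map ψ :=
      ⟨_, Subgroup.mem_subgroupOf.mpr (hR x.2), rfl⟩
    rw [hψ2, hψ1 x] at h3
    exact h3
  · exact (Subgroup.commutator_mono inf_le_left inf_le_left).trans hcomm
  · rw [Cfsg.Agent.Lib.Helper87.FSBurn.frattini_map_congr hS1]
    exact h2

end Cfsg.Agent.S5222
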