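import Cfsg.Statements.S5224
import Cfsg.Agent.Lib.Helper87.Tate
import Cfsg.Agent.S5092

set_option autoImplicit false
open Cfsg

namespace Cfsg.Agent.S5224

/-- Tate's Theorem for fusion systems. Let F be a saturated fusion system over a finite p-group S and H a saturated fusion system over S contained in F. Then the following are equivalent: the elementary focal subgroups Φ(S)·foc agree for F and H; the focal subgroups of F and H agree; the hyperfocal subgroups of F and H agree. -/
theorem result {Ω : Type*} [Group Ω] {S : Subgroup Ω} [Finite S] (p : ℕ) [Fact p.Prime] (hS : IsPGroup p S) (F : Cfsg.FusionSystem S) (hF : F.IsSaturated p) (H : Cfsg.FusionSystem S) (hH : H.IsSaturated p) (hHF : H.IsSubsystemOf F) : (((frattini ↥S).map S.subtype ⊔ F.focalSubgroup) = ((frattini ↥S).map S.subtype ⊔ H.focalSubgroup) ↔ F.focalSubgroup = H.focalSubgroup) ∧ (F.focalSubgroup = H.focalSubgroup ↔ F.hyperfocalSubgroup p = H.hyperfocalSubgroup p) := by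
  have hfF := Cfsg.Agent.S5092.result p hS F hF
  have hfH := Cfsg.Agent.S5092.result p hS H hH
  have hmono := Cfsg.Agent.Lib.Helper87.Tate.hyperfocal_mono F H p hHF
  have main : ((frattini ↥S).map S.subtype ⊔ F.focalSubgroup) =
      ((frattini ↥S).map S.subtype ⊔ H.focalSubgroup) →
      F.hyperfocalSubgroup p = H.hyperfocalSubgroup p := by
    intro hA
    apply le_antisymm _ hmono
    apply Cfsg.Agent.Lib.Helper87.Tate.hyp_le_of_le_frattini_sup hS F hF
      (H.hyperfocalSubgroup p) hmono
      (fun s hs t ht => Cfsg.Agent.Lib.Helper87.HypExt.hyp_conj_mem H p hs ht)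
    calc F.hyperfocalSubgroup p ≤ F.focalSubgroup := by rw [hfF]; exact le_sup_left
      _ ≤ (frattini ↥S).map S.subtype ⊔ F.focalSubgroup := le_sup_right
      _ = (frattini ↥S).map S.subtype ⊔ H.focalSubgroup := hA
      _ ≤ _ := by
        rw [hfH]
        exact sup_le (le_sup_left.trans le_sup_left)
          (sup_le le_sup_right (le_sup_right.trans le_sup_left))
  have CB : F.hyperfocalSubgroup p = H.hyperfocalSubgroup p →
      F.focalSubgroup = H.focalSubgroup := by
    intro hC
    rw [hfF, hfH, hC]
  exact ⟨⟨fun hA => CB (main hA), fun hB => by rw [hB]⟩, ⟨fun hB => main (by rw [hB]), CB⟩⟩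

end Cfsg.Agent.S5224
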