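import Cfsg.Statements.S5226
import Mathlib
import Cfsg.Agent.Lib.Helper87.FSBasic
import Cfsg.Agent.Lib.Helper87.FSSat
import Cfsg.Agent.Lib.Helper87.FSNormal

set_option autoImplicit false
open Cfsg

namespace Cfsg.Agent.S5226

/-- Let F be a saturated fusion system over a finite p-group S and Q a subgroup of S. Then Q is normal in F (F equals the normalizer system of Q) if and only if Q is strongly closed in F and admits a central series 1 = Q₀ ≤ Q₁ ≤ ⋯ ≤ Qₙ = Q ([Qᵢ₊₁, Q] ≤ Qᵢ) all of whose proper terms are weakly closed in F. -/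
theorem result {Ω : Type*} [Group Ω] {S : Subgroup Ω} [Finite S] (p : ℕ) [Fact p.Prime] (hS : IsPGroup p S) (F : Cfsg.FusionSystem S) (hF : F.IsSaturated p) (Q : Subgroup Ω) : F.IsNormal Q ↔ F.StronglyClosed Q ∧ ∃ (n : ℕ) (C : Fin (n + 1) → Subgroup Ω), C 0 = ⊥ ∧ C (Fin.last n) = Q ∧ Monotone C ∧ (∀ i : Fin n, ⁅C i.succ, Q⁆ ≤ C i.castSucc) ∧ ∀ i : Fin n, F.WeaklyClosed (C i.castSucc) := by
  open Cfsg.Agent.Lib.Helper87.FSBasic Cfsg.Agent.Lib.Helper87.FSSat
    Cfsg.Agent.Lib.Helper87.FSNormal in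
  constructor
  · intro hN
    have hQS : Q ≤ S := hN.1
    have hfin : Finite Q := finite_of_le hQS
    have hQp : IsPGroup p Q := hS.to_le hQS
    have hnil : Group.IsNilpotent Q := hQp.isNilpotent
    refine ⟨stronglyClosed_of_isNormal F hN, Group.nilpotencyClass Q,
      fun i => (Subgroup.upperCentralSeries Q i).map Q.subtype, ?_, ?_, ?_, ?_, ?_⟩
    · show (Subgroup.upperCentralSeries Q ((0 : Fin (Group.nilpotencyClass Q + 1)) : ℕ)).map Q.subtype = ⊥
      rw [Fin.val_zero, Subgroup.upperCentralSeries_zero, Subgroup.map_bot]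
    · show (Subgroup.upperCentralSeries Q ((Fin.last (Group.nilpotencyClass Q)) : ℕ)).map Q.subtype = Q
      rw [Fin.val_last, Subgroup.upperCentralSeries_nilpotencyClass, ← MonoidHom.range_eq_map,
        Subgroup.range_subtype]
    · intro i j hij
      exact Subgroup.map_mono (Subgroup.upperCentralSeries_mono Q hij)
    · intro i
      rw [Subgroup.commutator_le]
      rintro _ ⟨z, hz, rfl⟩ g₂ hg₂
      have hz' : z ∈ Subgroup.upperCentralSeries Q ((i : ℕ) + 1) := hz
      rw [Subgroup.mem_upperCentralSeries_succ_iff] at hz'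
      exact ⟨_, hz' ⟨g₂, hg₂⟩, rfl⟩
    · intro i
      exact weaklyClosed_of_characteristic F hN (Subgroup.upperCentralSeries Q _)
  · rintro ⟨hQ, n, C, hC0, hCn, hmono, hcomm, hwc⟩
    have hfin : ∀ j : ℕ, min j n < n + 1 := fun j => Nat.lt_succ_of_le (min_le_right j n)
    have hcast : ∀ (j : ℕ) (hj : j < n), C ⟨min j n, hfin j⟩ = C (Fin.castSucc ⟨j, hj⟩) :=
      fun j hj => congrArg C (Fin.ext (min_eq_left hj.le))
    have hsucc : ∀ (j : ℕ) (hj : j < n), C ⟨min (j + 1) n, hfin (j + 1)⟩ = C (Fin.succ ⟨j, hj⟩) :=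
      fun j hj => congrArg C (Fin.ext (min_eq_left hj))
    have hlast : C ⟨min n n, hfin n⟩ = Q := by
      rw [← hCn]
      exact congrArg C (Fin.ext (min_self n))
    refine isNormal_of_chain hS F hF Q hQ n (fun j => C ⟨min j n, hfin j⟩) ?_ hlast ?_ ?_ ?_ ?_
    · show C ⟨min 0 n, hfin 0⟩ = ⊥
      rw [← hC0]
      exact congrArg C (Fin.ext (Nat.zero_min n))
    · intro j hj
      rcases Nat.lt_or_eq_of_le hj with h | h
      · show S ≤ Subgroup.normalizer ((C ⟨min j n, hfin j⟩ : Subgroup Ω) : Set Ω)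
        rw [hcast j h]
        exact le_normalizer_of_weaklyClosed F (hwc ⟨j, h⟩)
      · subst h
        show S ≤ Subgroup.normalizer ((C ⟨min j j, hfin j⟩ : Subgroup Ω) : Set Ω)
        rw [hlast]
        exact le_normalizer_of_stronglyClosed F hQ
    · intro j _
      show C ⟨min j n, hfin j⟩ ≤ Q
      rw [← hCn]
      exact hmono (Fin.le_last _)
    · intro j hj
      show ⁅C ⟨min (j + 1) n, hfin (j + 1)⟩, Q⁆ ≤ C ⟨min j n, hfin j⟩
      rw [hcast j hj, hsucc j hj]
      exact hcomm ⟨j, hj⟩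
    · intro j hj Y hY φ hφ _ x hx
      have hY' : C (Fin.castSucc ⟨j, hj⟩) ≤ Y := by rw [← hcast j hj]; exact hY
      have hx' : (x : Ω) ∈ C (Fin.castSucc ⟨j, hj⟩) := by rw [← hcast j hj]; exact hx
      show φ x ∈ C ⟨min j n, hfin j⟩
      rw [hcast j hj]
      exact weaklyClosed_maps F (hwc ⟨j, hj⟩) hY' hφ x hx'

end Cfsg.Agent.S5226
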