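import Cfsg.Statements.S5233
import Cfsg.Agent.H84.SCGes
import Cfsg.Agent.H84.GesStruct
import Cfsg.Agent.S5087

set_option autoImplicit false
open Cfsg

namespace Cfsg.Agent.S5233

/-- Let F be a saturated fusion system over a finite p-group S and P a subgroup of S strongly closed in F that is generalized extraspecial (its Frattini subgroup equals its commutator subgroup and has order p) and not isomorphic to E × A with A elementary abelian and E dihedral of order 8 (p = 2) or extraspecial of order p³ and exponent p (p odd). Then P is normal in F. -/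
theorem result {Ω : Type*} [Group Ω] {S : Subgroup Ω} [Finite S] (p : ℕ) [Fact p.Prime] (hS : IsPGroup p S) (F : Cfsg.FusionSystem S) (hF : F.IsSaturated p) (P : Subgroup Ω) (hP : F.StronglyClosed P) (hge : frattini ↥P = commutator ↥P ∧ Nat.card ↥(commutator ↥P) = p) (h2 : p = 2 → ¬ ∃ (A : Type) (_ : CommGroup A), (∀ a : A, a ^ 2 = 1) ∧ Nonempty (↥P ≃* DihedralGroup 4 × A)) (hodd : p ≠ 2 → ¬ ∃ (E : Type) (_ : Group E) (A : Type) (_ : CommGroup A), Cfsg.IsExtraspecial p E ∧ Nat.card E = p ^ 3 ∧ Monoid.exponent E = p ∧ (∀ a : A, a ^ p = 1) ∧ Nonempty (↥P ≃* E × A)) : F.IsNormal P := by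
  rw [Cfsg.Agent.S5087.result p hS F hF P]
  intro E hE
  have hES : E ≤ S := by
    rcases hE with h | h
    · rw [h]
    · exact h.1.1
  refine ⟨?_, fun α hα => Cfsg.Agent.H84.map_eq_of_forall_mem (F.autGroup E) (P.subgroupOf E)
    (fun α hα x hx => ?_) α hα⟩
  · rcases hE with h | h
    · rw [h]; exact hP.1
    · by_contra hPE
      obtain ⟨t, w, htP, hwP, htw, hBc, hBe, htp⟩ :=
        Cfsg.Agent.H84.SCGes.exists_config hS F hF hP hge.1 hge.2 h hPE
      haveI : Finite P := Cfsg.Agent.H84.finite_of_le hP.1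
      have hPp : IsPGroup p P := hS.to_le hP.1
      obtain ⟨k2, kodd⟩ := Cfsg.Agent.H84.GesStruct.ges_exception (G := ↥P) (p := p) hPp hge.1 hge.2
        (t := ⟨t, htP⟩) (w := ⟨w, hwP⟩)
        (fun x y hx hy => Subtype.ext (hBc x.1 y.1 x.2 y.2 (congrArg Subtype.val hx)
          (congrArg Subtype.val hy)))
        (fun x hx => Subtype.ext (hBe x.1 x.2 (congrArg Subtype.val hx)))
        (fun h => htw (congrArg Subtype.val h))
        (fun hp2 => Subtype.ext (htp hp2))
      by_cases hp2 : p = 2
      · exact h2 hp2 (k2 hp2)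
      · exact hodd hp2 (kodd hp2)
  · rw [Subgroup.mem_subgroupOf] at hx ⊢
    exact Cfsg.Agent.H84.SCEss.sc_aut_mem F hP hES hα x hx

end Cfsg.Agent.S5233
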