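import Cfsg.Statements.S5244
import Cfsg.Agent.Lib.Helper88.AbEss
import Cfsg.Agent.Lib.Helper88.IndexP
import Cfsg.Agent.H84.FusZ2
import Cfsg.Agent.Lib.Helper88.ZData
-- import your own Cfsg.Agent.* helpers here

set_option autoImplicit false
open Cfsg

namespace Cfsg.Agent.S5244

section Aux

theorem aut_center {G : Type*} [Group G] (α : MulAut G) {z : G} (hz : ∀ g : G, g * z = z * g) :
    ∀ g : G, g * α z = α z * g := by
  intro g
  have h := hz (α⁻¹ g)
  have h2 := congrArg α h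
  rw [map_mul, map_mul, MulAut.apply_inv_self] at h2
  exact h2

theorem card_eq_prime {G : Type*} [Group G] {p : ℕ} [Fact p.Prime] (K : Subgroup G) [Finite K]
    (hK : IsPGroup p K) (hne : K ≠ ⊥) (hle : Nat.card K ≤ p) : Nat.card K = p := by
  have hp : p.Prime := Fact.out
  obtain ⟨n, hn⟩ := IsPGroup.iff_card.mp hK
  rcases Nat.eq_zero_or_pos n with h0 | hpos
  · exfalso
    apply hne
    rw [h0, pow_zero] at hn
    exact Subgroup.card_eq_one.mp hn
  · have h1 : p ^ 1 ≤ p ^ n := Nat.pow_le_pow_right hp.pos hpos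
    rw [pow_one, ← hn] at h1
    exact le_antisymm hle h1

end Aux

/-- Let p be an odd prime, S a finite nonabelian p-group with a unique abelian subgroup A of index p, and F a saturated fusion system over S with no nontrivial normal subgroup (O_p(F) = 1) in which A is not F-essential. Then some subgroup Z(S)⟨x⟩ with x ∈ S outside A is F-essential, the centre Z(S) is contained in the commutator subgroup of S, and S has maximal nilpotency class (if S has order pⁿ with n ≥ 3, the term of index n − 2 of its lower central series, counting S itself as the term of index 0, is nontrivial). -/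
theorem result {Ω : Type*} [Group Ω] {S : Subgroup Ω} [Finite S] (p : ℕ) [Fact p.Prime] (hS : IsPGroup p S) (F : Cfsg.FusionSystem S) (hF : F.IsSaturated p) (hp : p ≠ 2) (hna : ¬ IsMulCommutative ↥S) (A : Subgroup Ω) (hA : A ≤ S ∧ IsMulCommutative ↥A ∧ (A.subgroupOf S).index = p) (huniq : ∀ B : Subgroup Ω, B ≤ S → IsMulCommutative ↥B → (B.subgroupOf S).index = p → B = A) (hcore : F.core = ⊥) (hAe : ¬ F.IsEssential p A) : (∃ x ∈ S, x ∉ A ∧ F.IsEssential p ((S ⊓ Subgroup.centralizer (S : Set Ω)) ⊔ Subgroup.zpowers x)) ∧ (S ⊓ Subgroup.centralizer (S : Set Ω)) ≤ (commutator ↥S).map S.subtype ∧ ∀ n : ℕ, Nat.card S = p ^ n → 3 ≤ n → Subgroup.lowerCentralSeries S (n - 2) ≠ ⊥ := by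
  have hp' : p.Prime := Fact.out
  obtain ⟨hAS, hAcomm, hAidx⟩ := hA
  have hAab : ∀ a ∈ A, ∀ b ∈ A, a * b = b * a := fun a ha b hb =>
    congrArg Subtype.val (hAcomm.is_comm.comm ⟨a, ha⟩ ⟨b, hb⟩)
  have hnab : ¬ ∀ a ∈ S, ∀ b ∈ S, a * b = b * a := fun h =>
    hna ⟨⟨fun a b => Subtype.ext (h a a.2 b b.2)⟩⟩
  obtain ⟨Z, hZdef⟩ : ∃ Z : Subgroup Ω, Z = S ⊓ Subgroup.centralizer (S : Set Ω) := ⟨_, rfl⟩
  rw [← hZdef]
  have hZS : Z ≤ S := by rw [hZdef]; exact inf_le_left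
  have hZcomm : ∀ z ∈ Z, ∀ s ∈ S, s * z = z * s := by
    intro z hz s hs
    rw [hZdef] at hz
    exact Subgroup.mem_centralizer_iff.mp hz.2 s hs
  have hZc : ∀ s ∈ S, ∀ z ∈ Z, s * z * s⁻¹ = z := fun s hs z hz => by
    rw [hZcomm z hz s hs, mul_inv_cancel_right]
  have hAnorm := Cfsg.Agent.Lib.Helper88.IndexP.sub_normal hS A hAS hAidx
  have hZA : Z ≤ A := by
    rw [hZdef]
    exact Cfsg.Agent.Lib.Helper88.IndexP.sub_center_le hS A hAidx hAab hnab
  have hCA : ∀ x ∈ S, x ∉ A → ∀ a ∈ A, a * x = x * a → a ∈ Z := by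
    intro x hxS hxA a ha hax
    rw [hZdef]
    exact Cfsg.Agent.Lib.Helper88.IndexP.sub_mem_center hS A hAS hAidx hAab hxS hxA ha hax
  have hgen : ∀ x ∈ S, x ∉ A → ∀ s ∈ S, ∃ a ∈ A, ∃ k : ℤ, s = a * x ^ k := fun x hxS hxA =>
    Cfsg.Agent.Lib.Helper88.IndexP.sub_mul_zpow hS A hAidx hxS hxA
  obtain ⟨DS, hDSdef⟩ : ∃ DS : Subgroup Ω, DS = (commutator ↥S).map S.subtype := ⟨_, rfl⟩
  rw [← hDSdef]
  have hcommDS : ∀ s ∈ S, ∀ t ∈ S, s * t * s⁻¹ * t⁻¹ ∈ DS := by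
    intro s hs t ht
    rw [hDSdef]
    refine ⟨(⟨s, hs⟩ : S) * ⟨t, ht⟩ * (⟨s, hs⟩ : S)⁻¹ * (⟨t, ht⟩ : S)⁻¹, ?_, rfl⟩
    rw [SetLike.mem_coe, ← commutatorElement_def, commutator_def]
    exact Subgroup.commutator_mem_commutator (Subgroup.mem_top _) (Subgroup.mem_top _)
  have hDSA : DS ≤ A := by
    rw [hDSdef]
    exact Cfsg.Agent.Lib.Helper88.IndexP.sub_commutator_le hS A hAidx
  have hDSS : DS ≤ S := hDSA.trans hAS
  -- facts about essential subgroups
  have hess1 : ∀ E : Subgroup Ω, F.IsEssential p E → E ≤ S ∧ Z ≤ E ∧ ∃ x ∈ E, x ∉ A := by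
    intro E hE
    have hES : E ≤ S := hE.1.1
    have hCE : Cfsg.FusionSystem.centralizerIn S E ≤ E :=
      hE.1.2 E (Cfsg.Agent.H84.isConj_refl F hES)
    refine ⟨hES, ?_, ?_⟩
    · intro z hz
      exact hCE ⟨hZS hz, Subgroup.mem_centralizer_iff.mpr fun y hy => hZcomm z hz y (hES hy)⟩
    · by_contra hcon
      have hEA : E ≤ A := fun y hy => by_contra fun h => hcon ⟨y, hy, h⟩
      have hAE : A ≤ E := fun a ha =>
        hCE ⟨hAS ha, Subgroup.mem_centralizer_iff.mpr fun y hy => hAab y (hEA hy) a ha⟩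
      have : E = A := le_antisymm hEA hAE
      rw [this] at hE
      exact hAe hE
  -- elements of `E` as products
  have hdecomp : ∀ E : Subgroup Ω, E ≤ S → ∀ x ∈ E, x ∉ A → ∀ y ∈ E,
      ∃ a ∈ A, a ∈ E ∧ ∃ k : ℤ, y = a * x ^ k := by
    intro E hES x hxE hxA y hy
    obtain ⟨a, ha, k, rfl⟩ := hgen x (hES hxE) hxA y (hES hy)
    refine ⟨a, ha, ?_, k, rfl⟩
    have e : a = (a * x ^ k) * (x ^ k)⁻¹ := by group
    rw [e]
    exact E.mul_mem hy (E.inv_mem (E.zpow_mem hxE k))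
  -- a subgroup meeting `A` in `Z` is abelian
  have habel : ∀ E : Subgroup Ω, E ≤ S → ∀ x ∈ E, x ∉ A → (∀ y ∈ E, y ∈ A → y ∈ Z) →
      ∀ a ∈ E, ∀ b ∈ E, a * b = b * a := by
    intro E hES x hxE hxA hEAZ a ha b hb
    obtain ⟨a', ha'A, ha'E, i, rfl⟩ := hdecomp E hES x hxE hxA a ha
    obtain ⟨b', hb'A, hb'E, j, rfl⟩ := hdecomp E hES x hxE hxA b hb
    have c1 : Commute a' b' := hAab a' ha'A b' hb'A
    have c2 : Commute a' x := (hZcomm a' (hEAZ a' ha'E ha'A) x (hES hxE)).symm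
    have c3 : Commute b' x := (hZcomm b' (hEAZ b' hb'E hb'A) x (hES hxE)).symm
    exact ((c1.mul_right (c2.zpow_right j)).mul_left
      (((c3.zpow_right i).symm).mul_right (Commute.zpow_zpow_self x i j))).eq
  -- automorphisms preserve `Z`, `DS`
  have hZaut : ∀ β : MulAut S, ∀ z : S, (z : Ω) ∈ Z → ((β z : S) : Ω) ∈ Z := by
    intro β z hz
    have h1 : ∀ g : S, g * z = z * g := fun g => Subtype.ext (hZcomm z hz g g.2)
    have h2 := aut_center β h1
    rw [hZdef]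
    exact ⟨(β z).2, Subgroup.mem_centralizer_iff.mpr fun g hg =>
      congrArg Subtype.val (h2 ⟨g, hg⟩)⟩
  have hDSaut : ∀ β : MulAut S, ∀ z : S, (z : Ω) ∈ DS → ((β z : S) : Ω) ∈ DS := by
    intro β z hz
    rw [hDSdef] at hz ⊢
    obtain ⟨y, hy, hyz⟩ := Subgroup.mem_map.mp hz
    have e : y = z := Subtype.ext hyz
    rw [e] at hy
    have hchar := Subgroup.characteristic_iff_map_eq.mp
      (inferInstance : (commutator ↥S).Characteristic) β
    refine Subgroup.mem_map.mpr ⟨β z, ?_, rfl⟩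
    rw [← hchar]
    exact Subgroup.mem_map.mpr ⟨z, hy, rfl⟩
  obtain ⟨D₀, hD₀def⟩ : ∃ D₀ : Subgroup Ω, D₀ = Z ⊓ DS := ⟨_, rfl⟩
  have hD₀Z : D₀ ≤ Z := by rw [hD₀def]; exact inf_le_left
  have hD₀DS : D₀ ≤ DS := by rw [hD₀def]; exact inf_le_right
  have hD₀aut : ∀ β : MulAut S, ∀ z : S, (z : Ω) ∈ D₀ → ((β z : S) : Ω) ∈ D₀ := by
    intro β z hz
    rw [hD₀def] at hz ⊢
    exact ⟨hZaut β z hz.1, hDSaut β z hz.2⟩
  -- essential subgroups meeting `A` in `Z`
  have hsmall : ∀ E : Subgroup Ω, F.IsEssential p E → (∀ y ∈ E, y ∈ A → y ∈ Z) →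
      (∀ a ∈ E, ∀ b ∈ E, a * b = b * a) ∧ (Z.subgroupOf E).index = p ∧
      Nat.card E = p * Nat.card Z ∧
      (∀ s ∈ S, ∀ y ∈ E, s * y * s⁻¹ ∈ E → y⁻¹ * (s * y * s⁻¹) ∈ D₀) ∧
      Nat.card (Cfsg.autInducedBy S E) = p := by
    intro E hE hEAZ
    obtain ⟨hES, hZE, x, hxE, hxA⟩ := hess1 E hE
    haveI : Finite E := Cfsg.Agent.H84.finite_of_le hES
    have hab := habel E hES x hxE hxA hEAZ
    have hidx : (Z.subgroupOf E).index = p := by
      have e : Z.subgroupOf E = A.subgroupOf E := by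
        ext y
        rw [Subgroup.mem_subgroupOf, Subgroup.mem_subgroupOf]
        exact ⟨fun h => hZA h, fun h => hEAZ y y.2 h⟩
      rw [e]
      exact Cfsg.Agent.Lib.Helper88.IndexP.sub_index_of_not_le hS A hAidx hES
        (fun h => hxA (h hxE))
    have hcard : Nat.card E = p * Nat.card Z := by
      have h1 := Subgroup.card_mul_index (Z.subgroupOf E)
      rw [hidx] at h1
      have h2 : Nat.card (Z.subgroupOf E) = Nat.card Z :=
        Nat.card_congr (Subgroup.subgroupOfEquivOfLe hZE).toEquiv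
      rw [h2] at h1
      rw [← h1, mul_comm]
    have hcommE : ∀ s ∈ S, ∀ y ∈ E, s * y * s⁻¹ ∈ E → y⁻¹ * (s * y * s⁻¹) ∈ D₀ := by
      intro s hs y hy hsy
      have h1 : y⁻¹ * (s * y * s⁻¹) ∈ DS := by
        have h := hcommDS y⁻¹ (S.inv_mem (hES hy)) s hs
        have e : y⁻¹ * s * y⁻¹⁻¹ * s⁻¹ = y⁻¹ * (s * y * s⁻¹) := by group
        rwa [e] at h
      rw [hD₀def]
      exact ⟨hEAZ _ (E.mul_mem (E.inv_mem hy) hsy) (hDSA h1), h1⟩
    have hTle := Cfsg.Agent.Lib.Helper88.AbEss.card_autS_le hS F hF hE hab Z hidx hZc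
      (fun s hs y hy hsy => hD₀Z (hcommE s hs y hy hsy))
    have hTne : Cfsg.autInducedBy S E ≠ ⊥ := by
      obtain ⟨g, hg, τ, hτ, hn⟩ := Cfsg.Agent.H84.FusZ.ess_not_normal hS F hF hE
      intro hbot
      rw [hbot, Subgroup.mem_bot] at hτ
      apply hn
      rw [hτ, mul_one, mul_inv_cancel]
      exact Subgroup.one_mem _
    have hTcard := Cfsg.Agent.Lib.Helper88.AbEss.card_eq_of_le _
      (Cfsg.Agent.H84.isPGroup_autInducedBy hS E) hTne hTle
    exact ⟨hab, hidx, hcard, hcommE, hTcard⟩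
  -- the other essential subgroups
  have hlarge : ∀ E : Subgroup Ω, F.IsEssential p E → (¬ ∀ y ∈ E, y ∈ A → y ∈ Z) →
      p * Nat.card Z < Nat.card E ∧ Z ≤ E ∧
      ∀ α ∈ F.autGroup E, ∀ z : E, (z : Ω) ∈ Z → ((α z : E) : Ω) ∈ Z := by
    intro E hE hnot
    obtain ⟨hES, hZE, x, hxE, hxA⟩ := hess1 E hE
    haveI : Finite E := Cfsg.Agent.H84.finite_of_le hES
    obtain ⟨y₀, hy₀E, hy₀A, hy₀Z⟩ : ∃ y₀ ∈ E, y₀ ∈ A ∧ y₀ ∉ Z := by
      by_contra hcon
      exact hnot fun y hy hyA => by_contra fun hyZ => hcon ⟨y, hy, hyA, hyZ⟩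
    have hcenE : ∀ y ∈ E, (∀ e ∈ E, e * y = y * e) → y ∈ Z := by
      intro y hy hyc
      by_cases hyA : y ∈ A
      · exact hCA x (hES hxE) hxA y hyA (hyc x hxE).symm
      · exfalso
        exact hy₀Z (hCA y (hES hy) hyA y₀ hy₀A (hyc y₀ hy₀E))
    refine ⟨?_, hZE, ?_⟩
    · have hidx := Cfsg.Agent.Lib.Helper88.IndexP.sub_index_of_not_le hS A hAidx hES
        (fun h => hxA (h hxE))
      have h1 := Subgroup.card_mul_index (A.subgroupOf E)
      rw [hidx] at h1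
      have h2 : Nat.card (Z.subgroupOf E) = Nat.card Z :=
        Nat.card_congr (Subgroup.subgroupOfEquivOfLe hZE).toEquiv
      have hle : Z.subgroupOf E ≤ A.subgroupOf E := fun y hy =>
        Subgroup.mem_subgroupOf.mpr (hZA (Subgroup.mem_subgroupOf.mp hy))
      have hlt : Nat.card (Z.subgroupOf E) < Nat.card (A.subgroupOf E) := by
        by_contra hcon
        have heq := Subgroup.eq_of_le_of_card_ge hle (not_lt.mp hcon)
        apply hy₀Z
        have hmem : (⟨y₀, hy₀E⟩ : E) ∈ Z.subgroupOf E := by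
          rw [heq]
          exact Subgroup.mem_subgroupOf.mpr hy₀A
        exact Subgroup.mem_subgroupOf.mp hmem
      rw [h2] at hlt
      calc p * Nat.card Z = Nat.card Z * p := mul_comm _ _
        _ < Nat.card (A.subgroupOf E) * p := mul_lt_mul_of_pos_right hlt hp'.pos
        _ = Nat.card E := h1
    · intro α _ z hz
      have h1 : ∀ g : E, g * z = z * g := fun g => Subtype.ext (hZcomm z hz g (hES g.2))
      have h2 := aut_center α h1
      exact hcenE _ (α z).2 fun e he => congrArg Subtype.val (h2 ⟨e, he⟩)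
  -- `Z` is nontrivial
  have hZne : Z ≠ ⊥ := by
    intro hbot
    have hSne : Nontrivial ↥S := by
      by_contra hnt
      rw [not_nontrivial_iff_subsingleton] at hnt
      exact hnab fun a ha b hb => by
        have e1 : (⟨a, ha⟩ : S) = ⟨b, hb⟩ := Subsingleton.elim _ _
        have e2 : a = b := congrArg Subtype.val e1
        rw [e2]
    haveI := hSne
    haveI := hS.center_nontrivial
    obtain ⟨z, hz⟩ := exists_ne (1 : Subgroup.center ↥S)
    have hzZ : ((z : S) : Ω) ∈ Z := by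
      rw [hZdef]
      refine ⟨(z : S).2, Subgroup.mem_centralizer_iff.mpr fun g hg => ?_⟩
      exact congrArg Subtype.val (Subgroup.mem_center_iff.mp z.2 ⟨g, hg⟩)
    rw [hbot, Subgroup.mem_bot] at hzZ
    exact hz (Subtype.ext (Subtype.ext hzZ))
  -- an abelian essential subgroup
  obtain ⟨P₁, hE₁, hP₁AZ⟩ : ∃ P₁ : Subgroup Ω, F.IsEssential p P₁ ∧
      ∀ y ∈ P₁, y ∈ A → y ∈ Z := by
    by_contra hcon
    apply hZne
    have hnormal : F.IsNormal Z := by
      rw [Cfsg.Agent.S5087.result p hS F hF]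
      intro P hP
      rcases hP with hPeq | hE
      · rw [hPeq]
        refine ⟨hZS, fun α hα => Cfsg.Agent.H84.map_eq_of_forall_mem (F.autGroup S) _ ?_ α hα⟩
        intro α _ x hx
        exact Subgroup.mem_subgroupOf.mpr (hZaut α x (Subgroup.mem_subgroupOf.mp hx))
      · obtain ⟨-, hZE, hZα⟩ := hlarge P hE (fun h => hcon ⟨P, hE, h⟩)
        refine ⟨hZE, fun α hα => Cfsg.Agent.H84.map_eq_of_forall_mem (F.autGroup P) _ ?_ α hα⟩
        intro α hα x hx
        exact Subgroup.mem_subgroupOf.mpr (hZα α hα x (Subgroup.mem_subgroupOf.mp hx))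
    rw [← le_bot_iff, ← hcore]
    exact le_sSup hnormal
  obtain ⟨hP₁S, hZP₁, x₁, hx₁P, hx₁A⟩ := hess1 P₁ hE₁
  obtain ⟨hab₁, hidx₁, hcard₁, hcomm₁, hT₁⟩ := hsmall P₁ hE₁ hP₁AZ
  have hx₁S : x₁ ∈ S := hP₁S hx₁P
  have hP₁eq : Z ⊔ Subgroup.zpowers x₁ = P₁ := by
    apply le_antisymm
    · exact sup_le hZP₁ ((Subgroup.zpowers_le).mpr hx₁P)
    · intro y hy
      obtain ⟨a, haA, haP, k, rfl⟩ := hdecomp P₁ hP₁S x₁ hx₁P hx₁A y hy
      exact Subgroup.mul_mem_sup (hP₁AZ a haP haA) (Subgroup.zpow_mem_zpowers x₁ k)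
  -- `D₀` has order `p`
  have hD₀S : D₀ ≤ S := hD₀Z.trans hZS
  haveI : Finite D₀ := Cfsg.Agent.H84.finite_of_le hD₀S
  haveI : Finite P₁ := Cfsg.Agent.H84.finite_of_le hP₁S
  have hD₀ne : D₀ ≠ ⊥ := by
    obtain ⟨g, hg, τ, hτ, hn⟩ := Cfsg.Agent.H84.FusZ.ess_not_normal hS F hF hE₁
    have hτ1 : τ ≠ 1 := by
      rintro rfl
      apply hn
      rw [mul_one, mul_inv_cancel]
      exact Subgroup.one_mem _
    obtain ⟨s, hs, hτs⟩ := (Cfsg.Agent.H84.mem_autInducedBy_iff S P₁ τ).mp hτ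
    obtain ⟨y, hy⟩ : ∃ y : P₁, τ y ≠ y := by
      by_contra hcon
      apply hτ1
      apply MulEquiv.ext
      intro y
      by_contra h
      exact hcon ⟨y, h⟩
    intro hbot
    have h1 := hcomm₁ s hs y y.2 (by rw [← hτs y]; exact (τ y).2)
    rw [hbot, Subgroup.mem_bot] at h1
    apply hy
    apply Subtype.ext
    rw [hτs y]
    exact (inv_mul_eq_one.mp h1).symm
  have hD₀le : Nat.card D₀ ≤ p := by
    have key : ∀ d : D₀, ∃ c : Cfsg.autInducedBy S P₁,
        (((c : MulAut P₁) ⟨x₁, hx₁P⟩ : P₁) : Ω) = (d : Ω) * x₁ := by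
      intro d
      have hdZ : (d : Ω) ∈ Z := hD₀Z d.2
      obtain ⟨a, ha, e⟩ := Cfsg.Agent.Lib.Helper88.IndexP.sub_commutator hS A hAidx hAab hx₁S
        hx₁A (d : Ω) (by rw [← hDSdef]; exact hD₀DS d.2)
      have haS : a ∈ S := hAS ha
      have e1 : a * x₁ * a⁻¹ = (d : Ω) * x₁ := by rw [e]; group
      have hd1 : a⁻¹ * (d : Ω) * a = d := by
        have h := hZc a⁻¹ (S.inv_mem haS) d hdZ
        rwa [inv_inv] at h
      have e2 : a⁻¹ * x₁ * a⁻¹⁻¹ = (d : Ω)⁻¹ * x₁ := by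
        have h2 : a⁻¹ * x₁ * a⁻¹⁻¹ = (a⁻¹ * (d : Ω) * a)⁻¹ * x₁ := by rw [e]; group
        rw [h2, hd1]
      have hn : ∀ r ∈ S, r * x₁ * r⁻¹ ∈ P₁ → ∀ y ∈ P₁, r * y * r⁻¹ ∈ P₁ := by
        intro r hr hrx y hy
        obtain ⟨b, hbA, hbP, k, rfl⟩ := hdecomp P₁ hP₁S x₁ hx₁P hx₁A y hy
        have hbZ := hP₁AZ b hbP hbA
        have e3 : r * (b * x₁ ^ k) * r⁻¹ = (r * b * r⁻¹) * (r * x₁ * r⁻¹) ^ k := by
          rw [conj_zpow]; group
        rw [e3, hZc r hr b hbZ]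
        exact P₁.mul_mem hbP (P₁.zpow_mem hrx k)
      have hn1 := hn a haS (by rw [e1]; exact P₁.mul_mem (hZP₁ hdZ) hx₁P)
      have hn2' := hn a⁻¹ (S.inv_mem haS)
        (by rw [e2]; exact P₁.mul_mem (P₁.inv_mem (hZP₁ hdZ)) hx₁P)
      have hn2 : ∀ y ∈ P₁, a⁻¹ * y * a ∈ P₁ := fun y hy => by
        have h := hn2' y hy
        rwa [inv_inv] at h
      obtain ⟨c, hc, hcx⟩ := Cfsg.Agent.Lib.Helper88.AbEss.exists_conj_elt (E := P₁) haS hn1 hn2
      exact ⟨⟨c, hc⟩, (hcx ⟨x₁, hx₁P⟩).trans e1⟩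
    choose f hf using key
    have hinj : Function.Injective f := by
      intro d d' hdd
      have h1 := hf d
      rw [hdd, hf d'] at h1
      exact Subtype.ext (mul_right_cancel h1).symm
    have hle := Nat.card_le_card_of_injective f hinj
    rw [hT₁] at hle
    exact hle
  have hD₀card : Nat.card D₀ = p := card_eq_prime D₀ (hS.to_le hD₀S) hD₀ne hD₀le
  -- `Z = D₀`
  have hZD₀ : Z ≤ D₀ := by
    refine Cfsg.Agent.Lib.Helper88.ZData.center_le_of_ess hp hS F hF hcore Z hZS hZc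
      (fun β _ z hz => hZaut β z hz) D₀ hD₀card hD₀Z (fun β _ z hz => hD₀aut β z hz)
      (p * Nat.card Z) ?_
    intro E hE
    by_cases hsm : ∀ y ∈ E, y ∈ A → y ∈ Z
    · right
      obtain ⟨hab, hidx, hcard, hcommE, hT⟩ := hsmall E hE hsm
      obtain ⟨hES, hZE, -⟩ := hess1 E hE
      refine ⟨hcard.le, ?_, hab, hZE, hidx, hcommE, hT⟩
      rw [← hcard]
      exact Cfsg.Agent.Lib.Helper88.AbEss.card_lt_normalizerIn hS hES
        (Cfsg.Agent.H84.FusZ.ess_ne hS F hF hE)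
    · left
      exact hlarge E hE hsm
  have hZcard : Nat.card Z = p := by
    have hZeq : Z = D₀ := le_antisymm hZD₀ hD₀Z
    rw [hZeq]
    exact hD₀card
  refine ⟨⟨x₁, hx₁S, hx₁A, ?_⟩, hZD₀.trans hD₀DS, ?_⟩
  · rw [hP₁eq]
    exact hE₁
  · intro n hn h3
    obtain ⟨B, hBlcs, hBA, hBcard⟩ := Cfsg.Agent.Lib.Helper88.IndexP.exists_lcs A hAS hAab hx₁S
      (hAnorm x₁ hx₁S) Z hZS (hCA x₁ hx₁S hx₁A) (n - 2)
    have hAcard : Nat.card A = p ^ (n - 1) := by
      have h1 := Subgroup.card_mul_index (A.subgroupOf S)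
      rw [hAidx, hn] at h1
      have h2 : Nat.card (A.subgroupOf S) = Nat.card A :=
        Nat.card_congr (Subgroup.subgroupOfEquivOfLe hAS).toEquiv
      rw [h2] at h1
      have e : p ^ n = p ^ (n - 1) * p := by
        rw [← pow_succ]
        congr 1
        omega
      rw [e] at h1
      exact Nat.eq_of_mul_eq_mul_right hp'.pos h1
    rw [hAcard, hZcard] at hBcard
    intro hbot
    rw [hbot, le_bot_iff] at hBlcs
    rw [hBlcs, Subgroup.card_bot, one_mul] at hBcard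
    have hle : n - 1 ≤ n - 2 := (Nat.pow_le_pow_iff_right hp'.one_lt).mp hBcard
    omega

end Cfsg.Agent.S5244
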