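import Cfsg.Statements.S5265
import Cfsg.Agent.H84.FusZ4
import Cfsg.Agent.H84.PCube
import Cfsg.Agent.S3224
import Cfsg.Agent.Lib.Helper24.SpecialGroup
import Cfsg.Agent.Lib.Helper24.Coprime
import Cfsg.Agent.Lib.Helper63.PFrattini

set_option autoImplicit false
open Cfsg
open scoped commutatorElement

namespace Cfsg.Agent.S5265

open Cfsg.Agent.H84 Cfsg.Agent.H84.FusZ Cfsg.FusionSystem

/-- Let p be a prime, S a nontrivial finite p-group whose centre has index at most p², and F a saturated fusion system over S with no nontrivial normal subgroup and with hyperfocal subgroup equal to S. Then S is extraspecial of order p³; for odd p it has exponent p, and for p = 2 it is dihedral of order 8. -/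
theorem result {Ω : Type*} [Group Ω] {S : Subgroup Ω} [Finite S] (p : ℕ) [Fact p.Prime] (hS : IsPGroup p ↥S) (F : Cfsg.FusionSystem S) (hF : F.IsSaturated p) (hS1 : S ≠ ⊥) (hcore : F.core = ⊥) (hhyp : F.hyperfocalSubgroup p = S) (hZ : (Subgroup.center ↥S).index ≤ p ^ 2) : Cfsg.IsExtraspecial p ↥S ∧ Nat.card S = p ^ 3 ∧ (p ≠ 2 → Monoid.exponent ↥S = p) ∧ (p = 2 → Nonempty (↥S ≃* DihedralGroup 4)) := by
  have hp : p.Prime := Fact.out
  -- there is an essential subgroup
  have hexE : ∃ P : Subgroup Ω, F.IsEssential p P := by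
    by_contra hno
    have hnormal : F.IsNormal S := by
      rw [Cfsg.Agent.S5087.result p hS F hF]
      intro P hP
      rcases hP with h | hE
      · rw [h]
        refine ⟨le_rfl, fun α hα => ?_⟩
        rw [Subgroup.subgroupOf_self]
        exact Subgroup.map_top_of_surjective _ α.surjective
      · exact absurd ⟨P, hE⟩ hno
    have : S ≤ F.core := le_sSup hnormal
    rw [hcore] at this
    exact hS1 (le_bot_iff.mp this)
  obtain ⟨P, hE⟩ := hexE
  -- S is not abelian
  have hnc : ¬ ∀ a b : S, a * b = b * a := by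
    intro hab
    have hPS : P ≤ S := hE.1.1
    have hCP : centralizerIn S P ≤ P := hE.1.2 P (isConj_refl F hPS)
    apply ess_ne hS F hF hE
    apply le_antisymm hPS
    intro s hs
    refine hCP ⟨hs, Subgroup.mem_centralizer_iff.mpr (fun y hy => ?_)⟩
    exact congrArg Subtype.val (hab ⟨y, hPS hy⟩ ⟨s, hs⟩)
  have hna : ∃ a b : S, a * b ≠ b * a := by
    by_contra hcon
    push_neg at hcon
    exact hnc hcon
  obtain ⟨hidx, hDcard, hDZ⟩ := center_structure hS hnc hZ
  -- the key reduction: the centre is the commutator subgroup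
  have hfinal : ∀ (hZD : ZS S ≤ (⁅S, S⁆ : Subgroup Ω)),
      Cfsg.IsExtraspecial p ↥S ∧ Nat.card S = p ^ 3 := by
    intro hZD
    have hcen : Subgroup.center ↥S = commutator ↥S := by
      apply le_antisymm _ hDZ
      intro z hz
      exact (coe_mem_DS_iff z).mp (hZD ((coe_mem_ZS_iff z).mpr hz))
    have hcard3 : Nat.card S = p ^ 3 := by
      have h1 := Subgroup.card_mul_index (Subgroup.center ↥S)
      rw [hidx, hcen, hDcard] at h1
      rw [← h1]; ring
    obtain ⟨hZc, hcommZ, hpow⟩ := Cfsg.Agent.H84.PCube.nonabelian_cube hcard3 hna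
    refine ⟨⟨⟨hS, ?_, hcommZ⟩, hZc⟩, hcard3⟩
    apply le_antisymm
    · exact Cfsg.Agent.Lib.Helper24.SpecialGroup.frattini_le_of_quotient_elementary p _
        hcommZ.le hpow
    · rw [← hcommZ]
      exact Cfsg.Agent.Lib.Helper63.PFrattini.commutator_le_frattini hS
  by_cases hp2 : p = 2
  · subst hp2
    obtain ⟨hZD, u, v, hu2, hv2, huv⟩ :=
      two_main hS F hF hidx hDZ hDcard hcore hhyp hE
    obtain ⟨hex, hcard3⟩ := hfinal hZD
    refine ⟨hex, hcard3, fun h => absurd rfl h, fun _ => ?_⟩
    have huinv : u⁻¹ = u := inv_eq_of_mul_eq_one_left hu2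
    have hvinv : v⁻¹ = v := inv_eq_of_mul_eq_one_left hv2
    have h1 : ¬ (u * v) ^ 2 ^ 1 = 1 := by
      intro h
      rw [pow_one, pow_two] at h
      exact huv (comm_of_sq hv2 hu2 h).symm
    have h2 : (u * v) ^ 2 ^ (1 + 1) = 1 := by
      have hk : (u * v) * (u * v) ∈ commutator ↥S := by
        have e : (u * v) * (u * v) = ⁅u, v⁆ := by
          rw [commutatorElement_def, huinv, hvinv]; group
        rw [e, commutator_def]
        exact Subgroup.commutator_mem_commutator (Subgroup.mem_top _) (Subgroup.mem_top _)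
      have h3 := pow_card_eq_one' (G := commutator ↥S) (x := ⟨_, hk⟩)
      rw [hDcard] at h3
      have h4 : ((u * v) * (u * v)) ^ 2 = 1 := congrArg Subtype.val h3
      calc (u * v) ^ 2 ^ (1 + 1) = ((u * v) * (u * v)) ^ 2 := by
            rw [← pow_two, ← pow_mul]; norm_num
        _ = 1 := h4
    have hord : orderOf (u * v) = 4 := by
      have := orderOf_eq_prime_pow (p := 2) h1 h2
      rw [this]; norm_num
    have hxa : u ∉ Subgroup.zpowers (u * v) := by
      intro h
      obtain ⟨k, hk⟩ := Subgroup.mem_zpowers_iff.mp h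
      apply huv
      have h5 : u * (u * v) = (u * v) * u := by
        have : Commute ((u * v) ^ k) (u * v) := Commute.zpow_self (u * v) k
        rw [hk] at this
        exact this
      rw [mul_assoc] at h5
      exact mul_left_cancel h5
    have hconj : u * (u * v) * u⁻¹ = (u * v)⁻¹ := by
      rw [huinv, mul_inv_rev, huinv, hvinv, ← mul_assoc, hu2, one_mul]
    have hcard8 : Nat.card S = 2 * 4 := by rw [hcard3]; norm_num
    exact Cfsg.Agent.S3224.dihedral_iso (u * v) u 4 hord (by norm_num) hcard8 hu2 hxa hconj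
  · have hexpP : ∀ P : Subgroup Ω, F.IsEssential p P → ∀ x ∈ P, x ^ p = 1 := fun P hE' =>
      (odd_main hp2 hS F hF hidx hDZ hDcard hE' hcore).2
    have hZD := (odd_main hp2 hS F hF hidx hDZ hDcard hE hcore).1
    obtain ⟨hex, hcard3⟩ := hfinal hZD
    refine ⟨hex, hcard3, fun _ => ?_, fun h => absurd h hp2⟩
    have hcenD : Subgroup.center ↥S = commutator ↥S := hex.1.2.2.symm
    have hcentral : ∀ a b : S, ∀ g : S, g * (a⁻¹ * b⁻¹ * a * b) = (a⁻¹ * b⁻¹ * a * b) * g := by
      intro a b g
      have h1 : a⁻¹ * b⁻¹ * a * b ∈ commutator ↥S := by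
        have e : a⁻¹ * b⁻¹ * a * b = ⁅a⁻¹, b⁻¹⁆ := by
          rw [commutatorElement_def, inv_inv, inv_inv]
        rw [e, commutator_def]
        exact Subgroup.commutator_mem_commutator (Subgroup.mem_top _) (Subgroup.mem_top _)
      exact Subgroup.mem_center_iff.mp (hDZ h1) g
    have hmul : ∀ x y : S, x ^ p = 1 → y ^ p = 1 → (x * y) ^ p = 1 := by
      intro x y hx hy
      rw [Cfsg.Agent.Lib.Helper24.Coprime.mul_pow_prime_of_central p hp2
        (hcentral y x x).symm (hcentral y x y).symm (by rw [hy, one_mul, mul_one]), hx, hy,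
        one_mul]
    by_cases hW : ∀ x : S, x ^ p = 1
    · apply Nat.dvd_antisymm
      · exact Monoid.exponent_dvd_of_forall_pow_eq_one hW
      · have hne1 : Monoid.exponent ↥S ≠ 1 := by
          intro h1
          obtain ⟨a, b, hab⟩ := hna
          have := Monoid.exp_eq_one_iff.mp h1
          exact hab (Subsingleton.elim _ _)
        have hdvd : Monoid.exponent ↥S ∣ p := Monoid.exponent_dvd_of_forall_pow_eq_one hW
        rcases (Nat.dvd_prime hp).mp hdvd with h | h
        · exact absurd h hne1
        · rw [h]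
    · exfalso
      let W : Subgroup ↥S :=
        { carrier := {x | x ^ p = 1}
          mul_mem' := fun {a b} ha hb => hmul a b ha hb
          one_mem' := one_pow p
          inv_mem' := fun {a} ha => by
            show a⁻¹ ^ p = 1
            rw [inv_pow, show a ^ p = 1 from ha, inv_one] }
      have hWmem : ∀ x : S, x ∈ W ↔ x ^ p = 1 := fun x => Iff.rfl
      have hPW : ∀ P' : Subgroup Ω, F.IsEssential p P' → P' = W.map S.subtype := by
        intro P' hE'
        obtain ⟨hPS, hZP, hcard, hcomm, hnorm, hCP⟩ := ess_basic hS F hF hidx hDZ hE'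
        by_contra hne
        have hle : P' ≤ W.map S.subtype := by
          intro x hx
          refine ⟨⟨x, hPS hx⟩, ?_, rfl⟩
          rw [SetLike.mem_coe, hWmem]
          exact Subtype.ext (hexpP P' hE' x hx)
        have hex' : ∃ y ∈ W.map S.subtype, y ∉ P' := by
          by_contra hcon
          push_neg at hcon
          exact hne (le_antisymm hle hcon)
        obtain ⟨y, hyW, hyP⟩ := hex'
        have hWS : W.map S.subtype = S :=
          eq_of_card hcard hPS hle (by rintro _ ⟨w, -, rfl⟩; exact w.2) hyW hyP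
        apply hW
        intro x
        have hxW : (x : Ω) ∈ W.map S.subtype := by rw [hWS]; exact x.2
        obtain ⟨w, hw, hwx⟩ := hxW
        have hwx' : w = x := Subtype.ext hwx
        rw [← hwx']
        exact hw
      have hnormal : F.IsNormal (W.map S.subtype) := by
        rw [Cfsg.Agent.S5087.result p hS F hF]
        intro P' hP'
        rcases hP' with h | hE'
        · rw [h]
          refine ⟨by rintro _ ⟨w, -, rfl⟩; exact w.2, fun α hα =>
            map_eq_of_forall_mem (F.autGroup S) _ ?_ α hα⟩
          intro α hα x hx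
          rw [Subgroup.mem_subgroupOf] at hx ⊢
          obtain ⟨w, hw, hwx⟩ := hx
          have hwx' : w = x := Subtype.ext hwx
          rw [hwx'] at hw
          refine ⟨α x, ?_, rfl⟩
          rw [SetLike.mem_coe, hWmem] at hw ⊢
          rw [← map_pow, hw, map_one]
        · have h := hPW P' hE'
          refine ⟨h.ge, fun α hα => ?_⟩
          rw [Subgroup.subgroupOf_eq_top.mpr h.le]
          exact Subgroup.map_top_of_surjective _ α.surjective
      have hbot : W.map S.subtype = ⊥ := by
        rw [← le_bot_iff, ← hcore]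
        exact le_sSup hnormal
      have hPbot : P = ⊥ := (hPW P hE).trans hbot
      have hcard := (ess_basic hS F hF hidx hDZ hE).2.2.1
      rw [hPbot, Subgroup.card_bot, mul_one, hcard3] at hcard
      have hp1 : 1 < p := hp.one_lt
      have : p ^ 3 = p * (p * p) := by ring
      rw [this] at hcard
      have h2 : p * p = 1 := by
        have h3 : p * (p * p) = p * 1 := by rw [hcard, mul_one]
        exact Nat.eq_of_mul_eq_mul_left hp.pos h3
      nlinarith

end Cfsg.Agent.S5265
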