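import Cfsg.Statements.S5290
import Cfsg.Agent.Lib.Helper88.FSBase
import Cfsg.Agent.Lib.Helper88.InnerSat
import Cfsg.Agent.Lib.Helper87.FSNormal
import Cfsg.Agent.S5226
-- import your own Cfsg.Agent.* helpers here

set_option autoImplicit false
open Cfsg

namespace Cfsg.Agent.S5290


open Cfsg.FusionSystem Cfsg.Agent.Lib.Helper88 Cfsg.Agent.Lib.Helper87 in
/-- Under the Frattini property for the inner system of `Q`, the image in `Ω` of a
characteristic subgroup of `Q` is weakly closed. -/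
theorem weaklyClosed_of_frattini {Ω : Type*} [Group Ω] {S : Subgroup Ω} [Finite S]
    (F : Cfsg.FusionSystem S) (Q : Subgroup Ω) (hQ : Q ≤ S)
    (hfrat : ∀ (P : Subgroup Ω), P ≤ Q → ∀ (φ : P →* Ω), φ ∈ F.Hom P →
      ∃ α ∈ F.autGroup Q, ∃ φ₀ ∈ (innerFusionSystem Q).Hom P,
        ∀ (x : P) (hx : φ₀ x ∈ Q), φ x = ((α ⟨φ₀ x, hx⟩ : Q) : Ω))
    (U : Subgroup Q) [hU : U.Characteristic] : F.WeaklyClosed (U.map Q.subtype) := by
  have hUQ : U.map Q.subtype ≤ Q := Subgroup.map_subtype_le U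
  have hUS : U.map Q.subtype ≤ S := hUQ.trans hQ
  refine ⟨hUS, fun φ hφ => ?_⟩
  have hfin : Finite (U.map Q.subtype : Subgroup Ω) := FSSat.finite_of_le hUS
  apply FSBase.range_eq_of_finite F hφ
  intro x
  obtain ⟨α, -, φ₀, ⟨-, g, hg, hφ₀⟩, hx⟩ := hfrat _ hUQ φ hφ
  obtain ⟨u, hu, hux⟩ := x.2
  have hu' : (⟨g, hg⟩ : Q) * u * (⟨g, hg⟩ : Q)⁻¹ ∈ U := by
    have hn : U.Normal := inferInstance
    exact hn.conj_mem u hu _
  have hφ₀x : φ₀ x = (((⟨g, hg⟩ : Q) * u * (⟨g, hg⟩ : Q)⁻¹ : Q) : Ω) := by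
    rw [hφ₀ x, ← hux]
    rfl
  have hmem : φ₀ x ∈ Q := by rw [hφ₀x]; exact Subtype.property _
  rw [hx x hmem]
  refine ⟨α ⟨φ₀ x, hmem⟩, ?_, rfl⟩
  have hfix := hU.fixed α
  have h2 : (⟨φ₀ x, hmem⟩ : Q) = (⟨g, hg⟩ : Q) * u * (⟨g, hg⟩ : Q)⁻¹ := Subtype.ext hφ₀x
  rw [h2]
  have h3 : (⟨g, hg⟩ : Q) * u * (⟨g, hg⟩ : Q)⁻¹ ∈ U.comap α.toMonoidHom := by
    rw [hfix]; exact hu'
  exact h3

open Cfsg.FusionSystem Cfsg.Agent.Lib.Helper88 Cfsg.Agent.Lib.Helper87 in
/-- Let F be a saturated fusion system over a finite p-group S and Q a subgroup of S. Then Q is normal in F (F = N_F(Q)) if and only if the inner fusion system of Q, consisting of the conjugations by elements of Q on subgroups of Q, is a weakly normal subsystem of F (both saturated, Q strongly closed, invariant under F-conjugation, with the Frattini property). -/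
theorem result {Ω : Type*} [Group Ω] {S : Subgroup Ω} [Finite S] (p : ℕ) [Fact p.Prime] (hS : IsPGroup p S)
    (F : Cfsg.FusionSystem S) (hF : F.IsSaturated p)
    (Q : Subgroup Ω) (hQ : Q ≤ S) :
    F.IsNormal Q ↔ (Cfsg.innerFusionSystem Q).IsWeaklyNormalIn F p := by
  have hfin : Finite Q := FSSat.finite_of_le hQ
  have hQp : IsPGroup p Q := hS.to_le hQ
  constructor
  · intro hN
    refine ⟨InnerSat.inner_isSaturated p hQp, hF, InnerSat.inner_isSubsystemOf F hQ,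
      FSNormal.stronglyClosed_of_isNormal F hN, ?_, ?_⟩
    · -- invariance
      rintro P hPQ φ ⟨-, g, hg, hφ⟩ α hα
      have hle : (P.subgroupOf Q).map (Q.subtype.comp α.toMonoidHom) ≤ Q := by
        rintro _ ⟨y, -, rfl⟩
        exact (α y).2
      refine ⟨conjHom _ ((α ⟨g, hg⟩ : Q) : Ω), ⟨hle, _, (α ⟨g, hg⟩).2, fun x => rfl⟩, ?_⟩
      intro x hφx hαx
      have h2 : (⟨φ x, hφx⟩ : Q) = (⟨g, hg⟩ : Q) * ⟨x, hPQ x.2⟩ * (⟨g, hg⟩ : Q)⁻¹ :=
        Subtype.ext (hφ x)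
      rw [h2, map_mul, map_mul, map_inv]
      rfl
    · -- Frattini
      intro P hPQ φ hφ
      obtain ⟨a, ha, hax⟩ := FSNormal.exists_aut_of_isNormal F hN hφ hPQ
      refine ⟨a, ha, P.subtype, InnerSat.subtype_mem_inner hPQ, fun x hx => ?_⟩
      exact (hax x).symm
  · rintro ⟨-, -, -, hsc, -, hfrat⟩
    have hnil : Group.IsNilpotent Q := hQp.isNilpotent
    refine (Cfsg.Agent.S5226.result p hS F hF Q).mpr ⟨hsc, Group.nilpotencyClass Q,
      fun i => (Subgroup.upperCentralSeries Q i).map Q.subtype, ?_, ?_, ?_, ?_, ?_⟩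
    · show (Subgroup.upperCentralSeries Q ((0 : Fin (Group.nilpotencyClass Q + 1)) : ℕ)).map Q.subtype = ⊥
      rw [Fin.val_zero, Subgroup.upperCentralSeries_zero, Subgroup.map_bot]
    · show (Subgroup.upperCentralSeries Q ((Fin.last (Group.nilpotencyClass Q)) : ℕ)).map Q.subtype = Q
      rw [Fin.val_last, Subgroup.upperCentralSeries_nilpotencyClass, ← MonoidHom.range_eq_map,
        Subgroup.range_subtype]
    · intro i j hij
      exact Subgroup.map_mono (Subgroup.upperCentralSeries_mono Q hij)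
    · intro i
      rw [Subgroup.commutator_le]
      rintro _ ⟨z, hz, rfl⟩ g₂ hg₂
      have hz' : z ∈ Subgroup.upperCentralSeries Q ((i : ℕ) + 1) := hz
      rw [Subgroup.mem_upperCentralSeries_succ_iff] at hz'
      exact ⟨_, hz' ⟨g₂, hg₂⟩, rfl⟩
    · intro i
      exact weaklyClosed_of_frattini F Q hQ hfrat (Subgroup.upperCentralSeries Q _)

end Cfsg.Agent.S5290
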