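import Cfsg.Statements.S5292
import Cfsg.Agent.Lib.Helper87.PSolvExt
import Cfsg.Agent.Lib.Helper87.AutHom
import Cfsg.Agent.Lib.Helper87.RealQuot
import Cfsg.Agent.Lib.Helper87.Model
import Cfsg.Agent.Lib.Helper76.PSolv
import Cfsg.Agent.Lib.Helper11.PConstr
import Cfsg.Agent.H85.Realized
import Cfsg.Agent.H84.FusModel
import Cfsg.Agent.H84.FusCenQuot
import Cfsg.Agent.S5145

set_option autoImplicit false
universe u
open Cfsg

namespace Cfsg.Agent.S5292

/-- Let F be a saturated fusion system over a finite p-group S. Then F is the fusion system of some finite p-solvable group on a Sylow p-subgroup if and only if F is constrained (some subgroup normal in F is centric in F) and the group of automorphisms that F induces on its largest normal subgroup O_p(F) is p-solvable. -/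
theorem result {Ω : Type u} [Group Ω] {S : Subgroup Ω} [Finite S] (p : ℕ) [Fact p.Prime] (hS : IsPGroup p S)
    (F : Cfsg.FusionSystem S) (hF : F.IsSaturated p) :
    (∃ (G : Type u) (_ : Group G) (_ : Finite G) (ι : S →* G), Cfsg.IsPSolvable p G ∧ F.IsRealizedBy ι ∧
        ∃ T : Sylow p G, (T : Subgroup G) = ι.range) ↔
      (F.IsConstrained p ∧ Cfsg.IsPSolvable p ↥(F.autGroup F.core)) := by
  classical
  constructor
  · rintro ⟨G, instG, hfin, ι, hsolv, hreal, T, hT⟩
    obtain ⟨hreal', T', hT'⟩ :=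
      Cfsg.Agent.Lib.Helper87.RealQuot.realized_quotient F ι hreal T hT
    have hsolv' : Cfsg.IsPSolvable p (G ⧸ Cfsg.pPrimeCore p G) :=
      Cfsg.Agent.Lib.Helper76.PSolv.isPSolvable_quotient p _ hsolv
    have hM : F.IsModel p (G ⧸ Cfsg.pPrimeCore p G)
        ((QuotientGroup.mk' (Cfsg.pPrimeCore p G)).comp ι) :=
      ⟨inferInstance, hreal', ⟨T', hT'⟩,
        Cfsg.Agent.Lib.Helper76.PSolv.centralizer_pCore_le p hsolv'
          (Cfsg.Agent.Lib.Helper76.PSolv.pPrimeCore_quotient p)⟩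
    have hcon := Cfsg.Agent.H85.constrained_of_model p F _ hM
    refine ⟨hcon, ?_⟩
    have hQn : F.IsNormal F.core := Cfsg.Agent.S5145.result F
    have hnorm := Cfsg.Agent.H84.model_map_normal F _ hM hQn
    obtain ⟨ψ, hψ⟩ := Cfsg.Agent.Lib.Helper87.AutHom.exists_autHom _ hreal'.1 hQn.1 hnorm
    have hr := Cfsg.Agent.Lib.Helper87.AutHom.range_autHom F _ hreal' hQn.1 ψ hψ
    have h1 : Cfsg.IsPSolvable p ψ.range :=
      Cfsg.Agent.Lib.Helper11.PConstr.isPSolvable_of_surjective p ψ.rangeRestrict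
        ψ.rangeRestrict_surjective hsolv'
    exact Cfsg.Agent.Lib.Helper11.PConstr.isPSolvable_of_mulEquiv p (MulEquiv.subgroupCongr hr) h1
  · rintro ⟨hcon, hA⟩
    obtain ⟨hQn, hQc⟩ := Cfsg.Agent.H84.core_centric_of_constrained F hcon
    obtain ⟨G, instG, ι, hM, hnorm, hcent⟩ :=
      Cfsg.Agent.Lib.Helper87.Model.exists_model hS F hF hQn hQc
    obtain ⟨hfin, hreal, ⟨T, hT⟩, -⟩ := hM
    obtain ⟨ψ, hψ⟩ := Cfsg.Agent.Lib.Helper87.AutHom.exists_autHom ι hreal.1 hQn.1 hnorm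
    have hr := Cfsg.Agent.Lib.Helper87.AutHom.range_autHom F ι hreal hQn.1 ψ hψ
    have hk := Cfsg.Agent.Lib.Helper87.AutHom.ker_autHom ι hreal.1 hQn.1 ψ hψ
    have hkT : ψ.ker ≤ (T : Subgroup G) := by
      rw [hk]
      refine hcent.trans ?_
      rintro _ ⟨s, -, rfl⟩
      rw [hT]
      exact ⟨s, rfl⟩
    have hkp : IsPGroup p ψ.ker := T.2.to_le hkT
    obtain ⟨m, hm⟩ := IsPGroup.iff_card.mp hkp
    refine ⟨G, instG, hfin, ι, ?_, hreal, ⟨T, hT⟩⟩
    apply Cfsg.Agent.Lib.Helper87.PSolvExt.isPSolvable_of_quotient p ψ.ker m hm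
    exact Cfsg.Agent.Lib.Helper11.PConstr.isPSolvable_of_mulEquiv p
      ((MulEquiv.subgroupCongr hr.symm).trans (QuotientGroup.quotientKerEquivRange ψ).symm) hA

end Cfsg.Agent.S5292
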