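import Cfsg.Statements.S5320
import Cfsg.Agent.Lib.Helper38.Sp4Asm
import Cfsg.Agent.Lib.Helper11.Sp4GX0
import Cfsg.Agent.Lib.Helper11.Sp4PSI
import Cfsg.Agent.Lib.Helper13.Sp4GKER
import Cfsg.Agent.Lib.Helper13.Sp4QTWO
import Cfsg.Agent.Lib.Helper13.Sp4X0D
import Cfsg.Agent.Lib.Helper15.Sp4SYL1
import Cfsg.Agent.Lib.Helper15.Sp4SYL2
import Cfsg.Agent.Lib.Helper2.Sp4CINV
import Cfsg.Agent.Lib.Helper2.Sp4SCL1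
import Cfsg.Agent.Lib.Helper2.Sp4SCL2
import Cfsg.Agent.Lib.Helper2.Sp4SYLN
import Cfsg.Agent.Lib.Helper21.Sp4DGEN
import Cfsg.Agent.Lib.Helper21.Sp4LEPS
import Cfsg.Agent.Lib.Helper21.Sp4NA
import Cfsg.Agent.Lib.Helper21.Sp4QBIG
import Cfsg.Agent.Lib.Helper29.Sp4S2G
import Cfsg.Agent.Lib.Helper29.Sp4SNF
import Cfsg.Agent.Lib.Helper31.Sp4Q8W
import Cfsg.Agent.Lib.Helper31.Sp4QCEN
import Cfsg.Agent.Lib.Helper31.Sp4QFOC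
import Cfsg.Agent.Lib.Helper38.Sp4CNF
import Cfsg.Agent.Lib.Helper38.Sp4GCENT
import Cfsg.Agent.Lib.Helper38.Sp4QNF
import Cfsg.Agent.Lib.Helper48.Sp4NQ1
import Cfsg.Agent.Lib.Helper48.Sp4Q8N
import Cfsg.Agent.Lib.Helper50.Sp4N2
import Cfsg.Agent.Lib.Helper50.Sp4NORM
import Cfsg.Agent.Lib.Helper52.Sp4CD1
import Cfsg.Agent.Lib.Helper52.Sp4CD2
import Cfsg.Agent.Lib.Helper53.Sp4ACEN
import Cfsg.Agent.Lib.Helper53.Sp4ACT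
import Cfsg.Agent.Lib.Helper53.Sp4ANF
import Cfsg.Agent.Lib.Helper53.Sp4ANS
import Cfsg.Agent.Lib.Helper56.Sp4GFUS
import Cfsg.Agent.Lib.Helper56.Sp4GTAU
import Cfsg.Agent.Lib.Helper72.Sp4C4
import Cfsg.Agent.Lib.Helper72.Sp4Q8A
import Cfsg.Agent.Lib.Helper92.Sp4Q8T

set_option autoImplicit false
open Cfsg

namespace Cfsg.Agent.S5320

universe uu
open Cfsg.Agent.Lib.Helper38.Sp4Stmt in
theorem hSNF : SNF.{uu, uu} := Cfsg.Agent.Lib.Helper29.Sp4SNF.main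
open Cfsg.Agent.Lib.Helper38.Sp4Stmt in
theorem hS2G : S2G.{uu, uu} := Cfsg.Agent.Lib.Helper29.Sp4S2G.main
open Cfsg.Agent.Lib.Helper38.Sp4Stmt in
theorem hCINV : CINV.{uu, uu} := Cfsg.Agent.Lib.Helper2.Sp4CINV.main
open Cfsg.Agent.Lib.Helper38.Sp4Stmt in
theorem hSCL1 : SCL1.{uu, uu} := Cfsg.Agent.Lib.Helper2.Sp4SCL1.main
open Cfsg.Agent.Lib.Helper38.Sp4Stmt in
theorem hNORM : NORM.{uu, uu} := Cfsg.Agent.Lib.Helper50.Sp4NORM.main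
open Cfsg.Agent.Lib.Helper38.Sp4Stmt in
theorem hN2 : N2Core.{uu, uu} := Cfsg.Agent.Lib.Helper50.Sp4N2.main hSNF hS2G hNORM
open Cfsg.Agent.Lib.Helper38.Sp4Stmt in
theorem hNA : NACore.{uu, uu} := Cfsg.Agent.Lib.Helper21.Sp4NA.main Cfsg.Agent.Lib.Helper53.Sp4ANF.main
open Cfsg.Agent.Lib.Helper38.Sp4Stmt in
theorem hDGEN : DGENCore.{uu, uu} := Cfsg.Agent.Lib.Helper21.Sp4DGEN.main Cfsg.Agent.Lib.Helper53.Sp4ANF.main hS2G Cfsg.Agent.Lib.Helper53.Sp4ANS.main hNA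

/-- For a finite field F of odd order, the 2-fusion system of the projective symplectic group PSp(4,F) on a Sylow 2-subgroup is simple. -/
theorem result {F : Type*} [Field F] [Fintype F] (hodd : Fintype.card F % 2 = 1) (S : Sylow 2 (Cfsg.PSp 2 F)) :
    (Cfsg.groupFusionSystem (S : Subgroup (Cfsg.PSp 2 F))).IsSimple 2 := by
  exact Cfsg.Agent.Lib.Helper38.Sp4Asm.assembly
    Cfsg.Agent.Lib.Helper11.Sp4PSI.main Cfsg.Agent.Lib.Helper13.Sp4GKER.main Cfsg.Agent.Lib.Helper56.Sp4GTAU.main Cfsg.Agent.Lib.Helper38.Sp4GCENT.main Cfsg.Agent.Lib.Helper56.Sp4GFUS.main Cfsg.Agent.Lib.Helper21.Sp4LEPS.main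
    Cfsg.Agent.Lib.Helper13.Sp4QTWO.main Cfsg.Agent.Lib.Helper31.Sp4QCEN.main Cfsg.Agent.Lib.Helper21.Sp4QBIG.main Cfsg.Agent.Lib.Helper31.Sp4QFOC.main Cfsg.Agent.Lib.Helper48.Sp4NQ1.main Cfsg.Agent.Lib.Helper72.Sp4C4.main
    Cfsg.Agent.Lib.Helper72.Sp4Q8A.main Cfsg.Agent.Lib.Helper31.Sp4Q8W.main Cfsg.Agent.Lib.Helper48.Sp4Q8N.main Cfsg.Agent.Lib.Helper92.Sp4Q8T.main
    (Cfsg.Agent.Lib.Helper13.Sp4X0D.main Cfsg.Agent.Lib.Helper11.Sp4GX0.main Cfsg.Agent.Lib.Helper13.Sp4GKER.main Cfsg.Agent.Lib.Helper38.Sp4QNF.main)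
    (Cfsg.Agent.Lib.Helper15.Sp4SYL1.main Cfsg.Agent.Lib.Helper2.Sp4SYLN.main hS2G hNORM)
    (Cfsg.Agent.Lib.Helper52.Sp4CD1.main hSNF hS2G hNORM hSCL1 Cfsg.Agent.Lib.Helper2.Sp4SCL2.main)
    (Cfsg.Agent.Lib.Helper15.Sp4SYL2.main Cfsg.Agent.Lib.Helper2.Sp4SYLN.main hS2G hN2)
    (Cfsg.Agent.Lib.Helper52.Sp4CD2.main hSNF hS2G hSCL1 Cfsg.Agent.Lib.Helper2.Sp4SCL2.main Cfsg.Agent.Lib.Helper53.Sp4ANS.main Cfsg.Agent.Lib.Helper53.Sp4ACEN.main Cfsg.Agent.Lib.Helper53.Sp4ACT.main hN2 hNA hDGEN)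
    hodd S

end Cfsg.Agent.S5320
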