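import Cfsg.Statements.S5329
import Cfsg.Agent.Lib.Helper87.FSBasic
import Cfsg.Agent.Lib.Helper87.BisetTransfer

set_option autoImplicit false
open Cfsg

namespace Cfsg.Agent.S5329

/-- For a saturated fusion system F over a finite p-group S, the focal subgroup and the derived subgroup of S meet the centre Z(F) of the system in the same subgroup: foc(F) ∩ Z(F) = S′ ∩ Z(F). -/
theorem result {Ω : Type*} [Group Ω] {S : Subgroup Ω} [Finite S] (p : ℕ) [Fact p.Prime] (hS : IsPGroup p S) (F : Cfsg.FusionSystem S) (hF : F.IsSaturated p) : F.focalSubgroup ⊓ F.center = ⁅(S : Subgroup Ω), (S : Subgroup Ω)⁆ ⊓ F.center := by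
  obtain ⟨n, τ, hpn, hτ, hτz⟩ := Cfsg.Agent.Lib.Helper87.BisetTransfer.exists_transfer hS F hF
  have hcomm : ⁅(S : Subgroup Ω), (S : Subgroup Ω)⁆ = (commutator S).map S.subtype := by
    rw [commutator_def, Subgroup.map_commutator, ← MonoidHom.range_eq_map, Subgroup.range_subtype]
  have hle1 : ⁅(S : Subgroup Ω), (S : Subgroup Ω)⁆ ≤ F.focalSubgroup := by
    rw [Subgroup.commutator_le]
    intro a ha b hb
    show a * b * a⁻¹ * b⁻¹ ∈ F.focalSubgroup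
    apply Subgroup.subset_closure
    refine ⟨S, conjHom S b, ⟨a⁻¹, S.inv_mem ha⟩, F.conj_mem le_rfl hb, ?_⟩
    show a * b * a⁻¹ * b⁻¹ = (a⁻¹)⁻¹ * (b * a⁻¹ * b⁻¹)
    group
  have hle2 : F.focalSubgroup ≤ τ.ker.map S.subtype := by
    unfold FusionSystem.focalSubgroup
    rw [Subgroup.closure_le]
    rintro _ ⟨P, φ, x, hφ, rfl⟩
    refine ⟨(⟨x, Cfsg.Agent.Lib.Helper87.FSBasic.dom_le F hφ x.2⟩ : S)⁻¹ *
      ⟨φ x, Cfsg.Agent.Lib.Helper87.FSBasic.map_mem F hφ x⟩, ?_, rfl⟩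
    rw [SetLike.mem_coe, MonoidHom.mem_ker, map_mul, map_inv, hτ P φ hφ x, inv_mul_cancel]
  apply le_antisymm
  · rintro z ⟨hzfoc, hzc⟩
    refine ⟨?_, hzc⟩
    obtain ⟨⟨z', hz'S⟩, hz'ker, rfl⟩ := hle2 hzfoc
    have h1 : τ ⟨z', hz'S⟩ = 1 := hz'ker
    rw [hτz _ hzc] at h1
    obtain ⟨k, hk⟩ := hS (⟨z', hz'S⟩ : S)⁻¹
    have h2 : Abelianization.of ((⟨z', hz'S⟩ : S)⁻¹) ^ p ^ k = 1 := by
      rw [← map_pow, hk, map_one]
    have h3 : Abelianization.of ((⟨z', hz'S⟩ : S)⁻¹) ^ (Nat.gcd n (p ^ k)) = 1 :=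
      pow_gcd_eq_one.mpr ⟨h1, h2⟩
    have hcop : Nat.gcd n (p ^ k) = 1 :=
      Nat.Coprime.pow_right k ((Nat.Prime.coprime_iff_not_dvd Fact.out).mpr hpn).symm
    rw [hcop, pow_one] at h3
    have h4 : ((⟨z', hz'S⟩ : S)⁻¹) ∈ commutator S := by
      rw [← Abelianization.ker_of]
      exact h3
    rw [hcomm]
    have h5 := (commutator S).inv_mem h4
    rw [inv_inv] at h5
    exact ⟨_, h5, rfl⟩
  · rintro z ⟨hz1, hz2⟩
    exact ⟨hle1 hz1, hz2⟩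

end Cfsg.Agent.S5329
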