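import Mathlib
import Cfsg.Statements.S5343
import Cfsg.Agent.S5118
import Cfsg.Agent.H85.Realized

set_option autoImplicit false

universe u

namespace Cfsg.Agent.S5343

open Cfsg Cfsg.FusionSystem
open Cfsg.Agent.Lib.Helper87.FSBasic
open Cfsg.Agent.Lib.Helper33.Conj

variable {Ω : Type*} [Group Ω] {S : Subgroup Ω} {G : Type*} [Group G]

/-! ### Preimages along `ι : S →* G` -/

/-- the preimage in `S` (as a subgroup of `Ω`) of a subgroup of `G` -/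
def pre (ι : S →* G) (N : Subgroup G) : Subgroup Ω := (N.comap ι).map S.subtype

theorem mem_pre {ι : S →* G} {N : Subgroup G} {x : Ω} :
    x ∈ pre ι N ↔ ∃ hx : x ∈ S, ι ⟨x, hx⟩ ∈ N := by
  unfold pre
  constructor
  · rintro ⟨y, hy, rfl⟩
    exact ⟨y.2, hy⟩
  · rintro ⟨hx, h⟩
    exact ⟨⟨x, hx⟩, h, rfl⟩

theorem pre_le {ι : S →* G} {N : Subgroup G} : pre ι N ≤ S := fun _ hx => (mem_pre.mp hx).1

theorem map_mem_of_mem_pre {ι : S →* G} {N : Subgroup G} {x : Ω} (hx : x ∈ pre ι N)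
    (hxS : x ∈ S) : ι ⟨x, hxS⟩ ∈ N := (mem_pre.mp hx).2

/-! ### The subsystem induced by a subgroup `N` of `G` -/

/-- the maps of `F` between subgroups of `ι⁻¹(N)` that are induced, through `ι`, by conjugation
with elements of `N` -/
def subSys (F : FusionSystem S) (ι : S →* G) (N : Subgroup G) : FusionSystem (pre ι N) where
  Hom P := {φ | φ ∈ F.Hom P ∧ P ≤ pre ι N ∧ (∀ x : P, φ x ∈ pre ι N) ∧
    ∃ n ∈ N, ∀ (x : P) (hx : (x : Ω) ∈ S) (hφx : φ x ∈ S),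
      ι ⟨φ x, hφx⟩ = n * ι ⟨x, hx⟩ * n⁻¹}
  le_of_mem := fun h => ⟨h.2.1, h.2.2.1⟩
  injective_of_mem := fun h => F.injective_of_mem h.1
  conj_mem := by
    intro P g hP hg
    refine ⟨F.conj_mem (hP.trans pre_le) (pre_le hg), hP, fun x => ?_, ι ⟨g, pre_le hg⟩,
      map_mem_of_mem_pre hg _, ?_⟩
    · show g * (x : Ω) * g⁻¹ ∈ pre ι N
      exact Subgroup.mul_mem _ (Subgroup.mul_mem _ hg (hP x.2)) (Subgroup.inv_mem _ hg)
    · intro x hx hφx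
      rw [← map_inv, ← map_mul, ← map_mul]
      rfl
  comp_mem := by
    rintro P Q φ ψ ⟨hφF, hP, hφT, n₁, hn₁, h₁⟩ ⟨hψF, hQ, hψT, n₂, hn₂, h₂⟩ h
    refine ⟨F.comp_mem hφF hψF h, hP, fun x => hψT _, n₂ * n₁, Subgroup.mul_mem _ hn₂ hn₁, ?_⟩
    intro x hx hφx
    have e1 := h₂ ⟨φ x, h x⟩ (pre_le (hφT x)) hφx
    have e2 := h₁ x hx (pre_le (hφT x))
    show ι ⟨ψ ⟨φ x, h x⟩, hφx⟩ = n₂ * n₁ * ι ⟨x, hx⟩ * (n₂ * n₁)⁻¹
    rw [e1]
    show n₂ * ι ⟨φ x, _⟩ * n₂⁻¹ = _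
    rw [e2]
    group
  inv_mem := by
    rintro P φ ⟨hφF, hP, hφT, n, hn, h₁⟩
    obtain ⟨ψ, hψ, hinv⟩ := F.inv_mem hφF
    refine ⟨ψ, ⟨hψ, ?_, ?_, n⁻¹, Subgroup.inv_mem _ hn, ?_⟩, hinv⟩
    · rintro _ ⟨x, rfl⟩
      exact hφT x
    · rintro ⟨_, x, rfl⟩
      rw [hinv x]
      exact hP x.2
    · rintro ⟨_, x, rfl⟩ hx hψx
      have e : (⟨ψ ⟨φ x, ⟨x, rfl⟩⟩, hψx⟩ : S) = ⟨x, pre_le (hP x.2)⟩ := Subtype.ext (hinv x)
      rw [e]
      have e2 := h₁ x (pre_le (hP x.2)) hx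
      show ι ⟨x, _⟩ = n⁻¹ * ι ⟨φ x, hx⟩ * n⁻¹⁻¹
      rw [e2]
      group

theorem mem_subSys_iff (F : FusionSystem S) (ι : S →* G) (N : Subgroup G) {P : Subgroup Ω}
    (φ : P →* Ω) : φ ∈ (subSys F ι N).Hom P ↔
      φ ∈ F.Hom P ∧ P ≤ pre ι N ∧ (∀ x : P, φ x ∈ pre ι N) ∧
        ∃ n ∈ N, ∀ (x : P) (hx : (x : Ω) ∈ S) (hφx : φ x ∈ S),
          ι ⟨φ x, hφx⟩ = n * ι ⟨x, hx⟩ * n⁻¹ := Iff.rfl

/-- the restriction `ι⁻¹(N) → N` of `ι` -/
def ιN (ι : S →* G) (N : Subgroup G) : ↥(pre ι N) →* ↥N :=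
  (ι.comp (Subgroup.inclusion pre_le)).codRestrict N (fun x => map_mem_of_mem_pre x.2 _)

theorem subSys_realized (F : FusionSystem S) (ι : S →* G) (hreal : F.IsRealizedBy ι)
    (N : Subgroup G) : (subSys F ι N).IsRealizedBy (ιN ι N) := by
  refine ⟨fun a b hab => ?_, fun P hP φ hφ => ⟨?_, ?_⟩⟩
  · have h1 : ι ⟨a, pre_le a.2⟩ = ι ⟨b, pre_le b.2⟩ := congrArg Subtype.val hab
    have h2 := hreal.1 h1
    exact Subtype.ext (congrArg (fun s : S => (s : Ω)) h2)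
  · rintro ⟨-, -, -, n, hn, h⟩
    exact ⟨⟨n, hn⟩, fun x => Subtype.ext (h x _ _)⟩
  · rintro ⟨g, hg⟩
    have h : ∀ x : P, ι ⟨φ x, pre_le (hφ x)⟩ = (g : G) * ι ⟨x, pre_le (hP x.2)⟩ * (g : G)⁻¹ :=
      fun x => congrArg Subtype.val (hg x)
    exact ⟨(hreal.2 P (hP.trans pre_le) φ (fun x => pre_le (hφ x))).mpr ⟨g, h⟩, hP, hφ, g, g.2,
      fun x _ _ => h x⟩

theorem exists_sylow_N [Finite G] {p : ℕ} [Fact p.Prime] (ι : S →* G) (R : Sylow p G)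
    (hR : (R : Subgroup G) = ι.range) (N : Subgroup G) [N.Normal] :
    ∃ T : Sylow p ↥N, (T : Subgroup ↥N) = (ιN ι N).range := by
  have hsyl : IsSylIn p ((R : Subgroup G) ⊓ N) N :=
    S5118.sylIn_inf_normal (isSylIn_of_sylow R le_top) le_top
      (by rw [Subgroup.normalizer_eq_top])
  have hp : IsPGroup p (((R : Subgroup G) ⊓ N).subgroupOf N) := hsyl.2.1.comap_subtype
  have hidx : ¬ p ∣ (((R : Subgroup G) ⊓ N).subgroupOf N).index := hsyl.2.2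
  refine ⟨hp.toSylow hidx, ?_⟩
  rw [IsPGroup.toSylow_coe]
  ext y
  rw [Subgroup.mem_subgroupOf]
  constructor
  · rintro ⟨hyR, -⟩
    rw [hR] at hyR
    obtain ⟨s, hs⟩ := hyR
    have hsN : ι ⟨s, s.2⟩ ∈ N := by
      show ι s ∈ N
      rw [hs]
      exact y.2
    exact ⟨⟨s, mem_pre.mpr ⟨s.2, hsN⟩⟩, Subtype.ext hs⟩
  · rintro ⟨x, rfl⟩
    refine ⟨?_, (ιN ι N x).2⟩
    rw [hR]
    exact ⟨_, rfl⟩

/-- in a finite subgroup, a conjugation mapping it into itself does so in both directions -/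
theorem inv_conj_mem {K : Subgroup G} [Finite K] {n : G} (h : ∀ d ∈ K, n * d * n⁻¹ ∈ K) :
    ∀ d ∈ K, n⁻¹ * d * n ∈ K := by
  intro d hd
  let f : K → K := fun x => ⟨n * x * n⁻¹, h x x.2⟩
  have hf : Function.Injective f := by
    intro a b hab
    have h1 : n * (a : G) * n⁻¹ = n * (b : G) * n⁻¹ := congrArg Subtype.val hab
    exact Subtype.ext (by simpa using h1)
  obtain ⟨x, hx⟩ := (Finite.injective_iff_surjective.mp hf) ⟨d, hd⟩
  have h1 : n * (x : G) * n⁻¹ = d := congrArg Subtype.val hx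
  have h2 : n⁻¹ * d * n = x := by
    rw [← h1]
    group
  rw [h2]
  exact x.2

theorem subSys_normal [Finite G] [Finite S] {p : ℕ} [Fact p.Prime] (F : FusionSystem S)
    (hsat : F.IsSaturated p) (ι : S →* G) (hreal : F.IsRealizedBy ι) (R : Sylow p G)
    (hR : (R : Subgroup G) = ι.range) (N : Subgroup G) [hN : N.Normal] :
    (subSys F ι N).IsNormalIn F p := by
  have hinj := hreal.1
  have hfinT : Finite ↥(pre ι N) :=
    Finite.of_injective (Subgroup.inclusion (pre_le (ι := ι) (N := N)))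
      (Subgroup.inclusion_injective _)
  obtain ⟨TN, hTN⟩ := exists_sylow_N ι R hR N
  have hEsat : (subSys F ι N).IsSaturated p :=
    H85.saturated_of_realized (subSys F ι N) (ιN ι N) (subSys_realized F ι hreal N) TN hTN
  have hιR : ∀ s : S, ι s ∈ (R : Subgroup G) := fun s => by rw [hR]; exact ⟨s, rfl⟩
  have hK : ∀ d ∈ (R : Subgroup G), d ∈ N →
      ∃ t : Ω, ∃ ht : t ∈ pre ι N, ι ⟨t, pre_le ht⟩ = d := by
    intro d hdR hdN
    rw [hR] at hdR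
    obtain ⟨s, rfl⟩ := hdR
    exact ⟨s, mem_pre.mpr ⟨s.2, hdN⟩, rfl⟩
  have hTN' : ∀ (t : Ω) (ht : t ∈ pre ι N), ι ⟨t, pre_le ht⟩ ∈ N :=
    fun t ht => map_mem_of_mem_pre ht _
  refine ⟨⟨hEsat, hsat, ?_, ?_, ?_, ?_⟩, ?_⟩
  · -- subsystem
    intro P φ hφ
    exact hφ.1
  · -- strongly closed
    refine ⟨pre_le, fun P hP φ hφ x => ?_⟩
    obtain ⟨g, hg⟩ := H85.exists_of_mem_realized F ι hreal hφ
    refine mem_pre.mpr ⟨(F.le_of_mem hφ).2 x, ?_⟩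
    rw [hg x]
    exact hN.conj_mem _ (hTN' _ (hP x.2)) g
  · -- invariance
    intro P hPT φ hφ α hα
    obtain ⟨hφF, -, hφT, n, hn, hφn⟩ := hφ
    have hαF := (Cfsg.Agent.Lib.Helper87.FSBasic.mem_autGroup_iff F pre_le α).mp hα
    obtain ⟨g, hg⟩ := H85.exists_of_mem_realized F ι hreal hαF
    have hg' : ∀ (t : ↥(pre ι N)), ι ⟨((α t : ↥(pre ι N)) : Ω), pre_le (α t).2⟩ =
        g * ι ⟨t, pre_le t.2⟩ * g⁻¹ := fun t => hg t
    obtain ⟨P₂, hP₂⟩ : ∃ P₂ : Subgroup Ω,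
        P₂ = (P.subgroupOf (pre ι N)).map ((pre ι N).subtype.comp α.toMonoidHom) := ⟨_, rfl⟩
    rw [← hP₂]
    have hP₂T : P₂ ≤ pre ι N := by
      rw [hP₂]
      rintro _ ⟨x, -, rfl⟩
      exact (α x).2
    have hP₂S : P₂ ≤ S := hP₂T.trans pre_le
    have hP₂mem : ∀ z ∈ P₂, ∃ x : P, ((α ⟨x, hPT x.2⟩ : ↥(pre ι N)) : Ω) = z := by
      rw [hP₂]
      rintro _ ⟨x, hx, rfl⟩
      exact ⟨⟨x, Subgroup.mem_subgroupOf.mp hx⟩, rfl⟩
    have hP₂ex : ∀ y : P₂, ∃ x : P, ((α ⟨x, hPT x.2⟩ : ↥(pre ι N)) : Ω) = y :=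
      fun y => hP₂mem y y.2
    have key : ∀ x : P, (g * n * g⁻¹) *
        ι ⟨((α ⟨x, hPT x.2⟩ : ↥(pre ι N)) : Ω), pre_le (α _).2⟩ * (g * n * g⁻¹)⁻¹ =
        ι ⟨((α ⟨φ x, hφT x⟩ : ↥(pre ι N)) : Ω), pre_le (α _).2⟩ := by
      intro x
      rw [hg' ⟨x, hPT x.2⟩, hg' ⟨φ x, hφT x⟩]
      have e3 := hφn x (pre_le (hPT x.2)) (pre_le (hφT x))
      show _ = g * ι ⟨φ x, _⟩ * g⁻¹
      rw [e3]
      group
    have h : ∀ y : P₂, (g * n * g⁻¹) * ι ⟨y, hP₂S y.2⟩ * (g * n * g⁻¹)⁻¹ ∈ ι.range := by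
      intro y
      obtain ⟨x, hx⟩ := hP₂ex y
      have e : (⟨y, hP₂S y.2⟩ : S) = ⟨((α ⟨x, hPT x.2⟩ : ↥(pre ι N)) : Ω), pre_le (α _).2⟩ :=
        Subtype.ext hx.symm
      rw [e, key x]
      exact ⟨_, rfl⟩
    have hmN : g * n * g⁻¹ ∈ N := hN.conj_mem n hn g
    refine ⟨H85.pullConj ι hinj hP₂S (g * n * g⁻¹) h,
      ⟨H85.pullConj_mem F ι hreal hP₂S _ h, hP₂T, fun y => ?_, g * n * g⁻¹, hmN, fun y hy hχy => ?_⟩,
      fun x hφx hαx => ?_⟩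
    · refine mem_pre.mpr ⟨H85.pullConj_mem_S ι hinj hP₂S _ h y, ?_⟩
      rw [H85.ι_pullConj]
      exact hN.conj_mem _ (hTN' _ (hP₂T y.2)) _
    · exact H85.ι_pullConj ι hinj hP₂S _ h y
    · have e1 := H85.ι_pullConj ι hinj hP₂S _ h ⟨(α ⟨x, hPT x.2⟩ : ↥(pre ι N)), hαx⟩
      have e2 := key x
      have e3 : (⟨H85.pullConj ι hinj hP₂S (g * n * g⁻¹) h ⟨(α ⟨x, hPT x.2⟩ : ↥(pre ι N)), hαx⟩,
          H85.pullConj_mem_S ι hinj hP₂S _ h _⟩ : S) =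
          ⟨((α ⟨φ x, hφT x⟩ : ↥(pre ι N)) : Ω), pre_le (α _).2⟩ := by
        apply hinj
        rw [e1]
        exact e2
      exact congrArg Subtype.val e3
  · -- Frattini
    intro P hPT φ hφ
    obtain ⟨g, hg⟩ := H85.exists_of_mem_realized F ι hreal hφ
    obtain ⟨ν, γ, hγ, hgνγ, hν⟩ := Cfsg.Agent.Lib.Helper86.GroupAux.frattini_inf N R g
    have hν' : ∀ d ∈ N ⊓ (R : Subgroup G), ν⁻¹ * d * ν ∈ N ⊓ (R : Subgroup G) :=
      inv_conj_mem hν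
    have hPS : P ≤ S := hPT.trans pre_le
    -- the automorphism of `T`
    have ha : ∀ t : ↥(pre ι N), ν * ι ⟨t, pre_le t.2⟩ * ν⁻¹ ∈ ι.range := by
      intro t
      rw [← hR]
      exact (hν _ ⟨hTN' _ t.2, hιR _⟩).2
    have haT : ∀ t : ↥(pre ι N), H85.pullConj ι hinj pre_le ν ha t ∈ pre ι N := by
      intro t
      refine mem_pre.mpr ⟨H85.pullConj_mem_S ι hinj pre_le ν ha t, ?_⟩
      rw [H85.ι_pullConj]
      exact (hν _ ⟨hTN' _ t.2, hιR _⟩).1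
    have haF := H85.pullConj_mem F ι hreal pre_le ν ha
    have har := Cfsg.Agent.Lib.Helper88.FSBase.range_eq_of_finite F haF haT
    obtain ⟨α, hα, hαx⟩ := Cfsg.Agent.Lib.Helper88.FSBase.exists_aut_of_mem F haF har
    -- the map of `E`
    have hb : ∀ x : P, γ * ι ⟨x, hPS x.2⟩ * γ⁻¹ ∈ ι.range := by
      intro x
      have e : γ * ι ⟨x, hPS x.2⟩ * γ⁻¹ = ν⁻¹ * (g * ι ⟨x, hPS x.2⟩ * g⁻¹) * ν := by
        rw [hgνγ]
        group
      rw [e, ← hg x, ← hR]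
      refine (hν' _ ⟨?_, hιR _⟩).2
      rw [hg x]
      exact hN.conj_mem _ (hTN' _ (hPT x.2)) g
    have hbT : ∀ x : P, H85.pullConj ι hinj hPS γ hb x ∈ pre ι N := by
      intro x
      refine mem_pre.mpr ⟨H85.pullConj_mem_S ι hinj hPS γ hb x, ?_⟩
      rw [H85.ι_pullConj]
      exact hN.conj_mem _ (hTN' _ (hPT x.2)) γ
    refine ⟨α, hα, H85.pullConj ι hinj hPS γ hb,
      ⟨H85.pullConj_mem F ι hreal hPS γ hb, hPT, hbT, γ, hγ,
        fun x _ _ => H85.ι_pullConj ι hinj hPS γ hb x⟩, fun x hx => ?_⟩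
    rw [hαx]
    have e3 : (⟨φ x, (F.le_of_mem hφ).2 x⟩ : S) =
        ⟨H85.pullConj ι hinj pre_le ν ha ⟨H85.pullConj ι hinj hPS γ hb x, hx⟩,
          H85.pullConj_mem_S ι hinj pre_le ν ha _⟩ := by
      apply hinj
      rw [H85.ι_pullConj, hg x]
      have e4 := H85.ι_pullConj ι hinj hPS γ hb x
      show _ = ν * ι ⟨H85.pullConj ι hinj hPS γ hb x, _⟩ * ν⁻¹
      rw [e4, hgνγ]
      group
    exact congrArg Subtype.val e3
  · -- extension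
    intro α hα
    have hαE := (Cfsg.Agent.Lib.Helper87.FSBasic.mem_autGroup_iff (subSys F ι N) le_rfl α).mp hα
    obtain ⟨hαF, -, -, n, hn, hαn⟩ := hαE
    have hαn' : ∀ t : ↥(pre ι N), ι ⟨((α t : ↥(pre ι N)) : Ω), pre_le (α t).2⟩ =
        n * ι ⟨t, pre_le t.2⟩ * n⁻¹ := fun t => hαn t _ _
    have hnK : ∀ d ∈ (R : Subgroup G) ⊓ N, n * d * n⁻¹ ∈ (R : Subgroup G) ⊓ N := by
      rintro d ⟨hdR, hdN⟩
      obtain ⟨t, ht, rfl⟩ := hK d hdR hdN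
      rw [← hαn' ⟨t, ht⟩]
      exact ⟨hιR _, hTN' _ (α ⟨t, ht⟩).2⟩
    have hnK' := inv_conj_mem hnK
    have hnNorm : n ∈ Subgroup.normalizer ((((R : Subgroup G) ⊓ N : Subgroup G)) : Set G) := by
      rw [Subgroup.mem_normalizer_iff]
      intro d
      refine ⟨hnK d, fun hd => ?_⟩
      have h1 := hnK' _ hd
      have e : n⁻¹ * (n * d * n⁻¹) * n = d := by group
      rwa [e] at h1
    obtain ⟨d, hd, hdc⟩ := S5118.exists_correction R N hn hnNorm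
    have hdN : d ∈ N := hd.1
    have hdC : d ∈ Subgroup.centralizer ((((R : Subgroup G) ⊓ N : Subgroup G)) : Set G) := hd.2
    have hmN : d * n ∈ N := N.mul_mem hdN hn
    have hmT : ∀ t : ↥(pre ι N), (d * n) * ι ⟨t, pre_le t.2⟩ * (d * n)⁻¹ =
        ι ⟨((α t : ↥(pre ι N)) : Ω), pre_le (α t).2⟩ := by
      intro t
      rw [hαn' t]
      have h1 : n * ι ⟨t, pre_le t.2⟩ * n⁻¹ ∈ (R : Subgroup G) ⊓ N :=
        hnK _ ⟨hιR _, hTN' _ t.2⟩
      have h2 := (Subgroup.mem_centralizer_iff.mp hdC) _ h1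
      calc d * n * ι ⟨t, pre_le t.2⟩ * (d * n)⁻¹
          = d * (n * ι ⟨t, pre_le t.2⟩ * n⁻¹) * d⁻¹ := by group
        _ = (n * ι ⟨t, pre_le t.2⟩ * n⁻¹) * d * d⁻¹ := by rw [h2]
        _ = n * ι ⟨t, pre_le t.2⟩ * n⁻¹ := by group
    have hL1 : ∀ c (hc : c ∈ centralizerIn S (pre ι N)),
        ι ⟨c, hc.1⟩ ∈ centralizerIn (R : Subgroup G) ((R : Subgroup G) ⊓ N) := by
      intro c hc
      have hc2 : c ∈ Subgroup.centralizer ((pre ι N : Subgroup Ω) : Set Ω) := hc.2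
      have hcS : c ∈ S := hc.1
      suffices h : ι ⟨c, hcS⟩ ∈
          Subgroup.centralizer ((((R : Subgroup G) ⊓ N : Subgroup G)) : Set G) from ⟨hιR _, h⟩
      rw [Subgroup.mem_centralizer_iff]
      rintro k ⟨hkR, hkN⟩
      obtain ⟨t, ht, rfl⟩ := hK k hkR hkN
      have h1 := (Subgroup.mem_centralizer_iff.mp hc2) t ht
      rw [← map_mul, ← map_mul]
      congr 1
      exact Subtype.ext h1
    have hL2 : ∀ (y : S),
        ι y ∈ Subgroup.centralizer ((((R : Subgroup G) ⊓ N : Subgroup G)) : Set G) →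
        (y : Ω) ∈ Subgroup.centralizer ((pre ι N : Subgroup Ω) : Set Ω) := by
      intro y hy
      rw [Subgroup.mem_centralizer_iff]
      intro t ht
      have h1 := (Subgroup.mem_centralizer_iff.mp hy) (ι ⟨t, pre_le ht⟩) ⟨hιR _, hTN' t ht⟩
      rw [← map_mul, ← map_mul] at h1
      exact congrArg Subtype.val (hinj h1)
    set W := pre ι N ⊔ centralizerIn S (pre ι N) with hW
    have hWS : W ≤ S := sup_le pre_le inf_le_left
    have hdecomp : ∀ w ∈ W, ∃ c ∈ centralizerIn S (pre ι N), ∃ t ∈ pre ι N, c * t = w := by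
      intro w hw
      have hw' : w ∈ centralizerIn S (pre ι N) ⊔ pre ι N := by rw [sup_comm]; exact hw
      exact Cfsg.Agent.Lib.Helper86.GroupAux.exists_mul_of_mem_sup
        (inf_le_right.trans (Subgroup.centralizer_le_normalizer _)) hw'
    have hmC : ∀ c (hc : c ∈ centralizerIn S (pre ι N)), (d * n) * ι ⟨c, hc.1⟩ * (d * n)⁻¹ ∈
        centralizerIn (R : Subgroup G) ((R : Subgroup G) ⊓ N) := fun c hc => hdc _ (hL1 c hc)
    have hβ : ∀ w : W, (d * n) * ι ⟨w, hWS w.2⟩ * (d * n)⁻¹ ∈ ι.range := by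
      intro w
      obtain ⟨c, hc, t, ht, hct⟩ := hdecomp w w.2
      have e : (⟨w, hWS w.2⟩ : S) = ⟨c, hc.1⟩ * ⟨t, pre_le ht⟩ := Subtype.ext hct.symm
      rw [e, map_mul]
      have e2 : d * n * (ι ⟨c, hc.1⟩ * ι ⟨t, pre_le ht⟩) * (d * n)⁻¹ =
          (d * n * ι ⟨c, hc.1⟩ * (d * n)⁻¹) * (d * n * ι ⟨t, pre_le ht⟩ * (d * n)⁻¹) := by
        group
      rw [e2, ← hR]
      refine Subgroup.mul_mem _ (hmC c hc).1 ?_
      rw [hmT ⟨t, ht⟩]
      exact hιR _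
    obtain ⟨β₀, hβ₀⟩ : ∃ β₀ : W →* Ω, β₀ = H85.pullConj ι hinj hWS (d * n) hβ := ⟨_, rfl⟩
    have hβ₀F : β₀ ∈ F.Hom W := by
      rw [hβ₀]
      exact H85.pullConj_mem F ι hreal hWS (d * n) hβ
    have hβ₀S : ∀ w : W, β₀ w ∈ S := by
      rw [hβ₀]
      exact H85.pullConj_mem_S ι hinj hWS (d * n) hβ
    have hβ₀ι : ∀ w : W, ι ⟨β₀ w, hβ₀S w⟩ = (d * n) * ι ⟨w, hWS w.2⟩ * (d * n)⁻¹ := by
      subst hβ₀
      exact H85.ι_pullConj ι hinj hWS (d * n) hβ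
    have hβ₀T : ∀ (t : ↥(pre ι N)) (ht : (t : Ω) ∈ W),
        β₀ ⟨t, ht⟩ = ((α t : ↥(pre ι N)) : Ω) := by
      intro t ht
      have e : (⟨β₀ ⟨t, ht⟩, hβ₀S _⟩ : S) = ⟨((α t : ↥(pre ι N)) : Ω), pre_le (α t).2⟩ := by
        apply hinj
        rw [hβ₀ι, ← hmT t]
      exact congrArg Subtype.val e
    have hβ₀C : ∀ (c : Ω) (_ : c ∈ centralizerIn S (pre ι N)) (hcW : c ∈ W),
        β₀ ⟨c, hcW⟩ ∈ centralizerIn S (pre ι N) := by
      intro c hc hcW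
      refine ⟨hβ₀S _, ?_⟩
      apply hL2 ⟨β₀ ⟨c, hcW⟩, hβ₀S _⟩
      rw [hβ₀ι]
      exact (hmC c hc).2
    have hβ₀W : ∀ w : W, β₀ w ∈ W := by
      intro w
      obtain ⟨c, hc, t, ht, hct⟩ := hdecomp w w.2
      have hcW : c ∈ W := Subgroup.mem_sup_right hc
      have htW : t ∈ W := Subgroup.mem_sup_left ht
      have e : w = ⟨c, hcW⟩ * ⟨t, htW⟩ := Subtype.ext hct.symm
      rw [e, map_mul]
      refine Subgroup.mul_mem _ (Subgroup.mem_sup_right (hβ₀C c hc hcW))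
        (Subgroup.mem_sup_left ?_)
      rw [hβ₀T ⟨t, ht⟩ htW]
      exact (α ⟨t, ht⟩).2
    have hfinW : Finite ↥W :=
      Finite.of_injective (Subgroup.inclusion hWS) (Subgroup.inclusion_injective _)
    have hβ₀r := Cfsg.Agent.Lib.Helper88.FSBase.range_eq_of_finite F hβ₀F hβ₀W
    obtain ⟨β, hβmem, hβx⟩ := Cfsg.Agent.Lib.Helper88.FSBase.exists_aut_of_mem F hβ₀F hβ₀r
    refine ⟨β, hβmem, fun x => ?_, fun c hc => ?_⟩
    · rw [hβx]
      exact hβ₀T x _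
    · rw [hβx]
      have hcC := hβ₀C c hc c.2
      refine ⟨mem_pre.mpr ⟨S.mul_mem (S.inv_mem hc.1) hcC.1, ?_⟩, ?_⟩
      · have e : (⟨(c : Ω)⁻¹ * β₀ c, S.mul_mem (S.inv_mem hc.1) hcC.1⟩ : S) =
            (⟨c, hc.1⟩ : S)⁻¹ * ⟨β₀ c, hβ₀S c⟩ := rfl
        rw [e, map_mul, map_inv, hβ₀ι]
        have e2 : (ι ⟨c, hc.1⟩)⁻¹ * (d * n * ι ⟨c, hWS c.2⟩ * (d * n)⁻¹) =
            ((ι ⟨c, hc.1⟩)⁻¹ * (d * n) * (ι ⟨c, hc.1⟩)⁻¹⁻¹) * (d * n)⁻¹ := by group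
        rw [e2]
        exact N.mul_mem (hN.conj_mem _ hmN _) (N.inv_mem hmN)
      · exact Subgroup.mul_mem _ (Subgroup.inv_mem _ hc.2) hcC.2

/-! ### Passing to a quotient by a normal `p'`-subgroup, and to a normal subgroup -/

theorem realized_quotient [Finite G] {p : ℕ} [Fact p.Prime] (F : FusionSystem S)
    (ι : S →* G) (hreal : F.IsRealizedBy ι) (R : Sylow p G)
    (hR : (R : Subgroup G) = ι.range) (N : Subgroup G) [hN : N.Normal] (hbot : pre ι N = ⊥) :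
    F.IsRealizedBy ((QuotientGroup.mk' N).comp ι) ∧
      ∃ T : Sylow p (G ⧸ N), (T : Subgroup (G ⧸ N)) = ((QuotientGroup.mk' N).comp ι).range := by
  have hinj := hreal.1
  have hιR : ∀ s : S, ι s ∈ (R : Subgroup G) := fun s => by rw [hR]; exact ⟨s, rfl⟩
  have hRN : ∀ d ∈ (R : Subgroup G), d ∈ N → d = 1 := by
    intro d hdR hdN
    rw [hR] at hdR
    obtain ⟨s, rfl⟩ := hdR
    have h1 : (s : Ω) ∈ pre ι N := mem_pre.mpr ⟨s.2, hdN⟩
    rw [hbot, Subgroup.mem_bot] at h1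
    have hs : s = 1 := Subtype.ext h1
    rw [hs, map_one]
  have hsyl : IsSylIn p ((R : Subgroup G) ⊓ N) N :=
    S5118.sylIn_inf_normal (isSylIn_of_sylow R le_top) le_top
      (by rw [Subgroup.normalizer_eq_top])
  have hRNbot : (R : Subgroup G) ⊓ N = ⊥ := by
    rw [eq_bot_iff]
    rintro d ⟨h1, h2⟩
    exact Subgroup.mem_bot.mpr (hRN d h1 h2)
  have hpN : ¬ p ∣ Nat.card N := by
    have h1 := hsyl.2.2
    rwa [hRNbot, Subgroup.relIndex_bot_left] at h1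
  refine ⟨⟨?_, fun P hP φ hφ => ⟨?_, ?_⟩⟩, ?_⟩
  · intro a b hab
    have h1 : ((ι a : G) : G ⧸ N) = ((ι b : G) : G ⧸ N) := hab
    have h2 : (ι a)⁻¹ * ι b ∈ N := QuotientGroup.eq.mp h1
    have h3 : (ι a)⁻¹ * ι b = 1 :=
      hRN _ (Subgroup.mul_mem _ (Subgroup.inv_mem _ (hιR a)) (hιR b)) h2
    apply hinj
    exact inv_mul_eq_one.mp h3
  · intro hφF
    obtain ⟨g, hg⟩ := (hreal.2 P hP φ hφ).mp hφF
    refine ⟨(QuotientGroup.mk' N) g, fun x => ?_⟩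
    show (QuotientGroup.mk' N) (ι ⟨φ x, hφ x⟩) = _
    rw [hg x, map_mul, map_mul, map_inv]
    rfl
  · rintro ⟨gbar, hg⟩
    obtain ⟨g, rfl⟩ := QuotientGroup.mk'_surjective N gbar
    have hgN : ∀ x : P, (ι ⟨φ x, hφ x⟩)⁻¹ * (g * ι ⟨x, hP x.2⟩ * g⁻¹) ∈ N := by
      intro x
      apply QuotientGroup.eq.mp
      exact hg x
    -- the images of `P` and of `φ(P)`
    let ιP : P →* G := ι.comp (Subgroup.inclusion hP)
    let ιφ : P →* G := ι.comp (φ.codRestrict S hφ)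
    have hQR : ιφ.range ≤ (R : Subgroup G) := by
      rintro _ ⟨x, rfl⟩
      exact hιR _
    have hPR : ιP.range ≤ (R : Subgroup G) := by
      rintro _ ⟨x, rfl⟩
      exact hιR _
    have hQN : ιφ.range ⊓ N = ⊥ := by
      rw [eq_bot_iff]
      rintro d ⟨h1, h2⟩
      exact Subgroup.mem_bot.mpr (hRN d (hQR h1) h2)
    have hidx : ιφ.range.relIndex (ιφ.range ⊔ N) = Nat.card N := by
      have e1 := Subgroup.relIndex_mul_relIndex (⊥ : Subgroup G) ιφ.range (ιφ.range ⊔ N)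
        bot_le le_sup_left
      have e2 := Subgroup.relIndex_mul_relIndex (⊥ : Subgroup G) N (ιφ.range ⊔ N)
        bot_le le_sup_right
      have e3 : N.relIndex (ιφ.range ⊔ N) = Nat.card ιφ.range := by
        rw [Subgroup.relIndex_sup_right, ← Subgroup.inf_relIndex_left, hQN,
          Subgroup.relIndex_bot_left]
      rw [Subgroup.relIndex_bot_left] at e1 e2
      rw [e3, ← e1] at e2
      have hpos : 0 < Nat.card ιφ.range := Nat.card_pos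
      have e4 : Nat.card ιφ.range * Nat.card N =
          Nat.card ιφ.range * ιφ.range.relIndex (ιφ.range ⊔ N) := by
        rw [← e2, mul_comm]
      exact (Nat.eq_of_mul_eq_mul_left hpos e4).symm
    have hsylQ : IsSylIn p ιφ.range (ιφ.range ⊔ N) :=
      ⟨le_sup_left, R.2.to_le hQR, by rw [hidx]; exact hpN⟩
    have hU : ιP.range.map (MulAut.conj g).toMonoidHom ≤ ιφ.range ⊔ N := by
      rintro _ ⟨_, ⟨x, rfl⟩, rfl⟩
      show g * ι ⟨x, hP x.2⟩ * g⁻¹ ∈ _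
      have e : g * ι ⟨x, hP x.2⟩ * g⁻¹ =
          ι ⟨φ x, hφ x⟩ * ((ι ⟨φ x, hφ x⟩)⁻¹ * (g * ι ⟨x, hP x.2⟩ * g⁻¹)) := by group
      rw [e]
      exact Subgroup.mul_mem _ (Subgroup.mem_sup_left ⟨x, rfl⟩) (Subgroup.mem_sup_right (hgN x))
    obtain ⟨m, hm, hmU⟩ := hsylQ.exists_cj_le hU (isPGroup_cj g (R.2.to_le hPR))
    obtain ⟨q, hq, n₀, hn₀, rfl⟩ := Cfsg.Agent.Lib.Helper86.GroupAux.exists_mul_of_mem_sup
      (show ιφ.range ≤ Subgroup.normalizer (N : Set G) by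
        rw [Subgroup.normalizer_eq_top]; exact le_top) hm
    have hconj : ∀ x : P, n₀ * g * ι ⟨x, hP x.2⟩ * (n₀ * g)⁻¹ ∈ ιφ.range := by
      intro x
      have h1 : q * n₀ * (g * ι ⟨x, hP x.2⟩ * g⁻¹) * (q * n₀)⁻¹ ∈ ιφ.range :=
        hmU (conj_mem_cj (conj_mem_cj ⟨x, rfl⟩))
      have e : n₀ * g * ι ⟨x, hP x.2⟩ * (n₀ * g)⁻¹ =
          q⁻¹ * (q * n₀ * (g * ι ⟨x, hP x.2⟩ * g⁻¹) * (q * n₀)⁻¹) * q := by group
      rw [e]
      exact Subgroup.mul_mem _ (Subgroup.mul_mem _ (Subgroup.inv_mem _ hq) h1) hq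
    refine (hreal.2 P hP φ hφ).mpr ⟨n₀ * g, fun x => ?_⟩
    have h1 : (ι ⟨φ x, hφ x⟩)⁻¹ * (n₀ * g * ι ⟨x, hP x.2⟩ * (n₀ * g)⁻¹) ∈ N := by
      have e : (ι ⟨φ x, hφ x⟩)⁻¹ * (n₀ * g * ι ⟨x, hP x.2⟩ * (n₀ * g)⁻¹) =
          ((ι ⟨φ x, hφ x⟩)⁻¹ * n₀ * (ι ⟨φ x, hφ x⟩)⁻¹⁻¹) *
            ((ι ⟨φ x, hφ x⟩)⁻¹ * (g * ι ⟨x, hP x.2⟩ * g⁻¹)) * n₀⁻¹ := by group
      rw [e]
      exact N.mul_mem (N.mul_mem (hN.conj_mem _ hn₀ _) (hgN x)) (N.inv_mem hn₀)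
    have h2 : (ι ⟨φ x, hφ x⟩)⁻¹ * (n₀ * g * ι ⟨x, hP x.2⟩ * (n₀ * g)⁻¹) = 1 :=
      hRN _ (Subgroup.mul_mem _ (Subgroup.inv_mem _ (hιR _)) (hQR (hconj x))) h1
    exact inv_mul_eq_one.mp h2
  · refine ⟨R.mapSurjective (QuotientGroup.mk'_surjective N), ?_⟩
    rw [Sylow.coe_mapSurjective, MonoidHom.range_comp, ← hR]

theorem realized_subgroup [Finite G] {p : ℕ} [Fact p.Prime] (F : FusionSystem S)
    (ι : S →* G) (hreal : F.IsRealizedBy ι) (R : Sylow p G)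
    (hR : (R : Subgroup G) = ι.range) (N : Subgroup G) [hN : N.Normal] (htop : pre ι N = S)
    (hHom : ∀ P : Subgroup Ω, (subSys F ι N).Hom P = F.Hom P) :
    ∃ ι' : S →* ↥N, F.IsRealizedBy ι' ∧ ∃ T : Sylow p ↥N, (T : Subgroup ↥N) = ι'.range := by
  have hSN : ∀ s : S, ι s ∈ N := fun s => by
    have h1 : (s : Ω) ∈ pre ι N := by rw [htop]; exact s.2
    exact map_mem_of_mem_pre h1 s.2
  refine ⟨ι.codRestrict N hSN, ⟨?_, fun P hP φ hφ => ⟨?_, ?_⟩⟩, ?_⟩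
  · intro a b hab
    exact hreal.1 (congrArg Subtype.val hab)
  · intro hφF
    rw [← hHom P] at hφF
    obtain ⟨-, -, -, n, hn, h⟩ := hφF
    exact ⟨⟨n, hn⟩, fun x => Subtype.ext (h x _ _)⟩
  · rintro ⟨g, hg⟩
    exact (hreal.2 P hP φ hφ).mpr ⟨g, fun x => congrArg Subtype.val (hg x)⟩
  · obtain ⟨TN, hTN⟩ := exists_sylow_N ι R hR N
    refine ⟨TN, ?_⟩
    rw [hTN]
    ext y
    constructor
    · rintro ⟨x, rfl⟩
      exact ⟨⟨x, pre_le x.2⟩, rfl⟩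
    · rintro ⟨s, rfl⟩
      exact ⟨⟨s, by rw [htop]; exact s.2⟩, rfl⟩

/-! ### A realizing group of least order is simple -/

theorem main_aux [Finite S] (p : ℕ) [Fact p.Prime] (F : FusionSystem S)
    (hsimple : F.IsSimple p) :
    ∀ (n : ℕ) (G : Type u) [Group G] [Finite G] (ι : S →* G), Nat.card G = n →
      F.IsRealizedBy ι → (∃ T : Sylow p G, (T : Subgroup G) = ι.range) →
      ∃ (G' : Type u) (_ : Group G') (_ : Finite G') (_ : IsSimpleGroup G') (ι' : S →* G'),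
        F.IsRealizedBy ι' ∧ ∃ T : Sylow p G', (T : Subgroup G') = ι'.range := by
  intro n
  induction n using Nat.strong_induction_on with
  | _ n ih =>
    intro G _ _ ι hn hreal hsyl
    obtain ⟨R, hR⟩ := hsyl
    by_cases hs : IsSimpleGroup G
    · exact ⟨G, inferInstance, inferInstance, hs, ι, hreal, R, hR⟩
    · have hnt : Nontrivial G := by
        obtain ⟨s, hs1⟩ := (Subgroup.ne_bot_iff_exists_ne_one).mp hsimple.2.1
        exact ⟨⟨ι s, 1, fun h => hs1 (hreal.1 (h.trans (map_one ι).symm))⟩⟩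
      obtain ⟨N, hNn, hNbot, hNtop⟩ : ∃ N : Subgroup G, N.Normal ∧ N ≠ ⊥ ∧ N ≠ ⊤ := by
        by_contra hcon
        push Not at hcon
        exact hs ⟨fun H hH => by
          by_cases h : H = ⊥
          · exact Or.inl h
          · exact Or.inr (hcon H hH h)⟩
      have hE := subSys_normal F hsimple.1 ι hreal R hR N
      rcases hsimple.2.2 (pre ι N) (subSys F ι N) hE with h | ⟨h1, h2⟩
      · obtain ⟨hq1, hq2⟩ := realized_quotient F ι hreal R hR N h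
        refine ih (Nat.card (G ⧸ N)) ?_ (G ⧸ N) ((QuotientGroup.mk' N).comp ι) rfl hq1 hq2
        rw [← hn, Subgroup.card_eq_card_quotient_mul_card_subgroup N]
        have h1 : 1 < Nat.card N := (Subgroup.one_lt_card_iff_ne_bot N).mpr hNbot
        have h0 : 0 < Nat.card (G ⧸ N) := Nat.card_pos
        nlinarith
      · obtain ⟨ι', hr, hs'⟩ := realized_subgroup F ι hreal R hR N h1 h2
        refine ih (Nat.card N) ?_ ↥N ι' rfl hr hs'
        rw [← hn]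
        exact lt_of_le_of_ne (Subgroup.card_le_card_group N)
          (fun h => hNtop ((Subgroup.card_eq_iff_eq_top N).mp h))

/-- Let F be a simple saturated fusion system over a finite p-group S that is realized by some finite group on a Sylow p-subgroup. Then F is realized by a finite simple group on a Sylow p-subgroup. -/
theorem result {Ω : Type u} [Group Ω] {S : Subgroup Ω} [Finite S] (p : ℕ) [Fact p.Prime] (hS : IsPGroup p S) (F : Cfsg.FusionSystem S) (hsimple : F.IsSimple p) (hreal : F.IsRealizable p) : ∃ (G : Type u) (_ : Group G) (_ : Finite G) (_ : IsSimpleGroup G) (ι : ↥S →* G), F.IsRealizedBy ι ∧ ∃ T : Sylow p G, (T : Subgroup G) = ι.range := by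
  obtain ⟨G, hG, hfin, ι, hr, hs⟩ := hreal
  exact main_aux p F hsimple (Nat.card G) G ι rfl hr hs

end Cfsg.Agent.S5343
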