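import Cfsg.Statements.S5365
import Cfsg.Agent.Lib.Helper52.TT3Basic
import Cfsg.Agent.Lib.Helper52.TT3S5
import Cfsg.Agent.Lib.Helper52.TT3A

set_option autoImplicit false
open Cfsg

namespace Cfsg.Agent.S5365

/-- Let D be a non-empty conjugation-invariant set of involutions of a finite group G satisfying the 3-transposition order conditions, and suppose that for every d in D the members of D other than d commuting with d generate a subgroup isomorphic to the symmetric group of degree 3, and the largest normal 3-subgroup of the centralizer of d has order 3. Then the subgroup generated by D is isomorphic to the symmetric group of degree 5 or to the direct product of two symmetric groups of degree 3. -/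
theorem result {G : Type*} [Group G] [Finite G] {D : Set G} (hD : Cfsg.IsThreeTranspositionSet D) (hconj : ∀ g : G, ∀ d ∈ D, g * d * g⁻¹ ∈ D) (hne : D.Nonempty) (hloc : ∀ d ∈ D, Nonempty (↥(Subgroup.closure {y : G | y ∈ D ∧ y ≠ d ∧ Commute d y}) ≃* Equiv.Perm (Fin 3)) ∧ Nat.card (Cfsg.pCore 3 ↥(Subgroup.centralizer ({d} : Set G))) = 3) : Nonempty (↥(Subgroup.closure D) ≃* Equiv.Perm (Fin 5)) ∨ Nonempty (↥(Subgroup.closure D) ≃* Equiv.Perm (Fin 3) × Equiv.Perm (Fin 3)) := by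
  have hL : Cfsg.Agent.Lib.Helper52.TT3Basic.Loc D := fun d hd => (hloc d hd).1
  obtain ⟨d, hd⟩ := hne
  obtain ⟨a, b, ha, hb, hab⟩ := Cfsg.Agent.Lib.Helper52.TT3Basic.Pt_exists_pair hL hd
  have hdPa : d ∈ Cfsg.Agent.Lib.Helper21.W3Class.Pt D a :=
    Cfsg.Agent.Lib.Helper52.TT3Basic.Pt_symm hd ha
  obtain ⟨u, v, hu, hv, huv⟩ := Cfsg.Agent.Lib.Helper52.TT3Basic.Pt_exists_pair hL ha.1
  obtain ⟨x, hx, hxd⟩ : ∃ x, x ∈ Cfsg.Agent.Lib.Helper21.W3Class.Pt D a ∧ x ≠ d := by
    by_cases h : u = d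
    · refine ⟨v, hv, ?_⟩
      intro h'
      apply huv
      rw [h, h']
    · exact ⟨u, hu, h⟩
  by_cases hxb : Commute x b
  · right
    exact Cfsg.Agent.Lib.Helper52.TT3A.caseA hD hL hconj hd ha hb hab hx hxd hxb (hloc d hd).2
  · left
    have hd2 := Cfsg.Agent.Lib.Helper21.W3Apps.tt_sq hD hd
    have hx2 := Cfsg.Agent.Lib.Helper21.W3Apps.tt_sq hD hx.1
    have hb2 := Cfsg.Agent.Lib.Helper21.W3Apps.tt_sq hD hb.1
    have ha2 := Cfsg.Agent.Lib.Helper21.W3Apps.tt_sq hD ha.1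
    have hdx : ¬ Commute d x :=
      Cfsg.Agent.Lib.Helper52.TT3Basic.Pt_noncomm hD hL ha.1 hdPa hx (fun h => hxd h.symm)
    obtain ⟨φ, h0, h1, h2, h3⟩ := Cfsg.Agent.Lib.Helper52.TT3S5.exists_hom5 d x b a hd2 hx2 hb2 ha2
      (Cfsg.Agent.Lib.Helper52.TT3Basic.cube_of_not_comm hD hd hx.1 hdx)
      (Cfsg.Agent.Lib.Helper52.TT3Basic.cube_of_not_comm hD hx.1 hb.1 hxb)
      (Cfsg.Agent.Lib.Helper52.TT3Basic.cube_of_not_comm hD hb.1 ha.1 (fun h => hab h.symm))
      hb.2.2 ha.2.2 hx.2.2.symm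
    have hinj : Function.Injective φ := by
      apply Cfsg.Agent.Lib.Helper52.TT3S5.inj5 φ
      rw [h0, h1]
      intro h
      apply hdx
      rw [h]
    exact Cfsg.Agent.Lib.Helper52.TT3S5.iso5 hD hL hconj φ hinj (by rw [h0]; exact hd)

end Cfsg.Agent.S5365
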