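import Cfsg.Statements.S5403
import Cfsg.Agent.Lib.Helper27.JzMain
import Cfsg.Agent.Lib.Helper27.JzCENT
import Cfsg.Agent.Lib.Helper97.OzOHOM
import Cfsg.Agent.Lib.Helper29.OzGENO
import Cfsg.Agent.Lib.Helper50.OzOFACTS
import Cfsg.Agent.Lib.Helper93.OzRANGE
import Cfsg.Agent.Lib.Helper93.OzKER
import Cfsg.Agent.Lib.Helper99.OzNONCEN
import Cfsg.Agent.Lib.Helper86.CzK1STR
import Cfsg.Agent.Lib.Helper69.CzK1XS
import Cfsg.Agent.Lib.Helper93.JzCK
import Cfsg.Agent.Lib.Helper90.JzCNT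
import Cfsg.Agent.Lib.Helper58.JzXS5
import Cfsg.Agent.Lib.Helper93.JzFSTAR2
import Cfsg.Agent.Lib.Helper93.JzGLOC2
import Cfsg.Agent.Lib.Helper90.JzSA
import Cfsg.Agent.Lib.Helper20.JzSB
import Cfsg.Agent.Lib.Helper92.JzSC
import Cfsg.Agent.Lib.Helper90.JzSL
import Cfsg.Agent.Lib.Helper92.JzSD
import Cfsg.Agent.Lib.Helper90.JzSIMPLE
import Cfsg.Agent.Lib.Helper66.JzSMALL
import Cfsg.Agent.Lib.Helper93.JzSQ
import Cfsg.Agent.Lib.Helper2.JzSISO
import Cfsg.Agent.Lib.Helper2.JzSWIT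
import Cfsg.Agent.Lib.Helper5.JzRECOG
import Cfsg.Agent.Lib.Helper43.JzOM4
import Cfsg.Agent.Lib.Helper24.JzA5M
import Cfsg.Agent.Lib.Helper66.JzGLOC1
import Cfsg.Agent.Lib.Helper5.JzGLOC3
import Cfsg.Agent.Lib.Helper24.JzFINAL

set_option autoImplicit false
open Cfsg

namespace Cfsg.Agent.S5403

/-- A simple section of the automorphism group of the Leech lattice satisfying the Hall–Janko-type hypothesis (the group so obtained is the Hall–Janko group; that identification is not part of this statement): there is a subgroup A of order 5 of that automorphism group such that the centralizer of A modulo the subgroup generated by A and the centre of the automorphism group is a non-abelian simple group satisfying the large extraspecial hypothesis of minus type in dimension 4 — an involution whose centralizer has extraspecial generalized Fitting subgroup of order 32 with quotient the commutator subgroup of the isometry group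 of the elliptic quadratic form in dimension 4 over the field with two elements (the alternating group of degree 5), the involution not weakly closed in that extraspecial group. -/
theorem result : ∃ A : Subgroup ↥Cfsg.Co0, Nat.card A = 5 ∧ ∃ (hn : ((A ⊔ Subgroup.center ↥Cfsg.Co0).subgroupOf (Subgroup.centralizer (A : Set ↥Cfsg.Co0))).Normal), ∃ (S : Type) (_ : Group S) (_ : Finite S), Nonempty (S ≃* ↥(Subgroup.centralizer (A : Set ↥Cfsg.Co0)) ⧸ (A ⊔ Subgroup.center ↥Cfsg.Co0).subgroupOf (Subgroup.centralizer (A : Set ↥Cfsg.Co0))) ∧ IsSimpleGroup S ∧ ¬ IsMulCommutative S ∧ ∃ z : S, orderOf z = 2 ∧ ∃ (Q : Subgroup (Subgroup.centralizer ({z} : Set S))) (_ : Q.Normal), Cfsg.generalizedFittingSubgroup (Subgroup.centralizer ({z} : Set S)) = Q ∧ Cfsg.IsExtraspecial 2 Q ∧ Nat.card Q = 2 ^ 5 ∧ Nonempty ((Subgroup.centralizer ({z} : Set S)) ⧸ Q ≃* Cfsg.Omega (ZMod 2) (Cfsg.quadFormMinus 1 (ZMod 2) 1 1)) ∧ ∃ g : S, (∃ hq :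 g * z * g⁻¹ ∈ Subgroup.centralizer ({z} : Set S), (⟨g * z * g⁻¹, hq⟩ : Subgroup.centralizer ({z} : Set S)) ∈ Q) ∧ g * z * g⁻¹ ≠ z := by
  obtain ⟨K, φ, hd⟩ := Cfsg.Agent.Lib.Helper27.JzMain.jdata Cfsg.Agent.Lib.Helper97.OzOHOM.main
    Cfsg.Agent.Lib.Helper29.OzGENO.main Cfsg.Agent.Lib.Helper50.OzOFACTS.main
    Cfsg.Agent.Lib.Helper93.OzRANGE.main Cfsg.Agent.Lib.Helper93.OzKER.main
    Cfsg.Agent.Lib.Helper99.OzNONCEN.main Cfsg.Agent.Lib.Helper86.CzK1STR.main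
    Cfsg.Agent.Lib.Helper69.CzK1XS.main
  have hA5M : Cfsg.Agent.Lib.Helper27.JzStmt.A5M :=
    Cfsg.Agent.Lib.Helper24.JzA5M.main Cfsg.Agent.Lib.Helper27.JzCENT.main
      (Cfsg.Agent.Lib.Helper5.JzRECOG.main Cfsg.Agent.Lib.Helper66.JzSMALL.main)
  have hGL1 : Cfsg.Agent.Lib.Helper27.JzStmt.GLoc1 :=
    Cfsg.Agent.Lib.Helper66.JzGLOC1.main
      (Cfsg.Agent.Lib.Helper93.JzCK.main Cfsg.Agent.Lib.Helper50.OzOFACTS.main)
      Cfsg.Agent.Lib.Helper90.JzCNT.main Cfsg.Agent.Lib.Helper58.JzXS5.main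
  have hGL2 : Cfsg.Agent.Lib.Helper27.JzStmt.GLoc2 := Cfsg.Agent.Lib.Helper93.JzGLOC2.main hA5M
  have hSimple : Cfsg.Agent.Lib.Helper27.JzStmt.Simple :=
    Cfsg.Agent.Lib.Helper90.JzSIMPLE.main Cfsg.Agent.Lib.Helper90.JzSA.main
      Cfsg.Agent.Lib.Helper20.JzSB.main Cfsg.Agent.Lib.Helper92.JzSC.main
      (Cfsg.Agent.Lib.Helper92.JzSD.main Cfsg.Agent.Lib.Helper90.JzSL.main)
  exact Cfsg.Agent.Lib.Helper24.JzFINAL.main hGL1 hGL2 Cfsg.Agent.Lib.Helper5.JzGLOC3.main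
    Cfsg.Agent.Lib.Helper93.JzSQ.main Cfsg.Agent.Lib.Helper2.JzSISO.main
    Cfsg.Agent.Lib.Helper2.JzSWIT.main Cfsg.Agent.Lib.Helper93.JzFSTAR2.main hSimple
    Cfsg.Agent.Lib.Helper43.JzOM4.main _ _ _ _ K φ hd

end Cfsg.Agent.S5403
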