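import Cfsg.Statements.S5522
import Cfsg.Agent.Lib.Helper86.M11Elus

set_option autoImplicit false
open Cfsg

namespace Cfsg.Agent.S5522

/-- The Mathieu group M₁₁, realised as the stabiliser of one point of the dodecad of squares inside the stabiliser M₁₂ of that dodecad in M₂₄, acts on the twelve coordinate positions outside the dodecad of squares (its 3-transitive action of degree 12); in this action every element of prime order fixes a point, i.e. the action is elusive. -/
theorem result (g : Equiv.Perm Cfsg.GolayPt) (hg : g ∈ Cfsg.Spor.M11) (hord : (orderOf g).Prime) :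
    ∃ x : Cfsg.GolayPt, x ∉ Cfsg.Spor.squareDodecad ∧ g x = x := by
  have hdvd : orderOf g ∣ 2 ^ 4 * 3 ^ 2 * 5 * 11 := by
    have h1 : orderOf (⟨g, hg⟩ : Cfsg.Spor.M11) ∣ Nat.card Cfsg.Spor.M11 := orderOf_dvd_natCard _
    rw [Subgroup.orderOf_mk, Cfsg.Agent.Lib.Helper86.M11Core.card_M11] at h1
    exact h1
  have hp : orderOf g = 2 ∨ orderOf g = 3 ∨ orderOf g = 5 ∨ orderOf g = 11 := by
    rcases (Nat.Prime.dvd_mul hord).mp hdvd with h | h
    · rcases (Nat.Prime.dvd_mul hord).mp h with h | h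
      · rcases (Nat.Prime.dvd_mul hord).mp h with h | h
        · left
          exact (Nat.prime_dvd_prime_iff_eq hord (by norm_num)).mp (hord.dvd_of_dvd_pow h)
        · right; left
          exact (Nat.prime_dvd_prime_iff_eq hord (by norm_num)).mp (hord.dvd_of_dvd_pow h)
      · right; right; left
        exact (Nat.prime_dvd_prime_iff_eq hord (by norm_num)).mp h
    · right; right; right
      exact (Nat.prime_dvd_prime_iff_eq hord (by norm_num)).mp h
  rcases hp with h | h | h | h
  · have : Fact (Nat.Prime 2) := ⟨by norm_num⟩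
    refine Cfsg.Agent.Lib.Helper86.M11Elus.fixed_of_enum 2 Cfsg.Agent.Lib.Helper86.M11SylP.hE2
      Cfsg.Agent.Lib.Helper86.M11SylP.grpLe2 ?_ (by decide +kernel) hg h
    rw [Cfsg.Agent.Lib.Helper86.SylowSimple.factorization_of_card 2 4 495 7920 (by norm_num)
      (by norm_num)]
    rfl
  · have : Fact (Nat.Prime 3) := ⟨by norm_num⟩
    refine Cfsg.Agent.Lib.Helper86.M11Elus.fixed_of_enum 3 Cfsg.Agent.Lib.Helper86.M11SylP.hE3
      Cfsg.Agent.Lib.Helper86.M11SylP.grpLe3 ?_ (by decide +kernel) hg h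
    rw [Cfsg.Agent.Lib.Helper86.SylowSimple.factorization_of_card 3 2 880 7920 (by norm_num)
      (by norm_num)]
    rfl
  · have : Fact (Nat.Prime 5) := ⟨by norm_num⟩
    refine Cfsg.Agent.Lib.Helper86.M11Elus.fixed_of_enum 5 Cfsg.Agent.Lib.Helper86.M11SylP.hE5
      Cfsg.Agent.Lib.Helper86.M11SylP.grpLe5 ?_ (by decide +kernel) hg h
    rw [Cfsg.Agent.Lib.Helper86.SylowSimple.factorization_of_card 5 1 1584 7920 (by norm_num)
      (by norm_num)]
    rfl
  · have : Fact (Nat.Prime 11) := ⟨by norm_num⟩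
    refine Cfsg.Agent.Lib.Helper86.M11Elus.fixed_of_enum 11 Cfsg.Agent.Lib.Helper86.M11SylP.hE11
      Cfsg.Agent.Lib.Helper86.M11SylP.grpLe11 ?_ (by decide +kernel) hg h
    rw [Cfsg.Agent.Lib.Helper86.SylowSimple.factorization_of_card 11 1 720 7920 (by norm_num)
      (by norm_num)]
    rfl

end Cfsg.Agent.S5522
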