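-- Statement S5615: an octad lies in 15 trios; 2-transitivity of its stabiliser on them; kernel
import Cfsg.Statements.S5615
import Cfsg.Agent.Lib.Helper93.OrbOct
import Cfsg.Agent.S5610
import Cfsg.Agent.Lib.Helper93.Rigid
set_option autoImplicit false
open scoped Pointwise
open Cfsg

namespace Cfsg.Agent.S5615

open Cfsg.Agent.Lib.Helper27.Bits Cfsg.Agent.Lib.Helper27.Golay Cfsg.Agent.Lib.Helper27.M24
  Cfsg.Agent.Lib.Helper27.Cert Cfsg.Agent.Lib.Helper27.Trans Cfsg.Agent.Lib.Helper27.Fast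
  Cfsg.Agent.Lib.Helper93.Fam Cfsg.Agent.Lib.Helper93.Sext Cfsg.Agent.Lib.Helper93.Trio
  Cfsg.Agent.Lib.Helper93.OrbTools Cfsg.Agent.Lib.Helper93.OrbOct
open Cfsg.Agent.Lib.Helper27.Oct Cfsg.Agent.Lib.Helper93.Rigid


/-- generators of the stabiliser of the standard octad and the standard trio through it -/
def GK1 : ℕ := 0xbdab49ca307b9ac5a928398a418820846724d1e575504bb166159a3028275c5cdbdab431503782501266c51c812a13634a0ba4daa881f563ae138c827a2e96ca3329a03702b60ae871118a416f534a137adca882962352119d828ba72b25f7854a7428cd6516320820ba28f83a72b356c88aa50992301c8a74e0b416c98be84ab0cd55e4308807a5aa569a6e4ae078b10f14aea20c014d1f59ba12bb4c38a91602ca2204eca58b583a267c9a39b1090aeea21c02ba6d5849d12ccc458288635e209d434d10f9b9b02ca23592b711ac70a80c4bed5734d34496482ae51c68011c2cbdab49ca307b9ac5a928398a418820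
/-- words for the other 14 trios through the standard octad -/
def WT1 : ℕ := 0x12108060b040311050e0d14020000
/-- the 16 elements fixing the standard octad pointwise -/
def GF : ℕ := 0x2a695835d34464c32acf3aee4188204950f6c0d2a2e6c72af53c6c418820a20b75c6464b5cc9a9f63c2a418820abee5339abb4a2c829093ce8418820835662a5f78a2ccaaa4e3d264188206c22e496b65d2ec7aa663a2441882071a4d7d4a89de8c4a9703da24188209c8cbbd90573d2ca29b13d60418820451368ae6e2c0cc92ab73b5e4188208adb2452ef816acb28d33a5c41882094dd1b5e89354ac42a0b3bda41882033a70abd349590c2aa2d3dd6418820b5de894d6da9a0c8a8b43b924188207d6c971a11bcd6c6aa853c904188205c613a22d56a5ecba9d2394c418820bdab49ca307b9ac5a928398a418820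
/-- the points outside the standard octad -/
def outPt (k : ℕ) : ℕ := tget 0xbdab49ca307b9ab4a0c5 5 k
/-- the rank of a point outside the standard octad -/
def rk (j : ℕ) : ℕ := tget 0x7b9ac5a928398a0200620040000000 5 j

/-- the points of the standard octad and one more point -/
def LA : List ℕ := [1, 2, 4, 8, 16, 128, 1024, 4096, 32, 16777215]
/-- rigidity steps for `LA` -/
def SA : List (ℕ × List (ℕ × ℕ)) := [(46, [(16777215, 8), (2, 1), (4, 1), (8, 1), (4096, 1), (32, 1)]),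
  (57, [(16777215, 8), (2, 0), (4, 0), (8, 1), (16, 1), (128, 0), (1024, 0), (4096, 1), (32, 1)]),
  (171, [(16777215, 8), (2, 1), (4, 0), (8, 1), (16, 0), (128, 1), (1024, 0), (4096, 0), (32, 1)]),
  (47, [(16777215, 8), (2, 1), (4, 1), (8, 1), (16, 0), (128, 0), (1024, 0), (4096, 0), (32, 1)]),
  (58, [(16777215, 8), (2, 1), (8, 1), (16, 1), (4096, 1), (32, 1)]),
  (54, [(16777215, 8), (2, 1), (4, 1), (16, 1), (4096, 1), (32, 1)]),
  (123, [(16777215, 8), (2, 1), (4, 0), (8, 1), (16, 1), (128, 0), (1024, 0), (4096, 0), (32, 1)]),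
  (309, [(16777215, 8), (2, 0), (4, 1), (8, 0), (16, 1), (128, 0), (1024, 0), (4096, 1), (32, 1)]),
  (567, [(16777215, 8), (2, 1), (4, 1), (8, 0), (16, 1), (128, 0), (1024, 0), (4096, 0), (32, 1)])]
/-- the octads through the point 5 in the trios through the standard octad -/
def A15 : List ℕ := [15762208, 1256224, 1852256, 2220640, 3050016, 13443616, 12733024, 12126304, 11952160, 5621792, 5939296, 6750560, 6842656, 9158944, 8694112]
/-- rigidity steps for `5279 :: 32 :: 16777215 :: A15` -/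
def SB : List (ℕ × List (ℕ × ℕ)) := [(1, [(16777215, 8), (3050016, 2), (5939296, 2), (6842656, 2), (8694112, 2), (12733024, 4), (5621792, 4), (6750560, 4), (9158944, 4)]),
  (2, [(16777215, 8), (12733024, 2), (11952160, 2), (6750560, 2), (8694112, 2), (13443616, 4), (5939296, 4), (6842656, 4), (9158944, 4)]),
  (4, [(16777215, 8), (3050016, 2), (6750560, 2), (6842656, 2), (9158944, 2), (13443616, 4), (5621792, 4), (5939296, 4), (8694112, 4)]),
  (8, [(16777215, 8), (12733024, 2), (5621792, 2), (9158944, 2), (8694112, 2), (13443616, 4), (11952160, 4), (6750560, 4), (6842656, 4)]),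
  (16, [(16777215, 8), (12733024, 2), (6750560, 2), (6842656, 2), (8694112, 2), (13443616, 4), (11952160, 4), (5939296, 4), (9158944, 4)]),
  (128, [(16777215, 8), (12733024, 2), (6750560, 2), (6842656, 2), (8694112, 2), (3050016, 4), (11952160, 4), (5621792, 4), (9158944, 4)])]

/-! ### computations -/

theorem h15 : allB 3795 (fun c => (!memB m0 (trioRep c) || Nat.blt c 15) &&
    (!Nat.blt c 15 || memB m0 (trioRep c))) = true := by decide +kernel

theorem n15 : countB 3795 (fun c => true && memB m0 (trioRep c)) = 15 := by decide +kernel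

theorem i15 : allB 15 (fun c => Nat.beq (invL [m0] (trioRep c)) 64) = true := by decide +kernel

theorem gK1a : gensF GK1 [m0] = true := by decide +kernel

theorem gK1b : gensF GK1 (trioRep 0) = true := by decide +kernel

theorem cT1 : certS GK1 2 3795 WT1 8 (fun c => c) (fun _ => [tri 1 0, tri 1 1]) trioRep
    (fun c => Nat.blt c 15 && !Nat.beq c 0) = true := by decide +kernel

/-- lane `k` of `GF` is an element of the group fixing the standard octad pointwise, mapping the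
point 5 to the point `outPt k` and every trio through the standard octad onto itself -/
noncomputable def okF (k : ℕ) : Bool :=
  inM24 (tget GF 120 k) &&
    allB 24 (fun j => !m0.testBit j || Nat.beq (tget (tget GF 120 k) 5 j) j) &&
    Nat.beq (tget (tget GF 120 k) 5 (outPt k)) 5 && Nat.blt (outPt k) 24 &&
    allB 15 (fun c => fixesF (tget GF 120 k) (trioRep c))

theorem cF : allB 16 okF = true := by decide +kernel

theorem hout : allB 24 (fun j => m0.testBit j || (Nat.blt (rk j) 16 && Nat.beq (outPt (rk j)) j)) =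
    true := by decide +kernel

theorem cA : certR SA LA = true := by decide +kernel

theorem cB : certR SB (5279 :: 32 :: 16777215 :: A15) = true := by decide +kernel

theorem hA15 : A15.all (fun a => a.testBit 5 && anyB 15 (fun c => memB a (trioRep c) &&
    (trioRep c).all (fun b => !b.testBit 5 || Nat.beq b a))) = true := by decide +kernel

/-! ### the trios through the standard octad -/

theorem m0_lt : m0 < 2 ^ 24 := by decide

theorem mem_fam_iff {a : ℕ} (ha : a < 2 ^ 24) {c : ℕ} :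
    fsOf a ∈ fam (trioRep c) ↔ memB a (trioRep c) = true := by
  rw [mem_fam, memB_iff]
  constructor
  · rintro ⟨m, hm, e⟩
    rw [← setOf_injOn (trioRep_lt hm) ha e]
    exact hm
  · intro h
    exact ⟨a, h, rfl⟩

/-- the trios through the standard octad are those of index below 15 -/
theorem mem_iff_lt {c : ℕ} (hc : c < 3795) : fsOf m0 ∈ fam (trioRep c) ↔ c < 15 := by
  rw [mem_fam_iff m0_lt, ← Nat.blt_eq]
  have h := (allB_iff _ _).mp h15 c hc
  revert h
  cases memB m0 (trioRep c) <;> cases Nat.blt c 15 <;> simp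

theorem std1 : {T : Finset (Finset GolayPt) | T ∈ trios ∧ fsOf m0 ∈ T}.ncard = 15 := by
  rw [trioEnum.ncard_filter (fun T => fsOf m0 ∈ T) (fun c => memB m0 (trioRep c))
    (fun c _ _ => mem_fam_iff m0_lt)]
  exact n15

/-! ### double transitivity -/

theorem gK1 : ∀ d < 16, validT (tget GK1 120 d) = true ∧
    gperm (tget GK1 120 d) ∈ stabF [m0] ⊓ stabF (trioRep 0) :=
  fun d hd => ⟨(gensF_spec gK1a d hd).1, (gensF_spec gK1a d hd).2, (gensF_spec gK1b d hd).2⟩

theorem inv64 {T : Finset (Finset GolayPt)} (hT : T ∈ trios) (hm : fsOf m0 ∈ T) :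
    inv2 {fsOf m0} T = 64 := by
  obtain ⟨c, hc, -, rfl⟩ := trioEnum.surj T hT
  have hlt := (mem_iff_lt hc).mp hm
  have := trio_inv [m0] Cfsg.Agent.S5610.nd0 c hc rfl
  rw [Cfsg.Agent.S5610.fam0] at this
  rw [this]
  exact Nat.eq_of_beq_eq_true ((allB_iff _ _).mp i15 c hlt)

theorem std2 (T₁ T₂ : Finset (Finset GolayPt)) (h1 : T₁ ∈ trios) (h2 : T₂ ∈ trios)
    (m1 : fsOf m0 ∈ T₁) (m2 : fsOf m0 ∈ T₂) (hne : T₁ ≠ T₂) :
    ∃ g ∈ M24, g • fsOf m0 = fsOf m0 ∧ g • fam (trioRep 0) = T₁ ∧ g • fam (trioRep 1) = T₂ := by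
  have t0 : fam (trioRep 0) ∈ trios := trioRep_mem (by norm_num)
  have t0m : fsOf m0 ∈ fam (trioRep 0) := (mem_iff_lt (by norm_num)).mpr (by norm_num)
  obtain ⟨a, ha, ha0, ha1⟩ := Cfsg.Agent.S5610.htrT (fam (trioRep 0)) t0 T₁ h1
    (by rw [inv64 t0 t0m, inv64 h1 m1])
  have h2' : a⁻¹ • T₂ ∈ trios := smul_mem_trios (M24.inv_mem ha) h2
  have m2' : fsOf m0 ∈ a⁻¹ • T₂ := by
    rw [Finset.mem_inv_smul_finset_iff, ha0]
    exact m2
  obtain ⟨c, hc, -, hcT⟩ := trioEnum.surj _ h2'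
  have hc15 : c < 15 := (mem_iff_lt hc).mp (by rw [hcT]; exact m2')
  have hc0 : c ≠ 0 := by
    rintro rfl
    apply hne
    rw [← ha1, hcT, smul_inv_smul]
  have hcond : (fun c => Nat.blt c 15 && !Nat.beq c 0) c = true := by
    have e1 : Nat.blt c 15 = true := by rw [Nat.blt_eq]; exact hc15
    have e2 : Nat.beq c 0 = false := by
      cases h : Nat.beq c 0
      · rfl
      · exact absurd (Nat.eq_of_beq_eq_true h) hc0
    show (Nat.blt c 15 && !Nat.beq c 0) = true
    rw [e1, e2]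
    rfl
  obtain ⟨b, hb, hb'⟩ := certS_spec gK1 cT1 c hc hcond
  obtain ⟨hbA, hbB⟩ := Subgroup.mem_inf.mp hb
  have hbM : b ∈ M24 := hbA.1
  have hb0 : b • fsOf m0 = fsOf m0 := (mem_stabF_single.mp hbA).2
  have hbT : b • fam (trioRep 0) = fam (trioRep 0) := hbB.2
  have hb1 : b • fam (trioRep 1) = fam (trioRep c) :=
    trio_smul_eq hbM (by norm_num) hc (hb' _ (by simp)) (hb' _ (by simp))
  refine ⟨a * b, M24.mul_mem ha hbM, ?_, ?_, ?_⟩
  · rw [mul_smul, hb0, ha0]
  · rw [mul_smul, hbT, ha1]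
  · rw [mul_smul, hb1, hcT, smul_inv_smul]

/-! ### the pointwise stabiliser of the standard octad -/

theorem okF_spec (k : ℕ) (hk : k < 16) : inM24 (tget GF 120 k) = true ∧
    (∀ j < 24, m0.testBit j = true → tget (tget GF 120 k) 5 j = j) ∧
    tget (tget GF 120 k) 5 (outPt k) = 5 ∧ outPt k < 24 ∧
    ∀ c < 15, fixesF (tget GF 120 k) (trioRep c) = true := by
  have h := (allB_iff _ _).mp cF k hk
  unfold okF at h
  simp only [Bool.and_eq_true] at h
  obtain ⟨⟨⟨⟨h1, h2⟩, h3⟩, h4⟩, h5⟩ := h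
  refine ⟨h1, ?_, Nat.eq_of_beq_eq_true h3, by rw [← Nat.blt_eq]; exact h4, (allB_iff _ _).mp h5⟩
  intro j hj hb
  have := (allB_iff _ _).mp h2 j hj
  rw [hb] at this
  exact Nat.eq_of_beq_eq_true this

theorem f_fix (k : ℕ) (hk : k < 16) (p : GolayPt) (hp : p ∈ fsOf m0) :
    gperm (tget GF 120 k) p = p := by
  obtain ⟨h1, h2, -, -, -⟩ := okF_spec k hk
  have e : tfun (tget GF 120 k) p = p := by
    unfold tfun
    rw [h2 (idx p) (idx_lt p) ((mem_setOf _ _).mp hp), pt_idx]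
  have := gperm_apply_tfun (inM24_valid h1) p
  rw [e] at this
  exact this

theorem f_q0 (k : ℕ) (hk : k < 16) : gperm (tget GF 120 k) (pt 5) = pt (outPt k) := by
  obtain ⟨h1, -, h3, h4, -⟩ := okF_spec k hk
  have e : tfun (tget GF 120 k) (pt (outPt k)) = pt 5 := by
    unfold tfun
    rw [idx_pt _ h4, h3]
  have := gperm_apply_tfun (inM24_valid h1) (pt (outPt k))
  rw [e] at this
  exact this

theorem f_trio (k : ℕ) (hk : k < 16) (T : Finset (Finset GolayPt)) (hT : T ∈ trios)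
    (hm : fsOf m0 ∈ T) : gperm (tget GF 120 k) • T = T := by
  obtain ⟨h1, -, -, -, h5⟩ := okF_spec k hk
  obtain ⟨c, hc, -, rfl⟩ := trioEnum.surj T hT
  exact (gperm_mem_stabF h1 (h5 c ((mem_iff_lt hc).mp hm))).2

theorem pt_mem_m0 {i : ℕ} (hi : i < 24) (h : m0.testBit i = true) : pt i ∈ fsOf m0 :=
  (mem_setOf_pt hi).mpr h

/-- an element fixing the points of the standard octad and the point 5 is trivial -/
theorem rigidA {h : Equiv.Perm GolayPt} (hh : h ∈ M24) (hp : ∀ p ∈ fsOf m0, h p = p)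
    (hq : h (pt 5) = pt 5) : h = 1 := by
  refine rigid hh SA LA ?_ cA
  intro m hm
  simp only [LA, List.mem_cons, List.not_mem_nil, or_false] at hm
  rcases hm with rfl | rfl | rfl | rfl | rfl | rfl | rfl | rfl | rfl | rfl
  · exact Fx_pow h (i := 0) (by norm_num) (hp _ (pt_mem_m0 (by norm_num) (by decide)))
  · exact Fx_pow h (i := 1) (by norm_num) (hp _ (pt_mem_m0 (by norm_num) (by decide)))
  · exact Fx_pow h (i := 2) (by norm_num) (hp _ (pt_mem_m0 (by norm_num) (by decide)))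
  · exact Fx_pow h (i := 3) (by norm_num) (hp _ (pt_mem_m0 (by norm_num) (by decide)))
  · exact Fx_pow h (i := 4) (by norm_num) (hp _ (pt_mem_m0 (by norm_num) (by decide)))
  · exact Fx_pow h (i := 7) (by norm_num) (hp _ (pt_mem_m0 (by norm_num) (by decide)))
  · exact Fx_pow h (i := 10) (by norm_num) (hp _ (pt_mem_m0 (by norm_num) (by decide)))
  · exact Fx_pow h (i := 12) (by norm_num) (hp _ (pt_mem_m0 (by norm_num) (by decide)))
  · exact Fx_pow h (i := 5) (by norm_num) hq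
  · exact Fx_full h

theorem out_cases (x : GolayPt) (hx : x ∉ fsOf m0) : ∃ k < 16, pt (outPt k) = x := by
  have h := (allB_iff _ _).mp hout (idx x) (idx_lt x)
  have hb : m0.testBit (idx x) = false := by
    cases hb : m0.testBit (idx x)
    · rfl
    · exact absurd ((mem_setOf _ _).mpr hb) hx
  rw [hb] at h
  simp only [Bool.false_or, Bool.and_eq_true] at h
  refine ⟨rk (idx x), by rw [← Nat.blt_eq]; exact h.1, ?_⟩
  rw [Nat.eq_of_beq_eq_true h.2, pt_idx]

theorem smul_mem_iff {g : Equiv.Perm GolayPt} {s : Finset GolayPt} (h : g • s = s) (x : GolayPt) :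
    g x ∈ s ↔ x ∈ s := by
  conv_lhs => rw [← h]
  rw [← Equiv.Perm.smul_def]
  exact Finset.smul_mem_smul_finset_iff g

theorem smul_eq_of_fix {g : Equiv.Perm GolayPt} {s : Finset GolayPt} (h : ∀ p ∈ s, g p = p) :
    g • s = s := by
  ext x
  rw [Finset.mem_smul_finset]
  constructor
  · rintro ⟨y, hy, rfl⟩
    rw [Equiv.Perm.smul_def, h y hy]
    exact hy
  · intro hx
    exact ⟨x, hx, by rw [Equiv.Perm.smul_def, h x hx]⟩

/-- the elements fixing the standard octad pointwise are the 16 elements of `GF` -/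
theorem exists_f {g : Equiv.Perm GolayPt} (hg : g ∈ M24) (hp : ∀ p ∈ fsOf m0, g p = p) :
    ∃ k < 16, g = gperm (tget GF 120 k) := by
  have hx : g (pt 5) ∉ fsOf m0 := by
    rw [smul_mem_iff (smul_eq_of_fix hp), mem_setOf_pt (by norm_num)]
    decide
  obtain ⟨k, hk, e⟩ := out_cases _ hx
  refine ⟨k, hk, ?_⟩
  have fM : gperm (tget GF 120 k) ∈ M24 := gperm_mem_M24 (okF_spec k hk).1
  have key : (gperm (tget GF 120 k))⁻¹ * g = 1 := by
    refine rigidA (M24.mul_mem (M24.inv_mem fM) hg) ?_ ?_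
    · intro p hp'
      show (gperm (tget GF 120 k))⁻¹ (g p) = p
      rw [hp p hp', Equiv.Perm.inv_eq_iff_eq, f_fix k hk p hp']
    · show (gperm (tget GF 120 k))⁻¹ (g (pt 5)) = pt 5
      rw [← e, Equiv.Perm.inv_eq_iff_eq, f_q0 k hk]
  rw [← mul_one (gperm (tget GF 120 k)), ← key, mul_inv_cancel_left]

theorem std3a {g : Equiv.Perm GolayPt} (hg : g ∈ M24) (hp : ∀ p ∈ fsOf m0, g p = p)
    (T : Finset (Finset GolayPt)) (hT : T ∈ trios) (hm : fsOf m0 ∈ T) : g • T = T := by
  obtain ⟨k, hk, rfl⟩ := exists_f hg hp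
  exact f_trio k hk T hT hm

theorem fix_of_fam {h : Equiv.Perm GolayPt} {l : List ℕ} (hl : h • fam l = fam l) {a : ℕ}
    (ha : a ∈ l) {q : ℕ} (hq : q < 24) (hfix : h (pt q) = pt q) (hqa : a.testBit q = true)
    (huniq : ∀ b ∈ l, b.testBit q = true → b = a) : Fx h a := by
  have h1 : h • fsOf a ∈ fam l := by
    rw [← hl]
    exact Finset.smul_mem_smul_finset (fsOf_mem_fam ha)
  obtain ⟨b, hb, e⟩ := mem_fam.mp h1
  have h2 : pt q ∈ h • fsOf a := by
    rw [← hfix, ← Equiv.Perm.smul_def]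
    exact Finset.smul_mem_smul_finset ((mem_setOf_pt hq).mpr hqa)
  rw [← e, mem_setOf_pt hq] at h2
  unfold Fx
  rw [← e, huniq b hb h2]

theorem A15_spec (a : ℕ) (ha : a ∈ A15) : a.testBit 5 = true ∧ ∃ c, c < 15 ∧ a ∈ trioRep c ∧
    ∀ b ∈ trioRep c, b.testBit 5 = true → b = a := by
  have h := List.all_eq_true.mp hA15 a ha
  rw [Bool.and_eq_true, anyB_iff] at h
  obtain ⟨h1, c, hc, h2⟩ := h
  rw [Bool.and_eq_true, memB_iff, List.all_eq_true] at h2
  refine ⟨h1, c, hc, h2.1, fun b hb hbit => ?_⟩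
  have := h2.2 b hb
  rw [hbit] at this
  exact Nat.eq_of_beq_eq_true this

theorem std3b {g : Equiv.Perm GolayPt} (hg : g ∈ M24) (ho : g • fsOf m0 = fsOf m0)
    (hT : ∀ T ∈ trios, fsOf m0 ∈ T → g • T = T) : ∀ p ∈ fsOf m0, g p = p := by
  have hx : g (pt 5) ∉ fsOf m0 := by
    rw [smul_mem_iff ho, mem_setOf_pt (by norm_num)]
    decide
  obtain ⟨k, hk, e⟩ := out_cases _ hx
  have fM : gperm (tget GF 120 k) ∈ M24 := gperm_mem_M24 (okF_spec k hk).1
  have fo : gperm (tget GF 120 k) • fsOf m0 = fsOf m0 := smul_eq_of_fix (f_fix k hk)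
  have hq5 : ((gperm (tget GF 120 k))⁻¹ * g) (pt 5) = pt 5 := by
    show (gperm (tget GF 120 k))⁻¹ (g (pt 5)) = pt 5
    rw [← e, Equiv.Perm.inv_eq_iff_eq, f_q0 k hk]
  have key : (gperm (tget GF 120 k))⁻¹ * g = 1 := by
    refine rigid (M24.mul_mem (M24.inv_mem fM) hg) SB (5279 :: 32 :: 16777215 :: A15) ?_ cB
    intro m hm
    rcases List.mem_cons.mp hm with rfl | hm
    · show ((gperm (tget GF 120 k))⁻¹ * g) • fsOf m0 = fsOf m0
      rw [mul_smul, ho, inv_smul_eq_iff, fo]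
    rcases List.mem_cons.mp hm with rfl | hm
    · exact Fx_pow _ (i := 5) (by norm_num) hq5
    rcases List.mem_cons.mp hm with rfl | hm
    · exact Fx_full _
    · obtain ⟨hbit, c, hc, hmem, huniq⟩ := A15_spec m hm
      have tc : fam (trioRep c) ∈ trios := trioRep_mem (by omega)
      have mc : fsOf m0 ∈ fam (trioRep c) := (mem_iff_lt (by omega)).mpr hc
      have hfix : ((gperm (tget GF 120 k))⁻¹ * g) • fam (trioRep c) = fam (trioRep c) := by
        rw [mul_smul, hT _ tc mc, inv_smul_eq_iff, f_trio k hk _ tc mc]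
      exact fix_of_fam hfix hmem (by norm_num) hq5 hbit huniq
  have e2 : g = gperm (tget GF 120 k) := by
    rw [← mul_one (gperm (tget GF 120 k)), ← key, mul_inv_cancel_left]
  rw [e2]
  exact f_fix k hk

/-- An octad of the length-24 code lies in exactly 15 trios; the stabiliser of the octad in the code's group acts doubly transitively on these 15 trios, and the kernel of this action is the pointwise stabiliser of the octad. -/
theorem result (o : Finset Cfsg.GolayPt) (ho : o ∈ Cfsg.octads) : {T : Finset (Finset Cfsg.GolayPt) | T ∈ Cfsg.trios ∧ o ∈ T}.ncard = 15 ∧ (∀ T₁ T₂ T₁' T₂' : Finset (Finset Cfsg.GolayPt), T₁ ∈ Cfsg.trios → T₂ ∈ Cfsg.trios → T₁' ∈ Cfsg.trios → T₂' ∈ Cfsg.trios → o ∈ T₁ → o ∈ T₂ → o ∈ T₁' → o ∈ T₂' → T₁ ≠ T₂ → T₁' ≠ T₂' → ∃ g ∈ Cfsg.M24, g • o = o ∧ g • T₁ = T₁' ∧ g • T₂ = T₂') ∧ ∀ g ∈ Cfsg.M24, g • o = o → ((∀ T ∈ Cfsg.trios, o ∈ T → g • T = T) ↔ ∀ p ∈ o, g p = p) := by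
  obtain ⟨a, ha, rfl⟩ := octad_trans o ho
  have hai := M24.inv_mem ha
  have back : ∀ T : Finset (Finset GolayPt), T ∈ trios → a • fsOf m0 ∈ T →
      a⁻¹ • T ∈ trios ∧ fsOf m0 ∈ a⁻¹ • T := by
    intro T hT hm
    exact ⟨smul_mem_trios hai hT, by rw [Finset.mem_inv_smul_finset_iff]; exact hm⟩
  refine ⟨?_, ?_, ?_⟩
  · have h : {T : Finset (Finset GolayPt) | T ∈ trios ∧ a • fsOf m0 ∈ T} =
        (fun T => a • T) '' {T : Finset (Finset GolayPt) | T ∈ trios ∧ fsOf m0 ∈ T} := by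
      ext T
      simp only [Set.mem_ofPred_eq, Set.mem_image]
      constructor
      · rintro ⟨hT, hm⟩
        exact ⟨a⁻¹ • T, back T hT hm, smul_inv_smul a T⟩
      · rintro ⟨T', ⟨hT', hm'⟩, rfl⟩
        exact ⟨smul_mem_trios ha hT', Finset.smul_mem_smul_finset hm'⟩
    rw [h, Set.ncard_image_of_injective _ (MulAction.injective a)]
    exact std1
  · intro T₁ T₂ T₁' T₂' h1 h2 h1' h2' m1 m2 m1' m2' hne hne'
    obtain ⟨g₁, hg₁, e₁, f₁, f₂⟩ := std2 (a⁻¹ • T₁) (a⁻¹ • T₂) (back T₁ h1 m1).1 (back T₂ h2 m2).1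
      (back T₁ h1 m1).2 (back T₂ h2 m2).2 (fun h => hne (smul_left_cancel a⁻¹ h))
    obtain ⟨g₂, hg₂, e₂, f₁', f₂'⟩ := std2 (a⁻¹ • T₁') (a⁻¹ • T₂') (back T₁' h1' m1').1
      (back T₂' h2' m2').1 (back T₁' h1' m1').2 (back T₂' h2' m2').2
      (fun h => hne' (smul_left_cancel a⁻¹ h))
    have i0 : g₁⁻¹ • fsOf m0 = fsOf m0 := inv_smul_eq_iff.mpr e₁.symm
    have i1 : g₁⁻¹ • a⁻¹ • T₁ = fam (trioRep 0) := inv_smul_eq_iff.mpr f₁.symm
    have i2 : g₁⁻¹ • a⁻¹ • T₂ = fam (trioRep 1) := inv_smul_eq_iff.mpr f₂.symm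
    refine ⟨a * g₂ * g₁⁻¹ * a⁻¹,
      M24.mul_mem (M24.mul_mem (M24.mul_mem ha hg₂) (M24.inv_mem hg₁)) hai, ?_, ?_, ?_⟩
    · rw [mul_smul, mul_smul, mul_smul, inv_smul_smul, i0, e₂]
    · rw [mul_smul, mul_smul, mul_smul, i1, f₁', smul_inv_smul]
    · rw [mul_smul, mul_smul, mul_smul, i2, f₂', smul_inv_smul]
  · intro g hg hgo
    have hg' : a⁻¹ * g * a ∈ M24 := M24.mul_mem (M24.mul_mem hai hg) ha
    have ho' : (a⁻¹ * g * a) • fsOf m0 = fsOf m0 := by
      rw [mul_smul, mul_smul, hgo, inv_smul_smul]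
    constructor
    · intro hT p hp
      obtain ⟨p', hp', rfl⟩ := Finset.mem_smul_finset.mp hp
      have h3 : (a⁻¹ * g * a) p' = p' := by
        refine std3b hg' ho' (fun T' hT' hm' => ?_) p' hp'
        rw [mul_smul, mul_smul, hT (a • T') (smul_mem_trios ha hT')
          (Finset.smul_mem_smul_finset hm'), inv_smul_smul]
      have h4 : a⁻¹ (g (a p')) = p' := h3
      rw [Equiv.Perm.inv_eq_iff_eq] at h4
      rw [Equiv.Perm.smul_def]
      exact h4
    · intro hp T hT hm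
      have hp' : ∀ p' ∈ fsOf m0, (a⁻¹ * g * a) p' = p' := by
        intro p' hp'
        have h5 := hp (a p') (by
          rw [← Equiv.Perm.smul_def]
          exact Finset.smul_mem_smul_finset hp')
        show a⁻¹ (g (a p')) = p'
        rw [h5, Equiv.Perm.inv_eq_iff_eq]
      have h6 := std3a hg' hp' (a⁻¹ • T) (back T hT hm).1 (back T hT hm).2
      rw [mul_smul, mul_smul, smul_inv_smul] at h6
      exact smul_left_cancel a⁻¹ h6

end Cfsg.Agent.S5615
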