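import Cfsg.Statements.S5726
-- import your own Cfsg.Agent.* helpers here

set_option autoImplicit false
open Cfsg

namespace Cfsg.Agent.S5726

/-- Orbit sizes of a Sylow subgroup in a transitive action. -/
theorem pow_dvd_relIndex {G Ω : Type*} [Group G] [Finite G] [MulAction G Ω] [Finite Ω]
    [MulAction.IsPretransitive G Ω] (p a : ℕ) [Fact p.Prime] (P : Sylow p G) (ω : Ω)
    (h : p ^ a ∣ Nat.card Ω) : p ^ a ∣ (MulAction.stabilizer G ω).relIndex (P : Subgroup G) := by
  set H := MulAction.stabilizer G ω with hH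
  have h1 : H.index = Nat.card Ω := MulAction.index_stabilizer_of_transitive G ω
  have h2 : (H ⊓ P).relIndex P * (P : Subgroup G).index = (H ⊓ P).index :=
    Subgroup.relIndex_mul_index inf_le_right
  have h3 : (H ⊓ P).relIndex H * H.index = (H ⊓ P).index :=
    Subgroup.relIndex_mul_index inf_le_left
  rw [Subgroup.inf_relIndex_right] at h2
  have h4 : p ^ a ∣ H.relIndex P * (P : Subgroup G).index := by
    rw [h2, ← h3, h1]
    exact Dvd.dvd.mul_left h _
  have h5 : Nat.Coprime (p ^ a) (P : Subgroup G).index := by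
    apply Nat.Coprime.pow_left
    rw [Nat.Prime.coprime_iff_not_dvd Fact.out]
    exact P.not_dvd_index
  exact h5.dvd_of_dvd_mul_right h4

/-- The stabilizer in a subgroup. -/
theorem stabilizer_subgroup_eq {G Ω : Type*} [Group G] [MulAction G Ω] (P : Subgroup G) (ω : Ω) :
    MulAction.stabilizer P ω = (MulAction.stabilizer G ω).subgroupOf P := by
  ext g
  simp [MulAction.mem_stabilizer_iff, Subgroup.mem_subgroupOf, Subgroup.smul_def]

/-- Orbit size of a subgroup. -/
theorem ncard_orbit_subgroup {G Ω : Type*} [Group G] [MulAction G Ω] (P : Subgroup G) (ω : Ω) :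
    (MulAction.orbit P ω).ncard = (MulAction.stabilizer G ω).relIndex P := by
  rw [← MulAction.index_stabilizer, stabilizer_subgroup_eq, Subgroup.relIndex]

/-- A Sylow `p`-subgroup is transitive in prime power degree. -/
theorem sylow_transitive {G Ω : Type*} [Group G] [Finite G] [MulAction G Ω] [Finite Ω]
    [MulAction.IsPretransitive G Ω] (p k : ℕ) [Fact p.Prime] (P : Sylow p G)
    (hΩ : Nat.card Ω = p ^ k) (ω ω' : Ω) : ∃ g ∈ (P : Subgroup G), g • ω = ω' := by
  have h1 : p ^ k ∣ (MulAction.stabilizer G ω).relIndex (P : Subgroup G) :=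
    pow_dvd_relIndex p k P ω (by rw [hΩ])
  rw [← ncard_orbit_subgroup] at h1
  have h2 : (MulAction.orbit (P : Subgroup G) ω) = Set.univ := by
    rw [Set.eq_univ_iff_ncard, hΩ]
    apply le_antisymm
    · rw [← hΩ]
      exact Set.ncard_le_card _
    · apply Nat.le_of_dvd _ h1
      rw [Set.ncard_pos]
      exact MulAction.nonempty_orbit ω
  have h3 : ω' ∈ MulAction.orbit (P : Subgroup G) ω := by rw [h2]; trivial
  obtain ⟨g, hg⟩ := h3
  exact ⟨g, g.2, hg⟩

/-- Prime power degree: a derangement of order `p`. -/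
theorem exists_derangement {G Ω : Type*} [Group G] [Finite G] [MulAction G Ω] [FaithfulSMul G Ω]
    [Finite Ω] [MulAction.IsPretransitive G Ω] (p k : ℕ) [Fact p.Prime] (hk : 1 ≤ k)
    (hΩ : Nat.card Ω = p ^ k) : ∃ g : G, orderOf g = p ∧ ∀ ω : Ω, g • ω ≠ ω := by
  obtain ⟨P⟩ : Nonempty (Sylow p G) := inferInstance
  have hne : Nonempty Ω := by
    apply Nat.card_pos_iff.mp ?_ |>.1
    rw [hΩ]; exact pow_pos (Nat.Prime.pos Fact.out) _
  obtain ⟨ω₀⟩ := hne
  have hdvd : p ∣ Nat.card G := by
    have h1 : (MulAction.stabilizer G ω₀).index = Nat.card Ω :=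
      MulAction.index_stabilizer_of_transitive G ω₀
    have h2 : (MulAction.stabilizer G ω₀).index ∣ Nat.card G := Subgroup.index_dvd_card _
    rw [h1, hΩ] at h2
    exact (dvd_pow_self p (by omega)).trans h2
  have hPne : (P : Subgroup G) ≠ ⊥ := P.ne_bot_of_dvd_card hdvd
  have : Nontrivial (P : Subgroup G) := (Subgroup.nontrivial_iff_ne_bot _).mpr hPne
  have hP : IsPGroup p (P : Subgroup G) := P.isPGroup'
  have : Nontrivial (Subgroup.center (P : Subgroup G)) := hP.center_nontrivial
  have hZ : IsPGroup p (Subgroup.center (P : Subgroup G)) := hP.to_subgroup _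
  have hZd : p ∣ Nat.card (Subgroup.center (P : Subgroup G)) := by
    rcases hZ.card_eq_or_dvd with h | h
    · exact absurd h (by
        have := Finite.one_lt_card_iff_nontrivial.mpr (inferInstance : Nontrivial (Subgroup.center (P : Subgroup G)))
        omega)
    · exact h
  obtain ⟨z, hz⟩ := exists_prime_orderOf_dvd_card' p hZd
  refine ⟨((z : (P : Subgroup G)) : G), ?_, ?_⟩
  · rw [Subgroup.orderOf_coe, Subgroup.orderOf_coe, hz]
  · intro ω hω
    have hz1 : ((z : (P : Subgroup G)) : G) = 1 := by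
      apply FaithfulSMul.eq_of_smul_eq_smul (α := Ω)
      intro ω'
      obtain ⟨g, hg, rfl⟩ := sylow_transitive p k P hΩ ω ω'
      have hc : (z : (P : Subgroup G)) * ⟨g, hg⟩ = ⟨g, hg⟩ * (z : (P : Subgroup G)) :=
        (Subgroup.mem_center_iff.mp z.2 ⟨g, hg⟩).symm
      have hc' : ((z : (P : Subgroup G)) : G) * g = g * ((z : (P : Subgroup G)) : G) := by
        have := congrArg (Subtype.val) hc
        simpa using this
      rw [one_smul, ← mul_smul, hc', mul_smul, hω]
    have : orderOf (((z : (P : Subgroup G)) : G)) = p := by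
      rw [Subgroup.orderOf_coe, Subgroup.orderOf_coe, hz]
    rw [hz1, orderOf_one] at this
    exact (Nat.Prime.one_lt Fact.out).ne this


/-- If a finite group acts faithfully and transitively on a set with p^k elements, p a prime and k ≥ 1, then some element of order p fixes no point. -/
theorem result {G Ω : Type*} [Group G] [Finite G] [MulAction G Ω] [FaithfulSMul G Ω] [Fintype Ω] (htr : MulAction.IsPretransitive G Ω)
    (p k : ℕ) (hp : p.Prime) (hk : 1 ≤ k) (hΩ : Fintype.card Ω = p ^ k) :
    ∃ g : G, orderOf g = p ∧ ∀ ω : Ω, g • ω ≠ ω := by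
  have := Fact.mk hp
  exact exists_derangement p k hk (by rw [Nat.card_eq_fintype_card, hΩ])

end Cfsg.Agent.S5726
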