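import Cfsg.Statements.S5727
-- import your own Cfsg.Agent.* helpers here
import Cfsg.Agent.S5726

set_option autoImplicit false
open Cfsg

namespace Cfsg.Agent.S5727

theorem small_case {G Ω : Type*} [Group G] [Finite G] [MulAction G Ω] [FaithfulSMul G Ω]
    [Fintype Ω] [MulAction.IsPretransitive G Ω] (p m : ℕ) [Fact p.Prime] (hm : 1 ≤ m) (hmp : m < p)
    (hΩ : Fintype.card Ω = m * p) : ∃ g : G, orderOf g = p ∧ ∀ ω : Ω, g • ω ≠ ω := by
  classical
  have hp : p.Prime := Fact.out
  obtain ⟨P⟩ : Nonempty (Sylow p G) := inferInstance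
  have hP : IsPGroup p (P : Subgroup G) := P.isPGroup'
  -- each point stabilizer in P has index p
  have hidx : ∀ ω : Ω, (MulAction.stabilizer (P : Subgroup G) ω).index = p := by
    intro ω
    have h1 : p ∣ (MulAction.stabilizer G ω).relIndex (P : Subgroup G) := by
      have := S5726.pow_dvd_relIndex p 1 P ω
        (by rw [Nat.card_eq_fintype_card, hΩ, pow_one]; exact dvd_mul_left _ _)
      simpa using this
    have h2 : (MulAction.stabilizer (P : Subgroup G) ω).index =
        (MulAction.stabilizer G ω).relIndex (P : Subgroup G) := by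
      rw [S5726.stabilizer_subgroup_eq, Subgroup.relIndex]
    obtain ⟨n, hn⟩ := hP.index (MulAction.stabilizer (P : Subgroup G) ω)
    have h3 : (MulAction.stabilizer (P : Subgroup G) ω).index ≤ m * p := by
      rw [MulAction.index_stabilizer, ← hΩ, ← Nat.card_eq_fintype_card]
      exact Set.ncard_le_card _
    rw [← h2, hn] at h1
    rw [hn] at h3 ⊢
    have hn1 : n ≠ 0 := by
      rintro rfl
      rw [pow_zero, Nat.dvd_one] at h1
      exact hp.one_lt.ne' h1
    have hn2 : n < 2 := by
      by_contra hcon
      push Not at hcon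
      have h4 : p ^ 2 ≤ p ^ n := Nat.pow_le_pow_right hp.pos hcon
      have h5 : m * p < p * p := Nat.mul_lt_mul_of_pos_right hmp hp.pos
      nlinarith
    have : n = 1 := by omega
    rw [this, pow_one]
  have hne : Nonempty Ω := by
    apply Fintype.card_pos_iff.mp
    rw [hΩ]; exact Nat.mul_pos hm hp.pos
  obtain ⟨ω₀⟩ := hne
  have hcardP : ∀ ω : Ω, Nat.card (MulAction.stabilizer (P : Subgroup G) ω) * p =
      Nat.card (P : Subgroup G) := by
    intro ω
    have h1 := Subgroup.card_mul_index (MulAction.stabilizer (P : Subgroup G) ω)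
    rw [hidx] at h1
    exact h1
  have hminFac : (Nat.card (P : Subgroup G)).minFac = p := by
    obtain ⟨j, hj⟩ := IsPGroup.iff_card.mp hP
    have hj0 : j ≠ 0 := by
      rintro rfl
      have h1 := hcardP ω₀
      rw [hj, pow_zero] at h1
      have h2 : p ∣ 1 := Dvd.intro_left _ h1
      exact hp.one_lt.ne' (Nat.dvd_one.mp h2)
    rw [hj]
    exact hp.pow_minFac hj0
  have hnorm : ∀ ω : Ω, (MulAction.stabilizer (P : Subgroup G) ω).Normal := by
    intro ω
    apply Subgroup.normal_of_index_eq_minFac_card
    rw [hidx, hminFac]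
  -- non-derangements fix at least p points
  have hfix : ∀ g : (P : Subgroup G), (∃ ω : Ω, g • ω = ω) →
      p ≤ (Finset.univ.filter (fun ω : Ω => g • ω = ω)).card := by
    rintro g ⟨ω, hω⟩
    have h1 : (MulAction.orbit (P : Subgroup G) ω).ncard = p := by
      rw [← MulAction.index_stabilizer, hidx]
    have h2 : MulAction.orbit (P : Subgroup G) ω ⊆
        ((Finset.univ.filter (fun ω : Ω => g • ω = ω) : Finset Ω) : Set Ω) := by
      rintro _ ⟨h, rfl⟩
      simp only [Finset.coe_filter, Finset.mem_univ, true_and, Set.mem_ofPred_eq]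
      have h3 : h⁻¹ * g * h ∈ MulAction.stabilizer (P : Subgroup G) ω := by
        have := (hnorm ω).conj_mem g (MulAction.mem_stabilizer_iff.mpr hω) h⁻¹
        simpa using this
      rw [MulAction.mem_stabilizer_iff] at h3
      calc g • h • ω = h • (h⁻¹ * g * h) • ω := by simp [mul_smul]
        _ = h • ω := by rw [h3]
    have h4 := Set.ncard_le_ncard h2 (Finset.finite_toSet _)
    rw [h1, Set.ncard_coe_finset] at h4
    exact h4
  have : Fintype (P : Subgroup G) := Fintype.ofFinite _
  -- double counting
  have hdc : ∑ g : (P : Subgroup G), (Finset.univ.filter (fun ω : Ω => g • ω = ω)).card =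
      ∑ ω : Ω, (Finset.univ.filter (fun g : (P : Subgroup G) => g • ω = ω)).card := by
    simp only [Finset.card_filter]
    exact Finset.sum_comm
  have hstab : ∀ ω : Ω, (Finset.univ.filter (fun g : (P : Subgroup G) => g • ω = ω)).card * p =
      Fintype.card (P : Subgroup G) := by
    intro ω
    rw [← Nat.card_eq_fintype_card, ← hcardP ω]
    congr 1
    rw [← Nat.card_eq_finsetCard]
    apply Nat.card_congr
    exact Equiv.subtypeEquivRight (fun g => by simp [MulAction.mem_stabilizer_iff])
  have hsum : (∑ ω : Ω, (Finset.univ.filter (fun g : (P : Subgroup G) => g • ω = ω)).card) * p =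
      m * p * Fintype.card (P : Subgroup G) := by
    rw [Finset.sum_mul, Finset.sum_congr rfl (fun ω _ => hstab ω), Finset.sum_const,
      Finset.card_univ, hΩ, smul_eq_mul]
  -- existence of a derangement in P
  have hex : ∃ g : (P : Subgroup G), ∀ ω : Ω, g • ω ≠ ω := by
    by_contra hcon
    push Not at hcon
    have h1 : ∑ g : (P : Subgroup G), p ≤
        ∑ g : (P : Subgroup G), (Finset.univ.filter (fun ω : Ω => g • ω = ω)).card :=
      Finset.sum_le_sum (fun g _ => hfix g (hcon g))
    rw [Finset.sum_const, Finset.card_univ, smul_eq_mul, hdc] at h1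
    have h2 : Fintype.card (P : Subgroup G) * p * p ≤ m * p * Fintype.card (P : Subgroup G) := by
      rw [← hsum]
      exact Nat.mul_le_mul_right p h1
    have h3 : 0 < Fintype.card (P : Subgroup G) := Fintype.card_pos
    have h4 : m * p < p * p := Nat.mul_lt_mul_of_pos_right hmp hp.pos
    nlinarith
  obtain ⟨g, hg⟩ := hex
  refine ⟨(g : G), ?_, fun ω => hg ω⟩
  have hg1 : (g : G) ≠ 1 := by
    intro h
    apply hg ω₀
    rw [Subgroup.smul_def, h, one_smul]
  have hgp : (g : G) ^ p = 1 := by
    apply FaithfulSMul.eq_of_smul_eq_smul (α := Ω)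
    intro ω
    have h1 : g ^ p ∈ MulAction.stabilizer (P : Subgroup G) ω := by
      have := (hnorm ω)
      have h2 := Subgroup.pow_index_mem (MulAction.stabilizer (P : Subgroup G) ω) g
      rwa [hidx] at h2
    rw [MulAction.mem_stabilizer_iff] at h1
    rw [one_smul]
    exact h1
  exact orderOf_eq_prime hgp hg1


/-- If a finite group acts faithfully and transitively on a set with m·p elements, where p is a prime and 1 ≤ m ≤ p, then some element of order p fixes no point. -/
theorem result {G Ω : Type*} [Group G] [Finite G] [MulAction G Ω] [FaithfulSMul G Ω] [Fintype Ω] (htr : MulAction.IsPretransitive G Ω)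
    (p m : ℕ) (hp : p.Prime) (hm : 1 ≤ m) (hmp : m ≤ p) (hΩ : Fintype.card Ω = m * p) :
    ∃ g : G, orderOf g = p ∧ ∀ ω : Ω, g • ω ≠ ω := by
  have := Fact.mk hp
  rcases Nat.lt_or_ge m p with h | h
  · exact small_case p m hm h hΩ
  · have hmp' : m = p := le_antisymm hmp h
    subst hmp'
    exact S5726.exists_derangement m 2 (by norm_num) (by rw [Nat.card_eq_fintype_card, hΩ, sq])

end Cfsg.Agent.S5727
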