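import Cfsg.Statements.S5728
-- import your own Cfsg.Agent.* helpers here

set_option autoImplicit false
open Cfsg

namespace Cfsg.Agent.S5728

section helpers

variable {K : Type*} [Field K]

/-- Scalars of multiplicative order dividing `p - 1` or `2` lie in the prime field. -/
theorem exists_zmod (p s : ℕ) [Fact p.Prime] [CharP K p] [Algebra (ZMod p) K] [Finite K]
    (hs : p = 2 ^ s - 1) (hcard : Nat.card K = p ^ 2)
    (a : K) (ha1 : a ≠ 1) (r : ℕ) (hr : r.Prime) (har : a ^ r = 1) :
    ∃ a₀ : ZMod p, a₀ ≠ 0 ∧ algebraMap (ZMod p) K a₀ = a := by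
  have hp : p.Prime := Fact.out
  have ha0 : a ≠ 0 := by
    rintro rfl
    rw [zero_pow hr.ne_zero] at har
    exact zero_ne_one har
  have hord : orderOf a = r := by
    have h1 : orderOf a ∣ r := orderOf_dvd_of_pow_eq_one har
    rcases (Nat.dvd_prime hr).mp h1 with h | h
    · exact absurd (orderOf_eq_one_iff.mp h) ha1
    · exact h
  have hcardU : Nat.card Kˣ = p ^ 2 - 1 := by rw [Nat.card_units, hcard]
  have hdvd : r ∣ p ^ 2 - 1 := by
    have h3 : orderOf (Units.mk0 a ha0) = orderOf a := by rw [← orderOf_units, Units.val_mk0]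
    rw [← hcardU, ← hord, ← h3]
    exact orderOf_dvd_natCard _
  have h2s : p + 1 = 2 ^ s := by
    have := Nat.one_le_two_pow (n := s)
    omega
  have hfac : p ^ 2 - 1 = (p - 1) * 2 ^ s := by
    rw [← h2s]
    obtain ⟨q, rfl⟩ : ∃ q, p = q + 1 := ⟨p - 1, by have := hp.two_le; omega⟩
    simp only [Nat.add_sub_cancel]
    have : (q + 1) ^ 2 = q * (q + 1 + 1) + 1 := by ring
    omega
  rw [hfac] at hdvd
  rcases (Nat.Prime.dvd_mul hr).mp hdvd with h | h
  · -- r ∣ p - 1
    obtain ⟨k, hk⟩ := h
    have h1 : a ^ (p - 1) = 1 := by rw [hk, pow_mul, har, one_pow]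
    have h2 : a ^ p = a := by
      have : p = (p - 1) + 1 := by have := hp.two_le; omega
      rw [this, pow_succ, h1, one_mul]
    have h3 : a ∈ (⊥ : Subfield K) := (Subfield.mem_bot_iff_pow_eq_self K p).mpr h2
    obtain ⟨n, hn⟩ := (mem_bot_iff_intCast p K).mp h3
    refine ⟨(n : ZMod p), ?_, ?_⟩
    · intro h0
      apply ha0
      rw [← hn]
      have := congrArg (algebraMap (ZMod p) K) h0
      rwa [map_intCast, map_zero] at this
    · rw [map_intCast, hn]
  · -- r = 2
    have hr2 : r = 2 := by
      have := (Nat.prime_dvd_prime_iff_eq hr Nat.prime_two).mp (hr.dvd_of_dvd_pow h)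
      exact this
    subst hr2
    have h1 : a = 1 ∨ a = -1 := mul_self_eq_one_iff.mp (by rw [← sq]; exact har)
    rcases h1 with h1 | h1
    · exact absurd h1 ha1
    · refine ⟨-1, ?_, ?_⟩
      · exact neg_ne_zero.mpr one_ne_zero
      · rw [map_neg, map_one, h1]

/-- Conjugating an affine map with a fixed point to a linear one, and translations to `y + 1`. -/
theorem exists_conj (g : Equiv.Perm K) (a : Kˣ) (b : K) (hab : ∀ x, g x = (a : K) * x + b)
    (hg1 : g ≠ 1) :
    ∃ x ∈ Cfsg.affineGroup K, ((a : K) = 1 ∧ ∀ y, (x * g * x⁻¹) y = y + 1) ∨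
      ((a : K) ≠ 1 ∧ ∀ y, (x * g * x⁻¹) y = (a : K) * y) := by
  by_cases ha : (a : K) = 1
  · have hb : b ≠ 0 := by
      rintro rfl
      apply hg1
      ext y
      simp [hab, ha]
    let x : Equiv.Perm K :=
      { toFun := fun y => b⁻¹ * y
        invFun := fun y => b * y
        left_inv := fun y => by field_simp
        right_inv := fun y => by field_simp }
    refine ⟨x, ⟨Units.mk0 b⁻¹ (inv_ne_zero hb), 0, fun y => by simp [x]⟩,
      Or.inl ⟨ha, fun y => ?_⟩⟩
    show x (g (x.symm y)) = y + 1
    rw [hab, ha]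
    show b⁻¹ * (1 * (b * y) + b) = y + 1
    field_simp
  · have h1a : 1 - (a : K) ≠ 0 := sub_ne_zero.mpr (Ne.symm ha)
    let x : Equiv.Perm K :=
      { toFun := fun y => y - b / (1 - (a : K))
        invFun := fun y => y + b / (1 - (a : K))
        left_inv := fun y => by ring
        right_inv := fun y => by ring }
    refine ⟨x, ⟨1, -(b / (1 - (a : K))), fun y => by simp [x, sub_eq_add_neg]⟩,
      Or.inr ⟨ha, fun y => ?_⟩⟩
    show x (g (x.symm y)) = (a : K) * y
    rw [hab]
    show (a : K) * (y + b / (1 - (a : K))) + b - b / (1 - (a : K)) = (a : K) * y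
    field_simp
    ring

theorem pow_linear (h : Equiv.Perm K) (a : K) (hh : ∀ y, h y = a * y) (k : ℕ) (y : K) :
    (h ^ k) y = a ^ k * y := by
  induction k generalizing y with
  | zero => simp
  | succ k ih => rw [pow_succ, Equiv.Perm.coe_mul, Function.comp_apply, hh, ih, pow_succ]; ring

end helpers


/-- An elusive transitive action. Let p = 2^s − 1 be a prime and let F be the field with p² elements. Inside the group of affine maps x ↦ a·x + b of F (a ≠ 0), consider the subgroup of maps with both coefficients in the prime field. Then every element of prime order of the affine group is conjugate, within the affine group, to an element of that subgroup; equivalently, in the transitive action of the affine group on the cosets of that subgroup (of degree p(p + 1)) every element of prime order fixes a point. -/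
theorem result (p s : ℕ) [Fact p.Prime] (hs : p = 2 ^ s - 1)
    (g : Equiv.Perm (GaloisField p 2)) (hg : g ∈ Cfsg.affineGroup (GaloisField p 2)) (hord : (orderOf g).Prime) :
    ∃ x ∈ Cfsg.affineGroup (GaloisField p 2), ∃ a b : ZMod p, a ≠ 0 ∧
      ∀ y : GaloisField p 2, (x * g * x⁻¹) y = algebraMap (ZMod p) (GaloisField p 2) a * y + algebraMap (ZMod p) (GaloisField p 2) b := by
  obtain ⟨a, b, hab⟩ := hg
  have hg1 : g ≠ 1 := by
    rintro rfl
    rw [orderOf_one] at hord
    exact Nat.not_prime_one hord
  obtain ⟨x, hx, h | h⟩ := exists_conj g a b hab hg1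
  · refine ⟨x, hx, 1, 1, one_ne_zero, fun y => ?_⟩
    rw [h.2, map_one, one_mul]
  · have har : (a : GaloisField p 2) ^ orderOf g = 1 := by
      have h1 := pow_linear (x * g * x⁻¹) a h.2 (orderOf g) 1
      rw [conj_pow, pow_orderOf_eq_one, mul_one, mul_inv_cancel, Equiv.Perm.one_apply, mul_one] at h1
      exact h1.symm
    obtain ⟨a₀, ha₀, ha₀'⟩ := exists_zmod p s hs (GaloisField.card p 2 (by norm_num)) (a : GaloisField p 2)
      h.1 (orderOf g) hord har
    refine ⟨x, hx, a₀, 0, ha₀, fun y => ?_⟩
    rw [h.2, ha₀', map_zero, add_zero]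

end Cfsg.Agent.S5728
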