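import Cfsg.Statements.S5886
import Mathlib
import Cfsg.Agent.Lib.Helper40.GFTop
import Cfsg.Agent.Lib.Helper40.GFAbs
import Cfsg.Agent.Lib.Helper89.GFPSI
import Cfsg.Agent.Lib.Helper60.GFSTART
import Cfsg.Agent.Lib.Helper16.GFREDUCE
import Cfsg.Agent.Lib.Helper89.GFSEP
import Cfsg.Agent.Lib.Helper29.GFFL2
import Cfsg.Agent.Lib.Helper71.GFRANK1
import Cfsg.Agent.Lib.Helper53.GFK3
import Cfsg.Agent.Lib.Helper14.GFK2COMM
import Cfsg.Agent.Lib.Helper93.GFK2EXT
import Cfsg.Agent.Lib.Helper28.GFSPAN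
import Cfsg.Agent.Lib.Helper93.GFK2A
import Cfsg.Agent.Lib.Helper59.GFK2B
import Cfsg.Agent.Lib.Helper29.GFALG2
import Cfsg.Agent.Lib.Helper67.GFR2SPECIAL
import Cfsg.Agent.Lib.Helper85.GFZ3
import Cfsg.Agent.Lib.Helper60.GFGLTRANS
import Cfsg.Agent.Lib.Helper30.GFALL1A
import Cfsg.Agent.Lib.Helper57.GFALL1B
import Cfsg.Agent.Lib.Helper53.GFALL2
import Cfsg.Agent.Lib.Helper89.GFSPREAD
import Cfsg.Agent.Lib.Helper8.GFCOORD
import Cfsg.Agent.Lib.Helper52.GFDUALREP
import Cfsg.Agent.Lib.Helper28.GFDETSURJ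
import Cfsg.Agent.Lib.Helper75.GFZ2
import Cfsg.Agent.Lib.Helper71.GFZ1B

set_option autoImplicit false
open Cfsg

namespace Cfsg.Agent.S5886

/-- Let F be a finite field, n a positive integer and r a prime that divides n with r < n. Let K be a subalgebra of the algebra of n × n matrices over F which is a field of degree r over F (commutative, every non-zero element invertible, of dimension r over F; it contains the scalars). Then the normaliser N of K in GL_n(F) — the invertible F-linear maps that are semilinear over the field K, a group of type ΓL_{n/r}(F_{q^r}) for |F| = q — is a maximal subgroup of GL_n(F), and N ∩ SL_n(F) is a maximal subgroup of SL_n(F). No lower bound on n is assumed. -/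
theorem result {F : Type*} [Field F]
    [Fintype F] (n r : ℕ) (hr : r.Prime) (hrn : r ∣ n) (hlt : r < n) (K : Subalgebra F (Matrix (Fin n) (Fin n) F))
    (hK : Cfsg.Geo.IsFieldSubalgebra r K) :
    IsCoatom (Cfsg.Geo.subalgebraNormalizer K) ∧
      Cfsg.Geo.IsMaximalIn (Cfsg.Geo.specialLinear (Fin n) F)
        (Cfsg.Geo.subalgebraNormalizer K ⊓ Cfsg.Geo.specialLinear (Fin n) F) := by
  exact Cfsg.Agent.Lib.Helper40.GFTop.top
    (Cfsg.Agent.Lib.Helper40.GFAbs.abs_main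
      Cfsg.Agent.Lib.Helper89.GFPSI.main
      Cfsg.Agent.Lib.Helper60.GFSTART.main
      (Cfsg.Agent.Lib.Helper16.GFREDUCE.main Cfsg.Agent.Lib.Helper89.GFSEP.main
        Cfsg.Agent.Lib.Helper29.GFFL2.main)
      (Cfsg.Agent.Lib.Helper71.GFRANK1.main Cfsg.Agent.Lib.Helper89.GFSEP.main)
      Cfsg.Agent.Lib.Helper53.GFK3.main
      Cfsg.Agent.Lib.Helper14.GFK2COMM.main
      (Cfsg.Agent.Lib.Helper93.GFK2EXT.main Cfsg.Agent.Lib.Helper28.GFSPAN.main)
      Cfsg.Agent.Lib.Helper93.GFK2A.main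
      Cfsg.Agent.Lib.Helper59.GFK2B.main
      Cfsg.Agent.Lib.Helper29.GFALG2.main
      Cfsg.Agent.Lib.Helper67.GFR2SPECIAL.main
      (Cfsg.Agent.Lib.Helper85.GFZ3.main Cfsg.Agent.Lib.Helper89.GFSPREAD.main
        Cfsg.Agent.Lib.Helper75.GFZ2.main)
      (Cfsg.Agent.Lib.Helper71.GFZ1B.main Cfsg.Agent.Lib.Helper60.GFGLTRANS.main)
      Cfsg.Agent.Lib.Helper30.GFALL1A.main
      (Cfsg.Agent.Lib.Helper57.GFALL1B.main Cfsg.Agent.Lib.Helper28.GFSPAN.main)
      Cfsg.Agent.Lib.Helper53.GFALL2.main)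
    Cfsg.Agent.Lib.Helper89.GFSPREAD.main
    Cfsg.Agent.Lib.Helper8.GFCOORD.main
    Cfsg.Agent.Lib.Helper52.GFDUALREP.main
    Cfsg.Agent.Lib.Helper28.GFDETSURJ.main
    n r hr hlt K hK

end Cfsg.Agent.S5886
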