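import Cfsg.Statements.S5938
import Cfsg.Agent.Lib.Helper98.PSL2Max
import Cfsg.Agent.Lib.Helper5.SL2Card
import Cfsg.Agent.S0803

set_option autoImplicit false
open Cfsg

namespace Cfsg.Agent.S5938

open Cfsg.Agent.Lib.Helper98.PSL2Max

lemma seven_le {n : ℕ} (hn : n.Prime) (h : n % 8 = 1 ∨ n % 8 = 7) : 7 ≤ n := by
  by_contra hlt
  push Not at hlt
  interval_cases n <;> simp_all (config := {decide := true})

lemma sq_mod {n : ℕ} (h : n % 8 = 1 ∨ n % 8 = 7) : n ^ 2 % 16 = 1 := by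
  rw [Nat.pow_mod]
  have : n % 16 = 1 ∨ n % 16 = 7 ∨ n % 16 = 9 ∨ n % 16 = 15 := by omega
  rcases this with h | h | h | h <;> rw [h]

lemma not_comm_sq : ¬ ∀ a b : Equiv.Perm (Fin 4), a ^ 2 * b ^ 2 = b ^ 2 * a ^ 2 := by
  intro h
  exact absurd (h (Equiv.swap 0 1 * Equiv.swap 1 2) (Equiv.swap 0 1 * Equiv.swap 1 3)) (by decide)

/-- Let p be a prime with p ≡ ±1 (mod 8) and F a field with p elements. Then PSL_2(F) has a maximal subgroup isomorphic to the symmetric group S_4. -/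
theorem result {F : Type*} [Field F] [Fintype F] (p : ℕ) [Fact p.Prime] (hF : Fintype.card F = p) (hp : p % 8 = 1 ∨ p % 8 = 7) : ∃ H : Subgroup (Matrix.ProjectiveSpecialLinearGroup (Fin 2) F), IsCoatom H ∧ Nonempty (H ≃* Equiv.Perm (Fin 4)) := by
  classical
  have hpp : p.Prime := Fact.out
  haveI : CharP F p := charP_of_card_eq_prime hF
  have hp7 : 7 ≤ p := seven_le hpp hp
  have h2 : (2 : F) ≠ 0 := by
    intro h
    have h' : ((2 : ℕ) : F) = 0 := by exact_mod_cast h
    rw [CharP.cast_eq_zero_iff F p] at h'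
    have := Nat.le_of_dvd (by norm_num) h'
    omega
  obtain ⟨M, ⟨e⟩⟩ := (Cfsg.Agent.S0803.result hF).2 (sq_mod hp)
  refine ⟨M, ?_, ⟨e⟩⟩
  have hcardM : Nat.card M = 24 := by
    rw [Nat.card_congr e.toEquiv, Nat.card_eq_fintype_card, Fintype.card_perm, Fintype.card_fin]
    rfl
  have hG := Cfsg.Agent.Lib.Helper5.SL2Card.card_PSL_two hF
  have hgcd : Nat.gcd 2 (p - 1) = 2 := Nat.gcd_eq_left (by omega)
  rw [hgcd] at hG
  have hGbig : 24 < Nat.card (Matrix.ProjectiveSpecialLinearGroup (Fin 2) F) := by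
    have h49 : 7 ^ 2 ≤ p ^ 2 := Nat.pow_le_pow_left hp7 2
    have : 7 * 48 ≤ p * (p ^ 2 - 1) := Nat.mul_le_mul hp7 (by omega)
    omega
  have hsq : ¬ ∀ s ∈ M, ∀ t ∈ M, s ^ 2 * t ^ 2 = t ^ 2 * s ^ 2 := by
    intro h
    apply not_comm_sq
    intro a b
    have h1 := h (e.symm a) (e.symm a).2 (e.symm b) (e.symm b).2
    have h2 : (e.symm a) ^ 2 * (e.symm b) ^ 2 = (e.symm b) ^ 2 * (e.symm a) ^ 2 :=
      Subtype.ext (by simpa using h1)
    have h3 := congrArg e h2
    simpa using h3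
  have hpM : ¬ p ∣ 2 * Nat.card M := by
    rw [hcardM]
    intro h
    have := prime_le_three_of_dvd (a := 4) hpp (by simpa using h)
    omega
  haveI : Finite (Matrix.SpecialLinearGroup (Fin 2) F) := finite_SL
  constructor
  · intro htop
    have : Nat.card M = Nat.card (Matrix.ProjectiveSpecialLinearGroup (Fin 2) F) := by
      rw [htop]; exact Subgroup.card_top
    omega
  · intro L hlt
    rcases psl_overgroup p h2 M L hlt.le hsq hpM with h | h | h | ⟨g, a, c, ha, hc, hu, hl⟩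
    · exfalso
      have := Subgroup.card_le_of_le hlt.le
      omega
    · exfalso
      exact hlt.ne (Subgroup.eq_of_le_of_card_ge hlt.le (by omega))
    · exfalso
      have := Subgroup.card_dvd_of_le hlt.le
      rw [hcardM, h] at this
      omega
    · exact eq_top_of_prime_psl p hpp (by rw [Nat.card_eq_fintype_card, hF]) L g a c ha hc hu hl

end Cfsg.Agent.S5938
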