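import Cfsg.Statements.S5972
import Mathlib
import Cfsg.Agent.Lib.Helper44.TSFin
import Cfsg.Agent.Lib.Helper78.HypIPOS
import Cfsg.Agent.Lib.Helper78.HypNDARITH
import Cfsg.Agent.Lib.Helper78.HypTOPND
import Cfsg.Agent.Lib.Helper78.HypFIXND
import Cfsg.Agent.Lib.Helper29.HypDIMOBS
import Cfsg.Agent.Lib.Helper82.HypINVDIM
import Cfsg.Agent.Lib.Helper82.HypPERP
import Cfsg.Agent.Lib.Helper8.HypTYPEODD
import Cfsg.Agent.Lib.Helper38.HypTYPEEVEN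
import Cfsg.Agent.Lib.Helper59.HypDERELT
import Cfsg.Agent.Lib.Helper43.HypBFE
import Cfsg.Agent.Lib.Helper43.HypBFO
import Cfsg.Agent.Lib.Helper37.HypBLOCKS
import Cfsg.Agent.Lib.Helper24.TSCNTID
import Cfsg.Agent.Lib.Helper31.TSB1E
import Cfsg.Agent.Lib.Helper31.TSINVPAR
import Cfsg.Agent.Lib.Helper34.TSB2A
import Cfsg.Agent.Lib.Helper34.TSB2B
import Cfsg.Agent.Lib.Helper35.TSNUMTYPES
import Cfsg.Agent.Lib.Helper37.TSSINGCNT
import Cfsg.Agent.Lib.Helper37.TSTSEVEN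
import Cfsg.Agent.Lib.Helper4.TSFREXT
import Cfsg.Agent.Lib.Helper4.TSFRFIB
import Cfsg.Agent.Lib.Helper59.TSMULTELT
import Cfsg.Agent.Lib.Helper60.TSINVBAD
import Cfsg.Agent.Lib.Helper66.TSBLOCKSK
import Cfsg.Agent.Lib.Helper66.TSINVGOOD
import Cfsg.Agent.Lib.Helper66.TSPAIRFIND
import Cfsg.Agent.Lib.Helper76.TSTYPEOF
import Cfsg.Agent.Lib.Helper8.TSHALFODD
import Cfsg.Agent.Lib.Helper8.TSTSIN
import Cfsg.Agent.Lib.Helper93.TSSPININV
import Cfsg.Agent.Lib.Helper97.TSINVDEC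
import Cfsg.Agent.Lib.Helper97.TSORTHSUM
import Cfsg.Agent.Lib.Helper97.TSPAIRE
import Cfsg.Agent.Lib.Helper97.TSRIMG
import Cfsg.Agent.Lib.Helper97.TSSUBPERP
import Cfsg.Agent.Lib.Helper97.TSTSHALF
import Cfsg.Agent.Lib.Helper98.TSB1O

set_option autoImplicit false
open scoped MatrixGroups
open Cfsg

namespace Cfsg.Agent.S5972


universe u

open Cfsg.Agent.Lib.Helper37.HypStmt Cfsg.Agent.Lib.Helper37.HypStmt2 Cfsg.Agent.Lib.Helper44.TSStmt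

theorem hBFE : BlockFindE.{u} :=
  Cfsg.Agent.Lib.Helper43.HypBFE.main Cfsg.Agent.Lib.Helper82.HypINVDIM.main

theorem hBFO : BlockFindO.{u} :=
  Cfsg.Agent.Lib.Helper43.HypBFO.main Cfsg.Agent.Lib.Helper82.HypINVDIM.main

theorem hBlocks : Blocks.{u} :=
  Cfsg.Agent.Lib.Helper37.HypBLOCKS.main Cfsg.Agent.Lib.Helper78.HypFIXND.main Cfsg.Agent.Lib.Helper82.HypPERP.main hBFE hBFO

theorem hSingCnt : SingCnt.{u} :=
  Cfsg.Agent.Lib.Helper37.TSSINGCNT.main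

theorem hFrFib : FrFib.{u} :=
  Cfsg.Agent.Lib.Helper4.TSFRFIB.main

theorem hFrExt : FrExt.{u} :=
  Cfsg.Agent.Lib.Helper4.TSFREXT.main hSingCnt

theorem hCntId : CntId.{u} :=
  Cfsg.Agent.Lib.Helper24.TSCNTID.main hFrFib hFrExt

theorem hRImg : RImg.{u} :=
  Cfsg.Agent.Lib.Helper97.TSRIMG.main

theorem hTsHalf : TsHalf.{u} :=
  Cfsg.Agent.Lib.Helper97.TSTSHALF.main

theorem hTsIn : TsIn.{u} :=
  Cfsg.Agent.Lib.Helper8.TSTSIN.main

theorem hOrthSum : OrthSum.{u} :=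
  Cfsg.Agent.Lib.Helper97.TSORTHSUM.main

theorem hSubPerp : SubPerp.{u} :=
  Cfsg.Agent.Lib.Helper97.TSSUBPERP.main

theorem hInvDec : InvDec.{u} :=
  Cfsg.Agent.Lib.Helper97.TSINVDEC.main Cfsg.Agent.Lib.Helper78.HypTOPND.main

theorem hB2A : B2A.{u} :=
  Cfsg.Agent.Lib.Helper34.TSB2A.main Cfsg.Agent.Lib.Helper78.HypIPOS.main Cfsg.Agent.Lib.Helper59.HypDERELT.main Cfsg.Agent.Lib.Helper78.HypFIXND.main Cfsg.Agent.Lib.Helper82.HypINVDIM.main hTsHalf hRImg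

theorem hNumTypes : NumTypes.{u} :=
  Cfsg.Agent.Lib.Helper35.TSNUMTYPES.main

theorem hMultElt : MultElt.{u} :=
  Cfsg.Agent.Lib.Helper59.TSMULTELT.main

theorem hB2B : B2B.{u} :=
  Cfsg.Agent.Lib.Helper34.TSB2B.main Cfsg.Agent.Lib.Helper78.HypIPOS.main hMultElt Cfsg.Agent.Lib.Helper78.HypFIXND.main hTsHalf hRImg

theorem hHalfOdd : HalfOdd.{u} :=
  Cfsg.Agent.Lib.Helper8.TSHALFODD.main

theorem hB1O : B1O.{u} :=
  Cfsg.Agent.Lib.Helper98.TSB1O.main Cfsg.Agent.Lib.Helper78.HypIPOS.main Cfsg.Agent.Lib.Helper78.HypTOPND.main Cfsg.Agent.Lib.Helper78.HypFIXND.main Cfsg.Agent.Lib.Helper29.HypDIMOBS.main hBlocks hHalfOdd hTsIn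

theorem hTypeOf : TypeOf.{u} :=
  Cfsg.Agent.Lib.Helper76.TSTYPEOF.main Cfsg.Agent.Lib.Helper82.HypINVDIM.main

theorem hPairE : PairE.{u} :=
  Cfsg.Agent.Lib.Helper97.TSPAIRE.main

theorem hBlocksK : BlocksK.{u} :=
  Cfsg.Agent.Lib.Helper66.TSBLOCKSK.main hSubPerp hBFE

theorem hPairFind : PairFind.{u} :=
  Cfsg.Agent.Lib.Helper66.TSPAIRFIND.main Cfsg.Agent.Lib.Helper78.HypIPOS.main hNumTypes hTypeOf hPairE hOrthSum hBlocksK

theorem hTsEven : TsEven.{u} :=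
  Cfsg.Agent.Lib.Helper37.TSTSEVEN.main Cfsg.Agent.Lib.Helper78.HypFIXND.main Cfsg.Agent.Lib.Helper82.HypPERP.main hOrthSum hPairFind

theorem hB1E : B1E.{u} :=
  Cfsg.Agent.Lib.Helper31.TSB1E.main Cfsg.Agent.Lib.Helper78.HypIPOS.main Cfsg.Agent.Lib.Helper78.HypTOPND.main Cfsg.Agent.Lib.Helper78.HypFIXND.main Cfsg.Agent.Lib.Helper29.HypDIMOBS.main hTsEven hTsIn

theorem hInvPar : InvPar.{u} :=
  Cfsg.Agent.Lib.Helper31.TSINVPAR.main

theorem hSpinInv : SpinInv.{u} :=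
  Cfsg.Agent.Lib.Helper93.TSSPININV.main hInvDec hInvPar

theorem hInvGood : InvGood.{u} :=
  Cfsg.Agent.Lib.Helper66.TSINVGOOD.main hInvDec hInvPar hSpinInv hTsIn

theorem hInvBad : InvBad.{u} :=
  Cfsg.Agent.Lib.Helper60.TSINVBAD.main hInvDec hTsHalf



/-- Elements of prime order of Ω_n(q), n = 2d+1 ≥ 7, q odd, with no fixed totally singular `m`-space. Here `T = Ω_n(q)` is realised as the commutator subgroup of the isometry group of the quadratic form `x₀² + Σ xᵢyᵢ` over the field `F` with `q` elements (it has trivial centre, so its elements of prime order `r` are used directly); let `1 ≤ m ≤ d` and let `r` be a prime dividing the number of totally singular `m`-spaces. For `r ≠ p` let `i` be the multiplicative order of `q` modulo `r`, `c = i` for `i` even and `c = 2i` for `i` odd, and write `k = n mod c`, `ℓ = m mod i`, `n' = ⌊n/i⌋`, `m' = ⌊m/i⌋`, `t = (r−1)/i`. Then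 every element of `T` of order `r` fixes some totally singular `m`-space if and only if either (i) `r = 2` and (`m < (n−1)/2` or `q ≡ 1 (mod 4)`); or (ii) `r ≠ p` is odd, `i ≤ m`, `k > 2ℓ`, and (`i` is odd or `n' − 2m' ≥ t`). -/
theorem result {F : Type*} [Field F] [Fintype F] {p : ℕ} [Fact p.Prime] [CharP F p] {q : ℕ} (hq : Fintype.card F = q) (hqodd : Odd q)
    (d m : ℕ) (hd : 3 ≤ d) (hm : 1 ≤ m) (hmd : m ≤ d)
    (r : ℕ) [Fact r.Prime]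
    (hrΩ : r ∣ Nat.card {W : Submodule F (Unit ⊕ (Fin d ⊕ Fin d) → F) // Module.finrank F ↥W = m ∧ (∀ w ∈ W, Cfsg.quadFormOdd d F w = 0)})
    (i c : ℕ) (hi : i = orderOf (q : ZMod r)) (hc : c = if Even i then i else 2 * i) :
    (∀ x : GL (Unit ⊕ (Fin d ⊕ Fin d)) F, x ∈ Cfsg.Geo.omegaGL (Cfsg.quadFormOdd d F) → orderOf x = r →
      ∃ W : Submodule F (Unit ⊕ (Fin d ⊕ Fin d) → F), Module.finrank F ↥W = m ∧ (∀ w ∈ W, Cfsg.quadFormOdd d F w = 0) ∧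
        W.map (Matrix.toLin' (x : Matrix (Unit ⊕ (Fin d ⊕ Fin d)) (Unit ⊕ (Fin d ⊕ Fin d)) F)) ≤ W) ↔
    ((r = 2 ∧ (m < d ∨ q % 4 = 1)) ∨
     (r ≠ p ∧ 2 < r ∧ i ≤ m ∧ 2 * (m % i) < (2 * d + 1) % c ∧ (Odd i ∨ (r - 1) / i + 2 * (m / i) ≤ (2 * d + 1) / i))) := by
  exact Cfsg.Agent.Lib.Helper44.TSFin.final Cfsg.Agent.Lib.Helper78.HypIPOS.main Cfsg.Agent.Lib.Helper78.HypNDARITH.main hCntId hB1O hB1E hB2A hB2B
    hInvGood hInvBad hq hqodd d m hd hm hmd r hrΩ i c hi hc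

end Cfsg.Agent.S5972
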