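import Cfsg.Statements.S5973
import Mathlib
import Cfsg.Agent.Lib.Helper44.TPFin
import Cfsg.Agent.Lib.Helper78.HypIPOS
import Cfsg.Agent.Lib.Helper35.TSNUMTYPES
import Cfsg.Agent.Lib.Helper1.TPSQNEG1
import Cfsg.Agent.Lib.Helper11.TPCANCEL
import Cfsg.Agent.Lib.Helper11.TPG1O
import Cfsg.Agent.Lib.Helper13.TPINVPAR
import Cfsg.Agent.Lib.Helper13.TPTSEVEN
import Cfsg.Agent.Lib.Helper16.TPHALFODD
import Cfsg.Agent.Lib.Helper16.TPTSIN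
import Cfsg.Agent.Lib.Helper20.TPINVSUB
import Cfsg.Agent.Lib.Helper20.TPSQNEG3
import Cfsg.Agent.Lib.Helper21.TPPERP
import Cfsg.Agent.Lib.Helper21.TPRIMG
import Cfsg.Agent.Lib.Helper21.TPSUBPERP
import Cfsg.Agent.Lib.Helper21.TPTSHALF
import Cfsg.Agent.Lib.Helper33.TPINVGOOD1
import Cfsg.Agent.Lib.Helper37.TPSINGCNT
import Cfsg.Agent.Lib.Helper4.TPFREXT
import Cfsg.Agent.Lib.Helper4.TPFRFIB
import Cfsg.Agent.Lib.Helper47.TPTOP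
import Cfsg.Agent.Lib.Helper47.TPTSEX
import Cfsg.Agent.Lib.Helper48.TPB2EVEN
import Cfsg.Agent.Lib.Helper48.TPBADC
import Cfsg.Agent.Lib.Helper48.TPORTHSUM
import Cfsg.Agent.Lib.Helper5.TPINVBAD2
import Cfsg.Agent.Lib.Helper53.TPFIXND
import Cfsg.Agent.Lib.Helper53.TPINVDIM
import Cfsg.Agent.Lib.Helper59.TPMULTELT
import Cfsg.Agent.Lib.Helper6.TPNDARITH
import Cfsg.Agent.Lib.Helper6.TPPROJ
import Cfsg.Agent.Lib.Helper6.TPTSEXT
import Cfsg.Agent.Lib.Helper60.TPINVBAD1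
import Cfsg.Agent.Lib.Helper63.TPSQNEGTS
import Cfsg.Agent.Lib.Helper65.TPINVGOOD
import Cfsg.Agent.Lib.Helper66.TPBLOCKSK
import Cfsg.Agent.Lib.Helper66.TPINVDEC
import Cfsg.Agent.Lib.Helper66.TPPAIRFIND
import Cfsg.Agent.Lib.Helper70.TPBADA
import Cfsg.Agent.Lib.Helper70.TPBADB
import Cfsg.Agent.Lib.Helper70.TPBADD
import Cfsg.Agent.Lib.Helper70.TPFXTYPE
import Cfsg.Agent.Lib.Helper8.TPELTDIM
import Cfsg.Agent.Lib.Helper85.TPBFE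
import Cfsg.Agent.Lib.Helper85.TPTYPEOF
import Cfsg.Agent.Lib.Helper86.TPCNTID
import Cfsg.Agent.Lib.Helper86.TPG1E
import Cfsg.Agent.Lib.Helper90.TPTYPEEVEN
import Cfsg.Agent.Lib.Helper91.TPODDOMEGA
import Cfsg.Agent.Lib.Helper93.TPSPININV
import Cfsg.Agent.Lib.Helper95.TPB2LOW
import Cfsg.Agent.Lib.Helper95.TPB2ODD
import Cfsg.Agent.Lib.Helper97.TPPAIRE

set_option autoImplicit false
open scoped MatrixGroups
open Cfsg

namespace Cfsg.Agent.S5973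


universe u

open Cfsg.Agent.Lib.Helper44.TPStmt

theorem hTop : Top.{u} :=
  Cfsg.Agent.Lib.Helper47.TPTOP.main

theorem hTsEx : TsEx.{u} :=
  Cfsg.Agent.Lib.Helper47.TPTSEX.main

theorem hFixND : FixND.{u} :=
  Cfsg.Agent.Lib.Helper53.TPFIXND.main hTop

theorem hInvDim : InvDim.{u} :=
  Cfsg.Agent.Lib.Helper53.TPINVDIM.main

theorem hPerp : Perp.{u} :=
  Cfsg.Agent.Lib.Helper21.TPPERP.main hTop

theorem hRImg : RImg.{u} :=
  Cfsg.Agent.Lib.Helper21.TPRIMG.main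

theorem hTsHalf : TsHalf.{u} :=
  Cfsg.Agent.Lib.Helper21.TPTSHALF.main

theorem hTsIn : TsIn.{u} :=
  Cfsg.Agent.Lib.Helper16.TPTSIN.main

theorem hOrthSum : OrthSum.{u} :=
  Cfsg.Agent.Lib.Helper48.TPORTHSUM.main

theorem hSubPerp : SubPerp.{u} :=
  Cfsg.Agent.Lib.Helper21.TPSUBPERP.main

theorem hCancel : Cancel.{u} :=
  Cfsg.Agent.Lib.Helper11.TPCANCEL.main

theorem hTypeEven : TypeEven.{u} :=
  Cfsg.Agent.Lib.Helper90.TPTYPEEVEN.main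

theorem hHalfOdd : HalfOdd.{u} :=
  Cfsg.Agent.Lib.Helper16.TPHALFODD.main

theorem hInvSub : InvSub.{u} :=
  Cfsg.Agent.Lib.Helper20.TPINVSUB.main hInvDim

theorem hFxType : FxType.{u} :=
  Cfsg.Agent.Lib.Helper70.TPFXTYPE.main hTop hFixND hPerp hHalfOdd hTypeEven hCancel

theorem hBFE : BlockFindE.{u} :=
  Cfsg.Agent.Lib.Helper85.TPBFE.main

theorem hBlocksK : BlocksK.{u} :=
  Cfsg.Agent.Lib.Helper66.TPBLOCKSK.main hSubPerp hBFE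

theorem hTypeOf : TypeOf.{u} :=
  Cfsg.Agent.Lib.Helper85.TPTYPEOF.main hInvDim

theorem hPairE : PairE.{u} :=
  Cfsg.Agent.Lib.Helper97.TPPAIRE.main

theorem hPairFind : PairFind.{u} :=
  Cfsg.Agent.Lib.Helper66.TPPAIRFIND.main Cfsg.Agent.Lib.Helper78.HypIPOS.main Cfsg.Agent.Lib.Helper35.TSNUMTYPES.main hTypeOf hPairE hOrthSum hBlocksK

theorem hTsEven : TsEven.{u} :=
  Cfsg.Agent.Lib.Helper13.TPTSEVEN.main hFixND hPerp hOrthSum hPairFind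

theorem hFrFib : FrFib.{u} :=
  Cfsg.Agent.Lib.Helper4.TPFRFIB.main

theorem hSingCnt : SingCnt.{u} :=
  Cfsg.Agent.Lib.Helper37.TPSINGCNT.main

theorem hFrExt : FrExt.{u} :=
  Cfsg.Agent.Lib.Helper4.TPFREXT.main hSingCnt

theorem hCntId : CntId.{u} :=
  Cfsg.Agent.Lib.Helper86.TPCNTID.main hFrFib hFrExt

theorem hNdArith : NdArith :=
  Cfsg.Agent.Lib.Helper6.TPNDARITH.main

theorem hOddOmega : OddOmega.{u} :=
  Cfsg.Agent.Lib.Helper91.TPODDOMEGA.main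

theorem hEltDim : EltDim.{u} :=
  Cfsg.Agent.Lib.Helper8.TPELTDIM.main hOddOmega

theorem hMultElt : MultElt.{u} :=
  Cfsg.Agent.Lib.Helper59.TPMULTELT.main hOddOmega

theorem hBadA : BadA.{u} :=
  Cfsg.Agent.Lib.Helper70.TPBADA.main hEltDim hFixND hTsHalf hRImg hInvDim

theorem hBadB : BadB.{u} :=
  Cfsg.Agent.Lib.Helper70.TPBADB.main Cfsg.Agent.Lib.Helper78.HypIPOS.main hEltDim hFixND hFxType hTsHalf hRImg hInvDim

theorem hBadC : BadC.{u} :=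
  Cfsg.Agent.Lib.Helper48.TPBADC.main hMultElt hFixND hTsHalf hRImg

theorem hBadD : BadD.{u} :=
  Cfsg.Agent.Lib.Helper70.TPBADD.main Cfsg.Agent.Lib.Helper78.HypIPOS.main hMultElt hFixND hFxType hTsHalf hRImg

theorem hB2Low : B2Low.{u} :=
  Cfsg.Agent.Lib.Helper95.TPB2LOW.main Cfsg.Agent.Lib.Helper78.HypIPOS.main hBadA hBadB

theorem hB2Odd : B2Odd.{u} :=
  Cfsg.Agent.Lib.Helper95.TPB2ODD.main Cfsg.Agent.Lib.Helper78.HypIPOS.main hBadA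

theorem hB2Even : B2Even.{u} :=
  Cfsg.Agent.Lib.Helper48.TPB2EVEN.main Cfsg.Agent.Lib.Helper78.HypIPOS.main hBadA hBadB hBadC hBadD

theorem hG1O : G1O.{u} :=
  Cfsg.Agent.Lib.Helper11.TPG1O.main Cfsg.Agent.Lib.Helper78.HypIPOS.main hFixND hPerp hInvDim hHalfOdd hInvSub hFxType

theorem hG1E : G1E.{u} :=
  Cfsg.Agent.Lib.Helper86.TPG1E.main Cfsg.Agent.Lib.Helper78.HypIPOS.main hFixND hPerp hInvDim hFxType hTsIn hTsEven

theorem hProj : Proj.{u} :=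
  Cfsg.Agent.Lib.Helper6.TPPROJ.main

theorem hInvDec : InvDec.{u} :=
  Cfsg.Agent.Lib.Helper66.TPINVDEC.main hTop

theorem hInvPar : InvPar.{u} :=
  Cfsg.Agent.Lib.Helper13.TPINVPAR.main

theorem hSpinInv : SpinInv.{u} :=
  Cfsg.Agent.Lib.Helper93.TPSPININV.main hInvDec hInvPar

theorem hInvGood1 : InvGood1.{u} :=
  Cfsg.Agent.Lib.Helper33.TPINVGOOD1.main hTop hInvDec hInvPar hSpinInv hTsIn hCancel

theorem hSqNeg1 : SqNeg1.{u} :=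
  Cfsg.Agent.Lib.Helper1.TPSQNEG1.main hTop hTsHalf

theorem hTsExt : TsExt.{u} :=
  Cfsg.Agent.Lib.Helper6.TPTSEXT.main hSingCnt

theorem hSqNegTS : SqNegTS.{u} :=
  Cfsg.Agent.Lib.Helper63.TPSQNEGTS.main hTsExt

theorem hSqNeg3 : SqNeg3.{u} :=
  Cfsg.Agent.Lib.Helper20.TPSQNEG3.main hTop hTsHalf hSqNegTS

theorem hInvGood : InvGood.{u} :=
  Cfsg.Agent.Lib.Helper65.TPINVGOOD.main hInvGood1 hSqNeg1 hSqNeg3

theorem hInvBad1 : InvBad1.{u} :=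
  Cfsg.Agent.Lib.Helper60.TPINVBAD1.main hTop hInvDec hCancel

theorem hInvBad2 : InvBad2.{u} :=
  Cfsg.Agent.Lib.Helper5.TPINVBAD2.main



/-- Elements of prime order of PΩ⁺_n(q), n = 2d ≥ 8, with no fixed totally singular `m`-space, `m < n/2`. Here `T = PΩ⁺_n(q)` is realised through `Ω⁺_n(q)`, the commutator subgroup of the isometry group of the quadratic form `Σ xᵢyᵢ` over the field `F` with `q` elements; an element of `T` of prime order `r` is an element `x` of `Ω⁺_n(q)` with `x^r` scalar and `x` not scalar. Let `1 ≤ m < d` and let `r` be a prime dividing the number of totally singular `m`-spaces. For `r ≠ p` let `i` be the multiplicative order of `q` modulo `r`, `c = i` for `i` even and `c = 2i` for `i` odd, and write `k = n mod c`, `ℓ = m mod i`, `n' = ⌊n/i⌋`, `m' = ⌊m/i⌋`, `t = (r−1)/i`. Then every element of `T` of order `r` fixes some totally singular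 `m`-space if and only if one of: (i) `r = 2 ≠ p` and either `q ≡ 1 (mod 4)`, or `q ≡ 3 (mod 4)`, `m ≤ n/2 − 2` and (`m` even or `n ≡ 2 (mod 4)`); (ii) `r ≠ p` odd, `i` odd, `i ≤ m` and `k ≥ 2ℓ`; (iii) `r ≠ p` odd, `i` even, `i ≤ m`, `n' − 2m' ≥ t`, and one of: `i ≥ 2ℓ`, `k = 0`, `n/i` odd and `n' − 2m' > t`; or `k ≥ 2ℓ` and `n'` even; or `k > 2ℓ` and `n'` odd. -/
theorem result {F : Type*} [Field F] [Fintype F] {p : ℕ} [Fact p.Prime] [CharP F p] {q : ℕ} (hq : Fintype.card F = q)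
    (d m : ℕ) (hd : 4 ≤ d) (hm : 1 ≤ m) (hmd : m < d)
    (r : ℕ) [Fact r.Prime]
    (hrΩ : r ∣ Nat.card {W : Submodule F (Fin d ⊕ Fin d → F) // Module.finrank F ↥W = m ∧ (∀ w ∈ W, Cfsg.quadFormPlus d F w = 0)})
    (i c : ℕ) (hi : i = orderOf (q : ZMod r)) (hc : c = if Even i then i else 2 * i) :
    (∀ x : GL (Fin d ⊕ Fin d) F, x ∈ Cfsg.Geo.omegaGL (Cfsg.quadFormPlus d F) →
      (∃ z : F, ((x ^ r : GL (Fin d ⊕ Fin d) F) : Matrix (Fin d ⊕ Fin d) (Fin d ⊕ Fin d) F) = z • (1 : Matrix (Fin d ⊕ Fin d) (Fin d ⊕ Fin d) F)) →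
      (∀ z : F, (x : Matrix (Fin d ⊕ Fin d) (Fin d ⊕ Fin d) F) ≠ z • (1 : Matrix (Fin d ⊕ Fin d) (Fin d ⊕ Fin d) F)) →
      ∃ W : Submodule F (Fin d ⊕ Fin d → F), Module.finrank F ↥W = m ∧ (∀ w ∈ W, Cfsg.quadFormPlus d F w = 0) ∧
        W.map (Matrix.toLin' (x : Matrix (Fin d ⊕ Fin d) (Fin d ⊕ Fin d) F)) ≤ W) ↔
    ((r = 2 ∧ p ≠ 2 ∧ (q % 4 = 1 ∨ (q % 4 = 3 ∧ m + 2 ≤ d ∧ (Even m ∨ (2 * d) % 4 = 2)))) ∨
     (r ≠ p ∧ 2 < r ∧ Odd i ∧ i ≤ m ∧ 2 * (m % i) ≤ (2 * d) % c) ∨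
     (r ≠ p ∧ 2 < r ∧ Even i ∧ i ≤ m ∧ (r - 1) / i + 2 * (m / i) ≤ (2 * d) / i ∧
       ((2 * (m % i) ≤ i ∧ (2 * d) % c = 0 ∧ Odd ((2 * d) / i) ∧ (r - 1) / i + 2 * (m / i) < (2 * d) / i) ∨
        (2 * (m % i) ≤ (2 * d) % c ∧ Even ((2 * d) / i)) ∨
        (2 * (m % i) < (2 * d) % c ∧ Odd ((2 * d) / i))))) := by
  exact Cfsg.Agent.Lib.Helper44.TPFin.final hNdArith hCntId hTsEx hProj hG1O hG1E hB2Low hB2Odd
    hB2Even hInvGood hInvBad1 hInvBad2 hq d m hd hm hmd r hrΩ i c hi hc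

end Cfsg.Agent.S5973
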