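import Cfsg.Statements.S5978
import Cfsg.Agent.Lib.Helper41.OMAsm
import Cfsg.Agent.Lib.Helper41.OMLDISCG
import Cfsg.Agent.Lib.Helper31.OFNORMSQ
import Cfsg.Agent.Lib.Helper31.OFSQIDX
import Cfsg.Agent.Lib.Helper75.OFCARDO
import Cfsg.Agent.Lib.Helper97.OFSAJ
import Cfsg.Agent.Lib.Helper50.OFREFLS
import Cfsg.Agent.Lib.Helper60.SpFORD2
import Cfsg.Agent.Lib.Helper97.OrtCONG
import Cfsg.Agent.Lib.Helper10.OMEIGMG
import Cfsg.Agent.Lib.Helper16.OMMELTTOP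
import Cfsg.Agent.Lib.Helper2.OMOMVG
import Cfsg.Agent.Lib.Helper24.OMEMBOG
import Cfsg.Agent.Lib.Helper24.OMGLUEG
import Cfsg.Agent.Lib.Helper24.OMOMDETG
import Cfsg.Agent.Lib.Helper31.OMMIDXARITH
import Cfsg.Agent.Lib.Helper31.OMMOMFIX
import Cfsg.Agent.Lib.Helper37.OMMELTODD
import Cfsg.Agent.Lib.Helper41.OMNOCOMMG
import Cfsg.Agent.Lib.Helper48.OMAUTG
import Cfsg.Agent.Lib.Helper48.OMKDIMG
import Cfsg.Agent.Lib.Helper48.OMRANKTRICKG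
import Cfsg.Agent.Lib.Helper57.OMEIG1G
import Cfsg.Agent.Lib.Helper57.OMLJG
import Cfsg.Agent.Lib.Helper57.OMMBR
import Cfsg.Agent.Lib.Helper57.OMMSQOM
import Cfsg.Agent.Lib.Helper57.OMPL1G
import Cfsg.Agent.Lib.Helper57.OMTRANSPORTG
import Cfsg.Agent.Lib.Helper66.OMQUADGENG
import Cfsg.Agent.Lib.Helper7.OMPLMG
import Cfsg.Agent.Lib.Helper71.OMMSIEGEL
import Cfsg.Agent.Lib.Helper91.OMCARDOM
import Cfsg.Agent.Lib.Helper91.OMLSTRG
import Cfsg.Agent.Lib.Helper95.OMMELTEVEN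

set_option autoImplicit false
open scoped MatrixGroups
open Cfsg

namespace Cfsg.Agent.S5978

/-- Elements of prime order of PΩ⁻_n(q), q odd, and the field-extension subgroups of degree 2 (orthogonal type over F_{q²}). Here `T = PΩ⁻_{2d}(F)` for a field `F` with `q` elements, `q` odd, `d ≥ 4`, realised through `Ω⁻_{2d}(q)`, the commutator subgroup of the isometry group of `Q = Σ_{i<d−1} xᵢyᵢ + z₁² + a z₁z₂ + b z₂²` with `z₁² + a z₁z₂ + b z₂²` anisotropic, with polar form `B`; `K` is a subalgebra of the `2d × 2d` matrices that is a field of degree 2 over `F` whose elements are self-adjoint for `B` (so `F^{2d}` becomes a `d`-dimensional space over `K ≅ F_{q²}` on which `B` is the trace of a `K`-bilinear symmetric form); `H` is the subgroup of `Ω⁻_{2d}(q)` normalizing `K` — the elements of `Ω⁻_{2d}(q)` that are `K`-linear or `K`-semilinear, a subgroup of orthogonal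 type over the quadratic extension (maximality is not assumed). Ω is the set of cosets of `H`, so an element of `T` of prime order `r` (`x ∈ Ω⁻_{2d}(q)` with `x^r` scalar, `x` not scalar) fixes a point of Ω exactly when some `Ω⁻_{2d}(q)`-conjugate of `x` normalizes `K`. Let `r` be a prime dividing the index of `H`. Then every element of `T` of order `r` fixes a point of Ω if and only if `r = 2`. -/
theorem result {F : Type*} [Field F] [Fintype F] {p : ℕ} [Fact p.Prime] [CharP F p] {q : ℕ} (hq : Fintype.card F = q)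
    (hodd : Odd q) (d : ℕ) (hd : 4 ≤ d) (a b : F) (hab : ∀ x y : F, x ^ 2 + a * x * y + b * y ^ 2 = 0 → x = 0 ∧ y = 0)
    (K : Subalgebra F (Matrix ((Fin (d - 1) ⊕ Fin (d - 1)) ⊕ Fin 2) ((Fin (d - 1) ⊕ Fin (d - 1)) ⊕ Fin 2) F)) (hK : Cfsg.Geo.IsFieldSubalgebra 2 K)
    (hKf : Cfsg.Geo.IsSelfAdjointFor (QuadraticMap.polar (Cfsg.quadFormMinus (d - 1) F a b)) K)
    (r : ℕ) [Fact r.Prime]
    (hΩ : r ∣ (Cfsg.Geo.subalgebraNormalizer K).relIndex (Cfsg.Geo.omegaGL (Cfsg.quadFormMinus (d - 1) F a b))) :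
    (∀ x ∈ Cfsg.Geo.omegaGL (Cfsg.quadFormMinus (d - 1) F a b), (∃ z : F, ((x ^ r : GL ((Fin (d - 1) ⊕ Fin (d - 1)) ⊕ Fin 2) F) : Matrix ((Fin (d - 1) ⊕ Fin (d - 1)) ⊕ Fin 2) ((Fin (d - 1) ⊕ Fin (d - 1)) ⊕ Fin 2) F) = z • (1 : Matrix ((Fin (d - 1) ⊕ Fin (d - 1)) ⊕ Fin 2) ((Fin (d - 1) ⊕ Fin (d - 1)) ⊕ Fin 2) F)) →
      (∀ z : F, (x : Matrix ((Fin (d - 1) ⊕ Fin (d - 1)) ⊕ Fin 2) ((Fin (d - 1) ⊕ Fin (d - 1)) ⊕ Fin 2) F) ≠ z • (1 : Matrix ((Fin (d - 1) ⊕ Fin (d - 1)) ⊕ Fin 2) ((Fin (d - 1) ⊕ Fin (d - 1)) ⊕ Fin 2) F)) →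
      ∃ g ∈ Cfsg.Geo.omegaGL (Cfsg.quadFormMinus (d - 1) F a b), g⁻¹ * x * g ∈ Cfsg.Geo.subalgebraNormalizer K) ↔ r = 2 := by
  exact Cfsg.Agent.Lib.Helper41.OMAsm.main
    Cfsg.Agent.Lib.Helper57.OMMBR.main
    Cfsg.Agent.Lib.Helper57.OMMSQOM.main
    Cfsg.Agent.Lib.Helper24.OMOMDETG.main
    Cfsg.Agent.Lib.Helper2.OMOMVG.main
    Cfsg.Agent.Lib.Helper31.OMMOMFIX.main
    (Cfsg.Agent.Lib.Helper57.OMPL1G.main Cfsg.Agent.Lib.Helper97.OFSAJ.main Cfsg.Agent.Lib.Helper57.OMEIG1G.main Cfsg.Agent.Lib.Helper50.OFREFLS.main)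
    (Cfsg.Agent.Lib.Helper7.OMPLMG.main Cfsg.Agent.Lib.Helper10.OMEIGMG.main)
    Cfsg.Agent.Lib.Helper57.OMLJG.main
    Cfsg.Agent.Lib.Helper91.OMLSTRG.main
    Cfsg.Agent.Lib.Helper41.OMLDISCG.main
    Cfsg.Agent.Lib.Helper31.OFNORMSQ.main
    Cfsg.Agent.Lib.Helper97.OrtCONG.main
    Cfsg.Agent.Lib.Helper24.OMGLUEG.main
    Cfsg.Agent.Lib.Helper71.OMMSIEGEL.main
    Cfsg.Agent.Lib.Helper24.OMEMBOG.main
    Cfsg.Agent.Lib.Helper75.OFCARDO.main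
    (Cfsg.Agent.Lib.Helper91.OMCARDOM.main Cfsg.Agent.Lib.Helper57.OMMBR.main)
    Cfsg.Agent.Lib.Helper31.OFSQIDX.main
    Cfsg.Agent.Lib.Helper31.OMMIDXARITH.main
    Cfsg.Agent.Lib.Helper37.OMMELTODD.main
    Cfsg.Agent.Lib.Helper95.OMMELTEVEN.main
    Cfsg.Agent.Lib.Helper16.OMMELTTOP.main
    Cfsg.Agent.Lib.Helper57.OMTRANSPORTG.main
    Cfsg.Agent.Lib.Helper41.OMNOCOMMG.main
    Cfsg.Agent.Lib.Helper48.OMRANKTRICKG.main
    Cfsg.Agent.Lib.Helper48.OMKDIMG.main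
    Cfsg.Agent.Lib.Helper48.OMAUTG.main
    Cfsg.Agent.Lib.Helper66.OMQUADGENG.main
    Cfsg.Agent.Lib.Helper60.SpFORD2.main
    hq hodd d hd a b hab K hK hKf r hΩ

end Cfsg.Agent.S5978
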