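import Cfsg.Statements.S5988
import Cfsg.Agent.Lib.Helper45.EPStmt
import Cfsg.Agent.Lib.Helper45.EPAsm
import Cfsg.Agent.Lib.Helper47.TPTOP
import Cfsg.Agent.Lib.Helper53.TPFIXND
import Cfsg.Agent.Lib.Helper21.TPPERP
import Cfsg.Agent.Lib.Helper48.TPORTHSUM
import Cfsg.Agent.Lib.Helper11.TPCANCEL
import Cfsg.Agent.Lib.Helper90.TPTYPEEVEN
import Cfsg.Agent.Lib.Helper16.TPHALFODD
import Cfsg.Agent.Lib.Helper53.TPINVDIM
import Cfsg.Agent.Lib.Helper70.TPFXTYPE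
import Cfsg.Agent.Lib.Helper91.TPODDOMEGA
import Cfsg.Agent.Lib.Helper8.TPELTDIM
import Cfsg.Agent.Lib.Helper77.OPSCAL
import Cfsg.Agent.Lib.Helper77.OPTOPNDP
import Cfsg.Agent.Lib.Helper82.OPNEGRED
import Cfsg.Agent.Lib.Helper37.OPNEGSQEX
import Cfsg.Agent.Lib.Helper60.OPNEGSQNON3
import Cfsg.Agent.Lib.Helper92.OPNEGSQNON5
import Cfsg.Agent.Lib.Helper65.OPPELTA
import Cfsg.Agent.Lib.Helper78.HypIPOS
import Cfsg.Agent.Lib.Helper43.EPBLOCKSA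
import Cfsg.Agent.Lib.Helper28.EPDIMOBSA
import Cfsg.Agent.Lib.Helper36.EPINVOLE
import Cfsg.Agent.Lib.Helper94.EPQNZERO
import Cfsg.Agent.Lib.Helper5.EPFIXCONGE
import Cfsg.Agent.Lib.Helper39.EPNDIVE
import Cfsg.Agent.Lib.Helper91.EPNEGSQFIXA
import Cfsg.Agent.Lib.Helper77.EPPFIXE
import Cfsg.Agent.Lib.Helper31.EPSPLITW
import Cfsg.Agent.Lib.Helper84.EPB1E
import Cfsg.Agent.Lib.Helper34.EPB2E
import Cfsg.Agent.Lib.Helper90.EPNEGSQFIXB1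
import Cfsg.Agent.Lib.Helper20.EPNEGSQFIXB2
import Cfsg.Agent.Lib.Helper97.EPPELTE2
import Cfsg.Agent.Lib.Helper35.EPSUBTYPE
import Cfsg.Agent.Lib.Helper82.EPUCARDE

set_option autoImplicit false
open scoped MatrixGroups
open Cfsg

namespace Cfsg.Agent.S5988

/-- Elements of prime order of PΩ⁺_n(q) with no fixed elliptic `m`-space. Here `T = PΩ⁺_n(F)`, `n = 2d ≥ 8`, realised through `Ω⁺_n(q)`, the commutator subgroup of the isometry group of `Q = Σ xᵢyᵢ` over the field `F` with `q` elements; an element of `T` of prime order `r` is an element `x` of `Ω⁺_n(q)` with `x^r` scalar and `x` not scalar; a nondegenerate `m`-space (even `m`) is a subspace on which the polar form of `Q` is nondegenerate; it is hyperbolic if it contains an `m/2`-dimensional subspace on which `Q` vanishes, elliptic otherwise. Let `m` be even with `2 ≤ m < n/2` and let `r` be a prime dividing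 the number of elliptic `m`-spaces; for `r ≠ p` let `i` be the multiplicative order of `q` modulo `r`, `c = i` for `i` even and `c = 2i` for `i` odd, and write `k = n mod c`, `ℓ = m mod i`, `ℓ' = m mod c`, `n' = ⌊n/i⌋`, `m' = ⌊m/i⌋`, `t = (r−1)/i`. Then every element of `T` of order `r` fixes some elliptic `m`-space if and only if one of: (i) `r = 2 ≠ p` and either `n ≡ 0 (mod 4)`, `q ≡ 3 (mod 4)` and `m ≡ 2 (mod 4)`, or `n ≡ 2 (mod 4)` and `q ≢ 1 (mod 8)`; (ii) `r ≠ p` odd, `i` odd, `c ≤ m` and `k > ℓ' > 0`; (iii) `r ≠ p` odd, `i` even, and either `k = 0` and (`n/i` odd, or `ℓ' = 0` and `m/i` odd), or `i ≤ m` and (`k > ℓ' > 0`, or `k = ℓ' > 0` and `(n + m − 2k)/i` odd, or `k > ℓ' = 0` and `m/i` odd). (For `r = p` there is always an element of order `p` fixing no elliptic `m`-space.) -/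
theorem result {F : Type*} [Field F] [Fintype F] {p : ℕ} [Fact p.Prime] [CharP F p] {q : ℕ} (hq : Fintype.card F = q)
    (d m : ℕ) (hd : 4 ≤ d) (hm : 2 ≤ m) (hme : Even m) (hmd : m < d)
    (r : ℕ) [Fact r.Prime]
    (hrΩ : r ∣ Nat.card {W : Submodule F (Fin d ⊕ Fin d → F) // Module.finrank F ↥W = m ∧ Cfsg.Geo.IsNondegenerateOn (QuadraticMap.polar (Cfsg.quadFormPlus d F)) W ∧ ¬ Cfsg.Geo.IsPlusTypeOn (Cfsg.quadFormPlus d F) W})
    (i c : ℕ) (hi : i = orderOf (q : ZMod r)) (hc : c = if Even i then i else 2 * i) :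
    (∀ x : GL (Fin d ⊕ Fin d) F, x ∈ Cfsg.Geo.omegaGL (Cfsg.quadFormPlus d F) →
      (∃ z : F, ((x ^ r : GL (Fin d ⊕ Fin d) F) : Matrix (Fin d ⊕ Fin d) (Fin d ⊕ Fin d) F) = z • (1 : Matrix (Fin d ⊕ Fin d) (Fin d ⊕ Fin d) F)) →
      (∀ z : F, (x : Matrix (Fin d ⊕ Fin d) (Fin d ⊕ Fin d) F) ≠ z • (1 : Matrix (Fin d ⊕ Fin d) (Fin d ⊕ Fin d) F)) →
      ∃ W : Submodule F (Fin d ⊕ Fin d → F), (Module.finrank F ↥W = m ∧ Cfsg.Geo.IsNondegenerateOn (QuadraticMap.polar (Cfsg.quadFormPlus d F)) W ∧ ¬ Cfsg.Geo.IsPlusTypeOn (Cfsg.quadFormPlus d F) W) ∧ W.map (Matrix.toLin' (x : Matrix (Fin d ⊕ Fin d) (Fin d ⊕ Fin d) F)) ≤ W) ↔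
    ((r = 2 ∧ p ≠ 2 ∧ ((Even d ∧ q % 4 = 3 ∧ m % 4 = 2) ∨ (Odd d ∧ q % 8 ≠ 1))) ∨
     (r ≠ p ∧ 2 < r ∧ Odd i ∧ c ≤ m ∧ 0 < m % c ∧ m % c < (2 * d) % c) ∨
     (r ≠ p ∧ 2 < r ∧ Even i ∧
       (((2 * d) % c = 0 ∧ (Odd ((2 * d) / i) ∨ (m % c = 0 ∧ Odd (m / i)))) ∨
        (i ≤ m ∧ ((0 < m % c ∧ m % c < (2 * d) % c) ∨
                  (0 < m % c ∧ m % c = (2 * d) % c ∧ Odd ((2 * d + m - 2 * ((2 * d) % c)) / i)) ∨
                  (m % c = 0 ∧ 0 < (2 * d) % c ∧ Odd (m / i))))))) := by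
  subst hq
  have hIPos := Cfsg.Agent.Lib.Helper78.HypIPOS.main.{u_1}
  have hTop := Cfsg.Agent.Lib.Helper47.TPTOP.main.{u_1}
  have hFixND := Cfsg.Agent.Lib.Helper53.TPFIXND.main.{u_1} hTop
  have hPerp := Cfsg.Agent.Lib.Helper21.TPPERP.main.{u_1} hTop
  have hOrth := Cfsg.Agent.Lib.Helper48.TPORTHSUM.main.{u_1}
  have hCancel := Cfsg.Agent.Lib.Helper11.TPCANCEL.main.{u_1}
  have hTypeEven := Cfsg.Agent.Lib.Helper90.TPTYPEEVEN.main.{u_1}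
  have hHalfOdd := Cfsg.Agent.Lib.Helper16.TPHALFODD.main.{u_1}
  have hInvDim := Cfsg.Agent.Lib.Helper53.TPINVDIM.main.{u_1}
  have hFxType := Cfsg.Agent.Lib.Helper70.TPFXTYPE.main.{u_1} hTop hFixND hPerp hHalfOdd hTypeEven hCancel
  have hOddOmega := Cfsg.Agent.Lib.Helper91.TPODDOMEGA.main.{u_1}
  have hEltDim := Cfsg.Agent.Lib.Helper8.TPELTDIM.main.{u_1} hOddOmega
  have hTopND := Cfsg.Agent.Lib.Helper77.OPTOPNDP.main.{u_1}
  have hBlocksA := Cfsg.Agent.Lib.Helper43.EPBLOCKSA.main.{u_1}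
  have hSub := Cfsg.Agent.Lib.Helper35.EPSUBTYPE.main.{u_1}
  have hSplit := Cfsg.Agent.Lib.Helper31.EPSPLITW.main.{u_1}
  have hDimObs := Cfsg.Agent.Lib.Helper28.EPDIMOBSA.main.{u_1} hSplit hInvDim hHalfOdd
  have hFixCong := Cfsg.Agent.Lib.Helper5.EPFIXCONGE.main.{u_1}
  have hUCard := Cfsg.Agent.Lib.Helper82.EPUCARDE.main.{u_1} hSub
  have hB1 := Cfsg.Agent.Lib.Helper84.EPB1E.main.{u_1} hIPos hTop hFixND hFxType hTypeEven hHalfOdd hCancel hOrth hBlocksA hSub hDimObs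
  have hB2 := Cfsg.Agent.Lib.Helper34.EPB2E.main.{u_1} hIPos hEltDim hDimObs hHalfOdd hTypeEven hCancel hTop hPerp
  have hND := Cfsg.Agent.Lib.Helper39.EPNDIVE.main.{u_1} hIPos hTop hFixND hFxType hEltDim hDimObs hFixCong hUCard
  have hInv := Cfsg.Agent.Lib.Helper36.EPINVOLE.main.{u_1} hSub hTopND
  have hFA := Cfsg.Agent.Lib.Helper91.EPNEGSQFIXA.main.{u_1}
  have hFB1 := Cfsg.Agent.Lib.Helper90.EPNEGSQFIXB1.main.{u_1}
  have hFB2 := Cfsg.Agent.Lib.Helper20.EPNEGSQFIXB2.main.{u_1} hPerp hOrth hCancel hFB1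
  have hP2 := Cfsg.Agent.Lib.Helper97.EPPELTE2.main.{u_1}
  have hPF := Cfsg.Agent.Lib.Helper77.EPPFIXE.main.{u_1} hTop hPerp hCancel
  exact Cfsg.Agent.Lib.Helper45.EPAsm.thm_of
    Cfsg.Agent.Lib.Helper77.OPSCAL.main
    Cfsg.Agent.Lib.Helper82.OPNEGRED.main
    Cfsg.Agent.Lib.Helper37.OPNEGSQEX.main
    Cfsg.Agent.Lib.Helper60.OPNEGSQNON3.main
    Cfsg.Agent.Lib.Helper92.OPNEGSQNON5.main
    hInv hFA hFB1 hFB2
    Cfsg.Agent.Lib.Helper65.OPPELTA.main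
    Cfsg.Agent.Lib.Helper94.EPQNZERO.main
    hP2 hPF hB1 hB2 hND
    d m hd hm hme hmd r hrΩ i c hi hc

end Cfsg.Agent.S5988
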