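import Cfsg.Statements.S5991
import Cfsg.Agent.Lib.Helper45.OMiStmt
import Cfsg.Agent.Lib.Helper45.OMiAsm
import Cfsg.Agent.Lib.Helper34.OMiB2M
import Cfsg.Agent.Lib.Helper6.OMiCLS1
import Cfsg.Agent.Lib.Helper96.OMiCLS2
import Cfsg.Agent.Lib.Helper8.OMiDERELTM
import Cfsg.Agent.Lib.Helper64.OMiDIMOBSM
import Cfsg.Agent.Lib.Helper4.OMiFIXCONGM
import Cfsg.Agent.Lib.Helper26.OMiFIXNDM
import Cfsg.Agent.Lib.Helper4.OMiINVOLM
import Cfsg.Agent.Lib.Helper13.OMiNDIVM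
import Cfsg.Agent.Lib.Helper15.OMiNEGREDM
import Cfsg.Agent.Lib.Helper37.OMiNEGSQEXM
import Cfsg.Agent.Lib.Helper1.OMiNEGSQNOFIXM
import Cfsg.Agent.Lib.Helper24.OMiNEGSQNONAM
import Cfsg.Agent.Lib.Helper24.OMiNEGSQNONBM
import Cfsg.Agent.Lib.Helper5.OMiNOFREEM
import Cfsg.Agent.Lib.Helper12.OMiODDSUBM
import Cfsg.Agent.Lib.Helper12.OMiPELTAM
import Cfsg.Agent.Lib.Helper12.OMiPELTBM
import Cfsg.Agent.Lib.Helper12.OMiPELTCM
import Cfsg.Agent.Lib.Helper1.OMiPFIXAM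
import Cfsg.Agent.Lib.Helper13.OMiPFIXBM
import Cfsg.Agent.Lib.Helper15.OMiSCALM
import Cfsg.Agent.Lib.Helper15.OMiTOPNDM
import Cfsg.Agent.Lib.Helper4.OMiUCARDM
import Cfsg.Agent.Lib.Helper37.OMiBLOCKSM
import Cfsg.Agent.Lib.Helper66.OMiB1M
import Cfsg.Agent.Lib.Helper78.HypIPOS
import Cfsg.Agent.Lib.Helper4.OPACARDI
import Cfsg.Agent.Lib.Helper52.EllACAUCHY
import Cfsg.Agent.Lib.Helper94.OMiPAdapt
import Cfsg.Agent.Lib.Helper94.MPFIXC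
import Cfsg.Agent.Lib.Helper97.MSPLIT
import Cfsg.Agent.Lib.Helper97.MRANK
import Cfsg.Agent.Lib.Helper33.MTYPE

set_option autoImplicit false
open scoped MatrixGroups
open Cfsg

namespace Cfsg.Agent.S5991

/-- Elements of prime order of PΩ⁻_n(q), q odd, with no fixed nondegenerate `m`-space of odd dimension. Here `T = PΩ⁻_n(F)`, `n = 2d ≥ 8`, realised through `Ω⁻_n(q)`, the commutator subgroup of the isometry group of `Q = Σ_{i<d−1} xᵢyᵢ + z₁² + a z₁z₂ + b z₂²` with `z₁² + a z₁z₂ + b z₂²` anisotropic, over the field `F` with `q` elements; an element of `T` of prime order `r` is an element `x` of `Ω⁻_n(q)` with `x^r` scalar and `x` not scalar; `q` and `m` are odd, `1 ≤ m < n/2`. The nondegenerate `m`-spaces fall into two isometry classes, each an orbit of `T`, with equivalent actions; fix one such space `W₀` and let Ω be the set of nondegenerate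 `m`-spaces isometric to `W₀`. Let `r` be a prime dividing the size of Ω; for `r ≠ p` let `i` be the multiplicative order of `q` modulo `r`, `c = i` for `i` even and `c = 2i` for `i` odd, and write `k = n mod c`, `ℓ = m mod i`, `ℓ' = m mod c`, `n' = ⌊n/i⌋`, `m' = ⌊m/i⌋`, `t = (r−1)/i`. Then every element of `T` of order `r` fixes a member of Ω if and only if one of: (i) `r = 2` and (`n ≡ 0 (mod 4)` or `q ≢ 7 (mod 8)`); (ii) `r ≠ p` odd, `i` odd, and `k = 0` or (`c ≤ m` and `k > ℓ' > 0`); (iii) `r ≠ p` odd, `i` even, and either `k = 0` and `n/i` even, or `k > 0`, `i ≤ m` and `k > ℓ' > 0`. (For `r = p` there is always an element of order `p` fixing no member of Ω.) -/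
theorem result {F : Type*} [Field F] [Fintype F] {p : ℕ} [Fact p.Prime] [CharP F p] {q : ℕ} (hq : Fintype.card F = q)
    (hodd : Odd q) (d m : ℕ) (hd : 4 ≤ d) (hm : Odd m) (hmd : m < d) (a b : F) (hab : ∀ x y : F, x ^ 2 + a * x * y + b * y ^ 2 = 0 → x = 0 ∧ y = 0)
    (W₀ : Submodule F ((Fin (d - 1) ⊕ Fin (d - 1)) ⊕ Fin 2 → F)) (hW₀ : Module.finrank F ↥W₀ = m ∧ Cfsg.Geo.IsNondegenerateOn (QuadraticMap.polar (Cfsg.quadFormMinus (d - 1) F a b)) W₀)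
    (r : ℕ) [Fact r.Prime]
    (hrΩ : r ∣ Nat.card {W : Submodule F ((Fin (d - 1) ⊕ Fin (d - 1)) ⊕ Fin 2 → F) // Module.finrank F ↥W = m ∧ Cfsg.Geo.IsNondegenerateOn (QuadraticMap.polar (Cfsg.quadFormMinus (d - 1) F a b)) W ∧ Cfsg.Geo.AreIsometricFor (Cfsg.quadFormMinus (d - 1) F a b) W W₀})
    (i c : ℕ) (hi : i = orderOf (q : ZMod r)) (hc : c = if Even i then i else 2 * i) :
    (∀ x : GL ((Fin (d - 1) ⊕ Fin (d - 1)) ⊕ Fin 2) F, x ∈ Cfsg.Geo.omegaGL (Cfsg.quadFormMinus (d - 1) F a b) →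
      (∃ z : F, ((x ^ r : GL ((Fin (d - 1) ⊕ Fin (d - 1)) ⊕ Fin 2) F) : Matrix ((Fin (d - 1) ⊕ Fin (d - 1)) ⊕ Fin 2) ((Fin (d - 1) ⊕ Fin (d - 1)) ⊕ Fin 2) F) = z • (1 : Matrix ((Fin (d - 1) ⊕ Fin (d - 1)) ⊕ Fin 2) ((Fin (d - 1) ⊕ Fin (d - 1)) ⊕ Fin 2) F)) →
      (∀ z : F, (x : Matrix ((Fin (d - 1) ⊕ Fin (d - 1)) ⊕ Fin 2) ((Fin (d - 1) ⊕ Fin (d - 1)) ⊕ Fin 2) F) ≠ z • (1 : Matrix ((Fin (d - 1) ⊕ Fin (d - 1)) ⊕ Fin 2) ((Fin (d - 1) ⊕ Fin (d - 1)) ⊕ Fin 2) F)) →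
      ∃ W : Submodule F ((Fin (d - 1) ⊕ Fin (d - 1)) ⊕ Fin 2 → F), (Module.finrank F ↥W = m ∧ Cfsg.Geo.IsNondegenerateOn (QuadraticMap.polar (Cfsg.quadFormMinus (d - 1) F a b)) W ∧ Cfsg.Geo.AreIsometricFor (Cfsg.quadFormMinus (d - 1) F a b) W W₀) ∧ W.map (Matrix.toLin' (x : Matrix ((Fin (d - 1) ⊕ Fin (d - 1)) ⊕ Fin 2) ((Fin (d - 1) ⊕ Fin (d - 1)) ⊕ Fin 2) F)) ≤ W) ↔
    ((r = 2 ∧ (Even d ∨ q % 8 ≠ 7)) ∨
     (r ≠ p ∧ 2 < r ∧ Odd i ∧ ((2 * d) % c = 0 ∨ (c ≤ m ∧ 0 < m % c ∧ m % c < (2 * d) % c))) ∨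
     (r ≠ p ∧ 2 < r ∧ Even i ∧ (((2 * d) % c = 0 ∧ Even ((2 * d) / i)) ∨ (0 < (2 * d) % c ∧ i ≤ m ∧ 0 < m % c ∧ m % c < (2 * d) % c)))) := by
  subst hq
  have hIPos := Cfsg.Agent.Lib.Helper78.HypIPOS.main
  have hTop := Cfsg.Agent.Lib.Helper15.OMiTOPNDM.main
  have hOS := Cfsg.Agent.Lib.Helper12.OMiODDSUBM.main
  have hDer := Cfsg.Agent.Lib.Helper8.OMiDERELTM.main
  have hDim := Cfsg.Agent.Lib.Helper64.OMiDIMOBSM.main
  have hNoF := Cfsg.Agent.Lib.Helper5.OMiNOFREEM.main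
  have hBl := Cfsg.Agent.Lib.Helper37.OMiBLOCKSM.main
  have hFixND := Cfsg.Agent.Lib.Helper26.OMiFIXNDM.main hTop
  have hFCg := Cfsg.Agent.Lib.Helper4.OMiFIXCONGM.main
  have hUC := Cfsg.Agent.Lib.Helper4.OMiUCARDM.main
    (Cfsg.Agent.Lib.Helper4.OPACARDI.main Cfsg.Agent.Lib.Helper52.EllACAUCHY.main) hOS
  have hND := Cfsg.Agent.Lib.Helper13.OMiNDIVM.main hTop hFixND hDim hDer hFCg hUC
  have hB2 := Cfsg.Agent.Lib.Helper34.OMiB2M.main hIPos hDim hDer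
  have hB1 := Cfsg.Agent.Lib.Helper66.OMiB1M.main hIPos hTop hFixND hDim hBl hNoF hOS
  have hC1 := Cfsg.Agent.Lib.Helper6.OMiCLS1.main
  have hC2 := Cfsg.Agent.Lib.Helper96.OMiCLS2.main hC1
  have hFC := Cfsg.Agent.Lib.Helper94.OMiPAdapt.pfixcm_of
    (Cfsg.Agent.Lib.Helper94.MPFIXC.main Cfsg.Agent.Lib.Helper97.MSPLIT.main
      Cfsg.Agent.Lib.Helper97.MRANK.main Cfsg.Agent.Lib.Helper33.MTYPE.main)
  exact Cfsg.Agent.Lib.Helper45.OMiAsm.thm_of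
    (Cfsg.Agent.Lib.Helper4.OMiINVOLM.main hOS hTop)
    Cfsg.Agent.Lib.Helper15.OMiSCALM.main
    Cfsg.Agent.Lib.Helper15.OMiNEGREDM.main
    Cfsg.Agent.Lib.Helper1.OMiNEGSQNOFIXM.main
    Cfsg.Agent.Lib.Helper37.OMiNEGSQEXM.main
    Cfsg.Agent.Lib.Helper24.OMiNEGSQNONAM.main
    Cfsg.Agent.Lib.Helper24.OMiNEGSQNONBM.main
    Cfsg.Agent.Lib.Helper12.OMiPELTAM.main
    Cfsg.Agent.Lib.Helper12.OMiPELTBM.main
    Cfsg.Agent.Lib.Helper12.OMiPELTCM.main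
    Cfsg.Agent.Lib.Helper1.OMiPFIXAM.main
    Cfsg.Agent.Lib.Helper13.OMiPFIXBM.main
    hFC hC1 hC2 hB1 hB2 hND
    hodd d m hd hm hmd a b hab W₀ hW₀ r hrΩ i c hi hc

end Cfsg.Agent.S5991
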