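import Cfsg.Statements.S5992
import Cfsg.Agent.Lib.Helper37.HypAsm
import Cfsg.Agent.Lib.Helper93.HypB1
import Cfsg.Agent.Lib.Helper93.HypB2
import Cfsg.Agent.Lib.Helper43.HypBFE
import Cfsg.Agent.Lib.Helper43.HypBFO
import Cfsg.Agent.Lib.Helper37.HypBLOCKS
import Cfsg.Agent.Lib.Helper59.HypDERELT
import Cfsg.Agent.Lib.Helper29.HypDIMOBS
import Cfsg.Agent.Lib.Helper78.HypFIXND
import Cfsg.Agent.Lib.Helper78.HypFXLT
import Cfsg.Agent.Lib.Helper38.HypHYPCNT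
import Cfsg.Agent.Lib.Helper91.HypHYPFIB
import Cfsg.Agent.Lib.Helper8.HypHYPSUB
import Cfsg.Agent.Lib.Helper82.HypINVDIM
import Cfsg.Agent.Lib.Helper10.HypINVOL
import Cfsg.Agent.Lib.Helper78.HypIPOS
import Cfsg.Agent.Lib.Helper78.HypNDARITH
import Cfsg.Agent.Lib.Helper29.HypNDIV
import Cfsg.Agent.Lib.Helper82.HypPERP
import Cfsg.Agent.Lib.Helper78.HypTOPND
import Cfsg.Agent.Lib.Helper38.HypTYPEEVEN
import Cfsg.Agent.Lib.Helper8.HypTYPEODD

set_option autoImplicit false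
open scoped MatrixGroups
open Cfsg

namespace Cfsg.Agent.S5992

/-- Elements of prime order r ≠ p of Ω_n(q), nq odd, with no fixed hyperbolic `m`-space. Here `T = Ω_n(F)`, `n = 2d+1 ≥ 7`, `q` odd, realised as the commutator subgroup of the isometry group of `Q = x₀² + Σ xᵢyᵢ` over the field `F` with `q` elements (trivial centre, so its elements of prime order `r` are used directly); a nondegenerate `m`-space (even `m`) is a subspace on which the polar form of `Q` is nondegenerate; it is hyperbolic if it contains an `m/2`-dimensional subspace on which `Q` vanishes, elliptic otherwise. Let `m` be even with `2 ≤ m ≤ n − 1` (no restriction `m < n/2`) and let `r ≠ p` be a prime dividing the number of hyperbolic `m`-spaces; for `r ≠ p` let `i` be the multiplicative order of `q` modulo `r`, `c = i` for `i` even and `c = 2i` for `i` odd, and write `k = n mod c`, `ℓ' = m mod c`. Then every element of `T`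 of order `r` fixes some hyperbolic `m`-space if and only if `r = 2`, or `r` is odd and one of: (i) `i` odd, `c ≤ m` and either `k > ℓ' > 0` or `ℓ' = 0`; (ii) `i` even, `i ≤ m`, `k > ℓ'`, and `m/i` even whenever `ℓ' = 0`. (`r = p` is not covered by this statement.) -/
theorem result {F : Type*} [Field F] [Fintype F] {p : ℕ} [Fact p.Prime] [CharP F p] {q : ℕ} (hq : Fintype.card F = q) (hqodd : Odd q)
    (d m : ℕ) (hd : 3 ≤ d) (hm : 2 ≤ m) (hme : Even m) (hmn : m ≤ 2 * d)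
    (r : ℕ) [Fact r.Prime] (hrp : r ≠ p)
    (hrΩ : r ∣ Nat.card {W : Submodule F (Unit ⊕ (Fin d ⊕ Fin d) → F) // Module.finrank F ↥W = m ∧ Cfsg.Geo.IsNondegenerateOn (QuadraticMap.polar (Cfsg.quadFormOdd d F)) W ∧ Cfsg.Geo.IsPlusTypeOn (Cfsg.quadFormOdd d F) W})
    (i c : ℕ) (hi : i = orderOf (q : ZMod r)) (hc : c = if Even i then i else 2 * i) :
    (∀ x : GL (Unit ⊕ (Fin d ⊕ Fin d)) F, x ∈ Cfsg.Geo.omegaGL (Cfsg.quadFormOdd d F) → orderOf x = r →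
      ∃ W : Submodule F (Unit ⊕ (Fin d ⊕ Fin d) → F), (Module.finrank F ↥W = m ∧ Cfsg.Geo.IsNondegenerateOn (QuadraticMap.polar (Cfsg.quadFormOdd d F)) W ∧ Cfsg.Geo.IsPlusTypeOn (Cfsg.quadFormOdd d F) W) ∧ W.map (Matrix.toLin' (x : Matrix (Unit ⊕ (Fin d ⊕ Fin d)) (Unit ⊕ (Fin d ⊕ Fin d)) F)) ≤ W) ↔
    (r = 2 ∨
     (2 < r ∧ Odd i ∧ c ≤ m ∧ (m % c = 0 ∨ (0 < m % c ∧ m % c < (2 * d + 1) % c))) ∨
     (2 < r ∧ Even i ∧ i ≤ m ∧ m % c < (2 * d + 1) % c ∧ (0 < m % c ∨ Even (m / i)))) := by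
  subst hq
  exact Cfsg.Agent.Lib.Helper37.HypAsm.thm_of
    (Cfsg.Agent.Lib.Helper10.HypINVOL.main Cfsg.Agent.Lib.Helper8.HypHYPSUB.main Cfsg.Agent.Lib.Helper78.HypTOPND.main)
    (Cfsg.Agent.Lib.Helper93.HypB1.main Cfsg.Agent.Lib.Helper78.HypIPOS.main Cfsg.Agent.Lib.Helper78.HypTOPND.main Cfsg.Agent.Lib.Helper78.HypFXLT.main
      Cfsg.Agent.Lib.Helper78.HypFIXND.main Cfsg.Agent.Lib.Helper29.HypDIMOBS.main
      (Cfsg.Agent.Lib.Helper37.HypBLOCKS.main Cfsg.Agent.Lib.Helper78.HypFIXND.main Cfsg.Agent.Lib.Helper82.HypPERP.main (Cfsg.Agent.Lib.Helper43.HypBFE.main Cfsg.Agent.Lib.Helper82.HypINVDIM.main) (Cfsg.Agent.Lib.Helper43.HypBFO.main Cfsg.Agent.Lib.Helper82.HypINVDIM.main))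
      Cfsg.Agent.Lib.Helper8.HypTYPEODD.main Cfsg.Agent.Lib.Helper38.HypTYPEEVEN.main Cfsg.Agent.Lib.Helper8.HypHYPSUB.main)
    (Cfsg.Agent.Lib.Helper93.HypB2.main Cfsg.Agent.Lib.Helper78.HypIPOS.main Cfsg.Agent.Lib.Helper29.HypDIMOBS.main Cfsg.Agent.Lib.Helper38.HypTYPEEVEN.main
      Cfsg.Agent.Lib.Helper59.HypDERELT.main)
    (Cfsg.Agent.Lib.Helper29.HypNDIV.main Cfsg.Agent.Lib.Helper91.HypHYPFIB.main Cfsg.Agent.Lib.Helper38.HypHYPCNT.main Cfsg.Agent.Lib.Helper78.HypNDARITH.main)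
    hqodd d m hd hm hme hmn r hrp hrΩ i c hi hc

end Cfsg.Agent.S5992
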